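import Cfsg.Agent.Helper28.HeB4

/-! # The Held group presentation, cosets of the subgroup generated by a, c, d, e, f, (ab)², (bcde)⁷: the coset enumeration, part 5 (helper28; generated) -/

set_option autoImplicit false

noncomputable section

namespace Cfsg.Agent.Helper28.HeA

open Cfsg.Agent.Helper28.CosetTable

theorem L51447 : sm gf N206 = N3364 := trfs L51431 L17749 rfl
theorem L51448 : N3364 = N208 := eqes L51447 L1096
theorem L51449 : N3364 = N208 := eqc rfl L51448 rfl
theorem L51464 : sm gg N208 = N3359 := trfs L51449 L17755 rfl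
theorem L51465 : N3359 = N105 := eqes L51464 L1093
theorem L51466 : N3359 = N105 := eqc rfl L51465 rfl
theorem L51481 : sm gf N105 = N1714 := trfs L51466 L17728 rfl
theorem L51482 : N1714 = N54 := eqes L51481 L571
theorem L51483 : N1714 = N54 := eqc rfl L51482 rfl
theorem L51492 : sm gd N54 = N3358 := trfs L51483 L17725 rfl
theorem L51493 : N3358 = N25 := eqes L51492 L291
theorem L51494 : N3358 = N25 := eqc rfl L51493 rfl
theorem L51506 : sm gf N25 = N6141 := trfs L51494 L33447 rfl
theorem L51507 : N6141 = N55 := eqes L51506 L294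
theorem L51508 : N6141 = N55 := eqc rfl L51507 rfl
theorem L51533 : sm ge N55 = N4167 := trfs L51508 L39942 rfl
theorem L51534 : N4167 = N101 := eqes L51533 L553
theorem L51535 : N4167 = N101 := eqc rfl L51534 rfl
theorem L51542 : sm gd N101 = N2234 := trfs L51535 L22688 rfl
theorem L51543 : N2234 = N199 := eqes L51542 L1044
theorem L51544 : N2234 = N199 := eqc rfl L51543 rfl
theorem L51552 : sm gc N199 = N4161 := trfs L51544 L22662 rfl
theorem L51553 : N4161 = N395 := eqes L51552 L2072
theorem L51554 : N4161 = N395 := eqc rfl L51553 rfl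
theorem L51560 : sm gg N199 = N1130 := trfs L51544 L11704 rfl
theorem L51561 : N1130 = N397 := eqes L51560 L2084
theorem L51562 : N1130 = N212 := eqc rfl L51561 L45576
theorem L51567 : sm gc N212 = N2230 := trfs L51562 L11688 rfl
theorem L51568 : N2230 = N419 := eqes L51567 L2197
theorem L51569 : N2230 = N419 := eqc rfl L51568 rfl
theorem L51589 : sm gg N419 = N395 := trfs L51569 L22659 L51554
theorem L51590 : N395 = N831 := eqes L51589 L4263
theorem L51591 : N831 = N395 := (eqc rfl L51590 rfl).symm
theorem L51595 : sm gb N395 = N1666 := trfs L51591 L8579 rfl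
theorem L51596 : N1666 = N778 := eqes L51595 L4017
theorem L51597 : N1666 = N778 := eqc rfl L51596 rfl
theorem L51602 : sm ge N395 = N420 := trfs L51591 L4267 rfl
theorem L51603 : N420 = N780 := eqes L51602 L4025
theorem L51604 : N780 = N420 := (eqc rfl L51603 rfl).symm
theorem L51605 : sm gf N395 = N809 := trfs L51591 L4269 rfl
theorem L51606 : N809 = N770 := eqes L51605 L3970
theorem L51607 : N809 = N770 := eqc rfl L51606 rfl
theorem L51608 : sm gg N395 = N419 := trfs L51591 L4264 rfl
theorem L51609 : N419 = N781 := eqes L51608 L4031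
theorem L51610 : N781 = N419 := (eqc rfl L51609 rfl).symm
theorem L51613 : sm gb N419 = N1561 := trfs L51610 L8055 rfl
theorem L51614 : N1561 = N824 := eqes L51613 L4244
theorem L51615 : N1561 = N824 := eqc rfl L51614 rfl
theorem L51617 : sm gd N419 = N1568 := trfs L51610 L8090 rfl
theorem L51618 : N1568 = N830 := eqes L51617 L4261
theorem L51619 : N1568 = N830 := eqc rfl L51618 rfl
theorem L51621 : sm gf N419 = N1340 := trfs L51610 L8094 L43498
theorem L51622 : N1340 = N808 := eqes L51621 L4166
theorem L51623 : N1340 = N808 := eqc rfl L51622 rfl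
theorem L51624 : sm gg N419 = N395 := trfs L51610 L4032 rfl
theorem L51625 : sm gg N395 = N419 := flp_g L51624
theorem L51634 : sm gd N808 = N2621 := trfs L51623 L13798 rfl
theorem L51635 : N2621 = N1629 := eqes L51634 L8402
theorem L51636 : N2621 = N1629 := eqc rfl L51635 rfl
theorem L51637 : sm ge N808 = N666 := trfs L51623 L6881 rfl
theorem L51638 : N666 = N409 := eqes L51637 L4162
theorem L51639 : N666 = N409 := eqc rfl L51638 rfl
theorem L51650 : sm gd N409 = N1339 := trfs L51639 L6876 rfl
theorem L51651 : N1339 = N807 := eqes L51650 L4159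
theorem L51652 : N1339 = N807 := eqc rfl L51651 rfl
theorem L51656 : sm gg N409 = N840 := trfs L51639 L4311 rfl
theorem L51657 : N840 = N809 := eqes L51656 L4167
theorem L51658 : N840 = N770 := eqc rfl L51657 L51607
theorem L51659 : sm ga N770 = N855 := trfs L51658 L4382 rfl
theorem L51660 : N855 = N409 := eqes L51659 L3967
theorem L51661 : N855 = N409 := eqc rfl L51660 rfl
theorem L51674 : sm ge N409 = N1736 := trfs L51661 L8876 rfl
theorem L51675 : N1736 = N808 := eqes L51674 L4161
theorem L51676 : N1736 = N808 := eqc rfl L51675 rfl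
theorem L51682 : sm gb N808 = N1287 := trfs L51676 L8880 rfl
theorem L51683 : N1287 = N1623 := eqes L51682 L8381
theorem L51684 : N1287 = N668 := eqc rfl L51683 L47150
theorem L51689 : sm ga N668 = N669 := trfs L51684 L6614 rfl
theorem L51690 : N669 = N1286 := eqes L51689 L6609
theorem L51691 : N1286 = N669 := (eqc rfl L51690 rfl).symm
theorem L51693 : sm gd N668 = N2516 := trfs L51684 L13301 rfl
theorem L51694 : N2516 = N1344 := eqes L51693 L6899
theorem L51695 : N2516 = N1344 := eqc rfl L51694 rfl
theorem L51700 : sm gg N668 = N640 := trfs L51684 L6613 rfl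
theorem L51701 : N640 = N1345 := eqes L51700 L6901
theorem L51702 : N1345 = N640 := (eqc rfl L51701 rfl).symm
theorem L51712 : sm gf N640 = N822 := trfs L51702 L6908 L42348
theorem L51713 : N822 = N1280 := eqes L51712 L6565
theorem L51714 : N825 = N822 := (eqc rfl L51713 L47178).symm
theorem L51715 : sm gg N640 = N668 := trfs L51702 L6902 rfl
theorem L51716 : sm gg N668 = N640 := flp_g L51715
theorem L51717 : sm ga N822 = N661 := trfs L51714 L8547 L42385
theorem L51718 : N661 = N417 := eqes L51717 L4228
theorem L51719 : N661 = N417 := eqc rfl L51718 rfl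
theorem L51723 : sm gd N822 = N1667 := trfs L51714 L8586 rfl
theorem L51724 : N1667 = N1659 := eqes L51723 L8538
theorem L51725 : N1667 = N1659 := eqc rfl L51724 rfl
theorem L51727 : sm gf N822 = N640 := trfs L51714 L8590 L47165
theorem L51728 : N640 = N1621 := eqes L51727 L8367
theorem L51729 : N1621 = N640 := (eqc rfl L51728 rfl).symm
theorem L51732 : N1660 = N417 := L42385.trans L51719
theorem L51743 : N1280 = N822 := L47178.trans L51714
theorem L51744 : sm gg N640 = N3024 := trfs L51729 L16099 rfl
theorem L51745 : N3024 = N668 := eqes L51744 L51715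
theorem L51746 : N3024 = N668 := eqc rfl L51745 rfl
theorem L51750 : N1569 = N808 := L43498.trans L51623
theorem L51761 : sm gf N668 = N824 := trfs L51746 L16089 L51615
theorem L51762 : N824 = N1329 := eqes L51761 L6817
theorem L51763 : N1329 = N824 := (eqc rfl L51762 rfl).symm
theorem L51769 : sm gd N824 = N2600 := trfs L51763 L13684 rfl
theorem L51770 : N2600 = N1665 := eqes L51769 L8568
theorem L51771 : N2600 = N1665 := eqc rfl L51770 rfl
theorem L51798 : sm gf N1665 = N4778 := trfs L51771 L26131 rfl
theorem L51799 : N4778 = N3249 := eqes L51798 L17192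
theorem L51800 : N4778 = N2867 := eqc rfl L51799 L41271
theorem L51801 : sm gg N1665 = N4779 := trfs L51771 L26137 rfl
theorem L51802 : N4779 = N3250 := eqes L51801 L17198
theorem L51803 : N4779 = N1488 := eqc rfl L51802 L41235
theorem L51804 : sm ga N1488 = N2868 := trfs L51803 L26139 rfl
theorem L51805 : N2868 = N2854 := eqes L51804 L15164
theorem L51806 : N2868 = N2854 := eqc rfl L51805 rfl
theorem L51814 : sm gd N2854 = N1488 := trfs L51806 L15242 rfl
theorem L51815 : sm gd N1488 = N2854 := flp_d L51814
theorem L51819 : sm gf N2854 = N5137 := trfs L51806 L28344 rfl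
theorem L51820 : N5137 = N1482 := eqes L51819 L15162
theorem L51821 : N5137 = N1482 := eqc rfl L51820 rfl
theorem L51825 : sm gd N1482 = N2863 := trfs L51821 L28342 rfl
theorem L51826 : N2863 = N2852 := eqes L51825 L15149
theorem L51827 : N2863 = N2852 := eqc rfl L51826 rfl
theorem L51828 : sm ga N2852 = N5118 := trfs L51827 L28236 rfl
theorem L51829 : N5118 = N1486 := eqes L51828 L15151
theorem L51830 : N5118 = N1486 := eqc rfl L51829 rfl
theorem L51831 : sm gb N2852 = N5128 := trfs L51827 L28298 rfl
theorem L51832 : N5128 = N5116 := eqes L51831 L28226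
theorem L51833 : N5128 = N5116 := eqc rfl L51832 rfl
theorem L51835 : sm ge N2852 = N5135 := trfs L51827 L28336 rfl
theorem L51836 : N5135 = N5117 := eqes L51835 L28227
theorem L51837 : N5135 = N5117 := eqc rfl L51836 rfl
theorem L51840 : sm gg N2852 = N5138 := trfs L51827 L28345 rfl
theorem L51841 : N5138 = N5119 := eqes L51840 L28239
theorem L51842 : N5138 = N5119 := eqc rfl L51841 rfl
theorem L51843 : sm ge N5119 = N5140 := trfs L51842 L28356 rfl
theorem L51845 : sm gf N5119 = N5136 := trfs L51842 L28348 rfl
theorem L51846 : sm gf N5136 = N5119 := flp_f L51845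
theorem L51847 : sm gf N5117 = N2862 := trfs L51837 L28334 rfl
theorem L51848 : sm gf N2862 = N5117 := flp_f L51847
theorem L51849 : sm gg N5117 = N5140 := trfs L51837 L28358 rfl
theorem L51850 : sm gg N5140 = N5117 := flp_g L51849
theorem L51851 : sm gf N5116 = N2858 := trfs L51833 L28296 rfl
theorem L51852 : sm gf N2858 = N5116 := flp_f L51851
theorem L51853 : sm gf N1486 = N2852 := trfs L51830 L28234 rfl
theorem L51854 : sm gf N2852 = N1486 := flp_f L51853
theorem L51859 : sm gd N2867 = N2629 := trfs L51800 L26135 rfl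
theorem L51860 : N2629 = N4601 := eqes L51859 L25252
theorem L51861 : N4601 = N2629 := (eqc rfl L51860 rfl).symm
theorem L51862 : sm ga N2629 = N2634 := trfs L51861 L25249 rfl
theorem L51863 : N2634 = N4597 := eqes L51862 L25234
theorem L51864 : N4597 = N2634 := (eqc rfl L51863 rfl).symm
theorem L51865 : sm gb N2629 = N3168 := trfs L51861 L33852 L41277
theorem L51866 : N3168 = N4814 := eqes L51865 L26365
theorem L51867 : N4814 = N3168 := (eqc rfl L51866 rfl).symm
theorem L51868 : sm gd N2629 = N2867 := trfs L51861 L25251 rfl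
theorem L51869 : sm gd N2867 = N2629 := flp_d L51868
theorem L51873 : N5717 = N2629 := L42148.trans L51861
theorem L51874 : sm gc N3168 = N5323 := trfs L51867 L29297 rfl
theorem L51875 : N5323 = N5749 := eqes L51874 L31500
theorem L51876 : N5749 = N5323 := (eqc rfl L51875 rfl).symm
theorem L51877 : sm gd N3168 = N3041 := trfs L51867 L26366 L41149
theorem L51878 : N3041 = N1680 := eqes L51877 L16818
theorem L51879 : N3041 = N1680 := eqc rfl L51878 rfl
theorem L51880 : sm ge N3168 = N5322 := trfs L51867 L29289 rfl
theorem L51881 : N5322 = N5738 := eqes L51880 L31450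
theorem L51882 : N5738 = N5322 := (eqc rfl L51881 rfl).symm
theorem L51884 : sm gg N3168 = N5327 := trfs L51867 L29333 rfl
theorem L51885 : N5327 = N5751 := eqes L51884 L31505
theorem L51886 : N5751 = N5327 := (eqc rfl L51885 rfl).symm
theorem L51887 : sm ge N5327 = N5752 := trfs L51886 L31512 rfl
theorem L51888 : N5752 = N2965 := eqes L51887 L29325
theorem L51889 : N5752 = N2965 := eqc rfl L51888 rfl
theorem L51890 : sm gf N5327 = N5739 := trfs L51886 L31508 rfl
theorem L51891 : sm gf N5739 = N5327 := flp_f L51890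
theorem L51892 : sm gg N5327 = N3168 := trfs L51886 L31506 rfl
theorem L51893 : sm gg N3168 = N5327 := flp_g L51892
theorem L51894 : sm gf N2965 = N3169 := trfs L51889 L31510 rfl
theorem L51895 : N3169 = N4815 := eqes L51894 L26376
theorem L51896 : N4815 = N3169 := (eqc rfl L51895 rfl).symm
theorem L51898 : sm ga N3169 = N3102 := trfs L51896 L26370 rfl
theorem L51899 : N3102 = N5382 := eqes L51898 L29649
theorem L51900 : N5382 = N3102 := (eqc rfl L51899 rfl).symm
theorem L51901 : sm gb N3169 = N2630 := trfs L51896 L26372 rfl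
theorem L51902 : N2630 = N5718 := eqes L51901 L31362
theorem L51903 : N4595 = N2630 := (eqc rfl L51902 L42177).symm
theorem L51904 : sm gc N3169 = N2967 := trfs L51896 L26374 rfl
theorem L51905 : N2967 = N5750 := eqes L51904 L31504
theorem L51906 : N5750 = N2967 := (eqc rfl L51905 rfl).symm
theorem L51909 : sm gf N3169 = N2965 := trfs L51896 L26377 rfl
theorem L51910 : sm gf N2965 = N3169 := flp_f L51909
theorem L51912 : sm gc N2967 = N3169 := trfs L51906 L31503 rfl
theorem L51913 : sm gc N3169 = N2967 := flp_c L51912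
theorem L51914 : sm gg N2967 = N3167 := trfs L51906 L31502 rfl
theorem L51915 : N3167 = N4813 := eqes L51914 L26359
theorem L51916 : N4813 = N3167 := (eqc rfl L51915 rfl).symm
theorem L51917 : sm ga N3167 = N3104 := trfs L51916 L26356 rfl
theorem L51918 : N3104 = N5380 := eqes L51917 L29639
theorem L51919 : N5380 = N3104 := (eqc rfl L51918 rfl).symm
theorem L51920 : sm gb N3167 = N5343 := trfs L51916 L29439 rfl
theorem L51921 : N5343 = N5747 := eqes L51920 L31489
theorem L51922 : N5747 = N5343 := (eqc rfl L51921 rfl).symm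
theorem L51924 : sm ge N3167 = N5324 := trfs L51916 L29311 rfl
theorem L51925 : N5324 = N5737 := eqes L51924 L31444
theorem L51926 : N5737 = N5324 := (eqc rfl L51925 rfl).symm
theorem L51929 : sm gg N3167 = N2967 := trfs L51916 L26358 rfl
theorem L51930 : sm gg N2967 = N3167 := flp_g L51929
theorem L51933 : sm gc N5324 = N3161 := trfs L51926 L31442 rfl
theorem L51934 : N3161 = N4811 := eqes L51933 L29308
theorem L51935 : N4811 = N3161 := (eqc rfl L51934 rfl).symm
theorem L51936 : sm ge N5324 = N3167 := trfs L51926 L31443 rfl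
theorem L51937 : sm ge N3167 = N5324 := flp_e L51936
theorem L51938 : sm ga N3161 = N3295 := trfs L51935 L26338 L41114
theorem L51939 : N3295 = N5374 := eqes L51938 L29601
theorem L51940 : N5374 = N3295 := (eqc rfl L51939 rfl).symm
theorem L51941 : sm gb N3161 = N2622 := trfs L51935 L26340 rfl
theorem L51942 : N2622 = N5710 := eqes L51941 L31310
theorem L51943 : N5710 = N2622 := (eqc rfl L51942 rfl).symm
theorem L51944 : sm gc N3161 = N5324 := trfs L51935 L29309 rfl
theorem L51945 : sm gc N5324 = N3161 := flp_c L51944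
theorem L51946 : sm gd N3161 = N2618 := trfs L51935 L26337 rfl
theorem L51947 : N2618 = N1626 := eqes L51946 L16789
theorem L51948 : N2618 = N1626 := eqc rfl L51947 rfl
theorem L51952 : sm ga N1626 = N3171 := trfs L51948 L26308 L42443
theorem L51953 : N3171 = N2989 := eqes L51952 L15893
theorem L51954 : N3171 = N2989 := eqc rfl L51953 rfl
theorem L51955 : sm gb N1626 = N1341 := trfs L51948 L13782 rfl
theorem L51956 : N1341 = N3151 := eqes L51955 L16747
theorem L51957 : N3151 = N1341 := (eqc rfl L51956 rfl).symm
theorem L51958 : sm gc N1626 = N3120 := trfs L51948 L16595 rfl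
theorem L51959 : N3120 = N3158 := eqes L51958 L16779
theorem L51960 : N3158 = N3120 := (eqc rfl L51959 rfl).symm
theorem L51962 : sm gf N1626 = N4812 := trfs L51948 L26344 rfl
theorem L51963 : N4812 = N3162 := eqes L51962 L16792
theorem L51964 : N4812 = N3162 := eqc rfl L51963 rfl
theorem L51965 : sm gg N1626 = N3118 := trfs L51948 L16579 rfl
theorem L51966 : N3118 = N3163 := eqes L51965 L16796
theorem L51967 : N3163 = N3118 := (eqc rfl L51966 rfl).symm
theorem L51968 : sm ga N3118 = N5376 := trfs L51967 L29613 rfl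
theorem L51969 : N5376 = N5341 := eqes L51968 L29413
theorem L51970 : N5376 = N5341 := eqc rfl L51969 rfl
theorem L51980 : sm ge N3118 = N1628 := trfs L51967 L16798 rfl
theorem L51981 : N1628 = N2620 := eqes L51980 L16581
theorem L51982 : N2620 = N1628 := (eqc rfl L51981 rfl).symm
theorem L51983 : sm gf N3118 = N3164 := trfs L51967 L16802 rfl
theorem L51984 : N3164 = N1606 := eqes L51983 L16574
theorem L51985 : N3164 = N1606 := eqc rfl L51984 rfl
theorem L51986 : sm gg N3118 = N1626 := trfs L51967 L16797 rfl
theorem L51987 : sm gg N1626 = N3118 := flp_g L51986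
theorem L51988 : sm ga N1606 = N5377 := trfs L51985 L29619 rfl
theorem L51989 : N5377 = N2975 := eqes L51988 L15807
theorem L51990 : N5377 = N2975 := eqc rfl L51989 rfl
theorem L51997 : sm gd N1606 = N5742 := trfs L51985 L31461 rfl
theorem L51998 : N5742 = N3122 := eqes L51997 L16603
theorem L51999 : N5742 = N3122 := eqc rfl L51998 rfl
theorem L52003 : sm gg N1606 = N1627 := trfs L51985 L16801 rfl
theorem L52004 : N1627 = N2619 := eqes L52003 L13788
theorem L52005 : N2619 = N1627 := (eqc rfl L52004 rfl).symm
theorem L52006 : sm ga N1627 = N3172 := trfs L52005 L26316 L42405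
theorem L52007 : N3172 = N2990 := eqes L52006 L15897
theorem L52008 : N3172 = N2990 := eqc rfl L52007 rfl
theorem L52009 : sm gb N1627 = N1342 := trfs L52005 L13786 rfl
theorem L52010 : N1342 = N3152 := eqes L52009 L16751
theorem L52011 : N3152 = N1342 := (eqc rfl L52010 rfl).symm
theorem L52012 : sm gc N1627 = N1608 := trfs L52005 L13790 rfl
theorem L52013 : N1608 = N3159 := eqes L52012 L16783
theorem L52014 : N3159 = N1608 := (eqc rfl L52013 rfl).symm
theorem L52015 : sm gd N1627 = N4764 := trfs L52005 L26064 rfl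
theorem L52016 : N4764 = N828 := eqes L52015 L8398
theorem L52017 : N4764 = N828 := eqc rfl L52016 rfl
theorem L52020 : sm gg N1627 = N1606 := trfs L52005 L13789 rfl
theorem L52021 : sm gg N1606 = N1627 := flp_g L52020
theorem L52028 : sm gf N828 = N2595 := trfs L52017 L26060 rfl
theorem L52029 : N2595 = N418 := eqes L52028 L4258
theorem L52030 : N2595 = N418 := eqc rfl L52029 rfl
theorem L52031 : sm gb N418 = N1328 := trfs L52030 L13672 rfl
theorem L52032 : N1328 = N823 := eqes L52031 L4238
theorem L52033 : N1328 = N823 := eqc rfl L52032 rfl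
theorem L52041 : sm gg N418 = N4765 := trfs L52030 L26065 rfl
theorem L52042 : N4765 = N829 := eqes L52041 L4259
theorem L52043 : N4765 = N829 := eqc rfl L52042 rfl
theorem L52044 : sm gb N829 = N2599 := trfs L52043 L26067 rfl
theorem L52045 : N2599 = N1664 := eqes L52044 L8567
theorem L52046 : N2599 = N1664 := eqc rfl L52045 rfl
theorem L52047 : sm gd N829 = N3037 := trfs L52043 L26069 L41232
theorem L52048 : N3037 = N1677 := eqes L52047 L8630
theorem L52049 : N3037 = N1677 := eqc rfl L52048 rfl
theorem L52050 : sm ga N1677 = N1681 := trfs L52049 L16170 rfl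
theorem L52051 : N1681 = N3033 := eqes L52050 L16149
theorem L52052 : N3033 = N1681 := (eqc rfl L52051 rfl).symm
theorem L52053 : sm gb N1677 = N3235 := trfs L52049 L17123 rfl
theorem L52054 : N3235 = N3246 := eqes L52053 L17177
theorem L52055 : N3246 = N3235 := (eqc rfl L52054 rfl).symm
theorem L52061 : sm gg N1677 = N1566 := trfs L52049 L16169 rfl
theorem L52062 : N1566 = N832 := eqes L52061 L8632
theorem L52063 : N1566 = N832 := eqc rfl L52062 rfl
theorem L52068 : sm gc N832 = N3035 := trfs L52063 L16160 rfl
theorem L52069 : N3035 = N1683 := eqes L52068 L8648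
theorem L52070 : N3035 = N1683 := eqc rfl L52069 rfl
theorem L52072 : sm ge N832 = N3029 := trfs L52063 L16127 rfl
theorem L52073 : N3029 = N1684 := eqes L52072 L8650
theorem L52074 : N3029 = N1684 := eqc rfl L52073 rfl
theorem L52075 : sm gf N832 = N3036 := trfs L52063 L16164 rfl
theorem L52076 : N3036 = N1685 := eqes L52075 L8652
theorem L52077 : N3036 = N1685 := eqc rfl L52076 rfl
theorem L52086 : sm gg N1685 = N2879 := trfs L52077 L30165 L41286
theorem L52087 : N2879 = N3293 := eqes L52086 L17365
theorem L52088 : N3293 = N2879 := (eqc rfl L52087 rfl).symm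
theorem L52095 : sm gc N2879 = N3115 := trfs L52088 L17372 rfl
theorem L52096 : N3115 = N1520 := eqes L52095 L15315
theorem L52097 : N3115 = N1520 := eqc rfl L52096 rfl
theorem L52101 : sm ge N2879 = N3275 := trfs L52088 L17367 rfl
theorem L52102 : N3275 = N2857 := eqes L52101 L15313
theorem L52103 : N3275 = N2857 := eqc rfl L52102 rfl
theorem L52104 : sm gf N2879 = N3274 := trfs L52088 L17370 rfl
theorem L52105 : N3274 = N5165 := eqes L52104 L28471
theorem L52106 : N5165 = N3274 := (eqc rfl L52105 rfl).symm
theorem L52109 : N3322 = N1685 := L41268.trans L52077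
theorem L52110 : sm ga N3274 = N3269 := trfs L52106 L28473 L41241
theorem L52111 : N3269 = N5465 := eqes L52110 L30129
theorem L52112 : N5465 = N3269 := (eqc rfl L52111 rfl).symm
theorem L52113 : sm gb N3274 = N2881 := trfs L52106 L28475 rfl
theorem L52114 : N2881 = N5919 := eqes L52113 L32348
theorem L52115 : N5919 = N2881 := (eqc rfl L52114 rfl).symm
theorem L52116 : sm gc N3274 = N2934 := trfs L52106 L28477 rfl
theorem L52117 : N2934 = N5626 := eqes L52116 L30957
theorem L52118 : N5626 = N2934 := (eqc rfl L52117 rfl).symm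
theorem L52119 : N3323 = N1677 := L41232.trans L52049
theorem L52121 : sm gf N3274 = N2879 := trfs L52106 L28472 rfl
theorem L52122 : sm gf N2879 = N3274 := flp_f L52121
theorem L52124 : sm gc N2934 = N3274 := trfs L52118 L30958 rfl
theorem L52125 : sm gc N3274 = N2934 := flp_c L52124
theorem L52126 : sm gd N2934 = N3111 := trfs L52118 L30954 rfl
theorem L52127 : N3111 = N5269 := eqes L52126 L28987
theorem L52128 : N5269 = N3111 := (eqc rfl L52127 rfl).symm
theorem L52129 : sm ge N2934 = N3273 := trfs L52118 L30962 rfl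
theorem L52130 : N3273 = N2886 := eqes L52129 L15583
theorem L52131 : N3273 = N2886 := eqc rfl L52130 rfl
theorem L52133 : sm gg N2934 = N3289 := trfs L52118 L30959 rfl
theorem L52134 : N3289 = N5178 := eqes L52133 L28560
theorem L52135 : N5178 = N3289 := (eqc rfl L52134 rfl).symm
theorem L52136 : sm ga N3289 = N2898 := trfs L52135 L28551 rfl
theorem L52137 : N2898 = N5480 := eqes L52136 L30210
theorem L52138 : N5480 = N2898 := (eqc rfl L52137 rfl).symm
theorem L52139 : sm gb N3289 = N2917 := trfs L52135 L28553 rfl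
theorem L52140 : N2917 = N6003 := eqes L52139 L32718
theorem L52141 : N6003 = N2917 := (eqc rfl L52140 rfl).symm
theorem L52142 : sm gd N3289 = N2898 := trfs L52135 L28561 rfl
theorem L52143 : N2898 = N6009 := eqes L52142 L32735
theorem L52144 : N6009 = N2898 := (eqc rfl L52143 rfl).symm
theorem L52145 : sm ge N3289 = N3321 := trfs L52135 L28557 rfl
theorem L52146 : N3321 = N1683 := eqes L52145 L17348
theorem L52147 : N3321 = N1683 := eqc rfl L52146 rfl
theorem L52148 : sm gf N3289 = N2887 := trfs L52135 L28550 rfl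
theorem L52149 : N2887 = N6010 := eqes L52148 L32737
theorem L52150 : N6010 = N2887 := (eqc rfl L52149 rfl).symm
theorem L52151 : sm gg N3289 = N2934 := trfs L52135 L28559 rfl
theorem L52152 : sm gg N2934 = N3289 := flp_g L52151
theorem L52153 : sm gc N2887 = N3291 := trfs L52150 L32739 rfl
theorem L52154 : N3291 = N5125 := eqes L52153 L28284
theorem L52155 : N5125 = N3291 := (eqc rfl L52154 rfl).symm
theorem L52156 : sm ge N2887 = N3290 := trfs L52150 L32741 rfl
theorem L52157 : N3290 = N2935 := eqes L52156 L15592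
theorem L52158 : N3290 = N2935 := eqc rfl L52157 rfl
theorem L52159 : sm gf N2887 = N3289 := trfs L52150 L32738 rfl
theorem L52160 : sm gf N3289 = N2887 := flp_f L52159
theorem L52175 : sm gd N2935 = N6011 := trfs L52158 L32745 rfl
theorem L52176 : N6011 = N5108 := eqes L52175 L41729
theorem L52177 : N6011 = N5108 := eqc rfl L52176 rfl
theorem L52187 : sm gg N5108 = N5634 := trfs L52177 L32747 rfl
theorem L52188 : N5634 = N2845 := eqes L52187 L28162
theorem L52189 : N5634 = N2845 := eqc rfl L52188 rfl
theorem L52193 : sm gd N2845 = N3116 := trfs L52189 L30988 rfl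
theorem L52194 : N3116 = N5107 := eqes L52193 L28153
theorem L52195 : N5107 = N3116 := (eqc rfl L52194 rfl).symm
theorem L52196 : sm gf N2845 = N5991 := trfs L52189 L32668 rfl
theorem L52197 : N5991 = N3315 := eqes L52196 L17495
theorem L52198 : N5991 = N3028 := eqc rfl L52197 L41761
theorem L52202 : sm gg N3028 = N3284 := trfs L52198 L32665 rfl
theorem L52203 : N3284 = N1562 := eqes L52202 L16117
theorem L52204 : N3284 = N1562 := eqc rfl L52203 rfl
theorem L52215 : sm ge N1562 = N5997 := trfs L52204 L32683 rfl
theorem L52216 : N5997 = N3026 := eqes L52215 L16104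
theorem L52217 : N5997 = N3026 := eqc rfl L52216 rfl
theorem L52230 : sm gd N3026 = N6007 := trfs L52217 L32763 rfl
theorem L52231 : N6007 = N5451 := eqes L52230 L30032
theorem L52232 : N6007 = N5451 := eqc rfl L52231 rfl
theorem L52235 : sm gf N5451 = N3288 := trfs L52232 L32732 rfl
theorem L52236 : N3288 = N5469 := eqes L52235 L32779
theorem L52237 : N5469 = N3288 := (eqc rfl L52236 rfl).symm
theorem L52238 : sm ga N3288 = N3278 := trfs L52237 L30148 rfl
theorem L52239 : N3278 = N5479 := eqes L52238 L30206
theorem L52240 : N5479 = N3278 := (eqc rfl L52239 rfl).symm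
theorem L52241 : sm gc N3288 = N3288 := trfs L52237 L30152 L52237
theorem L52242 : N3288 = N6005 := eqes L52241 L32725
theorem L52243 : N6005 = N3288 := (eqc rfl L52242 rfl).symm
theorem L52245 : sm ge N3288 = N3278 := trfs L52237 L30150 rfl
theorem L52246 : N3278 = N6006 := eqes L52245 L32729
theorem L52247 : N6006 = N3278 := (eqc rfl L52246 rfl).symm
theorem L52248 : sm gf N3288 = N5451 := trfs L52237 L32780 rfl
theorem L52249 : sm gf N5451 = N3288 := flp_f L52248
theorem L52250 : sm ge N3278 = N3288 := trfs L52247 L32730 rfl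
theorem L52251 : sm ge N3288 = N3278 := flp_e L52250
theorem L52255 : sm gc N3288 = N3288 := trfs L52243 L32726 rfl
theorem L52256 : sm gd N3288 = N3421 := trfs L52243 L32727 rfl
theorem L52257 : N3421 = N1683 := eqes L52256 L17346
theorem L52258 : N3421 = N1683 := eqc rfl L52257 rfl
theorem L52259 : sm ga N1683 = N3301 := trfs L52258 L18070 rfl
theorem L52260 : N3301 = N3039 := eqes L52259 L16179
theorem L52261 : N3301 = N3039 := eqc rfl L52260 rfl
theorem L52271 : sm gg N1683 = N6242 := trfs L52258 L33917 rfl
theorem L52272 : N6242 = N3273 := eqes L52271 L17293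
theorem L52273 : N6242 = N2886 := eqc rfl L52272 L52131
theorem L52274 : sm ga N2886 = N6034 := trfs L52273 L33914 rfl
theorem L52275 : N6034 = N1501 := eqes L52274 L15363
theorem L52276 : N6034 = N1501 := eqc rfl L52275 rfl
theorem L52279 : sm gc N1501 = N3304 := trfs L52276 L32883 rfl
theorem L52281 : sm gg N1501 = N3039 := trfs L52276 L32882 L52261
theorem L52282 : N3039 = N2896 := eqes L52281 L15405
theorem L52283 : N3039 = N1679 := eqc rfl L52282 L41256
theorem L52296 : sm gg N1679 = N5464 := trfs L52283 L30125 rfl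
theorem L52297 : N5464 = N3280 := eqes L52296 L17315
theorem L52298 : N5464 = N1501 := eqc rfl L52297 L41238
theorem L52300 : sm gc N1501 = N1681 := trfs L52298 L30121 L52052
theorem L52301 : N1681 = N3304 := eqes L52300 L52279
theorem L52302 : N3304 = N1681 := (eqc rfl L52301 rfl).symm
theorem L52314 : sm gf N1681 = N6038 := trfs L52302 L32897 rfl
theorem L52315 : N6038 = N3283 := eqes L52314 L17327
theorem L52316 : N6038 = N1485 := eqc rfl L52315 L41244
theorem L52322 : sm gg N1485 = N6035 := trfs L52316 L32901 rfl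
theorem L52323 : N6035 = N2861 := eqes L52322 L15215
theorem L52324 : N6035 = N2861 := eqc rfl L52323 rfl
theorem L52331 : sm gf N2861 = N3040 := trfs L52324 L32886 L41185
theorem L52332 : N3040 = N3414 := eqes L52331 L18012
theorem L52333 : N3040 = N1673 := eqc rfl L52332 L41262
theorem L52336 : sm gb N1673 = N5444 := trfs L52333 L30005 rfl
theorem L52337 : N5444 = N3242 := eqes L52336 L17153
theorem L52338 : N5444 = N2871 := eqc rfl L52337 L41879
theorem L52362 : sm ga N2871 = N5930 := trfs L52338 L32416 rfl
theorem L52363 : N5930 = N3310 := eqes L52362 L17446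
theorem L52364 : N5930 = N3020 := eqc rfl L52363 L41962
theorem L52388 : sm gd N3020 = N3253 := trfs L52364 L32419 rfl
theorem L52389 : N3253 = N3233 := eqes L52388 L17111
theorem L52390 : N3253 = N3233 := eqc rfl L52389 rfl
theorem L52401 : sm gf N3233 = N5936 := trfs L52390 L32443 rfl
theorem L52402 : N5936 = N5888 := eqes L52401 L32179
theorem L52403 : N5936 = N5151 := eqc rfl L52402 L41888
theorem L52408 : sm ge N5151 = N3254 := trfs L52403 L32447 rfl
theorem L52409 : N3254 = N2882 := eqes L52408 L28395
theorem L52410 : N3254 = N2882 := eqc rfl L52409 rfl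
theorem L52421 : sm gc N2882 = N5935 := trfs L52410 L32442 rfl
theorem L52422 : N5935 = N1497 := eqes L52421 L15333
theorem L52423 : N5935 = N1497 := eqc rfl L52422 rfl
theorem L52436 : N4577 = N2882 := L41152.trans L52410
theorem L52438 : sm gf N1497 = N3252 := trfs L52423 L32440 rfl
theorem L52439 : N3252 = N2884 := eqes L52438 L15345
theorem L52440 : N3252 = N2884 := eqc rfl L52439 rfl
theorem L52441 : sm ga N2884 = N2596 := trfs L52440 L32224 L42382
theorem L52442 : N2596 = N2823 := eqes L52441 L15347
theorem L52443 : N2823 = N2596 := (eqc rfl L52442 rfl).symm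
theorem L52444 : sm gb N2884 = N5932 := trfs L52440 L32429 rfl
theorem L52445 : N5932 = N1525 := eqes L52444 L15349
theorem L52446 : N5932 = N1525 := eqc rfl L52445 rfl
theorem L52466 : sm gc N1525 = N3287 := trfs L52446 L32431 rfl
theorem L52467 : N3287 = N2941 := eqes L52466 L15615
theorem L52468 : N3287 = N2941 := eqc rfl L52467 rfl
theorem L52472 : sm gd N2941 = N6002 := trfs L52468 L32709 rfl
theorem L52473 : N6002 = N5230 := eqes L52472 L28801
theorem L52474 : N6002 = N5230 := eqc rfl L52473 rfl
theorem L52481 : sm gb N5230 = N3288 := trfs L52474 L32711 rfl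
theorem L52482 : N3288 = N6059 := eqes L52481 L32997
theorem L52483 : N6059 = N3288 := (eqc rfl L52482 rfl).symm
theorem L52487 : sm gb N3288 = N5230 := trfs L52483 L32996 rfl
theorem L52488 : sm gb N5230 = N3288 := flp_b L52487
theorem L52494 : N5981 = N2913 := L41388.trans L41395
theorem L52497 : sm ga N2596 = N2884 := trfs L52443 L15348 rfl
theorem L52498 : N2884 = N4575 := eqes L52497 L25073
theorem L52499 : N4575 = N2884 := (eqc rfl L52498 rfl).symm
theorem L52500 : sm gb N2596 = N1478 := trfs L52443 L14960 rfl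
theorem L52501 : N1478 = N4766 := eqes L52500 L26071
theorem L52502 : N4766 = N1478 := (eqc rfl L52501 rfl).symm
theorem L52505 : sm gd N2596 = N5073 := trfs L52443 L27941 rfl
theorem L52506 : N5073 = N4767 := eqes L52505 L26073
theorem L52507 : N5073 = N4767 := eqc rfl L52506 rfl
theorem L52511 : sm gf N2596 = N1468 := trfs L52443 L14959 rfl
theorem L52512 : N1468 = N4769 := eqes L52511 L26083
theorem L52513 : N4769 = N1468 := (eqc rfl L52512 rfl).symm
theorem L52514 : sm gg N2596 = N2820 := trfs L52443 L14966 rfl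
theorem L52515 : N2820 = N4770 := eqes L52514 L26087
theorem L52516 : N4770 = N2820 := (eqc rfl L52515 rfl).symm
theorem L52519 : sm gg N2820 = N2596 := trfs L52516 L26088 rfl
theorem L52520 : sm gg N2596 = N2820 := flp_g L52519
theorem L52523 : sm gf N1468 = N2596 := trfs L52513 L26084 rfl
theorem L52524 : sm gf N2596 = N1468 := flp_f L52523
theorem L52530 : sm ga N4767 = N5172 := trfs L52507 L28516 rfl
theorem L52531 : N5172 = N4731 := eqes L52530 L26075
theorem L52532 : N5172 = N4731 := eqc rfl L52531 rfl
theorem L52533 : sm gb N4767 = N2844 := trfs L52507 L27943 rfl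
theorem L52535 : sm gf N4767 = N5115 := trfs L52507 L28222 rfl
theorem L52537 : sm gb N4731 = N2943 := trfs L52532 L28517 rfl
theorem L52538 : sm gb N2943 = N4731 := flp_b L52537
theorem L52541 : sm gf N4731 = N2943 := trfs L52532 L28519 rfl
theorem L52542 : sm gf N2943 = N4731 := flp_f L52541
theorem L52543 : sm gb N1478 = N2596 := trfs L52502 L26072 rfl
theorem L52544 : sm gb N2596 = N1478 := flp_b L52543
theorem L52551 : sm gd N2884 = N4731 := trfs L52499 L25934 rfl
theorem L52552 : sm gd N4731 = N2884 := flp_d L52551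
theorem L52579 : N3301 = N1679 := L52261.trans L52283
theorem L52585 : sm ge N1679 = N6032 := trfs L52579 L32873 rfl
theorem L52586 : sm ge N6032 = N1679 := flp_e L52585
theorem L52595 : sm ga N3278 = N3288 := trfs L52240 L30205 rfl
theorem L52596 : sm ga N3288 = N3278 := flp_a L52595
theorem L52637 : sm ga N3116 = N5075 := trfs L52195 L28155 rfl
theorem L52638 : N5075 = N5339 := eqes L52637 L29399
theorem L52639 : N5339 = N5075 := (eqc rfl L52638 rfl).symm
theorem L52640 : sm gb N3116 = N2846 := trfs L52195 L28157 rfl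
theorem L52641 : N2846 = N5611 := eqes L52640 L30884
theorem L52642 : N5611 = N2846 := (eqc rfl L52641 rfl).symm
theorem L52643 : sm gd N3116 = N2845 := trfs L52195 L28154 rfl
theorem L52644 : sm gd N2845 = N3116 := flp_d L52643
theorem L52645 : sm ge N3116 = N4709 := trfs L52195 L28159 rfl
theorem L52646 : N4709 = N3081 := eqes L52645 L16565
theorem L52647 : N4709 = N3081 := eqc rfl L52646 rfl
theorem L52648 : sm gg N3116 = N2933 := trfs L52195 L41683 rfl
theorem L52649 : N2933 = N1602 := eqes L52648 L16562
theorem L52650 : N2933 = N1602 := eqc rfl L52649 rfl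
theorem L52651 : sm ga N1602 = N2892 := trfs L52650 L15573 rfl
theorem L52652 : N2892 = N2971 := eqes L52651 L15775
theorem L52653 : N2971 = N2892 := (eqc rfl L52652 rfl).symm
theorem L52654 : sm gb N1602 = N1521 := trfs L52650 L15575 rfl
theorem L52655 : N1521 = N3108 := eqes L52654 L16537
theorem L52656 : N3108 = N1521 := (eqc rfl L52655 rfl).symm
theorem L52662 : sm ge N1602 = N5266 := trfs L52650 L28967 rfl
theorem L52663 : N5266 = N3114 := eqes L52662 L16556
theorem L52664 : N5266 = N3114 := eqc rfl L52663 rfl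
theorem L52665 : sm gf N1602 = N5267 := trfs L52650 L28975 rfl
theorem L52666 : N5267 = N796 := eqes L52665 L8264
theorem L52667 : N5267 = N796 := eqc rfl L52666 rfl
theorem L52668 : sm ga N796 = N5191 := trfs L52667 L28977 rfl
theorem L52669 : N5191 = N1534 := eqes L52668 L7887
theorem L52670 : N5191 = N1534 := eqc rfl L52669 rfl
theorem L52671 : sm gb N796 = N2937 := trfs L52667 L28979 rfl
theorem L52672 : N2937 = N1599 := eqes L52671 L8254
theorem L52673 : N2937 = N1599 := eqc rfl L52672 rfl
theorem L52678 : sm gd N1599 = N5273 := trfs L52673 L29015 rfl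
theorem L52679 : N5273 = N3106 := eqes L52678 L16521
theorem L52680 : N5273 = N3106 := eqc rfl L52679 rfl
theorem L52681 : sm ge N1599 = N5271 := trfs L52673 L29007 rfl
theorem L52682 : N5271 = N3107 := eqes L52681 L16525
theorem L52683 : N5271 = N3107 := eqc rfl L52682 rfl
theorem L52686 : sm gg N1599 = N4712 := trfs L52673 L41669 rfl
theorem L52687 : N4712 = N3078 := eqes L52686 L16388
theorem L52688 : N4712 = N3078 := eqc rfl L52687 rfl
theorem L52692 : sm gf N3078 = N2569 := trfs L52688 L25828 rfl
theorem L52693 : N2569 = N5562 := eqes L52692 L30667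
theorem L52694 : N5562 = N2569 := (eqc rfl L52693 rfl).symm
theorem L52702 : sm gf N2569 = N3078 := trfs L52694 L30668 rfl
theorem L52703 : sm gf N3078 = N2569 := flp_f L52702
theorem L52712 : sm gf N3107 = N2936 := trfs L52683 L29002 rfl
theorem L52713 : sm gf N2936 = N3107 := flp_f L52712
theorem L52715 : sm gf N3106 = N2939 := trfs L52680 L29017 rfl
theorem L52716 : N2939 = N5614 := eqes L52715 L30896
theorem L52717 : N5614 = N2939 := (eqc rfl L52716 rfl).symm
theorem L52720 : sm gf N2939 = N3106 := trfs L52717 L30897 rfl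
theorem L52721 : sm gf N3106 = N2939 := flp_f L52720
theorem L52725 : sm gb N1534 = N2906 := trfs L52670 L28635 rfl
theorem L52726 : N2906 = N2968 := eqes L52725 L15760
theorem L52727 : N2968 = N2906 := (eqc rfl L52726 rfl).symm
theorem L52730 : sm ga N2906 = N5329 := trfs L52727 L29342 rfl
theorem L52731 : N5329 = N5079 := eqes L52730 L27986
theorem L52732 : N5329 = N5079 := eqc rfl L52731 rfl
theorem L52733 : sm gb N2906 = N1534 := trfs L52727 L15761 rfl
theorem L52734 : sm gb N1534 = N2906 := flp_b L52733
theorem L52735 : sm gc N2906 = N5306 := trfs L52727 L29193 rfl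
theorem L52736 : N5306 = N4673 := eqes L52735 L25672
theorem L52737 : N5306 = N4673 := eqc rfl L52736 rfl
theorem L52738 : sm gd N2906 = N5330 := trfs L52727 L29348 rfl
theorem L52739 : N5330 = N5213 := eqes L52738 L28734
theorem L52740 : N5330 = N5213 := eqc rfl L52739 rfl
theorem L52741 : sm ge N2906 = N5331 := trfs L52727 L29352 rfl
theorem L52742 : N5331 = N5201 := eqes L52741 L28677
theorem L52743 : N5331 = N5201 := eqc rfl L52742 rfl
theorem L52750 : sm gb N5201 = N2970 := trfs L52743 L29356 rfl
theorem L52751 : sm gb N2970 = N5201 := flp_b L52750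
theorem L52754 : sm gb N5213 = N2969 := trfs L52740 L29350 rfl
theorem L52755 : sm gb N2969 = N5213 := flp_b L52754
theorem L52756 : sm gb N4673 = N2955 := trfs L52737 L29189 rfl
theorem L52757 : sm gb N2955 = N4673 := flp_b L52756
theorem L52759 : sm gb N5079 = N5308 := trfs L52732 L29344 rfl
theorem L52760 : sm gb N5308 = N5079 := flp_b L52759
theorem L52761 : sm ga N3114 = N5183 := trfs L52664 L28969 rfl
theorem L52762 : N5183 = N5337 := eqes L52761 L29385
theorem L52763 : N5337 = N5183 := (eqc rfl L52762 rfl).symm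
theorem L52764 : sm gb N3114 = N2936 := trfs L52664 L28971 rfl
theorem L52765 : sm gb N2936 = N3114 := flp_b L52764
theorem L52766 : sm gd N3114 = N4551 := trfs L52664 L28973 rfl
theorem L52767 : N4551 = N5632 := eqes L52766 L30979
theorem L52768 : N5632 = N4551 := (eqc rfl L52767 rfl).symm
theorem L52769 : sm gd N4551 = N3114 := trfs L52768 L30980 rfl
theorem L52771 : sm ga N5183 = N3114 := trfs L52763 L29384 rfl
theorem L52772 : sm ga N3114 = N5183 := flp_a L52771
theorem L52773 : sm gc N5183 = N2972 := trfs L52763 L29386 rfl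
theorem L52774 : sm gc N2972 = N5183 := flp_c L52773
theorem L52776 : sm gf N5183 = N2970 := trfs L52763 L29383 rfl
theorem L52777 : sm gf N2970 = N5183 := flp_f L52776
theorem L52778 : sm gg N5183 = N5309 := trfs L52763 L29391 rfl
theorem L52779 : sm gg N5309 = N5183 := flp_g L52778
theorem L52787 : sm gb N1521 = N1602 := trfs L52656 L16536 rfl
theorem L52788 : sm gb N1602 = N1521 := flp_b L52787
theorem L52793 : sm gf N1521 = N1599 := trfs L52656 L16535 rfl
theorem L52794 : sm gf N1599 = N1521 := flp_f L52793
theorem L52798 : sm ga N2892 = N1602 := trfs L52653 L15774 rfl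
theorem L52799 : sm ga N1602 = N2892 := flp_a L52798
theorem L52800 : sm gc N2892 = N1536 := trfs L52653 L15776 rfl
theorem L52801 : sm gc N1536 = N2892 := flp_c L52800
theorem L52805 : sm gf N2892 = N1534 := trfs L52653 L15773 rfl
theorem L52806 : sm gf N1534 = N2892 := flp_f L52805
theorem L52811 : sm ga N3081 = N4666 := trfs L52647 L25807 rfl
theorem L52812 : N4666 = N5309 := eqes L52811 L29209
theorem L52813 : N5309 = N4666 := (eqc rfl L52812 rfl).symm
theorem L52814 : sm gb N3081 = N2569 := trfs L52647 L25809 rfl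
theorem L52815 : sm gb N2569 = N3081 := flp_b L52814
theorem L52816 : sm gd N3081 = N2568 := trfs L52647 L25806 rfl
theorem L52817 : N2568 = N5568 := eqes L52816 L30686
theorem L52818 : N5568 = N2568 := (eqc rfl L52817 rfl).symm
theorem L52819 : sm gd N2568 = N3081 := trfs L52818 L30687 rfl
theorem L52820 : sm gd N3081 = N2568 := flp_d L52819
theorem L52821 : sm ga N4666 = N3081 := trfs L52813 L29208 rfl
theorem L52822 : sm ga N3081 = N4666 := flp_a L52821
theorem L52823 : sm gc N4666 = N2957 := trfs L52813 L29210 rfl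
theorem L52824 : sm gc N2957 = N4666 := flp_c L52823
theorem L52826 : sm gf N4666 = N2955 := trfs L52813 L29207 rfl
theorem L52827 : sm gf N2955 = N4666 := flp_f L52826
theorem L52828 : sm gg N4666 = N5183 := trfs L52813 L52779 rfl
theorem L52829 : sm gg N5183 = N4666 := flp_g L52828
theorem L52830 : sm gb N2846 = N3116 := trfs L52642 L30883 rfl
theorem L52831 : sm gb N3116 = N2846 := flp_b L52830
theorem L52833 : sm gf N2846 = N3105 := trfs L52642 L30880 rfl
theorem L52834 : sm gf N3105 = N2846 := flp_f L52833
theorem L52835 : sm ga N5075 = N3116 := trfs L52639 L29398 rfl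
theorem L52836 : sm ga N3116 = N5075 := flp_a L52835
theorem L52837 : sm gc N5075 = N2974 := trfs L52639 L29400 rfl
theorem L52838 : sm gc N2974 = N5075 := flp_c L52837
theorem L52839 : sm gf N5075 = N5308 := trfs L52639 L29405 rfl
theorem L52840 : sm gf N5308 = N5075 := flp_f L52839
theorem L52844 : sm ga N3291 = N2861 := trfs L52155 L28281 rfl
theorem L52845 : sm ga N2861 = N3291 := flp_a L52844
theorem L52846 : sm gb N3291 = N5151 := trfs L52155 L28392 rfl
theorem L52847 : sm gb N5151 = N3291 := flp_b L52846
theorem L52848 : sm gc N3291 = N2887 := trfs L52155 L28283 rfl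
theorem L52849 : sm gc N2887 = N3291 := flp_c L52848
theorem L52857 : sm gb N1683 = N2941 := trfs L52147 L17535 rfl
theorem L52858 : sm gb N2941 = N1683 := flp_b L52857
theorem L52861 : sm gf N1683 = N2935 := trfs L52147 L17538 rfl
theorem L52862 : sm gf N2935 = N1683 := flp_f L52861
theorem L52865 : sm gd N2898 = N3289 := trfs L52144 L32736 rfl
theorem L52866 : sm gd N3289 = N2898 := flp_d L52865
theorem L52867 : sm gb N2917 = N3289 := trfs L52141 L32717 rfl
theorem L52868 : sm gb N3289 = N2917 := flp_b L52867
theorem L52869 : sm ga N2898 = N3289 := trfs L52138 L30209 rfl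
theorem L52870 : sm ga N3289 = N2898 := flp_a L52869
theorem L52876 : sm gg N2886 = N1683 := trfs L52131 L17292 rfl
theorem L52877 : sm gg N1683 = N2886 := flp_g L52876
theorem L52878 : sm ga N3111 = N5193 := trfs L52128 L28989 rfl
theorem L52879 : N5193 = N5334 := eqes L52878 L29373
theorem L52880 : N5334 = N5193 := (eqc rfl L52879 rfl).symm
theorem L52881 : sm gb N3111 = N2939 := trfs L52128 L28991 rfl
theorem L52882 : sm gb N2939 = N3111 := flp_b L52881
theorem L52883 : sm gd N3111 = N2934 := trfs L52128 L28988 rfl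
theorem L52884 : sm gd N2934 = N3111 := flp_d L52883
theorem L52885 : sm gg N3111 = N5193 := trfs L52128 L28993 rfl
theorem L52886 : N5193 = N5627 := eqes L52885 L30963
theorem L52887 : N5627 = N5193 := (eqc rfl L52886 rfl).symm
theorem L52888 : sm ge N5193 = N5628 := trfs L52887 L30970 rfl
theorem L52889 : sm ge N5628 = N5193 := flp_e L52888
theorem L52890 : sm gf N5193 = N5625 := trfs L52887 L30966 rfl
theorem L52891 : sm gf N5625 = N5193 := flp_f L52890
theorem L52892 : sm gg N5193 = N3111 := trfs L52887 L30964 rfl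
theorem L52893 : sm gg N3111 = N5193 := flp_g L52892
theorem L52894 : sm ga N5193 = N3111 := trfs L52880 L29372 rfl
theorem L52895 : sm ga N3111 = N5193 := flp_a L52894
theorem L52896 : sm gc N5193 = N5819 := trfs L52880 L31846 rfl
theorem L52897 : sm gc N5819 = N5193 := flp_c L52896
theorem L52898 : sm gf N5193 = N2969 := trfs L52880 L29371 rfl
theorem L52899 : N2969 = N5625 := eqes L52898 L52890
theorem L52900 : N5625 = N2969 := (eqc rfl L52899 rfl).symm
theorem L52901 : sm ge N2969 = N3112 := trfs L52900 L30951 rfl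
theorem L52902 : N3112 = N5333 := eqes L52901 L29366
theorem L52903 : N5333 = N3112 := (eqc rfl L52902 rfl).symm
theorem L52904 : sm gf N2969 = N5193 := trfs L52900 L52891 rfl
theorem L52905 : sm gf N5193 = N2969 := flp_f L52904
theorem L52906 : sm gg N2969 = N3110 := trfs L52900 L30950 rfl
theorem L52907 : N3110 = N5335 := eqes L52906 L29374
theorem L52908 : N5335 = N3110 := (eqc rfl L52907 rfl).symm
theorem L52914 : sm gg N3110 = N2969 := trfs L52908 L29375 rfl
theorem L52915 : sm gg N2969 = N3110 := flp_g L52914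
theorem L52926 : sm ga N3112 = N3110 := trfs L52903 L29368 rfl
theorem L52927 : sm ga N3110 = N3112 := flp_a L52926
theorem L52928 : sm ge N3112 = N2969 := trfs L52903 L29367 rfl
theorem L52929 : sm ge N2969 = N3112 := flp_e L52928
theorem L52930 : sm gb N2881 = N3274 := trfs L52115 L32347 rfl
theorem L52931 : sm gb N3274 = N2881 := flp_b L52930
theorem L52936 : sm ga N3269 = N3274 := trfs L52112 L30128 rfl
theorem L52937 : sm ga N3274 = N3269 := flp_a L52936
theorem L52942 : sm gd N2857 = N5977 := trfs L52103 L32601 rfl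
theorem L52943 : N5977 = N5124 := eqes L52942 L28275
theorem L52944 : N5977 = N5124 := eqc rfl L52943 rfl
theorem L52947 : sm gg N2857 = N3291 := trfs L52103 L17359 rfl
theorem L52948 : sm gg N3291 = N2857 := flp_g L52947
theorem L52949 : sm gf N5124 = N3276 := trfs L52944 L32603 rfl
theorem L52950 : sm gf N3276 = N5124 := flp_f L52949
theorem L52951 : sm gd N1520 = N1602 := trfs L52097 L16560 rfl
theorem L52952 : sm gd N1602 = N1520 := flp_d L52951
theorem L52956 : N5483 = N3168 := L41122.trans L51867
theorem L52962 : N3042 = N1629 := L41103.trans L51636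
theorem L52974 : sm ga N1684 = N1673 := trfs L52074 L16124 rfl
theorem L52975 : sm ga N1673 = N1684 := flp_a L52974
theorem L52976 : sm gb N1684 = N3233 := trfs L52074 L17109 rfl
theorem L52977 : sm gb N3233 = N1684 := flp_b L52976
theorem L52980 : sm gd N1684 = N1563 := trfs L52074 L16123 rfl
theorem L52981 : sm gd N1563 = N1684 := flp_d L52980
theorem L52982 : sm ga N1683 = N1679 := trfs L52070 L16162 rfl
theorem L52983 : sm ga N1679 = N1683 := flp_a L52982
theorem L52997 : sm gb N3235 = N1677 := trfs L52055 L17176 rfl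
theorem L52998 : sm gb N1677 = N3235 := flp_b L52997
theorem L53002 : sm ga N1681 = N1677 := trfs L52052 L16148 rfl
theorem L53003 : sm ga N1677 = N1681 := flp_a L53002
theorem L53006 : sm gd N1681 = N1565 := trfs L52052 L16147 rfl
theorem L53007 : sm gd N1565 = N1681 := flp_d L53006
theorem L53011 : sm gd N1664 = N3235 := trfs L52046 L42371 rfl
theorem L53012 : sm gd N3235 = N1664 := flp_d L53011
theorem L53019 : sm gc N823 = N2596 := trfs L52033 L13674 rfl
theorem L53020 : N2596 = N1661 := eqes L53019 L8554
theorem L53021 : N2596 = N1661 := eqc rfl L53020 rfl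
theorem L53026 : sm gb N1661 = N1478 := trfs L53021 L52544 rfl
theorem L53027 : N1478 = N3237 := eqes L53026 L17130
theorem L53028 : N3237 = N1478 := (eqc rfl L53027 rfl).symm
theorem L53029 : sm gd N1661 = N4767 := trfs L53021 L26073 rfl
theorem L53030 : N4767 = N3238 := eqes L53029 L17134
theorem L53031 : N4767 = N3238 := eqc rfl L53030 rfl
theorem L53034 : sm gf N1661 = N1468 := trfs L53021 L52524 rfl
theorem L53035 : N1468 = N3240 := eqes L53034 L17140
theorem L53036 : N3240 = N1468 := (eqc rfl L53035 rfl).symm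
theorem L53037 : sm gg N1661 = N2820 := trfs L53021 L52520 rfl
theorem L53038 : N2820 = N3241 := eqes L53037 L17144
theorem L53039 : N3241 = N2820 := (eqc rfl L53038 rfl).symm
theorem L53051 : sm gg N2820 = N1661 := trfs L53039 L17145 rfl
theorem L53052 : sm gg N1661 = N2820 := flp_g L53051
theorem L53063 : sm gf N1468 = N1661 := trfs L53036 L17141 rfl
theorem L53064 : sm gf N1661 = N1468 := flp_f L53063
theorem L53071 : sm ga N3238 = N4731 := trfs L53031 L26075 rfl
theorem L53072 : N4731 = N5884 := eqes L53071 L32160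
theorem L53073 : N5884 = N4731 := (eqc rfl L53072 rfl).symm
theorem L53074 : sm gb N3238 = N2844 := trfs L53031 L52533 rfl
theorem L53075 : N2844 = N5897 := eqes L53074 L32246
theorem L53076 : N5897 = N2844 := (eqc rfl L53075 rfl).symm
theorem L53077 : sm gc N3238 = N4563 := trfs L53031 L26078 rfl
theorem L53078 : N4563 = N5901 := eqes L53077 L32265
theorem L53079 : N5901 = N4563 := (eqc rfl L53078 rfl).symm
theorem L53080 : sm gf N3238 = N5115 := trfs L53031 L52535 rfl
theorem L53081 : N5115 = N5903 := eqes L53080 L32269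
theorem L53082 : N5903 = N5115 := (eqc rfl L53081 rfl).symm
theorem L53083 : sm gf N5115 = N3238 := trfs L53082 L32270 rfl
theorem L53084 : sm gf N3238 = N5115 := flp_f L53083
theorem L53088 : sm gc N4563 = N3238 := trfs L53079 L32266 rfl
theorem L53089 : sm gc N3238 = N4563 := flp_c L53088
theorem L53090 : sm gd N4563 = N6529 := trfs L53079 L35824 rfl
theorem L53091 : N6529 = N2494 := eqes L53090 L25001
theorem L53092 : N6529 = N2494 := eqc rfl L53091 rfl
theorem L53096 : sm gc N2494 = N3668 := trfs L53092 L35821 rfl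
theorem L53097 : N3668 = N1274 := eqes L53096 L13163
theorem L53098 : N3668 = N1274 := eqc rfl L53097 rfl
theorem L53102 : sm gb N1274 = N6526 := trfs L53098 L35799 rfl
theorem L53103 : N6526 = N2478 := eqes L53102 L13065
theorem L53104 : N6526 = N2478 := eqc rfl L53103 rfl
theorem L53114 : sm gg N1274 = N6532 := trfs L53098 L35834 rfl
theorem L53115 : N6532 = N2492 := eqes L53114 L13155
theorem L53116 : N6532 = N2492 := eqc rfl L53115 rfl
theorem L53117 : sm ga N2492 = N3681 := trfs L53116 L35836 rfl
theorem L53118 : N3681 = N1316 := eqes L53117 L13152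
theorem L53119 : N3681 = N1316 := eqc rfl L53118 rfl
theorem L53120 : sm gb N1316 = N1316 := trfs L53119 L19749 L53119
theorem L53121 : N1316 = N2538 := eqes L53120 L13430
theorem L53122 : N2538 = N1316 := (eqc rfl L53121 rfl).symm
theorem L53132 : sm gf N1316 = N6556 := trfs L53119 L35973 rfl
theorem L53133 : N6556 = N2572 := eqes L53132 L13561
theorem L53134 : N6556 = N2572 := eqc rfl L53133 rfl
theorem L53136 : sm gb N2572 = N2572 := trfs L53134 L35975 L53134
theorem L53137 : N2572 = N4650 := eqes L53136 L25530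
theorem L53138 : N4650 = N2572 := (eqc rfl L53137 rfl).symm
theorem L53142 : sm gg N2572 = N6551 := trfs L53134 L35978 rfl
theorem L53143 : N6551 = N2561 := eqes L53142 L13563
theorem L53144 : N6551 = N2561 := eqc rfl L53143 rfl
theorem L53145 : sm gb N2561 = N2561 := trfs L53144 L35950 L53144
theorem L53146 : N2561 = N4639 := eqes L53145 L25472
theorem L53147 : N4639 = N2561 := (eqc rfl L53146 rfl).symm
theorem L53151 : sm gf N2561 = N3679 := trfs L53144 L35949 rfl
theorem L53152 : N3679 = N1319 := eqes L53151 L13523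
theorem L53153 : N3679 = N1319 := eqc rfl L53152 rfl
theorem L53155 : sm gb N1319 = N1319 := trfs L53153 L19743 L53153
theorem L53156 : N1319 = N2541 := eqes L53155 L13446
theorem L53157 : N2541 = N1319 := (eqc rfl L53156 rfl).symm
theorem L53161 : sm gd N1319 = N6550 := trfs L53153 L35943 rfl
theorem L53162 : N6550 = N2577 := eqes L53161 L13595
theorem L53163 : N6550 = N2577 := eqc rfl L53162 rfl
theorem L53166 : sm gb N2577 = N2577 := trfs L53163 L35945 L53163
theorem L53167 : N2577 = N4655 := eqes L53166 L25578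
theorem L53168 : N4655 = N2577 := (eqc rfl L53167 rfl).symm
theorem L53169 : sm ge N2577 = N3682 := trfs L53163 L35946 rfl
theorem L53170 : N3682 = N1316 := eqes L53169 L13589
theorem L53171 : N3682 = N1316 := eqc rfl L53170 rfl
theorem L53172 : sm ga N1316 = N2478 := trfs L53171 L35797 L53104
theorem L53173 : N2478 = N2492 := eqes L53172 L13153
theorem L53174 : N2492 = N2478 := (eqc rfl L53173 rfl).symm
theorem L53186 : sm gg N1316 = N6559 := trfs L53171 L35985 rfl
theorem L53187 : N6559 = N655 := eqes L53186 L6764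
theorem L53188 : N6559 = N655 := eqc rfl L53187 rfl
theorem L53189 : sm gb N655 = N655 := trfs L53188 L35987 L53188
theorem L53190 : N655 = N1298 := eqes L53189 L6687
theorem L53191 : N1298 = N655 := (eqc rfl L53190 rfl).symm
theorem L53192 : sm ga N655 = N2521 := trfs L53191 L13332 rfl
theorem L53193 : N2521 = N1274 := eqes L53192 L6518
theorem L53194 : N2521 = N1274 := eqc rfl L53193 rfl
theorem L53195 : sm gb N655 = N655 := trfs L53191 L6686 rfl
theorem L53196 : sm gc N655 = N2540 := trfs L53191 L13441 rfl
theorem L53197 : N2540 = N1318 := eqes L53196 L6770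
theorem L53198 : N2540 = N1318 := eqc rfl L53197 rfl
theorem L53199 : sm gd N655 = N646 := trfs L53191 L6685 rfl
theorem L53200 : N646 = N327 := eqes L53199 L3389
theorem L53201 : N646 = N327 := eqc rfl L53200 rfl
theorem L53203 : sm gf N655 = N2531 := trfs L53191 L13388 rfl
theorem L53204 : N2531 = N1309 := eqes L53203 L6741
theorem L53205 : N2531 = N1309 := eqc rfl L53204 rfl
theorem L53210 : sm gb N1309 = N1309 := trfs L53205 L13385 rfl
theorem L53214 : sm gd N1309 = N1293 := trfs L53205 L13384 rfl
theorem L53215 : N1293 = N650 := eqes L53214 L6739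
theorem L53216 : N1293 = N650 := eqc rfl L53215 rfl
theorem L53218 : sm gg N1309 = N4640 := trfs L53205 L25475 rfl
theorem L53219 : N4640 = N2562 := eqes L53218 L13525
theorem L53220 : N4640 = N2562 := eqc rfl L53219 rfl
theorem L53221 : sm gb N2562 = N2562 := trfs L53220 L25477 rfl
theorem L53227 : sm gb N650 = N650 := trfs L53216 L6652 rfl
theorem L53231 : sm ge N650 = N2529 := trfs L53216 L13376 rfl
theorem L53232 : N2529 = N1307 := eqes L53231 L6733
theorem L53233 : N2529 = N1307 := eqc rfl L53232 rfl
theorem L53234 : sm gf N650 = N644 := trfs L53216 L6651 rfl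
theorem L53235 : N644 = N325 := eqes L53234 L3371
theorem L53236 : N644 = N325 := eqc rfl L53235 rfl
theorem L53237 : sm gg N650 = N2532 := trfs L53216 L13389 rfl
theorem L53238 : N2532 = N1310 := eqes L53237 L6742
theorem L53239 : N2532 = N1310 := eqc rfl L53238 rfl
theorem L53243 : sm gb N1310 = N1310 := trfs L53239 L13391 rfl
theorem L53247 : sm gd N1310 = N4641 := trfs L53239 L25479 rfl
theorem L53248 : N4641 = N2563 := eqes L53247 L13527
theorem L53249 : N4641 = N2563 := eqc rfl L53248 rfl
theorem L53250 : sm ge N1310 = N2534 := trfs L53239 L13406 rfl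
theorem L53251 : N2534 = N1312 := eqes L53250 L6753
theorem L53252 : N2534 = N1312 := eqc rfl L53251 rfl
theorem L53253 : sm gf N1310 = N2530 := trfs L53239 L13394 rfl
theorem L53254 : N2530 = N1308 := eqes L53253 L6745
theorem L53255 : N2530 = N1308 := eqc rfl L53254 rfl
theorem L53259 : sm gb N1308 = N1308 := trfs L53255 L13379 rfl
theorem L53263 : sm gd N1308 = N4637 := trfs L53255 L25461 rfl
theorem L53264 : N4637 = N2559 := eqes L53263 L13515
theorem L53265 : N4637 = N2559 := eqc rfl L53264 rfl
theorem L53266 : sm ge N1308 = N1294 := trfs L53255 L13381 rfl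
theorem L53267 : N1294 = N651 := eqes L53266 L6736
theorem L53268 : N1294 = N651 := eqc rfl L53267 rfl
theorem L53269 : sm gg N1308 = N1292 := trfs L53255 L13378 rfl
theorem L53270 : N1292 = N649 := eqes L53269 L6735
theorem L53271 : N1292 = N649 := eqc rfl L53270 rfl
theorem L53272 : sm ga N649 = N2518 := trfs L53271 L13312 rfl
theorem L53273 : N2518 = N1268 := eqes L53272 L6486
theorem L53274 : N2518 = N1268 := eqc rfl L53273 rfl
theorem L53275 : sm gb N649 = N649 := trfs L53271 L6648 rfl
theorem L53279 : sm gd N649 = N2528 := trfs L53271 L13363 rfl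
theorem L53280 : N2528 = N1306 := eqes L53279 L6726
theorem L53281 : N2528 = N1306 := eqc rfl L53280 rfl
theorem L53284 : sm ga N1306 = N2475 := trfs L53281 L13365 rfl
theorem L53285 : N2475 = N2482 := eqes L53284 L13097
theorem L53286 : N2482 = N2475 := (eqc rfl L53285 rfl).symm
theorem L53287 : sm gb N1306 = N1306 := trfs L53281 L13367 rfl
theorem L53291 : sm ge N1306 = N1295 := trfs L53281 L13369 rfl
theorem L53292 : N1295 = N652 := eqes L53291 L6728
theorem L53293 : N1295 = N652 := eqc rfl L53292 rfl
theorem L53294 : sm gf N1306 = N4634 := trfs L53281 L25441 rfl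
theorem L53295 : N4634 = N2556 := eqes L53294 L13505
theorem L53296 : N4634 = N2556 := eqc rfl L53295 rfl
theorem L53297 : sm gg N1306 = N4635 := trfs L53281 L25449 rfl
theorem L53298 : N4635 = N2557 := eqes L53297 L13509
theorem L53299 : N4635 = N2557 := eqc rfl L53298 rfl
theorem L53300 : sm ga N2557 = N4530 := trfs L53299 L25451 rfl
theorem L53301 : N4530 = N4540 := eqes L53300 L24863
theorem L53302 : N4540 = N4530 := (eqc rfl L53301 rfl).symm
theorem L53303 : sm gb N2557 = N2557 := trfs L53299 L25453 rfl
theorem L53304 : sm ge N2557 = N2537 := trfs L53299 L25455 rfl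
theorem L53305 : N2537 = N1315 := eqes L53304 L13511
theorem L53306 : N2537 = N1315 := eqc rfl L53305 rfl
theorem L53307 : sm gf N2557 = N4651 := trfs L53299 L25543 rfl
theorem L53308 : N4651 = N2573 := eqes L53307 L13568
theorem L53309 : N4651 = N2573 := eqc rfl L53308 rfl
theorem L53310 : sm ga N2573 = N4532 := trfs L53309 L25539 rfl
theorem L53311 : N4532 = N4555 := eqes L53310 L24945
theorem L53312 : N4555 = N4532 := (eqc rfl L53311 rfl).symm
theorem L53313 : sm gb N2573 = N2573 := trfs L53309 L25541 rfl
theorem L53314 : sm ge N2573 = N4653 := trfs L53309 L25564 rfl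
theorem L53315 : N4653 = N2575 := eqes L53314 L13581
theorem L53316 : N4653 = N2575 := eqc rfl L53315 rfl
theorem L53317 : sm gg N2573 = N2536 := trfs L53309 L25538 rfl
theorem L53318 : N2536 = N1314 := eqes L53317 L13567
theorem L53319 : N2536 = N1314 := eqc rfl L53318 rfl
theorem L53320 : sm ga N1314 = N2476 := trfs L53319 L13415 rfl
theorem L53321 : N2476 = N2490 := eqes L53320 L13145
theorem L53322 : N2490 = N2476 := (eqc rfl L53321 rfl).symm
theorem L53323 : sm gb N1314 = N1314 := trfs L53319 L13417 rfl
theorem L53324 : sm gc N1314 = N4648 := trfs L53319 L25518 rfl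
theorem L53325 : N4648 = N2570 := eqes L53324 L13553
theorem L53326 : N4648 = N2570 := eqc rfl L53325 rfl
theorem L53330 : sm ga N2570 = N4527 := trfs L53326 L25515 rfl
theorem L53331 : N4527 = N4552 := eqes L53330 L24923
theorem L53332 : N4552 = N4527 := (eqc rfl L53331 rfl).symm
theorem L53333 : sm gf N2570 = N2535 := trfs L53326 L25514 rfl
theorem L53334 : N2535 = N1313 := eqes L53333 L13551
theorem L53335 : N2535 = N1313 := eqc rfl L53334 rfl
theorem L53336 : sm ga N1313 = N2474 := trfs L53335 L13411 rfl
theorem L53337 : N2474 = N2489 := eqes L53336 L13141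
theorem L53338 : N2489 = N2474 := (eqc rfl L53337 rfl).symm
theorem L53339 : sm gb N1313 = N4646 := trfs L53335 L25501 rfl
theorem L53340 : N4646 = N2568 := eqes L53339 L13541
theorem L53341 : N4646 = N2568 := eqc rfl L53340 rfl
theorem L53347 : sm gg N1313 = N4649 := trfs L53335 L25519 rfl
theorem L53348 : N4649 = N2571 := eqes L53347 L13554
theorem L53349 : N4649 = N2571 := eqc rfl L53348 rfl
theorem L53350 : sm ga N2571 = N4528 := trfs L53349 L25521 rfl
theorem L53351 : N4528 = N4553 := eqes L53350 L24929
theorem L53352 : N4553 = N4528 := (eqc rfl L53351 rfl).symm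
theorem L53354 : sm ga N4528 = N2571 := trfs L53352 L24928 rfl
theorem L53355 : sm ga N2571 = N4528 := flp_a L53354
theorem L53356 : sm gc N4528 = N2491 := trfs L53352 L24930 rfl
theorem L53357 : N2491 = N2477 := eqes L53356 L24802
theorem L53358 : N2491 = N2477 := eqc rfl L53357 rfl
theorem L53359 : sm ge N4528 = N5239 := trfs L53352 L28855 rfl
theorem L53360 : sm ge N5239 = N4528 := flp_e L53359
theorem L53367 : sm gd N2477 = N4556 := trfs L53358 L24948 rfl
theorem L53368 : N4556 = N4533 := eqes L53367 L24828
theorem L53369 : N4556 = N4533 := eqc rfl L53368 rfl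
theorem L53371 : sm gf N2477 = N4557 := trfs L53358 L24958 rfl
theorem L53372 : N4557 = N4534 := eqes L53371 L24834
theorem L53373 : N4557 = N4534 := eqc rfl L53372 rfl
theorem L53374 : sm gg N2477 = N1271 := trfs L53358 L13147 rfl
theorem L53375 : N1271 = N1265 := eqes L53374 L13059
theorem L53376 : N1271 = N1265 := eqc rfl L53375 rfl
theorem L53379 : sm gb N1265 = N1288 := trfs L53376 L6623 rfl
theorem L53380 : N1288 = N631 := eqes L53379 L6469
theorem L53381 : N1288 = N631 := eqc rfl L53380 rfl
theorem L53383 : sm gd N1265 = N632 := trfs L53376 L6496 rfl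
theorem L53384 : N632 = N630 := eqes L53383 L6468
theorem L53385 : N632 = N630 := eqc rfl L53384 rfl
theorem L53388 : sm ga N630 = N326 := trfs L53385 L3254 rfl
theorem L53389 : N326 = N645 := eqes L53388 L3349
theorem L53390 : N645 = N326 := (eqc rfl L53389 rfl).symm
theorem L53391 : sm gb N630 = N643 := trfs L53385 L3339 rfl
theorem L53392 : N643 = N319 := eqes L53391 L3245
theorem L53393 : N643 = N319 := eqc rfl L53392 rfl
theorem L53394 : sm gc N630 = N320 := trfs L53385 L3256 rfl
theorem L53395 : N320 = N358 := eqes L53394 L3246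
theorem L53396 : N358 = N320 := (eqc rfl L53395 rfl).symm
theorem L53399 : sm gf N630 = N1272 := trfs L53385 L6499 rfl
theorem L53400 : N1272 = N1266 := eqes L53399 L6471
theorem L53401 : N1272 = N1266 := eqc rfl L53400 rfl
theorem L53402 : sm gg N630 = N1273 := trfs L53385 L6507 rfl
theorem L53403 : N1273 = N1267 := eqes L53402 L6477
theorem L53404 : N1273 = N1267 := eqc rfl L53403 rfl
theorem L53405 : sm ga N1267 = N654 := trfs L53404 L6509 rfl
theorem L53406 : N654 = N1297 := eqes L53405 L6677
theorem L53407 : N1297 = N654 := (eqc rfl L53406 rfl).symm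
theorem L53408 : sm gb N1267 = N1290 := trfs L53404 L6639 rfl
theorem L53409 : N1290 = N634 := eqes L53408 L6479
theorem L53410 : N1290 = N634 := eqc rfl L53409 rfl
theorem L53413 : sm gd N1267 = N2493 := trfs L53404 L13156 rfl
theorem L53414 : N2493 = N2480 := eqes L53413 L13076
theorem L53415 : N2493 = N2480 := eqc rfl L53414 rfl
theorem L53418 : sm gf N1267 = N1275 := trfs L53404 L6525 rfl
theorem L53419 : N1275 = N2481 := eqes L53418 L13080
theorem L53420 : N2481 = N1275 := (eqc rfl L53419 rfl).symm
theorem L53421 : sm ga N1275 = N1299 := trfs L53420 L13082 rfl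
theorem L53422 : N1299 = N656 := eqes L53421 L6521
theorem L53423 : N1299 = N656 := eqc rfl L53422 rfl
theorem L53424 : sm gb N1275 = N1277 := trfs L53420 L13084 rfl
theorem L53425 : N1277 = N2479 := eqes L53424 L13071
theorem L53426 : N2479 = N1277 := (eqc rfl L53425 rfl).symm
theorem L53432 : sm gf N1275 = N1267 := trfs L53420 L13081 rfl
theorem L53433 : sm gf N1267 = N1275 := flp_f L53432
theorem L53434 : sm gg N1275 = N1289 := trfs L53420 L13090 rfl
theorem L53435 : N1289 = N633 := eqes L53434 L6520
theorem L53436 : N1289 = N633 := eqc rfl L53435 rfl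
theorem L53439 : sm gc N633 = N671 := trfs L53436 L6630 rfl
theorem L53440 : N671 = N321 := eqes L53439 L3262
theorem L53441 : N671 = N321 := eqc rfl L53440 rfl
theorem L53448 : sm gd N321 = N1348 := trfs L53441 L6915 rfl
theorem L53472 : sm gb N1277 = N1275 := trfs L53426 L13070 rfl
theorem L53473 : sm gb N1275 = N1277 := flp_b L53472
theorem L53478 : sm gb N656 = N656 := trfs L53423 L6690 rfl
theorem L53484 : sm ga N2480 = N1317 := trfs L53415 L13158 rfl
theorem L53485 : N1317 = N2539 := eqes L53484 L13436
theorem L53486 : N2539 = N1317 := (eqc rfl L53485 rfl).symm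
theorem L53487 : sm gb N2480 = N2522 := trfs L53415 L13342 rfl
theorem L53488 : N2522 = N1276 := eqes L53487 L13078
theorem L53489 : N2522 = N1276 := eqc rfl L53488 rfl
theorem L53490 : sm gc N2480 = N4560 := trfs L53415 L24982 rfl
theorem L53491 : N4560 = N4537 := eqes L53490 L24848
theorem L53492 : N4560 = N4537 := eqc rfl L53491 rfl
theorem L53493 : sm ge N2480 = N4561 := trfs L53415 L24988 rfl
theorem L53494 : N4561 = N4538 := eqes L53493 L24850
theorem L53495 : N4561 = N4538 := eqc rfl L53494 rfl
theorem L53499 : sm ga N4538 = N2579 := trfs L53495 L24990 rfl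
theorem L53500 : N2579 = N4657 := eqes L53499 L25594
theorem L53501 : N4657 = N2579 := (eqc rfl L53500 rfl).symm
theorem L53502 : sm gb N4538 = N4616 := trfs L53495 L25358 rfl
theorem L53503 : N4616 = N2497 := eqes L53502 L24852
theorem L53504 : N4616 = N2497 := eqc rfl L53503 rfl
theorem L53509 : sm gg N4538 = N4549 := trfs L53495 L24994 rfl
theorem L53510 : sm gg N4549 = N4538 := flp_g L53509
theorem L53511 : sm ga N2497 = N2543 := trfs L53504 L25355 rfl
theorem L53512 : N2543 = N1321 := eqes L53511 L13176
theorem L53513 : N2543 = N1321 := eqc rfl L53512 rfl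
theorem L53514 : sm gd N2497 = N4538 := trfs L53504 L25361 rfl
theorem L53515 : sm gd N4538 = N2497 := flp_d L53514
theorem L53517 : sm gf N2497 = N4538 := trfs L53504 L25359 rfl
theorem L53518 : sm gf N4538 = N2497 := flp_f L53517
theorem L53519 : sm gb N1321 = N1321 := trfs L53513 L13451 rfl
theorem L53524 : sm ge N1321 = N1300 := trfs L53513 L13450 rfl
theorem L53525 : N1300 = N657 := eqes L53524 L6777
theorem L53526 : N1300 = N657 := eqc rfl L53525 rfl
theorem L53528 : sm gg N1321 = N4643 := trfs L53513 L25492 rfl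
theorem L53529 : N4643 = N2565 := eqes L53528 L13536
theorem L53530 : N4643 = N2565 := eqc rfl L53529 rfl
theorem L53531 : sm gb N2565 = N2565 := trfs L53530 L25489 rfl
theorem L53532 : sm ge N2565 = N2533 := trfs L53530 L25488 rfl
theorem L53533 : N2533 = N1311 := eqes L53532 L13534
theorem L53534 : N2533 = N1311 := eqc rfl L53533 rfl
theorem L53535 : sm gf N2565 = N4652 := trfs L53530 L25555 rfl
theorem L53536 : N4652 = N2574 := eqes L53535 L13575
theorem L53537 : N4652 = N2574 := eqc rfl L53536 rfl
theorem L53540 : sm gb N2574 = N2574 := trfs L53537 L25549 rfl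
theorem L53542 : sm ge N2574 = N4644 := trfs L53537 L25554 rfl
theorem L53543 : N4644 = N2566 := eqes L53542 L13576
theorem L53544 : N4644 = N2566 := eqc rfl L53543 rfl
theorem L53546 : sm gb N2566 = N2566 := trfs L53544 L25495 rfl
theorem L53552 : sm gb N1311 = N1311 := trfs L53534 L13397 rfl
theorem L53553 : sm gc N1311 = N4642 := trfs L53534 L25483 rfl
theorem L53554 : N4642 = N2564 := eqes L53553 L13529
theorem L53555 : N4642 = N2564 := eqc rfl L53554 rfl
theorem L53558 : sm gg N2564 = N2542 := trfs L53555 L25485 rfl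
theorem L53559 : N2542 = N1320 := eqes L53558 L13531
theorem L53560 : N2542 = N1320 := eqc rfl L53559 rfl
theorem L53564 : sm gb N1320 = N4661 := trfs L53560 L25613 rfl
theorem L53565 : N4661 = N2583 := eqes L53564 L13616
theorem L53566 : N4661 = N2583 := eqc rfl L53565 rfl
theorem L53578 : sm gc N2583 = N2583 := trfs L53566 L25615 rfl
theorem L53586 : sm gb N657 = N657 := trfs L53526 L6698 rfl
theorem L53589 : sm ga N2579 = N4538 := trfs L53501 L25593 rfl
theorem L53590 : sm ga N4538 = N2579 := flp_a L53589
theorem L53591 : sm gb N2579 = N2579 := trfs L53501 L25595 rfl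
theorem L53593 : sm ga N4537 = N2578 := trfs L53492 L24984 rfl
theorem L53594 : sm ga N2578 = N4537 := flp_a L53593
theorem L53595 : sm gf N4537 = N2496 := trfs L53492 L24986 rfl
theorem L53596 : sm gf N2496 = N4537 := flp_f L53595
theorem L53598 : sm gf N1276 = N2480 := trfs L53489 L13343 rfl
theorem L53599 : sm gf N2480 = N1276 := flp_f L53598
theorem L53600 : sm ga N1317 = N2480 := trfs L53486 L13435 rfl
theorem L53601 : sm ga N2480 = N1317 := flp_a L53600
theorem L53602 : sm gb N1317 = N1317 := trfs L53486 L13437 rfl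
theorem L53606 : sm ge N634 = N1267 := trfs L53410 L6642 rfl
theorem L53607 : sm ge N1267 = N634 := flp_e L53606
theorem L53609 : sm ga N654 = N1267 := trfs L53407 L6676 rfl
theorem L53610 : sm ga N1267 = N654 := flp_a L53609
theorem L53611 : sm gb N654 = N654 := trfs L53407 L6678 rfl
theorem L53620 : sm ge N1266 = N633 := trfs L53401 L6505 rfl
theorem L53621 : sm ge N633 = N1266 := flp_e L53620
theorem L53622 : sm gg N1266 = N1277 := trfs L53401 L6540 rfl
theorem L53623 : sm gg N1277 = N1266 := flp_g L53622
theorem L53626 : sm gc N320 = N630 := trfs L53396 L3247 rfl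
theorem L53627 : sm gc N630 = N320 := flp_c L53626
theorem L53635 : sm ge N319 = N630 := trfs L53393 L3341 rfl
theorem L53636 : sm ge N630 = N319 := flp_e L53635
theorem L53637 : sm ga N326 = N630 := trfs L53390 L3348 rfl
theorem L53638 : sm ga N630 = N326 := flp_a L53637
theorem L53639 : sm gb N326 = N326 := trfs L53390 L3350 rfl
theorem L53645 : sm gc N631 = N2517 := trfs L53381 L13305 rfl
theorem L53646 : N2517 = N748 := eqes L53645 L3845
theorem L53647 : N2517 = N748 := eqc rfl L53646 rfl
theorem L53660 : sm ge N748 = N4604 := trfs L53647 L25263 rfl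
theorem L53661 : N4604 = N1503 := eqes L53660 L7745
theorem L53662 : N4604 = N1503 := eqc rfl L53661 rfl
theorem L53666 : sm gg N748 = N4606 := trfs L53647 L25275 rfl
theorem L53667 : N4606 = N1505 := eqes L53666 L7757
theorem L53668 : N4606 = N1505 := eqc rfl L53667 rfl
theorem L53669 : sm ga N1505 = N2527 := trfs L53668 L25277 rfl
theorem L53670 : N2527 = N1305 := eqes L53669 L7759
theorem L53671 : N2527 = N1305 := eqc rfl L53670 rfl
theorem L53673 : sm gb N1305 = N4621 := trfs L53671 L25386 rfl
theorem L53674 : N4621 = N2547 := eqes L53673 L13466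
theorem L53675 : N4621 = N2547 := eqc rfl L53674 rfl
theorem L53693 : sm gc N2547 = N2547 := trfs L53675 L25387 rfl
theorem L53694 : sm gg N2547 = N2523 := trfs L53675 L25384 rfl
theorem L53695 : N2523 = N1302 := eqes L53694 L13464
theorem L53696 : N2523 = N1302 := eqc rfl L53695 rfl
theorem L53697 : sm ga N1302 = N4617 := trfs L53696 L25363 rfl
theorem L53698 : N4617 = N2544 := eqes L53697 L13453
theorem L53699 : N4617 = N2544 := eqc rfl L53698 rfl
theorem L53701 : sm gc N1302 = N1302 := trfs L53696 L13347 rfl
theorem L53702 : sm gd N1302 = N4618 := trfs L53696 L25367 rfl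
theorem L53703 : N4618 = N1469 := eqes L53702 L7562
theorem L53704 : N4618 = N1469 := eqc rfl L53703 rfl
theorem L53705 : sm ge N1302 = N4619 := trfs L53696 L25371 rfl
theorem L53706 : N4619 = N2545 := eqes L53705 L13455
theorem L53707 : N4619 = N2545 := eqc rfl L53706 rfl
theorem L53708 : sm gf N1302 = N4620 := trfs L53696 L25377 rfl
theorem L53709 : N4620 = N2546 := eqes L53708 L13459
theorem L53710 : N4620 = N2546 := eqc rfl L53709 rfl
theorem L53712 : sm gc N2546 = N2546 := trfs L53710 L25381 rfl
theorem L53715 : sm gc N2545 = N2545 := trfs L53707 L25375 rfl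
theorem L53716 : sm gb N1469 = N2524 := trfs L53704 L25369 rfl
theorem L53717 : N2524 = N736 := eqes L53716 L7560
theorem L53718 : N2524 = N736 := eqc rfl L53717 rfl
theorem L53720 : sm gc N736 = N4622 := trfs L53718 L25389 rfl
theorem L53721 : N4622 = N374 := eqes L53720 L3788
theorem L53722 : N4622 = N374 := eqc rfl L53721 rfl
theorem L53736 : sm gd N374 = N4261 := trfs L53722 L25393 rfl
theorem L53737 : N4261 = N185 := eqes L53736 L1926
theorem L53738 : N4261 = N185 := eqc rfl L53737 rfl
theorem L53742 : sm gc N185 = N2300 := trfs L53738 L23259 rfl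
theorem L53743 : N2300 = N91 := eqes L53742 L949
theorem L53744 : N2300 = N91 := eqc rfl L53743 rfl
theorem L53760 : sm gg N91 = N4264 := trfs L53744 L23276 rfl
theorem L53761 : N4264 = N187 := eqes L53760 L964
theorem L53762 : N4264 = N187 := eqc rfl L53761 rfl
theorem L53766 : sm gb N187 = N4242 := trfs L53762 L23280 rfl
theorem L53767 : N4242 = N99 := eqes L53766 L968
theorem L53768 : N4242 = N99 := eqc rfl L53767 rfl
theorem L53769 : sm ga N99 = N2327 := trfs L53768 L23162 rfl
theorem L53770 : N2327 = N99 := eqes L53769 L531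
theorem L53771 : N2327 = N99 := eqc rfl L53770 rfl
theorem L53788 : sm gg N99 = N1174 := trfs L53771 L12222 rfl
theorem L53789 : N1174 = N48 := eqes L53788 L530
theorem L53790 : N1174 = N48 := eqc rfl L53789 rfl
theorem L53804 : sm gf N48 = N2326 := trfs L53790 L12219 rfl
theorem L53805 : N2326 = N21 := eqes L53804 L245
theorem L53806 : N2326 = N21 := eqc rfl L53805 rfl
theorem L53816 : sm gd N21 = N4316 := trfs L53806 L23511 rfl
theorem L53817 : N4316 = N9 := eqes L53816 L107
theorem L53818 : N4316 = N9 := eqc rfl L53817 rfl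
theorem L53835 : sm gg N9 = N4305 := trfs L53818 L23516 rfl
theorem L53836 : N4305 = N9 := eqes L53835 L55
theorem L53837 : N4305 = N9 := eqc rfl L53836 rfl
theorem L53841 : sm gf N9 = N2331 := trfs L53837 L23476 rfl
theorem L53842 : N2331 = N23 := eqes L53841 L115
theorem L53843 : N2331 = N23 := eqc rfl L53842 rfl
theorem L53856 : sm ge N23 = N1177 := trfs L53843 L12234 rfl
theorem L53857 : N1177 = N51 := eqes L53856 L260
theorem L53858 : N1177 = N51 := eqc rfl L53857 rfl
theorem L53869 : sm gd N51 = N581 := trfs L53858 L6000 rfl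
theorem L53870 : N581 = N23 := eqes L53869 L264
theorem L53871 : N581 = N23 := eqc rfl L53870 rfl
theorem L53889 : sm gg N23 = N1178 := trfs L53871 L6001 rfl
theorem L53890 : N1178 = N51 := eqes L53889 L262
theorem L53891 : N1178 = N51 := eqc rfl L53890 rfl
theorem L53905 : sm gf N51 = N1176 := trfs L53891 L6006 rfl
theorem L53906 : N1176 = N22 := eqes L53905 L255
theorem L53907 : N1176 = N22 := eqc rfl L53906 rfl
theorem L53920 : sm ge N22 = N582 := trfs L53907 L5997 rfl
theorem L53921 : N582 = N9 := eqes L53920 L110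
theorem L53922 : N582 = N9 := eqc rfl L53921 rfl
theorem L53929 : sm gd N9 = N1179 := trfs L53922 L6007 rfl
theorem L53930 : N1179 = N21 := eqes L53929 L106
theorem L53931 : N1179 = N21 := eqc rfl L53930 rfl
theorem L53947 : sm gg N21 = N2323 := trfs L53931 L12210 rfl
theorem L53948 : N2323 = N46 := eqes L53947 L282
theorem L53949 : N2323 = N46 := eqc rfl L53948 rfl
theorem L53959 : sm gd N46 = N1173 := trfs L53949 L12208 rfl
theorem L53960 : N1173 = N46 := eqes L53959 L240
theorem L53961 : N1173 = N46 := eqc rfl L53960 rfl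
theorem L53990 : sm gg N46 = N579 := trfs L53961 L5984 rfl
theorem L53991 : N579 = N21 := eqes L53990 L281
theorem L53992 : N579 = N21 := eqc rfl L53991 rfl
theorem L54004 : sm gf N21 = N1172 := trfs L53992 L5981 rfl
theorem L54005 : N1172 = N48 := eqes L54004 L244
theorem L54006 : N1172 = N48 := eqc rfl L54005 rfl
theorem L54020 : sm gg N48 = N2322 := trfs L54006 L12203 rfl
theorem L54021 : N2322 = N99 := eqes L54020 L529
theorem L54022 : N2322 = N99 := eqc rfl L54021 rfl
theorem L54029 : sm gc N99 = N4296 := trfs L54022 L23439 rfl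
theorem L54030 : N4296 = N98 := eqes L54029 L532
theorem L54031 : N4296 = N98 := eqc rfl L54030 rfl
theorem L54040 : sm gf N98 = N4294 := trfs L54031 L23441 rfl
theorem L54041 : N4294 = N47 := eqes L54040 L526
theorem L54042 : N4294 = N47 := eqc rfl L54041 rfl
theorem L54046 : sm gg N47 = N2315 := trfs L54042 L23429 rfl
theorem L54047 : N2315 = N96 := eqes L54046 L514
theorem L54048 : N2315 = N96 := eqc rfl L54047 rfl
theorem L54049 : sm ga N96 = N4230 := trfs L54048 L23093 rfl
theorem L54050 : N4230 = N96 := eqes L54049 L510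
theorem L54051 : N4230 = N96 := eqc rfl L54050 rfl
theorem L54115 : sm gc N96 = N2282 := trfs L54051 L23094 rfl
theorem L54116 : N2282 = N47 := eqes L54115 L511
theorem L54117 : N2282 = N47 := eqc rfl L54116 rfl
theorem L54119 : sm gb N47 = N4222 := trfs L54117 L23045 rfl
theorem L54120 : N4222 = N94 := eqes L54119 L502
theorem L54121 : N4222 = N94 := eqc rfl L54120 rfl
theorem L54150 : sm ge N94 = N2278 := trfs L54121 L23043 rfl
theorem L54151 : N2278 = N44 := eqes L54150 L500
theorem L54152 : N2278 = N44 := eqc rfl L54151 rfl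
theorem L54158 : sm gd N44 = N1153 := trfs L54152 L11942 rfl
theorem L54159 : N1153 = N20 := eqes L54158 L230
theorem L54160 : N1153 = N20 := eqc rfl L54159 rfl
theorem L54184 : sm gg N20 = N2280 := trfs L54160 L11951 rfl
theorem L54185 : N2280 = N20 := eqes L54184 L105
theorem L54186 : N2280 = N20 := eqc rfl L54185 rfl
theorem L54198 : sm gf N20 = N4228 := trfs L54186 L23072 rfl
theorem L54199 : N4228 = N45 := eqes L54198 L233
theorem L54200 : N4228 = N45 := eqc rfl L54199 rfl
theorem L54212 : sm gg N45 = N2301 := trfs L54200 L23082 rfl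
theorem L54213 : N2301 = N92 := eqes L54212 L494
theorem L54214 : N2301 = N92 := eqc rfl L54213 rfl
theorem L54219 : sm gc N92 = N1191 := trfs L54214 L12091 rfl
theorem L54220 : N1191 = N161 := eqes L54219 L846
theorem L54221 : N1191 = N161 := eqc rfl L54220 rfl
theorem L54249 : sm gd N161 = N2356 := trfs L54221 L12365 rfl
theorem L54250 : N2356 = N323 := eqes L54249 L1664
theorem L54251 : N2356 = N323 := eqc rfl L54250 rfl
theorem L54267 : sm gf N323 = N1348 := trfs L54251 L12371 rfl
theorem L54268 : N1348 = N484 := eqes L54267 L47186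
theorem L54269 : N1348 = N481 := eqc rfl L54268 L47193
theorem L54270 : sm gg N323 = N2366 := trfs L54251 L12433 rfl
theorem L54271 : N2366 = N642 := eqes L54270 L3326
theorem L54272 : N2366 = N335 := eqc rfl L54271 L44460
theorem L54278 : sm gc N335 = N4387 := trfs L54272 L23856 rfl
theorem L54279 : N4387 = N668 := eqes L54278 L3456
theorem L54280 : N4387 = N668 := eqc rfl L54279 rfl
theorem L54290 : sm ge N668 = N2365 := trfs L54280 L23854 rfl
theorem L54291 : N2365 = N334 := eqes L54290 L3454
theorem L54292 : N2365 = N334 := eqc rfl L54291 rfl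
theorem L54303 : sm gf N334 = N1357 := trfs L54292 L12425 rfl
theorem L54304 : N1357 = N661 := eqes L54303 L3420
theorem L54305 : N1357 = N417 := eqc rfl L54304 L51719
theorem L54319 : sm ge N417 = N2657 := trfs L54305 L13958 rfl
theorem L54320 : N2657 = N824 := eqes L54319 L4239
theorem L54321 : N2657 = N824 := eqc rfl L54320 rfl
theorem L54328 : sm gb N824 = N4877 := trfs L54321 L26687 rfl
theorem L54329 : N4877 = N419 := eqes L54328 L4243
theorem L54330 : N4877 = N419 := eqc rfl L54329 rfl
theorem L54346 : sm gg N419 = N4875 := trfs L54330 L26690 rfl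
theorem L54347 : N4875 = N395 := eqes L54346 L51624
theorem L54348 : N4875 = N395 := eqc rfl L54347 rfl
theorem L54351 : sm gc N395 = N2679 := trfs L54348 L26672 rfl
theorem L54352 : N2679 = N199 := eqes L54351 L2073
theorem L54353 : N2679 = N199 := eqc rfl L54352 rfl
theorem L54368 : sm gf N199 = N4406 := trfs L54353 L23986 rfl
theorem L54369 : N4406 = N391 := eqes L54368 L2045
theorem L54370 : N4406 = N391 := eqc rfl L54369 rfl
theorem L54380 : sm ge N391 = N4915 := trfs L54370 L26930 rfl
theorem L54381 : N4915 = N771 := eqes L54380 L3971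
theorem L54382 : N4915 = N423 := eqc rfl L54381 L43570
theorem L54391 : sm gg N423 = N4407 := trfs L54382 L26931 rfl
theorem L54392 : N4407 = N410 := eqes L54391 L2222
theorem L54393 : N4407 = N410 := eqc rfl L54392 rfl
theorem L54396 : sm gb N410 = N2379 := trfs L54393 L23993 rfl
theorem L54397 : N2379 = N224 := eqes L54396 L2158
theorem L54398 : N2379 = N224 := eqc rfl L54397 rfl
theorem L54411 : sm gf N224 = N1374 := trfs L54398 L12501 rfl
theorem L54412 : N1374 = N124 := eqes L54411 L1170
theorem L54413 : N1374 = N124 := eqc rfl L54412 rfl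
theorem L54423 : sm ge N124 = N684 := trfs L54413 L7041 rfl
theorem L54424 : N684 = N63 := eqes L54423 L664
theorem L54425 : N684 = N63 := eqc rfl L54424 rfl
theorem L54432 : sm gd N63 = N1009 := trfs L54425 L7070 rfl
theorem L54433 : N1009 = N28 := eqes L54432 L334
theorem L54434 : N1009 = N28 := eqc rfl L54433 rfl
theorem L54450 : sm gg N28 = N1005 := trfs L54434 L5158 rfl
theorem L54451 : N1005 = N64 := eqes L54450 L336
theorem L54452 : N1005 = N61 := eqc rfl L54451 L43448
theorem L54462 : sm gf N61 = N502 := trfs L54452 L5134 rfl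
theorem L54463 : N502 = N27 := eqes L54462 L320
theorem L54464 : N502 = N27 := eqc rfl L54463 rfl
theorem L54476 : sm gg N27 = N1006 := trfs L54464 L5138 rfl
theorem L54477 : N1006 = N62 := eqes L54476 L326
theorem L54478 : N1006 = N27 := eqc rfl L54477 L43435
theorem L54484 : sm gd N27 = N2019 := trfs L54478 L10496 rfl
theorem L54485 : N2019 = N60 := eqes L54484 L316
theorem L54486 : N2019 = N60 := eqc rfl L54485 rfl
theorem L54498 : sm gg N60 = N3840 := trfs L54486 L20726 rfl
theorem L54499 : N3840 = N120 := eqes L54498 L651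
theorem L54500 : N3840 = N120 := eqc rfl L54499 rfl
theorem L54512 : sm gf N120 = N6424 := trfs L54500 L35066 rfl
theorem L54513 : N6424 = N234 := eqes L54512 L1209
theorem L54514 : N6424 = N234 := eqc rfl L54513 rfl
theorem L54524 : sm gg N234 = N6394 := trfs L54514 L35067 rfl
theorem L54525 : N6394 = N219 := eqes L54524 L1216
theorem L54526 : N6394 = N219 := eqc rfl L54525 rfl
theorem L54529 : sm gd N219 = N5016 := trfs L54526 L34880 rfl
theorem L54530 : N5016 = N437 := eqes L54529 L2296
theorem L54531 : N5016 = N437 := eqc rfl L54530 rfl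
theorem L54540 : sm gg N437 = N2769 := trfs L54531 L27597 rfl
theorem L54541 : N2769 = N865 := eqes L54540 L4441
theorem L54542 : N2769 = N865 := eqc rfl L54541 rfl
theorem L54553 : sm gf N865 = N4897 := trfs L54542 L26775 rfl
theorem L54554 : N4897 = N873 := eqes L54553 L4482
theorem L54555 : N4897 = N873 := eqc rfl L54554 rfl
theorem L54557 : sm gc N873 = N2764 := trfs L54555 L26773 rfl
theorem L54558 : N2764 = N1763 := eqes L54557 L9030
theorem L54559 : N2764 = N488 := eqc rfl L54558 L46949
theorem L54575 : sm gf N488 = N1430 := trfs L54559 L14596 rfl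
theorem L54576 : N1430 = N470 := eqes L54575 L2649
theorem L54577 : N1430 = N470 := eqc rfl L54576 rfl
theorem L54614 : sm gd N470 = N1376 := trfs L54577 L7349 rfl
theorem L54615 : N1376 = N235 := eqes L54614 L2435
theorem L54616 : N1376 = N235 := eqc rfl L54615 rfl
theorem L54627 : N471 = N244 := L45564.trans L48985
theorem L54629 : sm gf N235 = N1206 := trfs L54616 L7055 rfl
theorem L54630 : N1206 = N461 := eqes L54629 L2404
theorem L54631 : N1206 = N183 := eqc rfl L54630 L45677
theorem L54636 : sm gc N183 = N2380 := trfs L54631 L12507 rfl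
theorem L54637 : N2380 = N225 := eqes L54636 L45654
theorem L54638 : N2380 = N225 := eqc rfl L54637 rfl
theorem L54649 : sm gd N225 = N4409 := trfs L54638 L24006 rfl
theorem L54650 : N4409 = N449 := eqes L54649 L2347
theorem L54651 : N4409 = N119 := eqc rfl L54650 L45646
theorem L54665 : sm gg N119 = N3538 := trfs L54651 L24011 rfl
theorem L54666 : N3538 = N232 := eqes L54665 L1199
theorem L54667 : N3538 = N226 := eqc rfl L54666 L43237
theorem L54669 : N6353 = N392 := L43087.trans L43232
theorem L54670 : sm gb N226 = N392 := trfs L54667 L34638 L54669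
theorem L54671 : N392 = N1802 := eqes L54670 L50436
theorem L54672 : N1802 = N392 := (eqc rfl L54671 rfl).symm
theorem L54673 : sm gc N226 = N6393 := trfs L54667 L34862 rfl
theorem L54686 : sm gc N392 = N3179 := trfs L54672 L16865 rfl
theorem L54687 : N3179 = N765 := eqes L54686 L3930
theorem L54688 : N3179 = N765 := eqc rfl L54687 rfl
theorem L54710 : sm gg N765 = N5759 := trfs L54688 L31554 rfl
theorem L54711 : N5759 = N387 := eqes L54710 L3926
theorem L54712 : N5759 = N387 := eqc rfl L54711 rfl
theorem L54723 : sm gf N387 = N4121 := trfs L54712 L40299 rfl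
theorem L54724 : N4121 = N195 := eqes L54723 L2011
theorem L54725 : N4121 = N195 := eqc rfl L54724 rfl
theorem L54739 : sm gg N195 = N3180 := trfs L54725 L34562 L40203
theorem L54740 : N3180 = N388 := eqes L54739 L2016
theorem L54741 : N3180 = N388 := eqc rfl L54740 rfl
theorem L54747 : sm gd N388 = N5773 := trfs L54741 L31629 rfl
theorem L54748 : N5773 = N766 := eqes L54747 L3933
theorem L54749 : N5773 = N766 := eqc rfl L54748 rfl
theorem L54752 : sm gb N766 = N3187 := trfs L54749 L31631 rfl
theorem L54753 : N3187 = N1529 := eqes L54752 L7865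
theorem L54754 : N3187 = N1529 := eqc rfl L54753 rfl
theorem L54768 : sm gg N1529 = N5788 := trfs L54754 L31688 rfl
theorem L54769 : N5788 = N766 := eqes L54768 L7866
theorem L54770 : N5788 = N766 := eqc rfl L54769 rfl
theorem L54771 : sm gd N766 = N3186 := trfs L54770 L31686 rfl
theorem L54772 : N3186 = N388 := eqes L54771 L3934
theorem L54773 : N3186 = N388 := eqc rfl L54772 rfl
theorem L54781 : sm gg N388 = N3176 := trfs L54773 L16889 rfl
theorem L54782 : N3176 = N195 := eqes L54781 L2017
theorem L54783 : N3176 = N195 := eqc rfl L54782 rfl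
theorem L54784 : sm ga N195 = N2459 := trfs L54783 L29691 L40314
theorem L54785 : N2459 = N103 := eqes L54784 L1017
theorem L54786 : N2459 = N103 := eqc rfl L54785 rfl
theorem L54813 : sm gd N103 = N4513 := trfs L54786 L24716 rfl
theorem L54814 : N4513 = N201 := eqes L54813 L1056
theorem L54815 : N4513 = N201 := eqc rfl L54814 rfl
theorem L54823 : sm gb N201 = N4124 := trfs L54815 L24718 rfl
theorem L54824 : N4124 = N201 := eqes L54823 L1058
theorem L54825 : N4124 = N201 := eqc rfl L54824 rfl
theorem L54865 : sm gg N201 = N5391 := trfs L54825 L40264 rfl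
theorem L54866 : N5391 = N402 := eqes L54865 L2115
theorem L54867 : N5391 = N402 := eqc rfl L54866 rfl
theorem L54869 : sm gb N402 = N3000 := trfs L54867 L29702 rfl
theorem L54870 : N3000 = N402 := eqes L54869 L2117
theorem L54871 : N3000 = N402 := eqc rfl L54870 rfl
theorem L54880 : sm gf N402 = N1549 := trfs L54871 L15947 rfl
theorem L54881 : N1549 = N404 := eqes L54880 L2130
theorem L54882 : N1549 = N404 := eqc rfl L54881 rfl
theorem L54894 : sm gg N404 = N2994 := trfs L54882 L15917 rfl
theorem L54895 : N2994 = N203 := eqes L54894 L2126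
theorem L54896 : N2994 = N203 := eqc rfl L54895 rfl
theorem L54903 : sm gd N203 = N5387 := trfs L54896 L29676 rfl
theorem L54904 : N5387 = N403 := eqes L54903 L2122
theorem L54905 : N5387 = N403 := eqc rfl L54904 rfl
theorem L54916 : sm ga N403 = N3174 := trfs L54905 L29678 rfl
theorem L54917 : N3174 = N764 := eqes L54916 L3924
theorem L54918 : N3174 = N764 := eqc rfl L54917 rfl
theorem L54932 : sm gg N764 = N5764 := trfs L54918 L31575 rfl
theorem L54933 : N5764 = N1532 := eqes L54932 L7876
theorem L54934 : N5764 = N1532 := eqc rfl L54933 rfl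
theorem L54935 : sm gd N1532 = N3184 := trfs L54934 L31577 rfl
theorem L54936 : N3184 = N2963 := eqes L54935 L15730
theorem L54937 : N3184 = N2963 := eqc rfl L54936 rfl
theorem L54953 : sm gg N2963 = N1635 := trfs L54937 L16879 rfl
theorem L54954 : N1635 = N1533 := eqes L54953 L15734
theorem L54955 : N1635 = N1533 := eqc rfl L54954 rfl
theorem L54960 : sm gc N1533 = N3181 := trfs L54955 L16872 rfl
theorem L54961 : N3181 = N2965 := eqes L54960 L15746
theorem L54962 : N3181 = N2965 := eqc rfl L54961 rfl
theorem L54964 : sm ge N1533 = N3182 := trfs L54955 L16874 rfl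
theorem L54965 : N3182 = N2966 := eqes L54964 L15750
theorem L54966 : N3182 = N2966 := eqc rfl L54965 rfl
theorem L55003 : sm gd N2966 = N5779 := trfs L54966 L31653 rfl
theorem L55004 : N5779 = N2976 := eqes L55003 L15815
theorem L55005 : N5779 = N2976 := eqc rfl L55004 rfl
theorem L55007 : sm ge N2976 = N3185 := trfs L55005 L31655 rfl
theorem L55008 : N3185 = N1537 := eqes L55007 L15809
theorem L55009 : N3185 = N1537 := eqc rfl L55008 rfl
theorem L55010 : sm ga N1537 = N5396 := trfs L55009 L29725 rfl
theorem L55011 : N5396 = N799 := eqes L55010 L7898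
theorem L55012 : N5396 = N799 := eqc rfl L55011 rfl
theorem L55024 : sm gb N799 = N5765 := trfs L55012 L31584 rfl
theorem L55025 : N5765 = N799 := eqes L55024 L4128
theorem L55026 : N5765 = N799 := eqc rfl L55025 rfl
theorem L55029 : sm gd N799 = N3177 := trfs L55026 L31580 rfl
theorem L55030 : N3177 = N406 := eqes L55029 L4127
theorem L55031 : N3177 = N406 := eqc rfl L55030 rfl
theorem L55034 : sm gc N406 = N1800 := trfs L55031 L16848 rfl
theorem L55035 : N1800 = N210 := eqes L55034 L2138
theorem L55036 : N1800 = N210 := eqc rfl L55035 rfl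
theorem L55087 : sm gg N210 = N3490 := trfs L55036 L18506 rfl
theorem L55088 : N3490 = N205 := eqes L55087 L1110
theorem L55089 : N3490 = N205 := eqc rfl L55088 rfl
theorem L55090 : sm ga N205 = N1796 := trfs L55089 L18504 rfl
theorem L55091 : N1796 = N389 := eqes L55090 L2025
theorem L55092 : N1796 = N389 := eqc rfl L55091 rfl
theorem L55101 : sm gd N389 = N3491 := trfs L55092 L18507 rfl
theorem L55102 : N3491 = N768 := eqes L55101 L3949
theorem L55103 : N3491 = N768 := eqc rfl L55102 rfl
theorem L55116 : sm gg N768 = N1973 := trfs L55103 L18511 rfl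
theorem L55117 : N1973 = N1540 := eqes L55116 L7918
theorem L55118 : N1973 = N1540 := eqc rfl L55117 rfl
theorem L55130 : sm gf N1540 = N3764 := trfs L55118 L20229 rfl
theorem L55131 : N3764 = N1613 := eqes L55130 L8319
theorem L55132 : N3764 = N1613 := eqc rfl L55131 rfl
theorem L55136 : sm gc N1613 = N6648 := trfs L55132 L36511 rfl
theorem L55137 : N6648 = N3134 := eqes L55136 L16661
theorem L55138 : N6648 = N3134 := eqc rfl L55137 rfl
theorem L55155 : sm ga N3134 = N6654 := trfs L55138 L36545 rfl
theorem L55156 : N6654 = N3136 := eqes L55155 L16671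
theorem L55157 : N6654 = N3136 := eqc rfl L55156 rfl
theorem L55158 : sm gb N3134 = N3753 := trfs L55138 L36507 rfl
theorem L55159 : N3753 = N5652 := eqes L55158 L31068
theorem L55160 : N3753 = N1933 := eqc rfl L55159 L43628
theorem L55161 : sm ge N3134 = N6652 := trfs L55138 L36536 rfl
theorem L55162 : N6652 = N1612 := eqes L55161 L16662
theorem L55163 : N6652 = N1612 := eqc rfl L55162 rfl
theorem L55166 : sm gb N1612 = N6650 := trfs L55163 L36534 rfl
theorem L55167 : N6650 = N3128 := eqes L55166 L16645
theorem L55168 : N6650 = N3128 := eqc rfl L55167 rfl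
theorem L55171 : sm ga N3128 = N3758 := trfs L55168 L36518 rfl
theorem L55172 : N3758 = N5646 := eqes L55171 L31034
theorem L55173 : N3758 = N2758 := eqc rfl L55172 L43856
theorem L55181 : sm gg N3128 = N6662 := trfs L55168 L36583 rfl
theorem L55182 : N6662 = N1609 := eqes L55181 L16643
theorem L55183 : N6662 = N1609 := eqc rfl L55182 rfl
theorem L55193 : sm gf N1609 = N3759 := trfs L55183 L36575 rfl
theorem L55194 : N3759 = N2978 := eqes L55193 L15827
theorem L55195 : N3759 = N2978 := eqc rfl L55194 rfl
theorem L55204 : sm gg N2978 = N1970 := trfs L55195 L20198 rfl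
theorem L55205 : N1970 = N5350 := eqes L55204 L29488
theorem L55206 : N5350 = N1970 := (eqc rfl L55205 rfl).symm
theorem L55217 : sm gg N1970 = N2978 := trfs L55206 L29489 rfl
theorem L55218 : sm gg N2978 = N1970 := flp_g L55217
theorem L55252 : sm gb N2758 = N3136 := trfs L55173 L36547 L55157
theorem L55253 : N3136 = N5005 := eqes L55252 L27522
theorem L55254 : N5005 = N3136 := (eqc rfl L55253 rfl).symm
theorem L55260 : sm ge N2758 = N1970 := trfs L55173 L20194 rfl
theorem L55261 : N1970 = N5007 := eqes L55260 L27530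
theorem L55262 : N5007 = N1970 := (eqc rfl L55261 rfl).symm
theorem L55267 : sm ge N1970 = N2758 := trfs L55262 L27531 rfl
theorem L55271 : sm gc N3136 = N2768 := trfs L55254 L27524 rfl
theorem L55272 : N2768 = N1614 := eqes L55271 L16672
theorem L55273 : N2768 = N1614 := eqc rfl L55272 rfl
theorem L55274 : sm ga N1614 = N4904 := trfs L55273 L26826 rfl
theorem L55275 : N4904 = N1613 := eqes L55274 L8322
theorem L55276 : N4904 = N1613 := eqc rfl L55275 rfl
theorem L55305 : sm ge N1613 = N2671 := trfs L55276 L26824 rfl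
theorem L55306 : N2671 = N802 := eqes L55305 L8316
theorem L55307 : N2671 = N802 := eqc rfl L55306 rfl
theorem L55322 : sm gg N802 = N4905 := trfs L55307 L26831 rfl
theorem L55323 : N4905 = N407 := eqes L55322 L4138
theorem L55324 : N4905 = N407 := eqc rfl L55323 rfl
theorem L55325 : sm gb N407 = N2674 := trfs L55324 L26833 rfl
theorem L55326 : N2674 = N221 := eqes L55325 L2146
theorem L55327 : N2674 = N221 := eqc rfl L55326 rfl
theorem L55331 : sm gd N221 = N4910 := trfs L55327 L26879 rfl
theorem L55332 : N4910 = N112 := eqes L55331 L1157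
theorem L55333 : N4910 = N112 := eqc rfl L55332 rfl
theorem L55354 : sm gg N112 = N6522 := trfs L55333 L35760 rfl
theorem L55355 : N6522 = N117 := eqes L55354 L644
theorem L55356 : N6522 = N117 := eqc rfl L55355 rfl
theorem L55365 : sm gf N117 = N3655 := trfs L55356 L35755 rfl
theorem L55366 : N3655 = N59 := eqes L55365 L638
theorem L55367 : N3655 = N59 := eqc rfl L55366 rfl
theorem L55379 : sm gg N59 = N6521 := trfs L55367 L35752 rfl
theorem L55380 : N6521 = N26 := eqes L55379 L313
theorem L55381 : N6521 = N26 := eqc rfl L55380 rfl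
theorem L55383 : sm gb N26 = N6686 := trfs L55381 L36746 rfl
theorem L55384 : N6686 = N54 := eqes L55383 L293
theorem L55385 : N6686 = N54 := eqc rfl L55384 rfl
theorem L55391 : sm gd N54 = N3778 := trfs L55385 L36742 rfl
theorem L55392 : N3778 = N25 := eqes L55391 L291
theorem L55393 : N3778 = N25 := eqc rfl L55392 rfl
theorem L55406 : sm gg N25 = N1983 := trfs L55393 L20338 rfl
theorem L55407 : N1983 = N56 := eqes L55406 L299
theorem L55408 : N1983 = N25 := eqc rfl L55407 L40663
theorem L55422 : sm gf N25 = N3777 := trfs L55408 L20329 rfl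
theorem L55423 : N3777 = N55 := eqes L55422 L294
theorem L55424 : N3777 = N55 := eqc rfl L55423 rfl
theorem L55429 : sm gc N55 = N6679 := trfs L55424 L36694 rfl
theorem L55430 : N6679 = N55 := eqes L55429 L298
theorem L55431 : N6679 = N55 := eqc rfl L55430 rfl
theorem L55435 : sm ge N55 = N1984 := trfs L55424 L20335 rfl
theorem L55436 : N1984 = N101 := eqes L55435 L553
theorem L55437 : N1984 = N101 := eqc rfl L55436 rfl
theorem L55446 : sm gd N101 = N3779 := trfs L55437 L20345 rfl
theorem L55447 : N3779 = N199 := eqes L55446 L1044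
theorem L55448 : N3779 = N199 := eqc rfl L55447 rfl
theorem L55465 : sm gg N199 = N3806 := trfs L55448 L20503 rfl
theorem L55466 : N3806 = N397 := eqes L55465 L2084
theorem L55467 : N3806 = N212 := eqc rfl L55466 L45576
theorem L55478 : sm gf N212 = N2003 := trfs L55467 L20501 rfl
theorem L55479 : N2003 = N410 := eqes L55478 L2161
theorem L55480 : N2003 = N410 := eqc rfl L55479 rfl
theorem L55493 : sm ge N410 = N998 := trfs L55480 L10412 rfl
theorem L55494 : N998 = N207 := eqes L55493 L2157
theorem L55495 : N998 = N207 := eqc rfl L55494 rfl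
theorem L55501 : sm gc N207 = N2002 := trfs L55495 L10409 rfl
theorem L55502 : N2002 = N409 := eqes L55501 L2152
theorem L55503 : N2002 = N409 := eqc rfl L55502 rfl
theorem L55518 : sm gf N409 = N3805 := trfs L55503 L20496 rfl
theorem L55519 : N3805 = N211 := eqes L55518 L2154
theorem L55520 : N3805 = N211 := eqc rfl L55519 rfl
theorem L55532 : sm gg N211 = N6743 := trfs L55520 L37019 rfl
theorem L55533 : N6743 = N420 := eqes L55532 L2198
theorem L55534 : N6743 = N420 := eqc rfl L55533 rfl
theorem L55542 : sm gf N420 = N6691 := trfs L55534 L37028 rfl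
theorem L55543 : N6691 = N833 := eqes L55542 L4273
theorem L55544 : N6691 = N833 := eqc rfl L55543 rfl
theorem L55547 : sm gb N833 = N6765 := trfs L55544 L37166 rfl
theorem L55548 : N6765 = N1668 := eqes L55547 L8593
theorem L55549 : N6765 = N640 := eqc rfl L55548 L47165
theorem L55561 : sm gg N640 = N6767 := trfs L55549 L37182 rfl
theorem L55562 : N6767 = N668 := eqes L55561 L51715
theorem L55563 : N6767 = N668 := eqc rfl L55562 rfl
theorem L55569 : sm gc N668 = N3861 := trfs L55563 L37179 rfl
theorem L55570 : N3861 = N335 := eqes L55569 L3455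
theorem L55571 : N3861 = N335 := eqc rfl L55570 rfl
theorem L55581 : sm ge N335 = N2034 := trfs L55571 L20832 rfl
theorem L55582 : N2034 = N166 := eqes L55581 L1723
theorem L55583 : N2034 = N166 := eqc rfl L55582 rfl
theorem L55591 : sm gd N166 = N3860 := trfs L55583 L20827 rfl
theorem L55592 : N3860 = N82 := eqes L55591 L867
theorem L55593 : N3860 = N82 := eqc rfl L55592 rfl
theorem L55594 : sm gf N166 = N241 := trfs L55583 L20744 L48973
theorem L55595 : N241 = N331 := eqes L55594 L1705
theorem L55596 : N331 = N241 := (eqc rfl L55595 rfl).symm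
theorem L55617 : sm gf N82 = N6800 := trfs L55593 L37408 rfl
theorem L55618 : N6800 = N38 := eqes L55617 L436
theorem L55619 : N6800 = N38 := eqc rfl L55618 rfl
theorem L55621 : sm gb N38 = N3865 := trfs L55619 L37410 rfl
theorem L55622 : N3865 = N17 := eqes L55621 L195
theorem L55623 : N3865 = N17 := eqc rfl L55622 rfl
theorem L55631 : sm ge N17 = N6804 := trfs L55623 L37445 rfl
theorem L55632 : N6804 = N40 := eqes L55631 L202
theorem L55633 : N6804 = N40 := eqc rfl L55632 rfl
theorem L55640 : sm gf N40 = N3864 := trfs L55633 L37440 rfl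
theorem L55641 : N3864 = N88 := eqes L55640 L457
theorem L55642 : N3864 = N88 := eqc rfl L55641 rfl
theorem L55646 : sm gc N88 = N6802 := trfs L55642 L37422 rfl
theorem L55647 : N6802 = N42 := eqes L55646 L460
theorem L55648 : N6802 = N42 := eqc rfl L55647 rfl
theorem L55669 : sm ge N42 = N3863 := trfs L55648 L37419 rfl
theorem L55670 : N3863 = N19 := eqes L55669 L218
theorem L55671 : N3863 = N19 := eqc rfl L55670 rfl
theorem L55679 : sm gd N19 = N2046 := trfs L55671 L20851 rfl
theorem L55680 : N2046 = N19 := eqes L55679 L102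
theorem L55681 : N2046 = N19 := eqc rfl L55680 rfl
theorem L55691 : sm gf N19 = N3878 := trfs L55681 L20953 rfl
theorem L55692 : N3878 = N8 := eqes L55691 L98
theorem L55693 : N3878 = N8 := eqc rfl L55692 rfl
theorem L55700 : sm gd N8 = N4117 := trfs L55693 L22399 rfl
theorem L55701 : N4117 = N4 := eqes L55700 L47
theorem L55702 : N4117 = N4 := eqc rfl L55701 rfl
theorem L55703 : sm ge N8 = N2809 := trfs L55693 L20958 rfl
theorem L55704 : N2809 = N18 := eqes L55703 L90
theorem L55705 : N2809 = N18 := eqc rfl L55704 rfl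
theorem L55714 : sm gd N18 = N3486 := trfs L55705 L18484 rfl
theorem L55715 : N3486 = N18 := eqes L55714 L96
theorem L55716 : N3486 = N18 := eqc rfl L55715 rfl
theorem L55723 : sm gf N18 = N1788 := trfs L55716 L18475 rfl
theorem L55724 : N1788 = N42 := eqes L55723 L213
theorem L55725 : N1788 = N42 := eqc rfl L55724 rfl
theorem L55738 : sm gd N42 = N3485 := trfs L55725 L18470 rfl
theorem L55739 : N3485 = N90 := eqes L55738 L469
theorem L55740 : N3485 = N90 := eqc rfl L55739 rfl
theorem L55761 : sm gf N90 = N2808 := trfs L55740 L18485 rfl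
theorem L55762 : N2808 = N90 := eqes L55761 L475
theorem L55763 : N2808 = N90 := eqc rfl L55762 rfl
theorem L55769 : sm gc N90 = N5056 := trfs L55763 L27852 rfl
theorem L55770 : N5056 = N184 := eqes L55769 L941
theorem L55771 : N5056 = N184 := eqc rfl L55770 rfl
theorem L55776 : sm gd N184 = N6668 := trfs L55771 L36629 rfl
theorem L55777 : N6668 = N372 := eqes L55776 L1915
theorem L55778 : N6668 = N372 := eqc rfl L55777 rfl
theorem L55781 : sm gc N372 = N1419 := trfs L55778 L36627 L49119
theorem L55782 : N1419 = N731 := eqes L55781 L3765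
theorem L55783 : N1419 = N731 := eqc rfl L55782 rfl
theorem L55792 : N1460 = N709 := L43949.trans L49136
theorem L55800 : N1463 = N707 := L43984.trans L49454
theorem L55808 : sm gf N731 = N709 := trfs L55783 L7287 rfl
theorem L55809 : sm gf N709 = N731 := flp_f L55808
theorem L55881 : sm gg N4 = N2457 := trfs L55702 L22396 rfl
theorem L55882 : N2457 = N1 := eqes L55881 L24
theorem L55883 : N2457 = N1 := eqc rfl L55882 rfl
theorem L55891 : sm gf N1 = N1256 := trfs L55883 L12954 rfl
theorem L55892 : N1256 = N1 := eqes L55891 L9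
theorem L55893 : N1256 = N1 := eqc rfl L55892 rfl
theorem L55903 : sm gg N1 = N2453 := trfs L55893 L12932 rfl
theorem L55904 : N2453 = N4 := eqes L55903 L23
theorem L55905 : N2453 = N4 := eqc rfl L55904 rfl
theorem L55907 : sm gb N4 = N4492 := trfs L55905 L24580 rfl
theorem L55908 : N4492 = N2 := eqes L55907 L26
theorem L55909 : N4492 = N2 := eqc rfl L55908 rfl
theorem L55917 : sm gd N2 = N2444 := trfs L55909 L24577 rfl
theorem L55918 : N2444 = N5 := eqes L55917 L30
theorem L55919 : N2444 = N5 := eqc rfl L55918 rfl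
theorem L55927 : sm ge N5 = N4490 := trfs L55919 L24568 rfl
theorem L55928 : N4490 = N10 := eqes L55927 L56
theorem L55929 : N4490 = N10 := eqc rfl L55928 rfl
theorem L56043 : sm gb N10 = N2451 := trfs L55929 L24565 rfl
theorem L56044 : N2451 = N18 := eqes L56043 L94
theorem L56045 : N2451 = N18 := eqc rfl L56044 rfl
theorem L56047 : sm gc N18 = N596 := trfs L56045 L24635 L45306
theorem L56048 : N596 = N40 := eqes L56047 L206
theorem L56049 : N596 = N40 := eqc rfl L56048 rfl
theorem L56061 : sm gf N40 = N598 := trfs L56049 L3078 rfl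
theorem L56062 : N598 = N88 := eqes L56061 L457
theorem L56063 : N598 = N88 := eqc rfl L56062 rfl
theorem L56068 : sm gd N88 = N1207 := trfs L56063 L6152 rfl
theorem L56069 : N1207 = N180 := eqes L56068 L929
theorem L56070 : N1207 = N180 := eqc rfl L56069 rfl
theorem L56088 : sm ge N180 = N2249 := trfs L56070 L12518 L45227
theorem L56089 : N2249 = N366 := eqes L56088 L1885
theorem L56090 : N2249 = N183 := eqc rfl L56089 L44466
theorem L56107 : sm gg N183 = N1137 := trfs L56090 L11779 rfl
theorem L56108 : N1137 = N89 := eqes L56107 L939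
theorem L56109 : N1137 = N89 := eqc rfl L56108 rfl
theorem L56114 : sm gd N89 = N613 := trfs L56109 L11563 L45250
theorem L56115 : N613 = N41 := eqes L56114 L467
theorem L56116 : N613 = N41 := eqc rfl L56115 rfl
theorem L56129 : sm gg N41 = N1235 := trfs L56116 L6304 rfl
theorem L56130 : N1235 = N88 := eqes L56129 L465
theorem L56131 : N1235 = N88 := eqc rfl L56130 rfl
theorem L56141 : sm gf N88 = N1213 := trfs L56131 L6310 rfl
theorem L56142 : N1213 = N40 := eqes L56141 L458
theorem L56143 : N1213 = N40 := eqc rfl L56142 rfl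
theorem L56149 : sm gd N40 = N2393 := trfs L56143 L12579 rfl
theorem L56150 : N2393 = N87 := eqes L56149 L454
theorem L56151 : N2393 = N87 := eqc rfl L56150 rfl
theorem L56183 : sm gg N87 = N1388 := trfs L56151 L12584 rfl
theorem L56184 : N1388 = N179 := eqes L56183 L925
theorem L56185 : N1388 = N179 := eqc rfl L56184 rfl
theorem L56194 : sm ge N179 = N2702 := trfs L56185 L14249 rfl
theorem L56195 : N2702 = N350 := eqes L56194 L1799
theorem L56196 : N2702 = N350 := eqc rfl L56195 rfl
theorem L56231 : sm gf N350 = N2697 := trfs L56196 L14257 rfl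
theorem L56232 : N2697 = N356 := eqes L56231 L44549
theorem L56233 : N2697 = N356 := eqc rfl L56232 rfl
theorem L56242 : sm gd N356 = N1382 := trfs L56233 L14182 rfl
theorem L56243 : N1382 = N175 := eqes L56242 L1833
theorem L56244 : N1382 = N175 := eqc rfl L56243 rfl
theorem L56257 : sm gg N175 = N1210 := trfs L56244 L7093 rfl
theorem L56258 : N1210 = N85 := eqes L56257 L908
theorem L56259 : N1210 = N85 := eqc rfl L56258 rfl
theorem L56261 : sm gb N85 = N2371 := trfs L56259 L12460 rfl
theorem L56262 : N2371 = N164 := eqes L56261 L860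
theorem L56263 : N2371 = N164 := eqc rfl L56262 rfl
theorem L56269 : sm ge N85 = N1384 := trfs L56259 L7103 rfl
theorem L56270 : N1384 = N172 := eqes L56269 L896
theorem L56271 : N1384 = N172 := eqc rfl L56270 rfl
theorem L56292 : sm gb N172 = N2664 := trfs L56271 L13994 rfl
theorem L56293 : N2664 = N329 := eqes L56292 L1691
theorem L56294 : N2664 = N329 := eqc rfl L56293 rfl
theorem L56310 : sm gg N329 = N1361 := trfs L56294 L13992 rfl
theorem L56311 : N1361 = N333 := eqes L56310 L1719
theorem L56312 : N1361 = N333 := eqc rfl L56311 rfl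
theorem L56315 : sm gc N333 = N2661 := trfs L56312 L13975 rfl
theorem L56316 : N2661 = N658 := eqes L56315 L3401
theorem L56317 : N2661 = N658 := eqc rfl L56316 rfl
theorem L56334 : sm gf N658 = N1359 := trfs L56317 L13973 rfl
theorem L56335 : N1359 = N328 := eqes L56334 L3399
theorem L56336 : N1359 = N328 := eqc rfl L56335 rfl
theorem L56351 : sm gg N328 = N2369 := trfs L56336 L12450 rfl
theorem L56352 : N2369 = N162 := eqes L56351 L1685
theorem L56353 : N2369 = N162 := eqc rfl L56352 rfl
theorem L56357 : sm gb N162 = N4393 := trfs L56353 L23899 rfl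
theorem L56358 : N4393 = N324 := eqes L56357 L1670
theorem L56359 : N4393 = N162 := eqc rfl L56358 L47487
theorem L56376 : sm gc N162 = N2385 := trfs L56359 L23903 rfl
theorem L56377 : N2385 = N81 := eqes L56376 L852
theorem L56378 : N2385 = N81 := eqc rfl L56377 rfl
theorem L56389 : sm gg N81 = N1378 := trfs L56378 L12536 rfl
theorem L56390 : N1378 = N165 := eqes L56389 L861
theorem L56391 : N1378 = N165 := eqc rfl L56390 rfl
theorem L56399 : sm gf N165 = N2689 := trfs L56391 L14137 rfl
theorem L56400 : N2689 = N333 := eqes L56399 L1712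
theorem L56401 : N2689 = N333 := eqc rfl L56400 rfl
theorem L56409 : sm gd N333 = N4926 := trfs L56401 L27003 rfl
theorem L56410 : N4926 = N665 := eqes L56409 L3441
theorem L56411 : N4926 = N665 := eqc rfl L56410 rfl
theorem L56431 : sm gg N665 = N3868 := trfs L56411 L27010 rfl
theorem L56432 : N3868 = N1337 := eqes L56431 L6860
theorem L56433 : N3868 = N1337 := eqc rfl L56432 rfl
theorem L56446 : sm gf N1337 = N6807 := trfs L56433 L37459 rfl
theorem L56447 : N6807 = N2615 := eqes L56446 L13769
theorem L56448 : N6807 = N1459 := eqc rfl L56447 L49126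
theorem L56456 : sm gg N1459 = N6572 := trfs L56448 L37465 rfl
theorem L56457 : N6572 = N1283 := eqes L56456 L46910
theorem L56458 : N6572 = N1283 := eqc rfl L56457 rfl
theorem L56462 : sm gd N1283 = N3692 := trfs L56458 L36026 rfl
theorem L56463 : N3692 = N639 := eqes L56462 L6589
theorem L56464 : N3692 = N639 := eqc rfl L56463 rfl
theorem L56478 : sm gg N639 = N1937 := trfs L56464 L19809 rfl
theorem L56479 : N1937 = N635 := eqes L56478 L3312
theorem L56480 : N1937 = N635 := eqc rfl L56479 rfl
theorem L56481 : sm ga N635 = N3677 := trfs L56480 L19734 rfl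
theorem L56482 : N3677 = N329 := eqes L56481 L3272
theorem L56483 : N3677 = N329 := eqc rfl L56482 rfl
theorem L56501 : sm gf N329 = N4460 := trfs L56483 L24380 rfl
theorem L56502 : N4460 = N163 := eqes L56501 L1689
theorem L56503 : N4460 = N163 := eqc rfl L56502 rfl
theorem L56513 : sm gg N163 = N6540 := trfs L56503 L35899 rfl
theorem L56514 : N6540 = N330 := eqes L56513 L1694
theorem L56515 : N6540 = N330 := eqc rfl L56514 rfl
theorem L56521 : sm gf N330 = N3674 := trfs L56515 L35891 rfl
theorem L56522 : N3674 = N332 := eqes L56521 L1710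
theorem L56523 : N3674 = N332 := eqc rfl L56522 rfl
theorem L56528 : sm gc N332 = N6538 := trfs L56523 L35874 rfl
theorem L56529 : N6538 = N656 := eqes L56528 L3393
theorem L56530 : N6538 = N656 := eqc rfl L56529 rfl
theorem L56538 : sm gg N656 = N3676 := trfs L56530 L35878 rfl
theorem L56539 : N3676 = N327 := eqes L56538 L3391
theorem L56540 : N3676 = N327 := eqc rfl L56539 rfl
theorem L56552 : sm gf N327 = N4459 := trfs L56540 L24372 rfl
theorem L56553 : N4459 = N162 := eqes L56552 L1681
theorem L56554 : N4459 = N162 := eqc rfl L56553 rfl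
theorem L56555 : sm ga N162 = N3705 := trfs L56554 L24369 rfl
theorem L56556 : N3705 = N319 := eqes L56555 L1642
theorem L56557 : N3705 = N319 := eqc rfl L56556 rfl
theorem L56568 : sm ge N319 = N6602 := trfs L56557 L36175 rfl
theorem L56569 : N6602 = N630 := eqes L56568 L53635
theorem L56570 : N6602 = N630 := eqc rfl L56569 rfl
theorem L56585 : sm gf N630 = N3704 := trfs L56570 L36171 rfl
theorem L56586 : N3704 = N1266 := eqes L56585 L6471
theorem L56587 : N3704 = N1266 := eqc rfl L56586 rfl
theorem L56590 : sm gb N1266 = N6595 := trfs L56587 L36151 rfl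
theorem L56591 : N6595 = N633 := eqes L56590 L6473
theorem L56592 : N6595 = N633 := eqc rfl L56591 rfl
theorem L56604 : sm ge N633 = N3702 := trfs L56592 L36147 rfl
theorem L56605 : N3702 = N1266 := eqes L56604 L53621
theorem L56606 : N3702 = N1266 := eqc rfl L56605 rfl
theorem L56618 : sm gg N1266 = N6573 := trfs L56606 L36031 rfl
theorem L56619 : N6573 = N1277 := eqes L56618 L53622
theorem L56620 : N6573 = N1277 := eqc rfl L56619 rfl
theorem L56622 : sm gc N1277 = N3711 := trfs L56620 L36032 rfl
theorem L56623 : N3711 = N639 := eqes L56622 L6535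
theorem L56624 : N3711 = N639 := eqc rfl L56623 rfl
theorem L56637 : sm gf N639 = N6612 := trfs L56624 L36224 rfl
theorem L56638 : N6612 = N322 := eqes L56637 L3305
theorem L56639 : N6612 = N322 := eqc rfl L56638 rfl
theorem L56642 : sm ge N322 = N6260 := trfs L56639 L36228 rfl
theorem L56643 : N6260 = N636 := eqes L56642 L3285
theorem L56644 : N6260 = N636 := eqc rfl L56643 rfl
theorem L56674 : sm gb N636 = N3433 := trfs L56644 L34018 rfl
theorem L56675 : N3433 = N350 := eqes L56674 L3282
theorem L56676 : N3433 = N350 := eqc rfl L56675 rfl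
theorem L56686 : sm gf N350 = N3713 := trfs L56676 L19926 rfl
theorem L56687 : N3713 = N356 := eqes L56686 L44549
theorem L56688 : N3713 = N356 := eqc rfl L56687 rfl
theorem L56700 : sm gg N356 = N1956 := trfs L56688 L19923 rfl
theorem L56701 : N1956 = N178 := eqes L56700 L44534
theorem L56702 : N1956 = N178 := eqc rfl L56701 rfl
theorem L56708 : sm gd N178 = N3732 := trfs L56702 L20033 rfl
theorem L56709 : N3732 = N244 := eqes L56708 L49000
theorem L56710 : N3732 = N244 := eqc rfl L56709 rfl
theorem L56724 : sm gg N244 = N6628 := trfs L56710 L36347 rfl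
theorem L56725 : N6628 = N123 := eqes L56724 L1252
theorem L56726 : N6628 = N123 := eqc rfl L56725 rfl
theorem L56737 : sm gf N123 = N4458 := trfs L56726 L36353 rfl
theorem L56738 : N4458 = N223 := eqes L56737 L1166
theorem L56739 : N4458 = N89 := eqc rfl L56738 L45627
theorem L56750 : sm gg N89 = N6791 := trfs L56739 L37350 rfl
theorem L56751 : N6791 = N183 := eqes L56750 L938
theorem L56752 : N6791 = N183 := eqc rfl L56751 rfl
theorem L56754 : sm gc N183 = N3849 := trfs L56752 L37345 rfl
theorem L56755 : N3849 = N225 := eqes L56754 L45654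
theorem L56756 : N3849 = N225 := eqc rfl L56755 rfl
theorem L56763 : sm gb N225 = N6746 := trfs L56756 L37044 rfl
theorem L56764 : N6746 = N411 := eqes L56763 L2165
theorem L56765 : N6746 = N391 := eqc rfl L56764 L43470
theorem L56843 : sm gg N391 = N6505 := trfs L56765 L37046 rfl
theorem L56844 : N6505 = N772 := eqes L56843 L3979
theorem L56845 : N6505 = N207 := eqc rfl L56844 L43504
theorem L56848 : sm gd N207 = N3637 := trfs L56845 L35635 rfl
theorem L56849 : N3637 = N105 := eqes L56848 L1087
theorem L56850 : N3637 = N105 := eqc rfl L56849 rfl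
theorem L56865 : sm gg N105 = N3641 := trfs L56850 L19508 rfl
theorem L56866 : N3641 = N208 := eqes L56865 L1092
theorem L56867 : N3641 = N208 := eqc rfl L56866 rfl
theorem L56878 : sm ge N208 = N3640 := trfs L56867 L19505 rfl
theorem L56879 : N3640 = N210 := eqes L56878 L1109
theorem L56880 : N3640 = N210 := eqc rfl L56879 rfl
theorem L56894 : sm gf N210 = N3638 := trfs L56880 L19500 rfl
theorem L56895 : N3638 = N106 := eqes L56894 L1105
theorem L56896 : N3638 = N106 := eqc rfl L56895 rfl
theorem L56900 : sm gc N106 = N6497 := trfs L56896 L39601 rfl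
theorem L56901 : N6497 = N204 := eqes L56900 L1073
theorem L56902 : N6497 = N204 := eqc rfl L56901 rfl
theorem L56913 : sm gg N204 = N3633 := trfs L56902 L35599 rfl
theorem L56914 : N3633 = N103 := eqes L56913 L1070
theorem L56915 : N3633 = N103 := eqc rfl L56914 rfl
theorem L56922 : sm gd N103 = N1895 := trfs L56915 L19464 rfl
theorem L56923 : N1895 = N201 := eqes L56922 L1056
theorem L56924 : N1895 = N201 := eqc rfl L56923 rfl
theorem L56936 : sm gf N201 = N3635 := trfs L56924 L19469 rfl
theorem L56937 : N3635 = N401 := eqes L56936 L2108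
theorem L56938 : N3635 = N401 := eqc rfl L56937 rfl
theorem L56940 : sm ga N401 = N3811 := trfs L56938 L20530 rfl
theorem L56941 : N3811 = N762 := eqes L56940 L3904
theorem L56942 : N3811 = N762 := eqc rfl L56941 rfl
theorem L56958 : sm gc N762 = N1999 := trfs L56942 L20531 rfl
theorem L56959 : N1999 = N389 := eqes L56958 L3907
theorem L56960 : N1999 = N389 := eqc rfl L56959 rfl
theorem L57002 : sm gd N389 = N3813 := trfs L56960 L20539 rfl
theorem L57003 : N3813 = N768 := eqes L57002 L3949
theorem L57004 : N3813 = N768 := eqc rfl L57003 rfl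
theorem L57021 : sm gg N768 = N3720 := trfs L57004 L20548 rfl
theorem L57022 : N3720 = N1540 := eqes L57021 L7918
theorem L57023 : N3720 = N1540 := eqc rfl L57022 rfl
theorem L57039 : sm gf N1540 = N6617 := trfs L57023 L36258 rfl
theorem L57040 : N6617 = N1613 := eqes L57039 L8319
theorem L57041 : N6617 = N1613 := eqc rfl L57040 rfl
theorem L57042 : sm ga N1613 = N6514 := trfs L57041 L36260 rfl
theorem L57043 : N6514 = N1614 := eqes L57042 L8323
theorem L57044 : N6514 = N1614 := eqc rfl L57043 rfl
theorem L57139 : sm ge N1614 = N3644 := trfs L57044 L35684 rfl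
theorem L57140 : N3644 = N1540 := eqes L57139 L8326
theorem L57141 : N3644 = N1540 := eqc rfl L57140 rfl
theorem L57152 : sm gg N1540 = N1899 := trfs L57141 L19516 rfl
theorem L57153 : N1899 = N768 := eqes L57152 L7919
theorem L57154 : N1899 = N768 := eqc rfl L57153 rfl
theorem L57157 : sm gc N768 = N3642 := trfs L57154 L19509 rfl
theorem L57158 : N3642 = N1538 := eqes L57157 L7902
theorem L57159 : N3642 = N1538 := eqc rfl L57158 rfl
theorem L57166 : sm gb N1538 = N6510 := trfs L57159 L35660 rfl
theorem L57167 : N6510 = N2978 := eqes L57166 L15824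
theorem L57168 : N6510 = N2978 := eqc rfl L57167 rfl
theorem L57190 : sm gg N2978 = N6467 := trfs L57168 L35665 rfl
theorem L57191 : N6467 = N1970 := eqes L57190 L55218
theorem L57192 : N6467 = N1970 := eqc rfl L57191 rfl
theorem L57200 : sm gf N1970 = N3602 := trfs L57192 L35363 rfl
theorem L57201 : N3602 = N3753 := eqes L57200 L20168
theorem L57202 : N3602 = N1933 := eqc rfl L57201 L55160
theorem L57210 : sm ge N1933 = N6466 := trfs L57202 L35358 rfl
theorem L57211 : N6466 = N3689 := eqes L57210 L19794
theorem L57212 : N6466 = N3689 := eqc rfl L57211 rfl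
theorem L57213 : sm gg N1933 = N6460 := trfs L57202 L35327 rfl
theorem L57214 : N6460 = N3697 := eqes L57213 L19829
theorem L57215 : N6460 = N3697 := eqc rfl L57214 rfl
theorem L57216 : sm ga N3697 = N2978 := trfs L57215 L36089 L47641
theorem L57217 : N2978 = N3598 := eqes L57216 L19831
theorem L57218 : N3598 = N2978 := (eqc rfl L57217 rfl).symm
theorem L57233 : sm gf N2978 = N6458 := trfs L57218 L35310 rfl
theorem L57234 : N6458 = N1609 := eqes L57233 L15826
theorem L57235 : N6458 = N1609 := eqc rfl L57234 rfl
theorem L57236 : sm gg N2978 = N1872 := trfs L57218 L19223 rfl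
theorem L57237 : N1872 = N1970 := eqes L57236 L55218
theorem L57238 : N1970 = N1872 := (eqc rfl L57237 rfl).symm
theorem L57243 : sm gd N1872 = N3757 := trfs L57238 L20191 rfl
theorem L57244 : N3757 = N3596 := eqes L57243 L19216
theorem L57245 : N3757 = N3596 := eqc rfl L57244 rfl
theorem L57246 : sm ge N1872 = N2758 := trfs L57238 L55267 rfl
theorem L57247 : N2758 = N3597 := eqes L57246 L19218
theorem L57248 : N2758 = N2498 := eqc rfl L57247 L47685
theorem L57250 : sm gg N1872 = N2978 := trfs L57238 L55217 rfl
theorem L57251 : sm gg N2978 = N1872 := flp_g L57250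
theorem L57271 : sm gc N3596 = N6655 := trfs L57245 L36552 rfl
theorem L57272 : N6655 = N6451 := eqes L57271 L35290
theorem L57273 : N6655 = N6451 := eqc rfl L57272 rfl
theorem L57283 : sm gd N6451 = N5158 := trfs L57273 L36555 rfl
theorem L57292 : sm gg N1609 = N3689 := trfs L57235 L35318 rfl
theorem L57293 : N3689 = N3128 := eqes L57292 L16642
theorem L57294 : N3689 = N3128 := eqc rfl L57293 rfl
theorem L57297 : N5646 = N2498 := L43856.trans L57248
theorem L57333 : N6466 = N3128 := L57212.trans L57294
theorem L57334 : sm ga N3128 = N6590 := trfs L57333 L36113 rfl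
theorem L57335 : N6590 = N5646 := eqes L57334 L31034
theorem L57336 : N6590 = N2498 := eqc rfl L57335 L57297
theorem L57340 : sm ge N2498 = N1872 := trfs L57336 L36111 L47620
theorem L57341 : N1872 = N4570 := eqes L57340 L25034
theorem L57342 : N4570 = N1872 := (eqc rfl L57341 rfl).symm
theorem L57351 : sm gg N1872 = N4754 := trfs L57342 L26028 rfl
theorem L57352 : N4754 = N2978 := eqes L57351 L57250
theorem L57353 : N4754 = N2978 := eqc rfl L57352 rfl
theorem L57357 : sm gf N2978 = N2589 := trfs L57353 L26020 rfl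
theorem L57358 : N2589 = N1609 := eqes L57357 L15826
theorem L57359 : N2589 = N1609 := eqc rfl L57358 rfl
theorem L57369 : sm gg N1609 = N1322 := trfs L57359 L13635 rfl
theorem L57370 : N1322 = N3128 := eqes L57369 L16642
theorem L57371 : N3128 = N1322 := (eqc rfl L57370 rfl).symm
theorem L57373 : sm gb N1322 = N1612 := trfs L57371 L16644 rfl
theorem L57374 : N1612 = N2586 := eqes L57373 L13624
theorem L57375 : N2586 = N1612 := (eqc rfl L57374 rfl).symm
theorem L57377 : sm gd N1322 = N5653 := trfs L57371 L31075 rfl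
theorem L57378 : N5653 = N2587 := eqes L57377 L13628
theorem L57379 : N5653 = N2587 := eqc rfl L57378 rfl
theorem L57383 : sm gg N1322 = N1609 := trfs L57371 L16643 rfl
theorem L57384 : sm gg N1609 = N1322 := flp_g L57383
theorem L57388 : sm gb N2587 = N3135 := trfs L57379 L31077 rfl
theorem L57389 : N3135 = N4744 := eqes L57388 L25982
theorem L57390 : N4744 = N3135 := (eqc rfl L57389 rfl).symm
theorem L57391 : sm gb N3135 = N2587 := trfs L57390 L25981 rfl
theorem L57392 : sm gb N2587 = N3135 := flp_b L57391
theorem L57396 : sm gb N1612 = N1322 := trfs L57375 L13625 rfl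
theorem L57397 : sm gb N1322 = N1612 := flp_b L57396
theorem L57399 : sm ge N1612 = N4745 := trfs L57375 L25983 rfl
theorem L57400 : N4745 = N3134 := eqes L57399 L16663
theorem L57401 : N4745 = N3134 := eqc rfl L57400 rfl
theorem L57413 : sm gc N3134 = N2712 := trfs L57401 L25989 rfl
theorem L57414 : N2712 = N1613 := eqes L57413 L16660
theorem L57415 : N2712 = N1613 := eqc rfl L57414 rfl
theorem L57426 : sm gg N1613 = N4949 := trfs L57415 L27177 rfl
theorem L57427 : N4949 = N801 := eqes L57426 L8313
theorem L57428 : N4949 = N801 := eqc rfl L57427 rfl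
theorem L57432 : sm gd N801 = N3489 := trfs L57428 L27188 rfl
theorem L57433 : N3489 = N410 := eqes L57432 L4135
theorem L57434 : N3489 = N410 := eqc rfl L57433 rfl
theorem L57452 : sm gg N410 = N3953 := trfs L57434 L21411 rfl
theorem L57453 : N3953 = N423 := eqes L57452 L2223
theorem L57454 : N3953 = N423 := eqc rfl L57453 rfl
theorem L57470 : sm gf N423 = N2097 := trfs L57454 L21409 rfl
theorem L57471 : N2097 = N213 := eqes L57470 L2217
theorem L57472 : N2097 = N213 := eqc rfl L57471 rfl
theorem L57485 : sm gg N213 = N3961 := trfs L57472 L21446 rfl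
theorem L57486 : N3961 = N107 := eqes L57485 L1119
theorem L57487 : N3961 = N107 := eqc rfl L57486 rfl
theorem L57490 : sm gc N107 = N6959 := trfs L57487 L38289 rfl
theorem L57491 : N6959 = N211 := eqes L57490 L1112
theorem L57492 : N6959 = N211 := eqc rfl L57491 rfl
theorem L57499 : sm gf N211 = N6948 := trfs L57492 L38293 rfl
theorem L57500 : N6948 = N409 := eqes L57499 L2155
theorem L57501 : N6948 = N409 := eqc rfl L57500 rfl
theorem L57508 : sm gg N409 = N3952 := trfs L57501 L38236 rfl
theorem L57509 : N3952 = N809 := eqes L57508 L4167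
theorem L57510 : N3952 = N770 := eqc rfl L57509 L51607
theorem L57523 : sm gf N770 = N2096 := trfs L57510 L21403 rfl
theorem L57524 : N2096 = N395 := eqes L57523 L3969
theorem L57525 : N2096 = N395 := eqc rfl L57524 rfl
theorem L57529 : sm gb N395 = N3957 := trfs L57525 L21432 rfl
theorem L57530 : N3957 = N778 := eqes L57529 L4017
theorem L57531 : N3957 = N778 := eqc rfl L57530 rfl
theorem L57568 : sm gg N778 = N6317 := trfs L57531 L34376 rfl
theorem L57569 : N6317 = N1561 := eqes L57568 L8052
theorem L57570 : N6317 = N824 := eqc rfl L57569 L51615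
theorem L57575 : sm gf N824 = N3475 := trfs L57570 L34371 rfl
theorem L57576 : N3475 = N1623 := eqes L57575 L8385
theorem L57577 : N3475 = N668 := eqc rfl L57576 L47150
theorem L57584 : sm gc N668 = N1784 := trfs L57577 L18412 rfl
theorem L57585 : N1784 = N335 := eqes L57584 L3455
theorem L57586 : N1784 = N335 := eqc rfl L57585 rfl
theorem L57601 : sm ga N335 = N3467 := trfs L57586 L18368 rfl
theorem L57602 : N3467 = N641 := eqes L57601 L3321
theorem L57603 : N3467 = N336 := eqc rfl L57602 L47169
theorem L57618 : sm gf N336 = N6302 := trfs L57603 L34301 rfl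
theorem L57619 : N6302 = N494 := eqes L57618 L2555
theorem L57620 : N6302 = N469 := eqc rfl L57619 L45668
theorem L57633 : sm ge N469 = N6980 := trfs L57620 L38457 rfl
theorem L57634 : N6980 = N481 := eqes L57633 L2494
theorem L57635 : N6980 = N481 := eqc rfl L57634 rfl
theorem L57650 : N956 = N241 := L47175.trans L55596
theorem L57847 : sm gd N481 = N4471 := trfs L57635 L38461 rfl
theorem L57848 : N4471 = N955 := eqes L57847 L4871
theorem L57849 : N4471 = N321 := eqc rfl L57848 L47703
theorem L57852 : sm ga N321 = N2435 := trfs L57849 L24458 rfl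
theorem L57853 : N2435 = N164 := eqes L57852 L1653
theorem L57854 : N2435 = N164 := eqc rfl L57853 rfl
theorem L57865 : sm gf N164 = N1245 := trfs L57854 L12838 rfl
theorem L57866 : N1245 = N81 := eqes L57865 L858
theorem L57867 : N1245 = N81 := eqc rfl L57866 rfl
theorem L57874 : sm gd N81 = N620 := trfs L57867 L6375 rfl
theorem L57875 : N620 = N38 := eqes L57874 L432
theorem L57876 : N620 = N38 := eqc rfl L57875 rfl
theorem L57901 : sm gg N38 = N1241 := trfs L57876 L6355 rfl
theorem L57902 : N1241 = N38 := eqes L57901 L196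
theorem L57903 : N1241 = N38 := eqc rfl L57902 rfl
theorem L57906 : sm gc N38 = N2297 := trfs L57903 L12066 rfl
theorem L57907 : N2297 = N20 := eqes L57906 L197
theorem L57908 : N2297 = N20 := eqc rfl L57907 rfl
theorem L57924 : sm gf N20 = N4251 := trfs L57908 L23209 rfl
theorem L57925 : N4251 = N45 := eqes L57924 L233
theorem L57926 : N4251 = N45 := eqc rfl L57925 rfl
theorem L57935 : sm ge N45 = N4337 := trfs L57926 L23618 rfl
theorem L57936 : N4337 = N92 := eqes L57935 L492
theorem L57937 : N4337 = N92 := eqc rfl L57936 rfl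
theorem L57942 : sm gb N92 = N2342 := trfs L57937 L23621 rfl
theorem L57943 : N2342 = N51 := eqes L57942 L489
theorem L57944 : N2342 = N51 := eqc rfl L57943 rfl
theorem L57967 : sm gg N51 = N1183 := trfs L57944 L12286 rfl
theorem L57968 : N1183 = N23 := eqes L57967 L261
theorem L57969 : N1183 = N23 := eqc rfl L57968 rfl
theorem L57977 : sm gf N23 = N588 := trfs L57969 L6029 rfl
theorem L57978 : N588 = N9 := eqes L57977 L116
theorem L57979 : N588 = N9 := eqc rfl L57978 rfl
theorem L57986 : sm ge N9 = N1190 := trfs L57979 L6063 rfl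
theorem L57987 : N1190 = N22 := eqes L57986 L109
theorem L57988 : N1190 = N22 := eqc rfl L57987 rfl
theorem L57995 : sm gd N22 = N2355 := trfs L57988 L12363 rfl
theorem L57996 : N2355 = N48 := eqes L57995 L269
theorem L57997 : N2355 = N48 := eqc rfl L57996 rfl
theorem L58009 : sm ge N48 = N4362 := trfs L57997 L23736 rfl
theorem L58010 : N4362 = N98 := eqes L58009 L524
theorem L58011 : N4362 = N98 := eqc rfl L58010 rfl
theorem L58018 : sm gd N98 = N2352 := trfs L58011 L23734 rfl
theorem L58019 : N2352 = N47 := eqes L58018 L521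
theorem L58020 : N2352 = N47 := eqc rfl L58019 rfl
theorem L58034 : sm gg N47 = N4364 := trfs L58020 L23741 rfl
theorem L58035 : N4364 = N96 := eqes L58034 L514
theorem L58036 : N4364 = N96 := eqc rfl L58035 rfl
theorem L58040 : sm gf N96 = N4365 := trfs L58036 L23747 rfl
theorem L58041 : N4365 = N99 := eqes L58040 L536
theorem L58042 : N4365 = N99 := eqc rfl L58041 rfl
theorem L58046 : sm gg N99 = N2353 := trfs L58042 L23746 rfl
theorem L58047 : N2353 = N48 := eqes L58046 L530
theorem L58048 : N2353 = N48 := eqc rfl L58047 rfl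
theorem L58058 : sm gd N48 = N4341 := trfs L58048 L23638 rfl
theorem L58059 : N4341 = N22 := eqes L58058 L268
theorem L58060 : N4341 = N22 := eqc rfl L58059 rfl
theorem L58070 : sm gg N22 = N7139 := trfs L58060 L39345 rfl
theorem L58071 : N7139 = N22 := eqes L58070 L114
theorem L58072 : N7139 = N22 := eqc rfl L58071 rfl
theorem L58076 : sm ge N22 = N4099 := trfs L58072 L39341 rfl
theorem L58077 : N4099 = N9 := eqes L58076 L110
theorem L58078 : N4099 = N9 := eqc rfl L58077 rfl
theorem L58091 : sm gf N9 = N4342 := trfs L58078 L23643 rfl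
theorem L58092 : N4342 = N23 := eqes L58091 L115
theorem L58093 : N4342 = N23 := eqc rfl L58092 rfl
theorem L58095 : sm gc N23 = N4101 := trfs L58093 L23641 rfl
theorem L58096 : N4101 = N11 := eqes L58095 L118
theorem L58097 : N4101 = N11 := eqc rfl L58096 rfl
theorem L58112 : sm gg N11 = N4339 := trfs L58097 L23632 rfl
theorem L58113 : N4339 = N24 := eqes L58112 L126
theorem L58114 : N4339 = N24 := eqc rfl L58113 rfl
theorem L58116 : sm ge N24 = N7125 := trfs L58114 L39292 rfl
theorem L58117 : N7125 = N11 := eqes L58116 L123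
theorem L58118 : N7125 = N11 := eqc rfl L58117 rfl
theorem L58123 : sm gf N11 = N4093 := trfs L58118 L39288 rfl
theorem L58124 : N4093 = N5 := eqes L58123 L62
theorem L58125 : N4093 = N5 := eqc rfl L58124 rfl
theorem L58134 : sm gd N5 = N2186 := trfs L58125 L22265 rfl
theorem L58135 : N2186 = N2 := eqes L58134 L31
theorem L58136 : N2186 = N2 := eqc rfl L58135 rfl
theorem L58154 : sm gg N2 = N1101 := trfs L58136 L11420 rfl
theorem L58155 : N1101 = N0 := eqes L58154 L12
theorem L58156 : N1101 = N0 := eqc rfl L58155 rfl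
theorem L58172 : sm gf N0 = N2185 := trfs L58156 L11417 rfl
theorem L58173 : N2185 = N0 := eqes L58172 L4
theorem L58174 : N2185 = N0 := eqc rfl L58173 rfl
theorem L58188 : sm gg N0 = N4092 := trfs L58174 L22260 rfl
theorem L58189 : N4092 = N2 := eqes L58188 L11
theorem L58190 : N4092 = N2 := eqc rfl L58189 rfl
theorem L58197 : sm gc N2 = N7114 := trfs L58190 L39238 rfl
theorem L58198 : N7114 = N2 := eqes L58197 L14
theorem L58199 : N7114 = N2 := eqc rfl L58198 rfl
theorem L58208 : sm gf N2 = N7112 := trfs L58199 L39240 rfl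
theorem L58209 : N7112 = N2 := eqes L58208 L16
theorem L58210 : N7112 = N2 := eqc rfl L58209 rfl
theorem L58214 : sm gg N2 = N4086 := trfs L58210 L39228 rfl
theorem L58215 : N4086 = N0 := eqes L58214 L12
theorem L58216 : N4086 = N0 := eqc rfl L58215 rfl
theorem L58220 : sm gb N0 = N7107 := trfs L58216 L39210 rfl
theorem L58221 : N7107 = N1 := eqes L58220 L5
theorem L58222 : N7107 = N1 := eqc rfl L58221 rfl
theorem L58237 : sm ge N1 = N4085 := trfs L58222 L39208 rfl
theorem L58238 : N4085 = N1 := eqes L58237 L8
theorem L58239 : N4085 = N1 := eqc rfl L58238 rfl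
theorem L58244 : sm gc N1 = N7088 := trfs L58239 L39116 rfl
theorem L58245 : N7088 = N3 := eqes L58244 L17
theorem L58246 : N7088 = N3 := eqc rfl L58245 rfl
theorem L58275 : sm gb N3 = N4078 := trfs L58246 L39114 rfl
theorem L58276 : N4078 = N3 := eqes L58275 L22
theorem L58277 : N4078 = N3 := eqc rfl L58276 rfl
theorem L58285 : sm ge N3 = N7090 := trfs L58277 L39119 rfl
theorem L58286 : N7090 = N3 := eqes L58285 L20
theorem L58287 : N7090 = N3 := eqc rfl L58286 rfl
theorem L58296 : sm gc N3 = N4079 := trfs L58287 L39121 rfl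
theorem L58297 : N4079 = N1 := eqes L58296 L18
theorem L58298 : N4079 = N1 := eqc rfl L58297 rfl
theorem L58303 : sm gd N1 = N7093 := trfs L58298 L39131 rfl
theorem L58304 : N7093 = N1 := eqes L58303 L7
theorem L58305 : N7093 = N1 := eqc rfl L58304 rfl
theorem L58330 : sm ge N1 = N4082 := trfs L58305 L39137 rfl
theorem L58331 : N4082 = N1 := eqes L58330 L8
theorem L58332 : N4082 = N1 := eqc rfl L58331 rfl
theorem L58348 : sm gg N1 = N7101 := trfs L58332 L39183 rfl
theorem L58349 : N7101 = N4 := eqes L58348 L23
theorem L58350 : N7101 = N4 := eqc rfl L58349 rfl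
theorem L58354 : sm gb N4 = N4097 := trfs L58350 L39187 rfl
theorem L58355 : N4097 = N2 := eqes L58354 L26
theorem L58356 : N4097 = N2 := eqc rfl L58355 rfl
theorem L58369 : sm gf N2 = N7133 := trfs L58356 L39320 rfl
theorem L58370 : N7133 = N2 := eqes L58369 L16
theorem L58371 : N7133 = N2 := eqc rfl L58370 rfl
theorem L58376 : sm gg N2 = N7118 := trfs L58371 L39324 rfl
theorem L58377 : N7118 = N0 := eqes L58376 L12
theorem L58378 : N7118 = N0 := eqc rfl L58377 rfl
theorem L58379 : sm ge N0 = N4096 := trfs L58378 L39259 rfl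
theorem L58380 : N4096 = N0 := eqes L58379 L3
theorem L58381 : N4096 = N0 := eqc rfl L58380 rfl
theorem L58387 : sm gc N0 = N7129 := trfs L58381 L39307 rfl
theorem L58388 : N7129 = N0 := eqes L58387 L1
theorem L58389 : N7129 = N0 := eqc rfl L58388 rfl
theorem L58393 : sm gf N0 = N4095 := trfs L58389 L39305 rfl
theorem L58394 : N4095 = N0 := eqes L58393 L4
theorem L58395 : N4095 = N0 := eqc rfl L58394 rfl
theorem L58396 : sm ga N0 = N7077 := trfs L58395 L39060 rfl
theorem L58397 : N7077 = N0 := eqes L58396 L0
theorem L58398 : N7077 = N0 := eqc rfl L58397 rfl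
theorem L58411 : sm gc N0 = N4074 := trfs L58398 L39058 rfl
theorem L58412 : N4074 = N0 := eqes L58411 L1
theorem L58413 : N4074 = N0 := eqc rfl L58412 rfl
theorem L58418 : sm gd N0 = N2177 := trfs L58413 L22173 rfl
theorem L58419 : N2177 = N0 := eqes L58418 L2
theorem L58420 : N2177 = N0 := eqc rfl L58419 rfl
theorem L58465 : sm gg N0 = N2190 := trfs L58420 L11442 rfl
theorem L58466 : N2190 = N2 := eqes L58465 L11
theorem L58467 : N2190 = N2 := eqc rfl L58466 rfl
theorem L58474 : sm gc N2 = N1105 := trfs L58467 L11437 rfl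
theorem L58475 : N1105 = N2 := eqes L58474 L14
theorem L58476 : N1105 = N2 := eqc rfl L58475 rfl
theorem L58645 : sm gd N2 = N2192 := trfs L58476 L11449 rfl
theorem L58646 : N2192 = N5 := eqes L58645 L30
theorem L58647 : N2192 = N5 := eqc rfl L58646 rfl
theorem L58662 : sm gf N5 = N1187 := trfs L58647 L11455 rfl
theorem L58663 : N1187 = N11 := eqes L58662 L61
theorem L58664 : N1187 = N11 := eqc rfl L58663 rfl
theorem L58681 : sm gg N11 = N2338 := trfs L58664 L12265 rfl
theorem L58682 : N2338 = N24 := eqes L58681 L126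
theorem L58683 : N2338 = N24 := eqc rfl L58682 rfl
theorem L58691 : sm gf N24 = N1182 := trfs L58683 L12260 rfl
theorem L58692 : N1182 = N10 := eqes L58691 L121
theorem L58693 : N1182 = N10 := eqc rfl L58692 rfl
theorem L58698 : sm gc N10 = N2337 := trfs L58693 L12257 rfl
theorem L58699 : N2337 = N22 := eqes L58698 L113
theorem L58700 : N2337 = N22 := eqc rfl L58699 rfl
theorem L58713 : sm ge N22 = N4103 := trfs L58700 L22295 rfl
theorem L58714 : N4103 = N9 := eqes L58713 L110
theorem L58715 : N4103 = N9 := eqc rfl L58714 rfl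
theorem L58719 : sm gb N9 = N7145 := trfs L58715 L39374 rfl
theorem L58720 : N7145 = N20 := eqes L58719 L103
theorem L58721 : N7145 = N20 := eqc rfl L58720 rfl
theorem L58748 : sm gg N20 = N7147 := trfs L58721 L39387 rfl
theorem L58749 : N7147 = N20 := eqes L58748 L105
theorem L58750 : N7147 = N20 := eqc rfl L58749 rfl
theorem L58756 : sm gf N20 = N4349 := trfs L58750 L39384 rfl
theorem L58757 : N4349 = N45 := eqes L58756 L233
theorem L58758 : N4349 = N45 := eqc rfl L58757 rfl
theorem L58760 : sm gc N45 = N2411 := trfs L58758 L23679 rfl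
theorem L58761 : N2411 = N82 := eqes L58760 L440
theorem L58762 : N2411 = N82 := eqc rfl L58761 rfl
theorem L58769 : sm ge N82 = N4440 := trfs L58762 L24233 rfl
theorem L58770 : N4440 = N161 := eqes L58769 L848
theorem L58771 : N4440 = N161 := eqc rfl L58770 rfl
theorem L58778 : sm gf N161 = N4424 := trfs L58771 L24237 rfl
theorem L58779 : N4424 = N80 := eqes L58778 L840
theorem L58780 : N4424 = N80 := eqc rfl L58779 rfl
theorem L58787 : sm gg N80 = N2400 := trfs L58780 L24127 rfl
theorem L58788 : N2400 = N80 := eqes L58787 L426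
theorem L58789 : N2400 = N80 := eqc rfl L58788 rfl
theorem L58795 : sm gd N80 = N4430 := trfs L58789 L24170 rfl
theorem L58796 : N4430 = N160 := eqes L58795 L833
theorem L58797 : N4430 = N160 := eqc rfl L58796 rfl
theorem L58806 : sm gg N160 = N2734 := trfs L58797 L24181 rfl
theorem L58807 : N2734 = N322 := eqes L58806 L1657
theorem L58808 : N2734 = N322 := eqc rfl L58807 rfl
theorem L58814 : sm gd N322 = N4966 := trfs L58808 L27271 rfl
theorem L58815 : N4966 = N322 := eqes L58814 L1663
theorem L58816 : N4966 = N322 := eqc rfl L58815 rfl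
theorem L58825 : sm ge N322 = N3455 := trfs L58816 L27275 rfl
theorem L58826 : N3455 = N636 := eqes L58825 L3285
theorem L58827 : N3455 = N636 := eqc rfl L58826 rfl
theorem L58830 : sm gb N636 = N1775 := trfs L58827 L18299 rfl
theorem L58831 : N1775 = N350 := eqes L58830 L3282
theorem L58832 : N1775 = N350 := eqc rfl L58831 rfl
theorem L58833 : sm gc N636 = N6283 := trfs L58827 L34182 rfl
theorem L58834 : sm gc N6283 = N636 := flp_c L58833
theorem L58860 : sm gg N350 = N2375 := trfs L58832 L12483 rfl
theorem L58861 : N2375 = N171 := eqes L58860 L1796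
theorem L58862 : N2375 = N171 := eqc rfl L58861 rfl
theorem L58868 : sm ge N171 = N4404 := trfs L58862 L23969 rfl
theorem L58869 : N4404 = N87 := eqes L58868 L890
theorem L58870 : N4404 = N87 := eqc rfl L58869 rfl
theorem L58873 : sm gc N87 = N2376 := trfs L58870 L23972 rfl
theorem L58874 : N2376 = N177 := eqes L58873 L919
theorem L58875 : N2376 = N171 := eqc rfl L58874 L44219
theorem L58880 : sm gb N171 = N4383 := trfs L58875 L23838 rfl
theorem L58881 : N4383 = N320 := eqes L58880 L1648
theorem L58882 : N4383 = N320 := eqc rfl L58881 rfl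
theorem L58894 : sm gf N320 = N6644 := trfs L58882 L36479 rfl
theorem L58895 : N6644 = N635 := eqes L58894 L3270
theorem L58896 : N6644 = N635 := eqc rfl L58895 rfl
theorem L58899 : sm ge N635 = N4384 := trfs L58896 L36481 rfl
theorem L58900 : N4384 = N321 := eqes L58899 L3276
theorem L58901 : N4384 = N321 := eqc rfl L58900 rfl
theorem L58908 : sm gd N321 = N2245 := trfs L58901 L23898 L45273
theorem L58909 : N2245 = N1348 := eqes L58908 L53448
theorem L58910 : N2245 = N481 := eqc rfl L58909 L54269
theorem L58973 : sm gg N481 = N1135 := trfs L58910 L11758 rfl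
theorem L58974 : N1135 = N956 := eqes L58973 L4877
theorem L58975 : N1135 = N241 := eqc rfl L58974 L57650
theorem L58986 : sm ge N241 = N2243 := trfs L58975 L11749 rfl
theorem L58987 : N2243 = N483 := eqes L58986 L2500
theorem L58988 : N2243 = N483 := eqc rfl L58987 rfl
theorem L58996 : sm gd N483 = N4181 := trfs L58988 L22759 rfl
theorem L58997 : N4181 = N961 := eqes L58996 L4900
theorem L58998 : N4181 = N961 := eqc rfl L58997 rfl
theorem L59003 : sm ga N961 = N4204 := trfs L58998 L22912 rfl
theorem L59004 : N4204 = N933 := eqes L59003 L4902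
theorem L59005 : N4204 = N933 := eqc rfl L59004 rfl
theorem L59010 : sm gb N933 = N2263 := trfs L59005 L22913 rfl
theorem L59011 : N2263 = N470 := eqes L59010 L4769
theorem L59012 : N2263 = N470 := eqc rfl L59011 rfl
theorem L59029 : sm gg N470 = N4208 := trfs L59012 L22938 rfl
theorem L59030 : N4208 = N863 := eqes L59029 L48940
theorem L59031 : N4208 = N863 := eqc rfl L59030 rfl
theorem L59040 : sm gf N863 = N7046 := trfs L59031 L38869 rfl
theorem L59041 : N7046 = N439 := eqes L59040 L4432
theorem L59042 : N7046 = N439 := eqc rfl L59041 rfl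
theorem L59050 : sm gg N439 = N4043 := trfs L59042 L38863 rfl
theorem L59051 : N4043 = N872 := eqes L59050 L4471
theorem L59052 : N4043 = N351 := eqc rfl L59051 L46148
theorem L59057 : sm gc N351 = N2156 := trfs L59052 L21965 rfl
theorem L59058 : N2156 = N1019 := eqes L59057 L48897
theorem L59059 : N2156 = N1019 := eqc rfl L59058 rfl
theorem L59071 : sm ge N1019 = N4044 := trfs L59059 L21969 rfl
theorem L59072 : N4044 = N2044 := eqes L59071 L10622
theorem L59073 : N4044 = N873 := eqc rfl L59072 L46553
theorem L59109 : sm gg N873 = N4213 := trfs L59073 L22980 rfl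
theorem L59110 : N4213 = N440 := eqes L59109 L4477
theorem L59111 : N4213 = N440 := eqc rfl L59110 rfl
theorem L59114 : sm gd N440 = N2260 := trfs L59111 L22976 L45162
theorem L59115 : N2260 = N224 := eqes L59114 L2312
theorem L59116 : N2260 = N224 := eqc rfl L59115 rfl
theorem L59130 : sm gg N224 = N2253 := trfs L59116 L11918 L45145
theorem L59131 : N2253 = N247 := eqes L59130 L1274
theorem L59132 : N2253 = N247 := eqc rfl L59131 rfl
theorem L59144 : sm gf N247 = N1139 := trfs L59132 L11805 rfl
theorem L59145 : N1139 = N125 := eqes L59144 L1269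
theorem L59146 : N1139 = N125 := eqc rfl L59145 rfl
theorem L59158 : sm gg N125 = N2254 := trfs L59146 L11809 rfl
theorem L59159 : N2254 = N63 := eqes L59158 L667
theorem L59160 : N2254 = N63 := eqc rfl L59159 rfl
theorem L59169 : sm gf N63 = N2266 := trfs L59160 L11863 rfl
theorem L59170 : N2266 = N114 := eqes L59169 L625
theorem L59171 : N2266 = N114 := eqc rfl L59170 rfl
theorem L59179 : sm gd N114 = N2121 := trfs L59171 L20272 rfl
theorem L59180 : N2121 = N58 := eqes L59179 L622
theorem L59181 : N2121 = N58 := eqc rfl L59180 rfl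
theorem L59187 : sm gc N58 = N1066 := trfs L59181 L11073 rfl
theorem L59188 : N1066 = N58 := eqes L59187 L311
theorem L59189 : N1066 = N58 := eqc rfl L59188 rfl
theorem L59204 : sm gg N58 = N2124 := trfs L59189 L11085 rfl
theorem L59205 : N2124 = N115 := eqes L59204 L626
theorem L59206 : N2124 = N115 := eqc rfl L59205 rfl
theorem L59217 : sm gf N115 = N949 := trfs L59206 L11089 L45018
theorem L59218 : N949 = N113 := eqes L59217 L631
theorem L59219 : N949 = N113 := eqc rfl L59218 rfl
theorem L59230 : sm gg N113 = N476 := trfs L59219 L4840 rfl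
theorem L59231 : N476 = N57 := eqes L59230 L616
theorem L59232 : N476 = N57 := eqc rfl L59231 rfl
theorem L59238 : sm gd N57 = N238 := trfs L59232 L2464 rfl
theorem L59239 : N238 = N111 := eqes L59238 L604
theorem L59240 : N238 = N111 := eqc rfl L59239 rfl
theorem L59263 : sm gg N111 = N465 := trfs L59240 L2420 rfl
theorem L59264 : N465 = N220 := eqes L59263 L1149
theorem L59265 : N465 = N220 := eqc rfl L59264 rfl
theorem L59268 : sm gc N220 = N233 := trfs L59265 L2417 rfl
theorem L59269 : N233 = N120 := eqes L59268 L1152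
theorem L59270 : N233 = N120 := eqc rfl L59269 rfl
theorem L59276 : sm gf N220 = N928 := trfs L59265 L4740 rfl
theorem L59277 : N928 = N232 := eqes L59276 L1202
theorem L59278 : N928 = N226 := eqc rfl L59277 L43237
theorem L59283 : sm gc N226 = N234 := trfs L59278 L4743 L43250
theorem L59284 : N234 = N6393 := eqes L59283 L54673
theorem L59285 : N6393 = N234 := (eqc rfl L59284 rfl).symm
theorem L59367 : sm gf N234 = N6383 := trfs L59285 L34867 rfl
theorem L59368 : N6383 = N120 := eqes L59367 L1210
theorem L59369 : N6383 = N120 := eqc rfl L59368 rfl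
theorem L59378 : sm ge N120 = N3585 := trfs L59369 L34803 rfl
theorem L59379 : N3585 = N220 := eqes L59378 L1155
theorem L59380 : N3585 = N220 := eqc rfl L59379 rfl
theorem L59382 : sm gb N220 = N6384 := trfs L59380 L34809 rfl
theorem L59383 : N6384 = N390 := eqes L59382 L2035
theorem L59384 : N6384 = N390 := eqc rfl L59383 rfl
theorem L59410 : sm gd N390 = N4942 := trfs L59384 L34813 rfl
theorem L59411 : N4942 = N769 := eqes L59410 L3957
theorem L59412 : N4942 = N769 := eqc rfl L59411 rfl
theorem L59429 : sm gf N769 = N2708 := trfs L59412 L27128 rfl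
theorem L59430 : N2708 = N1543 := eqes L59429 L7940
theorem L59431 : N2708 = N408 := eqc rfl L59430 L43153
theorem L59438 : sm gc N408 = N4572 := trfs L59431 L25054 rfl
theorem L59439 : N4572 = N803 := eqes L59438 L4141
theorem L59440 : N4572 = N803 := eqc rfl L59439 rfl
theorem L59441 : sm gd N408 = N3928 := trfs L59431 L21278 rfl
theorem L59442 : N3928 = N206 := eqes L59441 L2149
theorem L59443 : N3928 = N206 := eqc rfl L59442 rfl
theorem L59459 : sm gg N206 = N2082 := trfs L59443 L21270 rfl
theorem L59460 : N2082 = N104 := eqes L59459 L1081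
theorem L59461 : N2082 = N104 := eqc rfl L59460 rfl
theorem L59474 : sm gf N104 = N3927 := trfs L59461 L21261 rfl
theorem L59475 : N3927 = N205 := eqes L59474 L1074
theorem L59476 : N3927 = N205 := eqc rfl L59475 rfl
theorem L59489 : sm gg N205 = N3931 := trfs L59476 L21304 rfl
theorem L59490 : N3931 = N210 := eqes L59489 L1111
theorem L59491 : N3931 = N210 := eqc rfl L59490 rfl
theorem L59499 : sm gd N210 = N6898 := trfs L59491 L37994 rfl
theorem L59500 : N6898 = N416 := eqes L59499 L2184
theorem L59501 : N6898 = N416 := eqc rfl L59500 rfl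
theorem L59504 : sm ga N416 = N3956 := trfs L59501 L37996 rfl
theorem L59505 : N3956 = N777 := eqes L59504 L4014
theorem L59506 : N3956 = N777 := eqc rfl L59505 rfl
theorem L61037 : sm gc N777 = N6950 := trfs L59506 L38251 rfl
theorem L61038 : N6950 = N1557 := eqes L61037 L8028
theorem L61039 : N6950 = N1557 := eqc rfl L61038 rfl
theorem L61045 : sm gb N1557 = N7034 := trfs L61039 L38792 rfl
theorem L61046 : sm gb N7034 = N1557 := flp_b L61045
theorem L61078 : sm ga N803 = N2592 := trfs L59440 L25056 rfl
theorem L61079 : N2592 = N1541 := eqes L61078 L7927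
theorem L61080 : N2592 = N1541 := eqc rfl L61079 rfl
theorem L61081 : sm gb N803 = N2501 := trfs L59440 L25049 rfl
theorem L61082 : N2501 = N1615 := eqes L61081 L8330
theorem L61083 : N2501 = N1615 := eqc rfl L61082 rfl
theorem L61084 : sm ge N803 = N803 := trfs L59440 L25050 L59440
theorem L61085 : N803 = N1617 := eqes L61084 L8336
theorem L61086 : N1617 = N803 := (eqc rfl L61085 rfl).symm
theorem L61088 : sm ga N803 = N2984 := trfs L61086 L15861 rfl
theorem L61089 : N2984 = N1541 := eqes L61088 L7927
theorem L61090 : N2984 = N1541 := eqc rfl L61089 rfl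
theorem L61091 : sm gb N803 = N3139 := trfs L61086 L16695 rfl
theorem L61092 : N3139 = N1615 := eqes L61091 L8330
theorem L61093 : N3139 = N1615 := eqc rfl L61092 rfl
theorem L61095 : sm gd N803 = N3145 := trfs L61086 L16714 rfl
theorem L61096 : N3145 = N1616 := eqes L61095 L8334
theorem L61097 : N3145 = N1616 := eqc rfl L61096 rfl
theorem L61098 : sm ge N803 = N803 := trfs L61086 L8337 rfl
theorem L61099 : sm gf N803 = N3146 := trfs L61086 L16716 rfl
theorem L61100 : N3146 = N1618 := eqes L61099 L8340
theorem L61101 : N3146 = N1618 := eqc rfl L61100 rfl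
theorem L61106 : sm gb N1618 = N5680 := trfs L61101 L31186 rfl
theorem L61107 : N5680 = N3140 := eqes L61106 L16703
theorem L61108 : N5680 = N1325 := eqc rfl L61107 L46745
theorem L61131 : sm ga N1325 = N5358 := trfs L61108 L31183 rfl
theorem L61132 : N5358 = N2501 := eqes L61131 L13203
theorem L61133 : N5358 = N1615 := eqc rfl L61132 L61083
theorem L61140 : sm gb N1615 = N2985 := trfs L61133 L29526 rfl
theorem L61141 : N2985 = N803 := eqes L61140 L8331
theorem L61142 : N2985 = N803 := eqc rfl L61141 rfl
theorem L61144 : sm ge N1615 = N5674 := trfs L61133 L31158 rfl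
theorem L61145 : N5674 = N3139 := eqes L61144 L16690
theorem L61146 : N5674 = N1615 := eqc rfl L61145 L61093
theorem L61147 : sm gf N1615 = N2653 := trfs L61133 L29525 L46782
theorem L61148 : N2653 = N3140 := eqes L61147 L16700
theorem L61149 : N2653 = N1325 := eqc rfl L61148 L46745
theorem L61153 : N4872 = N1618 := L43183.trans L61101
theorem L61154 : sm gb N1325 = N1618 := trfs L61149 L26658 L61153
theorem L61155 : N1618 = N2592 := eqes L61154 L13658
theorem L61156 : N1618 = N1541 := eqc rfl L61155 L61080
theorem L61185 : N2982 = N1325 := L46782.trans L61149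
theorem L61257 : sm gd N1541 = N3147 := trfs L61156 L16724 rfl
theorem L61258 : N3147 = N2983 := eqes L61257 L15854
theorem L61259 : N3147 = N2983 := eqc rfl L61258 rfl
theorem L61278 : sm gf N2983 = N5690 := trfs L61259 L31232 rfl
theorem L61279 : N5690 = N5361 := eqes L61278 L29538
theorem L61280 : N5690 = N5361 := eqc rfl L61279 rfl
theorem L61284 : sm gd N5361 = N3143 := trfs L61280 L31230 rfl
theorem L61285 : sm gd N3143 = N5361 := flp_d L61284
theorem L61291 : sm ga N1615 = N1325 := trfs L61146 L31151 L46745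
theorem L61292 : N1325 = N3137 := eqes L61291 L16678
theorem L61293 : N3137 = N1325 := (eqc rfl L61292 rfl).symm
theorem L61306 : sm gd N1325 = N5673 := trfs L61293 L31143 rfl
theorem L61307 : N5673 = N2593 := eqes L61306 L13663
theorem L61308 : N5673 = N2593 := eqc rfl L61307 rfl
theorem L61312 : sm ga N2593 = N3138 := trfs L61308 L31145 rfl
theorem L61313 : N3138 = N4573 := eqes L61312 L25060
theorem L61314 : N4573 = N3138 := (eqc rfl L61313 rfl).symm
theorem L61315 : sm gb N2593 = N5363 := trfs L61308 L31147 rfl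
theorem L61316 : N5363 = N4755 := eqes L61315 L26032
theorem L61317 : N5363 = N4755 := eqc rfl L61316 rfl
theorem L61318 : sm ga N4755 = N1616 := trfs L61317 L29550 L61097
theorem L61319 : sm ga N1616 = N4755 := flp_a L61318
theorem L61320 : N4755 = N2983 := eqes L61319 L15857
theorem L61321 : N4755 = N2983 := eqc rfl L61320 rfl
theorem L61324 : sm gb N2983 = N2593 := trfs L61321 L26031 rfl
theorem L61325 : N2593 = N5357 := eqes L61324 L29523
theorem L61326 : N5357 = N2593 := (eqc rfl L61325 rfl).symm
theorem L61331 : sm gb N2593 = N2983 := trfs L61326 L29522 rfl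
theorem L61332 : sm gb N2983 = N2593 := flp_b L61331
theorem L61336 : sm ga N3138 = N2593 := trfs L61314 L25059 rfl
theorem L61337 : sm ga N2593 = N3138 := flp_a L61336
theorem L61341 : sm gf N803 = N1541 := trfs L61142 L15867 rfl
theorem L61342 : sm gf N1541 = N803 := flp_f L61341
theorem L61348 : sm ge N1616 = N5687 := trfs L61097 L31220 rfl
theorem L61349 : N5687 = N3142 := eqes L61348 L16708
theorem L61350 : N5687 = N3142 := eqc rfl L61349 rfl
theorem L61357 : sm gd N3142 = N3142 := trfs L61350 L31218 rfl
theorem L61362 : sm ge N1615 = N1615 := trfs L61093 L16691 rfl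
theorem L61364 : sm ge N1541 = N1541 := trfs L61090 L15859 rfl
theorem L61365 : sm ga N1615 = N1325 := trfs L61083 L13202 rfl
theorem L61366 : sm ga N1325 = N1615 := flp_a L61365
theorem L61598 : sm gd N120 = N120 := trfs L59270 L1205 rfl
theorem L63681 : sm gd N164 = N4397 := trfs L56263 L23917 rfl
theorem L63682 : sm gd N4397 = N164 := flp_d L63681
theorem L63955 : sm gb N55 = N6693 := trfs L55431 L36792 rfl
theorem L63956 : N6693 = N28 := eqes L63955 L296
theorem L63957 : N6693 = N28 := eqc rfl L63956 rfl
theorem L63969 : sm gf N28 = N3784 := trfs L63957 L36788 rfl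
theorem L63970 : N3784 = N12 := eqes L63969 L140
theorem L63971 : N3784 = N12 := eqc rfl L63970 rfl
theorem L63980 : sm ge N12 = N3772 := trfs L63971 L20398 rfl
theorem L63981 : N3772 = N27 := eqes L63980 L134
theorem L63982 : N3772 = N27 := eqc rfl L63981 rfl
theorem L63993 : sm gd N27 = N6671 := trfs L63982 L36651 rfl
theorem L63994 : N6671 = N60 := eqes L63993 L316
theorem L63995 : N6671 = N60 := eqc rfl L63994 rfl
theorem L64006 : sm ge N60 = N6073 := trfs L63995 L39867 rfl
theorem L64007 : N6073 = N111 := eqes L64006 L608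
theorem L64008 : N6073 = N111 := eqc rfl L64007 rfl
theorem L64016 : sm gd N111 = N6086 := trfs L64008 L39844 rfl
theorem L64017 : N6086 = N57 := eqes L64016 L605
theorem L64018 : N6086 = N57 := eqc rfl L64017 rfl
theorem L64023 : sm gc N57 = N3354 := trfs L64018 L33161 rfl
theorem L64024 : N3354 = N57 := eqes L64023 L307
theorem L64025 : N3354 = N57 := eqc rfl L64024 rfl
theorem L64040 : sm gg N57 = N6133 := trfs L64025 L33405 rfl
theorem L64041 : N6133 = N113 := eqes L64040 L615
theorem L64042 : N6133 = N113 := eqc rfl L64041 rfl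
theorem L64044 : sm gb N113 = N6154 := trfs L64042 L33484 rfl
theorem L64045 : N6154 = N206 := eqes L64044 L1083
theorem L64046 : N6154 = N206 := eqc rfl L64045 rfl
theorem L64061 : sm gf N206 = N6177 := trfs L64046 L33571 rfl
theorem L64062 : N6177 = N208 := eqes L64061 L1096
theorem L64063 : N6177 = N208 := eqc rfl L64062 rfl
theorem L64067 : sm gg N208 = N3377 := trfs L64063 L33568 rfl
theorem L64068 : N3377 = N105 := eqes L64067 L1093
theorem L64069 : N3377 = N105 := eqc rfl L64068 rfl
theorem L64070 : sm ga N105 = N5532 := trfs L64069 L30511 rfl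
theorem L64071 : N5532 = N197 := eqes L64070 L1035
theorem L64072 : N5532 = N197 := eqc rfl L64071 rfl
theorem L64085 : sm gc N197 = N3065 := trfs L64072 L30512 rfl
theorem L64086 : N3065 = N387 := eqes L64085 L2015
theorem L64087 : N3065 = N387 := eqc rfl L64086 rfl
theorem L64092 : sm gd N387 = N5534 := trfs L64087 L30520 rfl
theorem L64093 : N5534 = N764 := eqes L64092 L3921
theorem L64094 : N5534 = N764 := eqc rfl L64093 rfl
theorem L64116 : sm gf N764 = N3067 := trfs L64094 L30524 rfl
theorem L64117 : N3067 = N1528 := eqes L64116 L7859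
theorem L64118 : N3067 = N1528 := eqc rfl L64117 rfl
theorem L64125 : sm ge N1528 = N5538 := trfs L64118 L30544 rfl
theorem L64126 : N5538 = N2953 := eqes L64125 L15666
theorem L64127 : N5538 = N2953 := eqc rfl L64126 rfl
theorem L64135 : sm gd N2953 = N3069 := trfs L64127 L30548 rfl
theorem L64136 : N3069 = N1531 := eqes L64135 L15674
theorem L64137 : N3069 = N1531 := eqc rfl L64136 rfl
theorem L64144 : sm gf N1531 = N5526 := trfs L64137 L30482 rfl
theorem L64145 : N5526 = N2953 := eqes L64144 L15673
theorem L64146 : N5526 = N2953 := eqc rfl L64145 rfl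
theorem L64155 : sm gg N2953 = N5546 := trfs L64146 L30599 rfl
theorem L64156 : N5546 = N2964 := eqes L64155 L15745
theorem L64157 : N5546 = N2964 := eqc rfl L64156 rfl
theorem L64159 : sm gc N2964 = N5319 := trfs L64157 L30594 rfl
theorem L64160 : N5319 = N5320 := eqes L64159 L29271
theorem L64161 : N5320 = N5319 := (eqc rfl L64160 rfl).symm
theorem L64164 : sm ga N5319 = N3093 := trfs L64161 L29268 rfl
theorem L64165 : N3093 = N3092 := eqes L64164 L29264
theorem L64166 : N3093 = N3092 := eqc rfl L64165 rfl
theorem L64167 : sm gc N5319 = N2964 := trfs L64161 L29270 rfl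
theorem L64168 : sm gc N2964 = N5319 := flp_c L64167
theorem L64169 : sm ge N5319 = N5305 := trfs L64161 L29272 rfl
theorem L64170 : sm ge N5305 = N5319 := flp_e L64169
theorem L64171 : sm gf N5319 = N2961 := trfs L64161 L29267 rfl
theorem L64172 : N2961 = N5543 := eqes L64171 L30575
theorem L64173 : N5543 = N2961 := (eqc rfl L64172 rfl).symm
theorem L64174 : sm gg N5319 = N5304 := trfs L64161 L29274 rfl
theorem L64175 : sm gg N5304 = N5319 := flp_g L64174
theorem L64178 : sm gf N2961 = N5319 := trfs L64173 L30574 rfl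
theorem L64179 : sm gf N5319 = N2961 := flp_f L64178
theorem L64180 : sm gg N2961 = N3068 := trfs L64173 L30569 rfl
theorem L64181 : N3068 = N1530 := eqes L64180 L15717
theorem L64182 : N3068 = N1530 := eqc rfl L64181 rfl
theorem L64188 : sm gd N1530 = N5541 := trfs L64182 L30558 rfl
theorem L64189 : N5541 = N2959 := eqes L64188 L15706
theorem L64190 : N5541 = N2959 := eqc rfl L64189 rfl
theorem L64197 : sm ga N2959 = N3386 := trfs L64190 L30560 rfl
theorem L64198 : N3386 = N1590 := eqes L64197 L15708
theorem L64199 : N3386 = N1590 := eqc rfl L64198 rfl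
theorem L64200 : sm gc N2959 = N6220 := trfs L64190 L33789 rfl
theorem L64201 : N6220 = N3157 := eqes L64200 L16774
theorem L64202 : N6220 = N3157 := eqc rfl L64201 rfl
theorem L64206 : sm gd N3157 = N3401 := trfs L64202 L33786 rfl
theorem L64207 : N3401 = N1625 := eqes L64206 L16771
theorem L64208 : N3401 = N1625 := eqc rfl L64207 rfl
theorem L64209 : sm ga N1625 = N3325 := trfs L64208 L17916 rfl
theorem L64210 : N3325 = N2988 := eqes L64209 L15889
theorem L64211 : N3325 = N2988 := eqc rfl L64210 rfl
theorem L64219 : sm gf N1625 = N6222 := trfs L64208 L33797 rfl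
theorem L64220 : N6222 = N3159 := eqes L64219 L16780
theorem L64221 : N6222 = N1608 := eqc rfl L64220 L52014
theorem L64227 : sm ga N1608 = N6055 := trfs L64221 L33799 rfl
theorem L64228 : N6055 = N2977 := eqes L64227 L15819
theorem L64229 : N6055 = N2977 := eqc rfl L64228 rfl
theorem L64235 : N4808 = N2990 := L42405.trans L52008
theorem L64236 : sm gf N2977 = N2988 := trfs L64229 L32974 L64211
theorem L64237 : N2988 = N3170 := eqes L64236 L42517
theorem L64238 : N3170 = N2988 := (eqc rfl L64237 rfl).symm
theorem L64239 : sm ga N2988 = N2617 := trfs L64238 L29653 L42459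
theorem L64240 : N2617 = N1625 := eqes L64239 L15888
theorem L64241 : N2617 = N1625 := eqc rfl L64240 rfl
theorem L64242 : sm gb N2988 = N5324 := trfs L64238 L31515 L42500
theorem L64243 : N5324 = N5370 := eqes L64242 L29578
theorem L64244 : N5370 = N5324 := (eqc rfl L64243 rfl).symm
theorem L64251 : sm ge N2988 = N5343 := trfs L64238 L31519 L42456
theorem L64252 : N5343 = N5371 := eqes L64251 L29580
theorem L64253 : N5371 = N5343 := (eqc rfl L64252 rfl).symm
theorem L64254 : sm gf N2988 = N2977 := trfs L64238 L42518 rfl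
theorem L64255 : N2977 = N5372 := eqes L64254 L29586
theorem L64256 : N5372 = N2977 := (eqc rfl L64255 rfl).symm
theorem L64257 : sm gg N2988 = N5342 := trfs L64238 L42509 rfl
theorem L64258 : N5342 = N5373 := eqes L64257 L29592
theorem L64259 : N5373 = N5342 := (eqc rfl L64258 rfl).symm
theorem L64260 : sm ga N5342 = N3160 := trfs L64259 L29594 rfl
theorem L64261 : N3160 = N3119 := eqes L64260 L29424
theorem L64262 : N3160 = N3119 := eqc rfl L64261 rfl
theorem L64263 : sm gc N5342 = N2991 := trfs L64259 L29596 rfl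
theorem L64264 : N2991 = N4809 := eqes L64263 L29428
theorem L64265 : N3165 = N2991 := (eqc rfl L64264 L42488).symm
theorem L64266 : sm gg N5342 = N2988 := trfs L64259 L29593 rfl
theorem L64267 : sm gg N2988 = N5342 := flp_g L64266
theorem L64268 : N5378 = N1628 := L42191.trans L51982
theorem L64270 : sm gb N2991 = N4598 := trfs L64265 L31334 L42289
theorem L64271 : N4598 = N2626 := eqes L64270 L42184
theorem L64272 : N4598 = N2626 := eqc rfl L64271 rfl
theorem L64277 : sm gf N2991 = N5745 := trfs L64265 L31481 rfl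
theorem L64278 : N5745 = N5379 := eqes L64277 L29628
theorem L64279 : N5745 = N5379 := eqc rfl L64278 rfl
theorem L64283 : sm gc N5379 = N2976 := trfs L64279 L31483 L42470
theorem L64284 : sm gc N2976 = N5379 := flp_c L64283
theorem L64285 : N5379 = N5347 := eqes L64284 L29471
theorem L64286 : N5379 = N5347 := eqc rfl L64285 rfl
theorem L64287 : N5745 = N5347 := L64279.trans L64286
theorem L64289 : sm gg N5347 = N5756 := trfs L64287 L31530 rfl
theorem L64290 : sm gg N5756 = N5347 := flp_g L64289
theorem L64292 : sm gb N5347 = N4823 := trfs L64286 L42202 rfl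
theorem L64293 : sm gb N4823 = N5347 := flp_b L64292
theorem L64297 : N4809 = N2991 := L42488.trans L64265
theorem L64298 : sm gg N5347 = N5375 := trfs L64286 L29634 rfl
theorem L64299 : N5375 = N5756 := eqes L64298 L64289
theorem L64300 : N5756 = N5375 := (eqc rfl L64299 rfl).symm
theorem L64303 : sm gg N5375 = N5347 := trfs L64300 L64290 rfl
theorem L64304 : sm gg N5347 = N5375 := flp_g L64303
theorem L64308 : sm gc N2626 = N4817 := trfs L64272 L26387 rfl
theorem L64309 : N4817 = N4821 := eqes L64308 L26398
theorem L64310 : N4821 = N4817 := (eqc rfl L64309 rfl).symm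
theorem L64311 : sm ge N2626 = N4826 := trfs L64272 L26425 rfl
theorem L64312 : N4826 = N4822 := eqes L64311 L26402
theorem L64313 : N4826 = N4822 := eqc rfl L64312 rfl
theorem L64314 : sm gg N2626 = N2515 := trfs L64272 L25236 rfl
theorem L64315 : N2515 = N1346 := eqes L64314 L13827
theorem L64316 : N2515 = N1346 := eqc rfl L64315 rfl
theorem L64322 : sm gc N1346 = N2622 := trfs L64316 L26296 rfl
theorem L64323 : N2622 = N2632 := eqes L64322 L13844
theorem L64324 : N2632 = N2622 := (eqc rfl L64323 rfl).symm
theorem L64326 : sm ge N1346 = N2628 := trfs L64316 L26302 rfl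
theorem L64327 : N2628 = N2633 := eqes L64326 L13846
theorem L64328 : N2633 = N2628 := (eqc rfl L64327 rfl).symm
theorem L64339 : sm ge N2628 = N1346 := trfs L64328 L13847 rfl
theorem L64340 : sm ge N1346 = N2628 := flp_e L64339
theorem L64341 : sm gf N2628 = N4837 := trfs L64328 L26465 rfl
theorem L64342 : N4837 = N4825 := eqes L64341 L26410
theorem L64343 : N4837 = N4825 := eqc rfl L64342 rfl
theorem L64346 : sm gb N4825 = N5375 := trfs L64343 L42214 rfl
theorem L64347 : sm gb N5375 = N4825 := flp_b L64346
theorem L64350 : sm gg N4825 = N4823 := trfs L64343 L26470 rfl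
theorem L64351 : sm gg N4823 = N4825 := flp_g L64350
theorem L64366 : sm gc N2622 = N1346 := trfs L64324 L13845 rfl
theorem L64367 : sm gc N1346 = N2622 := flp_c L64366
theorem L64379 : sm ga N4822 = N4817 := trfs L64313 L26420 rfl
theorem L64380 : sm ga N4817 = N4822 := flp_a L64379
theorem L64383 : N6068 = N5341 := L42194.trans L51970
theorem L64384 : sm gc N4822 = N2630 := trfs L64313 L26422 rfl
theorem L64385 : sm gc N2630 = N4822 := flp_c L64384
theorem L64386 : sm gf N4822 = N5345 := trfs L64313 L29455 rfl
theorem L64387 : N5345 = N4838 := eqes L64386 L26475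
theorem L64388 : N5345 = N4838 := eqc rfl L64387 rfl
theorem L64389 : sm gg N4822 = N2628 := trfs L64313 L26419 rfl
theorem L64390 : sm gg N2628 = N4822 := flp_g L64389
theorem L64391 : sm ga N4838 = N4827 := trfs L64388 L29460 rfl
theorem L64392 : sm ga N4827 = N4838 := flp_a L64391
theorem L64395 : N6057 = N2975 := L42206.trans L51990
theorem L64396 : sm gc N4838 = N4829 := trfs L64388 L29458 rfl
theorem L64397 : sm gc N4829 = N4838 := flp_c L64396
theorem L64399 : sm gc N4817 = N2626 := trfs L64310 L26399 rfl
theorem L64400 : sm gc N2626 = N4817 := flp_c L64399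
theorem L64401 : sm gb N3119 = N5726 := trfs L64262 L31390 rfl
theorem L64402 : N5726 = N3119 := eqes L64401 L16584
theorem L64403 : N5726 = N3119 := eqc rfl L64402 rfl
theorem L64424 : sm gg N3119 = N3156 := trfs L64403 L31388 rfl
theorem L64425 : N3156 = N2617 := eqes L64424 L16590
theorem L64426 : N3156 = N1625 := eqc rfl L64425 L64241
theorem L64430 : sm gb N1625 = N1625 := trfs L64426 L16769 rfl
theorem L64434 : sm gd N1625 = N5723 := trfs L64426 L31375 rfl
theorem L64435 : N5723 = N3157 := eqes L64434 L16770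
theorem L64436 : N5723 = N3157 := eqc rfl L64435 rfl
theorem L64446 : sm gb N3157 = N3157 := trfs L64436 L31377 rfl
theorem L64477 : sm gf N2977 = N2988 := trfs L64256 L29587 rfl
theorem L64478 : sm gf N2988 = N2977 := flp_f L64477
theorem L64482 : N4807 = N2989 := L42443.trans L51954
theorem L64483 : sm ge N5343 = N2988 := trfs L64253 L29581 rfl
theorem L64484 : sm ge N2988 = N5343 := flp_e L64483
theorem L64491 : sm gb N5324 = N2988 := trfs L64244 L29579 rfl
theorem L64492 : sm gb N2988 = N5324 := flp_b L64491
theorem L64493 : sm gd N5324 = N5578 := trfs L64244 L30743 rfl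
theorem L64494 : sm gd N5578 = N5324 := flp_d L64493
theorem L64497 : sm gd N1625 = N4810 := trfs L64241 L26331 rfl
theorem L64498 : N4810 = N3157 := eqes L64497 L16770
theorem L64499 : N4810 = N3157 := eqc rfl L64498 rfl
theorem L64504 : sm gg N1625 = N3119 := trfs L64241 L16589 rfl
theorem L64505 : sm gg N3119 = N1625 := flp_g L64504
theorem L64507 : sm gf N3157 = N3094 := trfs L64499 L26334 rfl
theorem L64508 : N3094 = N5728 := eqes L64507 L31397
theorem L64509 : N5728 = N3094 := (eqc rfl L64508 rfl).symm
theorem L64510 : sm ga N3094 = N5580 := trfs L64509 L31399 rfl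
theorem L64511 : N5580 = N5321 := eqes L64510 L29279
theorem L64512 : N5580 = N5321 := eqc rfl L64511 rfl
theorem L64513 : sm gc N3094 = N5315 := trfs L64509 L31401 rfl
theorem L64514 : N5315 = N5594 := eqes L64513 L30804
theorem L64515 : N5594 = N5315 := (eqc rfl L64514 rfl).symm
theorem L64516 : sm gf N3094 = N3157 := trfs L64509 L31398 rfl
theorem L64517 : sm gf N3157 = N3094 := flp_f L64516
theorem L64518 : sm gc N5315 = N3094 := trfs L64515 L30805 rfl
theorem L64519 : sm gc N3094 = N5315 := flp_c L64518
theorem L64520 : sm gg N5315 = N5598 := trfs L64515 L30821 rfl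
theorem L64521 : sm gg N5598 = N5315 := flp_g L64520
theorem L64522 : sm gc N5321 = N3088 := trfs L64512 L30750 rfl
theorem L64523 : sm gc N3088 = N5321 := flp_c L64522
theorem L64524 : sm gf N5321 = N3086 := trfs L64512 L30749 rfl
theorem L64525 : sm gf N3086 = N5321 := flp_f L64524
theorem L64555 : sm gg N1590 = N6197 := trfs L64199 L33651 rfl
theorem L64556 : N6197 = N3089 := eqes L64555 L16435
theorem L64557 : N6197 = N3089 := eqc rfl L64556 rfl
theorem L64558 : sm gd N3089 = N6187 := trfs L64557 L33696 rfl
theorem L64559 : N6187 = N5586 := eqes L64558 L30772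
theorem L64560 : N6187 = N5586 := eqc rfl L64559 rfl
theorem L64561 : sm gb N5586 = N6191 := trfs L64560 L33628 rfl
theorem L64562 : sm gb N6191 = N5586 := flp_b L64561
theorem L64565 : sm ge N5586 = N3382 := trfs L64560 L33606 rfl
theorem L64566 : N3382 = N3370 := eqes L64565 L30780
theorem L64567 : N3382 = N1583 := eqc rfl L64566 L40995
theorem L64606 : sm gb N1583 = N6185 := trfs L64567 L33601 rfl
theorem L64607 : N6185 = N3074 := eqes L64606 L16368
theorem L64608 : N6185 = N3074 := eqc rfl L64607 rfl
theorem L64616 : sm ge N3074 = N6191 := trfs L64608 L33629 rfl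
theorem L64617 : N6191 = N3082 := eqes L64616 L16407
theorem L64618 : N6191 = N3082 := eqc rfl L64617 rfl
theorem L64619 : sm ga N3082 = N3385 := trfs L64618 L33626 rfl
theorem L64620 : N3385 = N1589 := eqes L64619 L16403
theorem L64621 : N3385 = N1589 := eqc rfl L64620 rfl
theorem L64622 : sm gb N3082 = N5586 := trfs L64618 L64562 rfl
theorem L64623 : N5586 = N3076 := eqes L64622 L16405
theorem L64624 : N5586 = N3076 := eqc rfl L64623 rfl
theorem L64626 : sm gd N3076 = N3089 := trfs L64624 L30773 rfl
theorem L64627 : N3089 = N5559 := eqes L64626 L30659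
theorem L64628 : N5559 = N3089 := (eqc rfl L64627 rfl).symm
theorem L64648 : sm gb N3089 = N5569 := trfs L64628 L30693 rfl
theorem L64649 : N5569 = N5574 := eqes L64648 L30718
theorem L64650 : N5574 = N5569 := (eqc rfl L64649 rfl).symm
theorem L64651 : sm gd N3089 = N3076 := trfs L64628 L30660 rfl
theorem L64652 : sm gd N3076 = N3089 := flp_d L64651
theorem L64653 : sm gb N5569 = N3089 := trfs L64650 L30717 rfl
theorem L64654 : sm gb N3089 = N5569 := flp_b L64653
theorem L64655 : sm gg N5569 = N3083 := trfs L64650 L30716 rfl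
theorem L64656 : sm gg N3083 = N5569 := flp_g L64655
theorem L64666 : sm gg N1589 = N6194 := trfs L64621 L33641 rfl
theorem L64667 : N6194 = N3085 := eqes L64666 L16422
theorem L64668 : N6194 = N3085 := eqc rfl L64667 rfl
theorem L64670 : sm gf N3085 = N5577 := trfs L64668 L33646 rfl
theorem L64671 : N5577 = N5570 := eqes L64670 L30704
theorem L64672 : N5577 = N5570 := eqc rfl L64671 rfl
theorem L64675 : sm gd N5570 = N3085 := trfs L64672 L30737 rfl
theorem L64676 : sm gd N3085 = N5570 := flp_d L64675
theorem L64729 : sm gb N3092 = N5570 := trfs L64166 L30699 rfl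
theorem L64730 : sm gb N5570 = N3092 := flp_b L64729
theorem L64737 : sm gg N3092 = N3076 := trfs L64166 L16455 rfl
theorem L64738 : sm gg N3076 = N3092 := flp_g L64737
theorem L65028 : sm gd N2965 = N5775 := trfs L54962 L31635 rfl
theorem L65029 : N5775 = N5326 := eqes L65028 L29320
theorem L65030 : N5775 = N5326 := eqc rfl L65029 rfl
theorem L65032 : sm ga N5326 = N5601 := trfs L65030 L31637 rfl
theorem L65033 : N5601 = N3100 := eqes L65032 L29322
theorem L65034 : N5601 = N3100 := eqc rfl L65033 rfl
theorem L65035 : sm gc N5326 = N5326 := trfs L65030 L31640 rfl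
theorem L65036 : sm gc N3100 = N3100 := trfs L65034 L30836 rfl
theorem L65579 : sm gc N2544 = N2544 := trfs L53699 L25365 rfl
theorem L65584 : sm gb N1503 = N5173 := trfs L53662 L28528 rfl
theorem L65585 : N5173 = N2889 := eqes L65584 L15376
theorem L65586 : N5173 = N2889 := eqc rfl L65585 rfl
theorem L65588 : sm ga N2889 = N2888 := trfs L65586 L28523 rfl
theorem L65589 : N2888 = N4551 := eqes L65588 L24919
theorem L65590 : N4551 = N2888 := (eqc rfl L65589 rfl).symm
theorem L65591 : sm gc N2889 = N2885 := trfs L65586 L28522 rfl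
theorem L65592 : N2885 = N5180 := eqes L65591 L28574
theorem L65593 : N5180 = N2885 := (eqc rfl L65592 rfl).symm
theorem L65599 : sm gc N2885 = N2889 := trfs L65593 L28573 rfl
theorem L65600 : sm gc N2889 = N2885 := flp_c L65599
theorem L65608 : sm ga N2888 = N2889 := trfs L65590 L24918 rfl
theorem L65609 : sm ga N2889 = N2888 := flp_a L65608
theorem L65612 : sm gd N2888 = N3114 := trfs L65590 L52769 rfl
theorem L65613 : N3114 = N5179 := eqes L65612 L28563
theorem L65614 : N5179 = N3114 := (eqc rfl L65613 rfl).symm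
theorem L65615 : sm ge N2888 = N2885 := trfs L65590 L24916 rfl
theorem L65616 : sm ge N2885 = N2888 := flp_e L65615
theorem L65620 : sm gd N3114 = N2888 := trfs L65614 L28564 rfl
theorem L65621 : sm gd N2888 = N3114 := flp_d L65620
theorem L65634 : sm gg N4534 = N4539 := trfs L53373 L24964 rfl
theorem L65635 : N4539 = N4529 := eqes L65634 L24840
theorem L65636 : N4539 = N4529 := eqc rfl L65635 rfl
theorem L65642 : sm gc N4529 = N5238 := trfs L65636 L28843 rfl
theorem L65643 : sm gc N5238 = N4529 := flp_c L65642
theorem L65653 : sm ga N4533 = N2574 := trfs L53369 L24950 rfl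
theorem L65654 : sm ga N2574 = N4533 := flp_a L65653
theorem L65655 : sm ge N4533 = N4549 := trfs L53369 L24955 rfl
theorem L65656 : sm ge N4549 = N4533 := flp_e L65655
theorem L65657 : sm gf N4533 = N4548 := trfs L53369 L24957 rfl
theorem L65658 : sm gf N4548 = N4533 := flp_f L65657
theorem L65661 : sm gc N2568 = N2568 := trfs L53341 L25505 rfl
theorem L65662 : sm ga N2474 = N1313 := trfs L53338 L13140 rfl
theorem L65663 : sm ga N1313 = N2474 := flp_a L65662
theorem L65664 : sm gd N2474 = N2936 := trfs L53338 L15599 rfl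
theorem L65665 : sm gd N2936 = N2474 := flp_d L65664
theorem L65666 : sm ge N2474 = N2918 := trfs L53338 L15515 rfl
theorem L65667 : sm ge N2918 = N2474 := flp_e L65666
theorem L65669 : sm ga N4527 = N2570 := trfs L53332 L24922 rfl
theorem L65670 : sm ga N2570 = N4527 := flp_a L65669
theorem L65672 : sm ge N4527 = N5238 := trfs L53332 L28845 rfl
theorem L65673 : sm ge N5238 = N4527 := flp_e L65672
theorem L65674 : sm ga N2476 = N1314 := trfs L53322 L13144 rfl
theorem L65675 : sm ga N1314 = N2476 := flp_a L65674
theorem L65677 : sm gd N2476 = N4554 := trfs L53322 L24932 rfl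
theorem L65678 : N4554 = N4531 := eqes L65677 L24816
theorem L65679 : N4554 = N4531 := eqc rfl L65678 rfl
theorem L65684 : sm ge N4531 = N4545 := trfs L65679 L24939 rfl
theorem L65685 : sm ge N4545 = N4531 := flp_e L65684
theorem L65687 : sm gg N4531 = N4544 := trfs L65679 L24941 rfl
theorem L65688 : sm gg N4544 = N4531 := flp_g L65687
theorem L65689 : sm ga N2575 = N4534 := trfs L53316 L25559 rfl
theorem L65690 : sm ga N4534 = N2575 := flp_a L65689
theorem L65691 : sm gb N2575 = N2575 := trfs L53316 L25561 rfl
theorem L65694 : sm ga N4532 = N2573 := trfs L53312 L24944 rfl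
theorem L65695 : sm ga N2573 = N4532 := flp_a L65694
theorem L65698 : sm ga N1315 = N2477 := trfs L53306 L13421 rfl
theorem L65699 : sm ga N2477 = N1315 := flp_a L65698
theorem L65700 : sm gb N1315 = N1315 := trfs L53306 L13423 rfl
theorem L65702 : sm ga N4530 = N2557 := trfs L53302 L24862 rfl
theorem L65703 : sm ga N2557 = N4530 := flp_a L65702
theorem L65705 : sm gc N4530 = N5239 := trfs L53302 L28853 rfl
theorem L65706 : sm gc N5239 = N4530 := flp_c L65705
theorem L65708 : sm ga N2556 = N4529 := trfs L53296 L25443 rfl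
theorem L65709 : sm ga N4529 = N2556 := flp_a L65708
theorem L65710 : sm gb N2556 = N2556 := trfs L53296 L25445 rfl
theorem L65711 : sm ga N652 = N1265 := trfs L53293 L6660 rfl
theorem L65712 : sm ga N1265 = N652 := flp_a L65711
theorem L65713 : sm gb N652 = N652 := trfs L53293 L6662 rfl
theorem L65714 : sm ga N2475 = N1306 := trfs L53286 L13096 rfl
theorem L65715 : sm ga N1306 = N2475 := flp_a L65714
theorem L65717 : sm gc N2475 = N2918 := trfs L53286 L15513 rfl
theorem L65718 : sm gc N2918 = N2475 := flp_c L65717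
theorem L65725 : sm gd N1268 = N2475 := trfs L53274 L13315 rfl
theorem L65726 : sm gd N2475 = N1268 := flp_d L65725
theorem L65728 : sm gb N651 = N651 := trfs L53268 L6656 rfl
theorem L65731 : sm gb N2559 = N2559 := trfs L53265 L25463 rfl
theorem L65734 : sm gb N1312 = N1312 := trfs L53252 L13403 rfl
theorem L65735 : sm gd N1312 = N4645 := trfs L53252 L25497 rfl
theorem L65736 : N4645 = N2567 := eqes L65735 L13539
theorem L65737 : N4645 = N2567 := eqc rfl L65736 rfl
theorem L65739 : sm gb N2567 = N2567 := trfs L65737 L25499 rfl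
theorem L65740 : sm gb N2563 = N2563 := trfs L53249 L25481 rfl
theorem L65743 : sm gb N325 = N325 := trfs L53236 L3344 rfl
theorem L65745 : sm gb N1307 = N1307 := trfs L53233 L13373 rfl
theorem L65746 : sm gd N1307 = N4636 := trfs L53233 L25457 rfl
theorem L65747 : N4636 = N2558 := eqes L65746 L13513
theorem L65748 : N4636 = N2558 := eqc rfl L65747 rfl
theorem L65749 : sm gb N2558 = N2558 := trfs L65748 L25459 rfl
theorem L65756 : sm gb N327 = N327 := trfs L53201 L3356 rfl
theorem L65760 : sm ga N1318 = N4613 := trfs L53198 L25334 rfl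
theorem L65761 : N4613 = N2494 := eqes L65760 L13165
theorem L65762 : N4613 = N2494 := eqc rfl L65761 rfl
theorem L65763 : sm gb N1318 = N4658 := trfs L53198 L25603 rfl
theorem L65764 : N4658 = N2580 := eqes L65763 L13608
theorem L65765 : N4658 = N2580 := eqc rfl L65764 rfl
theorem L65772 : sm gg N1318 = N4654 := trfs L53198 L25572 rfl
theorem L65773 : N4654 = N2576 := eqes L65772 L13587
theorem L65774 : N4654 = N2576 := eqc rfl L65773 rfl
theorem L65775 : sm ga N2576 = N4535 := trfs L65774 L25569 rfl
theorem L65776 : N4535 = N4558 := eqes L65775 L24969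
theorem L65777 : N4558 = N4535 := (eqc rfl L65776 rfl).symm
theorem L65779 : sm ga N4535 = N2576 := trfs L65777 L24968 rfl
theorem L65780 : sm ga N2576 = N4535 := flp_a L65779
theorem L65785 : sm gc N2580 = N2580 := trfs L65765 L25605 rfl
theorem L65787 : sm gg N2494 = N4535 := trfs L65762 L25335 rfl
theorem L65788 : sm gg N4535 = N2494 := flp_g L65787
theorem L65790 : sm ge N1274 = N4614 := trfs L53194 L25337 rfl
theorem L65791 : N4614 = N2495 := eqes L65790 L13166
theorem L65792 : N4614 = N2495 := eqc rfl L65791 rfl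
theorem L65796 : sm gb N2495 = N4559 := trfs L65792 L25341 rfl
theorem L65797 : N4559 = N4536 := eqes L65796 L24847
theorem L65798 : N4559 = N4536 := eqc rfl L65797 rfl
theorem L65805 : sm gd N4536 = N2495 := trfs L65798 L24980 rfl
theorem L65806 : sm gd N2495 = N4536 := flp_d L65805
theorem L65808 : sm gf N4536 = N4545 := trfs L65798 L24976 rfl
theorem L65809 : sm gf N4545 = N4536 := flp_f L65808
theorem L65810 : sm gg N4536 = N2495 := trfs L65798 L24978 rfl
theorem L65811 : sm gg N2495 = N4536 := flp_g L65810
theorem L65822 : sm gg N2478 = N1274 := trfs L53174 L13154 rfl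
theorem L65823 : sm gg N1274 = N2478 := flp_g L65822
theorem L65824 : sm ga N2577 = N4536 := trfs L53168 L25575 rfl
theorem L65825 : sm ga N4536 = N2577 := flp_a L65824
theorem L65826 : sm gb N2577 = N2577 := trfs L53168 L25577 rfl
theorem L65831 : sm gb N1319 = N1319 := trfs L53157 L13445 rfl
theorem L65841 : sm gb N2561 = N2561 := trfs L53147 L25471 rfl
theorem L65845 : sm ga N2572 = N4531 := trfs L53138 L25527 rfl
theorem L65846 : sm ga N4531 = N2572 := flp_a L65845
theorem L65847 : sm gb N2572 = N2572 := trfs L53138 L25529 rfl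
theorem L65853 : sm ga N1316 = N2478 := trfs L53122 L13427 rfl
theorem L65854 : sm ga N2478 = N1316 := flp_a L65853
theorem L65855 : sm gb N1316 = N1316 := trfs L53122 L13429 rfl
theorem L65870 : sm gb N2844 = N3238 := trfs L53076 L32245 rfl
theorem L65871 : sm gb N3238 = N2844 := flp_b L65870
theorem L65873 : sm ga N4731 = N3238 := trfs L53073 L32159 rfl
theorem L65874 : sm ga N3238 = N4731 := flp_a L65873
theorem L65879 : sm gb N1478 = N1661 := trfs L53028 L17131 rfl
theorem L65880 : sm gb N1661 = N1478 := flp_b L65879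
theorem L65940 : sm gc N1608 = N1627 := trfs L52014 L16782 rfl
theorem L65941 : sm gc N1627 = N1608 := flp_c L65940
theorem L65945 : sm gf N1608 = N1625 := trfs L52014 L16781 rfl
theorem L65946 : sm gf N1625 = N1608 := flp_f L65945
theorem L65948 : sm gb N1342 = N1627 := trfs L52011 L16750 rfl
theorem L65949 : sm gb N1627 = N1342 := flp_b L65948
theorem L65950 : sm gd N1342 = N1663 := trfs L52011 L16752 rfl
theorem L65951 : sm gd N1663 = N1342 := flp_d L65950
theorem L65998 : sm gg N3122 = N3272 := trfs L51999 L31463 rfl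
theorem L65999 : N3272 = N5643 := eqes L65998 L31019
theorem L66000 : N5643 = N3272 := (eqc rfl L65999 rfl).symm
theorem L66001 : sm gg N3272 = N3122 := trfs L66000 L31020 rfl
theorem L66002 : sm gg N3122 = N3272 := flp_g L66001
theorem L66009 : sm gb N1628 = N1343 := trfs L51982 L13796 rfl
theorem L66010 : sm gb N1343 = N1628 := flp_b L66009
theorem L66011 : sm gc N1628 = N3119 := trfs L51982 L16586 rfl
theorem L66012 : sm gc N3119 = N1628 := flp_c L66011
theorem L66013 : sm ge N1628 = N3118 := trfs L51982 L16580 rfl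
theorem L66014 : sm ge N3118 = N1628 := flp_e L66013
theorem L66015 : sm gf N1628 = N3123 := trfs L51982 L16612 rfl
theorem L66016 : sm gf N3123 = N1628 := flp_f L66015
theorem L66024 : sm gb N3162 = N2623 := trfs L51964 L26346 rfl
theorem L66025 : sm gb N2623 = N3162 := flp_b L66024
theorem L66026 : sm gc N3162 = N3124 := trfs L51964 L26348 rfl
theorem L66027 : sm gc N3124 = N3162 := flp_c L66026
theorem L66028 : sm gg N3162 = N3123 := trfs L51964 L26352 rfl
theorem L66029 : sm gg N3123 = N3162 := flp_g L66028
theorem L66030 : sm gc N3120 = N1626 := trfs L51960 L16778 rfl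
theorem L66031 : sm gc N1626 = N3120 := flp_c L66030
theorem L66035 : sm ge N3120 = N1625 := trfs L51960 L16777 rfl
theorem L66036 : sm ge N1625 = N3120 := flp_e L66035
theorem L66039 : sm gb N1341 = N1626 := trfs L51957 L16746 rfl
theorem L66040 : sm gb N1626 = N1341 := flp_b L66039
theorem L66050 : N5366 = N2628 := L42171.trans L64328
theorem L66052 : sm gb N2622 = N3161 := trfs L51943 L31309 rfl
theorem L66053 : sm gb N3161 = N2622 := flp_b L66052
theorem L66054 : N3154 = N1344 := L42159.trans L51695
theorem L66056 : sm ga N3295 = N3161 := trfs L51940 L29600 rfl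
theorem L66057 : sm ga N3161 = N3295 := flp_a L66056
theorem L66061 : sm gd N3295 = N2989 := trfs L51940 L29599 rfl
theorem L66062 : sm gd N2989 = N3295 := flp_d L66061
theorem L66063 : sm gb N5343 = N3167 := trfs L51922 L31490 rfl
theorem L66064 : sm gb N3167 = N5343 := flp_b L66063
theorem L66065 : sm ga N3104 = N3167 := trfs L51919 L29638 rfl
theorem L66066 : sm ga N3167 = N3104 := flp_a L66065
theorem L66067 : sm ga N2630 = N2626 := trfs L51903 L25223 rfl
theorem L66068 : sm ga N2626 = N2630 := flp_a L66067
theorem L66072 : N5718 = N2630 := L42177.trans L51903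
theorem L66073 : sm gd N2630 = N2514 := trfs L51903 L25222 rfl
theorem L66074 : sm gd N2514 = N2630 := flp_d L66073
theorem L66076 : sm ga N3102 = N3169 := trfs L51900 L29648 rfl
theorem L66077 : sm ga N3169 = N3102 := flp_a L66076
theorem L66078 : sm ge N5322 = N3168 := trfs L51882 L31449 rfl
theorem L66079 : sm ge N3168 = N5322 := flp_e L66078
theorem L66080 : sm gf N5322 = N3161 := trfs L51882 L31448 rfl
theorem L66081 : sm gf N3161 = N5322 := flp_f L66080
theorem L66082 : sm ga N1680 = N1685 := trfs L51879 L16186 rfl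
theorem L66083 : sm ga N1685 = N1680 := flp_a L66082
theorem L66088 : sm gc N5323 = N3168 := trfs L51876 L31499 rfl
theorem L66089 : sm gc N3168 = N5323 := flp_c L66088
theorem L66090 : sm gf N5323 = N3167 := trfs L51876 L31498 rfl
theorem L66091 : sm gf N3167 = N5323 := flp_f L66090
theorem L66092 : sm ga N2634 = N2629 := trfs L51864 L25233 rfl
theorem L66093 : sm ga N2629 = N2634 := flp_a L66092
theorem L66096 : sm gc N2634 = N4816 := trfs L51864 L26381 rfl
theorem L66097 : sm gc N4816 = N2634 := flp_c L66096
theorem L66098 : sm ge N2634 = N4825 := trfs L51864 L26417 rfl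
theorem L66099 : sm ge N4825 = N2634 := flp_e L66098
theorem L66149 : sm gb N1659 = N832 := trfs L51725 L8588 rfl
theorem L66150 : sm gb N832 = N1659 := flp_b L66149
theorem L66168 : sm ga N1344 = N1346 := trfs L51695 L13303 rfl
theorem L66169 : sm ga N1346 = N1344 := flp_a L66168
theorem L66172 : sm ga N669 = N668 := trfs L51691 L6608 rfl
theorem L66173 : sm ga N668 = N669 := flp_a L66172
theorem L66178 : sm ge N669 = N640 := trfs L51691 L6607 rfl
theorem L66179 : sm ge N640 = N669 := flp_e L66178
theorem L66200 : sm gb N807 = N667 := trfs L51652 L6878 rfl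
theorem L66201 : sm gb N667 = N807 := flp_b L66200
theorem L66223 : sm ga N830 = N832 := trfs L51619 L8092 rfl
theorem L66224 : sm ga N832 = N830 := flp_a L66223
theorem L66229 : sm ga N770 = N1547 := trfs L51607 L7967 rfl
theorem L66230 : N1547 = N409 := eqes L66229 L3967
theorem L66231 : N1547 = N409 := eqc rfl L66230 rfl
theorem L66233 : sm ge N770 = N833 := trfs L51607 L4278 rfl
theorem L66234 : sm ge N833 = N770 := flp_e L66233
theorem L66243 : sm gg N409 = N770 := trfs L66231 L7965 rfl
theorem L66244 : sm gg N770 = N409 := flp_g L66243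
theorem L66245 : sm ga N420 = N419 := trfs L51604 L4027 rfl
theorem L66246 : sm ga N419 = N420 := flp_a L66245
theorem L66247 : sm gb N420 = N822 := trfs L51604 L4232 rfl
theorem L66248 : sm gb N822 = N420 := flp_b L66247
theorem L66250 : sm ge N420 = N395 := trfs L51604 L4026 rfl
theorem L66251 : sm ge N395 = N420 := flp_e L66250
theorem L66255 : sm gg N778 = N824 := trfs L51597 L8575 rfl
theorem L66256 : sm gg N824 = N778 := flp_g L66255
theorem L67131 : sm gb N1557 = N2063 := trfs L50285 L21065 rfl
theorem L67132 : N2063 = N7034 := eqes L67131 L61045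
theorem L67133 : N7034 = N2063 := (eqc rfl L67132 rfl).symm
theorem L67139 : sm gb N2063 = N1557 := trfs L67133 L61046 rfl
theorem L67140 : sm gb N1557 = N2063 := flp_b L67139
theorem L67143 : sm gb N1656 = N2061 := trfs L50261 L21061 rfl
theorem L67144 : sm gb N2061 = N1656 := flp_b L67143
theorem L67148 : sm gd N1656 = N2060 := trfs L50261 L21060 rfl
theorem L67149 : sm gd N2060 = N1656 := flp_d L67148
theorem L67168 : sm ga N3014 = N5428 := trfs L50157 L29905 rfl
theorem L67169 : N5428 = N1654 := eqes L67168 L16036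
theorem L67170 : N5428 = N1654 := eqc rfl L67169 rfl
theorem L67171 : sm gc N3014 = N5868 := trfs L50157 L32096 rfl
theorem L67172 : N5868 = N5425 := eqes L67171 L29890
theorem L67173 : N5868 = N5425 := eqc rfl L67172 rfl
theorem L67174 : sm ge N3014 = N5871 := trfs L50157 L32108 rfl
theorem L67175 : N5871 = N5426 := eqes L67174 L29894
theorem L67176 : N5871 = N5426 := eqc rfl L67175 rfl
theorem L67177 : sm gf N3014 = N5874 := trfs L50157 L32117 rfl
theorem L67178 : N5874 = N5427 := eqes L67177 L29898
theorem L67179 : N5874 = N5427 := eqc rfl L67178 rfl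
theorem L67182 : sm ge N5427 = N5872 := trfs L67179 L32119 rfl
theorem L67183 : sm ge N5872 = N5427 := flp_e L67182
theorem L67184 : sm gg N5427 = N5870 := trfs L67179 L32121 rfl
theorem L67185 : sm gg N5870 = N5427 := flp_g L67184
theorem L67186 : sm gf N5426 = N5872 := trfs L67176 L32111 rfl
theorem L67187 : sm gf N5872 = N5426 := flp_f L67186
theorem L67188 : sm gg N5426 = N3223 := trfs L67176 L32106 rfl
theorem L67189 : sm gg N3223 = N5426 := flp_g L67188
theorem L67190 : sm gg N5425 = N3222 := trfs L67173 L32094 rfl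
theorem L67191 : sm gg N3222 = N5425 := flp_g L67190
theorem L67192 : sm gg N1654 = N3014 := trfs L67170 L29903 rfl
theorem L67193 : sm gg N3014 = N1654 := flp_g L67192
theorem L67238 : sm gb N3219 = N3215 := trfs L50046 L31997 rfl
theorem L67239 : N3215 = N1654 := eqes L67238 L17034
theorem L67240 : N3215 = N1654 := eqc rfl L67239 rfl
theorem L67251 : sm gf N1654 = N5854 := trfs L67240 L32027 rfl
theorem L67252 : N5854 = N3224 := eqes L67251 L17054
theorem L67253 : N5854 = N3224 := eqc rfl L67252 rfl
theorem L67258 : sm gd N3224 = N3224 := trfs L67253 L32029 rfl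
theorem L67268 : sm gf N819 = N819 := trfs L50042 L8496 rfl
theorem L67281 : sm gf N912 = N912 := trfs L50030 L9403 rfl
theorem L67303 : sm ga N2060 = N1656 := trfs L50269 L16046 rfl
theorem L67304 : sm ga N1656 = N2060 := flp_a L67303
theorem L67308 : sm gg N2060 = N1557 := trfs L50269 L16045 rfl
theorem L67309 : sm gg N1557 = N2060 := flp_g L67308
theorem L67321 : sm gb N3900 = N3014 := trfs L50899 L29878 rfl
theorem L67322 : sm gb N3014 = N3900 := flp_b L67321
theorem L67406 : sm ge N2063 = N1653 := trfs L50798 L17037 rfl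
theorem L67407 : sm ge N1653 = N2063 := flp_e L67406
theorem L67430 : sm gg N1032 = N912 := trfs L50890 L9452 rfl
theorem L67431 : sm gg N912 = N1032 := flp_g L67430
theorem L67444 : sm gc N1838 = N1838 := trfs L49815 L19018 L49815
theorem L67445 : N1838 = N3552 := eqes L67444 L18899
theorem L67446 : N3552 = N1838 := (eqc rfl L67445 rfl).symm
theorem L67448 : sm gf N1838 = N6397 := trfs L49815 L34901 rfl
theorem L67449 : N6397 = N3554 := eqes L67448 L18905
theorem L67450 : N6397 = N3554 := eqc rfl L67449 rfl
theorem L67453 : sm gc N3554 = N3554 := trfs L67450 L34905 L67450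
theorem L67454 : N3554 = N6406 := eqes L67453 L34957
theorem L67455 : N6406 = N3554 := (eqc rfl L67454 rfl).symm
theorem L67456 : sm gd N3554 = N3554 := trfs L67450 L34907 rfl
theorem L67462 : sm gc N3554 = N3554 := trfs L67455 L34956 rfl
theorem L67473 : sm gc N1838 = N1838 := trfs L67446 L18900 rfl
theorem L67513 : sm ga N1653 = N1653 := trfs L50039 L17025 rfl
theorem L67533 : sm ge N3554 = N3554 := trfs L49761 L34972 rfl
theorem L67534 : sm gg N3554 = N3554 := trfs L49761 L49724 rfl
theorem L67535 : N6402 = N3554 := L49758.trans L67450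
theorem L67536 : sm ga N3554 = N3554 := trfs L67535 L34938 rfl
theorem L67713 : sm ga N1838 = N1838 := trfs L49682 L18897 rfl
theorem L67742 : sm ge N913 = N913 := trfs L49626 L9460 rfl
theorem L67758 : sm ge N1843 = N1843 := trfs L49563 L18951 rfl
theorem L67791 : sm gg N913 = N913 := trfs L49679 L9466 rfl
theorem L67806 : sm gb N1841 = N1841 := trfs L49465 L18926 rfl
theorem L67823 : sm gd N1843 = N1843 := trfs L49451 L18893 rfl
theorem L67830 : sm gg N1843 = N1843 := trfs L49572 L18959 rfl
theorem L67852 : sm gf N732 = N372 := trfs L49354 L3774 rfl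
theorem L67853 : sm gf N372 = N732 := flp_f L67852
theorem L67915 : sm gb N1416 = N1416 := trfs L49255 L14471 rfl
theorem L67922 : sm gc N665 = N665 := trfs L49185 L6851 rfl
theorem L67963 : sm gc N175 = N175 := trfs L49084 L1767 rfl
theorem L68014 : sm gc N85 = N85 := trfs L48979 L880 rfl
theorem L68288 : sm ge N458 = N523 := trfs L48504 L5305 rfl
theorem L68289 : sm ge N523 = N458 := flp_e L68288
theorem L68302 : sm gg N521 = N458 := trfs L48490 L4660 rfl
theorem L68303 : sm gg N458 = N521 := flp_g L68302
theorem L68306 : sm gc N460 = N521 := trfs L48479 L5285 rfl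
theorem L68307 : sm gc N521 = N460 := flp_c L68306
theorem L68335 : sm gc N459 = N523 := trfs L48418 L5295 rfl
theorem L68336 : sm gc N523 = N459 := flp_c L68335
theorem L68345 : sm gd N1034 = N1034 := trfs L48414 L10756 rfl
theorem L68358 : sm gg N261 = N261 := trfs L48389 L2686 rfl
theorem L68630 : sm gd N321 = N481 := trfs L47703 L4872 rfl
theorem L68631 : sm gd N481 = N321 := flp_d L68630
theorem L68637 : sm ge N2498 = N1872 := trfs L47685 L19219 rfl
theorem L68638 : sm ge N1872 = N2498 := flp_e L68637
theorem L68670 : sm gg N469 = N483 := trfs L47623 L4909 rfl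
theorem L68671 : sm gg N483 = N469 := flp_g L68670
theorem L68705 : sm gg N961 = N1758 := trfs L47594 L46962 rfl
theorem L68706 : sm gg N1758 = N961 := flp_g L68705
theorem L68794 : sm gb N162 = N162 := trfs L47487 L1671 rfl
theorem L68803 : sm gb N328 = N328 := trfs L47470 L3362 rfl
theorem L68812 : sm gb N658 = N658 := trfs L47454 L6702 rfl
theorem L68816 : sm ga N653 = N1266 := trfs L47442 L6666 rfl
theorem L68817 : sm ga N1266 = N653 := flp_a L68816
theorem L68818 : sm gb N653 = N653 := trfs L47442 L6668 rfl
theorem L68831 : sm gc N636 = N1267 := trfs L47412 L6482 rfl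
theorem L68832 : N1267 = N6283 := eqes L68831 L58833
theorem L68833 : N6283 = N1267 := (eqc rfl L68832 rfl).symm
theorem L68839 : sm gc N1267 = N636 := trfs L68833 L58834 rfl
theorem L68840 : sm gc N636 = N1267 := flp_c L68839
theorem L68906 : sm gd N164 = N241 := trfs L47255 L2497 rfl
theorem L68907 : N241 = N4397 := eqes L68906 L63681
theorem L68908 : N4397 = N241 := (eqc rfl L68907 rfl).symm
theorem L68912 : sm gd N241 = N164 := trfs L68908 L63682 rfl
theorem L68913 : sm gd N164 = N241 := flp_d L68912
theorem L68937 : sm gb N334 = N409 := trfs L47211 L4154 rfl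
theorem L68938 : sm gb N409 = N334 := flp_b L68937
theorem L68941 : sm gf N334 = N417 := trfs L47211 L4155 rfl
theorem L68942 : sm gf N417 = N334 := flp_f L68941
theorem L68971 : sm gf N822 = N640 := trfs L51743 L6564 rfl
theorem L68972 : sm gf N640 = N822 := flp_f L68971
theorem L68984 : sm gg N241 = N481 := trfs L57650 L4878 rfl
theorem L68985 : sm gg N481 = N241 := flp_g L68984
theorem L68998 : sm gf N483 = N335 := trfs L47157 L3425 rfl
theorem L68999 : sm gf N335 = N483 := flp_f L68998
theorem L69003 : sm gf N166 = N241 := trfs L47154 L2330 rfl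
theorem L69004 : sm gf N241 = N166 := flp_f L69003
theorem L69007 : sm gb N668 = N808 := trfs L47150 L8380 rfl
theorem L69008 : sm gb N808 = N668 := flp_b L69007
theorem L69010 : sm gf N668 = N824 := trfs L47150 L8384 rfl
theorem L69011 : sm gf N824 = N668 := flp_f L69010
theorem L69135 : sm ge N1933 = N1322 := trfs L46952 L13631 rfl
theorem L69136 : sm ge N1322 = N1933 := flp_e L69135
theorem L69172 : sm gg N980 = N694 := trfs L46918 L7144 rfl
theorem L69173 : sm gg N694 = N980 := flp_g L69172
theorem L69181 : sm gd N1337 = N869 := trfs L46897 L8994 rfl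
theorem L69182 : sm gd N869 = N1337 := flp_d L69181
theorem L69189 : sm gc N1283 = N1283 := trfs L46885 L13257 rfl
theorem L69215 : sm gg N1278 = N1756 := trfs L46856 L43866 rfl
theorem L69216 : sm gg N1756 = N1278 := flp_g L69215
theorem L69235 : sm gb N1325 = N1541 := trfs L61185 L15849 rfl
theorem L69236 : sm gb N1541 = N1325 := flp_b L69235
theorem L69237 : sm gg N1325 = N1615 := trfs L61185 L15850 rfl
theorem L69238 : sm gg N1615 = N1325 := flp_g L69237
theorem L69255 : sm gg N875 = N660 := trfs L46776 L6558 rfl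
theorem L69256 : sm gg N660 = N875 := flp_g L69255
theorem L69258 : sm ge N875 = N875 := trfs L46768 L9063 rfl
theorem L69267 : sm ga N660 = N875 := trfs L47415 L9053 rfl
theorem L69268 : sm ga N875 = N660 := flp_a L69267
theorem L69289 : sm gf N1325 = N1615 := trfs L46745 L16701 rfl
theorem L69290 : sm gf N1615 = N1325 := flp_f L69289
theorem L69302 : sm ge N442 = N442 := trfs L46684 L4496 rfl
theorem L69318 : sm gf N458 = N458 := trfs L46638 L4639 rfl
theorem L69322 : sm gd N459 = N234 := trfs L46630 L2430 rfl
theorem L69323 : sm gd N234 = N459 := flp_d L69322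
theorem L69357 : sm ge N520 = N460 := trfs L46613 L4667 rfl
theorem L69358 : sm ge N460 = N520 := flp_e L69357
theorem L69362 : sm gg N520 = N459 := trfs L46613 L4665 rfl
theorem L69363 : sm gg N459 = N520 := flp_g L69362
theorem L69506 : sm gg N6 = N6 := trfs L46322 L79 rfl
theorem L69584 : sm gd N439 = N709 := trfs L46164 L3650 rfl
theorem L69585 : sm gd N709 = N439 := flp_d L69584
theorem L69617 : sm gg N871 = N488 := trfs L46101 L4974 rfl
theorem L69618 : sm gg N488 = N871 := flp_g L69617
theorem L69692 : sm gf N180 = N244 := trfs L45924 L2538 rfl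
theorem L69693 : sm gf N244 = N180 := flp_f L69692
theorem L69711 : sm gf N323 = N481 := trfs L45861 L4521 rfl
theorem L69712 : sm gf N481 = N323 := flp_f L69711
theorem L69740 : sm gc N86 = N86 := trfs L45779 L885 rfl
theorem L69756 : sm gd N85 = N123 := trfs L45751 L1243 rfl
theorem L69757 : sm gd N123 = N85 := flp_d L69756
theorem L69763 : sm ge N659 = N961 := trfs L45733 L9970 rfl
theorem L69764 : sm ge N961 = N659 := flp_e L69763
theorem L69787 : sm ge N488 = N351 := trfs L45693 L3592 rfl
theorem L69788 : sm ge N351 = N488 := flp_e L69787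
theorem L69790 : sm ge N694 = N470 := trfs L45690 L4781 rfl
theorem L69791 : sm ge N470 = N694 := flp_e L69790
theorem L69803 : sm gf N469 = N336 := trfs L45668 L2554 rfl
theorem L69804 : sm gf N336 = N469 := flp_f L69803
theorem L69816 : sm gc N89 = N114 := trfs L45627 L1163 rfl
theorem L69817 : sm gc N114 = N89 := flp_c L69816
theorem L69818 : sm gf N89 = N123 := trfs L45627 L1165 rfl
theorem L69819 : sm gf N123 = N89 := flp_f L69818
theorem L69822 : sm gc N247 = N180 := trfs L45617 L1881 rfl
theorem L69823 : sm gc N180 = N247 := flp_c L69822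
theorem L69831 : sm gf N183 = N235 := trfs L45677 L2403 rfl
theorem L69832 : sm gf N235 = N183 := flp_f L69831
theorem L69838 : sm ge N125 = N121 := trfs L45600 L1222 rfl
theorem L69839 : sm ge N121 = N125 := flp_e L69838
theorem L69857 : sm gc N224 = N182 := trfs L45584 L1904 rfl
theorem L69858 : sm gc N182 = N224 := flp_c L69857
theorem L69863 : sm gf N243 = N182 := trfs L45579 L1821 rfl
theorem L69864 : sm gf N182 = N243 := flp_f L69863
theorem L69870 : sm gg N212 = N199 := trfs L45576 L2085 rfl
theorem L69871 : sm gg N199 = N212 := flp_g L69870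
theorem L69873 : sm gb N244 = N481 := trfs L54627 L2493 rfl
theorem L69874 : sm gb N481 = N244 := flp_b L69873
theorem L69875 : sm ge N244 = N235 := trfs L54627 L2438 rfl
theorem L69876 : sm ge N235 = N244 := flp_e L69875
theorem L69887 : sm gg N243 = N235 := trfs L45680 L2443 rfl
theorem L69888 : sm gg N235 = N243 := flp_g L69887
theorem L69926 : sm gc N39 = N39 := trfs L45419 L442 rfl
theorem L70260 : sm gc N356 = N364 := trfs L44614 L3541 rfl
theorem L70261 : sm gc N364 = N356 := flp_c L70260
theorem L70270 : sm gc N178 = N349 := trfs L44599 L3560 rfl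
theorem L70271 : sm gc N349 = N178 := flp_c L70270
theorem L70274 : sm gc N635 = N1266 := trfs L44596 L6476 rfl
theorem L70275 : sm gc N1266 = N635 := flp_c L70274
theorem L70295 : sm gd N442 = N350 := trfs L44568 L3583 rfl
theorem L70296 : sm gd N350 = N442 := flp_d L70295
theorem L70298 : sm gg N442 = N352 := trfs L44568 L3586 rfl
theorem L70299 : sm gg N352 = N442 := flp_g L70298
theorem L70300 : sm gd N636 = N875 := trfs L44565 L9059 rfl
theorem L70301 : sm gd N875 = N636 := flp_d L70300
theorem L70306 : sm gf N442 = N352 := trfs L46739 L3604 rfl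
theorem L70307 : sm gf N352 = N442 := flp_f L70306
theorem L70314 : sm ge N364 = N356 := trfs L44530 L3629 rfl
theorem L70315 : sm ge N356 = N364 := flp_e L70314
theorem L70318 : sm gb N638 = N356 := trfs L44523 L3439 rfl
theorem L70319 : sm gb N356 = N638 := flp_b L70318
theorem L70320 : sm gd N638 = N332 := trfs L44523 L3438 rfl
theorem L70321 : sm gd N332 = N638 := flp_d L70320
theorem L70336 : sm ge N323 = N336 := trfs L44476 L3465 rfl
theorem L70337 : sm ge N336 = N323 := flp_e L70336
theorem L70344 : sm gd N183 = N182 := trfs L44466 L1888 rfl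
theorem L70345 : sm gd N182 = N183 := flp_d L70344
theorem L70346 : sm ge N183 = N180 := trfs L44466 L1886 rfl
theorem L70347 : sm ge N180 = N183 := flp_e L70346
theorem L70352 : sm ga N335 = N336 := trfs L44460 L3328 rfl
theorem L70353 : sm ga N336 = N335 := flp_a L70352
theorem L70354 : sm gd N335 = N336 := trfs L44460 L3332 rfl
theorem L70355 : sm gd N336 = N335 := flp_d L70354
theorem L70357 : sm gg N335 = N323 := trfs L44460 L3327 rfl
theorem L70358 : sm gg N323 = N335 := flp_g L70357
theorem L70366 : sm ge N933 = N1278 := trfs L46945 L13185 rfl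
theorem L70367 : sm ge N1278 = N933 := flp_e L70366
theorem L70399 : sm gb N708 = N1283 := trfs L44351 L6593 rfl
theorem L70400 : sm gb N1283 = N708 := flp_b L70399
theorem L70401 : sm gd N708 = N364 := trfs L44351 L3713 rfl
theorem L70402 : sm gd N364 = N708 := flp_d L70401
theorem L70407 : sm ge N665 = N1283 := trfs L44345 L13262 rfl
theorem L70408 : sm ge N1283 = N665 := flp_e L70407
theorem L70436 : sm gc N350 = N179 := trfs L44261 L1857 rfl
theorem L70437 : sm gc N179 = N350 := flp_c L70436
theorem L70446 : sm gc N438 = N352 := trfs L48605 L3600 rfl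
theorem L70447 : sm gc N352 = N438 := flp_c L70446
theorem L70453 : sm gc N173 = N173 := trfs L44232 L1757 rfl
theorem L70461 : sm gc N171 = N87 := trfs L44219 L920 rfl
theorem L70462 : sm gc N87 = N171 := flp_c L70461
theorem L70464 : sm gc N84 = N84 := trfs L44216 L875 rfl
theorem L70477 : sm gc N172 = N172 := trfs L44200 L1750 rfl
theorem L70488 : sm gc N176 = N176 := trfs L44180 L1777 rfl
theorem L70542 : sm gc N351 = N441 := trfs L46148 L4474 rfl
theorem L70543 : sm gc N441 = N351 := flp_c L70542
theorem L70545 : sm gg N351 = N439 := trfs L46148 L4472 rfl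
theorem L70546 : sm gg N439 = N351 := flp_g L70545
theorem L70573 : sm ge N707 = N734 := trfs L55800 L7529 rfl
theorem L70574 : sm ge N734 = N707 := flp_e L70573
theorem L70575 : sm gg N707 = N732 := trfs L55800 L7524 rfl
theorem L70576 : sm gg N732 = N707 := flp_g L70575
theorem L70593 : sm gc N709 = N732 := trfs L55792 L7504 rfl
theorem L70594 : sm gc N732 = N709 := flp_c L70593
theorem L70595 : sm ge N709 = N731 := trfs L55792 L7502 rfl
theorem L70596 : sm ge N731 = N709 := flp_e L70595
theorem L70615 : sm gg N933 = N1749 := trfs L46959 L18089 rfl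
theorem L70616 : sm gg N1749 = N933 := flp_g L70615
theorem L70618 : sm gb N2498 = N3136 := trfs L57297 L31035 rfl
theorem L70619 : sm gb N3136 = N2498 := flp_b L70618
theorem L70620 : sm gg N2498 = N3125 := trfs L57297 L31032 rfl
theorem L70621 : sm gg N3125 = N2498 := flp_g L70620
theorem L70623 : sm gc N694 = N874 := trfs L46129 L9041 rfl
theorem L70624 : sm gc N874 = N694 := flp_c L70623
theorem L70626 : sm gg N659 = N869 := trfs L47667 L9008 rfl
theorem L70627 : sm gg N869 = N659 := flp_g L70626
theorem L70629 : sm gd N980 = N731 := trfs L46562 L7402 rfl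
theorem L70630 : sm gd N731 = N980 := flp_d L70629
theorem L70635 : sm gc N708 = N734 := trfs L49365 L7511 rfl
theorem L70636 : sm gc N734 = N708 := flp_c L70635
theorem L70637 : sm gg N708 = N731 := trfs L49365 L7509 rfl
theorem L70638 : sm gg N731 = N708 := flp_g L70637
theorem L70647 : sm gf N1337 = N1459 := trfs L46909 L14007 rfl
theorem L70648 : sm gf N1459 = N1337 := flp_f L70647
theorem L70651 : sm ga N1337 = N1459 := trfs L46906 L14878 rfl
theorem L70652 : sm ga N1459 = N1337 := flp_a L70651
theorem L70655 : sm ge N1337 = N1459 := trfs L46906 L14883 rfl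
theorem L70656 : sm ge N1459 = N1337 := flp_e L70655
theorem L70664 : sm ge N980 = N863 := trfs L46917 L8957 rfl
theorem L70665 : sm ge N863 = N980 := flp_e L70664
theorem L70666 : sm gf N980 = N871 := trfs L46917 L8961 rfl
theorem L70667 : sm gf N871 = N980 := flp_f L70666
theorem L70685 : sm gb N1756 = N980 := trfs L43715 L10198 rfl
theorem L70686 : sm gb N980 = N1756 := flp_b L70685
theorem L70690 : sm gd N3125 = N6040 := trfs L43708 L32911 rfl
theorem L70691 : N6040 = N5645 := eqes L70690 L31025
theorem L70692 : N6040 = N5645 := eqc rfl L70691 rfl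
theorem L70694 : sm gb N5645 = N3306 := trfs L70692 L32913 rfl
theorem L70695 : N3306 = N5355 := eqes L70694 L31029
theorem L70696 : N5355 = N3306 := (eqc rfl L70695 rfl).symm
theorem L70699 : sm gb N3306 = N5645 := trfs L70696 L31030 rfl
theorem L70700 : sm gb N5645 = N3306 := flp_b L70699
theorem L70702 : sm ga N3133 = N3306 := trfs L43693 L30289 rfl
theorem L70703 : sm ga N3306 = N3133 := flp_a L70702
theorem L70719 : sm gb N5668 = N3696 := trfs L43631 L36056 rfl
theorem L70720 : sm gb N3696 = N5668 := flp_b L70719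
theorem L70721 : sm gb N1933 = N3134 := trfs L43628 L31067 rfl
theorem L70722 : sm gb N3134 = N1933 := flp_b L70721
theorem L70723 : sm gg N1933 = N3127 := trfs L43628 L31064 rfl
theorem L70724 : sm gg N3127 = N1933 := flp_g L70723
theorem L70728 : sm gc N873 = N488 := trfs L43614 L4969 rfl
theorem L70729 : sm gc N488 = N873 := flp_c L70728
theorem L70732 : sm gb N2981 = N1872 := trfs L43603 L19213 rfl
theorem L70733 : sm gb N1872 = N2981 := flp_b L70732
theorem L70734 : sm gd N2981 = N6448 := trfs L43603 L35270 rfl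
theorem L70735 : N6448 = N5356 := eqes L70734 L29516
theorem L70736 : N6448 = N5356 := eqc rfl L70735 rfl
theorem L70738 : sm gb N5356 = N3596 := trfs L70736 L35272 rfl
theorem L70739 : sm gb N3596 = N5356 := flp_b L70738
theorem L70741 : sm gc N865 = N470 := trfs L43600 L4776 rfl
theorem L70742 : sm gc N470 = N865 := flp_c L70741
theorem L70743 : sm gd N865 = N520 := trfs L43600 L4779 rfl
theorem L70744 : sm gd N520 = N865 := flp_d L70743
theorem L70761 : sm ga N423 = N410 := trfs L43570 L3973 rfl
theorem L70762 : sm ga N410 = N423 := flp_a L70761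
theorem L70766 : sm ga N1690 = N1611 := trfs L43567 L15836 rfl
theorem L70767 : sm ga N1611 = N1690 := flp_a L70766
theorem L70768 : sm gb N1690 = N3125 := trfs L43567 L16625 rfl
theorem L70769 : sm gb N3125 = N1690 := flp_b L70768
theorem L70770 : sm ge N1690 = N1538 := trfs L43567 L15835 rfl
theorem L70771 : sm ge N1538 = N1690 := flp_e L70770
theorem L70772 : sm gf N1690 = N1611 := trfs L43567 L15840 rfl
theorem L70773 : sm gf N1611 = N1690 := flp_f L70772
theorem L70777 : sm ge N493 = N437 := trfs L43564 L4435 rfl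
theorem L70778 : sm ge N437 = N493 := flp_e L70777
theorem L70779 : sm gf N493 = N440 := trfs L43564 L4437 rfl
theorem L70780 : sm gf N440 = N493 := flp_f L70779
theorem L70786 : sm gf N801 = N836 := trfs L43561 L7442 rfl
theorem L70787 : sm gf N836 = N801 := flp_f L70786
theorem L70795 : sm gg N3136 = N1690 := trfs L43550 L17428 rfl
theorem L70796 : sm gg N1690 = N3136 := flp_g L70795
theorem L70798 : sm gd N874 = N873 := trfs L43547 L5018 rfl
theorem L70799 : sm gd N873 = N874 := flp_d L70798
theorem L70801 : sm gg N874 = N493 := trfs L43547 L5016 rfl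
theorem L70802 : sm gg N493 = N874 := flp_g L70801
theorem L70803 : sm gd N1613 = N1614 := trfs L43544 L16230 rfl
theorem L70804 : sm gd N1614 = N1613 := flp_d L70803
theorem L70821 : sm ga N801 = N836 := trfs L43689 L8114 rfl
theorem L70822 : sm ga N836 = N801 := flp_a L70821
theorem L70825 : sm ga N808 = N833 := trfs L51750 L8096 rfl
theorem L70826 : sm ga N833 = N808 := flp_a L70825
theorem L70837 : sm gd N124 = N125 := trfs L46223 L1264 rfl
theorem L70838 : sm gd N125 = N124 := flp_d L70837
theorem L70840 : sm gb N391 = N225 := trfs L43470 L2164 rfl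
theorem L70841 : sm gb N225 = N391 := flp_b L70840
theorem L70842 : sm ge N391 = N423 := trfs L43470 L2221 rfl
theorem L70843 : sm ge N423 = N391 := flp_e L70842
theorem L70844 : sm gg N391 = N207 := trfs L43470 L2163 rfl
theorem L70845 : sm gg N207 = N391 := flp_g L70844
theorem L70846 : sm ga N213 = N212 := trfs L43467 L2078 rfl
theorem L70847 : sm ga N212 = N213 := flp_a L70846
theorem L70848 : sm gd N213 = N212 := trfs L43467 L2082 rfl
theorem L70849 : sm gd N212 = N213 := flp_d L70848
theorem L70850 : sm ge N213 = N199 := trfs L43467 L2077 rfl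
theorem L70851 : sm ge N199 = N213 := flp_e L70850
theorem L70862 : sm gg N61 = N28 := trfs L43448 L337 rfl
theorem L70863 : sm gg N28 = N61 := flp_g L70862
theorem L70866 : sm gg N55 = N101 := trfs L43445 L602 rfl
theorem L70867 : sm gg N101 = N55 := flp_g L70866
theorem L70869 : sm gg N27 = N27 := trfs L43435 L327 rfl
theorem L71038 : sm gf N459 = N459 := trfs L46642 L4644 rfl
theorem L71046 : sm gf N2060 = N1656 := trfs L43316 L17071 rfl
theorem L71047 : sm gf N1656 = N2060 := flp_f L71046
theorem L71049 : sm gf N520 = N460 := trfs L43313 L4672 rfl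
theorem L71050 : sm gf N460 = N520 := flp_f L71049
theorem L71064 : sm gf N821 = N1036 := trfs L50272 L10784 rfl
theorem L71065 : sm gf N1036 = N821 := flp_f L71064
theorem L71071 : sm gf N1557 = N1557 := trfs L43265 L16018 rfl
theorem L71075 : sm gf N416 = N416 := trfs L43259 L4211 rfl
theorem L71082 : sm gb N226 = N392 := trfs L43237 L2051 rfl
theorem L71083 : sm gb N392 = N226 := flp_b L71082
theorem L71084 : sm gc N226 = N234 := trfs L43237 L1213 rfl
theorem L71085 : sm gc N234 = N226 := flp_c L71084
theorem L71086 : sm ge N226 = N234 := trfs L43237 L1215 rfl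
theorem L71087 : sm ge N234 = N226 := flp_e L71086
theorem L71097 : sm gf N220 = N226 := trfs L43224 L2359 rfl
theorem L71098 : sm gf N226 = N220 := flp_f L71097
theorem L71113 : sm ge N408 = N408 := trfs L43177 L4144 rfl
theorem L71125 : sm gf N408 = N769 := trfs L43153 L7941 rfl
theorem L71126 : sm gf N769 = N408 := flp_f L71125
theorem L71167 : sm ga N1036 = N821 := trfs L43039 L8042 rfl
theorem L71168 : sm ga N821 = N1036 := flp_a L71167
theorem L71169 : sm gd N1036 = N1540 := trfs L43039 L8046 rfl
theorem L71170 : sm gd N1540 = N1036 := flp_d L71169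
theorem L71179 : sm gb N777 = N459 := trfs L43018 L4217 rfl
theorem L71180 : sm gb N459 = N777 := flp_b L71179
theorem L71182 : sm ge N777 = N416 := trfs L43018 L4216 rfl
theorem L71183 : sm ge N416 = N777 := flp_e L71182
theorem L71278 : sm ga N2969 = N3198 := trfs L42864 L16951 rfl
theorem L71279 : N3198 = N1600 := eqes L71278 L15764
theorem L71280 : N3198 = N1600 := eqc rfl L71279 rfl
theorem L71286 : sm ge N2969 = N5620 := trfs L42864 L30929 rfl
theorem L71287 : N5620 = N3112 := eqes L71286 L52929
theorem L71288 : N5620 = N3112 := eqc rfl L71287 rfl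
theorem L71289 : sm gf N2969 = N5621 := trfs L42864 L30933 rfl
theorem L71290 : N5621 = N5193 := eqes L71289 L52904
theorem L71291 : N5621 = N5193 := eqc rfl L71290 rfl
theorem L71299 : sm ga N5193 = N5819 := trfs L71291 L31844 rfl
theorem L71300 : N5819 = N3111 := eqes L71299 L52894
theorem L71301 : N5819 = N3111 := eqc rfl L71300 rfl
theorem L71304 : sm gc N3111 = N5193 := trfs L71301 L52897 rfl
theorem L71305 : sm gc N5193 = N3111 := flp_c L71304
theorem L71307 : sm gc N3112 = N3110 := trfs L71288 L30931 rfl
theorem L71308 : sm gc N3110 = N3112 := flp_c L71307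
theorem L71313 : sm gc N1600 = N2969 := trfs L71280 L16953 rfl
theorem L71314 : sm gc N2969 = N1600 := flp_c L71313
theorem L71457 : sm gc N2991 = N5342 := trfs L64297 L29429 rfl
theorem L71458 : sm gc N5342 = N2991 := flp_c L71457
theorem L71461 : sm ge N2991 = N5341 := trfs L64297 L29419 rfl
theorem L71462 : sm ge N5341 = N2991 := flp_e L71461
theorem L71463 : sm gf N2991 = N5347 := trfs L64297 L29473 rfl
theorem L71464 : sm gf N5347 = N2991 := flp_f L71463
theorem L71480 : sm gc N2989 = N5343 := trfs L64482 L29441 rfl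
theorem L71481 : sm gc N5343 = N2989 := flp_c L71480
theorem L71483 : sm gg N2989 = N5341 := trfs L64482 L29420 rfl
theorem L71484 : sm gg N5341 = N2989 := flp_g L71483
theorem L71491 : sm gc N2990 = N2977 := trfs L64235 L26319 rfl
theorem L71492 : sm gc N2977 = N2990 := flp_c L71491
theorem L71495 : sm gg N2990 = N2975 := trfs L64235 L26322 rfl
theorem L71496 : sm gg N2975 = N2990 := flp_g L71495
theorem L71499 : sm gg N417 = N822 := trfs L51732 L8545 rfl
theorem L71500 : sm gg N822 = N417 := flp_g L71499
theorem L71507 : sm gc N2873 = N3235 := trfs L42359 L32177 rfl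
theorem L71508 : sm gc N3235 = N2873 := flp_c L71507
theorem L71510 : sm ga N2884 = N1661 := trfs L42345 L17102 rfl
theorem L71511 : sm ga N1661 = N2884 := flp_a L71510
theorem L71512 : sm gc N2884 = N1659 := trfs L42345 L17101 rfl
theorem L71513 : sm gc N1659 = N2884 := flp_c L71512
theorem L71551 : sm gb N2975 = N4838 := trfs L64395 L32984 rfl
theorem L71552 : sm gb N4838 = N2975 := flp_b L71551
theorem L71556 : sm gb N5341 = N4822 := trfs L64383 L33041 rfl
theorem L71557 : sm gb N4822 = N5341 := flp_b L71556
theorem L71558 : sm gd N1628 = N2991 := trfs L64268 L29623 rfl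
theorem L71559 : sm gd N2991 = N1628 := flp_d L71558
theorem L71560 : sm gb N2630 = N3169 := trfs L66072 L31361 rfl
theorem L71561 : sm gb N3169 = N2630 := flp_b L71560
theorem L71572 : sm gb N2628 = N2989 := trfs L66050 L29560 rfl
theorem L71573 : sm gb N2989 = N2628 := flp_b L71572
theorem L71574 : sm gb N669 = N770 := trfs L42168 L7947 rfl
theorem L71575 : sm gb N770 = N669 := flp_b L71574
theorem L71576 : sm gf N669 = N778 := trfs L42168 L7948 rfl
theorem L71577 : sm gf N778 = N669 := flp_f L71576
theorem L71583 : sm gb N1545 = N1346 := trfs L42162 L8716 rfl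
theorem L71584 : sm gb N1346 = N1545 := flp_b L71583
theorem L71586 : sm gb N1344 = N1629 := trfs L66054 L16762 rfl
theorem L71587 : sm gb N1629 = N1344 := flp_b L71586
theorem L71590 : sm gb N2990 = N2634 := trfs L42151 L17515 rfl
theorem L71591 : sm gb N2634 = N2990 := flp_b L71590
theorem L71593 : sm gb N2629 = N3168 := trfs L51873 L31353 rfl
theorem L71594 : sm gb N3168 = N2629 := flp_b L71593
theorem L71607 : sm gc N2842 = N3021 := trfs L42094 L29962 rfl
theorem L71608 : sm gc N3021 = N2842 := flp_c L71607
theorem L71619 : sm gc N1560 = N2856 := trfs L42085 L15187 rfl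
theorem L71620 : sm gc N2856 = N1560 := flp_c L71619
theorem L71622 : sm gg N1560 = N2854 := trfs L42085 L15190 rfl
theorem L71623 : sm gg N2854 = N1560 := flp_g L71622
theorem L71626 : sm ga N2917 = N3025 := trfs L42058 L30017 rfl
theorem L71627 : sm ga N3025 = N2917 := flp_a L71626
theorem L71633 : sm gb N5113 = N3026 := trfs L42007 L30022 rfl
theorem L71634 : sm gb N3026 = N5113 := flp_b L71633
theorem L71635 : sm ge N5113 = N3025 := trfs L42007 L30021 rfl
theorem L71636 : sm ge N3025 = N5113 := flp_e L71635
theorem L71639 : sm gc N3020 = N2843 := trfs L41962 L17449 rfl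
theorem L71640 : sm gc N2843 = N3020 := flp_c L71639
theorem L71644 : sm gg N3020 = N5121 := trfs L41962 L28260 rfl
theorem L71645 : sm gg N5121 = N3020 := flp_g L71644
theorem L71646 : sm ga N5461 = N6240 := trfs L41952 L33901 rfl
theorem L71647 : N6240 = N3270 := eqes L71646 L30110
theorem L71648 : N6240 = N3270 := eqc rfl L71647 rfl
theorem L71649 : sm gb N5461 = N5102 := trfs L41952 L32968 rfl
theorem L71650 : sm gb N5102 = N5461 := flp_b L71649
theorem L71654 : sm gf N3270 = N5133 := trfs L71648 L33904 rfl
theorem L71655 : N5133 = N5965 := eqes L71654 L32570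
theorem L71656 : N5965 = N5133 := (eqc rfl L71655 rfl).symm
theorem L71658 : sm gf N5133 = N3270 := trfs L71656 L32569 rfl
theorem L71659 : sm gf N3270 = N5133 := flp_f L71658
theorem L71663 : sm gb N2841 = N3030 := trfs L41947 L29970 rfl
theorem L71664 : sm gb N3030 = N2841 := flp_b L71663
theorem L71665 : sm ge N2841 = N3021 := trfs L41947 L29972 rfl
theorem L71666 : sm ge N3021 = N2841 := flp_e L71665
theorem L71667 : sm gf N2841 = N3020 := trfs L41947 L29969 rfl
theorem L71668 : sm gf N3020 = N2841 := flp_f L71667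
theorem L71681 : sm gb N1565 = N2854 := trfs L41940 L15191 rfl
theorem L71682 : sm gb N2854 = N1565 := flp_b L71681
theorem L71685 : sm gf N1565 = N2851 := trfs L41940 L15194 rfl
theorem L71686 : sm gf N2851 = N1565 := flp_f L71685
theorem L71689 : sm gf N2872 = N3235 := trfs L41902 L32212 rfl
theorem L71690 : sm gf N3235 = N2872 := flp_f L71689
theorem L71692 : sm gb N5149 = N3270 := trfs L41895 L32331 rfl
theorem L71693 : sm gb N3270 = N5149 := flp_b L71692
theorem L71694 : sm gd N5149 = N3243 := trfs L41895 L32330 rfl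
theorem L71695 : sm gd N3243 = N5149 := flp_d L71694
theorem L71696 : sm gc N2821 = N3243 := trfs L41892 L32277 rfl
theorem L71697 : sm gc N3243 = N2821 := flp_c L71696
theorem L71699 : sm ga N5151 = N3243 := trfs L41888 L32181 rfl
theorem L71700 : sm ga N3243 = N5151 := flp_a L71699
theorem L71703 : sm ga N2871 = N3020 := trfs L41879 L17150 rfl
theorem L71704 : sm ga N3020 = N2871 := flp_a L71703
theorem L71707 : sm gd N2871 = N1662 := trfs L41879 L17149 rfl
theorem L71708 : sm gd N1662 = N2871 := flp_d L71707
theorem L71712 : sm gc N2822 = N1662 := trfs L41876 L17138 rfl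
theorem L71713 : sm gc N1662 = N2822 := flp_c L71712
theorem L71717 : sm ge N2822 = N1661 := trfs L41876 L17137 rfl
theorem L71718 : sm ge N1661 = N2822 := flp_e L71717
theorem L71720 : sm gc N3233 = N2883 := trfs L41872 L26151 rfl
theorem L71721 : sm gc N2883 = N3233 := flp_c L71720
theorem L71722 : sm gf N3233 = N5151 := trfs L41872 L28397 rfl
theorem L71723 : sm gf N5151 = N3233 := flp_f L71722
theorem L71727 : sm gc N1664 = N2820 := trfs L41865 L17976 rfl
theorem L71728 : sm gc N2820 = N1664 := flp_c L71727
theorem L71729 : sm ge N1664 = N2818 := trfs L41865 L17978 rfl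
theorem L71730 : sm ge N2818 = N1664 := flp_e L71729
theorem L71731 : sm gf N1664 = N2817 := trfs L41865 L17981 rfl
theorem L71732 : sm gf N2817 = N1664 := flp_f L71731
theorem L71734 : sm ge N2881 = N3235 := trfs L41857 L32193 rfl
theorem L71735 : sm ge N3235 = N2881 := flp_e L71734
theorem L71736 : sm gg N2881 = N3233 := trfs L41857 L32188 rfl
theorem L71737 : sm gg N3233 = N2881 := flp_g L71736
theorem L71738 : sm gb N3031 = N5121 := trfs L41834 L28254 rfl
theorem L71739 : sm gb N5121 = N3031 := flp_b L71738
theorem L71740 : sm gc N3031 = N5074 := trfs L41834 L27950 rfl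
theorem L71741 : sm gc N5074 = N3031 := flp_c L71740
theorem L71743 : sm ga N3272 = N6058 := trfs L41827 L32989 rfl
theorem L71744 : N6058 = N5463 := eqes L71743 L30119
theorem L71745 : N6058 = N5463 := eqc rfl L71744 rfl
theorem L71746 : sm gb N3272 = N2816 := trfs L41827 L27891 rfl
theorem L71747 : N2816 = N5917 := eqes L71746 L32340
theorem L71748 : N5917 = N2816 := (eqc rfl L71747 rfl).symm
theorem L71749 : sm gb N2816 = N3272 := trfs L71748 L32339 rfl
theorem L71750 : sm gb N3272 = N2816 := flp_b L71749
theorem L71752 : sm gb N5463 = N5120 := trfs L71745 L32990 rfl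
theorem L71753 : sm gb N5120 = N5463 := flp_b L71752
theorem L71755 : sm gb N1465 = N1676 := trfs L41822 L17170 rfl
theorem L71756 : sm gb N1676 = N1465 := flp_b L71755
theorem L71759 : sm gb N3032 = N2853 := trfs L41819 L17523 rfl
theorem L71760 : sm gb N2853 = N3032 := flp_b L71759
theorem L71761 : sm gc N3032 = N2824 := trfs L41819 L17525 rfl
theorem L71762 : sm gc N2824 = N3032 := flp_c L71761
theorem L71763 : sm ge N3032 = N2851 := trfs L41819 L17527 rfl
theorem L71764 : sm ge N2851 = N3032 := flp_e L71763
theorem L71766 : sm ga N1663 = N2882 := trfs L41808 L15332 rfl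
theorem L71767 : sm ga N2882 = N1663 := flp_a L71766
theorem L71768 : sm gc N1663 = N1468 := trfs L41808 L14932 rfl
theorem L71769 : sm gc N1468 = N1663 := flp_c L71768
theorem L71771 : sm gg N1663 = N1465 := trfs L41808 L14931 rfl
theorem L71772 : sm gg N1465 = N1663 := flp_g L71771
theorem L71780 : sm ga N3265 = N6052 := trfs L41769 L33892 rfl
theorem L71781 : N6052 = N5456 := eqes L71780 L30071
theorem L71782 : N6052 = N5456 := eqc rfl L71781 rfl
theorem L71783 : sm gb N3265 = N5081 := trfs L41769 L33894 rfl
theorem L71784 : N5081 = N5949 := eqes L71783 L32516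
theorem L71785 : N5949 = N5081 := (eqc rfl L71784 rfl).symm
theorem L71787 : sm gb N5081 = N3265 := trfs L71785 L32515 rfl
theorem L71788 : sm gb N3265 = N5081 := flp_b L71787
theorem L71790 : sm gb N5456 = N5111 := trfs L71782 L32964 rfl
theorem L71791 : sm gb N5111 = N5456 := flp_b L71790
theorem L71795 : sm gb N3028 = N2847 := trfs L41761 L17491 rfl
theorem L71796 : sm gb N2847 = N3028 := flp_b L71795
theorem L71797 : sm ge N3028 = N5074 := trfs L41761 L27952 rfl
theorem L71798 : sm ge N5074 = N3028 := flp_e L71797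
theorem L71801 : sm ga N1678 = N2851 := trfs L41749 L18042 rfl
theorem L71802 : sm ga N2851 = N1678 := flp_a L71801
theorem L71803 : sm gb N1678 = N2817 := trfs L41749 L18044 rfl
theorem L71804 : sm gb N2817 = N1678 := flp_b L71803
theorem L71805 : sm gc N1678 = N2825 := trfs L41749 L18046 rfl
theorem L71806 : sm gc N2825 = N1678 := flp_c L71805
theorem L71808 : sm gf N2845 = N3028 := trfs L41745 L30075 rfl
theorem L71809 : sm gf N3028 = N2845 := flp_f L71808
theorem L71811 : sm ga N5108 = N3261 := trfs L41732 L30040 rfl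
theorem L71812 : sm ga N3261 = N5108 := flp_a L71811
theorem L71813 : sm gc N5108 = N3030 := trfs L41732 L30042 rfl
theorem L71814 : sm gc N3030 = N5108 := flp_c L71813
theorem L71815 : sm ge N5108 = N3027 := trfs L41732 L30044 rfl
theorem L71816 : sm ge N3027 = N5108 := flp_e L71815
theorem L71817 : sm gf N5108 = N3026 := trfs L41732 L30039 rfl
theorem L71818 : sm gf N3026 = N5108 := flp_f L71817
theorem L71819 : sm gd N1523 = N2848 := trfs L41627 L28194 rfl
theorem L71820 : sm gd N2848 = N1523 := flp_d L71819
theorem L71821 : sm ge N5087 = N2914 := trfs L41589 L28817 rfl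
theorem L71822 : sm ge N2914 = N5087 := flp_e L71821
theorem L71823 : sm gb N3263 = N2833 := trfs L41586 L27979 rfl
theorem L71824 : sm gb N2833 = N3263 := flp_b L71823
theorem L71826 : sm gg N3263 = N4671 := trfs L41586 L27981 rfl
theorem L71827 : N4671 = N5957 := eqes L71826 L32539
theorem L71828 : N5957 = N4671 := (eqc rfl L71827 rfl).symm
theorem L71829 : sm gg N4671 = N3263 := trfs L71828 L32540 rfl
theorem L71830 : sm gg N3263 = N4671 := flp_g L71829
theorem L71831 : sm ge N1511 = N2833 := trfs L41583 L28030 rfl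
theorem L71832 : sm ge N2833 = N1511 := flp_e L71831
theorem L71833 : sm gb N1671 = N1472 := trfs L41571 L14982 rfl
theorem L71834 : sm gb N1472 = N1671 := flp_b L71833
theorem L71839 : sm gc N1469 = N1676 := trfs L41561 L17256 rfl
theorem L71840 : sm gc N1676 = N1469 := flp_c L71839
theorem L71845 : sm gg N1469 = N1671 := trfs L41561 L17255 rfl
theorem L71846 : sm gg N1671 = N1469 := flp_g L71845
theorem L71848 : sm gb N2829 = N1672 := trfs L41555 L17236 rfl
theorem L71849 : sm gb N1672 = N2829 := flp_b L71848
theorem L71852 : sm gc N2826 = N1675 := trfs L41552 L17248 rfl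
theorem L71853 : sm gc N1675 = N2826 := flp_c L71852
theorem L71857 : sm ge N2826 = N1672 := trfs L41552 L17250 rfl
theorem L71858 : sm ge N1672 = N2826 := flp_e L71857
theorem L71873 : sm gc N1669 = N1478 := trfs L41540 L15036 rfl
theorem L71874 : sm gc N1478 = N1669 := flp_c L71873
theorem L71875 : sm ge N1669 = N2832 := trfs L41540 L15038 rfl
theorem L71876 : sm ge N2832 = N1669 := flp_e L71875
theorem L71877 : sm gf N1669 = N1472 := trfs L41540 L15031 rfl
theorem L71878 : sm gf N1472 = N1669 := flp_f L71877
theorem L71879 : sm gg N1669 = N2829 := trfs L41540 L15040 rfl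
theorem L71880 : sm gg N2829 = N1669 := flp_g L71879
theorem L71881 : sm gb N1670 = N2832 := trfs L41534 L17986 rfl
theorem L71882 : sm gb N2832 = N1670 := flp_b L71881
theorem L71884 : sm gg N1670 = N2826 := trfs L41534 L17991 rfl
theorem L71885 : sm gg N2826 = N1670 := flp_g L71884
theorem L71892 : sm gb N3260 = N5086 := trfs L41519 L33885 rfl
theorem L71893 : sm gb N5086 = N3260 := flp_b L71892
theorem L71895 : sm gb N2913 = N3278 := trfs L52494 L32619 rfl
theorem L71896 : sm gb N3278 = N2913 := flp_b L71895
theorem L71897 : sm gd N1508 = N2830 := trfs L41366 L28000 rfl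
theorem L71898 : sm gd N2830 = N1508 := flp_d L71897
theorem L71904 : sm ga N1512 = N1669 := trfs L41322 L17225 rfl
theorem L71905 : sm ga N1669 = N1512 := flp_a L71904
theorem L71910 : sm ge N2861 = N1680 := trfs L41280 L17278 rfl
theorem L71911 : sm ge N1680 = N2861 := flp_e L71910
theorem L71915 : sm gc N2894 = N1680 := trfs L41274 L17313 rfl
theorem L71916 : sm gc N1680 = N2894 := flp_c L71915
theorem L71917 : sm gd N2894 = N3261 := trfs L41274 L32761 rfl
theorem L71918 : sm gd N3261 = N2894 := flp_d L71917
theorem L71921 : sm ga N2867 = N3021 := trfs L41271 L17194 rfl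
theorem L71922 : sm ga N3021 = N2867 := flp_a L71921
theorem L71923 : sm gb N2867 = N1680 := trfs L41271 L17196 rfl
theorem L71924 : sm gb N1680 = N2867 := flp_b L71923
theorem L71927 : sm gb N1685 = N2882 := trfs L52109 L17543 rfl
theorem L71928 : sm gb N2882 = N1685 := flp_b L71927
theorem L71929 : sm gc N1685 = N2935 := trfs L52109 L17545 rfl
theorem L71930 : sm gc N2935 = N1685 := flp_c L71929
theorem L71932 : sm gg N1685 = N2879 := trfs L52109 L17548 rfl
theorem L71933 : sm gg N2879 = N1685 := flp_g L71932
theorem L71934 : sm gb N1673 = N2871 := trfs L41262 L18008 rfl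
theorem L71935 : sm gb N2871 = N1673 := flp_b L71934
theorem L71936 : sm gc N1673 = N2898 := trfs L41262 L18015 rfl
theorem L71937 : sm gc N2898 = N1673 := flp_c L71936
theorem L71938 : sm gf N1673 = N2861 := trfs L41262 L18013 rfl
theorem L71939 : sm gf N2861 = N1673 := flp_f L71938
theorem L71942 : sm gb N1679 = N1510 := trfs L41256 L15407 rfl
theorem L71943 : sm gb N1510 = N1679 := flp_b L71942
theorem L71944 : sm ge N1679 = N2898 := trfs L41256 L15422 rfl
theorem L71945 : N2898 = N6032 := eqes L71944 L52585
theorem L71946 : N6032 = N2898 := (eqc rfl L71945 rfl).symm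
theorem L71947 : sm gf N1679 = N2894 := trfs L41256 L15412 rfl
theorem L71948 : sm gf N2894 = N1679 := flp_f L71947
theorem L71953 : sm ge N2898 = N1679 := trfs L71946 L52586 rfl
theorem L71954 : sm ge N1679 = N2898 := flp_e L71953
theorem L71955 : sm gc N1665 = N1493 := trfs L41253 L15247 rfl
theorem L71956 : sm gc N1493 = N1665 := flp_c L71955
theorem L71957 : sm ge N1665 = N2871 := trfs L41253 L15264 rfl
theorem L71958 : sm ge N2871 = N1665 := flp_e L71957
theorem L71959 : sm gf N1665 = N2867 := trfs L41253 L15250 rfl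
theorem L71960 : sm gf N2867 = N1665 := flp_f L71959
theorem L71967 : sm gf N1485 = N1681 := trfs L41244 L17328 rfl
theorem L71968 : sm gf N1681 = N1485 := flp_f L71967
theorem L71969 : sm gb N3269 = N2866 := trfs L41241 L28309 rfl
theorem L71970 : sm gb N2866 = N3269 := flp_b L71969
theorem L71971 : sm gc N3269 = N2893 := trfs L41241 L28311 rfl
theorem L71972 : sm gc N2893 = N3269 := flp_c L71971
theorem L71973 : sm gf N3269 = N2859 := trfs L41241 L28308 rfl
theorem L71974 : sm gf N2859 = N3269 := flp_f L71973
theorem L71975 : sm gc N1501 = N1681 := trfs L41238 L17317 rfl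
theorem L71976 : sm gc N1681 = N1501 := flp_c L71975
theorem L71980 : sm gg N1501 = N1679 := trfs L41238 L17316 rfl
theorem L71981 : sm gg N1679 = N1501 := flp_g L71980
theorem L71982 : sm gb N1488 = N1681 := trfs L41235 L17202 rfl
theorem L71983 : sm gb N1681 = N1488 := flp_b L71982
theorem L71985 : sm gg N1488 = N1665 := trfs L41235 L17199 rfl
theorem L71986 : sm gg N1665 = N1488 := flp_g L71985
theorem L71987 : sm gc N1677 = N2886 := trfs L52119 L17553 rfl
theorem L71988 : sm gc N2886 = N1677 := flp_c L71987
theorem L71989 : sm gf N1677 = N2857 := trfs L52119 L17556 rfl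
theorem L71990 : sm gf N2857 = N1677 := flp_f L71989
theorem L71999 : sm gd N2882 = N2513 := trfs L52436 L25086 rfl
theorem L72000 : sm gd N2513 = N2882 := flp_d L71999
theorem L72001 : sm gb N2513 = N3292 := trfs L41125 L32453 rfl
theorem L72002 : sm gb N3292 = N2513 := flp_b L72001
theorem L72004 : sm ga N3168 = N3292 := trfs L52956 L30231 rfl
theorem L72005 : sm ga N3292 = N3168 := flp_a L72004
theorem L72007 : sm gb N3295 = N2512 := trfs L41114 L25168 rfl
theorem L72008 : sm gb N2512 = N3295 := flp_b L72007
theorem L72013 : sm gg N3295 = N5606 := trfs L41114 L30856 rfl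
theorem L72014 : sm gg N5606 = N3295 := flp_g L72013
theorem L72015 : sm gb N833 = N640 := trfs L41111 L6596 rfl
theorem L72016 : sm gb N640 = N833 := flp_b L72015
theorem L72017 : sm gb N1285 = N1686 := trfs L41106 L17222 rfl
theorem L72018 : sm gb N1686 = N1285 := flp_b L72017
theorem L72022 : sm ga N1629 = N1686 := trfs L52962 L16190 rfl
theorem L72023 : sm ga N1686 = N1629 := flp_a L72022
theorem L72047 : sm gd N3102 = N3169 := trfs L41077 L17383 rfl
theorem L72048 : sm gd N3169 = N3102 := flp_d L72047
theorem L72050 : sm gg N3102 = N1686 := trfs L41077 L17382 rfl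
theorem L72051 : sm gg N1686 = N3102 := flp_g L72050
theorem L72065 : sm gc N3097 = N3295 := trfs L41049 L32815 rfl
theorem L72066 : sm gc N3295 = N3097 := flp_c L72065
theorem L72067 : sm gc N3096 = N3292 := trfs L41046 L32786 rfl
theorem L72068 : sm gc N3292 = N3096 := flp_c L72067
theorem L72069 : sm ge N3095 = N3292 := trfs L41043 L32794 rfl
theorem L72070 : sm ge N3292 = N3095 := flp_e L72069
theorem L72071 : sm gf N3095 = N3295 := trfs L41043 L32797 rfl
theorem L72072 : sm gf N3295 = N3095 := flp_f L72071
theorem L72075 : sm gf N1592 = N3092 := trfs L41029 L17842 rfl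
theorem L72076 : sm gf N3092 = N1592 := flp_f L72075
theorem L72098 : sm gc N1595 = N3092 := trfs L40980 L17856 rfl
theorem L72099 : sm gc N3092 = N1595 := flp_c L72098
theorem L72103 : sm ge N3077 = N3092 := trfs L40977 L30797 rfl
theorem L72104 : sm ge N3092 = N3077 := flp_e L72103
theorem L72160 : sm gd N59 = N59 := trfs L40675 L633 rfl
theorem L72162 : sm gd N198 = N198 := trfs L40672 L2055 rfl
theorem L72167 : sm gg N25 = N25 := trfs L40663 L300 rfl
theorem L72209 : sm ge N769 = N769 := trfs L46693 L7931 rfl
theorem L72216 : sm gd N208 = N392 := trfs L43233 L3986 rfl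
theorem L72217 : sm gd N392 = N208 := flp_d L72216
theorem L72223 : sm gd N119 = N225 := trfs L45646 L2348 rfl
theorem L72224 : sm gd N225 = N119 := flp_d L72223
theorem L72225 : sm gg N119 = N226 := trfs L45646 L2350 rfl
theorem L72226 : sm gg N226 = N119 := flp_g L72225
theorem L72254 : sm ge N1036 = N821 := trfs L40408 L8526 rfl
theorem L72255 : sm ge N821 = N1036 := flp_e L72254
theorem L72267 : sm gg N777 = N1036 := trfs L43327 L10786 rfl
theorem L72268 : sm gg N1036 = N777 := flp_g L72267
theorem L72352 : sm gg N5164 = N5605 := ded_24_4 L30846 L41141 L17362 L71932 L28465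
theorem L72353 : sm gg N5605 = N5164 := flp_g L72352
theorem L72354 : sm ge N5177 = N5454 := ded_10_2 L30056 L41346 L28544
theorem L72355 : sm ge N5454 = N5177 := flp_e L72354
theorem L72356 : sm ge N5199 = N5955 := ded_19_2 L32536 L41346 L28664
theorem L72357 : sm ge N5955 = N5199 := flp_e L72356
theorem L72358 : sm ge N5188 = N4671 := ded_26_3 L71829 L41346 L28622
theorem L72359 : sm ge N4671 = N5188 := flp_e L72358
theorem L72360 : N5985 = N5294 := coi_17_3 L29110 L41419 L71895 L32640
theorem L72361 : N5985 = N5294 := eqc rfl L72360 rfl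
theorem L72363 : sm gg N5294 = N3278 := trfs L72361 L32641 rfl
theorem L72364 : sm gg N3278 = N5294 := flp_g L72363
theorem L72365 : sm gd N5294 = N5197 := ded_14_2 L28657 L41482 L29109
theorem L72366 : sm gd N5197 = N5294 := flp_d L72365
theorem L72367 : sm gc N5226 = N5167 := ded_19_3 L28490 L41484 L28782
theorem L72368 : sm gc N5167 = N5226 := flp_c L72367
theorem L72369 : sm gc N5228 = N5168 := ded_20_3 L28494 L41484 L28789
theorem L72370 : sm gc N5168 = N5228 := flp_c L72369
theorem L72371 : N5605 = N5222 := coi_17_3 L28767 L41492 L28470 L72352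
theorem L72372 : N5605 = N5222 := eqc rfl L72371 rfl
theorem L72373 : sm gd N5222 = N3101 := trfs L72372 L30846 rfl
theorem L72374 : sm gd N3101 = N5222 := flp_d L72373
theorem L72375 : sm gg N5222 = N5164 := trfs L72372 L72353 rfl
theorem L72376 : sm gg N5164 = N5222 := flp_g L72375
theorem L72377 : sm gg N5167 = N5224 := ded_26_2 L28772 L41492 L28489
theorem L72378 : sm gg N5224 = N5167 := flp_g L72377
theorem L72379 : N4594 = N5223 := coi_24_5 L28769 L41492 L15320 L15329 L71999 L25210
theorem L72380 : N5223 = N4594 := (eqc rfl L72379 rfl).symm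
theorem L72382 : sm gd N4594 = N2910 := trfs L72380 L28769 rfl
theorem L72383 : sm gd N2910 = N4594 := flp_d L72382
theorem L72384 : N4820 = N5065 := coi_9_1 L41494 L72383 L25212 L26394
theorem L72385 : N5065 = N4820 := (eqc rfl L72384 rfl).symm
theorem L72386 : sm ga N4820 = N2910 := trfs L72385 L41494 rfl
theorem L72387 : sm ga N2910 = N4820 := flp_a L72386
theorem L72388 : sm gc N4820 = N2831 := trfs L72385 L41496 rfl
theorem L72389 : sm gc N2831 = N4820 := flp_c L72388
theorem L72390 : sm gf N4820 = N4677 := trfs L72385 L41498 rfl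
theorem L72391 : sm gf N4677 = N4820 := flp_f L72390
theorem L72392 : sm gg N4820 = N2816 := trfs L72385 L27902 rfl
theorem L72393 : sm gg N2816 = N4820 := flp_g L72392
theorem L72394 : N2840 = N5099 := coi_30_6 L28110 L15077 L15021 L28019 L28021 L41512 L15658 L41521 L28020 L15020 L15076
theorem L72395 : N5099 = N2840 := (eqc rfl L72394 rfl).symm
theorem L72396 : sm ga N2840 = N2927 := trfs L72395 L28111 rfl
theorem L72397 : N2927 = N1518 := eqes L72396 L15078
theorem L72398 : N2927 = N1518 := eqc rfl L72397 rfl
theorem L72399 : sm gc N2840 = N2840 := trfs L72395 L28110 rfl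
theorem L72404 : sm gc N1518 = N1518 := trfs L72398 L15554 rfl
theorem L72408 : sm ge N1518 = N5255 := trfs L72398 L28914 rfl
theorem L72409 : N5255 = N2928 := eqes L72408 L15555
theorem L72410 : N5255 = N2928 := eqc rfl L72409 rfl
theorem L72411 : sm gf N1518 = N5256 := trfs L72398 L28918 rfl
theorem L72412 : N5256 = N2929 := eqes L72411 L15557
theorem L72413 : N5256 = N2929 := eqc rfl L72412 rfl
theorem L72414 : sm gc N2929 = N2929 := trfs L72413 L28920 rfl
theorem L72415 : sm gc N2928 = N2928 := trfs L72410 L28916 rfl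
theorem L72416 : N5288 = N5952 := coi_17_2 L32529 L71892 L41527 L29069
theorem L72417 : N5952 = N5288 := (eqc rfl L72416 rfl).symm
theorem L72419 : sm gg N5288 = N3260 := trfs L72417 L32529 rfl
theorem L72420 : sm gg N3260 = N5288 := flp_g L72419
theorem L72421 : sm gd N4686 = N5211 := ded_9_2 L28728 L41606 L28848
theorem L72422 : sm gd N5211 = N4686 := flp_d L72421
theorem L72423 : N4528 = N4716 := coi_22_3 L25842 L25712 L72421 L41609 L41606 L53360
theorem L72424 : N4716 = N4528 := (eqc rfl L72423 rfl).symm
theorem L72425 : sm gd N4528 = N2571 := trfs L72424 L25842 rfl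
theorem L72426 : sm gd N2571 = N4528 := flp_d L72425
theorem L72427 : sm gf N5239 = N4684 := ded_23_2 L25696 L13492 L13489 L25693 L41606
theorem L72428 : sm gf N4684 = N5239 := flp_f L72427
theorem L72429 : N2923 = N4683 := coi_31_0 L41610 L15500 L7786 L3857 L1972 L1969 L3802 L7574 L15016 L15023 L71898 L7773 L3868 L3863 L7809 L15545
theorem L72430 : N4683 = N2923 := (eqc rfl L72429 rfl).symm
theorem L72431 : sm ga N2923 = N5211 := trfs L72430 L28729 rfl
theorem L72432 : N5211 = N5094 := eqes L72431 L28082
theorem L72433 : N5211 = N5094 := eqc rfl L72432 rfl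
theorem L72434 : sm gd N2923 = N5239 := trfs L72430 L41606 rfl
theorem L72435 : N5239 = N5246 := eqes L72434 L28880
theorem L72436 : N5246 = N5239 := (eqc rfl L72435 rfl).symm
theorem L72438 : sm gf N2923 = N2553 := trfs L72430 L25694 rfl
theorem L72439 : N2553 = N5241 := eqes L72438 L28865
theorem L72440 : N5241 = N2553 := (eqc rfl L72439 rfl).symm
theorem L72441 : sm gg N2923 = N2916 := trfs L72430 L41610 rfl
theorem L72442 : N2916 = N5247 := eqes L72441 L28882
theorem L72443 : N5247 = N2916 := (eqc rfl L72442 rfl).symm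
theorem L72444 : sm gc N2916 = N2924 := trfs L72443 L28884 rfl
theorem L72445 : N2924 = N5235 := eqes L72444 L28823
theorem L72446 : N5235 = N2924 := (eqc rfl L72445 rfl).symm
theorem L72447 : sm gg N2916 = N2923 := trfs L72443 L28883 rfl
theorem L72448 : sm gg N2923 = N2916 := flp_g L72447
theorem L72449 : sm gc N2924 = N2916 := trfs L72446 L28822 rfl
theorem L72450 : sm gc N2916 = N2924 := flp_c L72449
theorem L72451 : sm gf N2924 = N2914 := trfs L72446 L28821 rfl
theorem L72452 : N2914 = N5248 := eqes L72451 L28886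
theorem L72453 : N5248 = N2914 := (eqc rfl L72452 rfl).symm
theorem L72454 : sm ga N2914 = N5242 := trfs L72453 L28888 rfl
theorem L72455 : N5242 = N5087 := eqes L72454 L28026
theorem L72456 : N5242 = N5087 := eqc rfl L72455 rfl
theorem L72458 : sm gf N2914 = N2924 := trfs L72453 L28887 rfl
theorem L72459 : sm gf N2924 = N2914 := flp_f L72458
theorem L72460 : sm gg N2914 = N5092 := trfs L72453 L28892 rfl
theorem L72461 : N5092 = N5209 := eqes L72460 L28719
theorem L72462 : N5209 = N5092 := (eqc rfl L72461 rfl).symm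
theorem L72466 : sm gc N5092 = N2904 := trfs L72462 L28715 rfl
theorem L72467 : sm gc N2904 = N5092 := flp_c L72466
theorem L72468 : sm gg N5092 = N2914 := trfs L72462 L28718 rfl
theorem L72469 : sm gg N2914 = N5092 := flp_g L72468
theorem L72474 : sm gd N5087 = N5287 := trfs L72456 L29068 rfl
theorem L72475 : sm gd N5287 = N5087 := flp_d L72474
theorem L72476 : sm gf N5087 = N5095 := trfs L72456 L28869 rfl
theorem L72477 : sm gf N5095 = N5087 := flp_f L72476
theorem L72478 : sm gg N5087 = N2921 := trfs L72456 L28867 rfl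
theorem L72479 : sm gg N2921 = N5087 := flp_g L72478
theorem L72480 : sm gc N2553 = N2921 := trfs L72440 L28863 rfl
theorem L72481 : sm gc N2921 = N2553 := flp_c L72480
theorem L72482 : sm gf N2553 = N2923 := trfs L72440 L28864 rfl
theorem L72483 : sm gf N2923 = N2553 := flp_f L72482
theorem L72484 : sm gd N5239 = N2923 := trfs L72436 L28881 rfl
theorem L72485 : sm gd N2923 = N5239 := flp_d L72484
theorem L72486 : sm gd N5094 = N4686 := trfs L72433 L72422 rfl
theorem L72487 : sm gd N4686 = N5094 := flp_d L72486
theorem L72488 : sm gf N5094 = N2904 := trfs L72433 L28727 rfl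
theorem L72489 : sm gf N2904 = N5094 := flp_f L72488
theorem L72490 : sm gg N5094 = N5089 := trfs L72433 L41621 rfl
theorem L72491 : sm gg N5089 = N5094 := flp_g L72490
theorem L72492 : sm gg N5245 = N5177 := ded_17_2 L28545 L72447 L28878
theorem L72493 : sm gg N5177 = N5245 := flp_g L72492
theorem L72494 : N4676 = N2901 := coi_22_4 L15447 L15463 L41612 L13490 L13480 L25679
theorem L72495 : N4676 = N2901 := eqc rfl L72494 rfl
theorem L72496 : sm ga N2901 = N5204 := trfs L72495 L28693 rfl
theorem L72497 : N5204 = N2550 := eqes L72496 L15443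
theorem L72498 : N5204 = N2550 := eqc rfl L72497 rfl
theorem L72501 : sm gd N2550 = N2901 := trfs L72498 L28691 rfl
theorem L72502 : sm gd N2901 = N2550 := flp_d L72501
theorem L72503 : sm gc N5095 = N5089 := ded_19_3 L41618 L72450 L28090
theorem L72504 : sm gc N5089 = N5095 := flp_c L72503
theorem L72505 : N5098 = N5277 := coi_31_11 L29036 L15608 L28737 L28735 L25672 L41711 L15480 L7764 L3849 L3867 L3873 L7813 L72404 L15081 L28121 L28125
theorem L72506 : N5277 = N5098 := (eqc rfl L72505 rfl).symm
theorem L72507 : sm gc N5098 = N2939 := trfs L72506 L29036 rfl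
theorem L72508 : sm gc N2939 = N5098 := flp_c L72507
theorem L72509 : sm gg N5098 = N5217 := trfs L72506 L29037 rfl
theorem L72510 : sm gg N5217 = N5098 := flp_g L72509
theorem L72511 : sm gd N5308 = N5961 := ded_23_3 L32548 L17261 L41772 L27955 L52839
theorem L72512 : sm gd N5961 = N5308 := flp_d L72511
theorem L72513 : sm gb N5966 = N5144 := ded_17_3 L28367 L41851 L32574
theorem L72514 : sm gb N5144 = N5966 := flp_b L72513
theorem L72515 : sm gf N5217 = N5071 := ded_31_13 L27932 L71696 L41915 L71732 L53011 L71508 L15356 L15346 L7725 L7833 L7831 L7826 L15606 L72508 L72509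
theorem L72516 : sm gf N5071 = N5217 := flp_f L72515
theorem L72517 : sm gf N5066 = N5150 := ded_16_2 L28385 L52949 L41922
theorem L72518 : sm gf N5150 = N5066 := flp_f L72517
theorem L72519 : sm gc N5348 = N5375 := ded_13_0 L64347 L26414 L71593 L66089 L29479
theorem L72520 : sm gc N5375 = N5348 := flp_c L72519
theorem L72521 : sm gf N5729 = N5599 := ded_31_9 L30827 L66027 L66028 L66016 L71558 L71457 L64266 L64478 L15822 L29187 L29183 L15664 L15706 L16774 L31403
theorem L72522 : sm gf N5599 = N5729 := flp_f L72521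
theorem L72523 : N5187 = N5672 := coi_31_14 L31140 L16672 L43577 L70787 L4135 L4164 L4280 L4274 L4271 L8648 L52877 L15362 L15357 L65599 L28599 L28615
theorem L72524 : N5672 = N5187 := (eqc rfl L72523 rfl).symm
theorem L72525 : sm ga N5187 = N5668 := trfs L72524 L31141 rfl
theorem L72526 : sm ga N5668 = N5187 := flp_a L72525
theorem L72527 : sm gd N5187 = N3136 := trfs L72524 L31140 rfl
theorem L72528 : sm gd N3136 = N5187 := flp_d L72527
theorem L72529 : N4747 = N1310 := coi_31_8 L6743 L3371 L1675 L852 L861 L1712 L3441 L67922 L6860 L70647 L43779 L16623 L70621 L13182 L13628 L25999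
theorem L72530 : N4747 = N1310 := eqc rfl L72529 rfl
theorem L72531 : sm gc N1310 = N2587 := trfs L72530 L26000 rfl
theorem L72532 : N2587 = N2552 := eqes L72531 L13486
theorem L72533 : N2587 = N2552 := eqc rfl L72532 rfl
theorem L72534 : sm ga N2552 = N4569 := trfs L72533 L25033 rfl
theorem L72535 : N4569 = N2903 := eqes L72534 L15458
theorem L72536 : N4569 = N2903 := eqc rfl L72535 rfl
theorem L72537 : sm gb N2552 = N3135 := trfs L72533 L57392 rfl
theorem L72538 : N3135 = N4670 := eqes L72537 L25654
theorem L72539 : N4670 = N3135 := (eqc rfl L72538 rfl).symm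
theorem L72540 : sm gd N2552 = N1322 := trfs L72533 L13629 rfl
theorem L72541 : N1322 = N4680 := eqes L72540 L25687
theorem L72542 : N4680 = N1322 := (eqc rfl L72541 rfl).symm
theorem L72555 : sm gd N1322 = N2552 := trfs L72542 L25688 rfl
theorem L72556 : sm gd N2552 = N1322 := flp_d L72555
theorem L72559 : sm gb N3135 = N2552 := trfs L72539 L25653 rfl
theorem L72560 : sm gb N2552 = N3135 := flp_b L72559
theorem L72561 : sm ge N3135 = N4672 := trfs L72539 L25666 rfl
theorem L72562 : N4672 = N5670 := eqes L72561 L31135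
theorem L72563 : N5670 = N4672 := (eqc rfl L72562 rfl).symm
theorem L72564 : sm gf N3135 = N4668 := trfs L72539 L25656 rfl
theorem L72565 : N4668 = N5671 := eqes L72564 L31137
theorem L72566 : N5671 = N4668 := (eqc rfl L72565 rfl).symm
theorem L72567 : sm gg N3135 = N2546 := trfs L72539 L25652 rfl
theorem L72568 : N2546 = N5663 := eqes L72567 L31118
theorem L72569 : N5663 = N2546 := (eqc rfl L72568 rfl).symm
theorem L72570 : sm gd N2546 = N3132 := trfs L72569 L31116 rfl
theorem L72571 : N3132 = N4669 := eqes L72570 L25647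
theorem L72572 : N4669 = N3132 := (eqc rfl L72571 rfl).symm
theorem L72573 : sm gg N2546 = N3135 := trfs L72569 L31117 rfl
theorem L72574 : sm gg N3135 = N2546 := flp_g L72573
theorem L72575 : sm gb N3132 = N2551 := trfs L72572 L25649 rfl
theorem L72576 : N2551 = N5650 := eqes L72575 L31056
theorem L72577 : N5650 = N2551 := (eqc rfl L72576 rfl).symm
theorem L72578 : sm gd N3132 = N2546 := trfs L72572 L25648 rfl
theorem L72579 : sm gd N2546 = N3132 := flp_d L72578
theorem L72580 : sm gf N3132 = N5077 := trfs L72572 L27976 rfl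
theorem L72581 : N5077 = N5664 := eqes L72580 L31119
theorem L72582 : N5664 = N5077 := (eqc rfl L72581 rfl).symm
theorem L72583 : sm ge N5077 = N5662 := trfs L72582 L31121 rfl
theorem L72584 : sm ge N5662 = N5077 := flp_e L72583
theorem L72585 : sm gf N5077 = N3132 := trfs L72582 L31120 rfl
theorem L72586 : sm gf N3132 = N5077 := flp_f L72585
theorem L72587 : sm gg N5077 = N5660 := trfs L72582 L31123 rfl
theorem L72588 : sm gg N5660 = N5077 := flp_g L72587
theorem L72589 : sm gb N2551 = N3132 := trfs L72577 L31055 rfl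
theorem L72590 : sm gb N3132 = N2551 := flp_b L72589
theorem L72591 : sm gg N2551 = N3126 := trfs L72577 L31054 rfl
theorem L72592 : N3126 = N4679 := eqes L72591 L25685
theorem L72593 : N4679 = N3126 := (eqc rfl L72592 rfl).symm
theorem L72594 : sm ga N3126 = N5207 := trfs L72593 L28709 rfl
theorem L72595 : N5207 = N5645 := eqes L72594 L31028
theorem L72596 : N5645 = N5207 := (eqc rfl L72595 rfl).symm
theorem L72597 : sm gg N3126 = N2551 := trfs L72593 L25686 rfl
theorem L72598 : sm gg N2551 = N3126 := flp_g L72597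
theorem L72599 : sm ga N5207 = N3126 := trfs L72596 L31027 rfl
theorem L72600 : sm ga N3126 = N5207 := flp_a L72599
theorem L72601 : sm gb N5207 = N3306 := trfs L72596 L70700 rfl
theorem L72602 : sm gb N3306 = N5207 := flp_b L72601
theorem L72603 : sm gd N5207 = N3125 := trfs L72596 L31026 rfl
theorem L72604 : sm gd N3125 = N5207 := flp_d L72603
theorem L72605 : sm gf N4668 = N3135 := trfs L72566 L31138 rfl
theorem L72606 : sm gf N3135 = N4668 := flp_f L72605
theorem L72607 : sm ge N4672 = N3135 := trfs L72563 L31136 rfl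
theorem L72608 : sm ge N3135 = N4672 := flp_e L72607
theorem L72609 : sm gd N2903 = N2498 := trfs L72536 L25031 rfl
theorem L72610 : sm gd N2498 = N2903 := flp_d L72609
theorem L72611 : N4528 = N6583 := coi_31_13 L36073 L19826 L10007 L68705 L9003 L43780 L7500 L46910 L6594 L6589 L6536 L53623 L6472 L6467 L13048 L24800
theorem L72612 : N6583 = N4528 := (eqc rfl L72611 rfl).symm
theorem L72613 : sm ga N4528 = N6453 := trfs L72612 L36074 rfl
theorem L72614 : N6453 = N2571 := eqes L72613 L53354
theorem L72615 : N6453 = N2571 := eqc rfl L72614 rfl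
theorem L72617 : sm gf N4528 = N3696 := trfs L72612 L36073 rfl
theorem L72618 : sm gf N3696 = N4528 := flp_f L72617
theorem L72619 : sm gf N2571 = N3596 := trfs L72615 L35295 rfl
theorem L72620 : N3596 = N4717 := eqes L72619 L25843
theorem L72621 : N4717 = N3596 := (eqc rfl L72620 rfl).symm
theorem L72622 : sm gc N3596 = N2575 := trfs L72621 L25845 rfl
theorem L72623 : N2575 = N6451 := eqes L72622 L35290
theorem L72624 : N6451 = N2575 := (eqc rfl L72623 rfl).symm
theorem L72625 : sm ge N3596 = N4715 := trfs L72621 L25847 rfl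
theorem L72626 : N4715 = N6452 := eqes L72625 L35292
theorem L72627 : N6452 = N4715 := (eqc rfl L72626 rfl).symm
theorem L72628 : sm gf N3596 = N2571 := trfs L72621 L25844 rfl
theorem L72629 : sm gf N2571 = N3596 := flp_f L72628
theorem L72630 : sm gg N3596 = N4685 := trfs L72621 L25849 rfl
theorem L72631 : N4685 = N6454 := eqes L72630 L35296
theorem L72632 : N6454 = N4685 := (eqc rfl L72631 rfl).symm
theorem L72633 : sm ga N4685 = N6584 := trfs L72632 L36081 rfl
theorem L72634 : N6584 = N5238 := eqes L72633 L28839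
theorem L72635 : N6584 = N5238 := eqc rfl L72634 rfl
theorem L72636 : sm gg N4685 = N3596 := trfs L72632 L35297 rfl
theorem L72637 : sm gg N3596 = N4685 := flp_g L72636
theorem L72638 : sm gg N5238 = N3696 := trfs L72635 L36079 rfl
theorem L72639 : sm gg N3696 = N5238 := flp_g L72638
theorem L72640 : sm ga N4715 = N6582 := trfs L72627 L36071 rfl
theorem L72641 : sm ga N6582 = N4715 := flp_a L72640
theorem L72642 : sm ge N4715 = N3596 := trfs L72627 L35293 rfl
theorem L72643 : sm ge N3596 = N4715 := flp_e L72642
theorem L72644 : sm ga N2575 = N6581 := trfs L72624 L36067 rfl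
theorem L72645 : N6581 = N4534 := eqes L72644 L65689
theorem L72646 : N6581 = N4534 := eqc rfl L72645 rfl
theorem L72647 : sm gc N2575 = N3596 := trfs L72624 L35291 rfl
theorem L72648 : sm gc N3596 = N2575 := flp_c L72647
theorem L72649 : sm gd N2575 = N5158 := trfs L72624 L57283 rfl
theorem L72650 : N5158 = N4721 := eqes L72649 L25877
theorem L72651 : N5158 = N4721 := eqc rfl L72650 rfl
theorem L72652 : sm gc N4721 = N2877 := trfs L72651 L28436 rfl
theorem L72653 : sm gc N2877 = N4721 := flp_c L72652
theorem L72654 : sm gc N4534 = N3696 := trfs L72646 L36065 rfl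
theorem L72655 : sm gc N3696 = N4534 := flp_c L72654
theorem L72656 : sm gd N4705 = N5224 := ded_31_10 L28773 L28779 L28783 L72603 L16622 L69216 L6549 L3409 L3379 L3405 L3399 L3396 L6774 L13532 L25785
theorem L72657 : sm gd N5224 = N4705 := flp_d L72656
theorem L72659 : sm ga N5857 = N5857 := ded_8_3 L32042 L50238 L32041
theorem L72660 : sm ga N5858 = N5858 := ded_10_3 L32044 L50238 L32043
theorem L72662 : sm gd N5857 = N5857 := ded_30_1 L32042 L17033 L8510 L9443 L67473 L9444 L8511 L17032 L50238 L32041
theorem L72663 : N5669 = N3135 := coi_30_5 L16667 L8310 L4226 L8521 L67148 L67303 L8520 L4225 L8311 L16666 L31133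
theorem L72664 : N5669 = N3135 := eqc rfl L72663 rfl
theorem L72665 : sm gc N3135 = N3135 := trfs L72664 L31134 rfl
theorem L72666 : sm gc N5356 = N5356 := ded_30_0 L29517 L15846 L71170 L10730 L67149 L8520 L4225 L8311 L16666 L29519
theorem L72667 : sm gg N6850 = N5857 := ded_21_2 L32042 L50786 L37700
theorem L72668 : sm gg N5857 = N6850 := flp_g L72667
theorem L72669 : sm gg N6851 = N5858 := ded_26_2 L32044 L50786 L37703
theorem L72670 : sm gg N5858 = N6851 := flp_g L72669
theorem L72671 : sm gc N5170 = N5170 := ded_30_4 L28502 L15327 L7717 L15166 L51814 L15164 L15165 L7718 L15328 L28501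
theorem L72672 : sm gc N5068 = N5068 := ded_30_0 L27916 L14928 L7553 L7668 L51815 L15165 L7718 L15328 L28501 L28503
theorem L72673 : sm ga N5140 = N5136 := ded_10_1 L28339 L28242 L51843
theorem L72674 : sm ga N5136 = N5140 := flp_a L72673
theorem L72677 : sm gd N5148 = N4816 := ded_22_5 L26382 L51868 L15239 L15257 L28375
theorem L72678 : sm gd N4816 = N5148 := flp_d L72677
theorem L72679 : sm gd N5143 = N4827 := ded_24_5 L26427 L51868 L15236 L15227 L28363
theorem L72680 : sm gd N4827 = N5143 := flp_d L72679
theorem L72681 : sm ga N5739 = N5606 := ded_11_1 L30848 L29327 L51890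
theorem L72682 : sm ga N5606 = N5739 := flp_a L72681
theorem L72683 : sm gb N5739 = N4817 := ded_16_1 L26428 L29329 L51890
theorem L72684 : sm gb N4817 = N5739 := flp_b L72683
theorem L72685 : sm gc N5739 = N5328 := ded_20_1 L29335 L29331 L51890
theorem L72686 : sm gc N5328 = N5739 := flp_c L72685
theorem L72687 : N5326 = N5603 := coi_23_2 L30842 L16485 L16490 L72047 L51909 L29320
theorem L72688 : N5603 = N5326 := (eqc rfl L72687 rfl).symm
theorem L72689 : sm gf N5326 = N3100 := trfs L72688 L30842 rfl
theorem L72690 : sm gf N3100 = N5326 := flp_f L72689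
theorem L72691 : sm gg N5340 = N5748 := ded_24_4 L31496 L51929 L15758 L15784 L29406
theorem L72692 : sm gg N5748 = N5340 := flp_g L72691
theorem L72693 : sm gf N6008 = N5288 := ded_28_2 L72419 L30037 L52249 L32733
theorem L72694 : sm gf N5288 = N6008 := flp_f L72693
theorem L72695 : sm ge N6008 = N5294 := ded_26_3 L72363 L52250 L32733
theorem L72696 : sm ge N5294 = N6008 := flp_e L72695
theorem L72697 : sm gc N6008 = N6008 := ded_21_3 L32734 L52255 L32733
theorem L72698 : sm gb N5290 = N6008 := ded_17_3 L32734 L52487 L29085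
theorem L72699 : sm gb N6008 = N5290 := flp_b L72698
theorem L72700 : N5111 = N5251 := coi_31_7 L28900 L28902 L28909 L28410 L28394 L28388 L71689 L53012 L71727 L53051 L53064 L7636 L15128 L15124 L15117 L28187
theorem L72701 : N5251 = N5111 := (eqc rfl L72700 rfl).symm
theorem L72702 : sm gc N5111 = N2926 := trfs L72701 L28900 rfl
theorem L72703 : sm gc N2926 = N5111 := flp_c L72702
theorem L72704 : sm gf N5111 = N2925 := trfs L72701 L28899 rfl
theorem L72705 : sm gf N2925 = N5111 := flp_f L72704
theorem L72706 : N5285 = N4733 := coi_20_2 L25938 L25931 L52541 L29059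
theorem L72707 : N5285 = N4733 := eqc rfl L72706 rfl
theorem L72708 : sm gc N4733 = N2943 := trfs L72707 L29060 rfl
theorem L72709 : sm gc N2943 = N4733 := flp_c L72708
theorem L72710 : sm ga N6008 = N5294 := ded_12_3 L72363 L52595 L32733
theorem L72711 : sm ga N5294 = N6008 := flp_a L72710
theorem L72712 : sm gf N5456 = N5567 := ded_23_4 L30685 L16567 L52643 L71808 L30068
theorem L72713 : sm gf N5567 = N5456 := flp_f L72712
theorem L72714 : sm gf N5561 = N4714 := ded_23_2 L25834 L13551 L13547 L52702 L30663
theorem L72715 : sm gf N4714 = N5561 := flp_f L72714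
theorem L72716 : N5610 = N2925 := coi_11_2 L72705 L28189 L52720 L30876
theorem L72717 : N5610 = N2925 := eqc rfl L72716 rfl
theorem L72718 : sm ga N2925 = N3106 := trfs L72717 L30875 rfl
theorem L72719 : N3106 = N5096 := eqes L72718 L28094
theorem L72720 : N5096 = N3106 := (eqc rfl L72719 rfl).symm
theorem L72721 : sm gb N2925 = N5567 := trfs L72717 L30877 rfl
theorem L72722 : N5567 = N5249 := eqes L72721 L28894
theorem L72723 : N5567 = N5249 := eqc rfl L72722 rfl
theorem L72724 : sm gd N2925 = N3105 := trfs L72717 L30874 rfl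
theorem L72725 : N3105 = N5250 := eqes L72724 L28896
theorem L72726 : N5250 = N3105 := (eqc rfl L72725 rfl).symm
theorem L72727 : sm gd N3105 = N2925 := trfs L72726 L28897 rfl
theorem L72728 : sm gd N2925 = N3105 := flp_d L72727
theorem L72729 : sm gd N5249 = N3080 := trfs L72723 L30685 rfl
theorem L72730 : sm gd N3080 = N5249 := flp_d L72729
theorem L72731 : sm gf N5249 = N5456 := trfs L72723 L72713 rfl
theorem L72732 : sm gf N5456 = N5249 := flp_f L72731
theorem L72733 : sm ga N3106 = N2925 := trfs L72720 L28093 rfl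
theorem L72734 : sm ga N2925 = N3106 := flp_a L72733
theorem L72735 : sm gc N3106 = N2839 := trfs L72720 L28092 rfl
theorem L72736 : N2839 = N5612 := eqes L72735 L30890
theorem L72737 : N5612 = N2839 := (eqc rfl L72736 rfl).symm
theorem L72738 : sm gc N2839 = N3106 := trfs L72737 L30891 rfl
theorem L72739 : sm gc N3106 = N2839 := flp_c L72738
theorem L72740 : sm gf N5613 = N5278 := ded_25_2 L29040 L52720 L30892
theorem L72741 : sm gf N5278 = N5613 := flp_f L72740
theorem L72742 : sm gg N5213 = N5613 := ded_28_3 L30893 L52721 L15608 L28737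
theorem L72743 : sm gg N5613 = N5213 := flp_g L72742
theorem L72744 : sm ge N5615 = N5213 := ded_28_4 L28736 L15609 L52720 L30900
theorem L72745 : sm ge N5213 = N5615 := flp_e L72744
theorem L72746 : sm gf N5218 = N5615 := ded_28_0 L30901 L52721 L15608 L28754
theorem L72747 : sm gf N5615 = N5218 := flp_f L72746
theorem L72748 : sm gc N5093 = N5615 := ded_31_15 L30901 L52721 L15607 L7828 L7834 L7837 L15541 L28870 L28872 L72705 L28188 L15121 L15129 L15134 L28071
theorem L72749 : sm gc N5615 = N5093 := flp_c L72748
theorem L72750 : sm gc N5071 = N5213 := ded_13_0 L52754 L71314 L16524 L72739 L27934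
theorem L72751 : sm gc N5213 = N5071 := flp_c L72750
theorem L72752 : sm ga N5243 = N5615 := ded_29_6 L30902 L71307 L16544 L15765 L52755 L72751 L28412 L28413 L28870
theorem L72753 : sm ga N5615 = N5243 := flp_a L72752
theorem L72754 : sm gc N5668 = N5189 := ded_31_15 L28629 L28594 L28587 L52773 L15785 L15699 L7861 L3917 L2031 L2022 L3949 L7902 L15842 L16665 L31131
theorem L72755 : sm gc N5189 = N5668 := flp_c L72754
theorem L72756 : sm gd N4668 = N5185 := ded_24_3 L28600 L28587 L52829 L25632 L25641
theorem L72757 : sm gd N5185 = N4668 := flp_d L72756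
theorem L72758 : sm gd N5565 = N4710 := ded_23_5 L25812 L52819 L16399 L16390 L30678
theorem L72759 : sm gd N4710 = N5565 := flp_d L72758
theorem L72760 : sm gd N5182 = N4711 := ded_24_5 L25820 L52819 L16557 L65620 L28581
theorem L72761 : sm gd N4711 = N5182 := flp_d L72760
theorem L72762 : sm gf N4711 = N5356 := ded_31_5 L29517 L15846 L7919 L3955 L2145 L2112 L2143 L2136 L2132 L4118 L8201 L16398 L52820 L65661 L25819
theorem L72763 : sm gf N5356 = N4711 := flp_f L72762
theorem L72764 : sm ga N5133 = N6012 := ded_9_3 L32784 L52844 L28325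
theorem L72765 : sm ga N6012 = N5133 := flp_a L72764
theorem L72766 : sm gb N5278 = N5624 := ded_15_3 L30947 L52881 L29039
theorem L72767 : sm gb N5624 = N5278 := flp_b L72766
theorem L72768 : sm gb N5098 = N5217 := ded_13_3 L28753 L28644 L71305 L52881 L72508
theorem L72769 : sm gb N5217 = N5098 := flp_b L72768
theorem L72770 : sm ga N5628 = N5624 := ded_10_1 L30947 L52895 L52888
theorem L72771 : sm ga N5624 = N5628 := flp_a L72770
theorem L72772 : sm gb N5628 = N5218 := ded_15_1 L28755 L28644 L52888
theorem L72773 : sm gb N5218 = N5628 := flp_b L72772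
theorem L72774 : sm gc N5628 = N5624 := ded_19_1 L30947 L71304 L52888
theorem L72775 : sm gc N5624 = N5628 := flp_c L72774
theorem L72776 : sm gd N5628 = N5196 := ded_22_1 L28652 L15402 L15394 L28641 L52888
theorem L72777 : sm gd N5196 = N5628 := flp_d L72776
theorem L72778 : sm gg N5307 = N5623 := ded_24_4 L30942 L52914 L15763 L15687 L29194
theorem L72779 : sm gg N5623 = N5307 := flp_g L72778
theorem L72780 : sm ga N5623 = N5566 := ded_9_3 L30682 L52926 L30941
theorem L72781 : sm ga N5566 = N5623 := flp_a L72780
theorem L72782 : sm gc N5613 = N5097 := ded_29_2 L28097 L15297 L15549 L72734 L16523 L71313 L52929 L52926 L30895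
theorem L72783 : sm gc N5097 = N5613 := flp_c L72782
theorem L72784 : sm ga N5156 = N5613 := ded_29_0 L30894 L71308 L52926 L30895 L72782 L28097 L15297 L15549 L28428
theorem L72785 : sm ga N5613 = N5156 := flp_a L72784
theorem L72786 : sm ge N5336 = N5566 := ded_22_4 L30682 L52928 L15763 L15766 L29378
theorem L72787 : sm ge N5566 = N5336 := flp_e L72786
theorem L72788 : sm gb N5970 = N5170 := ded_14_3 L28502 L52930 L32584
theorem L72789 : sm gb N5170 = N5970 := flp_b L72788
theorem L72790 : sm ga N5970 = N5966 := ded_9_3 L32572 L52936 L32584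
theorem L72791 : sm ga N5966 = N5970 := flp_a L72790
theorem L72792 : sm gf N5461 = N6012 := ded_23_4 L32784 L17356 L52980 L16128 L30108
theorem L72793 : sm gf N6012 = N5461 := flp_f L72792
theorem L72794 : sm gg N5462 = N5970 := ded_24_4 L32583 L17296 L52980 L16134 L30112
theorem L72795 : sm gg N5970 = N5462 := flp_g L72794
theorem L72796 : sm ge N5462 = N5966 := ded_22_4 L32572 L17282 L53006 L16139 L30112
theorem L72797 : sm ge N5966 = N5462 := flp_e L72796
theorem L72798 : sm ge N5170 = N5068 := ded_22_4 L27916 L71730 L53011 L71735 L28501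
theorem L72799 : sm ge N5068 = N5170 := flp_e L72798
theorem L72800 : sm gc N4695 = N4695 := ded_13_4 L25738 L13518 L53210 L13517 L25737
theorem L72801 : sm gb N4699 = N4699 := ded_14_3 L25754 L53221 L25753
theorem L72802 : sm gc N5184 = N5174 := ded_29_2 L28531 L15379 L7755 L6489 L53227 L6721 L13474 L15436 L28596
theorem L72803 : sm gc N5174 = N5184 := flp_c L72802
theorem L72804 : sm ge N5181 = N5174 := ded_29_9 L28531 L15379 L7755 L6489 L53227 L6721 L7754 L15380 L28580
theorem L72805 : sm ge N5174 = N5181 := flp_e L72804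
theorem L72806 : sm ga N5181 = N5184 := ded_29_6 L28595 L15437 L13104 L6489 L53227 L6721 L7754 L15380 L28580
theorem L72807 : sm ga N5184 = N5181 := flp_a L72806
theorem L72808 : sm gc N4668 = N4668 := ded_13_4 L25643 L13477 L53259 L13478 L25644
theorem L72809 : sm ga N5182 = N5185 := ded_29_3 L28601 L15445 L13108 L53259 L13478 L13479 L7760 L15384 L28586
theorem L72810 : sm ga N5185 = N5182 := flp_a L72809
theorem L72811 : sm gc N5185 = N5175 := ded_29_5 L28535 L15383 L7761 L13111 L13108 L53259 L13478 L15444 L28602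
theorem L72812 : sm gc N5175 = N5185 := flp_c L72811
theorem L72813 : sm ge N5175 = N5182 := ded_29_9 L72809 L28601 L15445 L13108 L53259 L13478 L15444 L28602 L72811
theorem L72814 : sm ge N5182 = N5175 := flp_e L72813
theorem L72815 : sm gb N4688 = N4688 := ded_14_3 L25718 L53303 L25717
theorem L72816 : sm gc N4665 = N4665 := ded_13_4 L25708 L25709 L53303 L25710 L25707
theorem L72817 : sm gb N4719 = N4719 := ded_14_3 L25862 L53313 L25861
theorem L72818 : sm gc N4710 = N4710 := ded_13_4 L25815 L13552 L53323 L13553 L25816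
theorem L72819 : sm gc N4711 = N4711 := ded_29_2 L25821 L25643 L13477 L13109 L24813 L65705 L53360 L53354 L25824
theorem L72820 : N4684 = N6582 := coi_25_3 L36069 L72618 L53359 L72427
theorem L72821 : N6582 = N4684 := (eqc rfl L72820 rfl).symm
theorem L72822 : sm ga N4684 = N4715 := trfs L72821 L72641 rfl
theorem L72823 : N4715 = N5212 := eqes L72822 L28733
theorem L72824 : N5212 = N4715 := (eqc rfl L72823 rfl).symm
theorem L72825 : sm ge N4684 = N3696 := trfs L72821 L36069 rfl
theorem L72826 : sm ge N3696 = N4684 := flp_e L72825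
theorem L72827 : sm ga N4715 = N4684 := trfs L72824 L28732 rfl
theorem L72828 : sm ga N4684 = N4715 := flp_a L72827
theorem L72829 : sm gd N4715 = N2905 := trfs L72824 L28731 rfl
theorem L72830 : sm gd N2905 = N4715 := flp_d L72829
theorem L72831 : sm gg N4684 = N4527 := ded_28_1 L24797 L24800 L53359 L72427
theorem L72832 : sm gg N4527 = N4684 := flp_g L72831
theorem L72833 : sm gc N4824 = N4533 := ded_31_11 L24832 L53599 L6528 L3268 L1658 L1651 L68630 L4230 L71500 L68942 L3450 L3452 L6896 L13829 L26408
theorem L72834 : sm gc N4533 = N4824 := flp_c L72833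
theorem L72835 : sm gb N4549 = N4548 := ded_17_1 L24904 L24853 L53509
theorem L72836 : sm gb N4548 = N4549 := flp_b L72835
theorem L72837 : sm gc N4738 = N4738 := ded_13_4 L25959 L13622 L53519 L13623 L25960
theorem L72838 : sm gb N4693 = N4693 := ded_14_3 L25733 L53531 L25734
theorem L72839 : sm gb N4706 = N4706 := ded_14_3 L25790 L53546 L25789
theorem L72840 : sm gc N4702 = N4702 := ded_13_4 L25774 L13530 L53552 L13529 L25773
theorem L72841 : sm gc N4736 = N4736 := ded_8_2 L25946 L53578 L25945
theorem L72842 : sm gc N4725 = N4725 := ded_20_3 L25901 L53578 L25902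
theorem L72843 : sm gc N4684 = N4532 := ded_31_15 L24823 L13055 L6468 L53627 L3278 L3302 L70320 L3393 L3391 L1681 L1674 L3366 L6722 L13491 L25695
theorem L72844 : sm gc N4532 = N4684 := flp_c L72843
theorem L72845 : sm gc N4672 = N4672 := ded_20_3 L25662 L53693 L25661
theorem L72846 : sm gc N4664 = N4664 := ded_8_2 L25625 L53712 L25626
theorem L72847 : sm gc N4667 = N4667 := ded_19_3 L25639 L53712 L25640
theorem L72848 : sm gc N4546 = N4723 := ded_30_6 L25890 L13585 L6763 L68816 L70275 L6543 L13178 L72610 L15459 L24890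
theorem L72849 : sm gc N4723 = N4546 := flp_c L72848
theorem L72850 : sm gd N4700 = N4535 := ded_30_1 L24843 L13063 L70275 L6543 L13178 L72610 L15459 L24890 L24892 L25767
theorem L72851 : sm gd N4535 = N4700 := flp_d L72850
theorem L72852 : sm ga N4700 = N4723 := ded_30_10 L72849 L24891 L15460 L72609 L13179 L6544 L70274 L13062 L24842 L72851
theorem L72853 : sm ga N4723 = N4700 := flp_a L72852
theorem L72854 : sm gg N5647 = N4677 := ded_31_4 L72391 L26395 L13822 L13819 L6894 L3451 L1721 L1726 L69804 L4767 L9696 L57250 L15826 L16628 L31043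
theorem L72855 : sm gg N4677 = N5647 := flp_g L72854
theorem L72856 : sm gf N5182 = N5668 := ded_31_13 L31132 L16660 L8313 L70786 L4290 L4276 L4279 L4165 L4261 L8640 L71981 L7738 L7729 L15369 L28581
theorem L72857 : sm gf N5668 = N5182 := flp_f L72856
theorem L72858 : sm gd N4704 = N4829 := ded_31_10 L64397 L26472 L13849 L6910 L3459 L1727 L69003 L68912 L1683 L3390 L3395 L6766 L13596 L25876 L25873
theorem L72859 : sm gd N4829 = N4704 := flp_d L72858
theorem L72860 : sm gb N5360 = N4758 := ded_15_3 L26043 L61331 L29534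
theorem L72861 : sm gb N4758 = N5360 := flp_b L72860
theorem L72862 : sm gb N5361 = N4759 := ded_16_3 L26046 L61331 L29538
theorem L72863 : sm gb N4759 = N5361 := flp_b L72862
theorem L72864 : sm gb N5362 = N4760 := ded_17_3 L26048 L61331 L29542
theorem L72865 : sm gb N4760 = N5362 := flp_b L72864
theorem L72866 : sm ga N4757 = N5675 := ded_8_3 L31162 L61336 L26040
theorem L72867 : sm ga N5675 = N4757 := flp_a L72866
theorem L72868 : sm ga N4758 = N5676 := ded_10_3 L31164 L61336 L26042
theorem L72869 : sm ga N5676 = N4758 := flp_a L72868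
theorem L72870 : sm ga N4759 = N5677 := ded_11_3 L31168 L61336 L26045
theorem L72871 : sm ga N5677 = N4759 := flp_a L72870
theorem L72872 : sm ga N4760 = N5678 := ded_12_3 L31172 L61336 L26047
theorem L72873 : sm ga N5678 = N4760 := flp_a L72872
theorem L72874 : sm gf N5686 = N5560 := ded_31_5 L30662 L16383 L8196 L4100 L2123 L1067 L1092 L1097 L2148 L4141 L7929 L61342 L8334 L16706 L31213
theorem L72875 : sm gf N5560 = N5686 := flp_f L72874
theorem L72876 : sm gd N5360 = N5360 := ded_9_2 L29536 L61357 L29537
theorem L72877 : sm gd N5676 = N5676 := ded_14_2 L31165 L61357 L31166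
theorem L72878 : N5600 = N4720 := coi_31_11 L25870 L13572 L6768 L3397 L1686 L862 L857 L68913 L2191 L71499 L68971 L6601 L6605 L13292 L16483 L30829
theorem L72879 : N5600 = N4720 := eqc rfl L72878 rfl
theorem L72880 : sm ga N4720 = N4824 := trfs L72879 L30831 rfl
theorem L72881 : sm ga N4824 = N4720 := flp_a L72880
theorem L72882 : sm gb N4720 = N3100 := trfs L72879 L30833 rfl
theorem L72883 : sm gb N3100 = N4720 := flp_b L72882
theorem L72884 : sm gd N4720 = N3099 := trfs L72879 L30830 rfl
theorem L72885 : sm gd N3099 = N4720 := flp_d L72884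
theorem L72886 : sm gd N5304 = N5316 := ded_24_1 L29245 L15707 L15716 L29262 L64174
theorem L72887 : sm gd N5316 = N5304 := flp_d L72886
theorem L72888 : sm gc N4823 = N4827 := ded_13_2 L29329 L29330 L15813 L29471 L64292
theorem L72889 : sm gc N4827 = N4823 := flp_c L72888
theorem L72890 : sm ga N4823 = N4829 := ded_7_1 L26436 L15748 L16477 L16481 L16608 L29469 L64292
theorem L72891 : sm ga N4829 = N4823 := flp_a L72890
theorem L72892 : sm gb N5727 = N5727 := ded_15_3 L31392 L64446 L31391
theorem L72893 : sm gb N5729 = N5729 := ded_17_3 L31404 L64446 L31403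
theorem L72894 : sm gc N5311 = N5311 := ded_13_4 L29220 L16774 L64446 L16775 L29221
theorem L72895 : sm gc N5572 = N5569 := ded_29_2 L30690 L16411 L16427 L16773 L64446 L16775 L29236 L29238 L30710
theorem L72896 : sm gc N5569 = N5572 := flp_c L72895
theorem L72897 : sm ge N5571 = N5569 := ded_29_9 L30690 L16411 L16427 L16773 L64446 L16775 L15708 L16412 L30705
theorem L72898 : sm ge N5569 = N5571 := flp_e L72897
theorem L72899 : sm ga N5571 = N5572 := ded_29_6 L30709 L30747 L30745 L16773 L64446 L16775 L15708 L16412 L30705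
theorem L72900 : sm ga N5572 = N5571 := flp_a L72899
theorem L72901 : sm ga N5578 = N5597 := ded_9_1 L30814 L29305 L64493
theorem L72902 : sm ga N5597 = N5578 := flp_a L72901
theorem L72903 : sm gf N5578 = N5325 := ded_23_2 L29313 L15737 L15730 L29302 L64493
theorem L72904 : sm gf N5325 = N5578 := flp_f L72903
theorem L72905 : sm gf N5727 = N5595 := ded_25_2 L30807 L64516 L31391
theorem L72906 : sm gf N5595 = N5727 := flp_f L72905
theorem L72907 : sm gg N5597 = N5727 := ded_28_3 L31392 L64517 L16476 L30817
theorem L72908 : sm gg N5727 = N5597 := flp_g L72907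
theorem L72909 : sm ge N5729 = N5597 := ded_28_4 L30816 L16475 L64516 L31403
theorem L72910 : sm ge N5597 = N5729 := flp_e L72909
theorem L72911 : sm ga N5598 = N5585 := ded_12_1 L30769 L29243 L64520
theorem L72912 : sm ga N5585 = N5598 := flp_a L72911
theorem L72913 : sm gc N5325 = N5585 := ded_31_7 L30769 L16434 L8216 L4108 L4112 L8237 L16472 L30818 L64521 L29241 L15707 L7869 L7876 L15736 L29312
theorem L72914 : sm gc N5585 = N5325 := flp_c L72913
theorem L72915 : sm gg N5578 = N5579 := ded_28_3 L30745 L64525 L29319 L72904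
theorem L72916 : sm gg N5579 = N5578 := flp_g L72915
theorem L72917 : sm ge N5581 = N5578 := ded_28_4 L72903 L29318 L64524 L30752
theorem L72918 : sm ge N5578 = N5581 := flp_e L72917
theorem L72919 : sm gd N5556 = N5584 := ded_22_5 L30766 L64651 L16376 L16373 L30651
theorem L72920 : sm gd N5584 = N5556 := flp_d L72919
theorem L72921 : sm gd N5589 = N5587 := ded_23_5 L30783 L64651 L16379 L16437 L30790
theorem L72922 : sm gd N5587 = N5589 := flp_d L72921
theorem L72923 : sm gb N5584 = N5571 := ded_15_3 L72897 L64653 L30767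
theorem L72924 : sm gb N5571 = N5584 := flp_b L72923
theorem L72925 : sm gb N5581 = N5579 := ded_13_3 L30746 L30710 L72895 L64653 L30755
theorem L72926 : sm gb N5579 = N5581 := flp_b L72925
theorem L72927 : sm gc N5584 = N5578 := ded_29_8 L72918 L31406 L72893 L31407 L29246 L64654 L72896 L72900 L72924
theorem L72928 : sm gc N5578 = N5584 := flp_c L72927
theorem L72929 : sm gg N5571 = N5572 := ded_21_2 L72895 L64655 L30705
theorem L72930 : sm gg N5572 = N5571 := flp_g L72929
theorem L72931 : sm gc N5602 = N5602 := ded_19_3 L30840 L65036 L30839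
theorem L72933 : sm gb N5326 = N4704 := ded_29_7 L25781 L13534 L13127 L24831 L72834 L72881 L72882 L65036 L29323
theorem L72934 : sm gb N4704 = N5326 := flp_b L72933
theorem L72935 : sm ga N5602 = N4702 := ded_29_0 L25774 L13530 L13127 L24831 L72834 L72881 L72882 L65036 L30839
theorem L72936 : sm ga N4702 = N5602 := flp_a L72935
theorem L72937 : sm gg N5174 = N5668 := ded_28_1 L72857 L28582 L65615 L28529
theorem L72938 : sm gg N5668 = N5174 := flp_g L72937
theorem L72939 : sm gd N5181 = N5630 := ded_23_3 L30976 L16550 L16551 L65620 L28575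
theorem L72940 : sm gd N5630 = N5181 := flp_d L72939
theorem L72941 : sm ge N4702 = N5326 := ded_29_9 L29322 L72883 L25870 L65654 L24830 L24894 L24896 L25773 L72840
theorem L72942 : sm ge N5326 = N4702 := flp_e L72941
theorem L72943 : sm gb N5602 = N4705 := ded_29_7 L25787 L13577 L65654 L24830 L24894 L24896 L25773 L72840 L72936
theorem L72944 : sm gb N4705 = N5602 := flp_b L72943
theorem L72945 : sm gb N4545 = N4544 := ded_15_1 L24881 L24819 L65684
theorem L72946 : sm gb N4544 = N4545 := flp_b L72945
theorem L72947 : sm gb N4721 = N4721 := ded_14_3 L25878 L65691 L25877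
theorem L72948 : sm gb N4687 = N4687 := ded_14_3 L25714 L65710 L25713
theorem L72949 : sm gb N4694 = N4694 := ded_16_3 L25736 L65731 L25735
theorem L72950 : sm gb N4708 = N4708 := ded_15_3 L25800 L65739 L25799
theorem L72951 : sm gb N4701 = N4701 := ded_15_3 L25770 L65740 L25769
theorem L72952 : sm gb N4691 = N4691 := ded_16_3 L25761 L65740 L25762
theorem L72953 : sm gb N4690 = N4690 := ded_15_3 L25724 L65749 L25723
theorem L72954 : sm gc N4722 = N4722 := ded_29_5 L25926 L25927 L13614 L6773 L6518 L13065 L24842 L65779 L25885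
theorem L72955 : sm gc N4728 = N4728 := ded_8_2 L25914 L65785 L25913
theorem L72956 : sm gc N4730 = N4730 := ded_19_3 L25924 L65785 L25923
theorem L72957 : sm gb N5902 = N5105 := ded_15_3 L28142 L65870 L32267
theorem L72958 : sm gb N5105 = N5902 := flp_b L72957
theorem L72959 : sm gb N5904 = N5106 := ded_17_3 L28148 L65870 L32271
theorem L72960 : sm gb N5106 = N5904 := flp_b L72959
theorem L72961 : sm ge N5149 = N4818 := ded_22_4 L26391 L13811 L65950 L17161 L71695
theorem L72962 : sm ge N4818 = N5149 := flp_e L72961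
theorem L72963 : sm gg N5346 = N5463 := ded_12_2 L30118 L66001 L29465
theorem L72964 : sm gg N5463 = N5346 := flp_g L72963
theorem L72965 : sm gg N5640 = N5972 := ded_21_2 L32588 L66001 L31011
theorem L72966 : sm gg N5972 = N5640 := flp_g L72965
theorem L72967 : sm gg N5641 = N5973 := ded_26_2 L32590 L66001 L31015
theorem L72968 : sm gg N5973 = N5641 := flp_g L72967
theorem L72969 : sm gb N4818 = N5740 := ded_14_3 L31456 L66024 L26390
theorem L72970 : sm gb N5740 = N4818 := flp_b L72969
theorem L72971 : sm ga N5748 = N5609 := ded_9_3 L30869 L66065 L31495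
theorem L72972 : sm ga N5609 = N5748 := flp_a L72971
theorem L72973 : N5857 = N5859 := coi_31_13 L32048 L17033 L8510 L67431 L10087 L2681 L1343 L68358 L1342 L2680 L5255 L10741 L10746 L21094 L37700 L72667
theorem L72974 : N5859 = N5857 := (eqc rfl L72973 rfl).symm
theorem L72976 : sm gb N5857 = N3224 := trfs L72974 L32049 rfl
theorem L72977 : sm gb N3224 = N5857 := flp_b L72976
theorem L72979 : sm gf N5857 = N3219 := trfs L72974 L32048 rfl
theorem L72980 : sm gf N3219 = N5857 := flp_f L72979
theorem L72981 : sm ga N5872 = N5870 := ded_10_1 L32103 L29901 L67182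
theorem L72982 : sm ga N5870 = N5872 := flp_a L72981
theorem L72983 : sm gb N6851 = N5426 := ded_17_3 L67188 L32046 L72670
theorem L72984 : sm gb N5426 = N6851 := flp_b L72983
theorem L72985 : sm gd N5427 = N5427 := ded_9_2 L29900 L67258 L29901
theorem L72986 : sm gb N5427 = N6852 := ded_16_3 L37707 L67321 L29898
theorem L72987 : sm gb N6852 = N5427 := flp_b L72986
theorem L72988 : sm gd N5858 = N6851 := ded_22_3 L37704 L21095 L67406 L17032 L32043
theorem L72989 : sm gd N6851 = N5858 := flp_d L72988
theorem L72990 : sm gd N5678 = N4760 := ded_24_3 L26048 L13664 L69237 L16686 L31171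
theorem L72991 : sm gd N4760 = N5678 := flp_d L72990
theorem L72992 : sm gd N5677 = N4759 := ded_23_3 L26046 L13664 L69289 L16686 L31167
theorem L72993 : sm gd N4759 = N5677 := flp_d L72992
theorem L72994 : sm gg N5356 = N4664 := ded_31_8 L25624 L14971 L71762 L16141 L8069 L4022 L2073 L69871 L2161 L4136 L8307 L16658 L16664 L29516 L72666
theorem L72995 : sm gg N4664 = N5356 := flp_g L72994
theorem L72996 : sm gb N5228 = N6044 := ded_15_3 L32932 L72602 L28792
theorem L72997 : sm gb N6044 = N5228 := flp_b L72996
theorem L72998 : sm gb N5226 = N6045 := ded_16_3 L32934 L72602 L28784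
theorem L72999 : sm gb N6045 = N5226 := flp_b L72998
theorem L73000 : N5186 = N6046 := coi_17_0 L32936 L72602 L28707 L28608
theorem L73001 : N6046 = N5186 := (eqc rfl L73000 rfl).symm
theorem L73002 : sm gg N5186 = N3306 := trfs L73001 L32936 rfl
theorem L73003 : sm gg N3306 = N5186 := flp_g L73002
theorem L73004 : sm ga N6043 = N5665 := ded_8_3 L31126 L70702 L32929
theorem L73005 : sm ga N5665 = N6043 := flp_a L73004
theorem L73006 : sm ga N6044 = N5659 := ded_10_3 L31101 L70702 L32931
theorem L73007 : sm ga N5659 = N6044 := flp_a L73006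
theorem L73008 : sm ga N6045 = N5666 := ded_11_3 L31128 L70702 L32933
theorem L73009 : sm ga N5666 = N6045 := flp_a L73008
theorem L73010 : sm ga N5186 = N5667 := ded_12_3 L31130 L70702 L73003
theorem L73011 : sm ga N5667 = N5186 := flp_a L73010
theorem L73012 : sm gd N5352 = N6044 := ded_22_3 L32932 L17422 L70770 L15830 L29498
theorem L73013 : sm gd N6044 = N5352 := flp_d L73012
theorem L73014 : sm gd N5666 = N6045 := ded_23_3 L32934 L17422 L70772 L16656 L31127
theorem L73015 : sm gd N6045 = N5666 := flp_d L73014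
theorem L73016 : sm gc N5591 = N5691 := ded_31_11 L31234 L16711 L8335 L4142 L3964 L71126 L2149 L2119 L2116 L2108 L4097 L8184 L16381 L16446 L30794
theorem L73017 : sm gc N5691 = N5591 := flp_c L73016
theorem L73018 : sm gb N5973 = N5063 := ded_15_3 L27898 L71749 L32589
theorem L73019 : sm gb N5063 = N5973 := flp_b L73018
theorem L73020 : sm gb N5974 = N5064 := ded_16_3 L27900 L71749 L32591
theorem L73021 : sm gb N5064 = N5974 := flp_b L73020
theorem L73022 : N5959 = N5960 := coi_29_9 L32546 L30071 L71790 L72702 L28108 L72768 L28753 L27998 L71787 L32543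
theorem L73023 : N5960 = N5959 := (eqc rfl L73022 rfl).symm
theorem L73024 : sm ge N5959 = N3265 := trfs L73023 L32546 rfl
theorem L73025 : sm ge N3265 = N5959 := flp_e L73024
theorem L73026 : sm gf N5245 = N4671 := ded_28_2 L71829 L41346 L28547 L72493
theorem L73027 : sm gf N4671 = N5245 := flp_f L73026
theorem L73028 : sm gd N5959 = N5662 := ded_22_3 L72584 L27972 L71857 L17260 L73025
theorem L73029 : sm gd N5662 = N5959 := flp_d L73028
theorem L73030 : sm gd N5660 = N5288 := ded_24_3 L72419 L17239 L71884 L27971 L72587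
theorem L73031 : sm gd N5288 = N5660 := flp_d L73030
theorem L73032 : sm ge N6012 = N5596 := ded_22_4 L30812 L72069 L17362 L17358 L32783
theorem L73033 : sm ge N5596 = N6012 := flp_e L73032
theorem L73034 : sm ge N5591 = N5560 := ded_22_4 L30662 L72103 L16448 L16444 L30794
theorem L73035 : sm ge N5560 = N5591 := flp_e L73034
theorem L73036 : sm gb N4677 = N5642 := ded_16_1 L31018 L26397 L72390
theorem L73037 : sm gb N5642 = N4677 := flp_b L73036
theorem L73038 : sm ge N5647 = N5064 := ded_28_4 L27900 L72393 L72390 L72855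
theorem L73039 : sm ge N5064 = N5647 := flp_e L73038
theorem L73040 : sm gf N5063 = N5647 := ded_28_0 L72854 L72391 L72392 L27897
theorem L73041 : sm gf N5647 = N5063 := flp_f L73040
theorem L73042 : sm gc N5100 = N5100 := ded_19_3 L28116 L72399 L28115
theorem L73043 : sm gc N5101 = N5101 := ded_20_3 L28122 L72399 L28121
theorem L73044 : sm gc N5257 = N5257 := ded_19_3 L28924 L72414 L28925
theorem L73045 : sm gc N5258 = N5258 := ded_21_3 L28929 L72414 L28928
theorem L73046 : sm gf N5155 = N5232 := ded_16_2 L28813 L72458 L28424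
theorem L73047 : sm gf N5232 = N5155 := flp_f L73046
theorem L73048 : sm gg N5232 = N5122 := ded_17_2 L28265 L72468 L28812
theorem L73049 : sm gg N5122 = N5232 := flp_g L73048
theorem L73050 : sm gg N5233 = N5115 := ded_24_2 L28216 L15143 L28063 L72468 L28814
theorem L73051 : sm gg N5115 = N5233 := flp_g L73050
theorem L73052 : sm ga N5287 = N5233 := ded_9_1 L28815 L28026 L72474
theorem L73053 : sm ga N5233 = N5287 := flp_a L73052
theorem L73054 : sm gd N5245 = N5175 := ded_14_2 L28851 L72484 L28878
theorem L73055 : sm gd N5175 = N5245 := flp_d L73054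
theorem L73056 : sm ga N5188 = N5245 := ded_12_3 L72492 L28543 L28622
theorem L73057 : sm ga N5245 = N5188 := flp_a L73056
theorem L73058 : sm ga N5217 = N5252 := ded_12_1 L28903 L28108 L72509
theorem L73059 : sm ga N5252 = N5217 := flp_a L73058
theorem L73060 : sm gc N5081 = N5252 := ded_31_7 L28903 L15552 L7812 L7774 L7772 L7765 L15483 L28752 L72510 L28106 L15073 L15007 L15003 L14994 L27995
theorem L73061 : sm gc N5252 = N5081 := flp_c L73060
theorem L73062 : sm ga N5961 = N5249 := ded_9_1 L72729 L29201 L72511
theorem L73063 : sm ga N5249 = N5961 := flp_a L73062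
theorem L73064 : sm gd N4664 = N5354 := ded_9_2 L29510 L72578 L25626
theorem L73065 : sm gd N5354 = N4664 := flp_d L73064
theorem L73066 : sm gb N5662 = N5084 := ded_15_1 L28010 L27974 L72583
theorem L73067 : sm gb N5084 = N5662 := flp_b L73066
theorem L73068 : sm gb N5660 = N5062 := ded_17_1 L41502 L27974 L72587
theorem L73069 : sm gb N5062 = N5660 := flp_b L73068
theorem L73070 : sm gb N5661 = N4678 := ded_15_3 L25684 L72589 L31110
theorem L73071 : sm gb N4678 = N5661 := flp_b L73070
theorem L73072 : sm gg N4678 = N5648 := ded_26_2 L31046 L72597 L25683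
theorem L73073 : sm gg N5648 = N4678 := flp_g L73072
theorem L73074 : sm gg N5084 = N5649 := ded_28_1 L31050 L72597 L25683 L28014
theorem L73075 : sm gg N5649 = N5084 := flp_g L73074
theorem L73076 : sm ge N5062 = N5649 := ded_28_4 L31050 L72597 L15015 L41503
theorem L73077 : sm ge N5649 = N5062 := flp_e L73076
theorem L73078 : sm gf N5648 = N5062 := ded_28_0 L41502 L15014 L72598 L31045
theorem L73079 : sm gf N5062 = N5648 := flp_f L73078
theorem L73080 : sm ga N5648 = N5228 := ded_10_3 L28791 L72599 L31045
theorem L73081 : sm ga N5228 = N5648 := flp_a L73080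
theorem L73082 : sm ga N5649 = N5226 := ded_11_3 L28783 L72599 L31049
theorem L73083 : sm ga N5226 = N5649 := flp_a L73082
theorem L73084 : sm gc N5159 = N4694 := ded_19_3 L25880 L72652 L28437
theorem L73085 : sm gc N4694 = N5159 := flp_c L73084
theorem L73086 : sm gc N5160 = N4693 := ded_20_3 L25882 L72652 L28441
theorem L73087 : sm gc N4693 = N5160 := flp_c L73086
theorem L73088 : sm gc N5072 = N4708 := ded_21_3 L25884 L72652 L27940
theorem L73089 : sm gc N4708 = N5072 := flp_c L73088
theorem L73090 : sm gb N5872 = N6850 := ded_17_3 L72667 L72976 L32109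
theorem L73091 : sm gb N6850 = N5872 := flp_b L73090
theorem L73092 : sm gf N6850 = N6851 := ded_28_2 L72669 L32044 L72980 L72668
theorem L73093 : sm gf N6851 = N6850 := flp_f L73092
theorem L73094 : sm ge N6850 = N6852 := ded_28_4 L37707 L50787 L72980 L72668
theorem L73095 : sm ge N6852 = N6850 := flp_e L73094
theorem L73096 : sm gc N5144 = N5144 := ded_21_3 L28367 L72672 L28368
theorem L73097 : sm gb N5969 = N5969 := ded_13_3 L32580 L41852 L72672 L41851 L32579
theorem L73098 : sm gf N4818 = N5148 := ded_23_0 L72677 L26379 L13805 L13808 L26390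
theorem L73099 : sm gf N5148 = N4818 := flp_f L73098
theorem L73100 : sm gg N4742 = N5148 := ded_24_0 L72677 L26441 L72859 L25783 L25969
theorem L73101 : sm gg N5148 = N4742 := flp_g L73100
theorem L73102 : sm ge N4703 = N5143 := ded_22_0 L72679 L26439 L72859 L25780 L25777
theorem L73103 : sm ge N5143 = N4703 := flp_e L73102
theorem L73104 : sm gf N5602 = N4702 := ded_25_2 L72941 L72689 L30839
theorem L73105 : sm gf N4702 = N5602 := flp_f L73104
theorem L73106 : N5604 = N4725 := coi_28_2 L25901 L25776 L72941 L72689 L30843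
theorem L73107 : N5604 = N4725 := eqc rfl L73106 rfl
theorem L73109 : sm gg N4725 = N3100 := trfs L73107 L30844 rfl
theorem L73110 : sm gg N3100 = N4725 := flp_g L73109
theorem L73111 : sm gg N5326 = N4738 := ded_28_3 L25956 L25902 L73109 L72690
theorem L73112 : sm gg N4738 = N5326 := flp_g L73111
theorem L73113 : sm gg N4736 = N5602 := ded_28_3 L30840 L72690 L73111 L25961
theorem L73114 : sm gg N5602 = N4736 := flp_g L73113
theorem L73115 : sm gb N4714 = N5565 := ded_16_1 L30679 L30666 L72714
theorem L73116 : sm gb N5565 = N4714 := flp_b L73115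
theorem L73117 : sm ge N5631 = N5307 := ded_26_3 L72778 L30943 L30977
theorem L73118 : sm ge N5307 = N5631 := flp_e L73117
theorem L73119 : sm gg N5564 = N5336 := ded_26_0 L72786 L30681 L30676
theorem L73120 : sm gg N5336 = N5564 := flp_g L73119
theorem L73121 : sm gg N5203 = N4714 := ded_24_4 L25834 L25835 L72829 L15477 L28686
theorem L73122 : sm gg N4714 = N5203 := flp_g L73121
theorem L73123 : sm gg N4537 = N4824 := ded_21_0 L72833 L24832 L24848
theorem L73124 : sm gg N4824 = N4537 := flp_g L73123
theorem L73125 : sm gc N5560 = N5692 := ded_20_1 L31238 L31216 L72874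
theorem L73126 : sm gc N5692 = N5560 := flp_c L73125
theorem L73127 : sm gg N5685 = N5591 := ded_28_3 L73034 L72875 L31214 L31209
theorem L73128 : sm gg N5591 = N5685 := flp_g L73127
theorem L73129 : sm gd N5667 = N5174 := ded_24_5 L72937 L31132 L16659 L16656 L31129
theorem L73130 : sm gd N5174 = N5667 := flp_d L73129
theorem L73131 : N5867 = N5864 := coi_13_3 L32078 L17051 L17035 L32041 L72976 L32092
theorem L73132 : N5867 = N5864 := eqc rfl L73131 rfl
theorem L73133 : sm gc N5864 = N3224 := trfs L73132 L32091 rfl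
theorem L73134 : sm gc N3224 = N5864 := flp_c L73133
theorem L73135 : sm gf N5864 = N3222 := trfs L73132 L32090 rfl
theorem L73136 : sm gf N3222 = N5864 := flp_f L73135
theorem L73137 : sm gc N6852 = N6851 := ded_29_8 L37704 L21096 L67321 L29890 L29892 L32077 L73133 L29901 L72986
theorem L73138 : sm gc N6851 = N6852 := flp_c L73137
theorem L73139 : sm gf N6044 = N5197 := ded_16_2 L28657 L28789 L72996
theorem L73140 : sm gf N5197 = N6044 := flp_f L73139
theorem L73141 : sm ge N6045 = N5197 := ded_15_2 L28657 L28782 L72998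
theorem L73142 : sm ge N5197 = N6045 := flp_e L73141
theorem L73143 : sm gg N6045 = N5196 := ded_17_2 L28653 L28779 L72998
theorem L73144 : sm gg N5196 = N6045 := flp_g L73143
theorem L73145 : sm gf N5667 = N5176 := ded_11_2 L28539 L28610 L73010
theorem L73146 : sm gf N5176 = N5667 := flp_f L73145
theorem L73147 : sm gc N5064 = N5648 := ded_19_1 L31046 L31043 L73038
theorem L73148 : sm gc N5648 = N5064 := flp_c L73147
theorem L73149 : sm gc N5649 = N5063 := ded_20_3 L73040 L31044 L31049
theorem L73150 : sm gc N5063 = N5649 := flp_c L73149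
theorem L73151 : sm ga N5155 = N5232 := ded_12_3 L73048 L28263 L28421
theorem L73152 : sm ga N5232 = N5155 := flp_a L73151
theorem L73153 : sm gf N4692 = N5159 := ded_20_0 L73084 L25736 L25729
theorem L73154 : sm gf N5159 = N4692 := flp_f L73153
theorem L73155 : sm gg N4707 = N5159 := ded_21_0 L73084 L25766 L25797
theorem L73156 : sm gg N5159 = N4707 := flp_g L73155
theorem L73157 : sm ge N4692 = N5160 := ded_19_0 L73086 L25732 L25729
theorem L73158 : sm ge N5160 = N4692 := flp_e L73157
theorem L73159 : sm ge N4707 = N5072 := ded_19_0 L73088 L25800 L25797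
theorem L73160 : sm ge N5072 = N4707 := flp_e L73159
theorem L73161 : sm ge N5139 = N4742 := ded_26_3 L73100 L28376 L28352
theorem L73162 : sm ge N4742 = N5139 := flp_e L73161
theorem L73163 : sm gg N5134 = N4703 := ded_26_0 L73102 L28364 L28332
theorem L73164 : sm gg N4703 = N5134 := flp_g L73163
theorem L73165 : sm ga N5564 = N5631 := ded_10_3 L73117 L29196 L30676
theorem L73166 : sm ga N5631 = N5564 := flp_a L73165
theorem L73167 : sm gd N5590 = N5685 := ded_24_5 L73127 L30795 L16440 L16437 L30792
theorem L73168 : sm gd N5685 = N5590 := flp_d L73167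
theorem L73169 : sm gb N5257 = N4692 := ded_16_3 L73153 L28439 L28922
theorem L73170 : sm gb N4692 = N5257 := flp_b L73169
theorem L73171 : sm gd N5257 = N4692 := ded_23_5 L73153 L28458 L28455 L15565 L28922
theorem L73172 : sm gd N4692 = N5257 := flp_d L73171
theorem L73173 : sm gb N5100 = N4707 := ded_17_3 L73155 L28439 L28120
theorem L73174 : sm gb N4707 = N5100 := flp_b L73173
theorem L73175 : sm gd N5902 = N4707 := ded_22_5 L73159 L27936 L71717 L17134 L32267
theorem L73176 : sm gd N4707 = N5902 := flp_d L73175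
theorem L73177 : N4739 = N2864 := coi_22_5 L28349 L73161 L25970 L13621 L13618 L25963
theorem L73178 : N4739 = N2864 := eqc rfl L73177 rfl
theorem L73179 : sm ge N2864 = N2584 := trfs L73178 L25964 rfl
theorem L73180 : N2584 = N5136 := eqes L73179 L28340
theorem L73181 : N5136 = N2584 := (eqc rfl L73180 rfl).symm
theorem L73182 : sm ga N2584 = N5140 := trfs L73181 L72674 rfl
theorem L73183 : N5140 = N4566 := eqes L73182 L25015
theorem L73184 : N5140 = N4566 := eqc rfl L73183 rfl
theorem L73186 : sm ge N2584 = N2864 := trfs L73181 L28339 rfl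
theorem L73187 : sm ge N2864 = N2584 := flp_e L73186
theorem L73188 : sm gf N2584 = N5119 := trfs L73181 L51846 rfl
theorem L73189 : N5119 = N4740 := eqes L73188 L25965
theorem L73190 : N5119 = N4740 := eqc rfl L73189 rfl
theorem L73191 : sm gg N2584 = N2862 := trfs L73181 L28338 rfl
theorem L73192 : N2862 = N4741 := eqes L73191 L25967
theorem L73193 : N4741 = N2862 := (eqc rfl L73192 rfl).symm
theorem L73194 : sm gg N2862 = N2584 := trfs L73193 L25968 rfl
theorem L73195 : sm gg N2584 = N2862 := flp_g L73194
theorem L73196 : sm ga N4740 = N2864 := trfs L73190 L28241 rfl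
theorem L73197 : sm ga N2864 = N4740 := flp_a L73196
theorem L73198 : sm gc N4740 = N2864 := trfs L73190 L28243 rfl
theorem L73199 : sm gc N2864 = N4740 := flp_c L73198
theorem L73200 : sm ge N4740 = N4566 := trfs L73190 L51843 L73184
theorem L73201 : sm ge N4566 = N4740 := flp_e L73200
theorem L73202 : sm gg N4740 = N2852 := trfs L73190 L28240 rfl
theorem L73203 : sm gg N2852 = N4740 := flp_g L73202
theorem L73204 : sm gf N4566 = N2864 := trfs L73184 L28354 rfl
theorem L73205 : sm gf N2864 = N4566 := flp_f L73204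
theorem L73206 : sm gg N4566 = N5117 := trfs L73184 L51850 rfl
theorem L73207 : sm gg N5117 = N4566 := flp_g L73206
theorem L73208 : sm ge N5129 = N4737 := ded_15_2 L25953 L73186 L28302
theorem L73209 : sm ge N4737 = N5129 := flp_e L73208
theorem L73210 : sm gg N4737 = N5127 := ded_17_2 L28293 L73194 L25954
theorem L73211 : sm gg N5127 = N4737 := flp_g L73210
theorem L73212 : sm gd N4527 = N7179 := rfl
theorem L73213 : sm gd N7179 = N4527 := flp_d L73212
theorem L73214 : sm ga N7179 = N4714 := ded_9_1 L25834 L65670 L73212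
theorem L73215 : sm ga N4714 = N7179 := flp_a L73214
theorem L73216 : sm gb N7179 = N5630 := ded_14_1 L72940 L28577 L73212
theorem L73217 : sm gb N5630 = N7179 := flp_b L73216
theorem L73218 : sm gf N7179 = N5616 := ded_23_2 L30905 L52712 L65665 L24796 L73212
theorem L73219 : sm gf N5616 = N7179 := flp_f L73218
theorem L73220 : sm gg N7179 = N4675 := ded_24_2 L25678 L13498 L25695 L72831 L73212
theorem L73221 : sm gg N4675 = N7179 := flp_g L73220
theorem L73222 : sm gd N4529 = N7180 := rfl
theorem L73223 : sm gd N7180 = N4529 := flp_d L73222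
theorem L73224 : sm ga N7180 = N4687 := ded_9_1 L25714 L65708 L73222
theorem L73225 : sm ga N4687 = N7180 := flp_a L73224
theorem L73226 : sm gb N7180 = N4541 := ded_14_1 L24867 L24807 L73222
theorem L73227 : sm gb N4541 = N7180 := flp_b L73226
theorem L73228 : sm gf N7180 = N4541 := ded_23_2 L24867 L13101 L65725 L24804 L73222
theorem L73229 : sm gf N4541 = N7180 := flp_f L73228
theorem L73230 : sm gd N4530 = N7181 := rfl
theorem L73231 : sm gd N7181 = N4530 := flp_d L73230
theorem L73232 : sm ga N7181 = N4688 := ded_9_1 L25718 L65703 L73230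
theorem L73233 : sm ga N4688 = N7181 := flp_a L73232
theorem L73234 : sm gb N7181 = N4542 := ded_14_1 L24871 L24813 L73230
theorem L73235 : sm gb N4542 = N7181 := flp_b L73234
theorem L73236 : sm gg N7181 = N4542 := ded_24_2 L24871 L13107 L65725 L24810 L73230
theorem L73237 : sm gg N4542 = N7181 := flp_g L73236
theorem L73238 : sm gc N4531 = N7182 := rfl
theorem L73239 : sm gc N7182 = N4531 := flp_c L73238
theorem L73240 : sm ga N7182 = N4718 := ded_8_1 L25852 L65845 L73238
theorem L73241 : sm ga N4718 = N7182 := flp_a L73240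
theorem L73242 : sm gf N7182 = N4535 := ded_20_2 L24843 L24821 L73238
theorem L73243 : sm gf N4535 = N7182 := flp_f L73242
theorem L73244 : sm gd N4532 = N7183 := rfl
theorem L73245 : sm gd N7183 = N4532 := flp_d L73244
theorem L73246 : sm ga N7183 = N4719 := ded_9_1 L25862 L65695 L73244
theorem L73247 : sm ga N4719 = N7183 := flp_a L73246
theorem L73248 : sm gb N7183 = N4546 := ded_14_1 L24891 L24825 L73244
theorem L73249 : sm gb N4546 = N7183 := flp_b L73248
theorem L73250 : sm gd N4534 = N7184 := rfl
theorem L73251 : sm gd N7184 = N4534 := flp_d L73250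
theorem L73252 : sm ga N7184 = N4721 := ded_9_1 L25878 L65689 L73250
theorem L73253 : sm ga N4721 = N7184 := flp_a L73252
theorem L73254 : sm gb N7184 = N4550 := ded_14_1 L24911 L24837 L73250
theorem L73255 : sm gb N4550 = N7184 := flp_b L73254
theorem L73256 : sm gc N5123 = N7184 := ded_30_0 L73251 L72654 L19826 L10007 L4901 L4246 L8568 L71955 L15301 L28272
theorem L73257 : sm gc N7184 = N5123 := flp_c L73256
theorem L73258 : sm gc N5114 = N5283 := ded_29_8 L29054 L28212 L28274 L73256 L73252 L72947 L72652 L28272 L28273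
theorem L73259 : sm gc N5283 = N5114 := flp_c L73258
theorem L73260 : sm ga N5283 = N5282 := ded_8_1 L29052 L28212 L73258
theorem L73261 : sm ga N5282 = N5283 := flp_a L73260
theorem L73262 : sm ge N5282 = N5114 := ded_19_0 L73258 L29054 L29051
theorem L73263 : sm ge N5114 = N5282 := flp_e L73262
theorem L73264 : sm gg N5283 = N5282 := ded_21_2 L29052 L28214 L73258
theorem L73265 : sm gg N5282 = N5283 := flp_g L73264
theorem L73266 : sm gc N5286 = N5260 := ded_30_8 L28939 L28140 L28138 L15101 L71874 L16103 L42079 L28209 L73258 L29064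
theorem L73267 : sm gc N5260 = N5286 := flp_c L73266
theorem L73268 : sm ge N5260 = N4733 := ded_19_2 L72708 L29061 L73266
theorem L73269 : sm ge N4733 = N5260 := flp_e L73268
theorem L73270 : sm gf N4732 = N5260 := ded_25_0 L73268 L25938 L25935
theorem L73271 : sm gf N5260 = N4732 := flp_f L73270
theorem L73272 : sm gb N4535 = N7185 := rfl
theorem L73273 : sm gb N7185 = N4535 := flp_b L73272
theorem L73274 : sm gg N7185 = N4562 := ded_17_2 L24999 L65787 L73272
theorem L73275 : sm gg N4562 = N7185 := flp_g L73274
theorem L73276 : sm gc N7185 = N4562 := ded_13_2 L24999 L13163 L13065 L24842 L73272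
theorem L73277 : sm gc N4562 = N7185 := flp_c L73276
theorem L73278 : sm ge N4535 = N7186 := rfl
theorem L73279 : sm ge N7186 = N4535 := flp_e L73278
theorem L73280 : sm ga N7186 = N4724 := ded_10_1 L25892 L65780 L73278
theorem L73281 : sm ga N4724 = N7186 := flp_a L73280
theorem L73282 : sm gc N7186 = N4536 := ded_19_1 L24845 L24842 L73278
theorem L73283 : sm gc N4536 = N7186 := flp_c L73282
theorem L73284 : sm gg N7186 = N4564 := ded_26_2 L25005 L65787 L73278
theorem L73285 : sm gg N4564 = N7186 := flp_g L73284
theorem L73286 : sm gb N4537 = N7187 := rfl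
theorem L73287 : sm gb N7187 = N4537 := flp_b L73286
theorem L73288 : sm gf N7187 = N4565 := ded_16_2 L25011 L53596 L73286
theorem L73289 : sm gf N4565 = N7187 := flp_f L73288
theorem L73290 : sm gg N7187 = N5644 := ded_17_2 L31023 L73124 L73286
theorem L73291 : sm gg N5644 = N7187 := flp_g L73290
theorem L73292 : sm gc N7187 = N4565 := ded_13_2 L25011 L13171 L13079 L24848 L73286
theorem L73293 : sm gc N4565 = N7187 := flp_c L73292
theorem L73294 : sm gd N4537 = N7188 := rfl
theorem L73295 : sm gd N7188 = N4537 := flp_d L73294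
theorem L73296 : sm ga N7188 = N4726 := ded_9_1 L25904 L53594 L73294
theorem L73297 : sm ga N4726 = N7188 := flp_a L73296
theorem L73298 : sm gf N7188 = N5139 := ded_23_2 L28350 L73205 L25013 L53596 L73294
theorem L73299 : sm gf N5139 = N7188 := flp_f L73298
theorem L73300 : sm gg N7188 = N4818 := ded_24_2 L26391 L13835 L26408 L73124 L73294
theorem L73301 : sm gg N4818 = N7188 := flp_g L73300
theorem L73302 : sm ge N4537 = N7189 := rfl
theorem L73303 : sm ge N7189 = N4537 := flp_e L73302
theorem L73304 : sm ga N7189 = N4727 := ded_10_1 L25906 L53594 L73302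
theorem L73305 : sm ga N4727 = N7189 := flp_a L73304
theorem L73306 : sm gc N7189 = N4538 := ded_19_1 L24851 L24848 L73302
theorem L73307 : sm gc N4538 = N7189 := flp_c L73306
theorem L73308 : sm gf N7189 = N4567 := ded_25_2 L25019 L53596 L73302
theorem L73309 : sm gf N4567 = N7189 := flp_f L73308
theorem L73310 : sm gc N4541 = N7190 := rfl
theorem L73311 : sm gc N7190 = N4541 := flp_c L73310
theorem L73312 : sm ga N7190 = N4689 := ded_8_1 L25722 L24869 L73310
theorem L73313 : sm ga N4689 = N7190 := flp_a L73312
theorem L73314 : sm gg N7190 = N4735 := ded_31_4 L25943 L25890 L13585 L6764 L6741 L6739 L6721 L13483 L13488 L72501 L15445 L13107 L13100 L24866 L73310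
theorem L73315 : sm gg N4735 = N7190 := flp_g L73314
theorem L73316 : sm ge N4541 = N7191 := rfl
theorem L73317 : sm ge N7191 = N4541 := flp_e L73316
theorem L73318 : sm ga N7191 = N4690 := ded_10_1 L25724 L24869 L73316
theorem L73319 : sm ga N4690 = N7191 := flp_a L73318
theorem L73320 : sm gd N7191 = N4544 := ded_22_1 L24881 L13113 L13105 L24866 L73316
theorem L73321 : sm gd N4544 = N7191 := flp_d L73320
theorem L73322 : sm gg N7183 = N7191 := ded_12_0 L73318 L25866 L73247
theorem L73323 : sm gg N7191 = N7183 := flp_g L73322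
theorem L73324 : sm gg N4541 = N7192 := rfl
theorem L73325 : sm gg N7192 = N4541 := flp_g L73324
theorem L73326 : sm ga N7192 = N4691 := ded_12_1 L25728 L24869 L73324
theorem L73327 : sm ga N4691 = N7192 := flp_a L73326
theorem L73328 : sm gc N7192 = N4735 := ded_21_1 L73315 L73311 L73324
theorem L73329 : sm gc N4735 = N7192 := flp_c L73328
theorem L73330 : sm ge N7192 = N7183 := ded_26_1 L73322 L73317 L73324
theorem L73331 : sm ge N7183 = N7192 := flp_e L73330
theorem L73332 : sm gf N4546 = N7192 := ded_11_0 L73326 L25761 L24893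
theorem L73333 : sm gf N7192 = N4546 := flp_f L73332
theorem L73334 : sm gc N4542 = N7193 := rfl
theorem L73335 : sm gc N7193 = N4542 := flp_c L73334
theorem L73336 : sm ga N7193 = N4692 := ded_8_1 L25730 L24873 L73334
theorem L73337 : sm ga N4692 = N7193 := flp_a L73336
theorem L73338 : sm gd N7193 = N5258 := ded_30_9 L28930 L73044 L73171 L25730 L13516 L13478 L72501 L15445 L24870 L73334
theorem L73339 : sm gd N5258 = N7193 := flp_d L73338
theorem L73340 : sm ge N4542 = N7194 := rfl
theorem L73341 : sm ge N7194 = N4542 := flp_e L73340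
theorem L73342 : sm ga N7194 = N4693 := ded_10_1 L25732 L24873 L73340
theorem L73343 : sm ga N4693 = N7194 := flp_a L73342
theorem L73344 : sm gd N7194 = N4548 := ded_22_1 L24901 L13125 L13111 L24870 L73340
theorem L73345 : sm gd N4548 = N7194 := flp_d L73344
theorem L73346 : sm gf N7184 = N7194 := ded_11_0 L73342 L25882 L73253
theorem L73347 : sm gf N7194 = N7184 := flp_f L73346
theorem L73348 : sm gf N4542 = N7195 := rfl
theorem L73349 : sm gf N7195 = N4542 := flp_f L73348
theorem L73350 : sm ga N7195 = N4694 := ded_11_1 L25736 L24873 L73348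
theorem L73351 : sm ga N4694 = N7195 := flp_a L73350
theorem L73352 : sm ge N7195 = N7184 := ded_25_1 L73346 L73341 L73348
theorem L73353 : sm ge N7184 = N7195 := flp_e L73352
theorem L73354 : sm gd N7195 = N7192 := ded_23_1 L73333 L24891 L13123 L24870 L73348
theorem L73355 : sm gd N7192 = N7195 := flp_d L73354
theorem L73356 : sm gg N4550 = N7195 := ded_12_0 L73350 L25766 L24913
theorem L73357 : sm gg N7195 = N4550 := flp_g L73356
theorem L73358 : sm gb N4543 = N7196 := rfl
theorem L73359 : sm gb N7196 = N4543 := flp_b L73358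
theorem L73360 : sm gf N7196 = N4562 := ded_16_2 L24999 L24879 L73358
theorem L73361 : sm gf N4562 = N7196 := flp_f L73360
theorem L73362 : sm gd N4543 = N7197 := rfl
theorem L73363 : sm gd N7197 = N4543 := flp_d L73362
theorem L73364 : sm ga N7197 = N4696 := ded_9_1 L25742 L24877 L73362
theorem L73365 : sm ga N4696 = N7197 := flp_a L73364
theorem L73366 : sm ge N4543 = N7198 := rfl
theorem L73367 : sm ge N7198 = N4543 := flp_e L73366
theorem L73368 : sm ga N7198 = N4697 := ded_10_1 L25744 L24877 L73366
theorem L73369 : sm ga N4697 = N7198 := flp_a L73368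
theorem L73370 : sm gc N7198 = N4544 := ded_19_1 L24881 L24874 L73366
theorem L73371 : sm gc N4544 = N7198 := flp_c L73370
theorem L73372 : sm gf N7198 = N4564 := ded_25_2 L25005 L24879 L73366
theorem L73373 : sm gf N4564 = N7198 := flp_f L73372
theorem L73374 : sm gg N7182 = N7198 := ded_28_3 L73367 L24878 L65787 L73243
theorem L73375 : sm gg N7198 = N7182 := flp_g L73374
theorem L73376 : sm gd N7182 = N7198 := ded_9_0 L73368 L25860 L73241
theorem L73377 : sm gd N7198 = N7182 := flp_d L73376
theorem L73378 : sm gg N4543 = N7199 := rfl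
theorem L73379 : sm gg N7199 = N4543 := flp_g L73378
theorem L73380 : sm ga N7199 = N4698 := ded_12_1 L25750 L24877 L73378
theorem L73381 : sm ga N4698 = N7199 := flp_a L73380
theorem L73382 : sm gc N7199 = N4545 := ded_21_1 L24887 L24874 L73378
theorem L73383 : sm gc N4545 = N7199 := flp_c L73382
theorem L73384 : sm ge N7199 = N7182 := ded_26_1 L73374 L73367 L73378
theorem L73385 : sm ge N7182 = N7199 := flp_e L73384
theorem L73386 : sm gf N7186 = N7199 := ded_28_0 L73379 L24878 L65787 L73278
theorem L73387 : sm gf N7199 = N7186 := flp_f L73386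
theorem L73388 : sm gd N4545 = N7200 := rfl
theorem L73389 : sm gd N7200 = N4545 := flp_d L73388
theorem L73390 : sm ga N7200 = N4699 := ded_9_1 L25754 L24889 L73388
theorem L73391 : sm ga N4699 = N7200 := flp_a L73390
theorem L73392 : sm gb N7200 = N7191 := ded_14_1 L73320 L72946 L73388
theorem L73393 : sm gb N7191 = N7200 := flp_b L73392
theorem L73394 : sm ge N7200 = N7180 := ded_22_2 L73223 L24808 L24816 L65684 L73388
theorem L73395 : sm ge N7180 = N7200 := flp_e L73394
theorem L73396 : sm gf N7200 = N7191 := ded_23_2 L73320 L24884 L65806 L65808 L73388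
theorem L73397 : sm gf N7191 = N7200 := flp_f L73396
theorem L73398 : sm gg N7200 = N4546 := ded_24_2 L24891 L13119 L13112 L24886 L73388
theorem L73399 : sm gg N4546 = N7200 := flp_g L73398
theorem L73400 : sm ge N4546 = N7201 := rfl
theorem L73401 : sm ge N7201 = N4546 := flp_e L73400
theorem L73402 : sm ga N7201 = N4701 := ded_10_1 L25770 L24893 L73400
theorem L73403 : sm ga N4701 = N7201 := flp_a L73402
theorem L73404 : sm gb N7201 = N7192 := ded_15_1 L73330 L73248 L73400
theorem L73405 : sm gb N7192 = N7201 := flp_b L73404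
theorem L73406 : sm gf N7201 = N7183 := ded_25_2 L73331 L73333 L73400
theorem L73407 : sm gf N7183 = N7201 := flp_f L73406
theorem L73408 : sm gg N7201 = N7180 := ded_26_2 L73395 L73398 L73400
theorem L73409 : sm gg N7180 = N7201 := flp_g L73408
theorem L73410 : sm gb N4547 = N7202 := rfl
theorem L73411 : sm gb N7202 = N4547 := flp_b L73410
theorem L73412 : sm gg N7202 = N4565 := ded_17_2 L25011 L24899 L73410
theorem L73413 : sm gg N4565 = N7202 := flp_g L73412
theorem L73414 : sm gc N7202 = N5644 := ded_13_2 L31023 L72833 L24830 L24894 L73410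
theorem L73415 : sm gc N5644 = N7202 := flp_c L73414
theorem L73416 : sm gd N4547 = N7203 := rfl
theorem L73417 : sm gd N7203 = N4547 := flp_d L73416
theorem L73418 : sm ga N7203 = N4703 := ded_9_1 L25778 L24897 L73416
theorem L73419 : sm ga N4703 = N7203 := flp_a L73418
theorem L73420 : sm gc N7203 = N5240 := ded_30_8 L28859 L28042 L28045 L28063 L72466 L15464 L7761 L13124 L24894 L73416
theorem L73421 : sm gc N5240 = N7203 := flp_c L73420
theorem L73422 : sm ge N4547 = N7204 := rfl
theorem L73423 : sm ge N7204 = N4547 := flp_e L73422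
theorem L73424 : sm ga N7204 = N4704 := ded_10_1 L25780 L24897 L73422
theorem L73425 : sm ga N4704 = N7204 := flp_a L73424
theorem L73426 : sm gc N7204 = N4548 := ded_19_1 L24901 L24894 L73422
theorem L73427 : sm gc N4548 = N7204 := flp_c L73426
theorem L73428 : sm gg N7204 = N4567 := ded_26_2 L25019 L24899 L73422
theorem L73429 : sm gg N4567 = N7204 := flp_g L73428
theorem L73430 : sm gf N7204 = N4824 := ded_28_0 L73124 L53595 L24899 L73422
theorem L73431 : sm gf N4824 = N7204 := flp_f L73430
theorem L73432 : sm gd N4823 = N7204 := ded_9_0 L73424 L72858 L72891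
theorem L73433 : sm gd N7204 = N4823 := flp_d L73432
theorem L73434 : sm gf N4547 = N7205 := rfl
theorem L73435 : sm gf N7205 = N4547 := flp_f L73434
theorem L73436 : sm ga N7205 = N4705 := ded_11_1 L25786 L24897 L73434
theorem L73437 : sm ga N4705 = N7205 := flp_a L73436
theorem L73438 : sm gc N7205 = N4549 := ded_20_1 L24907 L24894 L73434
theorem L73439 : sm gc N4549 = N7205 := flp_c L73438
theorem L73440 : sm ge N7205 = N4824 := ded_25_1 L73431 L73423 L73434
theorem L73441 : sm ge N4824 = N7205 := flp_e L73440
theorem L73442 : sm gg N7205 = N7189 := ded_28_3 L73303 L53595 L24899 L73434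
theorem L73443 : sm gg N7189 = N7205 := flp_g L73442
theorem L73444 : sm gd N4549 = N7206 := rfl
theorem L73445 : sm gd N7206 = N4549 := flp_d L73444
theorem L73446 : sm ga N7206 = N4706 := ded_9_1 L25790 L24909 L73444
theorem L73447 : sm ga N4706 = N7206 := flp_a L73446
theorem L73448 : sm gb N7206 = N7194 := ded_14_1 L73344 L72836 L73444
theorem L73449 : sm gb N7194 = N7206 := flp_b L73448
theorem L73450 : sm ge N7206 = N7181 := ded_22_2 L73231 L24814 L24828 L65655 L73444
theorem L73451 : sm ge N7181 = N7206 := flp_e L73450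
theorem L73452 : sm gf N7206 = N4550 := ded_23_2 L24911 L13131 L13124 L24906 L73444
theorem L73453 : sm gf N4550 = N7206 := flp_f L73452
theorem L73454 : sm gg N7206 = N7194 := ded_24_2 L73344 L24904 L53514 L53509 L73444
theorem L73455 : sm gg N7194 = N7206 := flp_g L73454
theorem L73456 : sm gc N4550 = N7207 := rfl
theorem L73457 : sm gc N7207 = N4550 := flp_c L73456
theorem L73458 : sm ga N7207 = N4707 := ded_8_1 L25798 L24913 L73456
theorem L73459 : sm ga N4707 = N7207 := flp_a L73458
theorem L73460 : sm gb N7207 = N5283 := ded_13_1 L73259 L28274 L73256 L73254 L73456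
theorem L73461 : sm gb N5283 = N7207 := flp_b L73460
theorem L73462 : sm ge N7207 = N5171 := ded_29_9 L28507 L27937 L72399 L15078 L15304 L72653 L73253 L73254 L73456
theorem L73463 : sm ge N5171 = N7207 := flp_e L73462
theorem L73464 : sm ge N4550 = N7208 := rfl
theorem L73465 : sm ge N7208 = N4550 := flp_e L73464
theorem L73466 : sm ga N7208 = N4708 := ded_10_1 L25800 L24913 L73464
theorem L73467 : sm ga N4708 = N7208 := flp_a L73466
theorem L73468 : sm gb N7208 = N7195 := ded_15_1 L73352 L73254 L73464
theorem L73469 : sm gb N7195 = N7208 := flp_b L73468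
theorem L73470 : sm gc N7208 = N5171 := ded_19_1 L73463 L73457 L73464
theorem L73471 : sm gc N5171 = N7208 := flp_c L73470
theorem L73472 : sm gf N7208 = N7181 := ded_25_2 L73451 L73452 L73464
theorem L73473 : sm gf N7181 = N7208 := flp_f L73472
theorem L73474 : sm gg N7208 = N7184 := ded_26_2 L73353 L73357 L73464
theorem L73475 : sm gg N7184 = N7208 := flp_g L73474
theorem L73476 : sm gd N7208 = N7201 := ded_22_1 L73401 L24891 L13135 L24910 L73464
theorem L73477 : sm gd N7201 = N7208 := flp_d L73476
theorem L73478 : sm ga N4562 = N7209 := rfl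
theorem L73479 : sm ga N7209 = N4562 := flp_a L73478
theorem L73480 : sm gb N7209 = N7186 := ded_7_2 L73280 L25916 L25914 L13609 L13165 L24998 L73478
theorem L73481 : sm gb N7186 = N7209 := flp_b L73480
theorem L73482 : sm ge N7185 = N7209 := ded_29_9 L73479 L24999 L13163 L6517 L53195 L6770 L13165 L24998 L73277
theorem L73483 : sm ge N7209 = N7185 := flp_e L73482
theorem L73484 : sm gd N4562 = N7210 := rfl
theorem L73485 : sm gd N7210 = N4562 := flp_d L73484
theorem L73486 : sm gb N7210 = N4563 := ded_14_1 L25001 L24998 L73484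
theorem L73487 : sm gb N4563 = N7210 := flp_b L73486
theorem L73488 : sm ge N4562 = N7211 := rfl
theorem L73489 : sm ge N7211 = N4562 := flp_e L73488
theorem L73490 : sm ga N7211 = N7185 := ded_10_1 L73482 L73479 L73488
theorem L73491 : sm ga N7185 = N7211 := flp_a L73490
theorem L73492 : sm gb N7211 = N4564 := ded_15_1 L25005 L24998 L73488
theorem L73493 : sm gb N4564 = N7211 := flp_b L73492
theorem L73494 : sm gc N7211 = N7209 := ded_19_1 L73483 L73276 L73488
theorem L73495 : sm gc N7209 = N7211 := flp_c L73494
theorem L73496 : sm gg N7211 = N7209 := ded_26_2 L73483 L73274 L73488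
theorem L73497 : sm gg N7209 = N7211 := flp_g L73496
theorem L73498 : sm ge N4563 = N7212 := rfl
theorem L73499 : sm ge N7212 = N4563 := flp_e L73498
theorem L73500 : sm ga N7212 = N4732 := ded_10_1 L25936 L25003 L73498
theorem L73501 : sm ga N4732 = N7212 := flp_a L73500
theorem L73502 : sm gc N7212 = N5902 := ded_19_1 L32268 L53089 L73498
theorem L73503 : sm gc N5902 = N7212 := flp_c L73502
theorem L73504 : sm gf N4563 = N7213 := rfl
theorem L73505 : sm gf N7213 = N4563 := flp_f L73504
theorem L73506 : sm ga N7213 = N4733 := ded_11_1 L25938 L25003 L73504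
theorem L73507 : sm ga N4733 = N7213 := flp_a L73506
theorem L73508 : sm gc N7213 = N5115 := ded_20_1 L53083 L53089 L73504
theorem L73509 : sm gc N5115 = N7213 := flp_c L73508
theorem L73510 : sm gg N4563 = N7214 := rfl
theorem L73511 : sm gg N7214 = N4563 := flp_g L73510
theorem L73512 : sm ga N7214 = N4734 := ded_12_1 L25940 L25003 L73510
theorem L73513 : sm ga N4734 = N7214 := flp_a L73512
theorem L73514 : sm gc N7214 = N5904 := ded_21_1 L32272 L53089 L73510
theorem L73515 : sm gc N5904 = N7214 := flp_c L73514
theorem L73516 : sm gd N4564 = N7215 := rfl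
theorem L73517 : sm gd N7215 = N4564 := flp_d L73516
theorem L73518 : sm ga N7215 = N4735 := ded_9_1 L25942 L25007 L73516
theorem L73519 : sm ga N4735 = N7215 := flp_a L73518
theorem L73520 : sm gf N7215 = N4700 := ded_23_2 L72850 L73243 L73376 L73372 L73516
theorem L73521 : sm gf N4700 = N7215 := flp_f L73520
theorem L73522 : sm gc N7215 = N4691 := ded_31_3 L25728 L25716 L25714 L25702 L72636 L72628 L72426 L24802 L13059 L13054 L24816 L73238 L73374 L73372 L73516
theorem L73523 : sm gc N4691 = N7215 := flp_c L73522
theorem L73524 : sm gg N4689 = N7215 := ded_12_0 L73518 L73315 L73312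
theorem L73525 : sm gg N7215 = N4689 := flp_g L73524
theorem L73526 : sm ga N4565 = N7216 := rfl
theorem L73527 : sm ga N7216 = N4565 := flp_a L73526
theorem L73528 : sm gb N7216 = N7189 := ded_7_2 L73304 L25948 L25946 L13617 L13173 L25010 L73526
theorem L73529 : sm gb N7189 = N7216 := flp_b L73528
theorem L73530 : sm ge N7187 = N7216 := ded_29_9 L73527 L25011 L13171 L6529 L53586 L6774 L13173 L25010 L73293
theorem L73531 : sm ge N7216 = N7187 := flp_e L73530
theorem L73532 : sm gd N4565 = N7217 := rfl
theorem L73533 : sm gd N7217 = N4565 := flp_d L73532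
theorem L73534 : sm gb N7217 = N4566 := ded_14_1 L25013 L25010 L73532
theorem L73535 : sm gb N4566 = N7217 := flp_b L73534
theorem L73536 : sm gf N5129 = N7217 := ded_16_0 L73534 L73204 L28302
theorem L73537 : sm gf N7217 = N5129 := flp_f L73536
theorem L73538 : sm ge N4565 = N7218 := rfl
theorem L73539 : sm ge N7218 = N4565 := flp_e L73538
theorem L73540 : sm ga N7218 = N7187 := ded_10_1 L73530 L73527 L73538
theorem L73541 : sm ga N7187 = N7218 := flp_a L73540
theorem L73542 : sm gb N7218 = N4567 := ded_15_1 L25019 L25010 L73538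
theorem L73543 : sm gb N4567 = N7218 := flp_b L73542
theorem L73544 : sm gc N7218 = N7216 := ded_19_1 L73531 L73292 L73538
theorem L73545 : sm gc N7216 = N7218 := flp_c L73544
theorem L73546 : sm gf N7218 = N7216 := ded_25_2 L73531 L73288 L73538
theorem L73547 : sm gf N7216 = N7218 := flp_f L73546
theorem L73548 : sm gd N4567 = N7219 := rfl
theorem L73549 : sm gd N7219 = N4567 := flp_d L73548
theorem L73550 : sm ga N7219 = N4742 := ded_9_1 L25970 L25021 L73548
theorem L73551 : sm ga N4742 = N7219 := flp_a L73550
theorem L73552 : sm gd N4592 = N7220 := rfl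
theorem L73553 : sm gd N7220 = N4592 := flp_d L73552
theorem L73554 : sm ga N7220 = N4818 := ded_9_1 L26391 L25195 L73552
theorem L73555 : sm ga N4818 = N7220 := flp_a L73554
theorem L73556 : sm gb N7220 = N5596 := ded_14_1 L30812 L25197 L73552
theorem L73557 : sm gb N5596 = N7220 := flp_b L73556
theorem L73558 : sm gg N7220 = N4726 := ded_24_2 L25904 L25876 L72884 L25202 L73552
theorem L73559 : sm gg N4726 = N7220 := flp_g L73558
theorem L73560 : sm gd N4593 = N7221 := rfl
theorem L73561 : sm gd N7221 = N4593 := flp_d L73560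
theorem L73562 : sm ga N7221 = N4819 := ded_9_1 L26393 L25206 L73560
theorem L73563 : sm ga N4819 = N7221 := flp_a L73562
theorem L73564 : sm gd N4665 = N7222 := rfl
theorem L73565 : sm gd N7222 = N4665 := flp_d L73564
theorem L73566 : sm ga N7222 = N4671 := ded_9_1 L25658 L25630 L73564
theorem L73567 : sm ga N4671 = N7222 := flp_a L73566
theorem L73568 : sm gb N7222 = N5094 := ded_14_1 L72486 L25707 L73564
theorem L73569 : sm gb N5094 = N7222 := flp_b L73568
theorem L73570 : sm ge N7222 = N5245 := ded_22_2 L73054 L72813 L72760 L25825 L73564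
theorem L73571 : sm ge N5245 = N7222 := flp_e L73570
theorem L73572 : sm gg N7222 = N5454 := ded_24_2 L30055 L42045 L14970 L25627 L73564
theorem L73573 : sm gg N5454 = N7222 := flp_g L73572
theorem L73574 : sm gf N5188 = N7222 := ded_11_0 L73566 L73027 L73057
theorem L73575 : sm gf N7222 = N5188 := flp_f L73574
theorem L73576 : sm gf N4665 = N7223 := rfl
theorem L73577 : sm gf N7223 = N4665 := flp_f L73576
theorem L73578 : sm ga N7223 = N4672 := ded_11_1 L25662 L25630 L73576
theorem L73579 : sm ga N4672 = N7223 := flp_a L73578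
theorem L73580 : sm gb N7223 = N4715 := ded_16_1 L25840 L25707 L73576
theorem L73581 : sm gb N4715 = N7223 := flp_b L73580
theorem L73582 : sm gc N7223 = N7223 := ded_20_1 L73577 L72816 L73576
theorem L73583 : sm ge N7223 = N5356 := ded_25_1 L72763 L25825 L73576
theorem L73584 : sm ge N5356 = N7223 := flp_e L73583
theorem L73585 : sm gg N7223 = N4710 := ded_28_3 L25817 L25624 L25627 L73576
theorem L73586 : sm gg N4710 = N7223 := flp_g L73585
theorem L73587 : sm gd N7223 = N5189 := ded_23_1 L28624 L28617 L73574 L73565 L73576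
theorem L73588 : sm gd N5189 = N7223 := flp_d L73587
theorem L73589 : sm gd N4667 = N7224 := rfl
theorem L73590 : sm gd N7224 = N4667 := flp_d L73589
theorem L73591 : sm ga N7224 = N5565 := ded_9_1 L72758 L25813 L73589
theorem L73592 : sm ga N5565 = N7224 := flp_a L73591
theorem L73593 : sm gb N7224 = N4675 := ded_14_1 L25678 L25638 L73589
theorem L73594 : sm gb N4675 = N7224 := flp_b L73593
theorem L73595 : sm gf N7224 = N5307 := ded_23_2 L29195 L52827 L25632 L25635 L73589
theorem L73596 : sm gf N5307 = N7224 := flp_f L73595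
theorem L73597 : sm gg N5630 = N7224 := ded_17_0 L73593 L73221 L73216
theorem L73598 : sm gg N7224 = N5630 := flp_g L73597
theorem L73599 : sm gc N4671 = N7225 := rfl
theorem L73600 : sm gc N7225 = N4671 := flp_c L73599
theorem L73601 : sm gg N7225 = N5955 := ded_21_2 L32536 L71830 L73599
theorem L73602 : sm gg N5955 = N7225 := flp_g L73601
theorem L73603 : sm gd N4672 = N7226 := rfl
theorem L73604 : sm gd N7226 = N4672 := flp_d L73603
theorem L73605 : sm ga N7226 = N5189 := ded_9_1 L73588 L73578 L73603
theorem L73606 : sm ga N5189 = N7226 := flp_a L73605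
theorem L73607 : sm gb N7226 = N4684 := ded_14_1 L25696 L25664 L73603
theorem L73608 : sm gb N4684 = N7226 := flp_b L73607
theorem L73609 : sm ge N7226 = N5668 := ded_22_2 L31132 L16662 L16666 L72608 L73603
theorem L73610 : sm ge N5668 = N7226 := flp_e L73609
theorem L73611 : sm gf N7226 = N5175 := ded_23_2 L73055 L73026 L25658 L25661 L73603
theorem L73612 : sm gf N5175 = N7226 := flp_f L73611
theorem L73613 : sm gg N7226 = N5181 := ded_24_2 L72939 L73597 L73590 L25668 L73603
theorem L73614 : sm gg N5181 = N7226 := flp_g L73613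
theorem L73615 : sm gc N5187 = N7226 := ded_30_6 L73604 L72845 L73603 L73605 L72755 L31132 L16660 L70803 L16673 L72528
theorem L73616 : sm gc N7226 = N5187 := flp_c L73615
theorem L73617 : sm gd N4673 = N7227 := rfl
theorem L73618 : sm gd N7227 = N4673 := flp_d L73617
theorem L73619 : sm gb N7227 = N5307 := ded_14_1 L29195 L52757 L73617
theorem L73620 : sm gb N5307 = N7227 := flp_b L73619
theorem L73621 : sm gf N7227 = N4675 := ded_23_2 L25678 L13470 L13467 L25669 L73617
theorem L73622 : sm gf N4675 = N7227 := flp_f L73621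
theorem L73623 : sm gc N4675 = N7228 := rfl
theorem L73624 : sm gc N7228 = N4675 := flp_c L73623
theorem L73625 : sm ge N4675 = N7229 := rfl
theorem L73626 : sm ge N7229 = N4675 := flp_e L73625
theorem L73627 : sm gd N7229 = N4678 := ded_22_1 L25684 L13482 L13474 L25677 L73625
theorem L73628 : sm gd N4678 = N7229 := flp_d L73627
theorem L73629 : sm gd N4677 = N7230 := rfl
theorem L73630 : sm gd N7230 = N4677 := flp_d L73629
theorem L73631 : sm gf N7230 = N4819 := ded_23_2 L26393 L13823 L26394 L72390 L73629
theorem L73632 : sm gf N4819 = N7230 := flp_f L73631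
theorem L73633 : sm ge N4677 = N7231 := rfl
theorem L73634 : sm ge N7231 = N4677 := flp_e L73633
theorem L73635 : sm gc N7231 = N4678 := ded_19_1 L25684 L25681 L73633
theorem L73636 : sm gc N4678 = N7231 := flp_c L73635
theorem L73637 : sm gg N7231 = N5064 := ded_26_2 L73039 L72854 L73633
theorem L73638 : sm gg N5064 = N7231 := flp_g L73637
theorem L73639 : sm gd N4685 = N7232 := rfl
theorem L73640 : sm gd N7232 = N4685 := flp_d L73639
theorem L73641 : sm gb N7232 = N5354 := ded_14_1 L73065 L25700 L73639
theorem L73642 : sm gb N5354 = N7232 := flp_b L73641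
theorem L73643 : sm gg N7232 = N5349 := ded_24_2 L29485 L57251 L19216 L72637 L73639
theorem L73644 : sm gg N5349 = N7232 := flp_g L73643
theorem L73645 : sm gc N4687 = N7233 := rfl
theorem L73646 : sm gc N7233 = N4687 := flp_c L73645
theorem L73647 : sm gf N7233 = N4689 := ded_20_2 L25722 L25716 L73645
theorem L73648 : sm gf N4689 = N7233 := flp_f L73647
theorem L73649 : sm gc N4688 = N7234 := rfl
theorem L73650 : sm gc N7234 = N4688 := flp_c L73649
theorem L73651 : sm gf N7234 = N5072 := ded_20_2 L73088 L25801 L73649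
theorem L73652 : sm gf N5072 = N7234 := flp_f L73651
theorem L73653 : sm gg N7234 = N4692 := ded_21_2 L25730 L25720 L73649
theorem L73654 : sm gg N4692 = N7234 := flp_g L73653
theorem L73655 : sm gb N5101 = N7234 := ded_29_1 L73650 L73233 L73234 L73334 L73336 L73170 L73044 L28924 L28124
theorem L73656 : sm gb N7234 = N5101 := flp_b L73655
theorem L73657 : sm gd N7234 = N5217 := ded_30_9 L73058 L73061 L27996 L14998 L15066 L28079 L72486 L25709 L25717 L73649
theorem L73658 : sm gd N5217 = N7234 := flp_d L73657
theorem L73659 : sm gb N4689 = N7235 := rfl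
theorem L73660 : sm gb N7235 = N4689 := flp_b L73659
theorem L73661 : sm gc N7235 = N7235 := ded_13_2 L73660 L25722 L65749 L25721 L73659
theorem L73662 : sm gd N4689 = N7236 := rfl
theorem L73663 : sm gd N7236 = N4689 := flp_d L73662
theorem L73664 : sm ge N4689 = N7237 := rfl
theorem L73665 : sm ge N7237 = N4689 := flp_e L73664
theorem L73666 : sm gc N7237 = N4690 := ded_19_1 L25724 L25721 L73664
theorem L73667 : sm gc N4690 = N7237 := flp_c L73666
theorem L73668 : sm ga N4695 = N7238 := rfl
theorem L73669 : sm ga N7238 = N4695 := flp_a L73668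
theorem L73670 : sm gc N7238 = N7238 := ded_8_2 L73669 L72800 L73668
theorem L73671 : sm gf N7238 = N4728 := ded_11_2 L25914 L25740 L73668
theorem L73672 : sm gf N4728 = N7238 := flp_f L73671
theorem L73673 : sm gb N7238 = N4698 := ded_29_4 L25751 L24889 L72945 L73371 L73367 L24876 L25737 L72800 L73668
theorem L73674 : sm gb N4698 = N7238 := flp_b L73673
theorem L73675 : sm gg N7238 = N4695 := ded_28_1 L25739 L25888 L25917 L73672
theorem L73676 : sm gg N4695 = N7238 := flp_g L73675
theorem L73677 : sm gd N4695 = N7239 := rfl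
theorem L73678 : sm gd N7239 = N4695 := flp_d L73677
theorem L73679 : sm gb N7239 = N4696 := ded_14_1 L25742 L25737 L73677
theorem L73680 : sm gb N4696 = N7239 := flp_b L73679
theorem L73681 : sm ge N4695 = N7240 := rfl
theorem L73682 : sm ge N7240 = N4695 := flp_e L73681
theorem L73683 : sm gb N7240 = N4697 := ded_15_1 L25744 L25737 L73681
theorem L73684 : sm gb N4697 = N7240 := flp_b L73683
theorem L73685 : sm gc N7240 = N7240 := ded_19_1 L73682 L72800 L73681
theorem L73686 : sm gf N7240 = N4730 := ded_25_2 L25924 L25740 L73681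
theorem L73687 : sm gf N4730 = N7240 := flp_f L73686
theorem L73688 : sm gc N4696 = N7241 := rfl
theorem L73689 : sm gc N7241 = N4696 := flp_c L73688
theorem L73690 : sm gg N7241 = N4759 := ded_31_4 L26046 L13664 L6791 L69256 L46769 L3413 L3385 L3383 L3376 L6762 L13584 L13586 L13520 L25741 L73688
theorem L73691 : sm gg N4759 = N7241 := flp_g L73690
theorem L73692 : sm ge N4696 = N7242 := rfl
theorem L73693 : sm ge N7242 = N4696 := flp_e L73692
theorem L73694 : sm gd N7242 = N4698 := ded_22_1 L25854 L25859 L25744 L25741 L73692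
theorem L73695 : sm gd N4698 = N7242 := flp_d L73694
theorem L73696 : sm gf N4696 = N7243 := rfl
theorem L73697 : sm gf N7243 = N4696 := flp_f L73696
theorem L73698 : sm gd N7243 = N4733 := ded_23_1 L25938 L13611 L13520 L25741 L73696
theorem L73699 : sm gd N4733 = N7243 := flp_d L73698
theorem L73700 : sm gg N4696 = N7244 := rfl
theorem L73701 : sm gg N7244 = N4696 := flp_g L73700
theorem L73702 : sm gc N7244 = N4759 := ded_21_1 L73691 L73689 L73700
theorem L73703 : sm gc N4759 = N7244 := flp_c L73702
theorem L73704 : sm gf N4757 = N7244 := ded_20_0 L73702 L26046 L26040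
theorem L73705 : sm gf N7244 = N4757 := flp_f L73704
theorem L73706 : sm gc N4699 = N7245 := rfl
theorem L73707 : sm gc N7245 = N4699 := flp_c L73706
theorem L73708 : sm ge N7245 = N7233 := ded_19_2 L73646 L25756 L73706
theorem L73709 : sm ge N7233 = N7245 := flp_e L73708
theorem L73710 : sm gf N7245 = N7237 := ded_20_2 L73666 L25758 L73706
theorem L73711 : sm gf N7237 = N7245 := flp_f L73710
theorem L73712 : sm gg N7245 = N4700 := ded_21_2 L25768 L25760 L73706
theorem L73713 : sm gg N4700 = N7245 := flp_g L73712
theorem L73714 : sm gd N7214 = N7245 := ded_24_5 L73712 L72850 L65788 L25000 L73510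
theorem L73715 : sm gd N7245 = N7214 := flp_d L73714
theorem L73716 : sm gb N4700 = N7246 := rfl
theorem L73717 : sm gb N7246 = N4700 := flp_b L73716
theorem L73718 : sm gd N7246 = N7185 := ded_14_2 L73273 L72851 L73716
theorem L73719 : sm gd N7185 = N7246 := flp_d L73718
theorem L73720 : sm gc N7246 = N7246 := ded_13_2 L73717 L25768 L65740 L25767 L73716
theorem L73721 : sm ge N4700 = N7247 := rfl
theorem L73722 : sm ge N7247 = N4700 := flp_e L73721
theorem L73723 : sm gc N7247 = N4701 := ded_19_1 L25770 L25767 L73721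
theorem L73724 : sm gc N4701 = N7247 := flp_c L73723
theorem L73725 : sm gg N7247 = N7233 := ded_26_2 L73709 L73712 L73721
theorem L73726 : sm gg N7233 = N7247 := flp_g L73725
theorem L73727 : sm gd N4702 = N7248 := rfl
theorem L73728 : sm gd N7248 = N4702 := flp_d L73727
theorem L73729 : sm gb N7248 = N4703 := ded_14_1 L25778 L25773 L73727
theorem L73730 : sm gb N4703 = N7248 := flp_b L73729
theorem L73731 : sm gc N4703 = N7249 := rfl
theorem L73732 : sm gc N7249 = N4703 := flp_c L73731
theorem L73733 : sm ga N7249 = N5240 := ded_8_1 L73421 L73418 L73731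
theorem L73734 : sm ga N5240 = N7249 := flp_a L73733
theorem L73735 : sm gd N7249 = N5090 := ded_30_9 L28041 L15521 L15537 L72481 L13490 L6724 L6746 L13529 L25777 L73731
theorem L73736 : sm gd N5090 = N7249 := flp_d L73735
theorem L73737 : sm gf N7232 = N7249 := ded_23_0 L73735 L28040 L15050 L25697 L73639
theorem L73738 : sm gf N7249 = N7232 := flp_f L73737
theorem L73739 : sm gf N4703 = N7250 := rfl
theorem L73740 : sm gf N7250 = N4703 := flp_f L73739
theorem L73741 : sm gc N7250 = N7232 := ded_20_1 L73737 L73732 L73739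
theorem L73742 : sm gc N7232 = N7250 := flp_c L73741
theorem L73743 : sm gg N5142 = N7250 := ded_28_1 L73740 L73164 L28331 L28361
theorem L73744 : sm gg N7250 = N5142 := flp_g L73743
theorem L73745 : sm gc N5349 = N5142 := ded_31_15 L73743 L73740 L25778 L13530 L6748 L6769 L6767 L3384 L1695 L1688 L3408 L6778 L57383 L15827 L29484
theorem L73746 : sm gc N5142 = N5349 := flp_c L73745
theorem L73747 : sm gf N5141 = N5349 := ded_20_0 L73745 L28362 L28359
theorem L73748 : sm gf N5349 = N5141 := flp_f L73747
theorem L73749 : sm gb N5353 = N5141 := ded_16_3 L73747 L29486 L29502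
theorem L73750 : sm gb N5141 = N5353 := flp_b L73749
theorem L73751 : sm gd N5649 = N5141 := ded_23_5 L73747 L29485 L15826 L16628 L31049
theorem L73752 : sm gd N5141 = N5649 := flp_d L73751
theorem L73753 : sm gc N4706 = N7251 := rfl
theorem L73754 : sm gc N7251 = N4706 := flp_c L73753
theorem L73755 : sm ge N7251 = N7234 := ded_19_2 L73650 L25792 L73753
theorem L73756 : sm ge N7234 = N7251 := flp_e L73755
theorem L73757 : sm gf N7251 = N4707 := ded_20_2 L25798 L25794 L73753
theorem L73758 : sm gf N4707 = N7251 := flp_f L73757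
theorem L73759 : sm gg N7251 = N5160 := ded_21_2 L73086 L25796 L73753
theorem L73760 : sm gg N5160 = N7251 := flp_g L73759
theorem L73761 : sm gb N5258 = N7251 := ded_29_7 L73754 L25791 L73233 L73234 L73334 L73336 L73170 L73044 L28931
theorem L73762 : sm gb N7251 = N5258 := flp_b L73761
theorem L73763 : sm gc N4714 = N7252 := rfl
theorem L73764 : sm gc N7252 = N4714 := flp_c L73763
theorem L73765 : sm ge N4714 = N7253 := rfl
theorem L73766 : sm ge N7253 = N4714 := flp_e L73765
theorem L73767 : sm gb N4718 = N7254 := rfl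
theorem L73768 : sm gb N7254 = N4718 := flp_b L73767
theorem L73769 : sm gd N7254 = N7240 := ded_14_2 L73683 L25860 L73767
theorem L73770 : sm gd N7240 = N7254 := flp_d L73769
theorem L73771 : sm ge N7254 = N7238 := ded_15_2 L73673 L25854 L73767
theorem L73772 : sm ge N7238 = N7254 := flp_e L73771
theorem L73773 : sm gf N7254 = N4722 := ded_16_2 L25886 L25856 L73767
theorem L73774 : sm gf N4722 = N7254 := flp_f L73773
theorem L73775 : sm gg N7254 = N7240 := ded_17_2 L73683 L25858 L73767
theorem L73776 : sm gg N7240 = N7254 := flp_g L73775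
theorem L73777 : sm gc N7254 = N7254 := ded_13_2 L73768 L25852 L65847 L25851 L73767
theorem L73778 : sm ga N7240 = N7254 := ded_29_6 L73768 L25852 L13565 L24889 L72945 L73371 L73368 L73684 L73685
theorem L73779 : sm ga N7254 = N7240 := flp_a L73778
theorem L73780 : sm gc N4719 = N7255 := rfl
theorem L73781 : sm gc N7255 = N4719 := flp_c L73780
theorem L73782 : sm ge N7255 = N7215 := ded_19_2 L73522 L25867 L73780
theorem L73783 : sm ge N7215 = N7255 := flp_e L73782
theorem L73784 : sm gf N7255 = N7247 := ded_20_2 L73723 L25864 L73780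
theorem L73785 : sm gf N7247 = N7255 := flp_f L73784
theorem L73786 : sm gg N7255 = N7237 := ded_21_2 L73666 L25866 L73780
theorem L73787 : sm gg N7237 = N7255 := flp_g L73786
theorem L73788 : sm gd N7255 = N7212 := ded_30_7 L73502 L73175 L73459 L73457 L24911 L15474 L72830 L25837 L25861 L73780
theorem L73789 : sm gd N7212 = N7255 := flp_d L73788
theorem L73790 : sm gd N4722 = N7256 := rfl
theorem L73791 : sm gd N7256 = N4722 := flp_d L73790
theorem L73792 : sm gb N7256 = N4723 := ded_14_1 L25890 L25885 L73790
theorem L73793 : sm gb N4723 = N7256 := flp_b L73792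
theorem L73794 : sm ge N4723 = N7257 := rfl
theorem L73795 : sm ge N7257 = N4723 := flp_e L73794
theorem L73796 : sm ga N7257 = N7247 := ded_10_1 L73722 L72852 L73794
theorem L73797 : sm ga N7247 = N7257 := flp_a L73796
theorem L73798 : sm gc N7257 = N7201 := ded_19_1 L73401 L72848 L73794
theorem L73799 : sm gc N7201 = N7257 := flp_c L73798
theorem L73800 : sm gd N5161 = N7257 := ded_30_9 L73796 L73723 L25804 L73089 L27936 L71712 L71708 L15261 L15305 L28447
theorem L73801 : sm gd N7257 = N5161 := flp_d L73800
theorem L73802 : sm gg N4723 = N7258 := rfl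
theorem L73803 : sm gg N7258 = N4723 := flp_g L73802
theorem L73804 : sm ga N7258 = N7245 := ded_12_1 L73712 L72852 L73802
theorem L73805 : sm ga N7245 = N7258 := flp_a L73804
theorem L73806 : sm gc N7258 = N7200 := ded_21_1 L73398 L72848 L73802
theorem L73807 : sm gc N7200 = N7258 := flp_c L73806
theorem L73808 : sm gd N7258 = N4734 := ded_24_1 L25940 L13611 L13587 L25889 L73802
theorem L73809 : sm gd N4734 = N7258 := flp_d L73808
theorem L73810 : sm gd N4724 = N7259 := rfl
theorem L73811 : sm gd N7259 = N4724 := flp_d L73810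
theorem L73812 : sm ge N7259 = N5161 := ded_22_2 L73800 L73795 L25890 L25891 L73810
theorem L73813 : sm ge N5161 = N7259 := flp_e L73812
theorem L73814 : sm gc N5162 = N7259 := ded_30_2 L73811 L25893 L13594 L13615 L25941 L73329 L73355 L73350 L73085 L28458
theorem L73815 : sm gc N7259 = N5162 := flp_c L73814
theorem L73816 : sm gf N5261 = N7259 := ded_25_0 L73812 L28449 L28940
theorem L73817 : sm gf N7259 = N5261 := flp_f L73816
theorem L73818 : sm gd N4725 = N7260 := rfl
theorem L73819 : sm gd N7260 = N4725 := flp_d L73818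
theorem L73820 : sm gb N7260 = N4726 := ded_14_1 L25904 L25899 L73818
theorem L73821 : sm gb N4726 = N7260 := flp_b L73820
theorem L73822 : sm gg N7260 = N5596 := ded_24_2 L30812 L16462 L16484 L73110 L73818
theorem L73823 : sm gg N5596 = N7260 := flp_g L73822
theorem L73824 : sm gc N4726 = N7261 := rfl
theorem L73825 : sm gc N7261 = N4726 := flp_c L73824
theorem L73826 : sm gd N7261 = N5675 := ded_30_9 L72867 L26041 L13664 L6791 L3413 L3385 L6766 L13596 L25903 L73824
theorem L73827 : sm gd N5675 = N7261 := flp_d L73826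
theorem L73828 : sm ge N4726 = N7262 := rfl
theorem L73829 : sm ge N7262 = N4726 := flp_e L73828
theorem L73830 : sm gf N4726 = N7263 := rfl
theorem L73831 : sm gf N7263 = N4726 := flp_f L73830
theorem L73832 : sm ga N7263 = N5139 := ded_11_1 L73299 L73296 L73830
theorem L73833 : sm ga N5139 = N7263 := flp_a L73832
theorem L73834 : sm gd N7263 = N4740 := ded_23_1 L25966 L13619 L13599 L25903 L73830
theorem L73835 : sm gd N4740 = N7263 := flp_d L73834
theorem L73836 : sm ge N7219 = N7263 := ded_10_0 L73832 L73161 L73551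
theorem L73837 : sm ge N7263 = N7219 := flp_e L73836
theorem L73838 : sm gg N5102 = N7263 := ded_12_0 L73832 L28351 L28130
theorem L73839 : sm gg N7263 = N5102 := flp_g L73838
theorem L73840 : sm gf N7262 = N7219 := ded_25_0 L73836 L73831 L73828
theorem L73841 : sm gf N7219 = N7262 := flp_f L73840
theorem L73842 : sm gd N4727 = N7264 := rfl
theorem L73843 : sm gd N7264 = N4727 := flp_d L73842
theorem L73844 : sm gd N4728 = N7265 := rfl
theorem L73845 : sm gd N7265 = N4728 := flp_d L73844
theorem L73846 : sm ga N7265 = N4729 := ded_9_1 L25920 L25913 L73844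
theorem L73847 : sm ga N4729 = N7265 := flp_a L73846
theorem L73848 : sm gb N7265 = N7259 := ded_14_1 L73811 L25916 L73844
theorem L73849 : sm gb N7259 = N7265 := flp_b L73848
theorem L73850 : sm gc N4729 = N7266 := rfl
theorem L73851 : sm gc N7266 = N4729 := flp_c L73850
theorem L73852 : sm gb N7266 = N4733 := ded_13_1 L72708 L52538 L25932 L25922 L73850
theorem L73853 : sm gb N4733 = N7266 := flp_b L73852
theorem L73854 : sm gf N4729 = N7266 := ded_16_0 L73852 L25938 L25922
theorem L73855 : sm gf N7266 = N4729 := flp_f L73854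
theorem L73856 : sm ge N4729 = N7267 := rfl
theorem L73857 : sm ge N7267 = N4729 := flp_e L73856
theorem L73858 : sm gb N7267 = N4732 := ded_15_1 L25936 L25922 L73856
theorem L73859 : sm gb N4732 = N7267 := flp_b L73858
theorem L73860 : sm gg N4729 = N7268 := rfl
theorem L73861 : sm gg N7268 = N4729 := flp_g L73860
theorem L73862 : sm gb N7268 = N4734 := ded_17_1 L25940 L25922 L73860
theorem L73863 : sm gb N4734 = N7268 := flp_b L73862
theorem L73864 : sm gd N4730 = N7269 := rfl
theorem L73865 : sm gd N7269 = N4730 := flp_d L73864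
theorem L73866 : sm ga N7269 = N7256 := ded_9_1 L73791 L25926 L73864
theorem L73867 : sm ga N7256 = N7269 := flp_a L73866
theorem L73868 : sm gb N7269 = N4735 := ded_14_1 L25942 L25928 L73864
theorem L73869 : sm gb N4735 = N7269 := flp_b L73868
theorem L73870 : sm gf N7269 = N7256 := ded_23_2 L73791 L73774 L73769 L73686 L73864
theorem L73871 : sm gf N7256 = N7269 := flp_f L73870
theorem L73872 : sm ge N4731 = N7270 := rfl
theorem L73873 : sm ge N7270 = N4731 := flp_e L73872
theorem L73874 : sm ga N7270 = N5902 := ded_10_1 L32268 L65874 L73872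
theorem L73875 : sm ga N5902 = N7270 := flp_a L73874
theorem L73876 : sm gb N7270 = N5286 := ded_15_1 L29062 L52538 L73872
theorem L73877 : sm gb N5286 = N7270 := flp_b L73876
theorem L73878 : sm gc N7270 = N4732 := ded_19_1 L25936 L25931 L73872
theorem L73879 : sm gc N4732 = N7270 := flp_c L73878
theorem L73880 : sm gf N7270 = N5286 := ded_25_2 L29062 L52542 L73872
theorem L73881 : sm gf N5286 = N7270 := flp_f L73880
theorem L73882 : sm gd N7270 = N7207 := ded_22_1 L73462 L28506 L15354 L52551 L73872
theorem L73883 : sm gd N7207 = N7270 := flp_d L73882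
theorem L73884 : sm gg N4731 = N7271 := rfl
theorem L73885 : sm gg N7271 = N4731 := flp_g L73884
theorem L73886 : sm ga N7271 = N5904 := ded_12_1 L32272 L65874 L73884
theorem L73887 : sm ga N5904 = N7271 := flp_a L73886
theorem L73888 : sm gb N7271 = N5287 := ded_17_1 L29066 L52538 L73884
theorem L73889 : sm gb N5287 = N7271 := flp_b L73888
theorem L73890 : sm gc N7271 = N4734 := ded_21_1 L25940 L25931 L73884
theorem L73891 : sm gc N4734 = N7271 := flp_c L73890
theorem L73892 : sm gd N4732 = N7272 := rfl
theorem L73893 : sm gd N7272 = N4732 := flp_d L73892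
theorem L73894 : sm ga N7272 = N7255 := ded_9_1 L73788 L73500 L73892
theorem L73895 : sm ga N7255 = N7272 := flp_a L73894
theorem L73896 : sm ge N7272 = N4735 := ded_22_2 L25942 L13613 L13610 L25935 L73892
theorem L73897 : sm ge N4735 = N7272 := flp_e L73896
theorem L73898 : sm gf N7272 = N7257 := ded_23_2 L73801 L28449 L28938 L73271 L73892
theorem L73899 : sm gf N7257 = N7272 := flp_f L73898
theorem L73900 : sm gc N7183 = N7272 := ded_30_0 L73893 L73879 L73882 L73457 L24911 L15474 L72830 L25837 L25861 L73247
theorem L73901 : sm gc N7272 = N7183 := flp_c L73900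
theorem L73902 : sm gg N4732 = N7273 := rfl
theorem L73903 : sm gg N7273 = N4732 := flp_g L73902
theorem L73904 : sm ge N7273 = N4734 := ded_26_1 L25940 L25935 L73902
theorem L73905 : sm ge N4734 = N7273 := flp_e L73904
theorem L73906 : sm gg N4733 = N7274 := rfl
theorem L73907 : sm gg N7274 = N4733 := flp_g L73906
theorem L73908 : sm gc N7274 = N5287 := ded_21_1 L29066 L72709 L73906
theorem L73909 : sm gc N5287 = N7274 := flp_c L73908
theorem L73910 : sm gf N7273 = N7274 := ded_28_0 L73907 L25938 L25939 L73905
theorem L73911 : sm gf N7274 = N7273 := flp_f L73910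
theorem L73912 : sm gd N7274 = N5147 := ded_30_1 L28374 L15258 L7671 L3831 L3858 L7785 L15495 L28814 L73053 L73909
theorem L73913 : sm gd N5147 = N7274 := flp_d L73912
theorem L73914 : sm gf N4734 = N7275 := rfl
theorem L73915 : sm gf N7275 = N4734 := flp_f L73914
theorem L73916 : sm ge N7275 = N7274 := ded_25_1 L73911 L73904 L73914
theorem L73917 : sm ge N7274 = N7275 := flp_e L73916
theorem L73918 : sm gg N7275 = N5260 := ded_28_3 L73268 L25938 L25939 L73914
theorem L73919 : sm gg N5260 = N7275 := flp_g L73918
theorem L73920 : sm gd N4736 = N7276 := rfl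
theorem L73921 : sm gd N7276 = N4736 := flp_d L73920
theorem L73922 : sm ga N7276 = N4737 := ded_9_1 L25952 L25945 L73920
theorem L73923 : sm ga N4737 = N7276 := flp_a L73922
theorem L73924 : sm gb N7276 = N7264 := ded_14_1 L73843 L25948 L73920
theorem L73925 : sm gb N7264 = N7276 := flp_b L73924
theorem L73926 : sm gc N4737 = N7277 := rfl
theorem L73927 : sm gc N7277 = N4737 := flp_c L73926
theorem L73928 : sm gf N4737 = N7278 := rfl
theorem L73929 : sm gf N7278 = N4737 := flp_f L73928
theorem L73930 : sm gb N7278 = N4740 := ded_16_1 L25966 L25954 L73928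
theorem L73931 : sm gb N4740 = N7278 := flp_b L73930
theorem L73932 : sm ge N7278 = N7217 := ded_25_1 L73537 L73208 L73928
theorem L73933 : sm ge N7217 = N7278 := flp_e L73932
theorem L73934 : sm gg N5116 = N7278 := ded_28_1 L73929 L73210 L28292 L51852
theorem L73935 : sm gg N7278 = N5116 := flp_g L73934
theorem L73936 : sm ga N7278 = N5980 := ded_12_1 L32612 L41926 L73934
theorem L73937 : sm ga N5980 = N7278 := flp_a L73936
theorem L73938 : sm gf N5980 = N7276 := ded_11_2 L73922 L73928 L73936
theorem L73939 : sm gf N7276 = N5980 := flp_f L73938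
theorem L73940 : sm gd N4738 = N7279 := rfl
theorem L73941 : sm gd N7279 = N4738 := flp_d L73940
theorem L73942 : sm ga N7279 = N7260 := ded_9_1 L73819 L25958 L73940
theorem L73943 : sm ga N7260 = N7279 := flp_a L73942
theorem L73944 : sm gb N7279 = N4742 := ded_14_1 L25970 L25960 L73940
theorem L73945 : sm gb N4742 = N7279 := flp_b L73944
theorem L73946 : sm gf N7279 = N5968 := ded_23_2 L32614 L73938 L73921 L25962 L73940
theorem L73947 : sm gf N5968 = N7279 := flp_f L73946
theorem L73948 : sm gc N4742 = N7280 := rfl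
theorem L73949 : sm gc N7280 = N4742 := flp_c L73948
theorem L73950 : sm gf N4742 = N7281 := rfl
theorem L73951 : sm gf N7281 = N4742 := flp_f L73950
theorem L73952 : sm ga N7281 = N7262 := ded_11_1 L73840 L73550 L73950
theorem L73953 : sm ga N7262 = N7281 := flp_a L73952
theorem L73954 : sm gb N7281 = N5968 := ded_16_1 L73947 L73944 L73950
theorem L73955 : sm gb N5968 = N7281 := flp_b L73954
theorem L73956 : sm ge N7281 = N7188 := ded_25_1 L73298 L73161 L73950
theorem L73957 : sm ge N7188 = N7281 := flp_e L73956
theorem L73958 : sm gg N7281 = N5149 := ded_28_3 L72961 L73098 L73101 L73950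
theorem L73959 : sm gg N5149 = N7281 := flp_g L73958
theorem L73960 : sm gb N4757 = N7282 := rfl
theorem L73961 : sm gb N7282 = N4757 := flp_b L73960
theorem L73962 : sm gd N4757 = N7283 := rfl
theorem L73963 : sm gd N7283 = N4757 := flp_d L73962
theorem L73964 : sm ga N7283 = N7261 := ded_9_1 L73826 L72867 L73962
theorem L73965 : sm ga N7261 = N7283 := flp_a L73964
theorem L73966 : sm gc N7188 = N7283 := ded_30_0 L73963 L26041 L13664 L6791 L3413 L3385 L6766 L13596 L25903 L73297
theorem L73967 : sm gc N7283 = N7188 := flp_c L73966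
theorem L73968 : sm ge N4757 = N7284 := rfl
theorem L73969 : sm ge N7284 = N4757 := flp_e L73968
theorem L73970 : sm gc N7284 = N4758 := ded_19_1 L26043 L26040 L73968
theorem L73971 : sm gc N4758 = N7284 := flp_c L73970
theorem L73972 : sm gg N7243 = N7284 := ded_28_3 L73969 L73704 L73701 L73696
theorem L73973 : sm gg N7284 = N7243 := flp_g L73972
theorem L73974 : sm gg N4757 = N7285 := rfl
theorem L73975 : sm gg N7285 = N4757 := flp_g L73974
theorem L73976 : sm gc N7285 = N4760 := ded_21_1 L26048 L26040 L73974
theorem L73977 : sm gc N4760 = N7285 := flp_c L73976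
theorem L73978 : sm ge N7285 = N7243 := ded_26_1 L73972 L73969 L73974
theorem L73979 : sm ge N7243 = N7285 := flp_e L73978
theorem L73980 : sm gf N7242 = N7285 := ded_28_0 L73975 L73704 L73701 L73692
theorem L73981 : sm gf N7285 = N7242 := flp_f L73980
theorem L73982 : sm gd N5261 = N7285 := ded_22_5 L73978 L73698 L73269 L28939 L28940
theorem L73983 : sm gd N7285 = N5261 := flp_d L73982
theorem L73984 : sm gf N4758 = N7286 := rfl
theorem L73985 : sm gf N7286 = N4758 := flp_f L73984
theorem L73986 : sm ge N7286 = N4759 := ded_25_1 L26046 L26042 L73984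
theorem L73987 : sm ge N4759 = N7286 := flp_e L73986
theorem L73988 : sm gg N4758 = N7287 := rfl
theorem L73989 : sm gg N7287 = N4758 := flp_g L73988
theorem L73990 : sm gc N7287 = N7243 := ded_21_1 L73972 L73970 L73988
theorem L73991 : sm gc N7243 = N7287 := flp_c L73990
theorem L73992 : sm ge N7287 = N4760 := ded_26_1 L26048 L26042 L73988
theorem L73993 : sm ge N4760 = N7287 := flp_e L73992
theorem L73994 : sm gf N7287 = N7241 := ded_28_2 L73690 L73987 L73985 L73988
theorem L73995 : sm gf N7241 = N7287 := flp_f L73994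
theorem L73996 : sm gf N4760 = N7288 := rfl
theorem L73997 : sm gf N7288 = N4760 := flp_f L73996
theorem L73998 : sm gc N7288 = N7242 := ded_20_1 L73980 L73976 L73996
theorem L73999 : sm gc N7242 = N7288 := flp_c L73998
theorem L74000 : sm ge N7288 = N7241 := ded_25_1 L73995 L73992 L73996
theorem L74001 : sm ge N7241 = N7288 := flp_e L74000
theorem L74002 : sm gg N7288 = N7286 := ded_28_3 L73986 L26046 L26047 L73996
theorem L74003 : sm gg N7286 = N7288 := flp_g L74002
theorem L74004 : sm gd N4817 = N7289 := rfl
theorem L74005 : sm gd N7289 = N4817 := flp_d L74004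
theorem L74006 : sm ge N7289 = N7221 := ded_22_2 L73561 L25208 L66074 L26389 L74004
theorem L74007 : sm ge N7221 = N7289 := flp_e L74006
theorem L74008 : sm gg N7289 = N4819 := ded_24_2 L26393 L13814 L13804 L26384 L74004
theorem L74009 : sm gg N4819 = N7289 := flp_g L74008
theorem L74010 : sm gc N4818 = N7290 := rfl
theorem L74011 : sm gc N7290 = N4818 := flp_c L74010
theorem L74012 : sm gg N7290 = N7283 := ded_21_2 L73967 L73300 L74010
theorem L74013 : sm gg N7283 = N7290 := flp_g L74012
theorem L74014 : sm gc N4819 = N7291 := rfl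
theorem L74015 : sm gc N7291 = N4819 := flp_c L74014
theorem L74016 : sm ge N4819 = N7292 := rfl
theorem L74017 : sm ge N7292 = N4819 := flp_e L74016
theorem L74018 : sm ga N7292 = N7289 := ded_10_1 L74006 L73562 L74016
theorem L74019 : sm ga N7289 = N7292 := flp_a L74018
theorem L74020 : sm gg N7292 = N7221 := ded_26_2 L74007 L74008 L74016
theorem L74021 : sm gg N7221 = N7292 := flp_g L74020
theorem L74022 : sm gd N7292 = N4822 := ded_22_1 L26403 L13826 L13817 L26392 L74016
theorem L74023 : sm gd N4822 = N7292 := flp_d L74022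
theorem L74024 : sm ge N4820 = N7293 := rfl
theorem L74025 : sm ge N7293 = N4820 := flp_e L74024
theorem L74026 : sm ga N7293 = N5224 := ded_10_1 L28772 L72387 L74024
theorem L74027 : sm ga N5224 = N7293 := flp_a L74026
theorem L74028 : sm gb N7293 = N5641 := ded_15_1 L31016 L26397 L74024
theorem L74029 : sm gb N5641 = N7293 := flp_b L74028
theorem L74030 : sm gc N7293 = N5084 := ded_19_1 L28010 L72389 L74024
theorem L74031 : sm gc N5084 = N7293 := flp_c L74030
theorem L74032 : sm gf N7293 = N7231 := ded_25_2 L73634 L72391 L74024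
theorem L74033 : sm gf N7231 = N7293 := flp_f L74032
theorem L74034 : sm gg N7293 = N5063 := ded_26_2 L27898 L72393 L74024
theorem L74035 : sm gg N5063 = N7293 := flp_g L74034
theorem L74036 : sm gd N7293 = N7205 := ded_22_1 L73440 L26409 L13832 L26394 L74024
theorem L74037 : sm gd N7205 = N7293 := flp_d L74036
theorem L74038 : sm gd N4825 = N7294 := rfl
theorem L74039 : sm gd N7294 = N4825 := flp_d L74038
theorem L74040 : sm ga N7294 = N5148 := ded_9_1 L72677 L26413 L74038
theorem L74041 : sm ga N5148 = N7294 := flp_a L74040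
theorem L74042 : sm ge N7294 = N5102 := ded_22_2 L28128 L71665 L42153 L66098 L74038
theorem L74043 : sm ge N5102 = N7294 := flp_e L74042
theorem L74044 : sm gf N7294 = N7220 := ded_23_2 L73553 L25193 L26300 L26410 L74038
theorem L74045 : sm gf N7220 = N7294 := flp_f L74044
theorem L74046 : sm gg N7294 = N7219 := ded_24_2 L73549 L73429 L73433 L64351 L74038
theorem L74047 : sm gg N7219 = N7294 := flp_g L74046
theorem L74048 : sm gd N4838 = N7295 := rfl
theorem L74049 : sm gd N7295 = N4838 := flp_d L74048
theorem L74050 : sm ga N7295 = N5143 := ded_9_1 L72679 L64392 L74048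
theorem L74051 : sm ga N5143 = N7295 := flp_a L74050
theorem L74052 : sm gb N7295 = N5346 := ded_14_1 L29463 L71551 L74048
theorem L74053 : sm gb N5346 = N7295 := flp_b L74052
theorem L74054 : sm ge N7295 = N7203 := ded_22_2 L73417 L73422 L73433 L26474 L74048
theorem L74055 : sm ge N7203 = N7295 := flp_e L74054
theorem L74056 : sm gg N7295 = N5120 := ded_24_2 L28246 L42145 L42153 L26471 L74048
theorem L74057 : sm gg N5120 = N7295 := flp_g L74056
theorem L74058 : sm gd N5063 = N7296 := rfl
theorem L74059 : sm gd N7296 = N5063 := flp_d L74058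
theorem L74060 : sm gb N7296 = N5979 := ded_14_1 L32609 L73018 L74058
theorem L74061 : sm gb N5979 = N7296 := flp_b L74060
theorem L74062 : sm ge N7296 = N5066 := ded_22_2 L27904 L14923 L14920 L27897 L74058
theorem L74063 : sm ge N5066 = N7296 := flp_e L74062
theorem L74064 : sm gc N5066 = N7296 := ded_30_0 L74059 L73150 L73751 L28360 L15228 L7663 L7673 L15267 L28381 L28383
theorem L74065 : sm gc N7296 = N5066 := flp_c L74064
theorem L74066 : sm gd N5064 = N7297 := rfl
theorem L74067 : sm gd N7297 = N5064 := flp_d L74066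
theorem L74068 : sm gb N7297 = N5971 := ded_14_1 L32594 L73020 L74066
theorem L74069 : sm gb N5971 = N7297 := flp_b L74068
theorem L74070 : sm gf N7297 = N5068 := ded_23_2 L27916 L14927 L14920 L27899 L74066
theorem L74071 : sm gf N5068 = N7297 := flp_f L74070
theorem L74072 : sm gc N7297 = N7297 := ded_20_3 L74070 L72672 L74071
theorem L74073 : sm gg N5066 = N7298 := rfl
theorem L74074 : sm gg N7298 = N5066 := flp_g L74073
theorem L74075 : sm gb N7298 = N5980 := ded_17_1 L32612 L41922 L74073
theorem L74076 : sm gb N5980 = N7298 := flp_b L74075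
theorem L74077 : sm gd N7298 = N7281 := ded_24_1 L73958 L71694 L41915 L27903 L74073
theorem L74078 : sm gd N7281 = N7298 := flp_d L74077
theorem L74079 : sm gf N7298 = N7264 := ded_31_1 L73843 L25907 L13604 L13538 L6747 L6725 L6723 L6718 L13481 L25681 L72855 L73041 L74058 L74065 L74073
theorem L74080 : sm gf N7264 = N7298 := flp_f L74079
theorem L74081 : sm gc N5070 = N7299 := rfl
theorem L74082 : sm gc N7299 = N5070 := flp_c L74081
theorem L74083 : sm ge N7299 = N5154 := ded_19_2 L28420 L27930 L74081
theorem L74084 : sm ge N5154 = N7299 := flp_e L74083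
theorem L74085 : sm gg N5070 = N7300 := rfl
theorem L74086 : sm gg N7300 = N5070 := flp_g L74085
theorem L74087 : sm gb N7300 = N5095 := ded_17_1 L28086 L27928 L74085
theorem L74088 : sm gb N5095 = N7300 := flp_b L74087
theorem L74089 : sm ge N7300 = N5155 := ded_26_1 L28422 L27930 L74085
theorem L74090 : sm ge N5155 = N7300 := flp_e L74089
theorem L74091 : sm gd N7300 = N5904 := ded_24_1 L32272 L17135 L53052 L27925 L74085
theorem L74092 : sm gd N5904 = N7300 := flp_d L74091
theorem L74093 : sm gd N5074 = N7301 := rfl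
theorem L74094 : sm gd N7301 = N5074 := flp_d L74093
theorem L74095 : sm ga N7301 = N5077 := ded_9_1 L27972 L27948 L74093
theorem L74096 : sm ga N5077 = N7301 := flp_a L74095
theorem L74097 : sm gb N7301 = N7249 := ded_14_1 L73735 L28043 L74093
theorem L74098 : sm gb N7249 = N7301 := flp_b L74097
theorem L74099 : sm gf N7301 = N5354 := ded_23_2 L73065 L25624 L14971 L27945 L74093
theorem L74100 : sm gf N5354 = N7301 := flp_f L74099
theorem L74101 : sm gc N5077 = N7302 := rfl
theorem L74102 : sm gc N7302 = N5077 := flp_c L74101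
theorem L74103 : sm gf N7302 = N5658 := ded_20_2 L31097 L72586 L74101
theorem L74104 : sm gf N5658 = N7302 := flp_f L74103
theorem L74105 : sm gb N7302 = N5640 := ded_13_1 L31012 L26397 L72388 L27974 L74101
theorem L74106 : sm gb N5640 = N7302 := flp_b L74105
theorem L74107 : sm gd N5079 = N7303 := rfl
theorem L74108 : sm gd N7303 = N5079 := flp_d L74107
theorem L74109 : sm ga N7303 = N5213 := ded_9_1 L28735 L27986 L74107
theorem L74110 : sm ga N5213 = N7303 := flp_a L74109
theorem L74111 : sm gb N7303 = N5961 := ded_14_1 L72512 L52760 L74107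
theorem L74112 : sm gb N5961 = N7303 := flp_b L74111
theorem L74113 : sm gf N7303 = N5081 := ded_23_2 L27996 L14995 L14988 L27983 L74107
theorem L74114 : sm gf N5081 = N7303 := flp_f L74113
theorem L74115 : sm gc N7303 = N5153 := ded_31_3 L28417 L28429 L28446 L73086 L25796 L25793 L13540 L13494 L13497 L13470 L13467 L15053 L41720 L27983 L74107
theorem L74116 : sm gc N5153 = N7303 := flp_c L74115
theorem L74117 : sm ge N5243 = N7303 := ded_10_0 L74109 L72745 L72753
theorem L74118 : sm ge N7303 = N5243 := flp_e L74117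
theorem L74119 : sm gg N5156 = N7303 := ded_12_0 L74109 L72742 L72785
theorem L74120 : sm gg N7303 = N5156 := flp_g L74119
theorem L74121 : sm ge N5081 = N7304 := rfl
theorem L74122 : sm ge N7304 = N5081 := flp_e L74121
theorem L74123 : sm ga N7304 = N5218 := ded_10_1 L28755 L27998 L74121
theorem L74124 : sm ga N5218 = N7304 := flp_a L74123
theorem L74125 : sm gb N7304 = N5959 := ded_15_1 L73024 L71788 L74121
theorem L74126 : sm gb N5959 = N7304 := flp_b L74125
theorem L74127 : sm gc N7304 = N5244 := ded_19_1 L28907 L73061 L74121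
theorem L74128 : sm gc N5244 = N7304 := flp_c L74127
theorem L74129 : sm gf N7304 = N5243 := ded_25_2 L74117 L74113 L74121
theorem L74130 : sm gf N5243 = N7304 := flp_f L74129
theorem L74131 : sm gd N7304 = N5084 := ded_22_1 L28010 L15011 L15001 L27995 L74121
theorem L74132 : sm gd N5084 = N7304 := flp_d L74131
theorem L74133 : sm ge N5086 = N7305 := rfl
theorem L74134 : sm ge N7305 = N5086 := flp_e L74133
theorem L74135 : sm ga N7305 = N5230 := ded_10_1 L28799 L28022 L74133
theorem L74136 : sm ga N5230 = N7305 := flp_a L74135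
theorem L74137 : sm gb N7305 = N5451 := ded_15_1 L30036 L71892 L74133
theorem L74138 : sm gb N5451 = N7305 := flp_b L74137
theorem L74139 : sm gc N7305 = N5292 := ded_19_1 L29098 L41521 L74133
theorem L74140 : sm gc N5292 = N7305 := flp_c L74139
theorem L74141 : sm gf N7305 = N5230 := ded_25_2 L28799 L41526 L74133
theorem L74142 : sm gf N5230 = N7305 := flp_f L74141
theorem L74143 : sm gg N7305 = N5289 := ded_26_2 L29073 L41528 L74133
theorem L74144 : sm gg N5289 = N7305 := flp_g L74143
theorem L74145 : sm gd N7305 = N5113 := ded_22_1 L71635 L16102 L71875 L28019 L74133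
theorem L74146 : sm gd N5113 = N7305 := flp_d L74145
theorem L74147 : sm gb N5087 = N7306 := rfl
theorem L74148 : sm gb N7306 = N5087 := flp_b L74147
theorem L74149 : sm gd N7306 = N7271 := ded_14_2 L73888 L72475 L74147
theorem L74150 : sm gd N7271 = N7306 := flp_d L74149
theorem L74151 : sm ge N7306 = N5232 := ded_15_2 L28813 L71822 L74147
theorem L74152 : sm ge N5232 = N7306 := flp_e L74151
theorem L74153 : sm gf N7306 = N7300 := ded_16_2 L74087 L72477 L74147
theorem L74154 : sm gf N7300 = N7306 := flp_f L74153
theorem L74155 : sm gg N7306 = N5152 := ded_17_2 L28403 L72479 L74147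
theorem L74156 : sm gg N5152 = N7306 := flp_g L74155
theorem L74157 : sm ga N7306 = N7300 := ded_7_1 L74087 L28087 L28424 L73151 L28813 L28026 L74147
theorem L74158 : sm ga N7300 = N7306 := flp_a L74157
theorem L74159 : sm gf N5093 = N7307 := rfl
theorem L74160 : sm gf N7307 = N5093 := flp_f L74159
theorem L74161 : sm ga N7307 = N5244 := ded_11_1 L28875 L28074 L74159
theorem L74162 : sm ga N5244 = N7307 := flp_a L74161
theorem L74163 : sm gc N7307 = N5218 := ded_20_1 L72746 L72749 L74159
theorem L74164 : sm gc N5218 = N7307 := flp_c L74163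
theorem L74165 : sm ge N7307 = N5217 := ded_25_1 L72515 L28076 L74159
theorem L74166 : sm ge N5217 = N7307 := flp_e L74165
theorem L74167 : sm gf N5097 = N7308 := rfl
theorem L74168 : sm gf N7308 = N5097 := flp_f L74167
theorem L74169 : sm ga N7308 = N5157 := ded_11_1 L28430 L28098 L74167
theorem L74170 : sm ga N5157 = N7308 := flp_a L74169
theorem L74171 : sm gb N7308 = N7307 := ded_16_1 L74160 L28100 L74167
theorem L74172 : sm gb N7307 = N7308 := flp_b L74171
theorem L74173 : sm gc N7308 = N5278 := ded_20_1 L72741 L72782 L74167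
theorem L74174 : sm gc N5278 = N7308 := flp_c L74173
theorem L74175 : sm ge N7308 = N5098 := ded_25_1 L28106 L28095 L74167
theorem L74176 : sm ge N5098 = N7308 := flp_e L74175
theorem L74177 : sm gg N7308 = N7307 := ded_28_3 L74165 L72515 L28102 L74167
theorem L74178 : sm gg N7307 = N7308 := flp_g L74177
theorem L74179 : sm gc N5102 = N7309 := rfl
theorem L74180 : sm gc N7309 = N5102 := flp_c L74179
theorem L74181 : sm ga N7309 = N5147 := ded_8_1 L28374 L28130 L74179
theorem L74182 : sm ga N5147 = N7309 := flp_a L74181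
theorem L74183 : sm gf N5102 = N7310 := rfl
theorem L74184 : sm gf N7310 = N5102 := flp_f L74183
theorem L74185 : sm ga N7310 = N5149 := ded_11_1 L28378 L28130 L74183
theorem L74186 : sm ga N5149 = N7310 := flp_a L74185
theorem L74187 : sm gb N7310 = N6012 := ded_16_1 L72793 L71649 L74183
theorem L74188 : sm gb N6012 = N7310 := flp_b L74187
theorem L74189 : sm ge N7310 = N7220 := ded_25_1 L74045 L74042 L74183
theorem L74190 : sm ge N7220 = N7310 := flp_e L74189
theorem L74191 : sm gg N7310 = N7262 := ded_28_3 L73829 L73830 L73839 L74183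
theorem L74192 : sm gg N7262 = N7310 := flp_g L74191
theorem L74193 : sm gd N7310 = N5151 := ded_23_1 L71723 L17110 L71668 L28127 L74183
theorem L74194 : sm gd N5151 = N7310 := flp_d L74193
theorem L74195 : sm gc N5103 = N7311 := rfl
theorem L74196 : sm gc N7311 = N5103 := flp_c L74195
theorem L74197 : sm ga N7311 = N5161 := ded_8_1 L28448 L28134 L74195
theorem L74198 : sm ga N5161 = N7311 := flp_a L74197
theorem L74199 : sm gf N7311 = N5104 := ded_20_2 L28138 L28136 L74195
theorem L74200 : sm gf N5104 = N7311 := flp_f L74199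
theorem L74201 : sm gd N7311 = N7247 := ded_30_9 L73797 L73798 L73477 L73470 L28506 L71721 L17110 L71639 L28131 L74195
theorem L74202 : sm gd N7247 = N7311 := flp_d L74201
theorem L74203 : sm ge N5103 = N7312 := rfl
theorem L74204 : sm ge N7312 = N5103 := flp_e L74203
theorem L74205 : sm ga N7312 = N5162 := ded_10_1 L28452 L28134 L74203
theorem L74206 : sm ga N5162 = N7312 := flp_a L74205
theorem L74207 : sm gf N7312 = N5105 := ded_25_2 L28142 L28136 L74203
theorem L74208 : sm gf N5105 = N7312 := flp_f L74207
theorem L74209 : sm gg N5103 = N7313 := rfl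
theorem L74210 : sm gg N7313 = N5103 := flp_g L74209
theorem L74211 : sm ga N7313 = N5163 := ded_12_1 L28460 L28134 L74209
theorem L74212 : sm ga N5163 = N7313 := flp_a L74211
theorem L74213 : sm gb N7313 = N5233 := ded_17_1 L73050 L28219 L74209
theorem L74214 : sm gb N5233 = N7313 := flp_b L74213
theorem L74215 : sm gd N7313 = N5232 := ded_24_1 L73048 L28262 L15176 L28131 L74209
theorem L74216 : sm gd N5232 = N7313 := flp_d L74215
theorem L74217 : sm gb N5104 = N7314 := rfl
theorem L74218 : sm gb N7314 = N5104 := flp_b L74217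
theorem L74219 : sm gc N7314 = N7210 := ded_13_2 L73486 L53088 L65871 L28137 L74217
theorem L74220 : sm gc N7210 = N7314 := flp_c L74219
theorem L74221 : sm gd N5104 = N7315 := rfl
theorem L74222 : sm gd N7315 = N5104 := flp_d L74221
theorem L74223 : sm ga N7315 = N5260 := ded_9_1 L28939 L28140 L74221
theorem L74224 : sm ga N5260 = N7315 := flp_a L74223
theorem L74225 : sm gf N7315 = N7212 := ded_23_2 L73789 L73784 L74202 L74199 L74221
theorem L74226 : sm gf N7212 = N7315 := flp_f L74225
theorem L74227 : sm ge N7213 = N7315 := ded_10_0 L74223 L73268 L73507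
theorem L74228 : sm ge N7315 = N7213 := flp_e L74227
theorem L74229 : sm ge N5104 = N7316 := rfl
theorem L74230 : sm ge N7316 = N5104 := flp_e L74229
theorem L74231 : sm ga N7316 = N5261 := ded_10_1 L28941 L28140 L74229
theorem L74232 : sm ga N5261 = N7316 := flp_a L74231
theorem L74233 : sm gc N7316 = N5105 := ded_19_1 L28142 L28137 L74229
theorem L74234 : sm gc N5105 = N7316 := flp_c L74233
theorem L74235 : sm gg N5104 = N7317 := rfl
theorem L74236 : sm gg N7317 = N5104 := flp_g L74235
theorem L74237 : sm ga N7317 = N5262 := ded_12_1 L28945 L28140 L74235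
theorem L74238 : sm ga N5262 = N7317 := flp_a L74237
theorem L74239 : sm gc N7317 = N5106 := ded_21_1 L28148 L28137 L74235
theorem L74240 : sm gc N5106 = N7317 := flp_c L74239
theorem L74241 : sm gf N7317 = N7236 := ded_31_1 L73663 L25722 L25727 L25761 L13528 L13486 L13484 L6719 L3791 L3788 L3803 L7611 L15100 L28137 L74235
theorem L74242 : sm gf N7236 = N7317 := flp_f L74241
theorem L74243 : sm gg N5105 = N7318 := rfl
theorem L74244 : sm gg N7318 = N5105 := flp_g L74243
theorem L74245 : sm ga N7318 = N5263 := ded_12_1 L28949 L28144 L74243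
theorem L74246 : sm ga N5263 = N7318 := flp_a L74245
theorem L74247 : sm ge N7318 = N5106 := ded_26_1 L28148 L28141 L74243
theorem L74248 : sm ge N5106 = N7318 := flp_e L74247
theorem L74249 : sm gf N7318 = N7313 := ded_28_2 L74210 L74203 L74207 L74243
theorem L74250 : sm gf N7313 = N7318 := flp_f L74249
theorem L74251 : sm gd N7318 = N5263 := ded_24_1 L28949 L15565 L28120 L28146 L74243
theorem L74252 : sm gd N5263 = N7318 := flp_d L74251
theorem L74253 : sm gf N5106 = N7319 := rfl
theorem L74254 : sm gf N7319 = N5106 := flp_f L74253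
theorem L74255 : sm ga N7319 = N5264 := ded_11_1 L28955 L28150 L74253
theorem L74256 : sm ga N5264 = N7319 := flp_a L74255
theorem L74257 : sm gc N7319 = N7236 := ded_20_1 L74242 L74239 L74253
theorem L74258 : sm gc N7236 = N7319 := flp_c L74257
theorem L74259 : sm ge N7319 = N7313 := ded_25_1 L74250 L74247 L74253
theorem L74260 : sm ge N7313 = N7319 := flp_e L74259
theorem L74261 : sm gg N7319 = N7312 := ded_28_3 L74204 L28135 L28147 L74253
theorem L74262 : sm gg N7312 = N7319 := flp_g L74261
theorem L74263 : sm ge N5111 = N7320 := rfl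
theorem L74264 : sm ge N7320 = N5111 := flp_e L74263
theorem L74265 : sm ga N7320 = N5278 := ded_10_1 L29040 L28190 L74263
theorem L74266 : sm ga N5278 = N7320 := flp_a L74265
theorem L74267 : sm gc N7320 = N5157 := ded_19_1 L28433 L72703 L74263
theorem L74268 : sm gc N5157 = N7320 := flp_c L74267
theorem L74269 : sm gf N7320 = N5156 := ded_25_2 L28427 L72705 L74263
theorem L74270 : sm gf N5156 = N7320 := flp_f L74269
theorem L74271 : sm gg N7320 = N7304 := ded_26_2 L74122 L28192 L74263
theorem L74272 : sm gg N7304 = N7320 := flp_g L74271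
theorem L74273 : sm gf N5114 = N7321 := rfl
theorem L74274 : sm gf N7321 = N5114 := flp_f L74273
theorem L74275 : sm ga N7321 = N5284 := ded_11_1 L29056 L28212 L74273
theorem L74276 : sm ga N5284 = N7321 := flp_a L74275
theorem L74277 : sm gd N7321 = N7307 := ded_23_1 L74160 L28072 L15133 L28209 L74273
theorem L74278 : sm gd N7307 = N7321 := flp_d L74277
theorem L74279 : sm ge N5115 = N7322 := rfl
theorem L74280 : sm ge N7322 = N5115 := flp_e L74279
theorem L74281 : sm ga N7322 = N5286 := ded_10_1 L29062 L28218 L74279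
theorem L74282 : sm ga N5286 = N7322 := flp_a L74281
theorem L74283 : sm gb N7322 = N7312 := ded_15_1 L74204 L28220 L74279
theorem L74284 : sm gb N7312 = N7322 := flp_b L74283
theorem L74285 : sm gc N7322 = N7315 := ded_19_1 L74228 L73508 L74279
theorem L74286 : sm gc N7315 = N7322 := flp_c L74285
theorem L74287 : sm gf N7322 = N5902 := ded_25_2 L32268 L53084 L74279
theorem L74288 : sm gf N5902 = N7322 := flp_f L74287
theorem L74289 : sm gd N7322 = N5282 := ded_22_1 L73262 L28210 L15142 L28215 L74279
theorem L74290 : sm gd N5282 = N7322 := flp_d L74289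
theorem L74291 : sm gc N5116 = N7323 := rfl
theorem L74292 : sm gc N7323 = N5116 := flp_c L74291
theorem L74293 : sm ga N7323 = N5978 := ded_8_1 L32606 L41926 L74291
theorem L74294 : sm ga N5978 = N7323 := flp_a L74293
theorem L74295 : sm gf N7323 = N5126 := ded_20_2 L28290 L51852 L74291
theorem L74296 : sm gf N5126 = N7323 := flp_f L74295
theorem L74297 : sm gb N7323 = N5126 := ded_13_1 L28290 L15201 L15153 L28226 L74291
theorem L74298 : sm gb N5126 = N7323 := flp_b L74297
theorem L74299 : sm ge N5116 = N7324 := rfl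
theorem L74300 : sm ge N7324 = N5116 := flp_e L74299
theorem L74301 : sm ga N7324 = N5979 := ded_10_1 L32608 L41926 L74299
theorem L74302 : sm ga N5979 = N7324 := flp_a L74301
theorem L74303 : sm gb N7324 = N5117 := ded_15_1 L28228 L28226 L74299
theorem L74304 : sm gb N5117 = N7324 := flp_b L74303
theorem L74305 : sm gf N7324 = N5127 := ded_25_2 L28292 L51852 L74299
theorem L74306 : sm gf N5127 = N7324 := flp_f L74305
theorem L74307 : sm gg N7324 = N7217 := ded_26_2 L73933 L73935 L74299
theorem L74308 : sm gg N7217 = N7324 := flp_g L74307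
theorem L74309 : sm gd N5117 = N7325 := rfl
theorem L74310 : sm gd N7325 = N5117 := flp_d L74309
theorem L74311 : sm ga N7325 = N5134 := ded_9_1 L28330 L28230 L74309
theorem L74312 : sm ga N5134 = N7325 := flp_a L74311
theorem L74313 : sm ge N7325 = N5120 := ded_22_2 L28246 L15156 L15149 L28227 L74309
theorem L74314 : sm ge N5120 = N7325 := flp_e L74313
theorem L74315 : sm gg N7325 = N7203 := ded_24_2 L73417 L24898 L25012 L73206 L74309
theorem L74316 : sm gg N7203 = N7325 := flp_g L74315
theorem L74317 : sm gc N5120 = N7326 := rfl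
theorem L74318 : sm gc N7326 = N5120 := flp_c L74317
theorem L74319 : sm ga N7326 = N5141 := ded_8_1 L28360 L28248 L74317
theorem L74320 : sm ga N5141 = N7326 := flp_a L74319
theorem L74321 : sm gd N7326 = N5226 := ded_30_9 L73083 L73149 L74058 L74065 L27904 L14924 L7648 L15160 L28245 L74317
theorem L74322 : sm gd N5226 = N7326 := flp_d L74321
theorem L74323 : sm gf N5651 = N7326 := ded_11_0 L74319 L73747 L31060
theorem L74324 : sm gf N7326 = N5651 := flp_f L74323
theorem L74325 : sm gb N5666 = N7326 := ded_7_0 L74319 L73750 L29504 L31052 L73082 L72998 L73008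
theorem L74326 : sm gb N7326 = N5666 := flp_b L74325
theorem L74327 : sm gf N5120 = N7327 := rfl
theorem L74328 : sm gf N7327 = N5120 := flp_f L74327
theorem L74329 : sm ga N7327 = N5142 := ded_11_1 L28362 L28248 L74327
theorem L74330 : sm ga N5142 = N7327 := flp_a L74329
theorem L74331 : sm gc N7327 = N5651 := ded_20_1 L74323 L74318 L74327
theorem L74332 : sm gc N5651 = N7327 := flp_c L74331
theorem L74333 : sm gd N5121 = N7328 := rfl
theorem L74334 : sm gd N7328 = N5121 := flp_d L74333
theorem L74335 : sm ga N7328 = N5144 := ded_9_1 L28366 L28252 L74333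
theorem L74336 : sm ga N5144 = N7328 := flp_a L74335
theorem L74337 : sm gb N7328 = N5462 := ded_14_1 L30113 L71738 L74333
theorem L74338 : sm gb N5462 = N7328 := flp_b L74337
theorem L74339 : sm ge N7328 = N5144 := ded_22_2 L28366 L15233 L51815 L28258 L74333
theorem L74340 : sm ge N5144 = N7328 := flp_e L74339
theorem L74341 : sm gg N7328 = N5170 := ded_24_2 L28502 L71736 L17110 L71644 L74333
theorem L74342 : sm gg N5170 = N7328 := flp_g L74341
theorem L74343 : sm gc N7328 = N7328 := ded_8_0 L74335 L73096 L74336
theorem L74344 : sm gc N5122 = N7329 := rfl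
theorem L74345 : sm gc N7329 = N5122 := flp_c L74344
theorem L74346 : sm ga N7329 = N5154 := ded_8_1 L28420 L28264 L74344
theorem L74347 : sm ga N5154 = N7329 := flp_a L74346
theorem L74348 : sm gf N7329 = N7299 := ded_20_2 L74082 L28268 L74344
theorem L74349 : sm gf N7299 = N7329 := flp_f L74348
theorem L74350 : sm gd N7329 = N5154 := ded_30_9 L74347 L74345 L28262 L28256 L74333 L74343 L74334 L28255 L28261 L74344
theorem L74351 : sm gd N5154 = N7329 := flp_d L74350
theorem L74352 : sm ge N5123 = N7330 := rfl
theorem L74353 : sm ge N7330 = N5123 := flp_e L74352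
theorem L74354 : sm ga N7330 = N5159 := ded_10_1 L28438 L28272 L74352
theorem L74355 : sm ga N5159 = N7330 := flp_a L74354
theorem L74356 : sm gb N7330 = N5282 := ded_15_1 L73262 L28274 L74352
theorem L74357 : sm gb N5282 = N7330 := flp_b L74356
theorem L74358 : sm gc N7330 = N7195 := ded_19_1 L73352 L73257 L74352
theorem L74359 : sm gc N7195 = N7330 := flp_c L74358
theorem L74360 : sm gg N7330 = N7207 := ded_26_2 L73462 L28511 L74352
theorem L74361 : sm gg N7207 = N7330 := flp_g L74360
theorem L74362 : sm gd N7330 = N7312 := ded_22_1 L74204 L28132 L15184 L28269 L74352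
theorem L74363 : sm gd N7312 = N7330 := flp_d L74362
theorem L74364 : sm gf N7193 = N7330 := ded_11_0 L74354 L73154 L73337
theorem L74365 : sm gf N7330 = N7193 := flp_f L74364
theorem L74366 : sm gf N5123 = N7331 := rfl
theorem L74367 : sm gf N7331 = N5123 := flp_f L74366
theorem L74368 : sm ga N7331 = N5160 := ded_11_1 L28442 L28272 L74366
theorem L74369 : sm ga N5160 = N7331 := flp_a L74368
theorem L74370 : sm gb N7331 = N7321 := ded_16_1 L74274 L28274 L74366
theorem L74371 : sm gb N7321 = N7331 := flp_b L74370
theorem L74372 : sm gc N7331 = N7194 := ded_20_1 L73347 L73257 L74366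
theorem L74373 : sm gc N7194 = N7331 := flp_c L74372
theorem L74374 : sm ge N7331 = N7193 := ded_25_1 L74364 L74353 L74366
theorem L74375 : sm ge N7193 = N7331 := flp_e L74374
theorem L74376 : sm gd N7331 = N7308 := ded_23_1 L74168 L28103 L15185 L28269 L74366
theorem L74377 : sm gd N7308 = N7331 := flp_d L74376
theorem L74378 : sm gc N5124 = N7332 := rfl
theorem L74379 : sm gc N7332 = N5124 := flp_c L74378
theorem L74380 : sm ga N7332 = N5126 := ded_8_1 L28290 L28278 L74378
theorem L74381 : sm ga N5126 = N7332 := flp_a L74380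
theorem L74382 : sm gf N7332 = N5978 := ded_20_2 L32606 L52950 L74378
theorem L74383 : sm gf N5978 = N7332 := flp_f L74382
theorem L74384 : sm gd N5635 = N7332 := ded_30_1 L74379 L28276 L15197 L15357 L65599 L28587 L52773 L29406 L29408 L30989
theorem L74385 : sm gd N7332 = N5635 := flp_d L74384
theorem L74386 : sm ge N5124 = N7333 := rfl
theorem L74387 : sm ge N7333 = N5124 := flp_e L74386
theorem L74388 : sm ga N7333 = N5127 := ded_10_1 L28292 L28278 L74386
theorem L74389 : sm ga N5127 = N7333 := flp_a L74388
theorem L74390 : sm gf N7333 = N5979 := ded_25_2 L32608 L52950 L74386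
theorem L74391 : sm gf N5979 = N7333 := flp_f L74390
theorem L74392 : sm gg N7276 = N7333 := ded_28_3 L74387 L52949 L32611 L73938
theorem L74393 : sm gg N7333 = N7276 := flp_g L74392
theorem L74394 : sm gg N5124 = N7334 := rfl
theorem L74395 : sm gg N7334 = N5124 := flp_g L74394
theorem L74396 : sm ga N7334 = N5129 := ded_12_1 L28300 L28278 L74394
theorem L74397 : sm ga N5129 = N7334 := flp_a L74396
theorem L74398 : sm ge N7334 = N7276 := ded_26_1 L74392 L74387 L74394
theorem L74399 : sm ge N7276 = N7334 := flp_e L74398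
theorem L74400 : sm gd N5126 = N7335 := rfl
theorem L74401 : sm gd N7335 = N5126 := flp_d L74400
theorem L74402 : sm ga N7335 = N5635 := ded_9_1 L74384 L74380 L74400
theorem L74403 : sm ga N5635 = N7335 := flp_a L74402
theorem L74404 : sm gc N5340 = N7335 := ded_30_0 L74401 L28290 L15200 L7657 L7729 L15369 L65621 L16553 L16569 L29409
theorem L74405 : sm gc N7335 = N5340 := flp_c L74404
theorem L74406 : sm ge N5126 = N7336 := rfl
theorem L74407 : sm ge N7336 = N5126 := flp_e L74406
theorem L74408 : sm gc N7336 = N5127 := ded_19_1 L28292 L28289 L74406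
theorem L74409 : sm gc N5127 = N7336 := flp_c L74408
theorem L74410 : sm gg N7277 = N7336 := ded_21_0 L74408 L73211 L73926
theorem L74411 : sm gg N7336 = N7277 := flp_g L74410
theorem L74412 : sm gg N5126 = N7337 := rfl
theorem L74413 : sm gg N7337 = N5126 := flp_g L74412
theorem L74414 : sm gc N7337 = N5129 := ded_21_1 L28300 L28289 L74412
theorem L74415 : sm gc N5129 = N7337 := flp_c L74414
theorem L74416 : sm ge N7337 = N7277 := ded_26_1 L74410 L74407 L74412
theorem L74417 : sm ge N7277 = N7337 := flp_e L74416
theorem L74418 : sm gd N5127 = N7338 := rfl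
theorem L74419 : sm gd N7338 = N5127 := flp_d L74418
theorem L74420 : sm gb N7338 = N5134 := ded_14_1 L28330 L28294 L74418
theorem L74421 : sm gb N5134 = N7338 := flp_b L74420
theorem L74422 : sm ge N7338 = N5130 := ded_22_2 L28304 L15204 L15199 L28291 L74418
theorem L74423 : sm ge N5130 = N7338 := flp_e L74422
theorem L74424 : sm gg N7338 = N7248 := ded_24_2 L73728 L25775 L25951 L73210 L74418
theorem L74425 : sm gg N7248 = N7338 := flp_g L74424
theorem L74426 : sm gd N5129 = N7339 := rfl
theorem L74427 : sm gd N7339 = N5129 := flp_d L74426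
theorem L74428 : sm gb N7339 = N5139 := ded_14_1 L28350 L28302 L74426
theorem L74429 : sm gb N5139 = N7339 := flp_b L74428
theorem L74430 : sm ge N7339 = N7279 := ded_22_2 L73941 L25956 L25951 L73209 L74426
theorem L74431 : sm ge N7279 = N7339 := flp_e L74430
theorem L74432 : sm gg N7339 = N5133 := ded_24_2 L28326 L15216 L15199 L28299 L74426
theorem L74433 : sm gg N5133 = N7339 := flp_g L74432
theorem L74434 : sm gc N5130 = N7340 := rfl
theorem L74435 : sm gc N7340 = N5130 := flp_c L74434
theorem L74436 : sm gf N5130 = N7341 := rfl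
theorem L74437 : sm gf N7341 = N5130 := flp_f L74436
theorem L74438 : sm gb N7341 = N5142 := ded_16_1 L28362 L28306 L74436
theorem L74439 : sm gb N5142 = N7341 := flp_b L74438
theorem L74440 : sm gg N5130 = N7342 := rfl
theorem L74441 : sm gg N7342 = N5130 := flp_g L74440
theorem L74442 : sm ga N7342 = N5222 := ded_12_1 L72375 L28467 L74440
theorem L74443 : sm ga N5222 = N7342 := flp_a L74442
theorem L74444 : sm gb N7342 = N5143 := ded_17_1 L28364 L28306 L74440
theorem L74445 : sm gb N5143 = N7342 := flp_b L74444
theorem L74446 : sm ge N7342 = N7248 := ded_26_1 L74425 L74422 L74440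
theorem L74447 : sm ge N7248 = N7342 := flp_e L74446
theorem L74448 : sm gd N7342 = N5327 := ded_24_1 L51892 L16818 L41300 L28303 L74440
theorem L74449 : sm gd N5327 = N7342 := flp_d L74448
theorem L74450 : sm gc N5133 = N7343 := rfl
theorem L74451 : sm gc N7343 = N5133 := flp_c L74450
theorem L74452 : sm gf N7343 = N5967 := ded_20_2 L32576 L71659 L74450
theorem L74453 : sm gf N5967 = N7343 := flp_f L74452
theorem L74454 : sm ge N5133 = N7344 := rfl
theorem L74455 : sm ge N7344 = N5133 := flp_e L74454
theorem L74456 : sm ga N7344 = N5596 := ded_10_1 L73033 L72765 L74454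
theorem L74457 : sm ga N5596 = N7344 := flp_a L74456
theorem L74458 : sm gb N7344 = N5148 := ded_15_1 L28376 L28328 L74454
theorem L74459 : sm gb N5148 = N7344 := flp_b L74458
theorem L74460 : sm gf N7344 = N5740 := ded_25_2 L31457 L71659 L74454
theorem L74461 : sm gf N5740 = N7344 := flp_f L74460
theorem L74462 : sm gg N7344 = N7279 := ded_26_2 L74431 L74432 L74454
theorem L74463 : sm gg N7279 = N7344 := flp_g L74462
theorem L74464 : sm gd N7344 = N5322 := ded_22_1 L66078 L16818 L71911 L28325 L74454
theorem L74465 : sm gd N5322 = N7344 := flp_d L74464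
theorem L74466 : sm gc N5134 = N7345 := rfl
theorem L74467 : sm gc N7345 = N5134 := flp_c L74466
theorem L74468 : sm ge N7345 = N5141 := ded_19_2 L28360 L28332 L74466
theorem L74469 : sm ge N5141 = N7345 := flp_e L74468
theorem L74470 : sm gg N7345 = N7249 := ded_21_2 L73732 L73164 L74466
theorem L74471 : sm gg N7249 = N7345 := flp_g L74470
theorem L74472 : sm gd N5289 = N7345 := ded_22_5 L74468 L73752 L73077 L27895 L29072
theorem L74473 : sm gd N7345 = N5289 := flp_d L74472
theorem L74474 : sm gf N5134 = N7346 := rfl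
theorem L74475 : sm gf N7346 = N5134 := flp_f L74474
theorem L74476 : sm ge N7346 = N5142 := ded_25_1 L28362 L28332 L74474
theorem L74477 : sm ge N5142 = N7346 := flp_e L74476
theorem L74478 : sm gc N5139 = N7347 := rfl
theorem L74479 : sm gc N7347 = N5139 := flp_c L74478
theorem L74480 : sm ge N7347 = N7280 := ded_19_2 L73949 L73162 L74478
theorem L74481 : sm ge N7280 = N7347 := flp_e L74480
theorem L74482 : sm gf N7347 = N7283 := ded_20_2 L73967 L73298 L74478
theorem L74483 : sm gf N7283 = N7347 := flp_f L74482
theorem L74484 : sm gg N7347 = N5147 := ded_21_2 L28374 L28352 L74478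
theorem L74485 : sm gg N5147 = N7347 := flp_g L74484
theorem L74486 : sm gd N7284 = N7347 := ded_24_5 L74484 L73913 L73907 L73699 L73972
theorem L74487 : sm gd N7347 = N7284 := flp_d L74486
theorem L74488 : sm gg N5141 = N7348 := rfl
theorem L74489 : sm gg N7348 = N5141 := flp_g L74488
theorem L74490 : sm gc N7348 = N5143 := ded_21_1 L28364 L28359 L74488
theorem L74491 : sm gc N5143 = N7348 := flp_c L74490
theorem L74492 : sm ge N7348 = N7249 := ded_26_1 L74471 L74468 L74488
theorem L74493 : sm ge N7249 = N7348 := flp_e L74492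
theorem L74494 : sm gd N7348 = N7320 := ded_24_1 L74271 L74131 L73074 L73751 L74488
theorem L74495 : sm gd N7320 = N7348 := flp_d L74494
theorem L74496 : sm gd N5142 = N7349 := rfl
theorem L74497 : sm gd N7349 = N5142 := flp_d L74496
theorem L74498 : sm gf N7349 = N5144 := ded_23_2 L28366 L15230 L15227 L28361 L74496
theorem L74499 : sm gf N5144 = N7349 := flp_f L74498
theorem L74500 : sm gc N7349 = N7349 := ded_30_8 L74497 L74330 L74331 L31058 L16638 L9006 L15829 L29484 L73745 L74496
theorem L74501 : sm gf N5143 = N7350 := rfl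
theorem L74502 : sm gf N7350 = N5143 := flp_f L74501
theorem L74503 : sm ge N7350 = N7250 := ded_25_1 L73740 L73102 L74501
theorem L74504 : sm ge N7250 = N7350 := flp_e L74503
theorem L74505 : sm gg N7350 = N7346 := ded_28_3 L74476 L28362 L28363 L74501
theorem L74506 : sm gg N7346 = N7350 := flp_g L74505
theorem L74507 : sm gb N5147 = N7351 := rfl
theorem L74508 : sm gb N7351 = N5147 := flp_b L74507
theorem L74509 : sm ge N5147 = N7352 := rfl
theorem L74510 : sm ge N7352 = N5147 := flp_e L74509
theorem L74511 : sm gc N7352 = N5148 := ded_19_1 L28376 L28373 L74509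
theorem L74512 : sm gc N5148 = N7352 := flp_c L74511
theorem L74513 : sm gg N7352 = N7280 := ded_26_2 L74481 L74484 L74509
theorem L74514 : sm gg N7280 = N7352 := flp_g L74513
theorem L74515 : sm gf N7352 = N7290 := ded_28_0 L74012 L74483 L74484 L74509
theorem L74516 : sm gf N7290 = N7352 := flp_f L74515
theorem L74517 : sm gf N5147 = N7353 := rfl
theorem L74518 : sm gf N7353 = N5147 := flp_f L74517
theorem L74519 : sm gc N7353 = N5149 := ded_20_1 L28378 L28373 L74517
theorem L74520 : sm gc N5149 = N7353 := flp_c L74519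
theorem L74521 : sm ge N7353 = N7290 := ded_25_1 L74516 L74510 L74517
theorem L74522 : sm ge N7290 = N7353 := flp_e L74521
theorem L74523 : sm gc N5150 = N7354 := rfl
theorem L74524 : sm gc N7354 = N5150 := flp_c L74523
theorem L74525 : sm ga N7354 = N7296 := ded_8_1 L74065 L28384 L74523
theorem L74526 : sm ga N7296 = N7354 := flp_a L74525
theorem L74527 : sm gf N7354 = N7296 := ded_20_2 L74065 L72517 L74523
theorem L74528 : sm gf N7296 = N7354 := flp_f L74527
theorem L74529 : sm gb N7333 = N7354 := ded_29_1 L74524 L28383 L41923 L32605 L74294 L74297 L28290 L28291 L74389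
theorem L74530 : sm gb N7354 = N7333 := flp_b L74529
theorem L74531 : sm ge N7354 = N5150 := ded_29_9 L28383 L41923 L32605 L74294 L74297 L28290 L28278 L28386 L74523
theorem L74532 : sm ge N5150 = N7354 := flp_e L74531
theorem L74533 : sm gd N7354 = N5167 := ded_30_9 L28491 L73150 L73751 L28360 L15228 L7663 L7673 L15267 L28381 L74523
theorem L74534 : sm gd N5167 = N7354 := flp_d L74533
theorem L74535 : sm gg N7354 = N7264 := ded_28_1 L74080 L74074 L74063 L74528
theorem L74536 : sm gg N7264 = N7354 := flp_g L74535
theorem L74537 : sm gg N5150 = N7355 := rfl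
theorem L74538 : sm gg N7355 = N5150 := flp_g L74537
theorem L74539 : sm ga N7355 = N7298 := ded_12_1 L74074 L28384 L74537
theorem L74540 : sm ga N7298 = N7355 := flp_a L74539
theorem L74541 : sm gb N7355 = N7334 := ded_17_1 L74395 L28386 L74537
theorem L74542 : sm gb N7334 = N7355 := flp_b L74541
theorem L74543 : sm gc N7355 = N7264 := ded_21_1 L74536 L74524 L74537
theorem L74544 : sm gc N7264 = N7355 := flp_c L74543
theorem L74545 : sm ge N7355 = N7264 := ded_26_1 L74536 L74531 L74537
theorem L74546 : sm ge N7264 = N7355 := flp_e L74545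
theorem L74547 : sm gd N7355 = N7262 := ded_24_1 L74192 L74193 L28388 L28381 L74537
theorem L74548 : sm gd N7262 = N7355 := flp_d L74547
theorem L74549 : sm gc N5152 = N7356 := rfl
theorem L74550 : sm gc N7356 = N5152 := flp_c L74549
theorem L74551 : sm ga N7356 = N7299 := ded_8_1 L74082 L28402 L74549
theorem L74552 : sm ga N7299 = N7356 := flp_a L74551
theorem L74553 : sm ge N7356 = N7329 := ded_19_2 L74345 L28406 L74549
theorem L74554 : sm ge N7329 = N7356 := flp_e L74553
theorem L74555 : sm gf N7356 = N5154 := ded_20_2 L28420 L28408 L74549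
theorem L74556 : sm gf N5154 = N7356 := flp_f L74555
theorem L74557 : sm gb N7356 = N7225 := ded_13_1 L73600 L25659 L72480 L28404 L74549
theorem L74558 : sm gb N7225 = N7356 := flp_b L74557
theorem L74559 : sm gb N5154 = N7357 := rfl
theorem L74560 : sm gb N7357 = N5154 := flp_b L74559
theorem L74561 : sm gf N7357 = N7225 := ded_16_2 L74558 L74555 L74559
theorem L74562 : sm gf N7225 = N7357 := flp_f L74561
theorem L74563 : sm gc N7357 = N5245 := ded_13_2 L28879 L15546 L15294 L28419 L74559
theorem L74564 : sm gc N5245 = N7357 := flp_c L74563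
theorem L74565 : sm gg N5154 = N7358 := rfl
theorem L74566 : sm gg N7358 = N5154 := flp_g L74565
theorem L74567 : sm gc N7358 = N5155 := ded_21_1 L28422 L28419 L74565
theorem L74568 : sm gc N5155 = N7358 := flp_c L74567
theorem L74569 : sm gb N5156 = N7359 := rfl
theorem L74570 : sm gb N7359 = N5156 := flp_b L74569
theorem L74571 : sm ge N7359 = N5249 := ded_15_2 L28895 L28428 L74569
theorem L74572 : sm ge N5249 = N7359 := flp_e L74571
theorem L74573 : sm gg N7359 = N5961 := ded_17_2 L74112 L74120 L74569
theorem L74574 : sm gg N5961 = N7359 := flp_g L74573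
theorem L74575 : sm gc N7359 = N5249 := ded_13_2 L28895 L15550 L15298 L28425 L74569
theorem L74576 : sm gc N5249 = N7359 := flp_c L74575
theorem L74577 : sm gd N5564 = N7359 := ded_22_5 L74571 L72729 L16393 L16390 L30676
theorem L74578 : sm gd N7359 = N5564 := flp_d L74577
theorem L74579 : sm gd N5156 = N7360 := rfl
theorem L74580 : sm gd N7360 = N5156 := flp_d L74579
theorem L74581 : sm gb N7360 = N5564 := ded_14_1 L74577 L74570 L74579
theorem L74582 : sm gb N5564 = N7360 := flp_b L74581
theorem L74583 : sm ge N7360 = N5561 := ded_22_2 L30664 L16519 L72727 L28428 L74579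
theorem L74584 : sm ge N5561 = N7360 := flp_e L74583
theorem L74585 : sm gf N7253 = N7360 := ded_25_0 L74583 L72714 L73765
theorem L74586 : sm gf N7360 = N7253 := flp_f L74585
theorem L74587 : sm gb N5161 = N7361 := rfl
theorem L74588 : sm gb N7361 = N5161 := flp_b L74587
theorem L74589 : sm ge N7361 = N7265 := ded_15_2 L73848 L73812 L74587
theorem L74590 : sm ge N7265 = N7361 := flp_e L74589
theorem L74591 : sm gf N7361 = N5259 := ded_16_2 L28937 L28450 L74587
theorem L74592 : sm gf N5259 = N7361 := flp_f L74591
theorem L74593 : sm gc N7361 = N5259 := ded_13_2 L28937 L15562 L15308 L28447 L74587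
theorem L74594 : sm gc N5259 = N7361 := flp_c L74593
theorem L74595 : sm ga N7267 = N7361 := ded_29_0 L74588 L28448 L28134 L28220 L73509 L73506 L73853 L73851 L73856
theorem L74596 : sm ga N7361 = N7267 := flp_a L74595
theorem L74597 : sm gg N5161 = N7362 := rfl
theorem L74598 : sm gg N7362 = N5161 := flp_g L74597
theorem L74599 : sm gc N7362 = N5163 := ded_21_1 L28460 L28447 L74597
theorem L74600 : sm gc N5163 = N7362 := flp_c L74599
theorem L74601 : sm gc N5164 = N7363 := rfl
theorem L74602 : sm gc N7363 = N5164 := flp_c L74601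
theorem L74603 : sm ga N7363 = N7340 := ded_8_1 L74435 L28468 L74601
theorem L74604 : sm ga N7340 = N7363 := flp_a L74603
theorem L74605 : sm ge N5164 = N7364 := rfl
theorem L74606 : sm ge N7364 = N5164 := flp_e L74605
theorem L74607 : sm ga N7364 = N7338 := ded_10_1 L74422 L28468 L74605
theorem L74608 : sm ga N7338 = N7364 := flp_a L74607
theorem L74609 : sm gb N7364 = N5167 := ded_15_1 L28490 L28470 L74605
theorem L74610 : sm gb N5167 = N7364 := flp_b L74609
theorem L74611 : sm gd N7364 = N7333 := ded_22_1 L74387 L28276 L15314 L28465 L74605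
theorem L74612 : sm gd N7333 = N7364 := flp_d L74611
theorem L74613 : sm gf N5164 = N7365 := rfl
theorem L74614 : sm gf N7365 = N5164 := flp_f L74613
theorem L74615 : sm ga N7365 = N7341 := ded_11_1 L74437 L28468 L74613
theorem L74616 : sm ga N7341 = N7365 := flp_a L74615
theorem L74617 : sm gb N7365 = N5168 := ded_16_1 L28494 L28470 L74613
theorem L74618 : sm gb N5168 = N7365 := flp_b L74617
theorem L74619 : sm gf N5167 = N7366 := rfl
theorem L74620 : sm gf N7366 = N5167 := flp_f L74619
theorem L74621 : sm ga N7366 = N5647 := ded_11_1 L73041 L28492 L74619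
theorem L74622 : sm ga N5647 = N7366 := flp_a L74621
theorem L74623 : sm gc N7366 = N5207 := ded_20_1 L28784 L72367 L74619
theorem L74624 : sm gc N5207 = N7366 := flp_c L74623
theorem L74625 : sm ge N7366 = N5168 := ded_25_1 L28494 L28489 L74619
theorem L74626 : sm ge N5168 = N7366 := flp_e L74625
theorem L74627 : sm gg N5205 = N7366 := ded_28_1 L74620 L72377 L28772 L28699
theorem L74628 : sm gg N7366 = N5205 := flp_g L74627
theorem L74629 : sm gd N7366 = N5647 := ded_23_1 L73041 L74058 L74528 L74533 L74619
theorem L74630 : sm gd N5647 = N7366 := flp_d L74629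
theorem L74631 : sm gd N5168 = N7367 := rfl
theorem L74632 : sm gd N7367 = N5168 := flp_d L74631
theorem L74633 : sm ga N7367 = N7297 := ded_9_1 L74067 L28496 L74631
theorem L74634 : sm ga N7297 = N7367 := flp_a L74633
theorem L74635 : sm ge N7367 = N7297 := ded_22_2 L74067 L73039 L74630 L74625 L74631
theorem L74636 : sm ge N7297 = N7367 := flp_e L74635
theorem L74637 : sm gf N7367 = N5170 := ded_23_2 L28502 L15324 L15319 L28493 L74631
theorem L74638 : sm gf N5170 = N7367 := flp_f L74637
theorem L74639 : sm gc N7367 = N7367 := ded_8_0 L74633 L74072 L74634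
theorem L74640 : sm gg N7349 = N7367 := ded_28_3 L74635 L74070 L28368 L74499
theorem L74641 : sm gg N7367 = N7349 := flp_g L74640
theorem L74642 : sm gg N5168 = N7368 := rfl
theorem L74643 : sm gg N7368 = N5168 := flp_g L74642
theorem L74644 : sm ga N7368 = N7231 := ded_12_1 L73637 L28496 L74642
theorem L74645 : sm ga N7231 = N7368 := flp_a L74644
theorem L74646 : sm gc N7368 = N5206 := ded_21_1 L28794 L72369 L74642
theorem L74647 : sm gc N5206 = N7368 := flp_c L74646
theorem L74648 : sm ge N7368 = N5205 := ded_26_1 L74627 L74625 L74642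
theorem L74649 : sm ge N5205 = N7368 := flp_e L74648
theorem L74650 : sm gf N5224 = N7368 := ded_28_0 L74643 L28494 L41493 L28771
theorem L74651 : sm gf N7368 = N5224 := flp_f L74650
theorem L74652 : sm gd N7368 = N7250 := ded_24_1 L73744 L74496 L74640 L74632 L74642
theorem L74653 : sm gd N7250 = N7368 := flp_d L74652
theorem L74654 : sm gf N5171 = N7369 := rfl
theorem L74655 : sm gf N7369 = N5171 := flp_f L74654
theorem L74656 : sm ga N7369 = N7234 := ded_11_1 L73651 L28508 L74654
theorem L74657 : sm ga N7234 = N7369 := flp_a L74656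
theorem L74658 : sm gb N7369 = N5284 := ded_16_1 L29056 L28510 L74654
theorem L74659 : sm gb N5284 = N7369 := flp_b L74658
theorem L74660 : sm gc N7369 = N7181 := ded_20_1 L73473 L73470 L74654
theorem L74661 : sm gc N7181 = N7369 := flp_c L74660
theorem L74662 : sm gg N7369 = N7193 := ded_28_3 L74375 L74367 L28512 L74654
theorem L74663 : sm gg N7193 = N7369 := flp_g L74662
theorem L74664 : sm gd N7369 = N5252 := ded_23_1 L28909 L28410 L15343 L28505 L74654
theorem L74665 : sm gd N5252 = N7369 := flp_d L74664
theorem L74666 : sm gc N5176 = N7370 := rfl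
theorem L74667 : sm gc N7370 = N5176 := flp_c L74666
theorem L74668 : sm ga N7370 = N5195 := ded_8_1 L28650 L28540 L74666
theorem L74669 : sm ga N5195 = N7370 := flp_a L74668
theorem L74670 : sm ge N5176 = N7371 := rfl
theorem L74671 : sm ge N7371 = N5176 := flp_e L74670
theorem L74672 : sm ga N7371 = N5196 := ded_10_1 L28652 L28540 L74670
theorem L74673 : sm ga N5196 = N7371 := flp_a L74672
theorem L74674 : sm gg N5666 = N7371 := ded_28_3 L74671 L73146 L31130 L31127
theorem L74675 : sm gg N7371 = N5666 := flp_g L74674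
theorem L74676 : sm gd N7371 = N5624 := ded_22_1 L30947 L52883 L15583 L28537 L74670
theorem L74677 : sm gd N5624 = N7371 := flp_d L74676
theorem L74678 : sm gg N5176 = N7372 := rfl
theorem L74679 : sm gg N7372 = N5176 := flp_g L74678
theorem L74680 : sm ga N7372 = N5197 := ded_12_1 L28656 L28540 L74678
theorem L74681 : sm ga N5197 = N7372 := flp_a L74680
theorem L74682 : sm ge N7372 = N5666 := ded_26_1 L74674 L74671 L74678
theorem L74683 : sm ge N5666 = N7372 := flp_e L74682
theorem L74684 : sm gf N5659 = N7372 := ded_28_0 L74679 L73146 L31130 L31102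
theorem L74685 : sm gf N7372 = N5659 := flp_f L74684
theorem L74686 : sm gd N7372 = N6008 := ded_24_1 L32734 L17346 L52877 L28537 L74678
theorem L74687 : sm gd N6008 = N7372 := flp_d L74686
theorem L74688 : sm gc N5177 = N7373 := rfl
theorem L74689 : sm gc N7373 = N5177 := flp_c L74688
theorem L74690 : sm ga N7373 = N5199 := ded_8_1 L28665 L28544 L74688
theorem L74691 : sm ga N5199 = N7373 := flp_a L74690
theorem L74692 : sm gf N7373 = N5199 := ded_20_2 L28665 L28547 L74688
theorem L74693 : sm gf N5199 = N7373 := flp_f L74692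
theorem L74694 : sm gg N7373 = N7357 := ded_21_2 L74563 L72492 L74688
theorem L74695 : sm gg N7357 = N7373 := flp_g L74694
theorem L74696 : sm gb N7373 = N7358 := ded_13_1 L74567 L28423 L72449 L28546 L74688
theorem L74697 : sm gb N7358 = N7373 := flp_b L74696
theorem L74698 : sm gd N5184 = N7374 := rfl
theorem L74699 : sm gd N7374 = N5184 := flp_d L74698
theorem L74700 : sm ga N7374 = N5630 := ded_9_1 L72940 L72806 L74698
theorem L74701 : sm ga N5630 = N7374 := flp_a L74700
theorem L74702 : sm gb N7374 = N5203 := ded_14_1 L28687 L28596 L74698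
theorem L74703 : sm gb N5203 = N7374 := flp_b L74702
theorem L74704 : sm gf N7374 = N5336 := ded_23_2 L29379 L52777 L28588 L28593 L74698
theorem L74705 : sm gf N5336 = N7374 := flp_f L74704
theorem L74706 : sm gg N7374 = N5565 := ded_24_2 L72758 L73586 L73587 L28629 L74698

end Cfsg.Agent.Helper28.HeA
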