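import Cfsg.Agent.Helper28.HeB5

/-! # The Held group presentation, cosets of the subgroup generated by a, c, d, e, f, (ab)², (bcde)⁷: the coset enumeration, part 6 (helper28; generated) -/

set_option autoImplicit false

noncomputable section

namespace Cfsg.Agent.Helper28.HeA

open Cfsg.Agent.Helper28.CosetTable

theorem L74707 : sm gg N5565 = N7374 := flp_g L74706
theorem L74708 : sm gc N5186 = N7375 := rfl
theorem L74709 : sm gc N7375 = N5186 := flp_c L74708
theorem L74710 : sm gf N7375 = N5195 := ded_20_2 L28650 L28610 L74708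
theorem L74711 : sm gf N5195 = N7375 := flp_f L74710
theorem L74712 : sm gg N7375 = N6043 := ded_21_2 L32930 L73003 L74708
theorem L74713 : sm gg N6043 = N7375 := flp_g L74712
theorem L74714 : sm ge N5186 = N7376 := rfl
theorem L74715 : sm ge N7376 = N5186 := flp_e L74714
theorem L74716 : sm gb N7376 = N5206 := ded_15_1 L28701 L28608 L74714
theorem L74717 : sm gb N5206 = N7376 := flp_b L74716
theorem L74718 : sm gf N7376 = N5196 := ded_25_2 L28652 L28610 L74714
theorem L74719 : sm gf N5196 = N7376 := flp_f L74718
theorem L74720 : sm gg N7376 = N6044 := ded_26_2 L32932 L73003 L74714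
theorem L74721 : sm gg N6044 = N7376 := flp_g L74720
theorem L74722 : sm gc N5188 = N7377 := rfl
theorem L74723 : sm gc N7377 = N5188 := flp_c L74722
theorem L74724 : sm ga N7377 = N7357 := ded_8_1 L74563 L73057 L74722
theorem L74725 : sm ga N7357 = N7377 := flp_a L74724
theorem L74726 : sm ge N7377 = N7225 := ded_19_2 L73600 L72359 L74722
theorem L74727 : sm ge N7225 = N7377 := flp_e L74726
theorem L74728 : sm gg N7377 = N5199 := ded_21_2 L28665 L28622 L74722
theorem L74729 : sm gg N5199 = N7377 := flp_g L74728
theorem L74730 : sm gb N7377 = N7329 := ded_13_1 L74345 L28265 L72466 L28620 L74722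
theorem L74731 : sm gb N7329 = N7377 := flp_b L74730
theorem L74732 : sm gd N7377 = N7357 := ded_30_9 L74725 L74723 L28618 L28586 L72760 L72819 L72761 L28585 L28617 L74722
theorem L74733 : sm gd N7357 = N7377 := flp_d L74732
theorem L74734 : sm gb N5195 = N7378 := rfl
theorem L74735 : sm gb N7378 = N5195 := flp_b L74734
theorem L74736 : sm gc N7378 = N5222 := ded_13_2 L28767 L15488 L15404 L28649 L74734
theorem L74737 : sm gc N5222 = N7378 := flp_c L74736
theorem L74738 : sm gg N7363 = N7378 := ded_21_0 L74736 L72375 L74601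
theorem L74739 : sm gg N7378 = N7363 := flp_g L74738
theorem L74740 : sm gd N5195 = N7379 := rfl
theorem L74741 : sm gd N7379 = N5195 := flp_d L74740
theorem L74742 : sm gc N5662 = N7379 := ded_30_2 L74741 L28650 L15402 L71975 L53006 L16121 L30068 L30070 L32543 L73028
theorem L74743 : sm gc N7379 = N5662 := flp_c L74742
theorem L74744 : sm ge N7379 = N7302 := ded_19_2 L74102 L72583 L74742
theorem L74745 : sm ge N7302 = N7379 := flp_e L74744
theorem L74746 : sm gg N7379 = N5657 := ded_21_2 L31093 L31111 L74742
theorem L74747 : sm gg N5657 = N7379 := flp_g L74746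
theorem L74748 : sm ge N5195 = N7380 := rfl
theorem L74749 : sm ge N7380 = N5195 := flp_e L74748
theorem L74750 : sm gc N7380 = N5196 := ded_19_1 L28652 L28649 L74748
theorem L74751 : sm gc N5196 = N7380 := flp_c L74750
theorem L74752 : sm gg N5195 = N7381 := rfl
theorem L74753 : sm gg N7381 = N5195 := flp_g L74752
theorem L74754 : sm gb N7381 = N7363 := ded_17_1 L74738 L74735 L74752
theorem L74755 : sm gb N7363 = N7381 := flp_b L74754
theorem L74756 : sm gc N7381 = N5197 := ded_21_1 L28656 L28649 L74752
theorem L74757 : sm gc N5197 = N7381 := flp_c L74756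
theorem L74758 : sm gb N5199 = N7382 := rfl
theorem L74759 : sm gb N7382 = N5199 := flp_b L74758
theorem L74760 : sm gf N7382 = N7358 := ded_16_2 L74697 L74692 L74758
theorem L74761 : sm gf N7358 = N7382 := flp_f L74760
theorem L74762 : sm gg N7382 = N7329 := ded_17_2 L74731 L74728 L74758
theorem L74763 : sm gg N7329 = N7382 := flp_g L74762
theorem L74764 : sm gc N7382 = N5232 := ded_13_2 L28813 L15496 L15416 L28664 L74758
theorem L74765 : sm gc N5232 = N7382 := flp_c L74764
theorem L74766 : sm ga N7358 = N7382 := ded_29_6 L74759 L28665 L41347 L30057 L42048 L72504 L28087 L28424 L74568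
theorem L74767 : sm ga N7382 = N7358 := flp_a L74766
theorem L74768 : sm gd N5199 = N7383 := rfl
theorem L74769 : sm gd N7383 = N5199 := flp_d L74768
theorem L74770 : sm gd N5201 = N7384 := rfl
theorem L74771 : sm gd N7384 = N5201 := flp_d L74770
theorem L74772 : sm ga N7384 = N7227 := ded_9_1 L73618 L28673 L74770
theorem L74773 : sm ga N7227 = N7384 := flp_a L74772
theorem L74774 : sm gb N7384 = N5336 := ded_14_1 L29379 L52751 L74770
theorem L74775 : sm gb N5336 = N7384 := flp_b L74774
theorem L74776 : sm gf N7384 = N5203 := ded_23_2 L28687 L15434 L15425 L28670 L74770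
theorem L74777 : sm gf N5203 = N7384 := flp_f L74776
theorem L74778 : sm gg N7384 = N7360 := ded_24_2 L74580 L74119 L74108 L41708 L74770
theorem L74779 : sm gg N7360 = N7384 := flp_g L74778
theorem L74780 : sm gc N5203 = N7385 := rfl
theorem L74781 : sm gc N7385 = N5203 := flp_c L74780
theorem L74782 : sm ga N7385 = N7228 := ded_8_1 L73624 L28689 L74780
theorem L74783 : sm ga N7228 = N7385 := flp_a L74782
theorem L74784 : sm gg N7385 = N7252 := ded_21_2 L73764 L73122 L74780
theorem L74785 : sm gg N7252 = N7385 := flp_g L74784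
theorem L74786 : sm gd N7273 = N7385 := ded_31_2 L74781 L73121 L72715 L30664 L16389 L16387 L52794 L7824 L3882 L3885 L7838 L15622 L72709 L73906 L73911
theorem L74787 : sm gd N7385 = N7273 := flp_d L74786
theorem L74788 : sm ge N5203 = N7386 := rfl
theorem L74789 : sm ge N7386 = N5203 := flp_e L74788
theorem L74790 : sm ga N7386 = N7229 := ded_10_1 L73626 L28689 L74788
theorem L74791 : sm ga N7229 = N7386 := flp_a L74790
theorem L74792 : sm gg N7386 = N7253 := ded_26_2 L73766 L73122 L74788
theorem L74793 : sm gg N7253 = N7386 := flp_g L74792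
theorem L74794 : sm gd N7386 = N5206 := ded_22_1 L28701 L15450 L15440 L28686 L74788
theorem L74795 : sm gd N5206 = N7386 := flp_d L74794
theorem L74796 : sm gb N5205 = N7387 := rfl
theorem L74797 : sm gb N7387 = N5205 := flp_b L74796
theorem L74798 : sm gf N7387 = N5222 := ded_16_2 L28767 L28699 L74796
theorem L74799 : sm gf N5222 = N7387 := flp_f L74798
theorem L74800 : sm gd N5205 = N7388 := rfl
theorem L74801 : sm gd N7388 = N5205 := flp_d L74800
theorem L74802 : sm ga N7388 = N7230 := ded_9_1 L73630 L28697 L74800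
theorem L74803 : sm ga N7230 = N7388 := flp_a L74802
theorem L74804 : sm gf N7388 = N7221 := ded_23_2 L73561 L25219 L72382 L28699 L74800
theorem L74805 : sm gf N7221 = N7388 := flp_f L74804
theorem L74806 : sm gg N7388 = N7230 := ded_24_2 L73630 L72855 L74630 L74628 L74800
theorem L74807 : sm gg N7230 = N7388 := flp_g L74806
theorem L74808 : sm ge N5222 = N7389 := rfl
theorem L74809 : sm ge N7389 = N5222 := flp_e L74808
theorem L74810 : sm ga N7389 = N7248 := ded_10_1 L74447 L74442 L74808
theorem L74811 : sm ga N7248 = N7389 := flp_a L74810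
theorem L74812 : sm gb N7389 = N5224 := ded_15_1 L28772 L28766 L74808
theorem L74813 : sm gb N5224 = N7389 := flp_b L74812
theorem L74814 : sm gg N7389 = N7364 := ded_26_2 L74606 L72376 L74808
theorem L74815 : sm gg N7364 = N7389 := flp_g L74814
theorem L74816 : sm gd N7389 = N5602 := ded_22_1 L30840 L16485 L16486 L72374 L74808
theorem L74817 : sm gd N5602 = N7389 := flp_d L74816
theorem L74818 : sm gd N5228 = N7390 := rfl
theorem L74819 : sm gd N7390 = N5228 := flp_d L74818
theorem L74820 : sm gb N7390 = N5352 := ded_14_1 L73012 L72997 L74818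
theorem L74821 : sm gb N5352 = N7390 := flp_b L74820
theorem L74822 : sm ge N7390 = N5349 := ded_22_2 L29485 L16626 L72604 L28792 L74818
theorem L74823 : sm ge N5349 = N7390 := flp_e L74822
theorem L74824 : sm gf N7390 = N7345 := ded_23_2 L74473 L41426 L41483 L28789 L74818
theorem L74825 : sm gf N7345 = N7390 := flp_f L74824
theorem L74826 : sm gc N7390 = N7346 := ded_31_3 L74506 L74502 L72679 L72889 L64351 L26411 L26299 L13286 L25203 L25219 L72382 L15488 L15491 L28789 L74818
theorem L74827 : sm gc N7346 = N7390 := flp_c L74826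
theorem L74828 : sm gc N5233 = N7391 := rfl
theorem L74829 : sm gc N7391 = N5233 := flp_c L74828
theorem L74830 : sm ga N7391 = N7274 := ded_8_1 L73908 L73052 L74828
theorem L74831 : sm ga N7274 = N7391 := flp_a L74830
theorem L74832 : sm gg N7391 = N7213 := ded_21_2 L73508 L73051 L74828
theorem L74833 : sm gg N7213 = N7391 := flp_g L74832
theorem L74834 : sm gd N7391 = N7309 := ded_30_9 L74181 L28374 L15258 L7671 L3831 L3858 L7785 L15495 L28814 L74828
theorem L74835 : sm gd N7309 = N7391 := flp_d L74834
theorem L74836 : sm ge N5233 = N7392 := rfl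
theorem L74837 : sm ge N7392 = N5233 := flp_e L74836
theorem L74838 : sm gb N7392 = N7319 := ded_15_1 L74259 L74213 L74836
theorem L74839 : sm gb N7319 = N7392 := flp_b L74838
theorem L74840 : sm gg N7392 = N7322 := ded_26_2 L74280 L73051 L74836
theorem L74841 : sm gg N7322 = N7392 := flp_g L74840
theorem L74842 : sm gf N7392 = N5904 := ded_28_0 L32272 L53084 L73051 L74836
theorem L74843 : sm gf N5904 = N7392 := flp_f L74842
theorem L74844 : sm gf N5233 = N7393 := rfl
theorem L74845 : sm gf N7393 = N5233 := flp_f L74844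
theorem L74846 : sm gb N7393 = N7318 := ded_16_1 L74249 L74213 L74844
theorem L74847 : sm gb N7318 = N7393 := flp_b L74846
theorem L74848 : sm ge N7393 = N5904 := ded_25_1 L74843 L74837 L74844
theorem L74849 : sm ge N5904 = N7393 := flp_e L74848
theorem L74850 : sm gg N7393 = N5902 := ded_28_3 L32268 L53084 L73051 L74844
theorem L74851 : sm gg N5902 = N7393 := flp_g L74850
theorem L74852 : sm gd N7393 = N5264 := ded_23_1 L28955 L15569 L72459 L28814 L74844
theorem L74853 : sm gd N5264 = N7393 := flp_d L74852
theorem L74854 : sm gd N5238 = N7394 := rfl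
theorem L74855 : sm gd N7394 = N5238 := flp_d L74854
theorem L74856 : sm ga N7394 = N7232 := ded_9_1 L73640 L28839 L74854
theorem L74857 : sm ga N7232 = N7394 := flp_a L74856
theorem L74858 : sm gb N7394 = N5667 := ded_14_1 L73129 L28841 L74854
theorem L74859 : sm gb N5667 = N7394 := flp_b L74858
theorem L74860 : sm gf N7394 = N5240 := ded_23_2 L28859 L15518 L15507 L28836 L74854
theorem L74861 : sm gf N5240 = N7394 := flp_f L74860
theorem L74862 : sm gg N7394 = N5651 := ded_24_2 L31058 L70724 L19825 L72639 L74854
theorem L74863 : sm gg N5651 = N7394 := flp_g L74862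
theorem L74864 : sm ge N5240 = N7395 := rfl
theorem L74865 : sm ge N7395 = N5240 := flp_e L74864
theorem L74866 : sm ga N7395 = N7348 := ded_10_1 L74492 L73733 L74864
theorem L74867 : sm ga N7348 = N7395 := flp_a L74866
theorem L74868 : sm gb N7395 = N7371 := ded_15_1 L74671 L28861 L74864
theorem L74869 : sm gb N7371 = N7395 := flp_b L74868
theorem L74870 : sm gc N7395 = N7295 := ded_19_1 L74054 L73420 L74864
theorem L74871 : sm gc N7295 = N7395 := flp_c L74870
theorem L74872 : sm gg N7326 = N7395 := ded_28_3 L74865 L74861 L74862 L74323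
theorem L74873 : sm gg N7395 = N7326 := flp_g L74872
theorem L74874 : sm gd N7395 = N5278 := ded_22_1 L29040 L15607 L15524 L28858 L74864
theorem L74875 : sm gd N5278 = N7395 := flp_d L74874
theorem L74876 : sm gg N5240 = N7396 := rfl
theorem L74877 : sm gg N7396 = N5240 := flp_g L74876
theorem L74878 : sm ga N7396 = N7345 := ded_12_1 L74470 L73733 L74876
theorem L74879 : sm ga N7345 = N7396 := flp_a L74878
theorem L74880 : sm gb N7396 = N7372 := ded_17_1 L74679 L28861 L74876
theorem L74881 : sm gb N7372 = N7396 := flp_b L74880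
theorem L74882 : sm gc N7396 = N7325 := ded_21_1 L74315 L73420 L74876
theorem L74883 : sm gc N7325 = N7396 := flp_c L74882
theorem L74884 : sm ge N7396 = N7326 := ded_26_1 L74872 L74865 L74876
theorem L74885 : sm ge N7326 = N7396 := flp_e L74884
theorem L74886 : sm gd N7396 = N5290 := ded_24_1 L29084 L28800 L15618 L28858 L74876
theorem L74887 : sm gd N5290 = N7396 := flp_d L74886
theorem L74888 : sm gb N5243 = N7397 := rfl
theorem L74889 : sm gb N7397 = N5243 := flp_b L74888
theorem L74890 : sm ge N7397 = N5961 := ded_15_2 L74112 L74118 L74888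
theorem L74891 : sm ge N5961 = N7397 := flp_e L74890
theorem L74892 : sm gf N7397 = N5959 := ded_16_2 L74126 L74129 L74888
theorem L74893 : sm gf N5959 = N7397 := flp_f L74892
theorem L74894 : sm gg N7397 = N5249 := ded_17_2 L28895 L28873 L74888
theorem L74895 : sm gg N5249 = N7397 := flp_g L74894
theorem L74896 : sm gc N7397 = N5961 := ded_13_2 L74112 L74115 L28413 L28870 L74888
theorem L74897 : sm gc N5961 = N7397 := flp_c L74896
theorem L74898 : sm ga N7397 = N7359 := ded_7_1 L74570 L72784 L30894 L52927 L30903 L72753 L74888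
theorem L74899 : sm ga N7359 = N7397 := flp_a L74898
theorem L74900 : sm gd N5631 = N7397 := ded_22_5 L74890 L72512 L29199 L29194 L73118
theorem L74901 : sm gd N7397 = N5631 := flp_d L74900
theorem L74902 : sm gd N5243 = N7398 := rfl
theorem L74903 : sm gd N7398 = N5243 := flp_d L74902
theorem L74904 : sm gb N7398 = N5631 := ded_14_1 L74900 L74889 L74902
theorem L74905 : sm gb N5631 = N7398 := flp_b L74904
theorem L74906 : sm ge N7398 = N7227 := ded_22_2 L73618 L27988 L74107 L74118 L74902
theorem L74907 : sm ge N7227 = N7398 := flp_e L74906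
theorem L74908 : sm gf N7398 = N7229 := ded_23_2 L73627 L28014 L74132 L74129 L74902
theorem L74909 : sm gf N7229 = N7398 := flp_f L74908
theorem L74910 : sm gg N7398 = N5616 := ded_24_2 L30905 L16532 L72727 L28873 L74902
theorem L74911 : sm gg N5616 = N7398 := flp_g L74910
theorem L74912 : sm ga N5259 = N7399 := rfl
theorem L74913 : sm ga N7399 = N5259 := flp_a L74912
theorem L74914 : sm gc N7399 = N7267 := ded_8_2 L74595 L74593 L74912
theorem L74915 : sm gc N7267 = N7399 := flp_c L74914
theorem L74916 : sm gf N7399 = N7267 := ded_11_2 L74595 L74591 L74912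
theorem L74917 : sm gf N7267 = N7399 := flp_f L74916
theorem L74918 : sm gb N7399 = N5260 := ded_29_7 L73267 L29062 L28218 L28219 L74195 L74197 L74587 L74593 L74912
theorem L74919 : sm gb N5260 = N7399 := flp_b L74918
theorem L74920 : sm ge N7266 = N7399 := ded_29_9 L74913 L28937 L15562 L15103 L65870 L53089 L25002 L25922 L73850
theorem L74921 : sm ge N7399 = N7266 := flp_e L74920
theorem L74922 : sm gd N5259 = N7399 := ded_14_0 L74918 L28939 L28936
theorem L74923 : sm gd N7399 = N5259 := flp_d L74922
theorem L74924 : sm ge N5259 = N7400 := rfl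
theorem L74925 : sm ge N7400 = N5259 := flp_e L74924
theorem L74926 : sm ga N7400 = N7266 := ded_10_1 L74920 L74913 L74924
theorem L74927 : sm ga N7266 = N7400 := flp_a L74926
theorem L74928 : sm gb N7400 = N5261 := ded_15_1 L28941 L28936 L74924
theorem L74929 : sm gb N5261 = N7400 := flp_b L74928
theorem L74930 : sm gc N7400 = N7265 := ded_19_1 L74590 L74593 L74924
theorem L74931 : sm gc N7265 = N7400 := flp_c L74930
theorem L74932 : sm gf N7400 = N7265 := ded_25_2 L74590 L74591 L74924
theorem L74933 : sm gf N7265 = N7400 := flp_f L74932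
theorem L74934 : sm gg N5259 = N7401 := rfl
theorem L74935 : sm gg N7401 = N5259 := flp_g L74934
theorem L74936 : sm gb N7401 = N5262 := ded_17_1 L28945 L28936 L74934
theorem L74937 : sm gb N5262 = N7401 := flp_b L74936
theorem L74938 : sm gg N5261 = N7402 := rfl
theorem L74939 : sm gg N7402 = N5261 := flp_g L74938
theorem L74940 : sm gc N7402 = N5263 := ded_21_1 L28949 L28943 L74938
theorem L74941 : sm gc N5263 = N7402 := flp_c L74940
theorem L74942 : sm ge N7402 = N5262 := ded_26_1 L28945 L28940 L74938
theorem L74943 : sm ge N5262 = N7402 := flp_e L74942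
theorem L74944 : sm gf N7402 = N7362 := ded_28_2 L74598 L73813 L73817 L74938
theorem L74945 : sm gf N7362 = N7402 := flp_f L74944
theorem L74946 : sm gd N7402 = N7290 := ded_24_1 L74012 L73963 L73974 L73983 L74938
theorem L74947 : sm gd N7290 = N7402 := flp_d L74946
theorem L74948 : sm gd N5262 = N7403 := rfl
theorem L74949 : sm gd N7403 = N5262 := flp_d L74948
theorem L74950 : sm gf N5262 = N7404 := rfl
theorem L74951 : sm gf N7404 = N5262 := flp_f L74950
theorem L74952 : sm ga N7404 = N7236 := ded_11_1 L74242 L74237 L74950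
theorem L74953 : sm ga N7236 = N7404 := flp_a L74952
theorem L74954 : sm gc N7404 = N5264 := ded_20_1 L28955 L28947 L74950
theorem L74955 : sm gc N5264 = N7404 := flp_c L74954
theorem L74956 : sm ge N7404 = N7362 := ded_25_1 L74945 L74942 L74950
theorem L74957 : sm ge N7362 = N7404 := flp_e L74956
theorem L74958 : sm gg N7404 = N7259 := ded_28_3 L73812 L28449 L28944 L74950
theorem L74959 : sm gg N7259 = N7404 := flp_g L74958
theorem L74960 : sm gd N7404 = N7190 := ded_31_2 L73311 L73324 L73333 L24891 L15460 L15456 L7752 L3842 L1966 L1971 L3875 L7815 L15561 L28944 L74950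
theorem L74961 : sm gd N7190 = N7404 := flp_d L74960
theorem L74962 : sm gf N5282 = N7405 := rfl
theorem L74963 : sm gf N7405 = N5282 := flp_f L74962
theorem L74964 : sm gb N7405 = N7193 := ded_16_1 L74364 L74356 L74962
theorem L74965 : sm gb N7193 = N7405 := flp_b L74964
theorem L74966 : sm gc N7405 = N5284 := ded_20_1 L29056 L29051 L74962
theorem L74967 : sm gc N5284 = N7405 := flp_c L74966
theorem L74968 : sm ge N7405 = N7321 := ded_25_1 L74274 L73263 L74962
theorem L74969 : sm ge N7321 = N7405 := flp_e L74968
theorem L74970 : sm gg N5284 = N7405 := ded_28_1 L74963 L73265 L29054 L29055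
theorem L74971 : sm gg N7405 = N5284 := flp_g L74970
theorem L74972 : sm gd N7405 = N7251 := ded_23_1 L73757 L73176 L74288 L74289 L74962
theorem L74973 : sm gd N7251 = N7405 := flp_d L74972
theorem L74974 : sm gf N5283 = N7406 := rfl
theorem L74975 : sm gf N7406 = N5283 := flp_f L74974
theorem L74976 : sm ga N7406 = N7405 := ded_11_1 L74963 L73261 L74974
theorem L74977 : sm ga N7405 = N7406 := flp_a L74976
theorem L74978 : sm gc N7406 = N7321 := ded_20_1 L74274 L73258 L74974
theorem L74979 : sm gc N7321 = N7406 := flp_c L74978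
theorem L74980 : sm ge N7406 = N5284 := ded_25_1 L29056 L29053 L74974
theorem L74981 : sm ge N5284 = N7406 := flp_e L74980
theorem L74982 : sm gg N7406 = N7321 := ded_28_3 L74969 L74963 L73265 L74974
theorem L74983 : sm gg N7321 = N7406 := flp_g L74982
theorem L74984 : sm gg N5286 = N7407 := rfl
theorem L74985 : sm gg N7407 = N5286 := flp_g L74984
theorem L74986 : sm ga N7407 = N7392 := ded_12_1 L74840 L74281 L74984
theorem L74987 : sm ga N7392 = N7407 := flp_a L74986
theorem L74988 : sm gc N7407 = N7275 := ded_21_1 L73918 L73267 L74984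
theorem L74989 : sm gc N7275 = N7407 := flp_c L74988
theorem L74990 : sm ge N7407 = N5287 := ded_26_1 L29066 L29061 L74984
theorem L74991 : sm ge N5287 = N7407 := flp_e L74990
theorem L74992 : sm gf N7407 = N7271 := ded_28_2 L73885 L73872 L73880 L74984
theorem L74993 : sm gf N7271 = N7407 := flp_f L74992
theorem L74994 : sm gd N7407 = N7392 := ded_24_1 L74840 L74289 L73265 L29064 L74984
theorem L74995 : sm gd N7392 = N7407 := flp_d L74994
theorem L74996 : sm gf N5287 = N7408 := rfl
theorem L74997 : sm gf N7408 = N5287 := flp_f L74996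
theorem L74998 : sm ga N7408 = N7393 := ded_11_1 L74845 L73053 L74996
theorem L74999 : sm ga N7393 = N7408 := flp_a L74998
theorem L75000 : sm gb N7408 = N7407 := ded_16_1 L74992 L73888 L74996
theorem L75001 : sm gb N7407 = N7408 := flp_b L75000
theorem L75002 : sm gc N7408 = N7273 := ded_20_1 L73910 L73908 L74996
theorem L75003 : sm gc N7273 = N7408 := flp_c L75002
theorem L75004 : sm ge N7408 = N7271 := ded_25_1 L74993 L74990 L74996
theorem L75005 : sm ge N7271 = N7408 := flp_e L75004
theorem L75006 : sm gg N7408 = N7270 := ded_28_3 L73873 L52541 L29065 L74996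
theorem L75007 : sm gg N7270 = N7408 := flp_g L75006
theorem L75008 : sm gd N7408 = N7319 := ded_23_1 L74254 L28151 L72477 L72474 L74996
theorem L75009 : sm gd N7319 = N7408 := flp_d L75008
theorem L75010 : sm ga N5288 = N7409 := rfl
theorem L75011 : sm ga N7409 = N5288 := flp_a L75010
theorem L75012 : sm gc N7409 = N7409 := ded_8_2 L75011 L29071 L75010
theorem L75013 : sm gf N7409 = N5294 := ded_11_2 L72711 L72693 L75010
theorem L75014 : sm gf N5294 = N7409 := flp_f L75013
theorem L75015 : sm gg N7409 = N5451 := ded_12_2 L30034 L72420 L75010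
theorem L75016 : sm gg N5451 = N7409 := flp_g L75015
theorem L75017 : sm gb N7409 = N5289 := ded_7_2 L41473 L72698 L72710 L29110 L15639 L29069 L75010
theorem L75018 : sm gb N5289 = N7409 := flp_b L75017
theorem L75019 : sm ge N7409 = N5288 := ded_29_9 L75010 L75017 L29074 L41466 L15632 L29081 L41472 L75018 L75012
theorem L75020 : sm ge N5288 = N7409 := flp_e L75019
theorem L75021 : sm gd N7375 = N7337 := ded_31_6 L74414 L28300 L51852 L28224 L15147 L28161 L71817 L30032 L30094 L75016 L75013 L72365 L74757 L74753 L74711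
theorem L75022 : sm gd N7337 = N7375 := flp_d L75021
theorem L75023 : sm gd N5292 = N7410 := rfl
theorem L75024 : sm gd N7410 = N5292 := flp_d L75023
theorem L75025 : sm gb N7410 = N7410 := ded_14_1 L75024 L29097 L75023
theorem L75026 : sm gg N7410 = N7410 := ded_24_2 L75024 L29096 L15629 L29095 L75023
theorem L75027 : sm gd N5293 = N7411 := rfl
theorem L75028 : sm gd N7411 = N5293 := flp_d L75027
theorem L75029 : sm ga N7411 = N7410 := ded_9_1 L75024 L41457 L75027
theorem L75030 : sm ga N7410 = N7411 := flp_a L75029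
theorem L75031 : sm gb N7411 = N7411 := ded_14_1 L75028 L29102 L75027
theorem L75032 : sm ge N7411 = N7410 := ded_22_2 L75024 L29098 L15659 L41513 L75027
theorem L75033 : sm ge N7410 = N7411 := flp_e L75032
theorem L75034 : sm gg N7411 = N7411 := ded_24_2 L75028 L29101 L15633 L29100 L75027
theorem L75035 : sm gd N5302 = N7412 := rfl
theorem L75036 : sm gd N7412 = N5302 := flp_d L75035
theorem L75037 : sm gb N7412 = N5303 := ded_14_1 L29171 L29164 L75035
theorem L75038 : sm gb N5303 = N7412 := flp_b L75037
theorem L75039 : sm gg N5302 = N7413 := rfl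
theorem L75040 : sm gg N7413 = N5302 := flp_g L75039
theorem L75041 : sm gb N7413 = N5305 := ded_17_1 L29183 L29164 L75039
theorem L75042 : sm gb N5305 = N7413 := flp_b L75041
theorem L75043 : sm gc N7413 = N5313 := ded_21_1 L29233 L29169 L75039
theorem L75044 : sm gc N5313 = N7413 := flp_c L75043
theorem L75045 : sm ge N5303 = N7414 := rfl
theorem L75046 : sm ge N7414 = N5303 := flp_e L75045
theorem L75047 : sm ga N7414 = N5556 := ded_10_1 L30652 L29173 L75045
theorem L75048 : sm ga N5556 = N7414 := flp_a L75047
theorem L75049 : sm gf N5303 = N7415 := rfl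
theorem L75050 : sm gf N7415 = N5303 := flp_f L75049
theorem L75051 : sm ga N7415 = N5557 := ded_11_1 L30654 L29173 L75049
theorem L75052 : sm ga N5557 = N7415 := flp_a L75051
theorem L75053 : sm gd N7415 = N5315 := ded_23_1 L29241 L15707 L15665 L29170 L75049
theorem L75054 : sm gd N5315 = N7415 := flp_d L75053
theorem L75055 : sm gg N5303 = N7416 := rfl
theorem L75056 : sm gg N7416 = N5303 := flp_g L75055
theorem L75057 : sm ga N7416 = N5558 := ded_12_1 L30658 L29173 L75055
theorem L75058 : sm ga N5558 = N7416 := flp_a L75057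
theorem L75059 : sm gd N5305 = N7417 := rfl
theorem L75060 : sm gd N7417 = N5305 := flp_d L75059
theorem L75061 : sm ga N7417 = N5560 := ded_9_1 L30662 L29185 L75059
theorem L75062 : sm ga N5560 = N7417 := flp_a L75061
theorem L75063 : sm gd N5310 = N7418 := rfl
theorem L75064 : sm gd N7418 = N5310 := flp_d L75063
theorem L75065 : sm ga N7418 = N5311 := ded_9_1 L29219 L29212 L75063
theorem L75066 : sm ga N5311 = N7418 := flp_a L75065
theorem L75067 : sm gb N7418 = N5316 := ded_14_1 L72887 L29215 L75063
theorem L75068 : sm gb N5316 = N7418 := flp_b L75067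
theorem L75069 : sm gc N7418 = N7418 := ded_8_0 L75065 L72894 L75066
theorem L75070 : sm gg N5311 = N7418 := ded_17_0 L75067 L29245 L29221
theorem L75071 : sm gg N7418 = N5311 := flp_g L75070
theorem L75072 : sm gg N5310 = N7419 := rfl
theorem L75073 : sm gg N7419 = N5310 := flp_g L75072
theorem L75074 : sm ga N7419 = N5313 := ded_12_1 L29233 L29212 L75072
theorem L75075 : sm ga N5313 = N7419 := flp_a L75074
theorem L75076 : sm gb N7419 = N5319 := ded_17_1 L64174 L29215 L75072
theorem L75077 : sm gb N5319 = N7419 := flp_b L75076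
theorem L75078 : sm ge N7419 = N7413 := ded_26_1 L75040 L29216 L75072
theorem L75079 : sm ge N7413 = N7419 := flp_e L75078
theorem L75080 : sm gf N7419 = N5313 := ded_28_2 L29233 L29222 L29230 L75072
theorem L75081 : sm gf N5313 = N7419 := flp_f L75080
theorem L75082 : sm gd N7419 = N5313 := ded_24_1 L29233 L29218 L75070 L75064 L75072
theorem L75083 : sm gd N5313 = N7419 := flp_d L75082
theorem L75084 : sm ge N5311 = N7420 := rfl
theorem L75085 : sm ge N7420 = N5311 := flp_e L75084
theorem L75086 : sm gb N7420 = N5314 := ded_15_1 L29237 L29221 L75084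
theorem L75087 : sm gb N5314 = N7420 := flp_b L75086
theorem L75088 : sm gc N7420 = N7420 := ded_19_1 L75085 L72894 L75084
theorem L75089 : sm gf N5311 = N7421 := rfl
theorem L75090 : sm gf N7421 = N5311 := flp_f L75089
theorem L75091 : sm gb N7421 = N5315 := ded_16_1 L29241 L29221 L75089
theorem L75092 : sm gb N5315 = N7421 := flp_b L75091
theorem L75093 : sm gc N7421 = N7421 := ded_20_1 L75090 L72894 L75089
theorem L75094 : sm gd N5312 = N7422 := rfl
theorem L75095 : sm gd N7422 = N5312 := flp_d L75094
theorem L75096 : sm ga N7422 = N7412 := ded_9_1 L75036 L29225 L75094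
theorem L75097 : sm ga N7412 = N7422 := flp_a L75096
theorem L75098 : sm gb N7422 = N5317 := ded_14_1 L29249 L29227 L75094
theorem L75099 : sm gb N5317 = N7422 := flp_b L75098
theorem L75100 : sm gg N5312 = N7423 := rfl
theorem L75101 : sm gg N7423 = N5312 := flp_g L75100
theorem L75102 : sm ga N7423 = N7413 := ded_12_1 L75040 L29225 L75100
theorem L75103 : sm ga N7413 = N7423 := flp_a L75102
theorem L75104 : sm gb N7423 = N5318 := ded_17_1 L29253 L29227 L75100
theorem L75105 : sm gb N5318 = N7423 := flp_b L75104
theorem L75106 : sm gc N7423 = N7419 := ded_21_1 L75073 L29229 L75100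
theorem L75107 : sm gc N7419 = N7423 := flp_c L75106
theorem L75108 : sm ge N7423 = N5313 := ded_26_1 L29233 L29222 L75100
theorem L75109 : sm ge N5313 = N7423 := flp_e L75108
theorem L75110 : sm gf N7413 = N7423 := ded_28_0 L75101 L29230 L75072 L75078
theorem L75111 : sm gf N7423 = N7413 := flp_f L75110
theorem L75112 : sm gd N5314 = N7424 := rfl
theorem L75113 : sm gd N7424 = N5314 := flp_d L75112
theorem L75114 : sm ga N7424 = N5582 := ded_9_1 L30757 L29239 L75112
theorem L75115 : sm ga N5582 = N7424 := flp_a L75114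
theorem L75116 : sm ge N7424 = N5317 := ded_22_2 L29249 L15711 L15706 L29236 L75112
theorem L75117 : sm ge N5317 = N7424 := flp_e L75116
theorem L75118 : sm gf N5314 = N7425 := rfl
theorem L75119 : sm gf N7425 = N5314 := flp_f L75118
theorem L75120 : sm ga N7425 = N5583 := ded_11_1 L30761 L29239 L75118
theorem L75121 : sm ga N5583 = N7425 := flp_a L75120
theorem L75122 : sm gc N7425 = N5595 := ded_20_1 L72906 L31395 L75118
theorem L75123 : sm gc N5595 = N7425 := flp_c L75122
theorem L75124 : sm ge N7425 = N5315 := ded_25_1 L29241 L29236 L75118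
theorem L75125 : sm ge N5315 = N7425 := flp_e L75124
theorem L75126 : sm gd N5967 = N7425 := ded_30_7 L75122 L30809 L29295 L66088 L16818 L71916 L71917 L17242 L17284 L32575
theorem L75127 : sm gd N7425 = N5967 := flp_d L75126
theorem L75128 : sm gg N5314 = N7426 := rfl
theorem L75129 : sm gg N7426 = N5314 := flp_g L75128
theorem L75130 : sm ga N7426 = N5584 := ded_12_1 L30765 L29239 L75128
theorem L75131 : sm ga N5584 = N7426 := flp_a L75130
theorem L75132 : sm gc N7426 = N5597 := ded_21_1 L72907 L31395 L75128
theorem L75133 : sm gc N5597 = N7426 := flp_c L75132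
theorem L75134 : sm ge N7426 = N5316 := ded_26_1 L29245 L29236 L75128
theorem L75135 : sm ge N5316 = N7426 := flp_e L75134
theorem L75136 : sm gf N7426 = N5598 := ded_28_2 L64521 L75125 L75119 L75128
theorem L75137 : sm gf N5598 = N7426 := flp_f L75136
theorem L75138 : sm gd N7414 = N7426 := ded_9_0 L75130 L72920 L75048
theorem L75139 : sm gd N7426 = N7414 := flp_d L75138
theorem L75140 : sm gf N5316 = N7427 := rfl
theorem L75141 : sm gf N7427 = N5316 := flp_f L75140
theorem L75142 : sm ga N7427 = N5587 := ded_11_1 L30783 L29247 L75140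
theorem L75143 : sm ga N5587 = N7427 := flp_a L75142
theorem L75144 : sm gc N7427 = N5599 := ded_20_1 L72522 L31407 L75140
theorem L75145 : sm gc N5599 = N7427 := flp_c L75144
theorem L75146 : sm ge N7427 = N5598 := ded_25_1 L75137 L75134 L75140
theorem L75147 : sm ge N5598 = N7427 := flp_e L75146
theorem L75148 : sm gg N7427 = N7425 := ded_28_3 L75124 L29241 L29244 L75140
theorem L75149 : sm gg N7425 = N7427 := flp_g L75148
theorem L75150 : sm gc N5317 = N7428 := rfl
theorem L75151 : sm gc N7428 = N5317 := flp_c L75150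
theorem L75152 : sm ga N7428 = N5588 := ded_8_1 L30789 L29251 L75150
theorem L75153 : sm ga N5588 = N7428 := flp_a L75152
theorem L75154 : sm gf N5317 = N7429 := rfl
theorem L75155 : sm gf N7429 = N5317 := flp_f L75154
theorem L75156 : sm ga N7429 = N5589 := ded_11_1 L30791 L29251 L75154
theorem L75157 : sm ga N5589 = N7429 := flp_a L75156
theorem L75158 : sm gd N7429 = N7427 := ded_23_1 L75141 L72887 L29180 L29248 L75154
theorem L75159 : sm gd N7427 = N7429 := flp_d L75158
theorem L75160 : sm gg N5317 = N7430 := rfl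
theorem L75161 : sm gg N7430 = N5317 := flp_g L75160
theorem L75162 : sm ga N7430 = N5590 := ded_12_1 L30793 L29251 L75160
theorem L75163 : sm ga N5590 = N7430 := flp_a L75162
theorem L75164 : sm gd N5318 = N7431 := rfl
theorem L75165 : sm gd N7431 = N5318 := flp_d L75164
theorem L75166 : sm ga N7431 = N5591 := ded_9_1 L30795 L29255 L75164
theorem L75167 : sm ga N5591 = N7431 := flp_a L75166
theorem L75168 : sm ge N7431 = N7417 := ded_22_2 L75060 L64170 L29263 L29259 L75164
theorem L75169 : sm ge N7417 = N7431 := flp_e L75168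
theorem L75170 : sm ge N5321 = N7432 := rfl
theorem L75171 : sm ge N7432 = N5321 := flp_e L75170
theorem L75172 : sm ga N7432 = N5595 := ded_10_1 L30807 L29279 L75170
theorem L75173 : sm ga N5595 = N7432 := flp_a L75172
theorem L75174 : sm gc N7432 = N5583 := ded_19_1 L30762 L64523 L75170
theorem L75175 : sm gc N5583 = N7432 := flp_c L75174
theorem L75176 : sm gf N7432 = N5579 := ded_25_2 L30745 L64525 L75170
theorem L75177 : sm gf N5579 = N7432 := flp_f L75176
theorem L75178 : sm gd N7432 = N5323 := ded_22_1 L29293 L15731 L15727 L29276 L75170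
theorem L75179 : sm gd N5323 = N7432 := flp_d L75178
theorem L75180 : sm ge N5325 = N7433 := rfl
theorem L75181 : sm ge N7433 = N5325 := flp_e L75180
theorem L75182 : sm ga N7433 = N5599 := ded_10_1 L30823 L29315 L75180
theorem L75183 : sm ga N5599 = N7433 := flp_a L75182
theorem L75184 : sm gb N7433 = N7432 := ded_15_1 L75171 L29317 L75180
theorem L75185 : sm gb N7432 = N7433 := flp_b L75184
theorem L75186 : sm gc N7433 = N5587 := ded_19_1 L30784 L72914 L75180
theorem L75187 : sm gc N5587 = N7433 := flp_c L75186
theorem L75188 : sm gf N7433 = N5581 := ded_25_2 L72917 L72903 L75180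
theorem L75189 : sm gf N5581 = N7433 := flp_f L75188
theorem L75190 : sm gg N7433 = N7432 := ded_26_2 L75171 L29319 L75180
theorem L75191 : sm gg N7432 = N7433 := flp_g L75190
theorem L75192 : sm gd N7433 = N5348 := ded_22_1 L29480 L15822 L15743 L29312 L75180
theorem L75193 : sm gd N5348 = N7433 := flp_d L75192
theorem L75194 : sm gd N5328 = N7434 := rfl
theorem L75195 : sm gd N7434 = N5328 := flp_d L75194
theorem L75196 : sm ga N7434 = N5608 := ded_9_1 L30864 L29337 L75194
theorem L75197 : sm ga N5608 = N7434 := flp_a L75196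
theorem L75198 : sm ge N7434 = N5344 := ded_22_2 L29445 L15800 L15759 L29339 L75194
theorem L75199 : sm ge N5344 = N7434 := flp_e L75198
theorem L75200 : sm gc N5336 = N7435 := rfl
theorem L75201 : sm gc N7435 = N5336 := flp_c L75200
theorem L75202 : sm ga N7435 = N5629 := ded_8_1 L30974 L29381 L75200
theorem L75203 : sm ga N5629 = N7435 := flp_a L75202
theorem L75204 : sm ge N5340 = N7436 := rfl
theorem L75205 : sm ge N7436 = N5340 := flp_e L75204
theorem L75206 : sm ga N7436 = N5636 := ded_10_1 L30992 L29409 L75204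
theorem L75207 : sm ga N5636 = N7436 := flp_a L75206
theorem L75208 : sm gb N7436 = N7434 := ded_15_1 L75198 L29448 L75204
theorem L75209 : sm gb N7434 = N7436 := flp_b L75208
theorem L75210 : sm gf N7436 = N7434 := ded_25_2 L75198 L29450 L75204
theorem L75211 : sm gf N7434 = N7436 := flp_f L75210
theorem L75212 : sm gd N7436 = N5342 := ded_22_1 L29423 L15787 L15783 L29406 L75204
theorem L75213 : sm gd N5342 = N7436 := flp_d L75212
theorem L75214 : sm gd N5341 = N7437 := rfl
theorem L75215 : sm gd N7437 = N5341 := flp_d L75214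
theorem L75216 : sm ga N7437 = N5637 := ded_9_1 L30999 L29413 L75214
theorem L75217 : sm ga N5637 = N7437 := flp_a L75216
theorem L75218 : sm gb N7437 = N7292 := ded_14_1 L74022 L71557 L75214
theorem L75219 : sm gb N7292 = N7437 := flp_b L75218
theorem L75220 : sm ge N7437 = N5637 := ded_22_2 L30999 L66014 L71558 L71461 L75214
theorem L75221 : sm ge N5637 = N7437 := flp_e L75220
theorem L75222 : sm gd N5343 = N7438 := rfl
theorem L75223 : sm gd N7438 = N5343 := flp_d L75222
theorem L75224 : sm ga N7438 = N5638 := ded_9_1 L31003 L29437 L75222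
theorem L75225 : sm ga N5638 = N7438 := flp_a L75224
theorem L75226 : sm gb N7438 = N5748 := ded_14_1 L31496 L66064 L75222
theorem L75227 : sm gb N5748 = N7438 := flp_b L75226
theorem L75228 : sm gg N7438 = N5344 := ded_24_2 L29445 L15795 L15786 L29434 L75222
theorem L75229 : sm gg N5344 = N7438 := flp_g L75228
theorem L75230 : sm gc N5344 = N7439 := rfl
theorem L75231 : sm gc N7439 = N5344 := flp_c L75230
theorem L75232 : sm ga N7439 = N5639 := ded_8_1 L31008 L29447 L75230
theorem L75233 : sm ga N5639 = N7439 := flp_a L75232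
theorem L75234 : sm gf N7439 = N7335 := ded_20_2 L74405 L29451 L75230
theorem L75235 : sm gf N7335 = N7439 := flp_f L75234
theorem L75236 : sm ge N5346 = N7440 := rfl
theorem L75237 : sm ge N7440 = N5346 := flp_e L75236
theorem L75238 : sm ga N7440 = N5641 := ded_10_1 L31016 L29465 L75236
theorem L75239 : sm ga N5641 = N7440 := flp_a L75238
theorem L75240 : sm gb N7440 = N7203 := ded_15_1 L74055 L74052 L75236
theorem L75241 : sm gb N7203 = N7440 := flp_b L75240
theorem L75242 : sm gd N7202 = N7440 := ded_14_0 L75240 L73417 L73410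
theorem L75243 : sm gd N7440 = N7202 := flp_d L75242
theorem L75244 : sm gf N5346 = N7441 := rfl
theorem L75245 : sm gf N7441 = N5346 := flp_f L75244
theorem L75246 : sm ga N7441 = N5642 := ded_11_1 L31018 L29465 L75244
theorem L75247 : sm ga N5642 = N7441 := flp_a L75246
theorem L75248 : sm gd N5347 = N7442 := rfl
theorem L75249 : sm gd N7442 = N5347 := flp_d L75248
theorem L75250 : sm ga N7442 = N5644 := ded_9_1 L31022 L29469 L75248
theorem L75251 : sm ga N5644 = N7442 := flp_a L75250
theorem L75252 : sm gb N7442 = N7204 := ded_14_1 L73433 L64293 L75248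
theorem L75253 : sm gb N7204 = N7442 := flp_b L75252
theorem L75254 : sm ge N7442 = N7202 := ded_22_2 L75242 L75237 L29463 L29466 L75248
theorem L75255 : sm ge N7202 = N7442 := flp_e L75254
theorem L75256 : sm gf N7442 = N5644 := ded_23_2 L31022 L66016 L71558 L71463 L75248
theorem L75257 : sm gf N5644 = N7442 := flp_f L75256
theorem L75258 : sm gg N7218 = N7442 := ded_12_0 L75250 L73291 L73541
theorem L75259 : sm gg N7442 = N7218 := flp_g L75258
theorem L75260 : sm gb N5351 = N7443 := rfl
theorem L75261 : sm gb N7443 = N5351 := flp_b L75260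
theorem L75262 : sm gc N7443 = N7341 := ded_13_2 L74438 L73746 L29486 L29494 L75260
theorem L75263 : sm gc N7341 = N7443 := flp_c L75262
theorem L75264 : sm gf N7340 = N7443 := ded_20_0 L75262 L74437 L74434
theorem L75265 : sm gf N7443 = N7340 := flp_f L75264
theorem L75266 : sm ge N5351 = N7444 := rfl
theorem L75267 : sm ge N7444 = N5351 := flp_e L75266
theorem L75268 : sm ga N7444 = N5656 := ded_10_1 L31088 L29497 L75266
theorem L75269 : sm ga N5656 = N7444 := flp_a L75268
theorem L75270 : sm gc N7444 = N5352 := ded_19_1 L29499 L29494 L75266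
theorem L75271 : sm gc N5352 = N7444 := flp_c L75270
theorem L75272 : sm gf N5351 = N7445 := rfl
theorem L75273 : sm gf N7445 = N5351 := flp_f L75272
theorem L75274 : sm ga N7445 = N5657 := ded_11_1 L31092 L29497 L75272
theorem L75275 : sm ga N5657 = N7445 := flp_a L75274
theorem L75276 : sm gb N7445 = N7340 := ded_16_1 L75264 L75261 L75272
theorem L75277 : sm gb N7340 = N7445 := flp_b L75276
theorem L75278 : sm gc N7445 = N5353 := ded_20_1 L29503 L29494 L75272
theorem L75279 : sm gc N5353 = N7445 := flp_c L75278
theorem L75280 : sm gg N5351 = N7446 := rfl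
theorem L75281 : sm gg N7446 = N5351 := flp_g L75280
theorem L75282 : sm ga N7446 = N5658 := ded_12_1 L31096 L29497 L75280
theorem L75283 : sm ga N5658 = N7446 := flp_a L75282
theorem L75284 : sm gc N7446 = N5354 := ded_21_1 L29509 L29494 L75280
theorem L75285 : sm gc N5354 = N7446 := flp_c L75284
theorem L75286 : sm gf N5352 = N7447 := rfl
theorem L75287 : sm gf N7447 = N5352 := flp_f L75286
theorem L75288 : sm ga N7447 = N5660 := ded_11_1 L31104 L29501 L75286
theorem L75289 : sm ga N5660 = N7447 := flp_a L75288
theorem L75290 : sm gb N7447 = N7345 := ded_16_1 L74825 L74820 L75286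
theorem L75291 : sm gb N7345 = N7447 := flp_b L75290
theorem L75292 : sm ge N7447 = N5353 := ded_25_1 L29503 L29498 L75286
theorem L75293 : sm ge N5353 = N7447 := flp_e L75292
theorem L75294 : sm gg N7447 = N7301 := ded_28_1 L74099 L29509 L29498 L75286
theorem L75295 : sm gg N7301 = N7447 := flp_g L75294
theorem L75296 : sm gd N7447 = N7409 := ded_23_1 L75013 L72365 L73140 L73013 L75286
theorem L75297 : sm gd N7409 = N7447 := flp_d L75296
theorem L75298 : sm gg N5352 = N7448 := rfl
theorem L75299 : sm gg N7448 = N5352 := flp_g L75298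
theorem L75300 : sm ga N7448 = N5661 := ded_12_1 L31108 L29501 L75298
theorem L75301 : sm ga N5661 = N7448 := flp_a L75300
theorem L75302 : sm ge N7448 = N5354 := ded_26_1 L29509 L29498 L75298
theorem L75303 : sm ge N5354 = N7448 := flp_e L75302
theorem L75304 : sm gg N5353 = N7449 := rfl
theorem L75305 : sm gg N7449 = N5353 := flp_g L75304
theorem L75306 : sm ga N7449 = N5662 := ded_12_1 L31112 L29505 L75304
theorem L75307 : sm ga N5662 = N7449 := flp_a L75306
theorem L75308 : sm gb N7449 = N7348 := ded_17_1 L74489 L73750 L75304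
theorem L75309 : sm gb N7348 = N7449 := flp_b L75308
theorem L75310 : sm ge N7449 = N7301 := ded_26_1 L75295 L75292 L75304
theorem L75311 : sm ge N7301 = N7449 := flp_e L75310
theorem L75312 : sm gf N7448 = N7449 := ded_28_0 L75305 L29503 L29508 L75303
theorem L75313 : sm gf N7449 = N7448 := flp_f L75312
theorem L75314 : sm gb N5359 = N7450 := rfl
theorem L75315 : sm gb N7450 = N5359 := flp_b L75314
theorem L75316 : sm gc N7450 = N7282 := ded_13_2 L73961 L26041 L61331 L29530 L75314
theorem L75317 : sm gc N7282 = N7450 := flp_c L75316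
theorem L75318 : sm ge N5359 = N7451 := rfl
theorem L75319 : sm ge N7451 = N5359 := flp_e L75318
theorem L75320 : sm ga N7451 = N5684 := ded_10_1 L31206 L29533 L75318
theorem L75321 : sm ga N5684 = N7451 := flp_a L75320
theorem L75322 : sm gc N7451 = N5360 := ded_19_1 L29535 L29530 L75318
theorem L75323 : sm gc N5360 = N7451 := flp_c L75322
theorem L75324 : sm gf N5359 = N7452 := rfl
theorem L75325 : sm gf N7452 = N5359 := flp_f L75324
theorem L75326 : sm ga N7452 = N5685 := ded_11_1 L31210 L29533 L75324
theorem L75327 : sm ga N5685 = N7452 := flp_a L75326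
theorem L75328 : sm gc N7452 = N5361 := ded_20_1 L29539 L29530 L75324
theorem L75329 : sm gc N5361 = N7452 := flp_c L75328
theorem L75330 : sm gd N7430 = N7452 := ded_9_0 L75326 L73168 L75163
theorem L75331 : sm gd N7452 = N7430 := flp_d L75330
theorem L75332 : sm gg N7431 = N7452 := ded_12_0 L75326 L73127 L75167
theorem L75333 : sm gg N7452 = N7431 := flp_g L75332
theorem L75334 : sm gg N5359 = N7453 := rfl
theorem L75335 : sm gg N7453 = N5359 := flp_g L75334
theorem L75336 : sm ga N7453 = N5686 := ded_12_1 L31214 L29533 L75334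
theorem L75337 : sm ga N5686 = N7453 := flp_a L75336
theorem L75338 : sm gc N7453 = N5362 := ded_21_1 L29543 L29530 L75334
theorem L75339 : sm gc N5362 = N7453 := flp_c L75338
theorem L75340 : sm gf N7417 = N7453 := ded_28_0 L75335 L75324 L75333 L75168
theorem L75341 : sm gf N7453 = N7417 := flp_f L75340
theorem L75342 : sm gf N5360 = N7454 := rfl
theorem L75343 : sm gf N7454 = N5360 := flp_f L75342
theorem L75344 : sm ga N7454 = N5688 := ded_11_1 L31222 L29537 L75342
theorem L75345 : sm ga N5688 = N7454 := flp_a L75344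
theorem L75346 : sm gb N7454 = N7286 := ded_16_1 L73985 L72861 L75342
theorem L75347 : sm gb N7286 = N7454 := flp_b L75346
theorem L75348 : sm ge N7454 = N5361 := ded_25_1 L29539 L29534 L75342
theorem L75349 : sm ge N5361 = N7454 := flp_e L75348
theorem L75350 : sm gg N5360 = N7455 := rfl
theorem L75351 : sm gg N7455 = N5360 := flp_g L75350
theorem L75352 : sm ga N7455 = N5689 := ded_12_1 L31226 L29537 L75350
theorem L75353 : sm ga N5689 = N7455 := flp_a L75352
theorem L75354 : sm gb N7455 = N7287 := ded_17_1 L73989 L72861 L75350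
theorem L75355 : sm gb N7287 = N7455 := flp_b L75354
theorem L75356 : sm ge N7455 = N5362 := ded_26_1 L29543 L29534 L75350
theorem L75357 : sm ge N5362 = N7455 := flp_e L75356
theorem L75358 : sm gg N5361 = N7456 := rfl
theorem L75359 : sm gg N7456 = N5361 := flp_g L75358
theorem L75360 : sm ga N7456 = N5691 := ded_12_1 L31234 L29541 L75358
theorem L75361 : sm ga N5691 = N7456 := flp_a L75360
theorem L75362 : sm gb N7456 = N7241 := ded_17_1 L73690 L72863 L75358
theorem L75363 : sm gb N7241 = N7456 := flp_b L75362
theorem L75364 : sm gc N7456 = N7431 := ded_21_1 L75332 L75328 L75358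
theorem L75365 : sm gc N7431 = N7456 := flp_c L75364
theorem L75366 : sm gf N7455 = N7456 := ded_28_0 L75359 L29539 L29542 L75357
theorem L75367 : sm gf N7456 = N7455 := flp_f L75366
theorem L75368 : sm gf N5362 = N7457 := rfl
theorem L75369 : sm gf N7457 = N5362 := flp_f L75368
theorem L75370 : sm ga N7457 = N5692 := ded_11_1 L31238 L29545 L75368
theorem L75371 : sm ga N5692 = N7457 := flp_a L75370
theorem L75372 : sm gb N7457 = N7288 := ded_16_1 L73997 L72865 L75368
theorem L75373 : sm gb N7288 = N7457 := flp_b L75372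
theorem L75374 : sm gc N7457 = N7417 := ded_20_1 L75340 L75338 L75368
theorem L75375 : sm gc N7417 = N7457 := flp_c L75374
theorem L75376 : sm ge N7457 = N7456 := ded_25_1 L75367 L75356 L75368
theorem L75377 : sm ge N7456 = N7457 := flp_e L75376
theorem L75378 : sm gg N7457 = N7454 := ded_28_3 L75348 L29539 L29542 L75368
theorem L75379 : sm gg N7454 = N7457 := flp_g L75378
theorem L75380 : sm gd N5955 = N7457 := ded_30_9 L75370 L73126 L30662 L16383 L8297 L65940 L8398 L8609 L17252 L32535
theorem L75381 : sm gd N7457 = N5955 := flp_d L75380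
theorem L75382 : sm gd N5375 = N7458 := rfl
theorem L75383 : sm gd N7458 = N5375 := flp_d L75382
theorem L75384 : sm ga N7458 = N5740 := ded_9_1 L31456 L29607 L75382
theorem L75385 : sm ga N5740 = N7458 := flp_a L75384
theorem L75386 : sm gb N7458 = N7294 := ded_14_1 L74039 L64346 L75382
theorem L75387 : sm gb N7294 = N7458 := flp_b L75386
theorem L75388 : sm ge N7458 = N5461 := ded_22_2 L30109 L16132 L15899 L29609 L75382
theorem L75389 : sm ge N5461 = N7458 := flp_e L75388
theorem L75390 : sm gf N7458 = N5596 := ded_23_2 L30812 L72071 L66061 L29604 L75382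
theorem L75391 : sm gf N5596 = N7458 := flp_f L75390
theorem L75392 : sm gb N5425 = N7459 := rfl
theorem L75393 : sm gb N7459 = N5425 := flp_b L75392
theorem L75394 : sm gd N7459 = N7302 := ded_14_2 L74105 L31013 L75392
theorem L75395 : sm gd N7302 = N7459 := flp_d L75394
theorem L75396 : sm gg N7459 = N5864 := ded_17_2 L32078 L67191 L75392
theorem L75397 : sm gg N5864 = N7459 := flp_g L75396
theorem L75398 : sm gc N7459 = N5872 := ded_13_2 L73090 L37701 L67321 L29890 L75392
theorem L75399 : sm gc N5872 = N7459 := flp_c L75398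
theorem L75400 : sm ge N5425 = N7460 := rfl
theorem L75401 : sm ge N7460 = N5425 := flp_e L75400
theorem L75402 : sm ga N7460 = N5866 := ded_10_1 L32086 L29893 L75400
theorem L75403 : sm ga N5866 = N7460 := flp_a L75402
theorem L75404 : sm gc N7460 = N5426 := ded_19_1 L29895 L29890 L75400
theorem L75405 : sm gc N5426 = N7460 := flp_c L75404
theorem L75406 : sm gg N7460 = N5866 := ded_26_2 L32086 L67191 L75400
theorem L75407 : sm gg N5866 = N7460 := flp_g L75406
theorem L75408 : sm gf N7460 = N7459 := ded_28_0 L75396 L73135 L67191 L75400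
theorem L75409 : sm gf N7459 = N7460 := flp_f L75408
theorem L75410 : sm gf N5425 = N7461 := rfl
theorem L75411 : sm gf N7461 = N5425 := flp_f L75410
theorem L75412 : sm ga N7461 = N5864 := ded_11_1 L73135 L29893 L75410
theorem L75413 : sm ga N5864 = N7461 := flp_a L75412
theorem L75414 : sm gb N7461 = N7460 := ded_16_1 L75408 L75393 L75410
theorem L75415 : sm gb N7460 = N7461 := flp_b L75414
theorem L75416 : sm gc N7461 = N5427 := ded_20_1 L29899 L29890 L75410
theorem L75417 : sm gc N5427 = N7461 := flp_c L75416
theorem L75418 : sm ge N7461 = N7459 := ded_25_1 L75409 L75401 L75410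
theorem L75419 : sm ge N7459 = N7461 := flp_e L75418
theorem L75420 : sm gd N7461 = N7380 := ded_31_2 L74750 L73144 L32934 L17422 L8667 L43576 L8321 L4226 L8521 L8519 L67268 L8512 L17050 L67191 L75410
theorem L75421 : sm gd N7380 = N7461 := flp_d L75420
theorem L75422 : sm gc N5454 = N7462 := rfl
theorem L75423 : sm gc N7462 = N5454 := flp_c L75422
theorem L75424 : sm ga N7462 = N5955 := ded_8_1 L32536 L30057 L75422
theorem L75425 : sm ga N5955 = N7462 := flp_a L75424
theorem L75426 : sm ge N7462 = N7373 := ded_19_2 L74689 L72354 L75422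
theorem L75427 : sm ge N7373 = N7462 := flp_e L75426
theorem L75428 : sm gf N7462 = N5955 := ded_20_2 L32536 L30059 L75422
theorem L75429 : sm gf N5955 = N7462 := flp_f L75428
theorem L75430 : sm gd N7462 = N5692 := ded_30_9 L75371 L75374 L75060 L29186 L15823 L71492 L15898 L16115 L30054 L75422
theorem L75431 : sm gd N5692 = N7462 := flp_d L75430
theorem L75432 : sm gc N5456 = N7463 := rfl
theorem L75433 : sm gc N7463 = N5456 := flp_c L75432
theorem L75434 : sm ga N7463 = N5959 := ded_8_1 L32544 L30071 L75432
theorem L75435 : sm ga N5959 = N7463 := flp_a L75434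
theorem L75436 : sm gf N7463 = N7359 := ded_20_2 L74575 L72731 L75432
theorem L75437 : sm gf N7359 = N7463 := flp_f L75436
theorem L75438 : sm gg N7463 = N5959 := ded_21_2 L32544 L30073 L75432
theorem L75439 : sm gg N5959 = N7463 := flp_g L75438
theorem L75440 : sm gb N7463 = N7320 := ded_13_1 L74267 L28431 L72703 L71791 L75432
theorem L75441 : sm gb N7320 = N7463 := flp_b L75440
theorem L75442 : sm ge N5456 = N7463 := ded_29_9 L75434 L74126 L74127 L74162 L74172 L74173 L74266 L75441 L75433
theorem L75443 : sm ge N7463 = N5456 := flp_e L75442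
theorem L75444 : sm gd N7463 = N7449 := ded_30_9 L75306 L74742 L74741 L28650 L15402 L71975 L53006 L16121 L30068 L75432
theorem L75445 : sm gd N7449 = N7463 := flp_d L75444
theorem L75446 : sm gc N5461 = N7464 := rfl
theorem L75447 : sm gc N7464 = N5461 := flp_c L75446
theorem L75448 : sm ga N7464 = N5967 := ded_8_1 L32576 L30111 L75446
theorem L75449 : sm ga N5967 = N7464 := flp_a L75448
theorem L75450 : sm gd N7464 = N5583 := ded_30_9 L75121 L75122 L30809 L72067 L17362 L71929 L41729 L71813 L30108 L75446
theorem L75451 : sm gd N5583 = N7464 := flp_d L75450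
theorem L75452 : sm gg N5461 = N7465 := rfl
theorem L75453 : sm gg N7465 = N5461 := flp_g L75452
theorem L75454 : sm ga N7465 = N5968 := ded_12_1 L32578 L30111 L75452
theorem L75455 : sm ga N5968 = N7465 := flp_a L75454
theorem L75456 : sm gb N7465 = N7263 := ded_17_1 L73839 L71650 L75452
theorem L75457 : sm gb N7263 = N7465 := flp_b L75456
theorem L75458 : sm gf N7465 = N7260 := ded_28_2 L73822 L73033 L72793 L75452
theorem L75459 : sm gf N7260 = N7465 := flp_f L75458
theorem L75460 : sm gd N7465 = N7278 := ded_24_1 L73935 L28224 L41958 L30108 L75452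
theorem L75461 : sm gd N7278 = N7465 := flp_d L75460
theorem L75462 : sm gc N5462 = N7466 := rfl
theorem L75463 : sm gc N7466 = N5462 := flp_c L75462
theorem L75464 : sm ga N7466 = N5969 := ded_8_1 L32580 L30115 L75462
theorem L75465 : sm ga N5969 = N7466 := flp_a L75464
theorem L75466 : sm gb N7466 = N7466 := ded_13_1 L75463 L74338 L74343 L74337 L75462
theorem L75467 : sm gf N5462 = N7467 := rfl
theorem L75468 : sm gf N7467 = N5462 := flp_f L75467
theorem L75469 : sm ga N7467 = N5971 := ded_11_1 L32586 L30115 L75467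
theorem L75470 : sm ga N5971 = N7467 := flp_a L75469
theorem L75471 : sm gg N5971 = N7467 := ded_28_1 L75468 L72794 L32582 L32585
theorem L75472 : sm gg N7467 = N5971 := flp_g L75471
theorem L75473 : sm gc N5463 = N7468 := rfl
theorem L75474 : sm gc N7468 = N5463 := flp_c L75473
theorem L75475 : sm ga N7468 = N5972 := ded_8_1 L32588 L30119 L75473
theorem L75476 : sm ga N5972 = N7468 := flp_a L75475
theorem L75477 : sm gg N7468 = N5865 := ded_21_2 L32084 L72963 L75473
theorem L75478 : sm gg N5865 = N7468 := flp_g L75477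
theorem L75479 : sm gd N7468 = N5972 := ded_30_9 L75476 L75474 L30117 L71761 L14970 L65579 L14971 L71762 L30116 L75473
theorem L75480 : sm gd N5972 = N7468 := flp_d L75479
theorem L75481 : sm ge N5463 = N7469 := rfl
theorem L75482 : sm ge N7469 = N5463 := flp_e L75481
theorem L75483 : sm ga N7469 = N5973 := ded_10_1 L32590 L30119 L75481
theorem L75484 : sm ga N5973 = N7469 := flp_a L75483
theorem L75485 : sm gb N7469 = N7325 := ded_15_1 L74313 L71753 L75481
theorem L75486 : sm gb N7325 = N7469 := flp_b L75485
theorem L75487 : sm gg N7469 = N7440 := ded_26_2 L75237 L72963 L75481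
theorem L75488 : sm gg N7440 = N7469 := flp_g L75487
theorem L75489 : sm gd N7469 = N7324 := ded_22_1 L74300 L28224 L71764 L30116 L75481
theorem L75490 : sm gd N7324 = N7469 := flp_d L75489
theorem L75491 : sm gf N5463 = N7470 := rfl
theorem L75492 : sm gf N7470 = N5463 := flp_f L75491
theorem L75493 : sm ga N7470 = N5974 := ded_11_1 L32592 L30119 L75491
theorem L75494 : sm ga N5974 = N7470 := flp_a L75493
theorem L75495 : sm gb N7470 = N7327 := ded_16_1 L74328 L71753 L75491
theorem L75496 : sm gb N7327 = N7470 := flp_b L75495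
theorem L75497 : sm gd N7470 = N7467 := ded_23_1 L75468 L30113 L16144 L30116 L75491
theorem L75498 : sm gd N7467 = N7470 := flp_d L75497
theorem L75499 : sm gc N5553 = N7471 := rfl
theorem L75500 : sm gc N7471 = N5553 := flp_c L75499
theorem L75501 : sm ge N5553 = N7472 := rfl
theorem L75502 : sm ge N7472 = N5553 := flp_e L75501
theorem L75503 : sm gb N7472 = N5556 := ded_15_1 L30652 L30641 L75501
theorem L75504 : sm gb N5556 = N7472 := flp_b L75503
theorem L75505 : sm gd N7472 = N5571 := ded_22_1 L72897 L30689 L16408 L30638 L75501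
theorem L75506 : sm gd N5571 = N7472 := flp_d L75505
theorem L75507 : sm gf N5553 = N7473 := rfl
theorem L75508 : sm gf N7473 = N5553 := flp_f L75507
theorem L75509 : sm gb N7473 = N5557 := ded_16_1 L30654 L30641 L75507
theorem L75510 : sm gb N5557 = N7473 := flp_b L75509
theorem L75511 : sm gd N7473 = N5573 := ded_23_1 L30712 L16410 L16371 L30638 L75507
theorem L75512 : sm gd N5573 = N7473 := flp_d L75511
theorem L75513 : sm gg N5553 = N7474 := rfl
theorem L75514 : sm gg N7474 = N5553 := flp_g L75513
theorem L75515 : sm gb N7474 = N5558 := ded_17_1 L30658 L30641 L75513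
theorem L75517 : sm gd N5554 = N7475 := rfl
theorem L75518 : sm gd N7475 = N5554 := flp_d L75517
theorem L75519 : sm gb N7475 = N5560 := ded_14_1 L30662 L30645 L75517
theorem L75520 : sm gb N5560 = N7475 := flp_b L75519
theorem L75521 : sm gb N5555 = N7476 := rfl
theorem L75522 : sm gb N7476 = N5555 := flp_b L75521
theorem L75523 : sm gd N7476 = N7443 := ded_14_2 L75261 L30650 L75521
theorem L75524 : sm gd N7443 = N7476 := flp_d L75523
theorem L75525 : sm ge N5555 = N7477 := rfl
theorem L75526 : sm ge N7477 = N5555 := flp_e L75525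
theorem L75527 : sm gc N7477 = N5556 := ded_19_1 L30652 L30647 L75525
theorem L75528 : sm gc N5556 = N7477 := flp_c L75527
theorem L75529 : sm gf N5555 = N7478 := rfl
theorem L75530 : sm gf N7478 = N5555 := flp_f L75529
theorem L75531 : sm gc N7478 = N5557 := ded_20_1 L30654 L30647 L75529
theorem L75532 : sm gc N5557 = N7478 := flp_c L75531
theorem L75533 : sm gg N5555 = N7479 := rfl
theorem L75534 : sm gg N7479 = N5555 := flp_g L75533
theorem L75535 : sm gc N7479 = N5558 := ded_21_1 L30658 L30647 L75533
theorem L75536 : sm gc N5558 = N7479 := flp_c L75535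
theorem L75537 : sm gf N5556 = N7480 := rfl
theorem L75538 : sm gf N7480 = N5556 := flp_f L75537
theorem L75539 : sm ge N7480 = N5557 := ded_25_1 L30654 L30651 L75537
theorem L75540 : sm ge N5557 = N7480 := flp_e L75539
theorem L75541 : sm gg N5556 = N7481 := rfl
theorem L75542 : sm gg N7481 = N5556 := flp_g L75541
theorem L75543 : sm ge N7481 = N5558 := ded_26_1 L30658 L30651 L75541
theorem L75544 : sm ge N5558 = N7481 := flp_e L75543
theorem L75545 : sm gg N5557 = N7482 := rfl
theorem L75546 : sm gg N7482 = N5557 := flp_g L75545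
theorem L75547 : sm gf N7481 = N7482 := ded_28_0 L75546 L30654 L30657 L75544
theorem L75548 : sm gf N7482 = N7481 := flp_f L75547
theorem L75549 : sm gd N5558 = N7483 := rfl
theorem L75550 : sm gd N7483 = N5558 := flp_d L75549
theorem L75551 : sm gg N7483 = N5560 := ded_24_2 L30662 L16382 L16373 L30657 L75549
theorem L75552 : sm gg N5560 = N7483 := flp_g L75551
theorem L75553 : sm gc N5688 = N7483 := ded_21_3 L75551 L73125 L31241
theorem L75554 : sm gc N7483 = N5688 := flp_c L75553
theorem L75555 : sm ge N5685 = N7483 := ded_26_3 L75551 L73035 L73128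
theorem L75556 : sm ge N7483 = N5685 := flp_e L75555
theorem L75557 : sm gf N5684 = N7483 := ded_28_0 L75551 L72875 L31214 L31205
theorem L75558 : sm gf N7483 = N5684 := flp_f L75557
theorem L75559 : sm gf N5558 = N7484 := rfl
theorem L75560 : sm gf N7484 = N5558 := flp_f L75559
theorem L75561 : sm ge N7484 = N7482 := ded_25_1 L75548 L75543 L75559
theorem L75562 : sm ge N7482 = N7484 := flp_e L75561
theorem L75563 : sm gg N7484 = N7480 := ded_28_3 L75539 L30654 L30657 L75559
theorem L75564 : sm gg N7480 = N7484 := flp_g L75563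
theorem L75565 : sm gc N5561 = N7485 := rfl
theorem L75566 : sm gc N7485 = N5561 := flp_c L75565
theorem L75567 : sm gf N7485 = N7252 := ded_20_2 L73764 L72715 L75565
theorem L75568 : sm gf N7252 = N7485 := flp_f L75567
theorem L75569 : sm gd N7485 = N7275 := ded_31_2 L74989 L74985 L73881 L73882 L73457 L73356 L73349 L24871 L15446 L15442 L15433 L28686 L74780 L74784 L75568
theorem L75570 : sm gd N7275 = N7485 := flp_d L75569
theorem L75571 : sm gg N7403 = N7485 := ded_24_0 L75569 L73918 L28939 L28944 L74948
theorem L75572 : sm gg N7485 = N7403 := flp_g L75571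
theorem L75573 : sm gg N5561 = N7486 := rfl
theorem L75574 : sm gg N7486 = N5561 := flp_g L75573
theorem L75575 : sm ga N7486 = N7398 := ded_12_1 L74910 L30906 L75573
theorem L75576 : sm ga N7398 = N7486 := flp_a L75575
theorem L75577 : sm gb N7486 = N5566 := ded_17_1 L30681 L30666 L75573
theorem L75578 : sm gb N5566 = N7486 := flp_b L75577
theorem L75579 : sm gc N7486 = N7403 := ded_21_1 L75571 L75566 L75573
theorem L75580 : sm gc N7403 = N7486 := flp_c L75579
theorem L75581 : sm ge N7486 = N7384 := ded_26_1 L74778 L74583 L75573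
theorem L75582 : sm ge N7384 = N7486 := flp_e L75581
theorem L75583 : sm gf N7386 = N7486 := ded_28_0 L75574 L72714 L73122 L74788
theorem L75584 : sm gf N7486 = N7386 := flp_f L75583
theorem L75585 : sm gd N7486 = N5615 := ded_24_1 L30901 L16522 L16388 L30663 L75573
theorem L75586 : sm gd N5615 = N7486 := flp_d L75585
theorem L75587 : sm gb N5563 = N7487 := rfl
theorem L75588 : sm gb N7487 = N5563 := flp_b L75587
theorem L75589 : sm gd N7487 = N7450 := ded_14_2 L75315 L30675 L75587
theorem L75590 : sm gd N7450 = N7487 := flp_d L75589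
theorem L75591 : sm ge N5563 = N7488 := rfl
theorem L75592 : sm ge N7488 = N5563 := flp_e L75591
theorem L75593 : sm gc N7488 = N5564 := ded_19_1 L30677 L30672 L75591
theorem L75594 : sm gc N5564 = N7488 := flp_c L75593
theorem L75595 : sm gg N7435 = N7488 := ded_21_0 L75593 L73119 L75200
theorem L75596 : sm gg N7488 = N7435 := flp_g L75595
theorem L75597 : sm gd N7488 = N7435 := ded_30_1 L75201 L29379 L15770 L15697 L29203 L72511 L74897 L74901 L73166 L75594
theorem L75598 : sm gd N7435 = N7488 := flp_d L75597
theorem L75599 : sm gf N5563 = N7489 := rfl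
theorem L75600 : sm gf N7489 = N5563 := flp_f L75599
theorem L75601 : sm gc N7489 = N5565 := ded_20_1 L30679 L30672 L75599
theorem L75602 : sm gc N5565 = N7489 := flp_c L75601
theorem L75603 : sm gg N5563 = N7490 := rfl
theorem L75604 : sm gg N7490 = N5563 := flp_g L75603
theorem L75605 : sm gc N7490 = N5566 := ded_21_1 L30681 L30672 L75603
theorem L75606 : sm gc N5566 = N7490 := flp_c L75605
theorem L75607 : sm ge N7490 = N7435 := ded_26_1 L75595 L75592 L75603
theorem L75608 : sm ge N7435 = N7490 := flp_e L75607
theorem L75609 : sm gd N7451 = N7490 := ded_22_5 L75607 L75598 L75592 L30674 L75318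
theorem L75610 : sm gd N7490 = N7451 := flp_d L75609
theorem L75611 : sm gf N5564 = N7491 := rfl
theorem L75612 : sm gf N7491 = N5564 := flp_f L75611
theorem L75613 : sm gb N7491 = N7253 := ded_16_1 L74585 L74581 L75611
theorem L75614 : sm gb N7253 = N7491 := flp_b L75613
theorem L75615 : sm ge N7491 = N5565 := ded_25_1 L30679 L30676 L75611
theorem L75616 : sm ge N5565 = N7491 := flp_e L75615
theorem L75617 : sm gd N7491 = N7448 := ded_23_1 L75312 L75445 L75436 L74578 L75611
theorem L75618 : sm gd N7448 = N7491 := flp_d L75617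
theorem L75619 : sm gf N5566 = N7492 := rfl
theorem L75620 : sm gf N7492 = N5566 := flp_f L75619
theorem L75621 : sm gb N7492 = N7386 := ded_16_1 L75583 L75577 L75619
theorem L75622 : sm gb N7386 = N7492 := flp_b L75621
theorem L75623 : sm ge N7492 = N7374 := ded_25_1 L74704 L72786 L75619
theorem L75624 : sm ge N7374 = N7492 := flp_e L75623
theorem L75625 : sm gg N7492 = N7491 := ded_28_3 L75615 L30679 L30680 L75619
theorem L75626 : sm gg N7491 = N7492 := flp_g L75625
theorem L75627 : sm gd N7492 = N7376 := ded_23_1 L74718 L72777 L30968 L30683 L75619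
theorem L75628 : sm gd N7376 = N7492 := flp_d L75627
theorem L75629 : sm gf N5569 = N7493 := rfl
theorem L75630 : sm gf N7493 = N5569 := flp_f L75629
theorem L75631 : sm ga N7493 = N5573 := ded_11_1 L30712 L30691 L75629
theorem L75632 : sm ga N5573 = N7493 := flp_a L75631
theorem L75633 : sm gb N7493 = N5587 := ded_16_1 L30783 L64654 L75629
theorem L75634 : sm gb N5587 = N7493 := flp_b L75633
theorem L75635 : sm gf N5571 = N7494 := rfl
theorem L75636 : sm gf N7494 = N5571 := flp_f L75635
theorem L75637 : sm gb N7494 = N5585 := ded_16_1 L30771 L72923 L75635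
theorem L75638 : sm gb N5585 = N7494 := flp_b L75637
theorem L75639 : sm gc N7494 = N5573 := ded_20_1 L30712 L30705 L75635
theorem L75640 : sm gc N5573 = N7494 := flp_c L75639
theorem L75641 : sm ge N7494 = N7493 := ded_25_1 L75630 L72898 L75635
theorem L75642 : sm ge N7493 = N7494 := flp_e L75641
theorem L75643 : sm gg N5573 = N7494 := ded_28_1 L75636 L72929 L30708 L30711
theorem L75644 : sm gg N7494 = N5573 := flp_g L75643
theorem L75645 : N7471 = N7474 := coi_31_0 L75514 L75507 L75511 L75640 L75644 L30712 L16410 L8214 L16422 L30704 L64675 L16426 L16423 L16371 L30638 L75499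
theorem L75646 : N7474 = N7471 := (eqc rfl L75645 rfl).symm
theorem L75647 : sm gb N7471 = N5558 := trfs L75646 L75515 rfl
theorem L75648 : sm gb N5558 = N7471 := flp_b L75647
theorem L75649 : sm gg N7471 = N5553 := trfs L75646 L75514 rfl
theorem L75650 : sm gg N5553 = N7471 := flp_g L75649
theorem L75651 : N7479 = N7476 := coi_13_3 L75522 L30648 L30641 L75499 L75647 L75536
theorem L75652 : N7479 = N7476 := eqc rfl L75651 rfl
theorem L75653 : sm gc N7476 = N5558 := trfs L75652 L75535 rfl
theorem L75654 : sm gc N5558 = N7476 := flp_c L75653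
theorem L75655 : sm gg N7476 = N5555 := trfs L75652 L75534 rfl
theorem L75656 : sm gg N5555 = N7476 := flp_g L75655
theorem L75657 : sm gd N5572 = N7495 := rfl
theorem L75658 : sm gd N7495 = N5572 := flp_d L75657
theorem L75659 : sm ga N7495 = N7472 := ded_9_1 L75505 L72899 L75657
theorem L75660 : sm ga N7472 = N7495 := flp_a L75659
theorem L75661 : sm gb N7495 = N5582 := ded_14_1 L30757 L30710 L75657
theorem L75662 : sm gb N5582 = N7495 := flp_b L75661
theorem L75663 : sm ge N7495 = N5575 := ded_22_2 L30720 L16414 L16409 L30707 L75657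
theorem L75664 : sm ge N5575 = N7495 := flp_e L75663
theorem L75665 : sm gf N5572 = N7496 := rfl
theorem L75666 : sm gf N7496 = N5572 := flp_f L75665
theorem L75667 : sm ga N7496 = N7494 := ded_11_1 L75636 L72899 L75665
theorem L75668 : sm ga N7494 = N7496 := flp_a L75667
theorem L75669 : sm gb N7496 = N5583 := ded_16_1 L30761 L30710 L75665
theorem L75670 : sm gb N5583 = N7496 := flp_b L75669
theorem L75671 : sm gc N7496 = N7493 := ded_20_1 L75630 L72896 L75665
theorem L75672 : sm gc N7493 = N7496 := flp_c L75671
theorem L75673 : sm ge N7496 = N5573 := ded_25_1 L30712 L30707 L75665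
theorem L75674 : sm ge N5573 = N7496 := flp_e L75673
theorem L75675 : sm gg N7496 = N7493 := ded_28_3 L75642 L75636 L72929 L75665
theorem L75676 : sm gg N7493 = N7496 := flp_g L75675
theorem L75677 : sm gc N5575 = N7497 := rfl
theorem L75678 : sm gc N7497 = N5575 := flp_c L75677
theorem L75679 : sm ga N7497 = N7471 := ded_8_1 L75500 L30722 L75677
theorem L75680 : sm ga N7471 = N7497 := flp_a L75679
theorem L75681 : sm gg N5575 = N7497 := ded_12_0 L75679 L75649 L30722
theorem L75682 : sm gg N7497 = N5575 := flp_g L75681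
theorem L75683 : sm gb N7497 = N5590 := ded_17_1 L30793 L30724 L75681
theorem L75684 : sm gb N5590 = N7497 := flp_b L75683
theorem L75685 : sm gf N5575 = N7498 := rfl
theorem L75686 : sm gf N7498 = N5575 := flp_f L75685
theorem L75687 : sm ga N7498 = N7473 := ded_11_1 L75508 L30722 L75685
theorem L75688 : sm ga N7473 = N7498 := flp_a L75687
theorem L75689 : sm gb N7498 = N5589 := ded_16_1 L30791 L30724 L75685
theorem L75690 : sm gb N5589 = N7498 := flp_b L75689
theorem L75691 : sm gd N7498 = N7493 := ded_23_1 L75630 L30689 L16421 L30719 L75685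
theorem L75692 : sm gd N7493 = N7498 := flp_d L75691
theorem L75693 : sm gd N5576 = N7499 := rfl
theorem L75694 : sm gd N7499 = N5576 := flp_d L75693
theorem L75695 : sm ga N7499 = N7475 := ded_9_1 L75518 L30728 L75693
theorem L75696 : sm ga N7475 = N7499 := flp_a L75695
theorem L75697 : sm gb N7499 = N5591 := ded_14_1 L30795 L30730 L75693
theorem L75698 : sm gb N5591 = N7499 := flp_b L75697
theorem L75699 : sm ge N7499 = N7475 := ded_22_2 L75518 L30702 L64675 L30733 L75693
theorem L75700 : sm ge N7475 = N7499 := flp_e L75699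
theorem L75701 : sm gd N5579 = N7500 := rfl
theorem L75702 : sm gd N7500 = N5579 := flp_d L75701
theorem L75703 : sm ge N7500 = N7438 := ded_22_2 L75223 L64483 L16430 L30744 L75701
theorem L75704 : sm ge N7438 = N7500 := flp_e L75703
theorem L75705 : sm gf N7500 = N5748 := ded_23_2 L31496 L66091 L75179 L75176 L75701
theorem L75706 : sm gf N5748 = N7500 := flp_f L75705
theorem L75707 : sm gg N7500 = N7434 := ded_24_2 L75195 L29340 L64493 L72915 L75701
theorem L75708 : sm gg N7434 = N7500 := flp_g L75707
theorem L75709 : sm gd N5581 = N7501 := rfl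
theorem L75710 : sm gd N7501 = N5581 := flp_d L75709
theorem L75711 : sm gb N7501 = N7500 := ded_14_1 L75702 L72926 L75709
theorem L75712 : sm gb N7500 = N7501 := flp_b L75711
theorem L75713 : sm ge N7501 = N5748 := ded_22_2 L31496 L51937 L64493 L72918 L75709
theorem L75714 : sm ge N5748 = N7501 := flp_e L75713
theorem L75715 : sm gf N7501 = N7438 := ded_23_2 L75223 L29482 L75193 L75188 L75709
theorem L75716 : sm gf N7438 = N7501 := flp_f L75715
theorem L75717 : sm gg N7501 = N7436 := ded_24_2 L75212 L64266 L16430 L30752 L75709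
theorem L75718 : sm gg N7436 = N7501 := flp_g L75717
theorem L75719 : sm gc N5582 = N7502 := rfl
theorem L75720 : sm gc N7502 = N5582 := flp_c L75719
theorem L75721 : sm ge N7502 = N5588 := ded_19_2 L30789 L30759 L75719
theorem L75722 : sm ge N5588 = N7502 := flp_e L75721
theorem L75723 : sm gf N5582 = N7503 := rfl
theorem L75724 : sm gf N7503 = N5582 := flp_f L75723
theorem L75725 : sm ge N7503 = N5589 := ded_25_1 L30791 L30759 L75723
theorem L75726 : sm ge N5589 = N7503 := flp_e L75725
theorem L75727 : sm gg N5582 = N7504 := rfl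
theorem L75728 : sm gg N7504 = N5582 := flp_g L75727
theorem L75729 : sm ge N7504 = N5590 := ded_26_1 L30793 L30759 L75727
theorem L75730 : sm ge N5590 = N7504 := flp_e L75729
theorem L75731 : sm gd N7504 = N7481 := ded_24_1 L75542 L72919 L30765 L30756 L75727
theorem L75732 : sm gd N7481 = N7504 := flp_d L75731
theorem L75733 : sm gd N5585 = N7505 := rfl
theorem L75734 : sm gd N7505 = N5585 := flp_d L75733
theorem L75735 : sm gc N5596 = N7505 := ded_30_0 L75734 L72914 L29313 L64168 L29263 L15720 L15730 L29280 L74465 L74456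
theorem L75736 : sm gc N7505 = N5596 := flp_c L75735
theorem L75737 : sm gb N5588 = N7506 := rfl
theorem L75738 : sm gb N7506 = N5588 := flp_b L75737
theorem L75739 : sm gc N7506 = N5590 := ded_13_2 L75684 L75678 L30723 L30788 L75737
theorem L75740 : sm gc N5590 = N7506 := flp_c L75739
theorem L75741 : sm gg N5588 = N7506 := ded_21_0 L75739 L30793 L30788
theorem L75742 : sm gg N7506 = N5588 := flp_g L75741
theorem L75743 : sm gd N5588 = N7507 := rfl
theorem L75744 : sm gd N7507 = N5588 := flp_d L75743
theorem L75745 : sm gf N5588 = N7508 := rfl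
theorem L75746 : sm gf N7508 = N5588 := flp_f L75745
theorem L75747 : sm gc N7508 = N5589 := ded_20_1 L30791 L30788 L75745
theorem L75748 : sm gc N5589 = N7508 := flp_c L75747
theorem L75749 : sm gg N5589 = N7509 := rfl
theorem L75750 : sm gg N7509 = N5589 := flp_g L75749
theorem L75751 : sm gf N7504 = N7509 := ded_28_0 L75750 L30791 L30792 L75730
theorem L75752 : sm gf N7509 = N7504 := flp_f L75751
theorem L75753 : sm gf N5590 = N7510 := rfl
theorem L75754 : sm gf N7510 = N5590 := flp_f L75753
theorem L75755 : sm ge N7510 = N7509 := ded_25_1 L75752 L75729 L75753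
theorem L75756 : sm ge N7509 = N7510 := flp_e L75755
theorem L75757 : sm gg N7510 = N7503 := ded_28_3 L75725 L30791 L30792 L75753
theorem L75758 : sm gg N7503 = N7510 := flp_g L75757
theorem L75759 : sm gf N5591 = N7511 := rfl
theorem L75760 : sm gf N7511 = N5591 := flp_f L75759
theorem L75761 : sm gc N7511 = N5689 := ded_20_1 L31235 L73017 L75759
theorem L75762 : sm gc N5689 = N7511 := flp_c L75761
theorem L75763 : sm ge N7511 = N5686 := ded_25_1 L72874 L73035 L75759
theorem L75764 : sm ge N5686 = N7511 := flp_e L75763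
theorem L75765 : sm gg N7511 = N5684 := ded_28_3 L31206 L31209 L73127 L75759
theorem L75766 : sm gg N5684 = N7511 := flp_g L75765
theorem L75767 : sm gd N7511 = N5686 := ded_23_1 L72874 L30662 L16446 L30794 L75759
theorem L75768 : sm gd N5686 = N7511 := flp_d L75767
theorem L75769 : sm gb N5598 = N7512 := rfl
theorem L75770 : sm gb N7512 = N5598 := flp_b L75769
theorem L75771 : sm gg N7512 = N7421 := ded_17_2 L75091 L64520 L75769
theorem L75772 : sm gg N7421 = N7512 := flp_g L75771
theorem L75773 : sm gc N7512 = N7512 := ded_13_2 L75770 L30819 L16474 L30818 L75769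
theorem L75774 : sm gd N5598 = N7513 := rfl
theorem L75775 : sm gd N7513 = N5598 := flp_d L75774
theorem L75776 : sm ga N7513 = N7505 := ded_9_1 L75734 L72912 L75774
theorem L75777 : sm ga N7505 = N7513 := flp_a L75776
theorem L75778 : sm gc N7344 = N7513 := ded_30_0 L75775 L30819 L16473 L72098 L16448 L8223 L8232 L16460 L30811 L74457
theorem L75779 : sm gc N7513 = N7344 := flp_c L75778
theorem L75780 : sm ge N7513 = N7343 := ded_19_2 L74451 L74454 L75778
theorem L75781 : sm ge N7343 = N7513 := flp_e L75780
theorem L75782 : sm gd N5606 = N7514 := rfl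
theorem L75783 : sm gd N7514 = N5606 := flp_d L75782
theorem L75784 : sm gb N7514 = N7221 := ded_14_1 L73561 L30850 L75782
theorem L75785 : sm gb N7221 = N7514 := flp_b L75784
theorem L75786 : sm gg N7514 = N7437 := ded_24_2 L75215 L71484 L66062 L72013 L75782
theorem L75787 : sm gg N7437 = N7514 := flp_g L75786
theorem L75788 : sm gc N5608 = N7515 := rfl
theorem L75789 : sm gc N7515 = N5608 := flp_c L75788
theorem L75790 : sm ge N7515 = N5639 := ded_19_2 L31008 L30867 L75788
theorem L75791 : sm ge N5639 = N7515 := flp_e L75790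
theorem L75792 : sm gg N5608 = N7516 := rfl
theorem L75793 : sm gg N7516 = N5608 := flp_g L75792
theorem L75794 : sm ga N7516 = N7500 := ded_12_1 L75707 L75196 L75792
theorem L75795 : sm ga N7500 = N7516 := flp_a L75794
theorem L75796 : sm gb N7516 = N7516 := ded_17_1 L75793 L30865 L75792
theorem L75797 : sm ge N7516 = N5638 := ded_26_1 L31005 L30867 L75792
theorem L75798 : sm ge N5638 = N7516 := flp_e L75797
theorem L75799 : sm gf N7516 = N5609 := ded_28_2 L30871 L30991 L30994 L75792
theorem L75800 : sm gf N5609 = N7516 := flp_f L75799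
theorem L75801 : sm gd N7516 = N5727 := ded_24_1 L72908 L30814 L16503 L30863 L75792
theorem L75802 : sm gd N5727 = N7516 := flp_d L75801
theorem L75803 : sm gc N5609 = N7517 := rfl
theorem L75804 : sm gc N7517 = N5609 := flp_c L75803
theorem L75805 : sm gg N7517 = N5635 := ded_21_2 L30990 L30872 L75803
theorem L75806 : sm gg N5635 = N7517 := flp_g L75805
theorem L75807 : sm gd N7517 = N5665 := ded_30_9 L73005 L32930 L17422 L8667 L4290 L4276 L8654 L41107 L30868 L75803
theorem L75808 : sm gd N5665 = N7517 := flp_d L75807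
theorem L75809 : sm ge N5609 = N7518 := rfl
theorem L75810 : sm ge N7518 = N5609 := flp_e L75809
theorem L75811 : sm ga N7518 = N7501 := ded_10_1 L75713 L72971 L75809
theorem L75812 : sm ga N7501 = N7518 := flp_a L75811
theorem L75813 : sm gb N7518 = N7518 := ded_15_1 L75810 L30870 L75809
theorem L75814 : sm gf N7518 = N5638 := ded_25_2 L75798 L75799 L75809
theorem L75815 : sm gf N5638 = N7518 := flp_f L75814
theorem L75816 : sm gg N7518 = N5636 := ded_26_2 L30992 L30872 L75809
theorem L75817 : sm gg N5636 = N7518 := flp_g L75816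
theorem L75818 : sm gd N7518 = N5729 := ded_22_1 L72909 L30814 L16511 L30868 L75809
theorem L75819 : sm gd N5729 = N7518 := flp_d L75818
theorem L75820 : sm gc N7518 = N7507 := ded_30_0 L75744 L30789 L16438 L8219 L8194 L16378 L64652 L30755 L75709 L75812
theorem L75821 : sm gc N7507 = N7518 := flp_c L75820
theorem L75822 : sm ge N7507 = N7517 := ded_19_2 L75804 L75809 L75820
theorem L75823 : sm ge N7517 = N7507 := flp_e L75822
theorem L75824 : sm gd N5613 = N7519 := rfl
theorem L75825 : sm gd N7519 = N5613 := flp_d L75824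
theorem L75826 : sm ga N7519 = N7360 := ded_9_1 L74580 L72784 L75824
theorem L75827 : sm ga N7360 = N7519 := flp_a L75826
theorem L75828 : sm gb N7519 = N5623 := ded_14_1 L30942 L30895 L75824
theorem L75829 : sm gb N5623 = N7519 := flp_b L75828
theorem L75830 : sm ge N7519 = N5616 := ded_22_2 L30905 L16526 L16521 L30892 L75824
theorem L75831 : sm ge N5616 = N7519 := flp_e L75830
theorem L75832 : sm gg N7519 = N7227 := ded_24_2 L73618 L41711 L28734 L72742 L75824
theorem L75833 : sm gg N7227 = N7519 := flp_g L75832
theorem L75834 : sm gc N5616 = N7520 := rfl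
theorem L75835 : sm gc N7520 = N5616 := flp_c L75834
theorem L75836 : sm ga N7520 = N7485 := ded_8_1 L75566 L30907 L75834
theorem L75837 : sm ga N7485 = N7520 := flp_a L75836
theorem L75838 : sm gc N5623 = N7521 := rfl
theorem L75839 : sm gc N7521 = N5623 := flp_c L75838
theorem L75840 : sm ga N7521 = N7490 := ded_8_1 L75605 L72781 L75838
theorem L75841 : sm ga N7490 = N7521 := flp_a L75840
theorem L75842 : sm ge N7521 = N5629 := ded_19_2 L30974 L30944 L75838
theorem L75843 : sm ge N5629 = N7521 := flp_e L75842
theorem L75844 : sm gg N7521 = N5683 := ded_21_2 L31204 L72778 L75838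
theorem L75845 : sm gg N5683 = N7521 := flp_g L75844
theorem L75846 : sm gd N7521 = N5684 := ded_30_9 L75321 L75322 L72876 L75323 L75609 L75605 L30682 L71307 L30941 L75838
theorem L75847 : sm gd N5684 = N7521 := flp_d L75846
theorem L75848 : sm gf N5623 = N7522 := rfl
theorem L75849 : sm gf N7522 = N5623 := flp_f L75848
theorem L75850 : sm ga N7522 = N7492 := ded_11_1 L75620 L72781 L75848
theorem L75851 : sm ga N7492 = N7522 := flp_a L75850
theorem L75852 : sm ge N7522 = N5630 := ded_25_1 L30976 L30944 L75848
theorem L75853 : sm ge N5630 = N7522 := flp_e L75852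
theorem L75854 : sm gb N5629 = N7523 := rfl
theorem L75855 : sm gb N7523 = N5629 := flp_b L75854
theorem L75856 : sm gd N5629 = N7524 := rfl
theorem L75857 : sm gd N7524 = N5629 := flp_d L75856
theorem L75858 : sm ga N7524 = N7488 := ded_9_1 L75597 L75202 L75856
theorem L75859 : sm ga N7488 = N7524 := flp_a L75858
theorem L75860 : sm ge N7524 = N5683 := ded_22_2 L31200 L31205 L75847 L75842 L75856
theorem L75861 : sm ge N5683 = N7524 := flp_e L75860
theorem L75862 : sm gc N5631 = N7524 := ded_30_0 L75857 L30974 L16550 L8261 L8208 L16395 L72730 L74576 L74578 L73165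
theorem L75863 : sm gc N7524 = N5631 := flp_c L75862
theorem L75864 : sm gg N5629 = N7524 := ded_12_0 L75858 L75596 L75202
theorem L75865 : sm gg N7524 = N5629 := flp_g L75864
theorem L75866 : sm gf N5629 = N7525 := rfl
theorem L75867 : sm gf N7525 = N5629 := flp_f L75866
theorem L75868 : sm gc N7525 = N5630 := ded_20_1 L30976 L30973 L75866
theorem L75869 : sm gc N5630 = N7525 := flp_c L75868
theorem L75870 : sm gf N5631 = N7526 := rfl
theorem L75871 : sm gf N7526 = N5631 := flp_f L75870
theorem L75872 : sm ga N7526 = N7491 := ded_11_1 L75612 L73165 L75870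
theorem L75873 : sm ga N7491 = N7526 := flp_a L75872
theorem L75874 : sm gb N7526 = N7229 := ded_16_1 L74909 L74904 L75870
theorem L75875 : sm gb N7229 = N7526 := flp_b L75874
theorem L75876 : sm ge N7526 = N7224 := ded_25_1 L73595 L73118 L75870
theorem L75877 : sm ge N7224 = N7526 := flp_e L75876
theorem L75878 : sm gg N7526 = N7522 := ded_28_3 L75852 L30976 L30977 L75870
theorem L75879 : sm gg N7522 = N7526 := flp_g L75878
theorem L75880 : sm gd N7526 = N5661 := ded_23_1 L31113 L73029 L74893 L74901 L75870
theorem L75881 : sm gd N5661 = N7526 := flp_d L75880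
theorem L75882 : sm gb N5635 = N7527 := rfl
theorem L75883 : sm gb N7527 = N5635 := flp_b L75882
theorem L75884 : sm gc N7527 = N7527 := ded_13_2 L75883 L30990 L16571 L30989 L75882
theorem L75885 : sm ge N5635 = N7528 := rfl
theorem L75886 : sm ge N7528 = N5635 := flp_e L75885
theorem L75887 : sm gc N7528 = N5636 := ded_19_1 L30992 L30989 L75885
theorem L75888 : sm gc N5636 = N7528 := flp_c L75887
theorem L75889 : sm gf N7528 = N7515 := ded_25_2 L75790 L31009 L75885
theorem L75890 : sm gf N7515 = N7528 := flp_f L75889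
theorem L75891 : sm gg N7528 = N7507 := ded_26_2 L75822 L75805 L75885
theorem L75892 : sm gg N7507 = N7528 := flp_g L75891
theorem L75893 : sm gc N5637 = N7529 := rfl
theorem L75894 : sm gc N7529 = N5637 := flp_c L75893
theorem L75895 : sm gd N7529 = N7340 := ded_30_9 L74604 L74602 L28466 L15315 L52951 L8265 L8274 L16572 L30998 L75893
theorem L75896 : sm gd N7340 = N7529 := flp_d L75895
theorem L75897 : sm gf N5637 = N7530 := rfl
theorem L75898 : sm gf N7530 = N5637 := flp_f L75897
theorem L75899 : sm gb N7530 = N7230 := ded_16_1 L73631 L31001 L75897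
theorem L75900 : sm gb N7230 = N7530 := flp_b L75899
theorem L75901 : sm gd N7530 = N5642 := ded_23_1 L31018 L16604 L16575 L30998 L75897
theorem L75902 : sm gd N5642 = N7530 := flp_d L75901
theorem L75903 : sm gg N5637 = N7531 := rfl
theorem L75904 : sm gg N7531 = N5637 := flp_g L75903
theorem L75905 : sm ga N7531 = N7514 := ded_12_1 L75786 L75216 L75903
theorem L75906 : sm ga N7514 = N7531 := flp_a L75905
theorem L75907 : sm gb N7531 = N7289 := ded_17_1 L74008 L31001 L75903
theorem L75908 : sm gb N7289 = N7531 := flp_b L75907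
theorem L75909 : sm ge N7531 = N7514 := ded_26_1 L75786 L75220 L75903
theorem L75910 : sm ge N7514 = N7531 := flp_e L75909
theorem L75911 : sm gd N7531 = N5739 := ded_24_1 L31452 L16789 L51987 L30998 L75903
theorem L75912 : sm gd N5739 = N7531 := flp_d L75911
theorem L75913 : sm gc N5638 = N7532 := rfl
theorem L75914 : sm gc N7532 = N5638 := flp_c L75913
theorem L75915 : sm gf N7532 = N7507 := ded_20_2 L75821 L75814 L75913
theorem L75916 : sm gf N7507 = N7532 := flp_f L75915
theorem L75917 : sm gg N7532 = N5639 := ded_21_2 L31008 L31006 L75913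
theorem L75918 : sm gg N5639 = N7532 := flp_g L75917
theorem L75919 : sm gb N5639 = N7533 := rfl
theorem L75920 : sm gb N7533 = N5639 := flp_b L75919
theorem L75921 : sm gf N7533 = N7527 := ded_16_2 L75883 L31010 L75919
theorem L75922 : sm gf N7527 = N7533 := flp_f L75921
theorem L75923 : sm gc N7533 = N7533 := ded_13_2 L75920 L31008 L16600 L31007 L75919
theorem L75924 : sm gd N5639 = N7534 := rfl
theorem L75925 : sm gd N7534 = N5639 := flp_d L75924
theorem L75926 : sm ge N5640 = N7535 := rfl
theorem L75927 : sm ge N7535 = N5640 := flp_e L75926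
theorem L75928 : sm gb N7535 = N7379 := ded_15_1 L74744 L74105 L75926
theorem L75929 : sm gb N7379 = N7535 := flp_b L75928
theorem L75930 : sm gc N7535 = N5641 := ded_19_1 L31016 L31011 L75926
theorem L75931 : sm gc N5641 = N7535 := flp_c L75930
theorem L75932 : sm gd N7378 = N7535 := ded_14_0 L75928 L74741 L74734
theorem L75933 : sm gd N7535 = N7378 := flp_d L75932
theorem L75934 : sm gf N5640 = N7536 := rfl
theorem L75935 : sm gf N7536 = N5640 := flp_f L75934
theorem L75936 : sm gb N7536 = N5658 := ded_16_1 L74104 L74105 L75934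
theorem L75937 : sm gb N5658 = N7536 := flp_b L75936
theorem L75938 : sm gc N7536 = N5642 := ded_20_1 L31018 L31011 L75934
theorem L75939 : sm gc N5642 = N7536 := flp_c L75938
theorem L75940 : sm gg N5654 = N7536 := ded_17_0 L75936 L31096 L31079
theorem L75941 : sm gg N7536 = N5654 := flp_g L75940
theorem L75942 : sm gd N5641 = N7537 := rfl
theorem L75943 : sm gd N7537 = N5641 := flp_d L75942
theorem L75944 : sm ga N7537 = N7202 := ded_9_1 L75242 L75238 L75942
theorem L75945 : sm ga N7202 = N7537 := flp_a L75944
theorem L75946 : sm gb N7537 = N7205 := ded_14_1 L74037 L74028 L75942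
theorem L75947 : sm gb N7205 = N7537 := flp_b L75946
theorem L75948 : sm ge N7537 = N5644 := ded_22_2 L31022 L16606 L16603 L31015 L75942
theorem L75949 : sm ge N5644 = N7537 := flp_e L75948
theorem L75950 : sm gc N7442 = N7537 := ded_30_0 L75943 L75931 L75933 L74736 L72373 L16488 L8292 L16610 L31021 L75251
theorem L75951 : sm gc N7537 = N7442 := flp_c L75950
theorem L75952 : sm gg N7216 = N7537 := ded_12_0 L75944 L73412 L73526
theorem L75953 : sm gg N7537 = N7216 := flp_g L75952
theorem L75954 : sm gf N7202 = N7537 := ded_16_0 L75946 L73435 L73410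
theorem L75955 : sm gf N7537 = N7202 := flp_f L75954
theorem L75956 : sm gf N5641 = N7538 := rfl
theorem L75957 : sm gf N7538 = N5641 := flp_f L75956
theorem L75958 : sm gb N7538 = N7231 := ded_16_1 L74033 L74028 L75956
theorem L75959 : sm gb N7231 = N7538 := flp_b L75958
theorem L75960 : sm ge N7538 = N5642 := ded_25_1 L31018 L31015 L75956
theorem L75961 : sm ge N5642 = N7538 := flp_e L75960
theorem L75962 : sm gg N5974 = N7538 := ded_28_1 L75957 L72967 L32590 L32591
theorem L75963 : sm gg N7538 = N5974 := flp_g L75962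
theorem L75964 : sm gg N5642 = N7539 := rfl
theorem L75965 : sm gg N7539 = N5642 := flp_g L75964
theorem L75966 : sm gb N7539 = N5647 := ded_17_1 L72854 L73036 L75964
theorem L75967 : sm gb N5647 = N7539 := flp_b L75966
theorem L75968 : sm gc N7539 = N5654 := ded_21_1 L75940 L75938 L75964
theorem L75969 : sm gc N5654 = N7539 := flp_c L75968
theorem L75970 : sm ge N7539 = N5974 := ded_26_1 L75962 L75960 L75964
theorem L75971 : sm ge N5974 = N7539 := flp_e L75970
theorem L75972 : sm gf N5973 = N7539 := ded_28_0 L75965 L31018 L66002 L32589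
theorem L75973 : sm gf N7539 = N5973 := flp_f L75972
theorem L75974 : sm gd N5648 = N7540 := rfl
theorem L75975 : sm gd N7540 = N5648 := flp_d L75974
theorem L75976 : sm ga N7540 = N7390 := ded_9_1 L74819 L73081 L75974
theorem L75977 : sm ga N7390 = N7540 := flp_a L75976
theorem L75978 : sm gb N7540 = N5659 := ded_14_1 L31100 L31048 L75974
theorem L75979 : sm gb N5659 = N7540 := flp_b L75978
theorem L75980 : sm ge N7540 = N5651 := ded_22_2 L31058 L16633 L16628 L31045 L75974
theorem L75981 : sm ge N5651 = N7540 := flp_e L75980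
theorem L75982 : sm gf N7540 = N7396 := ded_23_2 L74886 L29079 L27896 L73079 L75974
theorem L75983 : sm gf N7396 = N7540 := flp_f L75982
theorem L75984 : sm ga N5654 = N7541 := rfl
theorem L75985 : sm ga N7541 = N5654 := flp_a L75984
theorem L75986 : sm gd N5654 = N7542 := rfl
theorem L75987 : sm gd N7542 = N5654 := flp_d L75986
theorem L75988 : sm gb N7542 = N5655 := ded_14_1 L31082 L31079 L75986
theorem L75989 : sm gb N5655 = N7542 := flp_b L75988
theorem L75990 : sm ge N5654 = N7543 := rfl
theorem L75991 : sm ge N7543 = N5654 := flp_e L75990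
theorem L75992 : sm gb N7543 = N5656 := ded_15_1 L31088 L31079 L75990
theorem L75993 : sm gb N5656 = N7543 := flp_b L75992
theorem L75994 : sm gc N7543 = N5974 := ded_19_1 L75971 L75968 L75990
theorem L75995 : sm gc N5974 = N7543 := flp_c L75994
theorem L75996 : sm gf N7543 = N5972 := ded_28_0 L72966 L75934 L75941 L75990
theorem L75997 : sm gf N5972 = N7543 := flp_f L75996
theorem L75998 : sm gf N5654 = N7544 := rfl
theorem L75999 : sm gf N7544 = N5654 := flp_f L75998
theorem L76000 : sm gb N7544 = N5657 := ded_16_1 L31092 L31079 L75998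
theorem L76001 : sm gb N5657 = N7544 := flp_b L76000
theorem L76002 : sm gc N7544 = N5973 := ded_20_1 L75972 L75968 L75998
theorem L76003 : sm gc N5973 = N7544 := flp_c L76002
theorem L76004 : sm ge N7544 = N5972 := ded_25_1 L75997 L75991 L75998
theorem L76005 : sm ge N5972 = N7544 := flp_e L76004
theorem L76006 : sm gg N7544 = N7535 := ded_28_3 L75927 L75934 L75941 L75998
theorem L76007 : sm gg N7535 = N7544 := flp_g L76006
theorem L76008 : sm ge N5655 = N7545 := rfl
theorem L76009 : sm ge N7545 = N5655 := flp_e L76008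
theorem L76010 : sm ga N7545 = N7477 := ded_10_1 L75526 L31084 L76008
theorem L76011 : sm ga N7477 = N7545 := flp_a L76010
theorem L76012 : sm gc N7545 = N7414 := ded_19_1 L75046 L31085 L76008
theorem L76013 : sm gc N7414 = N7545 := flp_c L76012
theorem L76014 : sm gd N7532 = N7545 := ded_30_9 L76010 L75527 L72919 L72927 L64494 L51945 L16789 L66031 L31002 L75913
theorem L76015 : sm gd N7545 = N7532 := flp_d L76014
theorem L76016 : sm gf N5655 = N7546 := rfl
theorem L76017 : sm gf N7546 = N5655 := flp_f L76016
theorem L76018 : sm ga N7546 = N7478 := ded_11_1 L75530 L31084 L76016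
theorem L76019 : sm ga N7478 = N7546 := flp_a L76018
theorem L76020 : sm gc N7546 = N7415 := ded_20_1 L75050 L31085 L76016
theorem L76021 : sm gc N7415 = N7546 := flp_c L76020
theorem L76022 : sm gg N5655 = N7547 := rfl
theorem L76023 : sm gg N7547 = N5655 := flp_g L76022
theorem L76024 : sm ga N7547 = N7476 := ded_12_1 L75655 L31084 L76022
theorem L76025 : sm ga N7476 = N7547 := flp_a L76024
theorem L76026 : sm gc N7547 = N7416 := ded_21_1 L75056 L31085 L76022
theorem L76027 : sm gc N7416 = N7547 := flp_c L76026
theorem L76028 : sm gd N5656 = N7548 := rfl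
theorem L76029 : sm gd N7548 = N5656 := flp_d L76028
theorem L76030 : sm ge N7548 = N7532 := ded_22_2 L76014 L76009 L31082 L31087 L76028
theorem L76031 : sm ge N7532 = N7548 := flp_e L76030
theorem L76032 : sm gf N7517 = N7548 := ded_31_1 L76029 L31089 L31107 L31113 L73029 L32544 L30073 L72732 L72729 L16394 L8205 L8267 L16569 L30989 L75806
theorem L76033 : sm gf N7548 = N7517 := flp_f L76032
theorem L76034 : sm gc N7516 = N7548 := ded_19_3 L76030 L75914 L75798
theorem L76035 : sm gc N7548 = N7516 := flp_c L76034
theorem L76036 : sm gg N7515 = N7548 := ded_26_0 L76030 L75917 L75791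
theorem L76037 : sm gg N7548 = N7515 := flp_g L76036
theorem L76038 : sm gf N5656 = N7549 := rfl
theorem L76039 : sm gf N7549 = N5656 := flp_f L76038
theorem L76040 : sm gb N7549 = N5972 := ded_16_1 L75997 L75992 L76038
theorem L76041 : sm gb N5972 = N7549 := flp_b L76040
theorem L76042 : sm gc N7549 = N5660 := ded_20_1 L31104 L31090 L76038
theorem L76043 : sm gc N5660 = N7549 := flp_c L76042
theorem L76044 : sm ge N7549 = N5657 := ded_25_1 L31092 L31087 L76038
theorem L76045 : sm ge N5657 = N7549 := flp_e L76044
theorem L76046 : sm gg N7549 = N7302 := ded_28_1 L74103 L31096 L31087 L76038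
theorem L76047 : sm gg N7302 = N7549 := flp_g L76046
theorem L76048 : sm gg N5656 = N7550 := rfl
theorem L76049 : sm gg N7550 = N5656 := flp_g L76048
theorem L76050 : sm gc N7550 = N5661 := ded_21_1 L31108 L31090 L76048
theorem L76051 : sm gc N5661 = N7550 := flp_c L76050
theorem L76052 : sm ge N7550 = N5658 := ded_26_1 L31096 L31087 L76048
theorem L76053 : sm ge N5658 = N7550 := flp_e L76052
theorem L76054 : sm gf N7379 = N7550 := ded_28_0 L76049 L76038 L76046 L74745
theorem L76055 : sm gf N7550 = N7379 := flp_f L76054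
theorem L76056 : sm gd N5657 = N7551 := rfl
theorem L76057 : sm gd N7551 = N5657 := flp_d L76056
theorem L76058 : sm gd N5658 = N7552 := rfl
theorem L76059 : sm gd N7552 = N5658 := flp_d L76058
theorem L76060 : sm gc N5659 = N7553 := rfl
theorem L76061 : sm gc N7553 = N5659 := flp_c L76060
theorem L76062 : sm ge N7553 = N5665 := ded_19_2 L31126 L31102 L76060
theorem L76063 : sm ge N5665 = N7553 := flp_e L76062
theorem L76064 : sm gb N7541 = N7553 := ded_29_7 L76061 L31101 L70702 L72602 L74624 L74621 L75967 L75968 L75984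
theorem L76065 : sm gb N7553 = N7541 := flp_b L76064
theorem L76066 : sm gd N7502 = N7553 := ded_30_1 L76061 L31100 L31090 L76028 L76035 L75801 L31395 L75112 L75114 L75719
theorem L76067 : sm gd N7553 = N7502 := flp_d L76066
theorem L76068 : sm gg N5659 = N7554 := rfl
theorem L76069 : sm gg N7554 = N5659 := flp_g L76068
theorem L76070 : sm ga N7554 = N7376 := ded_12_1 L74720 L73006 L76068
theorem L76071 : sm ga N7376 = N7554 := flp_a L76070
theorem L76072 : sm ge N7554 = N5667 := ded_26_1 L31130 L31102 L76068
theorem L76073 : sm ge N5667 = N7554 := flp_e L76072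
theorem L76074 : sm gf N7371 = N7554 := ded_28_0 L76069 L74684 L74679 L74670
theorem L76075 : sm gf N7554 = N7371 := flp_f L76074
theorem L76076 : sm gd N7554 = N7522 := ded_24_1 L75879 L75880 L31108 L31099 L76068
theorem L76077 : sm gd N7522 = N7554 := flp_d L76076
theorem L76078 : sm gb N5665 = N7555 := rfl
theorem L76079 : sm gb N7555 = N5665 := flp_b L76078
theorem L76080 : sm ge N7555 = N7541 := ded_15_2 L76064 L76062 L76078
theorem L76081 : sm ge N7541 = N7555 := flp_e L76080
theorem L76082 : sm gc N7555 = N7470 := ded_13_2 L75495 L74331 L31061 L31125 L76078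
theorem L76083 : sm gc N7470 = N7555 := flp_c L76082
theorem L76084 : sm ga N7543 = N7555 := ded_29_6 L76079 L31126 L31102 L73007 L72997 L72369 L28495 L73021 L75995
theorem L76085 : sm ga N7555 = N7543 := flp_a L76084
theorem L76086 : sm gf N7468 = N7555 := ded_20_0 L76082 L75492 L75473
theorem L76087 : sm gf N7555 = N7468 := flp_f L76086
theorem L76088 : sm gf N5665 = N7556 := rfl
theorem L76089 : sm gf N7556 = N5665 := flp_f L76088
theorem L76090 : sm gb N7556 = N7468 := ded_16_1 L76086 L76079 L76088
theorem L76091 : sm gb N7468 = N7556 := flp_b L76090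
theorem L76092 : sm gc N7556 = N5666 := ded_20_1 L31128 L31125 L76088
theorem L76093 : sm gc N5666 = N7556 := flp_c L76092
theorem L76094 : sm gd N7556 = N7549 := ded_23_1 L76039 L76028 L76033 L75807 L76088
theorem L76095 : sm gd N7549 = N7556 := flp_d L76094
theorem L76096 : sm gg N5665 = N7557 := rfl
theorem L76097 : sm gg N7557 = N5665 := flp_g L76096
theorem L76098 : sm ga N7557 = N7375 := ded_12_1 L74712 L73004 L76096
theorem L76099 : sm ga N7375 = N7557 := flp_a L76098
theorem L76100 : sm gc N7557 = N5667 := ded_21_1 L31130 L31125 L76096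
theorem L76101 : sm gc N5667 = N7557 := flp_c L76100
theorem L76102 : sm gf N7370 = N7557 := ded_11_0 L76098 L74710 L74669
theorem L76103 : sm gf N7557 = N7370 := flp_f L76102
theorem L76104 : sm gb N5675 = N7558 := rfl
theorem L76105 : sm gb N7558 = N5675 := flp_b L76104
theorem L76106 : sm gc N7558 = N5682 := ded_13_2 L31198 L16707 L16689 L31161 L76104
theorem L76107 : sm gc N5682 = N7558 := flp_c L76106
theorem L76108 : sm ge N5675 = N7559 := rfl
theorem L76109 : sm ge N7559 = N5675 := flp_e L76108
theorem L76110 : sm ga N7559 = N7284 := ded_10_1 L73969 L72866 L76108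
theorem L76111 : sm ga N7284 = N7559 := flp_a L76110
theorem L76112 : sm gc N7559 = N5676 := ded_19_1 L31164 L31161 L76108
theorem L76113 : sm gc N5676 = N7559 := flp_c L76112
theorem L76114 : sm gf N5675 = N7560 := rfl
theorem L76115 : sm gf N7560 = N5675 := flp_f L76114
theorem L76116 : sm ga N7560 = N7244 := ded_11_1 L73705 L72866 L76114
theorem L76117 : sm ga N7244 = N7560 := flp_a L76116
theorem L76118 : sm gc N7560 = N5677 := ded_20_1 L31168 L31161 L76114
theorem L76119 : sm gc N5677 = N7560 := flp_c L76118
theorem L76120 : sm gg N7197 = N7560 := ded_12_0 L76116 L73701 L73365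
theorem L76121 : sm gg N7560 = N7197 := flp_g L76120
theorem L76122 : sm gg N5675 = N7561 := rfl
theorem L76123 : sm gg N7561 = N5675 := flp_g L76122
theorem L76124 : sm ga N7561 = N7285 := ded_12_1 L73975 L72866 L76122
theorem L76125 : sm ga N7285 = N7561 := flp_a L76124
theorem L76126 : sm gc N7561 = N5678 := ded_21_1 L31172 L31161 L76122
theorem L76127 : sm gc N5678 = N7561 := flp_c L76126
theorem L76128 : sm gd N7316 = N7561 := ded_9_0 L76124 L73983 L74232
theorem L76129 : sm gd N7561 = N7316 := flp_d L76128
theorem L76130 : sm gf N5676 = N7562 := rfl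
theorem L76131 : sm gf N7562 = N5676 := flp_f L76130
theorem L76132 : sm ga N7562 = N7286 := ded_11_1 L73985 L72868 L76130
theorem L76133 : sm ga N7286 = N7562 := flp_a L76132
theorem L76134 : sm gb N7562 = N5688 := ded_16_1 L31222 L31166 L76130
theorem L76135 : sm gb N5688 = N7562 := flp_b L76134
theorem L76136 : sm ge N7562 = N5677 := ded_25_1 L31168 L31163 L76130
theorem L76137 : sm ge N5677 = N7562 := flp_e L76136
theorem L76138 : sm gg N5676 = N7563 := rfl
theorem L76139 : sm gg N7563 = N5676 := flp_g L76138
theorem L76140 : sm ga N7563 = N7287 := ded_12_1 L73989 L72868 L76138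
theorem L76141 : sm ga N7287 = N7563 := flp_a L76140
theorem L76142 : sm gb N7563 = N5689 := ded_17_1 L31226 L31166 L76138
theorem L76143 : sm gb N5689 = N7563 := flp_b L76142
theorem L76144 : sm ge N7563 = N5678 := ded_26_1 L31172 L31163 L76138
theorem L76145 : sm ge N5678 = N7563 := flp_e L76144
theorem L76146 : sm gg N5677 = N7564 := rfl
theorem L76147 : sm gg N7564 = N5677 := flp_g L76146
theorem L76148 : sm ga N7564 = N7241 := ded_12_1 L73690 L72870 L76146
theorem L76149 : sm ga N7241 = N7564 := flp_a L76148
theorem L76150 : sm gb N7564 = N5691 := ded_17_1 L31234 L31170 L76146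
theorem L76151 : sm gb N5691 = N7564 := flp_b L76150
theorem L76152 : sm gc N7564 = N7197 := ded_21_1 L76120 L76118 L76146
theorem L76153 : sm gc N7197 = N7564 := flp_c L76152
theorem L76154 : sm gf N7563 = N7564 := ded_28_0 L76147 L31168 L31171 L76145
theorem L76155 : sm gf N7564 = N7563 := flp_f L76154
theorem L76156 : sm gf N5678 = N7565 := rfl
theorem L76157 : sm gf N7565 = N5678 := flp_f L76156
theorem L76158 : sm ga N7565 = N7288 := ded_11_1 L73997 L72872 L76156
theorem L76159 : sm ga N7288 = N7565 := flp_a L76158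
theorem L76160 : sm gb N7565 = N5692 := ded_16_1 L31238 L31174 L76156
theorem L76161 : sm gb N5692 = N7565 := flp_b L76160
theorem L76162 : sm ge N7565 = N7564 := ded_25_1 L76155 L76144 L76156
theorem L76163 : sm ge N7564 = N7565 := flp_e L76162
theorem L76164 : sm gg N7565 = N7562 := ded_28_3 L76136 L31168 L31171 L76156
theorem L76165 : sm gg N7562 = N7565 := flp_g L76164
theorem L76166 : sm ga N5682 = N7566 := rfl
theorem L76167 : sm ga N7566 = N5682 := flp_a L76166
theorem L76168 : sm gb N7566 = N5684 := ded_29_4 L31207 L29537 L72860 L73971 L73969 L72866 L76104 L76106 L76166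
theorem L76169 : sm gb N5684 = N7566 := flp_b L76168
theorem L76170 : sm ge N5682 = N7566 := ded_29_9 L76167 L31198 L16707 L15857 L61332 L26040 L72866 L76104 L76106
theorem L76171 : sm ge N7566 = N5682 := flp_e L76170
theorem L76172 : sm gd N5682 = N7567 := rfl
theorem L76173 : sm gd N7567 = N5682 := flp_d L76172
theorem L76174 : sm gb N7567 = N5683 := ded_14_1 L31200 L31197 L76172
theorem L76175 : sm gb N5683 = N7567 := flp_b L76174
theorem L76176 : sm gf N5682 = N7568 := rfl
theorem L76177 : sm gf N7568 = N5682 := flp_f L76176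
theorem L76178 : sm gb N7568 = N5685 := ded_16_1 L31210 L31197 L76176
theorem L76179 : sm gb N5685 = N7568 := flp_b L76178
theorem L76180 : sm gd N7497 = N7568 := ded_14_0 L76178 L73168 L75684
theorem L76181 : sm gd N7568 = N7497 := flp_d L76180
theorem L76182 : sm gg N7499 = N7568 := ded_17_0 L76178 L73127 L75698
theorem L76183 : sm gg N7568 = N7499 := flp_g L76182
theorem L76184 : sm gg N5682 = N7569 := rfl
theorem L76185 : sm gg N7569 = N5682 := flp_g L76184
theorem L76186 : sm gb N7569 = N5686 := ded_17_1 L31214 L31197 L76184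
theorem L76187 : sm gb N5686 = N7569 := flp_b L76186
theorem L76188 : sm gf N7475 = N7569 := ded_28_0 L76185 L76176 L76183 L75699
theorem L76189 : sm gf N7569 = N7475 := flp_f L76188
theorem L76190 : sm gf N5683 = N7570 := rfl
theorem L76191 : sm gf N7570 = N5683 := flp_f L76190
theorem L76192 : sm ga N7570 = N7489 := ded_11_1 L75600 L31202 L76190
theorem L76193 : sm ga N7489 = N7570 := flp_a L76192
theorem L76194 : sm gc N7570 = N7224 := ded_20_1 L73595 L31203 L76190
theorem L76195 : sm gc N7224 = N7570 := flp_c L76194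
theorem L76196 : sm gg N7525 = N7570 := ded_28_1 L76191 L75845 L75842 L75866
theorem L76197 : sm gg N7570 = N7525 := flp_g L76196
theorem L76198 : sm gd N7570 = N7510 := ded_23_1 L75754 L73167 L31210 L31199 L76190
theorem L76199 : sm gd N7510 = N7570 := flp_d L76198
theorem L76200 : sm gd N5688 = N7571 := rfl
theorem L76201 : sm gd N7571 = N5688 := flp_d L76200
theorem L76202 : sm gf N7571 = N7571 := ded_23_2 L76201 L31222 L61357 L31221 L76200
theorem L76203 : sm gd N5689 = N7572 := rfl
theorem L76204 : sm gd N7572 = N5689 := flp_d L76203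
theorem L76205 : sm gg N7572 = N7572 := ded_24_2 L76204 L31226 L61357 L31225 L76203
theorem L76206 : sm gc N7572 = N7572 := ded_30_6 L76204 L75762 L75767 L75337 L75338 L29546 L31216 L75768 L75761 L76203
theorem L76207 : sm gd N5691 = N7573 := rfl
theorem L76208 : sm gd N7573 = N5691 := flp_d L76207
theorem L76209 : sm gc N5740 = N7574 := rfl
theorem L76210 : sm gc N7574 = N5740 := flp_c L76209
theorem L76211 : sm ge N7574 = N5967 := ded_19_2 L32576 L31458 L76209
theorem L76212 : sm ge N5967 = N7574 := flp_e L76211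
theorem L76213 : sm gf N7574 = N7513 := ded_20_2 L75779 L74460 L76209
theorem L76214 : sm gf N7513 = N7574 := flp_f L76213
theorem L76215 : sm gg N5740 = N7575 := rfl
theorem L76216 : sm gg N7575 = N5740 := flp_g L76215
theorem L76217 : sm gb N7575 = N7188 := ded_17_1 L73300 L72969 L76215
theorem L76218 : sm gb N7188 = N7575 := flp_b L76217
theorem L76219 : sm ge N7575 = N5968 := ded_26_1 L32578 L31458 L76215
theorem L76220 : sm ge N5968 = N7575 := flp_e L76219
theorem L76221 : sm gf N7339 = N7575 := ded_28_0 L76216 L74461 L74462 L74431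
theorem L76222 : sm gf N7575 = N7339 := flp_f L76221
theorem L76223 : sm gd N7575 = N7187 := ded_24_1 L73290 L31022 L66029 L31455 L76215
theorem L76224 : sm gd N7187 = N7575 := flp_d L76223
theorem L76225 : sm gc N5748 = N7576 := rfl
theorem L76226 : sm gc N7576 = N5748 := flp_c L76225
theorem L76227 : sm ga N7576 = N7517 := ded_8_1 L75804 L72972 L76225
theorem L76228 : sm ga N7517 = N7576 := flp_a L76227
theorem L76229 : sm gg N7576 = N7335 := ded_21_2 L74405 L72691 L76225
theorem L76230 : sm gg N7335 = N7576 := flp_g L76229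
theorem L76231 : sm gd N7576 = N6043 := ded_30_9 L73004 L31126 L16657 L8306 L4135 L4164 L8402 L16814 L31495 L76225
theorem L76232 : sm gd N6043 = N7576 := flp_d L76231
theorem L76233 : sm ge N5857 = N7577 := rfl
theorem L76234 : sm ge N7577 = N5857 := flp_e L76233
theorem L76235 : sm ga N7577 = N7577 := ded_10_1 L76234 L72659 L76233
theorem L76236 : sm gb N7577 = N5870 := ded_15_1 L32103 L72977 L76233
theorem L76237 : sm gb N5870 = N7577 := flp_b L76236
theorem L76238 : sm gc N7577 = N5858 := ded_19_1 L32044 L32041 L76233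
theorem L76239 : sm gc N5858 = N7577 := flp_c L76238
theorem L76240 : sm gf N7577 = N5858 := ded_25_2 L32044 L72980 L76233
theorem L76241 : sm gf N5858 = N7577 := flp_f L76240
theorem L76242 : sm gg N7577 = N6852 := ded_26_2 L73095 L72667 L76233
theorem L76243 : sm gg N6852 = N7577 := flp_g L76242
theorem L76244 : sm gd N5864 = N7578 := rfl
theorem L76245 : sm gd N7578 = N5864 := flp_d L76244
theorem L76246 : sm ga N7578 = N7380 := ded_9_1 L75421 L75412 L76244
theorem L76247 : sm ga N7380 = N7578 := flp_a L76246
theorem L76248 : sm gb N7578 = N5865 := ded_14_1 L32080 L32077 L76244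
theorem L76249 : sm gb N5865 = N7578 := flp_b L76248
theorem L76250 : sm gg N7578 = N7556 := ded_24_2 L76094 L76046 L75395 L75396 L76244
theorem L76251 : sm gg N7556 = N7578 := flp_g L76250
theorem L76252 : sm gc N7371 = N7578 := ded_30_4 L76245 L73133 L67258 L73134 L76244 L76246 L74750 L72777 L72774 L74677
theorem L76253 : sm gc N7578 = N7371 := flp_c L76252
theorem L76254 : sm ge N7370 = N7578 := ded_10_0 L76246 L74749 L74669
theorem L76255 : sm ge N7578 = N7370 := flp_e L76254
theorem L76256 : sm ge N5864 = N7579 := rfl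
theorem L76257 : sm ge N7579 = N5864 := flp_e L76256
theorem L76258 : sm ga N7579 = N7459 := ded_10_1 L75419 L75412 L76256
theorem L76259 : sm ga N7459 = N7579 := flp_a L76258
theorem L76260 : sm gb N7579 = N5866 := ded_15_1 L32086 L32077 L76256
theorem L76261 : sm gb N5866 = N7579 := flp_b L76260
theorem L76262 : sm gc N7579 = N5870 := ded_19_1 L32103 L73134 L76256
theorem L76263 : sm gc N5870 = N7579 := flp_c L76262
theorem L76264 : sm gf N7579 = N5866 := ded_25_2 L32086 L73136 L76256
theorem L76265 : sm gf N5866 = N7579 := flp_f L76264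
theorem L76266 : sm gg N7579 = N7461 := ded_26_2 L75418 L75396 L76256
theorem L76267 : sm gg N7461 = N7579 := flp_g L76266
theorem L76268 : sm ge N5865 = N7580 := rfl
theorem L76269 : sm ge N7580 = N5865 := flp_e L76268
theorem L76270 : sm ga N7580 = N7535 := ded_10_1 L75927 L32082 L76268
theorem L76271 : sm ga N7535 = N7580 := flp_a L76270
theorem L76272 : sm gb N7580 = N7370 := ded_15_1 L76254 L76248 L76268
theorem L76273 : sm gb N7370 = N7580 := flp_b L76272
theorem L76274 : sm gc N7580 = N7440 := ded_19_1 L75237 L32083 L76268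
theorem L76275 : sm gc N7440 = N7580 := flp_c L76274
theorem L76276 : sm gf N5865 = N7581 := rfl
theorem L76277 : sm gf N7581 = N5865 := flp_f L76276
theorem L76278 : sm ga N7581 = N7536 := ded_11_1 L75935 L32082 L76276
theorem L76279 : sm ga N7536 = N7581 := flp_a L76278
theorem L76280 : sm gc N7581 = N7441 := ded_20_1 L75245 L32083 L76276
theorem L76281 : sm gc N7441 = N7581 := flp_c L76280
theorem L76282 : sm gg N7581 = N7541 := ded_28_3 L76081 L76087 L75477 L76276
theorem L76283 : sm gg N7541 = N7581 := flp_g L76282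
theorem L76284 : sm gd N5866 = N7582 := rfl
theorem L76285 : sm gd N7582 = N5866 := flp_d L76284
theorem L76286 : sm gd N5870 = N7583 := rfl
theorem L76287 : sm gd N7583 = N5870 := flp_d L76286
theorem L76288 : sm ge N7583 = N7583 := ded_22_2 L76287 L32103 L67258 L32104 L76286
theorem L76289 : sm gg N7583 = N7583 := ded_24_2 L76287 L67185 L72985 L67184 L76286
theorem L76290 : sm gd N5872 = N7584 := rfl
theorem L76291 : sm gd N7584 = N5872 := flp_d L76290
theorem L76292 : sm ga N7584 = N7583 := ded_9_1 L76287 L72982 L76290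
theorem L76293 : sm ga N7583 = N7584 := flp_a L76292
theorem L76294 : sm ge N7584 = N7584 := ded_22_2 L76291 L67183 L72985 L67182 L76290
theorem L76295 : sm gf N7584 = N7583 := ded_23_2 L76287 L32102 L50227 L67186 L76290
theorem L76296 : sm gf N7583 = N7584 := flp_f L76295
theorem L76297 : sm gg N7584 = N7584 := ded_24_2 L76291 L32110 L67258 L32109 L76290
theorem L76298 : sm gb N5955 = N7585 := rfl
theorem L76299 : sm gb N7585 = N5955 := flp_b L76298
theorem L76300 : sm gd N7585 = N7288 := ded_14_2 L75373 L75381 L76298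
theorem L76301 : sm gd N7288 = N7585 := flp_d L76300
theorem L76302 : sm ge N7585 = N7382 := ded_15_2 L74759 L72356 L76298
theorem L76303 : sm ge N7382 = N7585 := flp_e L76302
theorem L76304 : sm gg N7585 = N7356 := ded_17_2 L74557 L73601 L76298
theorem L76305 : sm gg N7356 = N7585 := flp_g L76304
theorem L76306 : sm gc N7585 = N7306 := ded_13_2 L74148 L28024 L71824 L32535 L76298
theorem L76307 : sm gc N7306 = N7585 := flp_c L76306
theorem L76308 : sm gc N5966 = N7586 := rfl
theorem L76309 : sm gc N7586 = N5966 := flp_c L76308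
theorem L76310 : sm ge N7586 = N7466 := ded_19_2 L75463 L72796 L76308
theorem L76311 : sm ge N7466 = N7586 := flp_e L76310
theorem L76312 : sm gg N7586 = N5969 := ded_21_2 L32580 L32574 L76308
theorem L76313 : sm gg N5969 = N7586 := flp_g L76312
theorem L76314 : sm gb N7586 = N7586 := ded_13_1 L76309 L72513 L73096 L72514 L76308
theorem L76315 : sm gd N7586 = N7586 := ded_30_1 L76309 L32572 L71971 L28641 L71305 L52883 L52124 L32584 L72790 L76308
theorem L76316 : sm gf N5966 = N7587 := rfl
theorem L76317 : sm gf N7587 = N5966 := flp_f L76316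
theorem L76318 : sm gb N7587 = N7349 := ded_16_1 L74498 L72514 L76316
theorem L76319 : sm gb N7349 = N7587 := flp_b L76318
theorem L76320 : sm ge N7587 = N7467 := ded_25_1 L75468 L72796 L76316
theorem L76321 : sm ge N7467 = N7587 := flp_e L76320
theorem L76322 : sm gd N7587 = N7341 := ded_23_1 L74437 L28304 L71974 L32571 L76316
theorem L76323 : sm gd N7341 = N7587 := flp_d L76322
theorem L76324 : sm gb N5967 = N7588 := rfl
theorem L76325 : sm gb N7588 = N5967 := flp_b L76324
theorem L76326 : sm gg N5967 = N7589 := rfl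
theorem L76327 : sm gg N7589 = N5967 := flp_g L76326
theorem L76328 : sm gc N7589 = N5968 := ded_21_1 L32578 L32575 L76326
theorem L76329 : sm gc N5968 = N7589 := flp_c L76328
theorem L76330 : sm gd N5969 = N7590 := rfl
theorem L76331 : sm gd N7590 = N5969 := flp_d L76330
theorem L76332 : sm gb N7590 = N7590 := ded_14_1 L76331 L73097 L76330
theorem L76333 : sm gg N7590 = N7590 := ded_24_2 L76331 L76313 L76315 L76312 L76330
theorem L76334 : sm gc N7583 = N7590 := ded_30_0 L76331 L32580 L17287 L71853 L27971 L74101 L75395 L75398 L76290 L76292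
theorem L76335 : sm gc N7590 = N7583 := flp_c L76334
theorem L76336 : sm ge N7590 = N7590 := ded_19_2 L76335 L76288 L76334
theorem L76337 : sm ge N5969 = N7591 := rfl
theorem L76338 : sm ge N7591 = N5969 := flp_e L76337
theorem L76339 : sm ga N7591 = N7586 := ded_10_1 L76310 L75464 L76337
theorem L76340 : sm ga N7586 = N7591 := flp_a L76339
theorem L76341 : sm gb N7591 = N7591 := ded_15_1 L76338 L73097 L76337
theorem L76342 : sm gc N7591 = N5970 := ded_19_1 L32582 L32579 L76337
theorem L76343 : sm gc N5970 = N7591 := flp_c L76342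
theorem L76344 : sm gg N7591 = N7466 := ded_26_2 L76311 L76312 L76337
theorem L76345 : sm gg N7466 = N7591 := flp_g L76344
theorem L76346 : sm gd N7591 = N7591 := ded_22_1 L76338 L76330 L76336 L76331 L76337
theorem L76347 : sm gf N5969 = N7592 := rfl
theorem L76348 : sm gf N7592 = N5969 := flp_f L76347
theorem L76349 : sm gb N7592 = N7592 := ded_16_1 L76348 L73097 L76347
theorem L76350 : sm gc N7592 = N5971 := ded_20_1 L32586 L32579 L76347
theorem L76351 : sm gc N5971 = N7592 := flp_c L76350
theorem L76352 : sm gf N5970 = N7593 := rfl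
theorem L76353 : sm gf N7593 = N5970 := flp_f L76352
theorem L76354 : sm ga N7593 = N7587 := ded_11_1 L76317 L72791 L76352
theorem L76355 : sm ga N7587 = N7593 := flp_a L76354
theorem L76356 : sm gb N7593 = N7367 := ded_16_1 L74637 L72789 L76352
theorem L76357 : sm gb N7367 = N7593 := flp_b L76356
theorem L76358 : sm ge N7593 = N5971 := ded_25_1 L32586 L32581 L76352
theorem L76359 : sm ge N5971 = N7593 := flp_e L76358
theorem L76360 : sm gg N7593 = N7587 := ded_28_3 L76320 L75468 L72794 L76352
theorem L76361 : sm gg N7587 = N7593 := flp_g L76360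
theorem L76362 : sm gd N7593 = N7365 := ded_23_1 L74614 L28466 L52122 L32584 L76352
theorem L76363 : sm gd N7365 = N7593 := flp_d L76362
theorem L76364 : sm gb N5978 = N7594 := rfl
theorem L76365 : sm gb N7594 = N5978 := flp_b L76364
theorem L76366 : sm gc N7594 = N5979 := ded_13_2 L74061 L74065 L41923 L32605 L76364
theorem L76367 : sm gc N5979 = N7594 := flp_c L76366
theorem L76368 : sm ge N5978 = N7594 := ded_19_0 L76366 L32608 L32605
theorem L76369 : sm ge N7594 = N5978 := flp_e L76368
theorem L76370 : sm gd N5978 = N7595 := rfl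
theorem L76371 : sm gd N7595 = N5978 := flp_d L76370
theorem L76372 : sm gf N7595 = N7534 := ded_23_2 L75925 L31009 L74384 L74382 L76370
theorem L76373 : sm gf N7534 = N7595 := flp_f L76372
theorem L76374 : sm gc N7595 = N7534 := ded_30_8 L75925 L75233 L75231 L29445 L52838 L27956 L71806 L17300 L32605 L76370
theorem L76375 : sm gc N7534 = N7595 := flp_c L76374
theorem L76376 : sm gg N5978 = N7596 := rfl
theorem L76377 : sm gg N7596 = N5978 := flp_g L76376
theorem L76378 : sm gc N7596 = N5980 := ded_21_1 L32612 L32605 L76376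
theorem L76379 : sm gc N5980 = N7596 := flp_c L76378
theorem L76380 : sm gg N5979 = N7597 := rfl
theorem L76381 : sm gg N7597 = N5979 := flp_g L76380
theorem L76382 : sm ga N7597 = N7217 := ded_12_1 L74308 L74301 L76380
theorem L76383 : sm ga N7217 = N7597 := flp_a L76382
theorem L76384 : sm ge N7597 = N5980 := ded_26_1 L32612 L32607 L76380
theorem L76385 : sm ge N5980 = N7597 := flp_e L76384
theorem L76386 : sm gf N7334 = N7597 := ded_28_0 L76381 L74391 L74393 L74399
theorem L76387 : sm gf N7597 = N7334 := flp_f L76386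
theorem L76388 : sm gd N7597 = N7216 := ded_24_1 L75952 L75943 L72967 L32610 L76380
theorem L76389 : sm gd N7216 = N7597 := flp_d L76388
theorem L76390 : sm gc N6012 = N7598 := rfl
theorem L76391 : sm gc N7598 = N6012 := flp_c L76390
theorem L76392 : sm ga N7598 = N7343 := ded_8_1 L74451 L72764 L76390
theorem L76393 : sm ga N7343 = N7598 := flp_a L76392
theorem L76394 : sm ge N7598 = N7505 := ded_19_2 L75736 L73033 L76390
theorem L76395 : sm ge N7505 = N7598 := flp_e L76394
theorem L76396 : sm gf N7598 = N7464 := ded_20_2 L75447 L72792 L76390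
theorem L76397 : sm gf N7464 = N7598 := flp_f L76396
theorem L76398 : sm gd N7503 = N7598 := ded_22_5 L76394 L75734 L30785 L72922 L75726
theorem L76399 : sm gd N7598 = N7503 := flp_d L76398
theorem L76400 : sm gg N6012 = N7599 := rfl
theorem L76401 : sm gg N7599 = N6012 := flp_g L76400
theorem L76402 : sm ga N7599 = N7339 := ded_12_1 L74432 L72764 L76400
theorem L76403 : sm ga N7339 = N7599 := flp_a L76402
theorem L76404 : sm gb N7599 = N7262 := ded_17_1 L74192 L74187 L76400
theorem L76405 : sm gb N7262 = N7599 := flp_b L76404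
theorem L76406 : sm ge N7599 = N7260 := ded_26_1 L73822 L73033 L76400
theorem L76407 : sm ge N7260 = N7599 := flp_e L76406
theorem L76408 : sm gd N7599 = N7334 := ded_24_1 L74395 L28276 L52947 L32783 L76400
theorem L76409 : sm gd N7334 = N7599 := flp_d L76408
theorem L76410 : sm gb N6043 = N7600 := rfl
theorem L76411 : sm gb N7600 = N6043 := flp_b L76410
theorem L76412 : sm ge N6043 = N7601 := rfl
theorem L76413 : sm ge N7601 = N6043 := flp_e L76412
theorem L76414 : sm ga N7601 = N7553 := ded_10_1 L76062 L73005 L76412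
theorem L76415 : sm ga N7553 = N7601 := flp_a L76414
theorem L76416 : sm gc N7601 = N6044 := ded_19_1 L32932 L32929 L76412
theorem L76417 : sm gc N6044 = N7601 := flp_c L76416
theorem L76418 : sm gf N7601 = N7381 := ded_28_0 L74753 L74711 L74712 L76412
theorem L76419 : sm gf N7381 = N7601 := flp_f L76418
theorem L76420 : sm gf N6043 = N7602 := rfl
theorem L76421 : sm gf N7602 = N6043 := flp_f L76420
theorem L76422 : sm ga N7602 = N7556 := ded_11_1 L76089 L73005 L76420
theorem L76423 : sm ga N7556 = N7602 := flp_a L76422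
theorem L76424 : sm gc N7602 = N6045 := ded_20_1 L32934 L32929 L76420
theorem L76425 : sm gc N6045 = N7602 := flp_c L76424
theorem L76426 : sm ge N7602 = N7381 := ded_25_1 L76419 L76413 L76420
theorem L76427 : sm ge N7381 = N7602 := flp_e L76426
theorem L76428 : sm gg N7602 = N7380 := ded_28_3 L74749 L74711 L74712 L76420
theorem L76429 : sm gg N7380 = N7602 := flp_g L76428
theorem L76430 : sm gd N6850 = N7603 := rfl
theorem L76431 : sm gd N7603 = N6850 := flp_d L76430
theorem L76432 : sm ga N7603 = N7603 := ded_9_1 L76431 L37702 L76430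
theorem L76433 : sm gb N7603 = N7584 := ded_14_1 L76291 L73090 L76430
theorem L76434 : sm gb N7584 = N7603 := flp_b L76433
theorem L76435 : sm ge N7603 = N7603 := ded_22_2 L76431 L73094 L37709 L73095 L76430
theorem L76436 : sm gg N7603 = N7603 := ded_24_2 L76431 L72667 L72662 L72668 L76430
theorem L76437 : sm gc N7603 = N7603 := ded_30_0 L76431 L37701 L21095 L10744 L68345 L10745 L21094 L37700 L76430 L76432
theorem L76438 : sm gc N7179 = N7604 := rfl
theorem L76439 : sm gc N7604 = N7179 := flp_c L76438
theorem L76440 : sm ga N7604 = N7252 := ded_8_1 L73764 L73215 L76438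
theorem L76441 : sm ga N7252 = N7604 := flp_a L76440
theorem L76442 : sm gf N7604 = N7520 := ded_20_2 L75835 L73219 L76438
theorem L76443 : sm gf N7520 = N7604 := flp_f L76442
theorem L76444 : sm gg N7604 = N7228 := ded_21_2 L73624 L73221 L76438
theorem L76445 : sm gg N7228 = N7604 := flp_g L76444
theorem L76446 : sm gd N7237 = N7604 := ded_30_1 L76439 L73213 L24798 L24816 L73238 L73376 L73370 L73321 L73318 L73667
theorem L76447 : sm gd N7604 = N7237 := flp_d L76446
theorem L76448 : sm ge N7179 = N7605 := rfl
theorem L76449 : sm ge N7605 = N7179 := flp_e L76448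
theorem L76450 : sm ga N7605 = N7253 := ded_10_1 L73766 L73215 L76448
theorem L76451 : sm ga N7253 = N7605 := flp_a L76450
theorem L76452 : sm gb N7605 = N7522 := ded_15_1 L75852 L73217 L76448
theorem L76453 : sm gb N7522 = N7605 := flp_b L76452
theorem L76454 : sm gf N7605 = N7519 := ded_25_2 L75830 L73219 L76448
theorem L76455 : sm gf N7519 = N7605 := flp_f L76454
theorem L76456 : sm gg N7605 = N7229 := ded_26_2 L73626 L73221 L76448
theorem L76457 : sm gg N7229 = N7605 := flp_g L76456
theorem L76458 : sm gc N7180 = N7606 := rfl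
theorem L76459 : sm gc N7606 = N7180 := flp_c L76458
theorem L76460 : sm ga N7606 = N7233 := ded_8_1 L73646 L73225 L76458
theorem L76461 : sm ga N7233 = N7606 := flp_a L76460
theorem L76462 : sm ge N7606 = N7258 := ded_19_2 L73806 L73394 L76458
theorem L76463 : sm ge N7258 = N7606 := flp_e L76462
theorem L76464 : sm gf N7606 = N7190 := ded_20_2 L73311 L73229 L76458
theorem L76465 : sm gf N7190 = N7606 := flp_f L76464
theorem L76466 : sm gg N7606 = N7257 := ded_21_2 L73798 L73408 L76458
theorem L76467 : sm gg N7257 = N7606 := flp_g L76466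
theorem L76468 : sm gb N7182 = N7607 := rfl
theorem L76469 : sm gb N7607 = N7182 := flp_b L76468
theorem L76470 : sm gf N7607 = N7185 := ded_16_2 L73273 L73243 L76468
theorem L76471 : sm gf N7185 = N7607 := flp_f L76470
theorem L76472 : sm gc N7607 = N7196 := ded_13_2 L73359 L24875 L24819 L73238 L76468
theorem L76473 : sm gc N7196 = N7607 := flp_c L76472
theorem L76474 : sm gd N7186 = N7608 := rfl
theorem L76475 : sm gd N7608 = N7186 := flp_d L76474
theorem L76476 : sm ga N7608 = N7259 := ded_9_1 L73811 L73281 L76474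
theorem L76477 : sm ga N7259 = N7608 := flp_a L76476
theorem L76478 : sm ge N7608 = N7311 := ded_22_2 L74201 L73722 L72850 L73278 L76474
theorem L76479 : sm ge N7311 = N7608 := flp_e L76478
theorem L76480 : sm gg N7608 = N7236 := ded_24_2 L73663 L73524 L73517 L73285 L76474
theorem L76481 : sm gg N7236 = N7608 := flp_g L76480
theorem L76482 : sm gc N7312 = N7608 := ded_30_0 L76475 L73282 L65805 L25009 L73516 L73522 L25764 L73085 L28458 L74206
theorem L76483 : sm gc N7608 = N7312 := flp_c L76482
theorem L76484 : sm gf N7316 = N7608 := ded_11_0 L76476 L73817 L74232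
theorem L76485 : sm gf N7608 = N7316 := flp_f L76484
theorem L76486 : sm gd N7189 = N7609 := rfl
theorem L76487 : sm gd N7609 = N7189 := flp_d L76486
theorem L76488 : sm ga N7609 = N7264 := ded_9_1 L73843 L73305 L76486
theorem L76489 : sm ga N7264 = N7609 := flp_a L76488
theorem L76490 : sm gb N7609 = N7597 := ded_14_1 L76388 L73528 L76486
theorem L76491 : sm gb N7597 = N7609 := flp_b L76490
theorem L76492 : sm ge N7609 = N7298 := ded_22_2 L74077 L73956 L73295 L73302 L76486
theorem L76493 : sm ge N7298 = N7609 := flp_e L76492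
theorem L76494 : sm gf N7609 = N7355 := ded_23_2 L74547 L73840 L73549 L73309 L76486
theorem L76495 : sm gf N7355 = N7609 := flp_f L76494
theorem L76496 : sm gg N7609 = N7296 := ded_24_2 L74059 L74035 L74036 L73442 L76486
theorem L76497 : sm gg N7296 = N7609 := flp_g L76496
theorem L76498 : sm gc N7609 = N7298 := ded_31_3 L74074 L72517 L28382 L15268 L15283 L15343 L28505 L73471 L73474 L73346 L73344 L73427 L73428 L73309 L76486
theorem L76499 : sm gc N7298 = N7609 := flp_c L76498
theorem L76500 : sm gb N7190 = N7610 := rfl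
theorem L76501 : sm gb N7610 = N7190 := flp_b L76500
theorem L76502 : sm gg N7610 = N7269 := ded_17_2 L73868 L73315 L76500
theorem L76503 : sm gg N7269 = N7610 := flp_g L76502
theorem L76504 : sm ge N7190 = N7611 := rfl
theorem L76505 : sm ge N7611 = N7190 := flp_e L76504
theorem L76506 : sm ga N7611 = N7237 := ded_10_1 L73665 L73313 L76504
theorem L76507 : sm ga N7237 = N7611 := flp_a L76506
theorem L76508 : sm gc N7611 = N7191 := ded_19_1 L73317 L73310 L76504
theorem L76509 : sm gc N7191 = N7611 := flp_c L76508
theorem L76510 : sm gf N7611 = N7258 := ded_25_2 L76463 L76464 L76504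
theorem L76511 : sm gf N7258 = N7611 := flp_f L76510
theorem L76512 : sm gg N7611 = N7272 := ded_26_2 L73896 L73315 L76504
theorem L76513 : sm gg N7272 = N7611 := flp_g L76512
theorem L76514 : sm gd N7252 = N7611 := ded_9_0 L76506 L76446 L76440
theorem L76515 : sm gd N7611 = N7252 := flp_d L76514
theorem L76516 : sm ga N7196 = N7612 := rfl
theorem L76517 : sm ga N7612 = N7196 := flp_a L76516
theorem L76518 : sm gf N7612 = N7209 := ded_11_2 L73479 L73361 L76516
theorem L76519 : sm gf N7209 = N7612 := flp_f L76518
theorem L76520 : sm gb N7612 = N7199 := ded_7_2 L73380 L73674 L73669 L25738 L24877 L73358 L76516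
theorem L76521 : sm gb N7199 = N7612 := flp_b L76520
theorem L76522 : sm ge N7607 = N7612 := ded_29_9 L76517 L73359 L24875 L13114 L53210 L13517 L24877 L73358 L76473
theorem L76523 : sm ge N7612 = N7607 := flp_e L76522
theorem L76524 : sm gg N7612 = N7196 := ded_28_1 L73360 L73275 L73482 L76519
theorem L76525 : sm gg N7196 = N7612 := flp_g L76524
theorem L76526 : sm gd N7196 = N7613 := rfl
theorem L76527 : sm gd N7613 = N7196 := flp_d L76526
theorem L76528 : sm gb N7613 = N7197 := ded_14_1 L73363 L73358 L76526
theorem L76529 : sm gb N7197 = N7613 := flp_b L76528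
theorem L76530 : sm gc N7499 = N7613 := ded_13_0 L76528 L76153 L76150 L73017 L75698
theorem L76531 : sm gc N7613 = N7499 := flp_c L76530
theorem L76532 : sm ge N7196 = N7614 := rfl
theorem L76533 : sm ge N7614 = N7196 := flp_e L76532
theorem L76534 : sm ga N7614 = N7607 := ded_10_1 L76522 L76517 L76532
theorem L76535 : sm ga N7607 = N7614 := flp_a L76534
theorem L76536 : sm gb N7614 = N7198 := ded_15_1 L73367 L73358 L76532
theorem L76537 : sm gb N7198 = N7614 := flp_b L76536
theorem L76538 : sm gc N7614 = N7612 := ded_19_1 L76523 L76472 L76532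
theorem L76539 : sm gc N7612 = N7614 := flp_c L76538
theorem L76540 : sm gf N7614 = N7211 := ded_25_2 L73489 L73361 L76532
theorem L76541 : sm gf N7211 = N7614 := flp_f L76540
theorem L76542 : sm gg N7614 = N7607 := ded_26_2 L76522 L76524 L76532
theorem L76543 : sm gg N7607 = N7614 := flp_g L76542
theorem L76544 : sm gd N7607 = N7614 := ded_30_9 L76534 L76472 L76526 L76531 L75694 L30731 L75693 L76530 L76527 L76473
theorem L76545 : sm gd N7614 = N7607 := flp_d L76544
theorem L76546 : sm ge N7197 = N7615 := rfl
theorem L76547 : sm ge N7615 = N7197 := flp_e L76546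
theorem L76548 : sm ga N7615 = N7242 := ded_10_1 L73693 L73365 L76546
theorem L76549 : sm ga N7242 = N7615 := flp_a L76548
theorem L76550 : sm gc N7615 = N7565 := ded_19_1 L76162 L76152 L76546
theorem L76551 : sm gc N7565 = N7615 := flp_c L76550
theorem L76552 : sm gf N7615 = N7561 := ded_28_0 L76123 L76114 L76121 L76546
theorem L76553 : sm gf N7561 = N7615 := flp_f L76552
theorem L76554 : sm gd N7615 = N7199 := ded_22_1 L73384 L73376 L73367 L73362 L76546
theorem L76555 : sm gd N7199 = N7615 := flp_d L76554
theorem L76556 : sm gf N7197 = N7616 := rfl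
theorem L76557 : sm gf N7616 = N7197 := flp_f L76556
theorem L76558 : sm ga N7616 = N7243 := ded_11_1 L73697 L73365 L76556
theorem L76559 : sm ga N7243 = N7616 := flp_a L76558
theorem L76560 : sm gc N7616 = N7563 := ded_20_1 L76154 L76152 L76556
theorem L76561 : sm gc N7563 = N7616 := flp_c L76560
theorem L76562 : sm ge N7616 = N7561 := ded_25_1 L76553 L76547 L76556
theorem L76563 : sm ge N7561 = N7616 := flp_e L76562
theorem L76564 : sm gg N7616 = N7559 := ded_28_3 L76109 L76114 L76121 L76556
theorem L76565 : sm gg N7559 = N7616 := flp_g L76564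
theorem L76566 : sm gd N7616 = N7213 := ded_23_1 L73505 L25001 L24879 L73362 L76556
theorem L76567 : sm gd N7213 = N7616 := flp_d L76566
theorem L76568 : sm gf N7203 = N7617 := rfl
theorem L76569 : sm gf N7617 = N7203 := flp_f L76568
theorem L76570 : sm ga N7617 = N7250 := ded_11_1 L73740 L73419 L76568
theorem L76571 : sm ga N7250 = N7617 := flp_a L76570
theorem L76572 : sm gc N7617 = N7394 := ded_20_1 L74860 L73421 L76568
theorem L76573 : sm gc N7394 = N7617 := flp_c L76572
theorem L76574 : sm gg N7327 = N7617 := ded_28_1 L76569 L74316 L74313 L74327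
theorem L76575 : sm gg N7617 = N7327 := flp_g L76574
theorem L76576 : sm gd N7617 = N7231 := ded_23_1 L74033 L74036 L73435 L73416 L76568
theorem L76577 : sm gd N7231 = N7617 := flp_d L76576
theorem L76578 : sm gc N7206 = N7618 := rfl
theorem L76579 : sm gc N7618 = N7206 := flp_c L76578
theorem L76580 : sm ga N7618 = N7251 := ded_8_1 L73754 L73447 L76578
theorem L76581 : sm ga N7251 = N7618 := flp_a L76580
theorem L76582 : sm ge N7618 = N7369 := ded_19_2 L74660 L73451 L76578
theorem L76583 : sm ge N7369 = N7618 := flp_e L76582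
theorem L76584 : sm gf N7618 = N7207 := ded_20_2 L73457 L73453 L76578
theorem L76585 : sm gf N7207 = N7618 := flp_f L76584
theorem L76586 : sm gg N7618 = N7331 := ded_21_2 L74372 L73455 L76578
theorem L76587 : sm gg N7331 = N7618 := flp_g L76586
theorem L76588 : sm gb N7618 = N7406 := ded_13_1 L74978 L74371 L74372 L73449 L76578
theorem L76589 : sm gb N7406 = N7618 := flp_b L76588
theorem L76590 : sm gd N7618 = N7406 := ded_30_9 L74976 L74966 L29057 L74128 L74131 L74031 L74036 L73438 L73444 L76578
theorem L76591 : sm gd N7406 = N7618 := flp_d L76590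
theorem L76592 : sm gd N7209 = N7619 := rfl
theorem L76593 : sm gd N7619 = N7209 := flp_d L76592
theorem L76594 : sm ga N7619 = N7210 := ded_9_1 L73485 L73478 L76592
theorem L76595 : sm ga N7210 = N7619 := flp_a L76594
theorem L76596 : sm gb N7619 = N7608 := ded_14_1 L76475 L73481 L76592
theorem L76597 : sm gb N7608 = N7619 := flp_b L76596
theorem L76598 : sm ge N7210 = N7620 := rfl
theorem L76599 : sm ge N7620 = N7210 := flp_e L76598
theorem L76600 : sm gb N7620 = N7212 := ded_15_1 L73499 L73487 L76598
theorem L76601 : sm gb N7212 = N7620 := flp_b L76600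
theorem L76602 : sm gf N7210 = N7621 := rfl
theorem L76603 : sm gf N7621 = N7210 := flp_f L76602
theorem L76604 : sm gb N7621 = N7213 := ded_16_1 L73505 L73487 L76602
theorem L76605 : sm gb N7213 = N7621 := flp_b L76604
theorem L76606 : sm gg N7210 = N7622 := rfl
theorem L76607 : sm gg N7622 = N7210 := flp_g L76606
theorem L76608 : sm gb N7622 = N7214 := ded_17_1 L73511 L73487 L76606
theorem L76609 : sm gb N7214 = N7622 := flp_b L76608
theorem L76610 : sm gd N7211 = N7623 := rfl
theorem L76611 : sm gd N7623 = N7211 := flp_d L76610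
theorem L76612 : sm ga N7623 = N7246 := ded_9_1 L73718 L73491 L76610
theorem L76613 : sm ga N7246 = N7623 := flp_a L76612
theorem L76614 : sm gb N7623 = N7215 := ded_14_1 L73517 L73493 L76610
theorem L76615 : sm gb N7215 = N7623 := flp_b L76614
theorem L76616 : sm gf N7623 = N7246 := ded_23_2 L73718 L76471 L76544 L76540 L76610
theorem L76617 : sm gf N7246 = N7623 := flp_f L76616
theorem L76618 : sm gc N7623 = N7623 := ded_8_0 L76612 L73720 L76613
theorem L76619 : sm gg N7235 = N7623 := ded_17_0 L76614 L73525 L73659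
theorem L76620 : sm gg N7623 = N7235 := flp_g L76619
theorem L76621 : sm gg N7212 = N7624 := rfl
theorem L76622 : sm gg N7624 = N7212 := flp_g L76621
theorem L76623 : sm ga N7624 = N7273 := ded_12_1 L73903 L73501 L76621
theorem L76624 : sm ga N7273 = N7624 := flp_a L76623
theorem L76625 : sm gc N7624 = N7393 := ded_21_1 L74850 L73503 L76621
theorem L76626 : sm gc N7393 = N7624 := flp_c L76625
theorem L76627 : sm ge N7624 = N7214 := ded_26_1 L73511 L73498 L76621
theorem L76628 : sm ge N7214 = N7624 := flp_e L76627
theorem L76629 : sm gf N7624 = N7391 := ded_28_2 L74832 L74227 L74225 L76621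
theorem L76630 : sm gf N7391 = N7624 := flp_f L76629
theorem L76631 : sm gd N7624 = N7228 := ded_24_1 L76445 L76447 L73787 L73788 L76621
theorem L76632 : sm gd N7228 = N7624 := flp_d L76631
theorem L76633 : sm gf N7214 = N7625 := rfl
theorem L76634 : sm gf N7625 = N7214 := flp_f L76633
theorem L76635 : sm ga N7625 = N7275 := ded_11_1 L73915 L73513 L76633
theorem L76636 : sm ga N7275 = N7625 := flp_a L76635
theorem L76637 : sm gc N7625 = N7392 := ded_20_1 L74842 L73515 L76633
theorem L76638 : sm gc N7392 = N7625 := flp_c L76637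
theorem L76639 : sm ge N7625 = N7391 := ded_25_1 L76630 L76627 L76633
theorem L76640 : sm ge N7391 = N7625 := flp_e L76639
theorem L76641 : sm gg N7625 = N7315 := ded_28_3 L74228 L73505 L73510 L76633
theorem L76642 : sm gg N7315 = N7625 := flp_g L76641
theorem L76643 : sm gd N7625 = N7520 := ded_23_1 L76443 L76447 L73711 L73715 L76633
theorem L76644 : sm gd N7520 = N7625 := flp_d L76643
theorem L76645 : sm gc N7217 = N7626 := rfl
theorem L76646 : sm gc N7626 = N7217 := flp_c L76645
theorem L76647 : sm gf N7626 = N7337 := ded_20_2 L74414 L73536 L76645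
theorem L76648 : sm gf N7337 = N7626 := flp_f L76647
theorem L76649 : sm gb N7626 = N7277 := ded_13_1 L73927 L25953 L25016 L73535 L76645
theorem L76650 : sm gb N7277 = N7626 := flp_b L76649
theorem L76651 : sm gd N7550 = N7626 := ded_23_5 L76647 L75022 L74710 L74740 L76054
theorem L76652 : sm gd N7626 = N7550 := flp_d L76651
theorem L76653 : sm gd N7218 = N7627 := rfl
theorem L76654 : sm gd N7627 = N7218 := flp_d L76653
theorem L76655 : sm ga N7627 = N7575 := ded_9_1 L76223 L73541 L76653
theorem L76656 : sm ga N7575 = N7627 := flp_a L76655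
theorem L76657 : sm gb N7627 = N7219 := ded_14_1 L73549 L73543 L76653
theorem L76658 : sm gb N7219 = N7627 := flp_b L76657
theorem L76659 : sm ge N7627 = N7465 := ded_22_2 L75460 L73932 L73533 L73538 L76653
theorem L76660 : sm ge N7465 = N7627 := flp_e L76659
theorem L76661 : sm gf N7627 = N7599 := ded_23_2 L76408 L76386 L76388 L73547 L76653
theorem L76662 : sm gf N7599 = N7627 := flp_f L76661
theorem L76663 : sm gg N7627 = N7458 := ded_24_2 L75383 L64303 L75248 L75259 L76653
theorem L76664 : sm gg N7458 = N7627 := flp_g L76663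
theorem L76665 : sm gc N7219 = N7628 := rfl
theorem L76666 : sm gc N7628 = N7219 := flp_c L76665
theorem L76667 : sm ga N7628 = N7280 := ded_8_1 L73949 L73551 L76665
theorem L76668 : sm ga N7280 = N7628 := flp_a L76667
theorem L76669 : sm gc N7220 = N7629 := rfl
theorem L76670 : sm gc N7629 = N7220 := flp_c L76669
theorem L76671 : sm ga N7629 = N7290 := ded_8_1 L74011 L73555 L76669
theorem L76672 : sm ga N7290 = N7629 := flp_a L76671
theorem L76673 : sm gg N7629 = N7261 := ded_21_2 L73825 L73559 L76669
theorem L76674 : sm gg N7261 = N7629 := flp_g L76673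
theorem L76675 : sm gc N7221 = N7630 := rfl
theorem L76676 : sm gc N7630 = N7221 := flp_c L76675
theorem L76677 : sm ga N7630 = N7291 := ded_8_1 L74015 L73563 L76675
theorem L76678 : sm ga N7291 = N7630 := flp_a L76677
theorem L76679 : sm gc N7222 = N7631 := rfl
theorem L76680 : sm gc N7631 = N7222 := flp_c L76679
theorem L76681 : sm ga N7631 = N7225 := ded_8_1 L73600 L73567 L76679
theorem L76682 : sm ga N7225 = N7631 := flp_a L76681
theorem L76683 : sm ge N7631 = N7357 := ded_19_2 L74563 L73571 L76679
theorem L76684 : sm ge N7357 = N7631 := flp_e L76683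
theorem L76685 : sm gf N7631 = N7377 := ded_20_2 L74723 L73574 L76679
theorem L76686 : sm gf N7377 = N7631 := flp_f L76685
theorem L76687 : sm gg N7631 = N7462 := ded_21_2 L75423 L73573 L76679
theorem L76688 : sm gg N7462 = N7631 := flp_g L76687
theorem L76689 : sm gb N7631 = N7299 := ded_13_1 L74082 L27927 L28079 L73569 L76679
theorem L76690 : sm gb N7299 = N7631 := flp_b L76689
theorem L76691 : sm gd N7225 = N7632 := rfl
theorem L76692 : sm gd N7632 = N7225 := flp_d L76691
theorem L76693 : sm gc N7227 = N7633 := rfl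
theorem L76694 : sm gc N7633 = N7227 := flp_c L76693
theorem L76695 : sm gf N7633 = N7228 := ded_20_2 L73624 L73622 L76693
theorem L76696 : sm gf N7228 = N7633 := flp_f L76695
theorem L76697 : sm gb N7228 = N7634 := rfl
theorem L76698 : sm gb N7634 = N7228 := flp_b L76697
theorem L76699 : sm ge N7228 = N7635 := rfl
theorem L76700 : sm ge N7635 = N7228 := flp_e L76699
theorem L76701 : sm gc N7635 = N7229 := ded_19_1 L73626 L73623 L76699
theorem L76702 : sm gc N7229 = N7635 := flp_c L76701
theorem L76703 : sm gd N7635 = N7233 := ded_22_1 L73709 L73715 L76628 L76631 L76699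
theorem L76704 : sm gd N7233 = N7635 := flp_d L76703
theorem L76705 : sm gc N7230 = N7636 := rfl
theorem L76706 : sm gc N7636 = N7230 := flp_c L76705
theorem L76707 : sm gf N7636 = N7291 := ded_20_2 L74015 L73632 L76705
theorem L76708 : sm gf N7291 = N7636 := flp_f L76707
theorem L76709 : sm gd N7636 = N7564 := ded_30_9 L76148 L73689 L25742 L13518 L6739 L6721 L13481 L25681 L73629 L76705
theorem L76710 : sm gd N7564 = N7636 := flp_d L76709
theorem L76711 : sm gb N7573 = N7636 := ded_14_3 L76709 L76150 L76207
theorem L76712 : sm gb N7636 = N7573 := flp_b L76711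
theorem L76713 : sm ge N7230 = N7637 := rfl
theorem L76714 : sm ge N7637 = N7230 := flp_e L76713
theorem L76715 : sm gf N7637 = N7292 := ded_25_2 L74017 L73632 L76713
theorem L76716 : sm gf N7292 = N7637 := flp_f L76715
theorem L76717 : sm ge N7232 = N7638 := rfl
theorem L76718 : sm ge N7638 = N7232 := flp_e L76717
theorem L76719 : sm gb N7638 = N7448 := ded_15_1 L75302 L73642 L76717
theorem L76720 : sm gb N7448 = N7638 := flp_b L76719
theorem L76721 : sm gc N7638 = N7350 := ded_19_1 L74503 L73741 L76717
theorem L76722 : sm gc N7350 = N7638 := flp_c L76721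
theorem L76723 : sm gf N7638 = N7348 := ded_25_2 L74492 L73738 L76717
theorem L76724 : sm gf N7348 = N7638 := flp_f L76723
theorem L76725 : sm gg N7638 = N7390 := ded_26_2 L74822 L73644 L76717
theorem L76726 : sm gg N7390 = N7638 := flp_g L76725
theorem L76727 : sm gd N7638 = N7253 := ded_22_1 L73766 L25834 L25704 L73639 L76717
theorem L76728 : sm gd N7253 = N7638 := flp_d L76727
theorem L76729 : sm gb N7233 = N7639 := rfl
theorem L76730 : sm gb N7639 = N7233 := flp_b L76729
theorem L76731 : sm gf N7639 = N7235 := ded_16_2 L73660 L73648 L76729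
theorem L76732 : sm gf N7235 = N7639 := flp_f L76731
theorem L76733 : sm gc N7639 = N7639 := ded_13_2 L76730 L73646 L72948 L73645 L76729
theorem L76734 : sm ga N7235 = N7640 := rfl
theorem L76735 : sm ga N7640 = N7235 := flp_a L76734
theorem L76736 : sm gc N7640 = N7640 := ded_8_2 L76735 L73661 L76734
theorem L76737 : sm gg N7640 = N7246 := ded_12_2 L76613 L76620 L76734
theorem L76738 : sm gg N7246 = N7640 := flp_g L76737
theorem L76739 : sm gb N7640 = N7245 := ded_29_4 L73707 L73391 L73392 L76509 L76505 L73312 L73659 L73661 L76734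
theorem L76740 : sm gb N7245 = N7640 := flp_b L76739
theorem L76741 : sm ge N7639 = N7640 := ded_29_9 L76735 L73660 L25722 L24869 L73227 L76458 L76460 L76729 L76733
theorem L76742 : sm ge N7640 = N7639 := flp_e L76741
theorem L76743 : sm gd N7622 = N7640 := ded_24_5 L76737 L73718 L73274 L73484 L76606
theorem L76744 : sm gd N7640 = N7622 := flp_d L76743
theorem L76745 : sm gd N7235 = N7641 := rfl
theorem L76746 : sm gd N7641 = N7235 := flp_d L76745
theorem L76747 : sm ga N7641 = N7622 := ded_9_1 L76743 L76735 L76745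
theorem L76748 : sm ga N7622 = N7641 := flp_a L76747
theorem L76749 : sm gb N7641 = N7236 := ded_14_1 L73663 L73659 L76745
theorem L76750 : sm gb N7236 = N7641 := flp_b L76749
theorem L76751 : sm gg N7641 = N7619 := ded_24_2 L76593 L73497 L76610 L76620 L76745
theorem L76752 : sm gg N7619 = N7641 := flp_g L76751
theorem L76753 : sm ge N7235 = N7642 := rfl
theorem L76754 : sm ge N7642 = N7235 := flp_e L76753
theorem L76755 : sm ga N7642 = N7639 := ded_10_1 L76741 L76735 L76753
theorem L76756 : sm ga N7639 = N7642 := flp_a L76755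
theorem L76757 : sm gb N7642 = N7237 := ded_15_1 L73665 L73659 L76753
theorem L76758 : sm gb N7237 = N7642 := flp_b L76757
theorem L76759 : sm gc N7642 = N7642 := ded_19_1 L76754 L73661 L76753
theorem L76760 : sm gf N7642 = N7640 := ded_25_2 L76742 L76731 L76753
theorem L76761 : sm gf N7640 = N7642 := flp_f L76760
theorem L76762 : sm ge N7236 = N7643 := rfl
theorem L76763 : sm ge N7643 = N7236 := flp_e L76762
theorem L76764 : sm ga N7643 = N7362 := ded_10_1 L74957 L74952 L76762
theorem L76765 : sm ga N7362 = N7643 := flp_a L76764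
theorem L76766 : sm gc N7643 = N7313 := ded_19_1 L74260 L74257 L76762
theorem L76767 : sm gc N7313 = N7643 := flp_c L76766
theorem L76768 : sm gg N7643 = N7311 := ded_26_2 L76479 L76480 L76762
theorem L76769 : sm gg N7311 = N7643 := flp_g L76768
theorem L76770 : sm gd N7238 = N7644 := rfl
theorem L76771 : sm gd N7644 = N7238 := flp_d L76770
theorem L76772 : sm ga N7644 = N7239 := ded_9_1 L73678 L73668 L76770
theorem L76773 : sm ga N7239 = N7644 := flp_a L76772
theorem L76774 : sm gb N7644 = N7242 := ded_14_1 L73694 L73674 L76770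
theorem L76775 : sm gb N7242 = N7644 := flp_b L76774
theorem L76776 : sm ge N7644 = N7239 := ded_22_2 L73678 L73681 L73770 L73771 L76770
theorem L76777 : sm ge N7239 = N7644 := flp_e L76776
theorem L76778 : sm gc N7239 = N7645 := rfl
theorem L76779 : sm gc N7645 = N7239 := flp_c L76778
theorem L76780 : sm gb N7645 = N7431 := ded_13_1 L75365 L75362 L73689 L73680 L76778
theorem L76781 : sm gb N7431 = N7645 := flp_b L76780
theorem L76782 : sm gd N7423 = N7645 := ded_14_0 L76780 L75165 L75105
theorem L76783 : sm gd N7645 = N7423 := flp_d L76782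
theorem L76784 : sm gf N7239 = N7646 := rfl
theorem L76785 : sm gf N7646 = N7239 := flp_f L76784
theorem L76786 : sm gb N7646 = N7243 := ded_16_1 L73697 L73680 L76784
theorem L76787 : sm gb N7243 = N7646 := flp_b L76786
theorem L76788 : sm gd N7646 = N7266 := ded_23_1 L73855 L25920 L25740 L73677 L76784
theorem L76789 : sm gd N7266 = N7646 := flp_d L76788
theorem L76790 : sm gg N7239 = N7647 := rfl
theorem L76791 : sm gg N7647 = N7239 := flp_g L76790
theorem L76792 : sm gb N7647 = N7244 := ded_17_1 L73701 L73680 L76790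
theorem L76793 : sm gb N7244 = N7647 := flp_b L76792
theorem L76794 : sm gf N7282 = N7647 := ded_16_0 L76792 L73705 L73960
theorem L76795 : sm gf N7647 = N7282 := flp_f L76794
theorem L76796 : sm gd N7241 = N7648 := rfl
theorem L76797 : sm gd N7648 = N7241 := flp_d L76796
theorem L76798 : sm ga N7648 = N7636 := ded_9_1 L76709 L76148 L76796
theorem L76799 : sm ga N7636 = N7648 := flp_a L76798
theorem L76800 : sm gg N7648 = N7636 := ded_24_2 L76709 L76147 L72992 L73691 L76796
theorem L76801 : sm gg N7636 = N7648 := flp_g L76800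
theorem L76802 : sm gc N7388 = N7648 := ded_30_0 L76797 L73689 L25742 L13518 L6739 L6721 L13481 L25681 L73629 L74803
theorem L76803 : sm gc N7648 = N7388 := flp_c L76802
theorem L76804 : sm gf N7630 = N7648 := ded_11_0 L76798 L76707 L76678
theorem L76805 : sm gf N7648 = N7630 := flp_f L76804
theorem L76806 : sm gg N7242 = N7649 := rfl
theorem L76807 : sm gg N7649 = N7242 := flp_g L76806
theorem L76808 : sm gc N7649 = N7286 := ded_21_1 L74003 L73998 L76806
theorem L76809 : sm gc N7286 = N7649 := flp_c L76808
theorem L76810 : sm ge N7649 = N7244 := ded_26_1 L73701 L73692 L76806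
theorem L76811 : sm ge N7244 = N7649 := flp_e L76810
theorem L76812 : sm gf N7284 = N7649 := ded_28_0 L76807 L73980 L73975 L73968
theorem L76813 : sm gf N7649 = N7284 := flp_f L76812
theorem L76814 : sm gd N7649 = N7244 := ded_24_1 L73701 L25742 L25749 L73695 L76806
theorem L76815 : sm gd N7244 = N7649 := flp_d L76814
theorem L76816 : sm ge N7246 = N7650 := rfl
theorem L76817 : sm ge N7650 = N7246 := flp_e L76816
theorem L76818 : sm gb N7650 = N7247 := ded_15_1 L73722 L73716 L76816
theorem L76819 : sm gb N7247 = N7650 := flp_b L76818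
theorem L76820 : sm gc N7650 = N7650 := ded_19_1 L76817 L73720 L76816
theorem L76821 : sm gg N7650 = N7639 := ded_26_2 L76741 L76737 L76816
theorem L76822 : sm gg N7639 = N7650 := flp_g L76821
theorem L76823 : sm gc N7248 = N7651 := rfl
theorem L76824 : sm gc N7651 = N7248 := flp_c L76823
theorem L76825 : sm gf N7248 = N7652 := rfl
theorem L76826 : sm gf N7652 = N7248 := flp_f L76825
theorem L76827 : sm gb N7652 = N7250 := ded_16_1 L73740 L73730 L76825
theorem L76828 : sm gb N7250 = N7652 := flp_b L76827
theorem L76829 : sm gg N7341 = N7652 := ded_28_1 L76826 L74425 L74422 L74436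
theorem L76830 : sm gg N7652 = N7341 := flp_g L76829
theorem L76831 : sm gb N7252 = N7653 := rfl
theorem L76832 : sm gb N7653 = N7252 := flp_b L76831
theorem L76833 : sm ge N7252 = N7654 := rfl
theorem L76834 : sm ge N7654 = N7252 := flp_e L76833
theorem L76835 : sm gc N7654 = N7253 := ded_19_1 L73766 L73763 L76833
theorem L76836 : sm gc N7253 = N7654 := flp_c L76835
theorem L76837 : sm gd N7654 = N7362 := ded_22_1 L74957 L74960 L76504 L76515 L76833
theorem L76838 : sm gd N7362 = N7654 := flp_d L76837
theorem L76839 : sm gb N7255 = N7655 := rfl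
theorem L76840 : sm gb N7655 = N7255 := flp_b L76839
theorem L76841 : sm gd N7655 = N7620 := ded_14_2 L76600 L73789 L76839
theorem L76842 : sm gd N7620 = N7655 := flp_d L76841
theorem L76843 : sm ge N7655 = N7623 := ded_15_2 L76614 L73783 L76839
theorem L76844 : sm ge N7623 = N7655 := flp_e L76843
theorem L76845 : sm gf N7655 = N7650 := ded_16_2 L76818 L73785 L76839
theorem L76846 : sm gf N7650 = N7655 := flp_f L76845
theorem L76847 : sm gg N7655 = N7642 := ded_17_2 L76757 L73787 L76839
theorem L76848 : sm gg N7642 = N7655 := flp_g L76847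
theorem L76849 : sm gc N7655 = N7655 := ded_13_2 L76840 L73781 L72817 L73780 L76839
theorem L76850 : sm ga N7650 = N7655 := ded_29_6 L76840 L73781 L25868 L73327 L73405 L73799 L73796 L76819 L76820
theorem L76851 : sm ga N7655 = N7650 := flp_a L76850
theorem L76852 : sm gc N7256 = N7656 := rfl
theorem L76853 : sm gc N7656 = N7256 := flp_c L76852
theorem L76854 : sm gb N7656 = N7272 := ded_13_1 L73901 L73248 L72848 L73793 L76852
theorem L76855 : sm gb N7272 = N7656 := flp_b L76854
theorem L76856 : sm ge N7656 = N7269 := ded_29_9 L73866 L73792 L72849 L24892 L65740 L25767 L72852 L73793 L76852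
theorem L76857 : sm ge N7269 = N7656 := flp_e L76856
theorem L76858 : sm gd N7267 = N7656 := ded_14_0 L76854 L73893 L73859
theorem L76859 : sm gd N7656 = N7267 := flp_d L76858
theorem L76860 : sm ge N7256 = N7657 := rfl
theorem L76861 : sm ge N7657 = N7256 := flp_e L76860
theorem L76862 : sm ga N7657 = N7656 := ded_10_1 L76856 L73866 L76860
theorem L76863 : sm ga N7656 = N7657 := flp_a L76862
theorem L76864 : sm gb N7657 = N7257 := ded_15_1 L73795 L73793 L76860
theorem L76865 : sm gb N7257 = N7657 := flp_b L76864
theorem L76866 : sm gc N7657 = N7269 := ded_19_1 L76857 L76853 L76860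
theorem L76867 : sm gc N7269 = N7657 := flp_c L76866
theorem L76868 : sm gf N7657 = N7656 := ded_25_2 L76856 L73870 L76860
theorem L76869 : sm gf N7656 = N7657 := flp_f L76868
theorem L76870 : sm gd N7657 = N7361 := ded_22_1 L74589 L73845 L25918 L73790 L76860
theorem L76871 : sm gd N7361 = N7657 := flp_d L76870
theorem L76872 : sm gg N7256 = N7658 := rfl
theorem L76873 : sm gg N7658 = N7256 := flp_g L76872
theorem L76874 : sm ga N7658 = N7610 := ded_12_1 L76502 L73866 L76872
theorem L76875 : sm ga N7610 = N7658 := flp_a L76874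
theorem L76876 : sm gb N7658 = N7258 := ded_17_1 L73803 L73793 L76872
theorem L76877 : sm gb N7258 = N7658 := flp_b L76876
theorem L76878 : sm gd N7658 = N7268 := ded_24_1 L73861 L25920 L25888 L73790 L76872
theorem L76879 : sm gd N7268 = N7658 := flp_d L76878
theorem L76880 : sm gc N7260 = N7659 := rfl
theorem L76881 : sm gc N7659 = N7260 := flp_c L76880
theorem L76882 : sm gg N7659 = N7505 := ded_21_2 L75736 L73823 L76880
theorem L76883 : sm gg N7505 = N7659 := flp_g L76882
theorem L76884 : sm gd N7482 = N7659 := ded_24_5 L76882 L75734 L30769 L30656 L75545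
theorem L76885 : sm gd N7659 = N7482 := flp_d L76884
theorem L76886 : sm gb N7261 = N7660 := rfl
theorem L76887 : sm gb N7660 = N7261 := flp_b L76886
theorem L76888 : sm gd N7660 = N7558 := ded_14_2 L76105 L73827 L76886
theorem L76889 : sm gd N7558 = N7660 := flp_d L76888
theorem L76890 : sm ge N7261 = N7661 := rfl
theorem L76891 : sm ge N7661 = N7261 := flp_e L76890
theorem L76892 : sm gc N7661 = N7262 := ded_19_1 L73829 L73824 L76890
theorem L76893 : sm gc N7262 = N7661 := flp_c L76892
theorem L76894 : sm gf N7628 = N7661 := ded_20_0 L76892 L73840 L76665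
theorem L76895 : sm gf N7661 = N7628 := flp_f L76894
theorem L76896 : sm gd N7661 = N7628 := ded_30_1 L76666 L73549 L25022 L53514 L73307 L76486 L76498 L74077 L73952 L76893
theorem L76897 : sm gd N7628 = N7661 := flp_d L76896
theorem L76898 : sm gf N7261 = N7662 := rfl
theorem L76899 : sm gf N7662 = N7261 := flp_f L76898
theorem L76900 : sm ga N7662 = N7347 := ded_11_1 L74482 L73964 L76898
theorem L76901 : sm ga N7347 = N7662 := flp_a L76900
theorem L76902 : sm gc N7662 = N7263 := ded_20_1 L73831 L73824 L76898
theorem L76903 : sm gc N7263 = N7662 := flp_c L76902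
theorem L76904 : sm ge N7662 = N7628 := ded_25_1 L76894 L76891 L76898
theorem L76905 : sm ge N7628 = N7662 := flp_e L76904
theorem L76906 : sm gd N7662 = N7559 := ded_31_2 L76112 L76138 L76154 L76710 L76706 L74807 L74804 L73561 L25207 L25204 L25192 L73552 L76669 L76673 L76898
theorem L76907 : sm gd N7559 = N7662 := flp_d L76906
theorem L76908 : sm gg N7309 = N7662 := ded_12_0 L76900 L74484 L74182
theorem L76909 : sm gg N7662 = N7309 := flp_g L76908
theorem L76910 : sm gg N7265 = N7663 := rfl
theorem L76911 : sm gg N7663 = N7265 := flp_g L76910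
theorem L76912 : sm ga N7663 = N7268 := ded_12_1 L73861 L73847 L76910
theorem L76913 : sm ga N7268 = N7663 := flp_a L76912
theorem L76914 : sm gb N7663 = N7404 := ded_17_1 L74958 L73849 L76910
theorem L76915 : sm gb N7404 = N7663 := flp_b L76914
theorem L76916 : sm gf N7663 = N7401 := ded_28_2 L74935 L74924 L74932 L76910
theorem L76917 : sm gf N7401 = N7663 := flp_f L76916
theorem L76918 : sm gd N7663 = N7610 := ded_24_1 L76502 L73865 L25929 L73844 L76910
theorem L76919 : sm gd N7610 = N7663 := flp_d L76918
theorem L76920 : sm gg N7266 = N7664 := rfl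
theorem L76921 : sm gg N7664 = N7266 := flp_g L76920
theorem L76922 : sm gb N7664 = N7274 := ded_17_1 L73907 L73853 L76920
theorem L76923 : sm gb N7274 = N7664 := flp_b L76922
theorem L76924 : sm gc N7664 = N7268 := ded_21_1 L73861 L73850 L76920
theorem L76925 : sm gc N7268 = N7664 := flp_c L76924
theorem L76926 : sm gd N7351 = N7664 := ded_14_0 L76922 L73912 L74507
theorem L76927 : sm gd N7664 = N7351 := flp_d L76926
theorem L76928 : sm gg N7267 = N7665 := rfl
theorem L76929 : sm gg N7665 = N7267 := flp_g L76928
theorem L76930 : sm gb N7665 = N7273 := ded_17_1 L73903 L73859 L76928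
theorem L76931 : sm gb N7273 = N7665 := flp_b L76930
theorem L76932 : sm ge N7665 = N7268 := ded_26_1 L73861 L73856 L76928
theorem L76933 : sm ge N7268 = N7665 := flp_e L76932
theorem L76934 : sm gf N7665 = N7664 := ded_28_2 L76921 L74920 L74916 L76928
theorem L76935 : sm gf N7664 = N7665 := flp_f L76934
theorem L76936 : sm gf N7268 = N7666 := rfl
theorem L76937 : sm gf N7666 = N7268 := flp_f L76936
theorem L76938 : sm ga N7666 = N7401 := ded_11_1 L76917 L76912 L76936
theorem L76939 : sm ga N7401 = N7666 := flp_a L76938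
theorem L76940 : sm gb N7666 = N7275 := ded_16_1 L73915 L73863 L76936
theorem L76941 : sm gb N7275 = N7666 := flp_b L76940
theorem L76942 : sm gc N7666 = N7665 := ded_20_1 L76934 L76924 L76936
theorem L76943 : sm gc N7665 = N7666 := flp_c L76942
theorem L76944 : sm ge N7666 = N7664 := ded_25_1 L76935 L76932 L76936
theorem L76945 : sm ge N7664 = N7666 := flp_e L76944
theorem L76946 : sm gg N7666 = N7399 := ded_28_3 L74921 L73855 L73860 L76936
theorem L76947 : sm gg N7399 = N7666 := flp_g L76946
theorem L76948 : sm gc N7276 = N7667 := rfl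
theorem L76949 : sm gc N7667 = N7276 := flp_c L76948
theorem L76950 : sm ga N7667 = N7277 := ded_8_1 L73927 L73923 L76948
theorem L76951 : sm ga N7277 = N7667 := flp_a L76950
theorem L76952 : sm gf N7667 = N7596 := ded_20_2 L76378 L73938 L76948
theorem L76953 : sm gf N7596 = N7667 := flp_f L76952
theorem L76954 : sm gd N7277 = N7668 := rfl
theorem L76955 : sm gd N7668 = N7277 := flp_d L76954
theorem L76956 : sm gb N7668 = N7550 := ded_14_1 L76651 L76649 L76954
theorem L76957 : sm gb N7550 = N7668 := flp_b L76956
theorem L76958 : sm ge N7536 = N7668 := ded_15_0 L76956 L76052 L75937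
theorem L76959 : sm ge N7668 = N7536 := flp_e L76958
theorem L76960 : sm gf N7535 = N7668 := ded_16_0 L76956 L76055 L75929
theorem L76961 : sm gf N7668 = N7535 := flp_f L76960
theorem L76962 : sm gg N7543 = N7668 := ded_17_0 L76956 L76049 L75993
theorem L76963 : sm gg N7668 = N7543 := flp_g L76962
theorem L76964 : sm gc N7538 = N7668 := ded_13_0 L76956 L76050 L73070 L73636 L75959
theorem L76965 : sm gc N7668 = N7538 := flp_c L76964
theorem L76966 : sm gf N7277 = N7669 := rfl
theorem L76967 : sm gf N7669 = N7277 := flp_f L76966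
theorem L76968 : sm ga N7669 = N7596 := ded_11_1 L76953 L76950 L76966
theorem L76969 : sm ga N7596 = N7669 := flp_a L76968
theorem L76970 : sm gb N7669 = N7337 := ded_16_1 L76648 L76649 L76966
theorem L76971 : sm gb N7337 = N7669 := flp_b L76970
theorem L76972 : sm gc N7669 = N7278 := ded_20_1 L73929 L73926 L76966
theorem L76973 : sm gc N7278 = N7669 := flp_c L76972
theorem L76974 : sm ge N7669 = N7626 := ded_25_1 L76647 L74416 L76966
theorem L76975 : sm ge N7626 = N7669 := flp_e L76974
theorem L76976 : sm gg N7323 = N7669 := ded_28_1 L76967 L74410 L74407 L74296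
theorem L76977 : sm gg N7669 = N7323 := flp_g L76976
theorem L76978 : sm gc N7279 = N7670 := rfl
theorem L76979 : sm gc N7670 = N7279 := flp_c L76978
theorem L76980 : sm ga N7670 = N7659 := ded_8_1 L76881 L73943 L76978
theorem L76981 : sm ga N7659 = N7670 := flp_a L76980
theorem L76982 : sm gf N7670 = N7589 := ded_20_2 L76328 L73947 L76978
theorem L76983 : sm gf N7589 = N7670 := flp_f L76982
theorem L76984 : sm gg N7670 = N7513 := ded_21_2 L75779 L74462 L76978
theorem L76985 : sm gg N7513 = N7670 := flp_g L76984
theorem L76986 : sm gb N7280 = N7671 := rfl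
theorem L76987 : sm gb N7671 = N7280 := flp_b L76986
theorem L76988 : sm gd N7280 = N7672 := rfl
theorem L76989 : sm gd N7672 = N7280 := flp_d L76988
theorem L76990 : sm ga N7672 = N7661 := ded_9_1 L76896 L76667 L76988
theorem L76991 : sm ga N7661 = N7672 := flp_a L76990
theorem L76992 : sm ge N7672 = N7283 := ded_22_2 L73963 L73968 L74486 L74480 L76988
theorem L76993 : sm ge N7283 = N7672 := flp_e L76992
theorem L76994 : sm gc N7281 = N7672 := ded_30_0 L76989 L73949 L25970 L13622 L13607 L25908 L73842 L74544 L74547 L73953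
theorem L76995 : sm gc N7672 = N7281 := flp_c L76994
theorem L76996 : sm gf N7280 = N7672 := ded_31_1 L76989 L73949 L73100 L73099 L26391 L13810 L13835 L13830 L13825 L64400 L26385 L26378 L72678 L74512 L74513
theorem L76997 : sm gf N7672 = N7280 := flp_f L76996
theorem L76998 : sm gg N7353 = N7672 := ded_31_0 L76997 L76988 L76995 L73958 L28378 L15258 L7671 L3828 L3823 L7554 L14929 L41885 L17156 L71695 L74520
theorem L76999 : sm gg N7672 = N7353 := flp_g L76998
theorem L77000 : sm ga N7282 = N7673 := rfl
theorem L77001 : sm ga N7673 = N7282 := flp_a L77000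
theorem L77002 : sm gb N7673 = N7284 := ded_29_4 L73970 L72868 L31165 L31208 L31206 L29533 L75314 L75316 L77000
theorem L77003 : sm gb N7284 = N7673 := flp_b L77002
theorem L77004 : sm ge N7282 = N7673 := ded_29_9 L77001 L73961 L26041 L61337 L16688 L16706 L29533 L75314 L75316
theorem L77005 : sm ge N7673 = N7282 := flp_e L77004
theorem L77006 : sm gg N7646 = N7673 := ded_17_0 L77002 L73973 L76787
theorem L77007 : sm gg N7673 = N7646 := flp_g L77006
theorem L77008 : sm gd N7282 = N7674 := rfl
theorem L77009 : sm gd N7674 = N7282 := flp_d L77008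
theorem L77010 : sm gb N7674 = N7283 := ded_14_1 L73963 L73960 L77008
theorem L77011 : sm gb N7283 = N7674 := flp_b L77010
theorem L77012 : sm gg N7282 = N7675 := rfl
theorem L77013 : sm gg N7675 = N7282 := flp_g L77012
theorem L77014 : sm ga N7675 = N7646 := ded_12_1 L77006 L77001 L77012
theorem L77015 : sm ga N7646 = N7675 := flp_a L77014
theorem L77016 : sm gb N7675 = N7285 := ded_17_1 L73975 L73960 L77012
theorem L77017 : sm gb N7285 = N7675 := flp_b L77016
theorem L77018 : sm ge N7675 = N7646 := ded_26_1 L77006 L77005 L77012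
theorem L77019 : sm ge N7646 = N7675 := flp_e L77018
theorem L77020 : sm gf N7644 = N7675 := ded_28_0 L77013 L76794 L76791 L76777
theorem L77021 : sm gf N7675 = N7644 := flp_f L77020
theorem L77022 : sm gd N7400 = N7675 := ded_9_0 L77014 L76788 L74927
theorem L77023 : sm gd N7675 = N7400 := flp_d L77022
theorem L77024 : sm gd N7286 = N7676 := rfl
theorem L77025 : sm gd N7676 = N7286 := flp_d L77024
theorem L77026 : sm gf N7676 = N7676 := ded_23_2 L77025 L73985 L26044 L73984 L77024
theorem L77027 : sm gc N7676 = N7676 := ded_30_6 L77025 L76809 L76814 L76117 L76118 L72992 L73703 L76815 L76808 L77024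
theorem L77028 : sm gd N7287 = N7677 := rfl
theorem L77029 : sm gd N7677 = N7287 := flp_d L77028
theorem L77030 : sm gg N7677 = N7677 := ded_24_2 L77029 L73989 L26044 L73988 L77028
theorem L77031 : sm gc N7410 = N7677 := ded_30_0 L77029 L73990 L73698 L72708 L15623 L15615 L28801 L29104 L75027 L75029
theorem L77032 : sm gc N7677 = N7410 := flp_c L77031
theorem L77033 : sm gc N7289 = N7678 := rfl
theorem L77034 : sm gc N7678 = N7289 := flp_c L77033
theorem L77035 : sm ge N7678 = N7630 := ded_19_2 L76676 L74007 L77033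
theorem L77036 : sm ge N7630 = N7678 := flp_e L77035
theorem L77037 : sm gg N7678 = N7291 := ded_21_2 L74015 L74009 L77033
theorem L77038 : sm gg N7291 = N7678 := flp_g L77037
theorem L77039 : sm gf N7289 = N7679 := rfl
theorem L77040 : sm gf N7679 = N7289 := flp_f L77039
theorem L77041 : sm ga N7679 = N7637 := ded_11_1 L76715 L74018 L77039
theorem L77042 : sm ga N7637 = N7679 := flp_a L77041
theorem L77043 : sm ge N7679 = N7388 := ded_25_1 L74804 L74007 L77039
theorem L77044 : sm ge N7388 = N7679 := flp_e L77043
theorem L77045 : sm gg N7679 = N7637 := ded_28_3 L76714 L73631 L74009 L77039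
theorem L77046 : sm gg N7637 = N7679 := flp_g L77045
theorem L77047 : sm gd N7679 = N7350 := ded_23_1 L74502 L72679 L26429 L74004 L77039
theorem L77048 : sm gd N7350 = N7679 := flp_d L77047
theorem L77049 : sm gb N7290 = N7680 := rfl
theorem L77050 : sm gb N7680 = N7290 := flp_b L77049
theorem L77051 : sm gg N7680 = N7674 := ded_17_2 L77010 L74013 L77049
theorem L77052 : sm gg N7674 = N7680 := flp_g L77051
theorem L77053 : sm gb N7291 = N7681 := rfl
theorem L77054 : sm gb N7681 = N7291 := flp_b L77053
theorem L77055 : sm gf N7681 = N7573 := ded_16_2 L76711 L76707 L77053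
theorem L77056 : sm gf N7573 = N7681 := flp_f L77055
theorem L77057 : sm gd N7291 = N7682 := rfl
theorem L77058 : sm gd N7682 = N7291 := flp_d L77057
theorem L77059 : sm ge N7291 = N7683 := rfl
theorem L77060 : sm ge N7683 = N7291 := flp_e L77059
theorem L77061 : sm ga N7683 = N7678 := ded_10_1 L77035 L76677 L77059
theorem L77062 : sm ga N7678 = N7683 := flp_a L77061
theorem L77063 : sm gc N7683 = N7292 := ded_19_1 L74017 L74014 L77059
theorem L77064 : sm gc N7292 = N7683 := flp_c L77063
theorem L77065 : sm gg N7683 = N7630 := ded_26_2 L77036 L77037 L77059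
theorem L77066 : sm gg N7630 = N7683 := flp_g L77065
theorem L77067 : sm gd N7678 = N7683 := ded_30_9 L77061 L77034 L74005 L64399 L13826 L6898 L13825 L64400 L74004 L77033
theorem L77068 : sm gd N7683 = N7678 := flp_d L77067
theorem L77069 : sm gc N7294 = N7684 := rfl
theorem L77070 : sm gc N7684 = N7294 := flp_c L77069
theorem L77071 : sm ga N7684 = N7352 := ded_8_1 L74511 L74041 L77069
theorem L77072 : sm ga N7352 = N7684 := flp_a L77071
theorem L77073 : sm ge N7684 = N7309 := ded_19_2 L74180 L74043 L77069
theorem L77074 : sm ge N7309 = N7684 := flp_e L77073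
theorem L77075 : sm gf N7684 = N7629 := ded_20_2 L76670 L74045 L77069
theorem L77076 : sm gf N7629 = N7684 := flp_f L77075
theorem L77077 : sm gg N7684 = N7628 := ded_21_2 L76666 L74047 L77069
theorem L77078 : sm gg N7628 = N7684 := flp_g L77077
theorem L77079 : sm gf N7295 = N7685 := rfl
theorem L77080 : sm gf N7685 = N7295 := flp_f L77079
theorem L77081 : sm ga N7685 = N7350 := ded_11_1 L74502 L74051 L77079
theorem L77082 : sm ga N7350 = N7685 := flp_a L77081
theorem L77083 : sm gb N7685 = N7441 := ded_16_1 L75245 L74053 L77079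
theorem L77084 : sm gb N7441 = N7685 := flp_b L77083
theorem L77085 : sm ge N7685 = N7617 := ded_25_1 L76569 L74055 L77079
theorem L77086 : sm ge N7617 = N7685 := flp_e L77085
theorem L77087 : sm gd N7685 = N7637 := ded_23_1 L76715 L74022 L26475 L74048 L77079
theorem L77088 : sm gd N7637 = N7685 := flp_d L77087
theorem L77089 : sm gg N7297 = N7686 := rfl
theorem L77090 : sm gg N7686 = N7297 := flp_g L77089
theorem L77091 : sm ga N7686 = N7349 := ded_12_1 L74640 L74633 L77089
theorem L77092 : sm ga N7349 = N7686 := flp_a L77091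
theorem L77093 : sm gb N7686 = N7467 := ded_17_1 L75472 L74069 L77089
theorem L77094 : sm gb N7467 = N7686 := flp_b L77093
theorem L77095 : sm gc N7686 = N7686 := ded_21_1 L77090 L74072 L77089
theorem L77096 : sm ge N7686 = N7349 := ded_26_1 L74640 L74635 L77089
theorem L77097 : sm ge N7349 = N7686 := flp_e L77096
theorem L77098 : sm gf N7328 = N7686 := ded_28_0 L77090 L74070 L28368 L74340
theorem L77099 : sm gf N7686 = N7328 := flp_f L77098
theorem L77100 : sm gd N7686 = N7327 := ded_24_1 L76574 L76576 L73637 L74066 L77089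
theorem L77101 : sm gd N7327 = N7686 := flp_d L77100
theorem L77102 : sm gd N7299 = N7687 := rfl
theorem L77103 : sm gd N7687 = N7299 := flp_d L77102
theorem L77104 : sm gc N7687 = N7687 := ded_30_8 L77103 L74552 L74550 L28400 L71507 L53012 L71727 L27925 L74081 L77102
theorem L77105 : sm gg N7299 = N7688 := rfl
theorem L77106 : sm gg N7688 = N7299 := flp_g L77105
theorem L77107 : sm ga N7688 = N7585 := ded_12_1 L76304 L74551 L77105
theorem L77108 : sm ga N7585 = N7688 := flp_a L77107
theorem L77109 : sm gb N7688 = N7462 := ded_17_1 L76688 L76689 L77105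
theorem L77110 : sm gb N7462 = N7688 := flp_b L77109
theorem L77111 : sm gc N7688 = N7300 := ded_21_1 L74086 L74081 L77105
theorem L77112 : sm gc N7300 = N7688 := flp_c L77111
theorem L77113 : sm ge N7688 = N7358 := ded_26_1 L74566 L74084 L77105
theorem L77114 : sm ge N7358 = N7688 := flp_e L77113
theorem L77115 : sm gf N7585 = N7688 := ded_28_0 L77106 L74349 L74763 L76303
theorem L77116 : sm gf N7688 = N7585 := flp_f L77115
theorem L77117 : sm gd N7565 = N7688 := ded_9_0 L77107 L76300 L76159
theorem L77118 : sm gd N7688 = N7565 := flp_d L77117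
theorem L77119 : sm gc N7301 = N7689 := rfl
theorem L77120 : sm gc N7689 = N7301 := flp_c L77119
theorem L77121 : sm ga N7689 = N7302 := ded_8_1 L74102 L74096 L77119
theorem L77122 : sm ga N7302 = N7689 := flp_a L77121
theorem L77123 : sm gf N7689 = N7446 := ded_20_2 L75284 L74100 L77119
theorem L77124 : sm gf N7446 = N7689 := flp_f L77123
theorem L77125 : sm gb N7689 = N7651 := ded_13_1 L76824 L73729 L73731 L74098 L77119
theorem L77126 : sm gb N7651 = N7689 := flp_b L77125
theorem L77127 : sm gd N7689 = N7579 := ded_30_5 L76262 L76286 L76334 L76331 L75465 L75463 L30113 L71740 L74093 L77119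
theorem L77128 : sm gd N7579 = N7689 := flp_d L77127
theorem L77129 : N7651 = N7582 := coi_14_2 L76285 L76261 L77128 L77125
theorem L77130 : N7651 = N7582 := eqc rfl L77129 rfl
theorem L77131 : sm gb N7582 = N7689 := trfs L77130 L77126 rfl
theorem L77132 : sm gb N7689 = N7582 := flp_b L77131
theorem L77133 : sm gc N7582 = N7248 := trfs L77130 L76824 rfl
theorem L77134 : sm gc N7248 = N7582 := flp_c L77133
theorem L77135 : sm gb N7309 = N7690 := rfl
theorem L77136 : sm gb N7690 = N7309 := flp_b L77135
theorem L77137 : sm gf N7309 = N7691 := rfl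
theorem L77138 : sm gf N7691 = N7309 := flp_f L77137
theorem L77139 : sm ga N7691 = N7353 := ded_11_1 L74518 L74182 L77137
theorem L77140 : sm ga N7353 = N7691 := flp_a L77139
theorem L77141 : sm gc N7691 = N7310 := ded_20_1 L74184 L74179 L77137
theorem L77142 : sm gc N7310 = N7691 := flp_c L77141
theorem L77143 : sm ge N7691 = N7629 := ded_25_1 L77076 L77073 L77137
theorem L77144 : sm ge N7629 = N7691 := flp_e L77143
theorem L77145 : sm gg N7691 = N7661 := ded_28_3 L76891 L76898 L76909 L77137
theorem L77146 : sm gg N7661 = N7691 := flp_g L77145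
theorem L77147 : sm gd N7691 = N7633 := ded_23_1 L76695 L76632 L76629 L74834 L77137
theorem L77148 : sm gd N7633 = N7691 := flp_d L77147
theorem L77149 : sm gb N7311 = N7692 := rfl
theorem L77150 : sm gb N7692 = N7311 := flp_b L77149
theorem L77151 : sm gd N7692 = N7650 := ded_14_2 L76818 L74202 L77149
theorem L77152 : sm gd N7650 = N7692 := flp_d L77151
theorem L77153 : sm ge N7692 = N7619 := ded_15_2 L76596 L76478 L77149
theorem L77154 : sm ge N7619 = N7692 := flp_e L77153
theorem L77155 : sm gf N7692 = N7314 := ded_16_2 L74218 L74200 L77149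
theorem L77156 : sm gf N7314 = N7692 := flp_f L77155
theorem L77157 : sm gc N7692 = N7621 := ded_13_2 L76604 L73508 L28219 L74195 L77149
theorem L77158 : sm gc N7621 = N7692 := flp_c L77157
theorem L77159 : sm ga N7692 = N7620 := ded_7_1 L76600 L73500 L73859 L74595 L74588 L74198 L77149
theorem L77160 : sm ga N7620 = N7692 := flp_a L77159
theorem L77161 : sm ga N7314 = N7693 := rfl
theorem L77162 : sm ga N7693 = N7314 := flp_a L77161
theorem L77163 : sm gc N7693 = N7619 := ded_8_2 L76594 L74220 L77161
theorem L77164 : sm gc N7619 = N7693 := flp_c L77163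
theorem L77165 : sm gf N7693 = N7620 := ded_11_2 L77160 L77155 L77161
theorem L77166 : sm gf N7620 = N7693 := flp_f L77165
theorem L77167 : sm gb N7693 = N7315 := ded_7_2 L74223 L74919 L74913 L28937 L28140 L74217 L77161
theorem L77168 : sm gb N7315 = N7693 := flp_b L77167
theorem L77169 : sm ge N7621 = N7693 := ded_29_9 L77162 L74218 L28138 L15102 L15308 L28447 L74198 L77149 L77157
theorem L77170 : sm ge N7693 = N7621 := flp_e L77169
theorem L77171 : sm gd N7693 = N7314 := ded_30_9 L77161 L77163 L76593 L73495 L76610 L76618 L76611 L73494 L76592 L77164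
theorem L77172 : sm gd N7314 = N7693 := flp_d L77171
theorem L77173 : sm ge N7314 = N7694 := rfl
theorem L77174 : sm ge N7694 = N7314 := flp_e L77173
theorem L77175 : sm ga N7694 = N7621 := ded_10_1 L77169 L77162 L77173
theorem L77176 : sm ga N7621 = N7694 := flp_a L77175
theorem L77177 : sm gb N7694 = N7316 := ded_15_1 L74230 L74217 L77173
theorem L77178 : sm gb N7316 = N7694 := flp_b L77177
theorem L77179 : sm gc N7694 = N7620 := ded_19_1 L76599 L74220 L77173
theorem L77180 : sm gc N7620 = N7694 := flp_c L77179
theorem L77181 : sm gf N7694 = N7619 := ded_25_2 L77154 L77155 L77173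
theorem L77182 : sm gf N7619 = N7694 := flp_f L77181
theorem L77183 : sm gg N7314 = N7695 := rfl
theorem L77184 : sm gg N7695 = N7314 := flp_g L77183
theorem L77185 : sm gb N7695 = N7317 := ded_17_1 L74236 L74217 L77183
theorem L77186 : sm gb N7317 = N7695 := flp_b L77185
theorem L77187 : sm gc N7695 = N7622 := ded_21_1 L76607 L74220 L77183
theorem L77188 : sm gc N7622 = N7695 := flp_c L77187
theorem L77189 : sm gf N7695 = N7641 := ded_28_2 L76751 L77154 L77155 L77183
theorem L77190 : sm gf N7641 = N7695 := flp_f L77189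
theorem L77191 : sm gg N7316 = N7696 := rfl
theorem L77192 : sm gg N7696 = N7316 := flp_g L77191
theorem L77193 : sm ga N7696 = N7402 := ded_12_1 L74939 L74232 L77191
theorem L77194 : sm ga N7402 = N7696 := flp_a L77193
theorem L77195 : sm gc N7696 = N7318 := ded_21_1 L74244 L74234 L77191
theorem L77196 : sm gc N7318 = N7696 := flp_c L77195
theorem L77197 : sm ge N7696 = N7317 := ded_26_1 L74236 L74229 L77191
theorem L77198 : sm ge N7317 = N7696 := flp_e L77197
theorem L77199 : sm gf N7643 = N7696 := ded_28_0 L77192 L76484 L76480 L76762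
theorem L77200 : sm gf N7696 = N7643 := flp_f L77199
theorem L77201 : sm gd N7696 = N7629 := ded_24_1 L76673 L73826 L76122 L76129 L77191
theorem L77202 : sm gd N7629 = N7696 := flp_d L77201
theorem L77203 : sm gd N7317 = N7697 := rfl
theorem L77204 : sm gd N7697 = N7317 := flp_d L77203
theorem L77205 : sm ga N7697 = N7403 := ded_9_1 L74949 L74238 L77203
theorem L77206 : sm ga N7403 = N7697 := flp_a L77205
theorem L77207 : sm ge N7697 = N7633 := ded_22_2 L77148 L77143 L77202 L77197 L77203
theorem L77208 : sm ge N7633 = N7697 := flp_e L77207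
theorem L77209 : sm gf N7697 = N7635 := ded_23_2 L76703 L73647 L73662 L74242 L77203
theorem L77210 : sm gf N7635 = N7697 := flp_f L77209
theorem L77211 : sm gg N7697 = N7520 := ded_24_2 L76644 L76641 L74222 L74235 L77203
theorem L77212 : sm gg N7520 = N7697 := flp_g L77211
theorem L77213 : sm gc N7398 = N7697 := ded_30_0 L77204 L74239 L28151 L72503 L28061 L28055 L28071 L72748 L75586 L75575
theorem L77214 : sm gc N7697 = N7398 := flp_c L77213
theorem L77215 : sm gd N7323 = N7698 := rfl
theorem L77216 : sm gd N7698 = N7323 := flp_d L77215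
theorem L77217 : sm ga N7698 = N7595 := ded_9_1 L76371 L74294 L77215
theorem L77218 : sm ga N7595 = N7698 := flp_a L77217
theorem L77219 : sm gb N7698 = N7335 := ded_14_1 L74401 L74298 L77215
theorem L77220 : sm gb N7335 = N7698 := flp_b L77219
theorem L77221 : sm ge N7323 = N7699 := rfl
theorem L77222 : sm ge N7699 = N7323 := flp_e L77221
theorem L77223 : sm ga N7699 = N7594 := ded_10_1 L76369 L74294 L77221
theorem L77224 : sm ga N7594 = N7699 := flp_a L77223
theorem L77225 : sm gb N7699 = N7336 := ded_15_1 L74407 L74298 L77221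
theorem L77226 : sm gb N7336 = N7699 := flp_b L77225
theorem L77227 : sm gc N7699 = N7324 := ded_19_1 L74300 L74291 L77221
theorem L77228 : sm gc N7324 = N7699 := flp_c L77227
theorem L77229 : sm gf N7699 = N7336 := ded_25_2 L74407 L74296 L77221
theorem L77230 : sm gf N7336 = N7699 := flp_f L77229
theorem L77231 : sm gg N7699 = N7626 := ded_26_2 L76975 L76977 L77221
theorem L77232 : sm gg N7626 = N7699 := flp_g L77231
theorem L77233 : sm gd N7699 = N7515 := ded_31_2 L75789 L75792 L75799 L30869 L41108 L72051 L16491 L16484 L65036 L73110 L25901 L25951 L73926 L74410 L77230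
theorem L77234 : sm gd N7515 = N7699 := flp_d L77233
theorem L77235 : sm ge N7534 = N7698 := ded_22_4 L77216 L77221 L77233 L75790 L75924
theorem L77236 : sm ge N7698 = N7534 := flp_e L77235
theorem L77237 : sm gf N7325 = N7700 := rfl
theorem L77238 : sm gf N7700 = N7325 := flp_f L77237
theorem L77239 : sm ga N7700 = N7346 := ded_11_1 L74475 L74312 L77237
theorem L77240 : sm ga N7346 = N7700 := flp_a L77239
theorem L77241 : sm gc N7700 = N7540 := ded_20_1 L75982 L74882 L77237
theorem L77242 : sm gc N7540 = N7700 := flp_c L77241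
theorem L77243 : sm ge N7700 = N7327 := ded_25_1 L74328 L74314 L77237
theorem L77244 : sm ge N7327 = N7700 := flp_e L77243
theorem L77245 : sm gg N7700 = N7685 := ded_28_3 L77085 L76569 L74316 L77237
theorem L77246 : sm gg N7685 = N7700 := flp_g L77245
theorem L77247 : sm gd N7700 = N7346 := ded_23_1 L74475 L28330 L51848 L74309 L77237
theorem L77248 : sm gd N7346 = N7700 := flp_d L77247
theorem L77249 : sm gb N7332 = N7701 := rfl
theorem L77250 : sm gb N7701 = N7332 := flp_b L77249
theorem L77251 : sm gd N7701 = N7527 := ded_14_2 L75883 L74384 L77249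
theorem L77252 : sm gd N7527 = N7701 := flp_d L77251
theorem L77253 : sm gf N7701 = N7594 := ded_16_2 L76365 L74383 L77249
theorem L77254 : sm gf N7594 = N7701 := flp_f L77253
theorem L77255 : sm gc N7701 = N7333 := ded_13_2 L74529 L74524 L28385 L74378 L77249
theorem L77256 : sm gc N7333 = N7701 := flp_c L77255
theorem L77257 : sm ga N7701 = N7336 := ded_7_1 L77226 L77223 L76365 L74294 L74297 L74381 L77249
theorem L77258 : sm ga N7336 = N7701 := flp_a L77257
theorem L77259 : sm ge N7332 = N7701 := ded_25_3 L77253 L76369 L74383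
theorem L77260 : sm ge N7701 = N7332 := flp_e L77259
theorem L77261 : sm gg N7701 = N7667 := ded_28_1 L76952 L76377 L76368 L77254
theorem L77262 : sm gg N7667 = N7701 := flp_g L77261
theorem L77263 : sm gg N7332 = N7702 := rfl
theorem L77264 : sm gg N7702 = N7332 := flp_g L77263
theorem L77265 : sm ga N7702 = N7337 := ded_12_1 L74413 L74381 L77263
theorem L77266 : sm ga N7337 = N7702 := flp_a L77265
theorem L77267 : sm gb N7702 = N7667 := ded_17_1 L77262 L77250 L77263
theorem L77268 : sm gb N7667 = N7702 := flp_b L77267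
theorem L77269 : sm gc N7702 = N7334 := ded_21_1 L74395 L74378 L77263
theorem L77270 : sm gc N7334 = N7702 := flp_c L77269
theorem L77271 : sm ge N7702 = N7667 := ded_26_1 L77262 L77260 L77263
theorem L77272 : sm ge N7667 = N7702 := flp_e L77271
theorem L77273 : sm gd N7702 = N7557 := ded_24_1 L76097 L75808 L75805 L74384 L77263
theorem L77274 : sm gd N7557 = N7702 := flp_d L77273
theorem L77275 : sm ge N7335 = N7703 := rfl
theorem L77276 : sm ge N7703 = N7335 := flp_e L77275
theorem L77277 : sm ga N7703 = N7528 := ded_10_1 L75886 L74403 L77275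
theorem L77278 : sm ga N7528 = N7703 := flp_a L77277
theorem L77279 : sm gb N7703 = N7534 := ded_15_1 L77235 L77219 L77275
theorem L77280 : sm gb N7534 = N7703 := flp_b L77279
theorem L77281 : sm gc N7703 = N7436 := ded_19_1 L75205 L74404 L77275
theorem L77282 : sm gc N7436 = N7703 := flp_c L77281
theorem L77283 : sm gd N7533 = N7703 := ded_14_0 L77279 L75925 L75919
theorem L77284 : sm gd N7703 = N7533 := flp_d L77283
theorem L77285 : sm gd N7336 = N7704 := rfl
theorem L77286 : sm gd N7704 = N7336 := flp_d L77285
theorem L77287 : sm ga N7704 = N7527 := ded_9_1 L77252 L77257 L77285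
theorem L77288 : sm ga N7527 = N7704 := flp_a L77287
theorem L77289 : sm gb N7704 = N7515 := ded_14_1 L77234 L77225 L77285
theorem L77290 : sm gb N7515 = N7704 := flp_b L77289
theorem L77291 : sm ge N7704 = N7533 := ded_22_2 L77283 L77276 L74401 L74406 L77285
theorem L77292 : sm ge N7533 = N7704 := flp_e L77291
theorem L77293 : sm gc N7704 = N7704 := ded_8_0 L77287 L75884 L77288
theorem L77294 : sm gc N7338 = N7705 := rfl
theorem L77295 : sm gc N7705 = N7338 := flp_c L77294
theorem L77296 : sm ge N7705 = N7340 := ded_19_2 L74435 L74423 L77294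
theorem L77297 : sm ge N7340 = N7705 := flp_e L77296
theorem L77298 : sm gg N7705 = N7582 := ded_21_2 L77133 L74425 L77294
theorem L77299 : sm gg N7582 = N7705 := flp_g L77298
theorem L77300 : sm gf N7338 = N7706 := rfl
theorem L77301 : sm gf N7706 = N7338 := flp_f L77300
theorem L77302 : sm gb N7706 = N7346 := ded_16_1 L74475 L74421 L77300
theorem L77303 : sm gb N7346 = N7706 := flp_b L77302
theorem L77304 : sm ge N7706 = N7341 := ded_25_1 L74437 L74423 L77300
theorem L77305 : sm ge N7341 = N7706 := flp_e L77304
theorem L77306 : sm gc N7339 = N7707 := rfl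
theorem L77307 : sm gc N7707 = N7339 := flp_c L77306
theorem L77308 : sm ge N7707 = N7670 := ded_19_2 L76979 L74431 L77306
theorem L77309 : sm ge N7670 = N7707 := flp_e L77308
theorem L77310 : sm gg N7707 = N7343 := ded_21_2 L74451 L74433 L77306
theorem L77311 : sm gg N7343 = N7707 := flp_g L77310
theorem L77312 : sm gg N7340 = N7708 := rfl
theorem L77313 : sm gg N7708 = N7340 := flp_g L77312
theorem L77314 : sm ga N7708 = N7378 := ded_12_1 L74739 L74603 L77312
theorem L77315 : sm ga N7378 = N7708 := flp_a L77314
theorem L77316 : sm gc N7708 = N7342 := ded_21_1 L74441 L74434 L77312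
theorem L77317 : sm gc N7342 = N7708 := flp_c L77316
theorem L77318 : sm ge N7708 = N7582 := ded_26_1 L77299 L77296 L77312
theorem L77319 : sm ge N7582 = N7708 := flp_e L77318
theorem L77320 : sm gd N7580 = N7708 := ded_9_0 L77314 L75932 L76271
theorem L77321 : sm gd N7708 = N7580 := flp_d L77320
theorem L77322 : sm gf N7342 = N7709 := rfl
theorem L77323 : sm gf N7709 = N7342 := flp_f L77322
theorem L77324 : sm ga N7709 = N7387 := ded_11_1 L74798 L74443 L77322
theorem L77325 : sm ga N7387 = N7709 := flp_a L77324
theorem L77326 : sm gb N7709 = N7350 := ded_16_1 L74502 L74445 L77322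
theorem L77327 : sm gb N7350 = N7709 := flp_b L77326
theorem L77328 : sm ge N7709 = N7652 := ded_25_1 L76826 L74447 L77322
theorem L77329 : sm ge N7652 = N7709 := flp_e L77328
theorem L77330 : sm gg N7709 = N7706 := ded_28_3 L77304 L74437 L74440 L77322
theorem L77331 : sm gg N7706 = N7709 := flp_g L77330
theorem L77332 : sm gb N7343 = N7710 := rfl
theorem L77333 : sm gb N7710 = N7343 := flp_b L77332
theorem L77334 : sm gf N7710 = N7588 := ded_16_2 L76325 L74453 L77332
theorem L77335 : sm gf N7588 = N7710 := flp_f L77334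
theorem L77336 : sm gc N7710 = N7351 := ded_13_2 L74508 L28374 L28328 L74450 L77332
theorem L77337 : sm gc N7351 = N7710 := flp_c L77336
theorem L77338 : sm ga N7351 = N7680 := ded_29_3 L77050 L74011 L73555 L73556 L75735 L76395 L76392 L77332 L77336
theorem L77339 : sm ga N7680 = N7351 := flp_a L77338
theorem L77340 : sm gd N7343 = N7711 := rfl
theorem L77341 : sm gd N7711 = N7343 := flp_d L77340
theorem L77342 : sm ga N7711 = N7503 := ded_9_1 L76398 L76392 L77340
theorem L77343 : sm ga N7503 = N7711 := flp_a L77342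
theorem L77344 : sm ge N7711 = N7429 := ded_22_2 L75158 L75146 L75774 L75780 L77340
theorem L77345 : sm ge N7429 = N7711 := flp_e L77344
theorem L77346 : sm gf N7711 = N7424 := ded_23_2 L75113 L75118 L75127 L74453 L77340
theorem L77347 : sm gf N7424 = N7711 := flp_f L77346
theorem L77348 : sm gb N7347 = N7712 := rfl
theorem L77349 : sm gb N7712 = N7347 := flp_b L77348
theorem L77350 : sm gd N7712 = N7673 := ded_14_2 L77002 L74486 L77348
theorem L77351 : sm gd N7673 = N7712 := flp_d L77350
theorem L77352 : sm ge N7712 = N7671 := ded_15_2 L76987 L74481 L77348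
theorem L77353 : sm ge N7671 = N7712 := flp_e L77352
theorem L77354 : sm gf N7712 = N7674 := ded_16_2 L77010 L74483 L77348
theorem L77355 : sm gf N7674 = N7712 := flp_f L77354
theorem L77356 : sm gg N7712 = N7351 := ded_17_2 L74508 L74485 L77348
theorem L77357 : sm gg N7351 = N7712 := flp_g L77356
theorem L77358 : sm ga N7674 = N7712 := ded_9_3 L77350 L77001 L77008
theorem L77359 : sm ga N7712 = N7674 := flp_a L77358
theorem L77360 : sm ge N7351 = N7713 := rfl
theorem L77361 : sm ge N7713 = N7351 := flp_e L77360
theorem L77362 : sm gb N7713 = N7352 := ded_15_1 L74510 L74507 L77360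
theorem L77363 : sm gb N7352 = N7713 := flp_b L77362
theorem L77364 : sm gg N7713 = N7671 := ded_26_2 L77353 L77356 L77360
theorem L77365 : sm gg N7671 = N7713 := flp_g L77364
theorem L77366 : sm gf N7713 = N7680 := ded_28_0 L77051 L77355 L77356 L77360
theorem L77367 : sm gf N7680 = N7713 := flp_f L77366
theorem L77368 : sm gf N7351 = N7714 := rfl
theorem L77369 : sm gf N7714 = N7351 := flp_f L77368
theorem L77370 : sm ga N7714 = N7713 := ded_11_1 L77366 L77339 L77368
theorem L77371 : sm ga N7713 = N7714 := flp_a L77370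
theorem L77372 : sm gb N7714 = N7353 := ded_16_1 L74518 L74507 L77368
theorem L77373 : sm gb N7353 = N7714 := flp_b L77372
theorem L77374 : sm gc N7714 = N7588 := ded_20_1 L77335 L77336 L77368
theorem L77375 : sm gc N7588 = N7714 := flp_c L77374
theorem L77376 : sm ge N7714 = N7680 := ded_25_1 L77367 L77361 L77368
theorem L77377 : sm ge N7680 = N7714 := flp_e L77376
theorem L77378 : sm gd N7352 = N7715 := rfl
theorem L77379 : sm gd N7715 = N7352 := flp_d L77378
theorem L77380 : sm ge N7715 = N7485 := ded_22_2 L75569 L73916 L73912 L74509 L77378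
theorem L77381 : sm ge N7485 = N7715 := flp_e L77380
theorem L77382 : sm gf N7715 = N7654 := ded_23_2 L76837 L74945 L74946 L74516 L77378
theorem L77383 : sm gf N7654 = N7715 := flp_f L77382
theorem L77384 : sm gc N7360 = N7715 := ded_30_0 L77379 L74511 L72677 L66097 L42152 L71608 L28104 L72783 L75824 L75826
theorem L77385 : sm gc N7715 = N7360 := flp_c L77384
theorem L77386 : sm gd N7353 = N7716 := rfl
theorem L77387 : sm gd N7716 = N7353 := flp_d L77386
theorem L77388 : sm ga N7716 = N7633 := ded_9_1 L77148 L77139 L77386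
theorem L77389 : sm ga N7633 = N7716 := flp_a L77388
theorem L77390 : sm ge N7716 = N7403 := ded_22_2 L74949 L74943 L74946 L74522 L77386
theorem L77391 : sm ge N7403 = N7716 := flp_e L77390
theorem L77392 : sm gf N7716 = N7385 := ded_23_2 L74787 L73910 L73912 L74517 L77386
theorem L77393 : sm gf N7385 = N7716 := flp_f L77392
theorem L77394 : sm gg N7716 = N7715 := ded_24_2 L77379 L74513 L76988 L76999 L77386
theorem L77395 : sm gg N7715 = N7716 := flp_g L77394
theorem L77396 : sm gc N7384 = N7716 := ded_30_0 L77387 L74519 L71694 L71697 L27931 L72750 L28735 L25672 L73617 L74773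
theorem L77397 : sm gc N7716 = N7384 := flp_c L77396
theorem L77398 : sm gd N7356 = N7717 := rfl
theorem L77399 : sm gd N7717 = N7356 := flp_d L77398
theorem L77400 : sm ga N7717 = N7687 := ded_9_1 L77103 L74552 L77398
theorem L77401 : sm ga N7687 = N7717 := flp_a L77400
theorem L77402 : sm gb N7717 = N7632 := ded_14_1 L76692 L74558 L77398
theorem L77403 : sm gb N7632 = N7717 := flp_b L77402
theorem L77404 : sm ge N7717 = N7687 := ded_22_2 L77103 L74083 L74351 L74554 L77398
theorem L77405 : sm ge N7687 = N7717 := flp_e L77404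
theorem L77406 : sm gf N7717 = N7687 := ded_23_2 L77103 L74349 L74350 L74556 L77398
theorem L77407 : sm gf N7687 = N7717 := flp_f L77406
theorem L77408 : sm gg N7717 = N7676 := ded_24_2 L77025 L74003 L76301 L76304 L77398
theorem L77409 : sm gg N7676 = N7717 := flp_g L77408
theorem L77410 : sm gc N7717 = N7717 := ded_30_0 L77399 L74550 L28400 L71507 L53012 L71727 L27925 L74081 L77102 L77401
theorem L77411 : sm gd N7358 = N7718 := rfl
theorem L77412 : sm gd N7718 = N7358 := flp_d L77411
theorem L77413 : sm ge N7718 = N7636 := ded_22_2 L76709 L76163 L77117 L77113 L77411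
theorem L77414 : sm ge N7636 = N7718 := flp_e L77413
theorem L77415 : sm gc N7637 = N7718 := ded_30_0 L77412 L74567 L28464 L74600 L76838 L76835 L76728 L76721 L77048 L77041
theorem L77416 : sm gc N7718 = N7637 := flp_c L77415
theorem L77417 : sm gf N7683 = N7718 := ded_31_1 L77412 L74567 L28422 L28408 L28400 L71507 L17119 L42350 L71999 L13291 L25210 L25220 L73560 L76675 L77066
theorem L77418 : sm gf N7718 = N7683 := flp_f L77417
theorem L77419 : sm gg N7361 = N7719 := rfl
theorem L77420 : sm gg N7719 = N7361 := flp_g L77419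
theorem L77421 : sm ga N7719 = N7665 := ded_12_1 L76929 L74595 L77419
theorem L77422 : sm ga N7665 = N7719 := flp_a L77421
theorem L77423 : sm gb N7719 = N7362 := ded_17_1 L74598 L74587 L77419
theorem L77424 : sm gb N7362 = N7719 := flp_b L77423
theorem L77425 : sm gc N7719 = N7401 := ded_21_1 L74935 L74594 L77419
theorem L77426 : sm gc N7401 = N7719 := flp_c L77425
theorem L77427 : sm ge N7719 = N7663 := ded_26_1 L76911 L74590 L77419
theorem L77428 : sm ge N7663 = N7719 := flp_e L77427
theorem L77429 : sm gd N7363 = N7720 := rfl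
theorem L77430 : sm gd N7720 = N7363 := flp_d L77429
theorem L77431 : sm ga N7720 = N7529 := ded_9_1 L75895 L74604 L77429
theorem L77432 : sm ga N7529 = N7720 := flp_a L77431
theorem L77433 : sm gc N7437 = N7720 := ded_30_0 L77430 L74602 L28466 L15315 L52951 L8265 L8274 L16572 L30998 L75217
theorem L77434 : sm gc N7720 = N7437 := flp_c L77433
theorem L77435 : sm ge N7720 = N7529 := ded_19_2 L75894 L75221 L77433
theorem L77436 : sm ge N7529 = N7720 := flp_e L77435
theorem L77437 : sm ge N7363 = N7721 := rfl
theorem L77438 : sm ge N7721 = N7363 := flp_e L77437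
theorem L77439 : sm ga N7721 = N7705 := ded_10_1 L77296 L74604 L77437
theorem L77440 : sm ga N7705 = N7721 := flp_a L77439
theorem L77441 : sm gb N7721 = N7602 := ded_15_1 L76426 L74754 L77437
theorem L77442 : sm gb N7602 = N7721 := flp_b L77441
theorem L77443 : sm gc N7721 = N7364 := ded_19_1 L74606 L74601 L77437
theorem L77444 : sm gc N7364 = N7721 := flp_c L77443
theorem L77445 : sm gd N7721 = N7705 := ded_22_1 L77296 L75896 L77436 L77430 L77437
theorem L77446 : sm gd N7705 = N7721 := flp_d L77445
theorem L77447 : sm gf N7600 = N7721 := ded_16_0 L77441 L76421 L76410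
theorem L77448 : sm gf N7721 = N7600 := flp_f L77447
theorem L77449 : sm gf N7363 = N7722 := rfl
theorem L77450 : sm gf N7722 = N7363 := flp_f L77449
theorem L77451 : sm ga N7722 = N7443 := ded_11_1 L75265 L74604 L77449
theorem L77452 : sm ga N7443 = N7722 := flp_a L77451
theorem L77453 : sm gb N7722 = N7601 := ded_16_1 L76418 L74754 L77449
theorem L77454 : sm gb N7601 = N7722 := flp_b L77453
theorem L77455 : sm gc N7722 = N7365 := ded_20_1 L74614 L74601 L77449
theorem L77456 : sm gc N7365 = N7722 := flp_c L77455
theorem L77457 : sm ge N7722 = N7600 := ded_25_1 L77447 L77438 L77449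
theorem L77458 : sm ge N7600 = N7722 := flp_e L77457
theorem L77459 : sm gd N7722 = N7547 := ded_31_2 L76026 L75056 L75049 L75053 L64518 L16476 L30817 L30814 L72065 L72013 L30848 L72374 L74737 L74739 L77449
theorem L77460 : sm gd N7547 = N7722 := flp_d L77459
theorem L77461 : sm gg N7552 = N7722 := ded_24_0 L77459 L76023 L31082 L31095 L76058
theorem L77462 : sm gg N7722 = N7552 := flp_g L77461
theorem L77463 : sm gf N7364 = N7723 := rfl
theorem L77464 : sm gf N7723 = N7364 := flp_f L77463
theorem L77465 : sm ga N7723 = N7706 := ded_11_1 L77301 L74608 L77463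
theorem L77466 : sm ga N7706 = N7723 := flp_a L77465
theorem L77467 : sm gb N7723 = N7366 := ded_16_1 L74620 L74610 L77463
theorem L77468 : sm gb N7366 = N7723 := flp_b L77467
theorem L77469 : sm gc N7723 = N7600 := ded_20_1 L77447 L77443 L77463
theorem L77470 : sm gc N7600 = N7723 := flp_c L77469
theorem L77471 : sm ge N7723 = N7365 := ded_25_1 L74614 L74605 L77463
theorem L77472 : sm ge N7365 = N7723 := flp_e L77471
theorem L77473 : sm gg N7387 = N7723 := ded_28_1 L77464 L74815 L74809 L74799
theorem L77474 : sm gg N7723 = N7387 := flp_g L77473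
theorem L77475 : sm gd N7723 = N7539 := ded_23_1 L75973 L32610 L74391 L74612 L77463
theorem L77476 : sm gd N7539 = N7723 := flp_d L77475
theorem L77477 : sm gg N7365 = N7724 := rfl
theorem L77478 : sm gg N7724 = N7365 := flp_g L77477
theorem L77479 : sm ga N7724 = N7652 := ded_12_1 L76830 L74616 L77477
theorem L77480 : sm ga N7652 = N7724 := flp_a L77479
theorem L77481 : sm gb N7724 = N7368 := ded_17_1 L74643 L74618 L77477
theorem L77482 : sm gb N7368 = N7724 := flp_b L77481
theorem L77483 : sm gc N7724 = N7552 := ded_21_1 L77461 L77455 L77477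
theorem L77484 : sm gc N7552 = N7724 := flp_c L77483
theorem L77485 : sm ge N7724 = N7387 := ded_26_1 L77473 L77471 L77477
theorem L77486 : sm ge N7387 = N7724 := flp_e L77485
theorem L77487 : sm gf N7389 = N7724 := ded_28_0 L77478 L74614 L72376 L74808
theorem L77488 : sm gf N7724 = N7389 := flp_f L77487
theorem L77489 : sm gd N7724 = N7652 := ded_24_1 L76830 L76323 L76361 L76362 L77477
theorem L77490 : sm gd N7652 = N7724 := flp_d L77489
theorem L77491 : sm gd N7370 = N7725 := rfl
theorem L77492 : sm gd N7725 = N7370 := flp_d L77491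
theorem L77493 : sm ga N7725 = N7379 := ded_9_1 L74741 L74669 L77491
theorem L77494 : sm ga N7379 = N7725 := flp_a L77493
theorem L77495 : sm gb N7725 = N7708 := ded_14_1 L77321 L76272 L77491
theorem L77496 : sm gb N7708 = N7725 := flp_b L77495
theorem L77497 : sm ge N7725 = N7689 := ded_22_2 L77127 L76257 L76244 L76255 L77491
theorem L77498 : sm ge N7689 = N7725 := flp_e L77497
theorem L77499 : sm gc N7449 = N7725 := ded_30_0 L77492 L74667 L28538 L71988 L8631 L8613 L17260 L32543 L73028 L75307
theorem L77500 : sm gc N7725 = N7449 := flp_c L77499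
theorem L77501 : sm gg N7445 = N7725 := ded_12_0 L77493 L74746 L75275
theorem L77502 : sm gg N7725 = N7445 := flp_g L77501
theorem L77503 : sm gg N7370 = N7726 := rfl
theorem L77504 : sm gg N7726 = N7370 := flp_g L77503
theorem L77505 : sm ga N7726 = N7381 := ded_12_1 L74753 L74669 L77503
theorem L77506 : sm ga N7381 = N7726 := flp_a L77505
theorem L77507 : sm gc N7726 = N7372 := ded_21_1 L74679 L74666 L77503
theorem L77508 : sm gc N7372 = N7726 := flp_c L77507
theorem L77509 : sm ge N7726 = N7556 := ded_26_1 L76251 L76255 L77503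
theorem L77510 : sm ge N7556 = N7726 := flp_e L77509
theorem L77511 : sm gf N7553 = N7726 := ded_28_0 L77504 L76102 L76097 L76063
theorem L77512 : sm gf N7726 = N7553 := flp_f L77511
theorem L77513 : sm gd N7373 = N7727 := rfl
theorem L77514 : sm gd N7727 = N7373 := flp_d L77513
theorem L77515 : sm ga N7727 = N7383 := ded_9_1 L74769 L74691 L77513
theorem L77516 : sm ga N7383 = N7727 := flp_a L77515
theorem L77517 : sm gb N7727 = N7718 := ded_14_1 L77412 L74697 L77513
theorem L77518 : sm gb N7718 = N7727 := flp_b L77517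
theorem L77519 : sm ge N7727 = N7573 := ded_22_2 L76208 L31240 L75431 L75426 L77513
theorem L77520 : sm ge N7573 = N7727 := flp_e L77519
theorem L77521 : sm gg N7727 = N7383 := ded_24_2 L74769 L74729 L74732 L74695 L77513
theorem L77522 : sm gg N7383 = N7727 := flp_g L77521
theorem L77523 : sm gc N7374 = N7728 := rfl
theorem L77524 : sm gc N7728 = N7374 := flp_c L77523
theorem L77525 : sm ga N7728 = N7525 := ded_8_1 L75868 L74701 L77523
theorem L77526 : sm ga N7525 = N7728 := flp_a L77525
theorem L77527 : sm gf N7728 = N7435 := ded_20_2 L75201 L74705 L77523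
theorem L77528 : sm gf N7435 = N7728 := flp_f L77527
theorem L77529 : sm gg N7728 = N7489 := ded_21_2 L75601 L74707 L77523
theorem L77530 : sm gg N7489 = N7728 := flp_g L77529
theorem L77531 : sm gd N7707 = N7728 := ded_30_1 L77524 L74699 L72802 L73130 L76101 L77274 L77269 L76409 L76402 L77306
theorem L77532 : sm gd N7728 = N7707 := flp_d L77531
theorem L77533 : sm gb N7375 = N7729 := rfl
theorem L77534 : sm gb N7729 = N7375 := flp_b L77533
theorem L77535 : sm gd N7729 = N7669 := ded_14_2 L76970 L75022 L77533
theorem L77536 : sm gd N7669 = N7729 := flp_d L77535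
theorem L77537 : sm gf N7729 = N7378 := ded_16_2 L74735 L74711 L77533
theorem L77538 : sm gf N7378 = N7729 := flp_f L77537
theorem L77539 : sm gg N7729 = N7600 := ded_17_2 L76411 L74713 L77533
theorem L77540 : sm gg N7600 = N7729 := flp_g L77539
theorem L77541 : sm gc N7729 = N7387 := ded_13_2 L74797 L28695 L28608 L74708 L77533
theorem L77542 : sm gc N7387 = N7729 := flp_c L77541
theorem L77543 : sm ge N7552 = N7729 := ded_22_0 L77535 L76974 L76652 L76052 L76058
theorem L77544 : sm ge N7729 = N7552 := flp_e L77543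
theorem L77545 : sm ge N7375 = N7730 := rfl
theorem L77546 : sm ge N7730 = N7375 := flp_e L77545
theorem L77547 : sm gb N7730 = N7552 := ded_15_1 L77543 L77534 L77545
theorem L77548 : sm gb N7552 = N7730 := flp_b L77547
theorem L77549 : sm gc N7730 = N7376 := ded_19_1 L74715 L74708 L77545
theorem L77550 : sm gc N7376 = N7730 := flp_c L77549
theorem L77551 : sm gf N7730 = N7380 := ded_25_2 L74749 L74711 L77545
theorem L77552 : sm gf N7380 = N7730 := flp_f L77551
theorem L77553 : sm gg N7730 = N7601 := ded_26_2 L76413 L74713 L77545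
theorem L77554 : sm gg N7601 = N7730 := flp_g L77553
theorem L77555 : sm gd N7730 = N7536 := ded_22_1 L76958 L76955 L74417 L75022 L77545
theorem L77556 : sm gd N7536 = N7730 := flp_d L77555
theorem L77557 : sm ge N7378 = N7731 := rfl
theorem L77558 : sm ge N7731 = N7378 := flp_e L77557
theorem L77559 : sm ga N7731 = N7582 := ded_10_1 L77319 L77314 L77557
theorem L77560 : sm ga N7582 = N7731 := flp_a L77559
theorem L77561 : sm gb N7731 = N7380 := ded_15_1 L74749 L74734 L77557
theorem L77562 : sm gb N7380 = N7731 := flp_b L77561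
theorem L77563 : sm gc N7731 = N7389 := ded_19_1 L74809 L74737 L77557
theorem L77564 : sm gc N7389 = N7731 := flp_c L77563
theorem L77565 : sm gf N7731 = N7552 := ded_25_2 L77543 L77537 L77557
theorem L77566 : sm gf N7552 = N7731 := flp_f L77565
theorem L77567 : sm gg N7731 = N7721 := ded_26_2 L77438 L74738 L77557
theorem L77568 : sm gg N7721 = N7731 := flp_g L77567
theorem L77569 : sm gd N7731 = N7460 := ded_22_1 L75401 L31014 L75926 L75933 L77557
theorem L77570 : sm gd N7460 = N7731 := flp_d L77569
theorem L77571 : sm gd N7381 = N7732 := rfl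
theorem L77572 : sm gd N7732 = N7381 := flp_d L77571
theorem L77573 : sm gb N7732 = N7720 := ded_14_1 L77430 L74755 L77571
theorem L77574 : sm gb N7720 = N7732 := flp_b L77573
theorem L77575 : sm gg N7732 = N7551 := ded_24_2 L76057 L74747 L74741 L74752 L77571
theorem L77576 : sm gg N7551 = N7732 := flp_g L77575
theorem L77577 : sm gd N7382 = N7733 := rfl
theorem L77578 : sm gd N7733 = N7382 := flp_d L77577
theorem L77579 : sm ga N7733 = N7718 := ded_9_1 L77412 L74766 L77577
theorem L77580 : sm ga N7718 = N7733 := flp_a L77579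
theorem L77581 : sm gb N7733 = N7383 := ded_14_1 L74769 L74758 L77577
theorem L77582 : sm gb N7383 = N7733 := flp_b L77581
theorem L77583 : sm ge N7733 = N7648 := ded_22_2 L76797 L74001 L76301 L76302 L77577
theorem L77584 : sm ge N7648 = N7733 := flp_e L77583
theorem L77585 : sm gf N7733 = N7678 := ded_23_2 L77067 L77417 L77412 L74761 L77577
theorem L77586 : sm gf N7678 = N7733 := flp_f L77585
theorem L77587 : sm gg N7733 = N7718 := ded_24_2 L77412 L74566 L74351 L74763 L77577
theorem L77588 : sm gg N7718 = N7733 := flp_g L77587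
theorem L77589 : sm gc N7733 = N7679 := ded_30_4 L77047 L76722 L76727 L76836 L76837 L76765 L76766 L74215 L74765 L77577
theorem L77590 : sm gc N7679 = N7733 := flp_c L77589
theorem L77591 : sm gc N7383 = N7734 := rfl
theorem L77592 : sm gc N7734 = N7383 := flp_c L77591
theorem L77593 : sm ge N7383 = N7735 := rfl
theorem L77594 : sm ge N7735 = N7383 := flp_e L77593
theorem L77595 : sm ga N7735 = N7573 := ded_10_1 L77520 L77515 L77593
theorem L77596 : sm ga N7573 = N7735 := flp_a L77595
theorem L77597 : sm gb N7735 = N7648 := ded_15_1 L77584 L77581 L77593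
theorem L77598 : sm gb N7648 = N7735 := flp_b L77597
theorem L77599 : sm gg N7735 = N7573 := ded_26_2 L77520 L77521 L77593
theorem L77600 : sm gg N7573 = N7735 := flp_g L77599
theorem L77601 : sm gd N7735 = N7456 := ded_22_1 L75377 L75381 L72357 L74768 L77593
theorem L77602 : sm gd N7456 = N7735 := flp_d L77601
theorem L77603 : sm gf N7383 = N7736 := rfl
theorem L77604 : sm gf N7736 = N7383 := flp_f L77603
theorem L77605 : sm gb N7736 = N7678 := ded_16_1 L77586 L77581 L77603
theorem L77606 : sm gb N7678 = N7736 := flp_b L77605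
theorem L77607 : sm gg N7681 = N7736 := ded_28_1 L77604 L77522 L77519 L77056
theorem L77608 : sm gg N7736 = N7681 := flp_g L77607
theorem L77609 : sm gb N7385 = N7737 := rfl
theorem L77610 : sm gb N7737 = N7385 := flp_b L77609
theorem L77611 : sm gd N7737 = N7665 := ded_14_2 L76930 L74786 L77609
theorem L77612 : sm gd N7665 = N7737 := flp_d L77611
theorem L77613 : sm gg N7737 = N7653 := ded_17_2 L76832 L74785 L77609
theorem L77614 : sm gg N7653 = N7737 := flp_g L77613
theorem L77615 : sm ge N7385 = N7738 := rfl
theorem L77616 : sm ge N7738 = N7385 := flp_e L77615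
theorem L77617 : sm ga N7738 = N7635 := ded_10_1 L76700 L74783 L77615
theorem L77618 : sm ga N7635 = N7738 := flp_a L77617
theorem L77619 : sm gc N7738 = N7386 := ded_19_1 L74789 L74780 L77615
theorem L77620 : sm gc N7386 = N7738 := flp_c L77619
theorem L77621 : sm gf N7738 = N7403 := ded_25_2 L77391 L77392 L77615
theorem L77622 : sm gf N7403 = N7738 := flp_f L77621
theorem L77623 : sm gg N7738 = N7654 := ded_26_2 L76834 L74785 L77615
theorem L77624 : sm gg N7654 = N7738 := flp_g L77623
theorem L77625 : sm gd N7738 = N7606 := ded_22_1 L76462 L73808 L73905 L74786 L77615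
theorem L77626 : sm gd N7606 = N7738 := flp_d L77625
theorem L77627 : sm gd N7387 = N7739 := rfl
theorem L77628 : sm gd N7739 = N7387 := flp_d L77627
theorem L77629 : sm gb N7739 = N7388 := ded_14_1 L74801 L74796 L77627
theorem L77630 : sm gb N7388 = N7739 := flp_b L77629
theorem L77631 : sm gf N7739 = N7514 := ded_23_2 L75783 L30848 L72374 L74799 L77627
theorem L77632 : sm gf N7514 = N7739 := flp_f L77631
theorem L77633 : sm gg N7739 = N7530 := ded_24_2 L75901 L75964 L77476 L77474 L77627
theorem L77634 : sm gg N7530 = N7739 := flp_g L77633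
theorem L77635 : sm gb N7391 = N7740 := rfl
theorem L77636 : sm gb N7740 = N7391 := flp_b L77635
theorem L77637 : sm gd N7740 = N7690 := ded_14_2 L77136 L74835 L77635
theorem L77638 : sm gd N7690 = N7740 := flp_d L77637
theorem L77639 : sm gg N7740 = N7621 := ded_17_2 L76604 L74833 L77635
theorem L77640 : sm gg N7621 = N7740 := flp_g L77639
theorem L77641 : sm ge N7394 = N7741 := rfl
theorem L77642 : sm ge N7741 = N7394 := flp_e L77641
theorem L77643 : sm ga N7741 = N7638 := ded_10_1 L76718 L74857 L77641
theorem L77644 : sm ga N7638 = N7741 := flp_a L77643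
theorem L77645 : sm gb N7741 = N7554 := ded_15_1 L76072 L74859 L77641
theorem L77646 : sm gb N7554 = N7741 := flp_b L77645
theorem L77647 : sm gc N7741 = N7685 := ded_19_1 L77085 L76572 L77641
theorem L77648 : sm gc N7685 = N7741 := flp_c L77647
theorem L77649 : sm gf N7741 = N7395 := ded_25_2 L74865 L74861 L77641
theorem L77650 : sm gf N7395 = N7741 := flp_f L77649
theorem L77651 : sm gg N7741 = N7540 := ded_26_2 L75980 L74863 L77641
theorem L77652 : sm gg N7540 = N7741 := flp_g L77651
theorem L77653 : sm gd N7741 = N7605 := ded_22_1 L76449 L73213 L65672 L74854 L77641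
theorem L77654 : sm gd N7605 = N7741 := flp_d L77653
theorem L77655 : sm gg N7400 = N7742 := rfl
theorem L77656 : sm gg N7742 = N7400 := flp_g L77655
theorem L77657 : sm ga N7742 = N7664 := ded_12_1 L76921 L74927 L77655
theorem L77658 : sm ga N7664 = N7742 := flp_a L77657
theorem L77659 : sm gb N7742 = N7402 := ded_17_1 L74939 L74929 L77655
theorem L77660 : sm gb N7402 = N7742 := flp_b L77659
theorem L77661 : sm gc N7742 = N7663 := ded_21_1 L76911 L74931 L77655
theorem L77662 : sm gc N7663 = N7742 := flp_c L77661
theorem L77663 : sm ge N7742 = N7401 := ded_26_1 L74935 L74924 L77655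
theorem L77664 : sm ge N7401 = N7742 := flp_e L77663
theorem L77665 : sm gf N7719 = N7742 := ded_28_0 L77656 L74932 L76910 L77428
theorem L77666 : sm gf N7742 = N7719 := flp_f L77665
theorem L77667 : sm gd N7742 = N7680 := ded_24_1 L77051 L77009 L77012 L77023 L77655
theorem L77668 : sm gd N7680 = N7742 := flp_d L77667
theorem L77669 : sm gd N7401 = N7743 := rfl
theorem L77670 : sm gd N7743 = N7401 := flp_d L77669
theorem L77671 : sm gb N7743 = N7403 := ded_14_1 L74949 L74937 L77669
theorem L77672 : sm gb N7403 = N7743 := flp_b L77671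
theorem L77673 : sm gf N7410 = N7744 := rfl
theorem L77674 : sm gf N7744 = N7410 := flp_f L77673
theorem L77675 : sm gb N7744 = N7744 := ded_16_1 L77674 L75025 L77673
theorem L77676 : sm gc N7411 = N7745 := rfl
theorem L77677 : sm gc N7745 = N7411 := flp_c L77676
theorem L77678 : sm ga N7745 = N7677 := ded_8_1 L77032 L75030 L77676
theorem L77679 : sm ga N7677 = N7745 := flp_a L77678
theorem L77680 : sm ge N7745 = N7677 := ded_19_2 L77032 L75033 L77676
theorem L77681 : sm ge N7677 = N7745 := flp_e L77680
theorem L77682 : sm gg N7745 = N7745 := ded_21_2 L77677 L75034 L77676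
theorem L77683 : sm gd N7745 = N7563 := ded_30_9 L76140 L73990 L73698 L72708 L15623 L15615 L28801 L29104 L75027 L77676
theorem L77684 : sm gd N7563 = N7745 := flp_d L77683
theorem L77685 : sm gf N7745 = N7682 := ded_31_5 L77058 L74015 L74009 L77039 L77047 L76722 L76725 L74824 L74473 L29074 L29095 L29107 L75027 L77676 L77682
theorem L77686 : sm gf N7682 = N7745 := flp_f L77685
theorem L77687 : sm gb N7572 = N7745 := ded_14_3 L77683 L76142 L76203
theorem L77688 : sm gb N7745 = N7572 := flp_b L77687
theorem L77689 : sm gf N7411 = N7746 := rfl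
theorem L77690 : sm gf N7746 = N7411 := flp_f L77689
theorem L77691 : sm ga N7746 = N7744 := ded_11_1 L77674 L75030 L77689
theorem L77692 : sm ga N7744 = N7746 := flp_a L77691
theorem L77693 : sm gb N7746 = N7746 := ded_16_1 L77690 L75031 L77689
theorem L77694 : sm gc N7746 = N7682 := ded_20_1 L77686 L77677 L77689
theorem L77695 : sm gc N7682 = N7746 := flp_c L77694
theorem L77696 : sm ge N7746 = N7744 := ded_25_1 L77674 L75033 L77689
theorem L77697 : sm ge N7744 = N7746 := flp_e L77696
theorem L77698 : sm gg N7746 = N7744 := ded_28_3 L77697 L77690 L75034 L77689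
theorem L77699 : sm gg N7744 = N7746 := flp_g L77698
theorem L77700 : sm gd N7746 = N7744 := ded_23_1 L77674 L75024 L29107 L75027 L77689
theorem L77701 : sm gd N7744 = N7746 := flp_d L77700
theorem L77702 : sm gc N7412 = N7747 := rfl
theorem L77703 : sm gc N7747 = N7412 := flp_c L77702
theorem L77704 : sm ge N7412 = N7748 := rfl
theorem L77705 : sm ge N7748 = N7412 := flp_e L77704
theorem L77706 : sm gb N7748 = N7414 := ded_15_1 L75046 L75038 L77704
theorem L77707 : sm gb N7414 = N7748 := flp_b L77706
theorem L77708 : sm gf N7412 = N7749 := rfl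
theorem L77709 : sm gf N7749 = N7412 := flp_f L77708
theorem L77710 : sm gb N7749 = N7415 := ded_16_1 L75050 L75038 L77708
theorem L77711 : sm gb N7415 = N7749 := flp_b L77710
theorem L77712 : sm gd N7749 = N7421 := ded_23_1 L75090 L29219 L29167 L75035 L77708
theorem L77713 : sm gd N7421 = N7749 := flp_d L77712
theorem L77714 : sm gg N7412 = N7750 := rfl
theorem L77715 : sm gg N7750 = N7412 := flp_g L77714
theorem L77716 : sm gb N7750 = N7416 := ded_17_1 L75056 L75038 L77714
theorem L77717 : sm gb N7416 = N7750 := flp_b L77716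
theorem L77718 : sm gd N7413 = N7751 := rfl
theorem L77719 : sm gd N7751 = N7413 := flp_d L77718
theorem L77720 : sm ga N7751 = N7645 := ded_9_1 L76783 L75102 L77718
theorem L77721 : sm ga N7645 = N7751 := flp_a L77720
theorem L77722 : sm gb N7751 = N7417 := ded_14_1 L75060 L75042 L77718
theorem L77723 : sm gb N7417 = N7751 := flp_b L77722
theorem L77724 : sm ge N7751 = N7645 := ded_22_2 L76783 L75108 L75083 L75078 L77718
theorem L77725 : sm ge N7645 = N7751 := flp_e L77724
theorem L77726 : sm gc N7644 = N7751 := ded_30_0 L77719 L75043 L75083 L75107 L76782 L76779 L73678 L72800 L73677 L76773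
theorem L77727 : sm gc N7751 = N7644 := flp_c L77726
theorem L77728 : sm gf N7414 = N7752 := rfl
theorem L77729 : sm gf N7752 = N7414 := flp_f L77728
theorem L77730 : sm ga N7752 = N7480 := ded_11_1 L75538 L75048 L77728
theorem L77731 : sm ga N7480 = N7752 := flp_a L77730
theorem L77732 : sm ge N7752 = N7415 := ded_25_1 L75050 L75045 L77728
theorem L77733 : sm ge N7415 = N7752 := flp_e L77732
theorem L77734 : sm gd N7752 = N7574 := ded_23_1 L76213 L75775 L75137 L75139 L77728
theorem L77735 : sm gd N7574 = N7752 := flp_d L77734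
theorem L77736 : sm gg N7414 = N7753 := rfl
theorem L77737 : sm gg N7753 = N7414 := flp_g L77736
theorem L77738 : sm ga N7753 = N7481 := ded_12_1 L75542 L75048 L77736
theorem L77739 : sm ga N7481 = N7753 := flp_a L77738
theorem L77740 : sm ge N7753 = N7416 := ded_26_1 L75056 L75045 L77736
theorem L77741 : sm ge N7416 = N7753 := flp_e L77740
theorem L77742 : sm gg N7415 = N7754 := rfl
theorem L77743 : sm gg N7754 = N7415 := flp_g L77742
theorem L77744 : sm ga N7754 = N7482 := ded_12_1 L75546 L75052 L77742
theorem L77745 : sm ga N7482 = N7754 := flp_a L77744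
theorem L77746 : sm gf N7753 = N7754 := ded_28_0 L77743 L75050 L75055 L77741
theorem L77747 : sm gf N7754 = N7753 := flp_f L77746
theorem L77748 : sm gd N7754 = N7670 := ded_24_1 L76984 L75775 L64521 L75054 L77742
theorem L77749 : sm gd N7670 = N7754 := flp_d L77748
theorem L77750 : sm gd N7416 = N7755 := rfl
theorem L77751 : sm gd N7755 = N7416 := flp_d L77750
theorem L77752 : sm ga N7755 = N7483 := ded_9_1 L75550 L75058 L77750
theorem L77753 : sm ga N7483 = N7755 := flp_a L77752
theorem L77754 : sm gg N7755 = N7417 := ded_24_2 L75060 L29183 L29170 L75055 L77750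
theorem L77755 : sm gg N7417 = N7755 := flp_g L77754
theorem L77756 : sm gc N7454 = N7755 := ded_8_0 L77752 L75554 L75345
theorem L77757 : sm gc N7755 = N7454 := flp_c L77756
theorem L77758 : sm ge N7452 = N7755 := ded_10_0 L77752 L75556 L75327
theorem L77759 : sm ge N7755 = N7452 := flp_e L77758
theorem L77760 : sm gf N7451 = N7755 := ded_11_0 L77752 L75558 L75321
theorem L77761 : sm gf N7755 = N7451 := flp_f L77760
theorem L77762 : sm gf N7416 = N7756 := rfl
theorem L77763 : sm gf N7756 = N7416 := flp_f L77762
theorem L77764 : sm ga N7756 = N7484 := ded_11_1 L75560 L75058 L77762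
theorem L77765 : sm ga N7484 = N7756 := flp_a L77764
theorem L77766 : sm ge N7756 = N7754 := ded_25_1 L77747 L77740 L77762
theorem L77767 : sm ge N7754 = N7756 := flp_e L77766
theorem L77768 : sm gg N7756 = N7752 := ded_28_3 L77732 L75050 L75055 L77762
theorem L77769 : sm gg N7752 = N7756 := flp_g L77768
theorem L77770 : sm ge N7418 = N7757 := rfl
theorem L77771 : sm ge N7757 = N7418 := flp_e L77770
theorem L77772 : sm ga N7757 = N7420 := ded_10_1 L75085 L75066 L77770
theorem L77773 : sm ga N7420 = N7757 := flp_a L77772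
theorem L77774 : sm gb N7757 = N7426 := ded_15_1 L75134 L75068 L77770
theorem L77775 : sm gb N7426 = N7757 := flp_b L77774
theorem L77776 : sm gc N7757 = N7757 := ded_19_1 L77771 L75069 L77770
theorem L77777 : sm gg N7757 = N7420 := ded_26_2 L75085 L75070 L77770
theorem L77778 : sm gg N7420 = N7757 := flp_g L77777
theorem L77779 : sm gf N7757 = N7512 := ded_28_0 L75771 L75090 L75070 L77770
theorem L77780 : sm gf N7512 = N7757 := flp_f L77779
theorem L77781 : sm gd N7757 = N7748 := ded_22_1 L77705 L75036 L29216 L75063 L77770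
theorem L77782 : sm gd N7748 = N7757 := flp_d L77781
theorem L77783 : sm gf N7418 = N7758 := rfl
theorem L77784 : sm gf N7758 = N7418 := flp_f L77783
theorem L77785 : sm ga N7758 = N7421 := ded_11_1 L75090 L75066 L77783
theorem L77786 : sm ga N7421 = N7758 := flp_a L77785
theorem L77787 : sm gb N7758 = N7427 := ded_16_1 L75141 L75068 L77783
theorem L77788 : sm gb N7427 = N7758 := flp_b L77787
theorem L77789 : sm gc N7758 = N7758 := ded_20_1 L77784 L75069 L77783
theorem L77790 : sm ge N7758 = N7512 := ded_25_1 L77780 L77771 L77783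
theorem L77791 : sm ge N7512 = N7758 := flp_e L77790
theorem L77792 : sm gd N7420 = N7759 := rfl
theorem L77793 : sm gd N7759 = N7420 := flp_d L77792
theorem L77794 : sm ga N7759 = N7748 := ded_9_1 L77782 L77772 L77792
theorem L77795 : sm ga N7748 = N7759 := flp_a L77794
theorem L77796 : sm gb N7759 = N7424 := ded_14_1 L75113 L75087 L77792
theorem L77797 : sm gb N7424 = N7759 := flp_b L77796
theorem L77798 : sm ge N7759 = N7422 := ded_22_2 L75095 L29223 L29218 L75084 L77792
theorem L77799 : sm ge N7422 = N7759 := flp_e L77798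
theorem L77800 : sm gc N7750 = N7759 := ded_29_5 L77794 L77706 L76013 L76009 L31083 L75521 L75653 L75058 L77717
theorem L77801 : sm gc N7759 = N7750 := flp_c L77800
theorem L77802 : sm gg N7759 = N7747 := ded_21_2 L77703 L77714 L77800
theorem L77803 : sm gg N7747 = N7759 := flp_g L77802
theorem L77804 : sm gf N7420 = N7760 := rfl
theorem L77805 : sm gf N7760 = N7420 := flp_f L77804
theorem L77806 : sm ga N7760 = N7512 := ded_11_1 L77780 L77772 L77804
theorem L77807 : sm ga N7512 = N7760 := flp_a L77806
theorem L77808 : sm gb N7760 = N7425 := ded_16_1 L75119 L75087 L77804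
theorem L77809 : sm gb N7425 = N7760 := flp_b L77808
theorem L77810 : sm gc N7760 = N7760 := ded_20_1 L77805 L75088 L77804
theorem L77811 : sm ge N7760 = N7421 := ded_25_1 L75090 L75084 L77804
theorem L77812 : sm ge N7421 = N7760 := flp_e L77811
theorem L77813 : sm gg N7760 = N7758 := ded_28_3 L77790 L77780 L77777 L77804
theorem L77814 : sm gg N7758 = N7760 := flp_g L77813
theorem L77815 : sm gd N7588 = N7760 := ded_14_0 L77808 L75127 L76324
theorem L77816 : sm gd N7760 = N7588 := flp_d L77815
theorem L77817 : sm gc N7422 = N7761 := rfl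
theorem L77818 : sm gc N7761 = N7422 := flp_c L77817
theorem L77819 : sm ga N7761 = N7747 := ded_8_1 L77703 L75097 L77817
theorem L77820 : sm ga N7747 = N7761 := flp_a L77819
theorem L77821 : sm ge N7761 = N7750 := ded_19_2 L77800 L77798 L77817
theorem L77822 : sm ge N7750 = N7761 := flp_e L77821
theorem L77823 : sm gb N7753 = N7761 := ded_29_1 L77818 L75096 L75037 L31085 L31083 L75521 L75653 L75544 L77739
theorem L77824 : sm gb N7761 = N7753 := flp_b L77823
theorem L77825 : sm gd N7761 = N7747 := ded_30_9 L77820 L77818 L75095 L29228 L75063 L75069 L75064 L29229 L75094 L77817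
theorem L77826 : sm gd N7747 = N7761 := flp_d L77825
theorem L77827 : sm gg N7748 = N7761 := ded_12_0 L77819 L77803 L77794
theorem L77828 : sm gg N7761 = N7748 := flp_g L77827
theorem L77829 : sm gf N7422 = N7762 := rfl
theorem L77830 : sm gf N7762 = N7422 := flp_f L77829
theorem L77831 : sm ga N7762 = N7749 := ded_11_1 L77709 L75097 L77829
theorem L77832 : sm ga N7749 = N7762 := flp_a L77831
theorem L77833 : sm gb N7762 = N7429 := ded_16_1 L75155 L75099 L77829
theorem L77834 : sm gb N7429 = N7762 := flp_b L77833
theorem L77835 : sm gd N7762 = N7758 := ded_23_1 L77784 L75064 L29231 L75094 L77829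
theorem L77836 : sm gd N7758 = N7762 := flp_d L77835
theorem L77837 : sm gg N7422 = N7763 := rfl
theorem L77838 : sm gg N7763 = N7422 := flp_g L77837
theorem L77839 : sm ga N7763 = N7750 := ded_12_1 L77715 L75097 L77837
theorem L77840 : sm ga N7750 = N7763 := flp_a L77839
theorem L77841 : sm gb N7763 = N7430 := ded_17_1 L75161 L75099 L77837
theorem L77842 : sm gb N7430 = N7763 := flp_b L77841
theorem L77843 : sm gc N7763 = N7748 := ded_21_1 L77827 L77818 L77837
theorem L77844 : sm gc N7748 = N7763 := flp_c L77843
theorem L77845 : sm ge N7763 = N7747 := ded_26_1 L77803 L77798 L77837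
theorem L77846 : sm ge N7747 = N7763 := flp_e L77845
theorem L77847 : sm gc N7424 = N7764 := rfl
theorem L77848 : sm gc N7764 = N7424 := flp_c L77847
theorem L77849 : sm ga N7764 = N7502 := ded_8_1 L75720 L75115 L77847
theorem L77850 : sm ga N7502 = N7764 := flp_a L77849
theorem L77851 : sm ge N7764 = N7428 := ded_19_2 L75151 L75117 L77847
theorem L77852 : sm ge N7428 = N7764 := flp_e L77851
theorem L77853 : sm gb N7764 = N7547 := ded_13_1 L76026 L77717 L77800 L77796 L77847
theorem L77854 : sm gb N7547 = N7764 := flp_b L77853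
theorem L77855 : sm gd N7764 = N7601 := ded_30_9 L76414 L76061 L31100 L31090 L76028 L76035 L75801 L31395 L75112 L77847
theorem L77856 : sm gd N7601 = N7764 := flp_d L77855
theorem L77857 : sm gg N7542 = N7764 := ded_17_0 L77853 L76023 L75989
theorem L77858 : sm gg N7764 = N7542 := flp_g L77857
theorem L77859 : sm gg N7424 = N7765 := rfl
theorem L77860 : sm gg N7765 = N7424 := flp_g L77859
theorem L77861 : sm ga N7765 = N7504 := ded_12_1 L75728 L75115 L77859
theorem L77862 : sm ga N7504 = N7765 := flp_a L77861
theorem L77863 : sm gb N7765 = N7747 := ded_17_1 L77803 L77796 L77859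
theorem L77864 : sm gb N7747 = N7765 := flp_b L77863
theorem L77865 : sm gc N7765 = N7542 := ded_21_1 L77857 L77848 L77859
theorem L77866 : sm gc N7542 = N7765 := flp_c L77865
theorem L77867 : sm ge N7765 = N7430 := ded_26_1 L75161 L75117 L77859
theorem L77868 : sm ge N7430 = N7765 := flp_e L77867
theorem L77869 : sm gd N7765 = N7753 := ded_24_1 L77737 L75138 L75129 L75112 L77859
theorem L77870 : sm gd N7753 = N7765 := flp_d L77869
theorem L77871 : sm gb N7428 = N7766 := rfl
theorem L77872 : sm gb N7766 = N7428 := flp_b L77871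
theorem L77873 : sm ge N7766 = N7547 := ded_15_2 L77854 L77851 L77871
theorem L77874 : sm ge N7547 = N7766 := flp_e L77873
theorem L77875 : sm gc N7766 = N7753 := ded_13_2 L77823 L77818 L75098 L75150 L77871
theorem L77876 : sm gc N7753 = N7766 := flp_c L77875
theorem L77877 : sm gg N7545 = N7766 := ded_26_0 L77873 L76023 L76008
theorem L77878 : sm gg N7766 = N7545 := flp_g L77877
theorem L77879 : sm gd N7428 = N7767 := rfl
theorem L77880 : sm gd N7767 = N7428 := flp_d L77879
theorem L77881 : sm ga N7767 = N7507 := ded_9_1 L75744 L75153 L77879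
theorem L77882 : sm ga N7507 = N7767 := flp_a L77881
theorem L77883 : sm ge N7767 = N7576 := ded_22_2 L76231 L76412 L77856 L77851 L77879
theorem L77884 : sm ge N7576 = N7767 := flp_e L77883
theorem L77885 : sm gc N7501 = N7767 := ded_30_0 L77880 L75151 L29249 L15714 L15675 L29179 L72886 L31408 L75819 L75811
theorem L77886 : sm gc N7767 = N7501 := flp_c L77885
theorem L77887 : sm gg N7703 = N7767 := ded_12_0 L77881 L75892 L77278
theorem L77888 : sm gg N7767 = N7703 := flp_g L77887
theorem L77889 : sm gf N7428 = N7768 := rfl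
theorem L77890 : sm gf N7768 = N7428 := flp_f L77889
theorem L77891 : sm ga N7768 = N7508 := ded_11_1 L75746 L75153 L77889
theorem L77892 : sm ga N7508 = N7768 := flp_a L77891
theorem L77893 : sm gc N7768 = N7429 := ded_20_1 L75155 L75150 L77889
theorem L77894 : sm gc N7429 = N7768 := flp_c L77893
theorem L77895 : sm gg N7428 = N7769 := rfl
theorem L77896 : sm gg N7769 = N7428 := flp_g L77895
theorem L77897 : sm ga N7769 = N7506 := ded_12_1 L75742 L75153 L77895
theorem L77898 : sm ga N7506 = N7769 := flp_a L77897
theorem L77899 : sm gb N7769 = N7545 := ded_17_1 L77877 L77872 L77895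
theorem L77900 : sm gb N7545 = N7769 := flp_b L77899
theorem L77901 : sm gc N7769 = N7430 := ded_21_1 L75161 L75150 L77895
theorem L77902 : sm gc N7430 = N7769 := flp_c L77901
theorem L77903 : sm ge N7769 = N7542 := ded_26_1 L77857 L77851 L77895
theorem L77904 : sm ge N7542 = N7769 := flp_e L77903
theorem L77905 : sm gg N7429 = N7770 := rfl
theorem L77906 : sm gg N7770 = N7429 := flp_g L77905
theorem L77907 : sm ga N7770 = N7509 := ded_12_1 L75750 L75157 L77905
theorem L77908 : sm ga N7509 = N7770 := flp_a L77907
theorem L77909 : sm gf N7765 = N7770 := ded_28_0 L77906 L75155 L75160 L77868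
theorem L77910 : sm gf N7770 = N7765 := flp_f L77909
theorem L77911 : sm gd N7770 = N7589 := ded_24_1 L76327 L75126 L75149 L75159 L77905
theorem L77912 : sm gd N7589 = N7770 := flp_d L77911
theorem L77913 : sm gf N7430 = N7771 := rfl
theorem L77914 : sm gf N7771 = N7430 := flp_f L77913
theorem L77915 : sm ga N7771 = N7510 := ded_11_1 L75754 L75163 L77913
theorem L77916 : sm ga N7510 = N7771 := flp_a L77915
theorem L77917 : sm ge N7771 = N7770 := ded_25_1 L77910 L77867 L77913
theorem L77918 : sm ge N7770 = N7771 := flp_e L77917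
theorem L77919 : sm gg N7771 = N7711 := ded_28_3 L77344 L75155 L75160 L77913
theorem L77920 : sm gg N7711 = N7771 := flp_g L77919
theorem L77921 : sm gd N7771 = N7489 := ded_23_1 L75600 L30674 L75324 L75331 L77913
theorem L77922 : sm gd N7489 = N7771 := flp_d L77921
theorem L77923 : sm gf N7431 = N7772 := rfl
theorem L77924 : sm gf N7772 = N7431 := flp_f L77923
theorem L77925 : sm ga N7772 = N7511 := ded_11_1 L75760 L75167 L77923
theorem L77926 : sm ga N7511 = N7772 := flp_a L77925
theorem L77927 : sm gc N7772 = N7455 := ded_20_1 L75366 L75364 L77923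
theorem L77928 : sm gc N7455 = N7772 := flp_c L77927
theorem L77929 : sm ge N7772 = N7453 := ded_25_1 L75341 L75169 L77923
theorem L77930 : sm ge N7453 = N7772 := flp_e L77929
theorem L77931 : sm gg N7772 = N7451 := ded_28_3 L75319 L75324 L75333 L77923
theorem L77932 : sm gg N7451 = N7772 := flp_g L77931
theorem L77933 : sm gd N7772 = N7453 := ded_23_1 L75341 L75060 L29261 L75164 L77923
theorem L77934 : sm gd N7453 = N7772 := flp_d L77933
theorem L77935 : sm gc N7434 = N7773 := rfl
theorem L77936 : sm gc N7773 = N7434 := flp_c L77935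
theorem L77937 : sm ga N7773 = N7515 := ded_8_1 L75789 L75197 L77935
theorem L77938 : sm ga N7515 = N7773 := flp_a L77937
theorem L77939 : sm ge N7773 = N7439 := ded_19_2 L75231 L75199 L77935
theorem L77940 : sm ge N7439 = N7773 := flp_e L77939
theorem L77941 : sm gf N7773 = N7703 := ded_20_2 L77281 L75210 L77935
theorem L77942 : sm gf N7703 = N7773 := flp_f L77941
theorem L77943 : sm gb N7773 = N7595 := ded_13_1 L76374 L77280 L77281 L75208 L77935
theorem L77944 : sm gb N7595 = N7773 := flp_b L77943
theorem L77945 : sm gd N7594 = N7773 := ded_31_2 L77936 L75708 L75705 L31496 L16815 L16820 L51909 L29320 L65035 L73111 L25961 L73920 L76948 L77262 L77253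
theorem L77946 : sm gd N7773 = N7594 := flp_d L77945
theorem L77947 : sm gb N7435 = N7774 := rfl
theorem L77948 : sm gb N7774 = N7435 := flp_b L77947
theorem L77949 : sm gf N7437 = N7775 := rfl
theorem L77950 : sm gf N7775 = N7437 := flp_f L77949
theorem L77951 : sm ga N7775 = N7530 := ded_11_1 L75898 L75217 L77949
theorem L77952 : sm ga N7530 = N7775 := flp_a L77951
theorem L77953 : sm gb N7775 = N7637 := ded_16_1 L76715 L75219 L77949
theorem L77954 : sm gb N7637 = N7775 := flp_b L77953
theorem L77955 : sm ge N7775 = N7530 := ded_25_1 L75898 L75221 L77949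
theorem L77956 : sm ge N7530 = N7775 := flp_e L77955
theorem L77957 : sm gd N7775 = N7441 := ded_23_1 L75245 L29463 L29415 L75214 L77949
theorem L77958 : sm gd N7441 = N7775 := flp_d L77957
theorem L77959 : sm gc N7438 = N7776 := rfl
theorem L77960 : sm gc N7776 = N7438 := flp_c L77959
theorem L77961 : sm ga N7776 = N7532 := ded_8_1 L75914 L75225 L77959
theorem L77962 : sm ga N7532 = N7776 := flp_a L77961
theorem L77963 : sm gf N7776 = N7767 := ded_20_2 L77886 L75715 L77959
theorem L77964 : sm gf N7767 = N7776 := flp_f L77963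
theorem L77965 : sm gg N7776 = N7439 := ded_21_2 L75231 L75229 L77959
theorem L77966 : sm gg N7439 = N7776 := flp_g L77965
theorem L77967 : sm gd N7776 = N7477 := ded_30_9 L76011 L76012 L75138 L75132 L30814 L72065 L66061 L71480 L75222 L77959
theorem L77968 : sm gd N7477 = N7776 := flp_d L77967
theorem L77969 : sm gb N7439 = N7777 := rfl
theorem L77970 : sm gb N7777 = N7439 := flp_b L77969
theorem L77971 : sm ge N7777 = N7595 := ded_15_2 L77944 L77939 L77969
theorem L77972 : sm ge N7595 = N7777 := flp_e L77971
theorem L77973 : sm gf N7777 = N7698 := ded_16_2 L77219 L75235 L77969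
theorem L77974 : sm gf N7698 = N7777 := flp_f L77973
theorem L77975 : sm gc N7777 = N7698 := ded_13_2 L77219 L74405 L29449 L75230 L77969
theorem L77976 : sm gc N7698 = N7777 := flp_c L77975
theorem L77977 : sm ga N7534 = N7777 := ded_29_6 L77970 L75231 L75199 L75196 L30865 L75788 L77938 L77943 L76374
theorem L77978 : sm ga N7777 = N7534 := flp_a L77977
theorem L77979 : sm gd N7439 = N7777 := ded_22_5 L77971 L76371 L76368 L77945 L77939
theorem L77980 : sm gd N7777 = N7439 := flp_d L77979
theorem L77981 : sm gf N7440 = N7778 := rfl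
theorem L77982 : sm gf N7778 = N7440 := flp_f L77981
theorem L77983 : sm ga N7778 = N7538 := ded_11_1 L75957 L75239 L77981
theorem L77984 : sm ga N7538 = N7778 := flp_a L77983
theorem L77985 : sm gb N7778 = N7617 := ded_16_1 L76569 L75241 L77981
theorem L77986 : sm gb N7617 = N7778 := flp_b L77985
theorem L77987 : sm ge N7778 = N7441 := ded_25_1 L75245 L75236 L77981
theorem L77988 : sm ge N7441 = N7778 := flp_e L77987
theorem L77989 : sm gg N7470 = N7778 := ded_28_1 L77982 L75488 L75482 L75491
theorem L77990 : sm gg N7778 = N7470 := flp_g L77989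
theorem L77991 : sm gd N7778 = N7538 := ded_23_1 L75957 L75942 L75955 L75242 L77981
theorem L77992 : sm gd N7538 = N7778 := flp_d L77991
theorem L77993 : sm gg N7441 = N7779 := rfl
theorem L77994 : sm gg N7779 = N7441 := flp_g L77993
theorem L77995 : sm ga N7779 = N7539 := ded_12_1 L75965 L75247 L77993
theorem L77996 : sm ga N7539 = N7779 := flp_a L77995
theorem L77997 : sm gb N7779 = N7700 := ded_17_1 L77245 L77083 L77993
theorem L77998 : sm gb N7700 = N7779 := flp_b L77997
theorem L77999 : sm gc N7779 = N7541 := ded_21_1 L76283 L76280 L77993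
theorem L78000 : sm gc N7541 = N7779 := flp_c L77999
theorem L78001 : sm ge N7779 = N7470 := ded_26_1 L77989 L77987 L77993
theorem L78002 : sm ge N7470 = N7779 := flp_e L78001
theorem L78003 : sm gf N7469 = N7779 := ded_28_0 L77994 L75245 L72963 L75481
theorem L78004 : sm gf N7779 = N7469 := flp_f L78003
theorem L78005 : sm gd N7706 = N7779 := ded_9_0 L77995 L77476 L77465
theorem L78006 : sm gd N7779 = N7706 := flp_d L78005
theorem L78007 : sm ge N7443 = N7780 := rfl
theorem L78008 : sm ge N7780 = N7443 := flp_e L78007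
theorem L78009 : sm ga N7780 = N7600 := ded_10_1 L77458 L77451 L78007
theorem L78010 : sm ga N7600 = N7780 := flp_a L78009
theorem L78011 : sm gb N7780 = N7444 := ded_15_1 L75267 L75260 L78007
theorem L78012 : sm gb N7444 = N7780 := flp_b L78011
theorem L78013 : sm gc N7780 = N7706 := ded_19_1 L77304 L75263 L78007
theorem L78014 : sm gc N7706 = N7780 := flp_c L78013
theorem L78015 : sm gf N7780 = N7705 := ded_25_2 L77296 L75264 L78007
theorem L78016 : sm gf N7705 = N7780 := flp_f L78015
theorem L78017 : sm gg N7443 = N7781 := rfl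
theorem L78018 : sm gg N7781 = N7443 := flp_g L78017
theorem L78019 : sm ga N7781 = N7552 := ded_12_1 L77461 L77451 L78017
theorem L78020 : sm ga N7552 = N7781 := flp_a L78019
theorem L78021 : sm gb N7781 = N7446 := ded_17_1 L75281 L75260 L78017
theorem L78022 : sm gb N7446 = N7781 := flp_b L78021
theorem L78023 : sm gc N7781 = N7652 := ded_21_1 L76830 L75263 L78017
theorem L78024 : sm gc N7652 = N7781 := flp_c L78023
theorem L78025 : sm gf N7582 = N7781 := ded_28_0 L78018 L75265 L77312 L77318
theorem L78026 : sm gf N7781 = N7582 := flp_f L78025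
theorem L78027 : sm gd N7781 = N7446 := ded_24_1 L75281 L30650 L75656 L75523 L78017
theorem L78028 : sm gd N7446 = N7781 := flp_d L78027
theorem L78029 : sm gd N7444 = N7782 := rfl
theorem L78030 : sm gd N7782 = N7444 := flp_d L78029
theorem L78031 : sm ga N7782 = N7548 := ded_9_1 L76029 L75269 L78029
theorem L78032 : sm ga N7548 = N7782 := flp_a L78031
theorem L78033 : sm ge N7782 = N7776 := ded_22_2 L77967 L75526 L30649 L75266 L78029
theorem L78034 : sm ge N7776 = N7782 := flp_e L78033
theorem L78035 : sm gc N7500 = N7782 := ded_30_0 L78030 L75270 L73012 L76417 L77856 L77848 L75113 L31396 L75802 L75794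
theorem L78036 : sm gc N7782 = N7500 := flp_c L78035
theorem L78037 : sm gf N7576 = N7782 := ded_31_1 L78030 L75270 L75298 L75312 L75445 L75433 L30072 L32547 L72512 L29202 L15694 L15778 L29406 L74404 L76230
theorem L78038 : sm gf N7782 = N7576 := flp_f L78037
theorem L78039 : sm gg N7773 = N7782 := ded_12_0 L78031 L76037 L77938
theorem L78040 : sm gg N7782 = N7773 := flp_g L78039
theorem L78041 : sm gf N7444 = N7783 := rfl
theorem L78042 : sm gf N7783 = N7444 := flp_f L78041
theorem L78043 : sm ga N7783 = N7549 := ded_11_1 L76039 L75269 L78041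
theorem L78044 : sm ga N7549 = N7783 := flp_a L78043
theorem L78045 : sm gb N7783 = N7705 := ded_16_1 L78016 L78011 L78041
theorem L78046 : sm gb N7705 = N7783 := flp_b L78045
theorem L78047 : sm gc N7783 = N7447 := ded_20_1 L75287 L75271 L78041
theorem L78048 : sm gc N7447 = N7783 := flp_c L78047
theorem L78049 : sm ge N7783 = N7445 := ded_25_1 L75273 L75266 L78041
theorem L78050 : sm ge N7445 = N7783 := flp_e L78049
theorem L78051 : sm gg N7783 = N7689 := ded_28_1 L77123 L75281 L75266 L78041
theorem L78052 : sm gg N7689 = N7783 := flp_g L78051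
theorem L78053 : sm gd N7783 = N7602 := ded_23_1 L76421 L76232 L78037 L78030 L78041
theorem L78054 : sm gd N7602 = N7783 := flp_d L78053
theorem L78055 : sm gg N7444 = N7784 := rfl
theorem L78056 : sm gg N7784 = N7444 := flp_g L78055
theorem L78057 : sm ga N7784 = N7550 := ded_12_1 L76049 L75269 L78055
theorem L78058 : sm ga N7550 = N7784 := flp_a L78057
theorem L78059 : sm gc N7784 = N7448 := ded_21_1 L75299 L75271 L78055
theorem L78060 : sm gc N7448 = N7784 := flp_c L78059
theorem L78061 : sm ge N7784 = N7446 := ded_26_1 L75281 L75266 L78055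
theorem L78062 : sm ge N7446 = N7784 := flp_e L78061
theorem L78063 : sm gf N7725 = N7784 := ded_28_0 L78056 L78041 L78051 L77498
theorem L78064 : sm gf N7784 = N7725 := flp_f L78063
theorem L78065 : sm gd N7445 = N7785 := rfl
theorem L78066 : sm gd N7785 = N7445 := flp_d L78065
theorem L78067 : sm ga N7785 = N7551 := ded_9_1 L76057 L75275 L78065
theorem L78068 : sm ga N7551 = N7785 := flp_a L78067
theorem L78069 : sm gb N7785 = N7529 := ded_14_1 L75895 L75277 L78065
theorem L78070 : sm gb N7529 = N7785 := flp_b L78069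
theorem L78071 : sm ge N7785 = N7732 := ded_22_2 L77572 L76427 L78054 L78049 L78065
theorem L78072 : sm ge N7732 = N7785 := flp_e L78071
theorem L78073 : sm gc N7785 = N7681 := ded_31_3 L77607 L77604 L74769 L28665 L28622 L73574 L73565 L72816 L25628 L25623 L73064 L75285 L75281 L75272 L78065
theorem L78074 : sm gc N7681 = N7785 := flp_c L78073
theorem L78075 : sm ga N7450 = N7786 := rfl
theorem L78076 : sm ga N7786 = N7450 := flp_a L78075
theorem L78077 : sm gc N7786 = N7673 := ded_8_2 L77001 L75317 L78075
theorem L78078 : sm gc N7673 = N7786 := flp_c L78077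
theorem L78079 : sm gb N7786 = N7451 := ded_7_2 L75320 L76169 L76167 L31198 L29533 L75314 L78075
theorem L78080 : sm gb N7451 = N7786 := flp_b L78079
theorem L78081 : sm ge N7786 = N7450 := ded_29_9 L78075 L78079 L75322 L29536 L31166 L76113 L76110 L77003 L78078
theorem L78082 : sm ge N7450 = N7786 := flp_e L78081
theorem L78083 : sm gf N7450 = N7787 := rfl
theorem L78084 : sm gf N7787 = N7450 := flp_f L78083
theorem L78085 : sm gb N7787 = N7452 := ded_16_1 L75325 L75314 L78083
theorem L78086 : sm gb N7452 = N7787 := flp_b L78085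
theorem L78087 : sm gc N7787 = N7647 := ded_20_1 L76795 L75317 L78083
theorem L78088 : sm gc N7647 = N7787 := flp_c L78087
theorem L78089 : sm gd N7763 = N7787 := ded_14_0 L78085 L75331 L77842
theorem L78090 : sm gd N7787 = N7763 := flp_d L78089
theorem L78091 : sm gg N7645 = N7787 := ded_17_0 L78085 L75333 L76781
theorem L78092 : sm gg N7787 = N7645 := flp_g L78091
theorem L78093 : sm gg N7450 = N7788 := rfl
theorem L78094 : sm gg N7788 = N7450 := flp_g L78093
theorem L78095 : sm gb N7788 = N7453 := ded_17_1 L75335 L75314 L78093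
theorem L78096 : sm gb N7453 = N7788 := flp_b L78095
theorem L78097 : sm gc N7788 = N7675 := ded_21_1 L77013 L75317 L78093
theorem L78098 : sm gc N7675 = N7788 := flp_c L78097
theorem L78099 : sm gf N7751 = N7788 := ded_28_0 L78094 L78083 L78092 L77725
theorem L78100 : sm gf N7788 = N7751 := flp_f L78099
theorem L78101 : sm gd N7454 = N7789 := rfl
theorem L78102 : sm gd N7789 = N7454 := flp_d L78101
theorem L78103 : sm ga N7789 = N7571 := ded_9_1 L76201 L75345 L78101
theorem L78104 : sm ga N7571 = N7789 := flp_a L78103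
theorem L78105 : sm gb N7789 = N7676 := ded_14_1 L77025 L75347 L78101
theorem L78106 : sm gb N7676 = N7789 := flp_b L78105
theorem L78107 : sm ge N7789 = N7571 := ded_22_2 L76201 L31223 L61285 L75349 L78101
theorem L78108 : sm ge N7571 = N7789 := flp_e L78107
theorem L78109 : sm gf N7789 = N7789 := ded_23_2 L78102 L75343 L72876 L75342 L78101
theorem L78110 : sm gg N7789 = N7632 := ded_24_2 L76692 L73601 L75380 L75378 L78101
theorem L78111 : sm gg N7632 = N7789 := flp_g L78110
theorem L78112 : sm gd N7455 = N7790 := rfl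
theorem L78113 : sm gd N7790 = N7455 := flp_d L78112
theorem L78114 : sm ga N7790 = N7572 := ded_9_1 L76204 L75353 L78112
theorem L78115 : sm ga N7572 = N7790 := flp_a L78114
theorem L78116 : sm gb N7790 = N7677 := ded_14_1 L77029 L75355 L78112
theorem L78117 : sm gb N7677 = N7790 := flp_b L78116
theorem L78118 : sm ge N7790 = N7572 := ded_22_2 L76204 L31227 L29547 L75357 L78112
theorem L78119 : sm ge N7572 = N7790 := flp_e L78118
theorem L78120 : sm gg N7790 = N7790 := ded_24_2 L78113 L75351 L72876 L75350 L78112
theorem L78121 : sm gc N7790 = N7790 := ded_30_0 L78113 L77928 L77933 L75338 L29546 L31216 L75768 L75761 L76203 L78115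
theorem L78122 : sm gc N7458 = N7791 := rfl
theorem L78123 : sm gc N7791 = N7458 := flp_c L78122
theorem L78124 : sm ga N7791 = N7574 := ded_8_1 L76210 L75385 L78122
theorem L78125 : sm ga N7574 = N7791 := flp_a L78124
theorem L78126 : sm ge N7791 = N7464 := ded_19_2 L75447 L75389 L78122
theorem L78127 : sm ge N7464 = N7791 := flp_e L78126
theorem L78128 : sm gf N7791 = N7505 := ded_20_2 L75736 L75391 L78122
theorem L78129 : sm gf N7505 = N7791 := flp_f L78128
theorem L78130 : sm gd N7480 = N7791 := ded_9_0 L78124 L77735 L77730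
theorem L78131 : sm gd N7791 = N7480 := flp_d L78130
theorem L78132 : sm gb N7464 = N7792 := rfl
theorem L78133 : sm gb N7792 = N7464 := flp_b L78132
theorem L78134 : sm gd N7792 = N7496 := ded_14_2 L75669 L75451 L78132
theorem L78135 : sm gd N7496 = N7792 := flp_d L78134
theorem L78136 : sm gc N7792 = N7690 := ded_13_2 L77136 L74180 L71650 L75446 L78132
theorem L78137 : sm gc N7690 = N7792 := flp_c L78136
theorem L78138 : sm gg N7464 = N7793 := rfl
theorem L78139 : sm gg N7793 = N7464 := flp_g L78138
theorem L78140 : sm ga N7793 = N7589 := ded_12_1 L76327 L75449 L78138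
theorem L78141 : sm ga N7589 = N7793 := flp_a L78140
theorem L78142 : sm gc N7793 = N7465 := ded_21_1 L75453 L75446 L78138
theorem L78143 : sm gc N7465 = N7793 := flp_c L78142
theorem L78144 : sm gf N7793 = N7659 := ded_28_2 L76882 L76395 L76396 L78138
theorem L78145 : sm gf N7659 = N7793 := flp_f L78144
theorem L78146 : sm gd N7793 = N7509 := ded_24_1 L75750 L72921 L30786 L75451 L78138
theorem L78147 : sm gd N7509 = N7793 := flp_d L78146
theorem L78148 : sm gd N7466 = N7794 := rfl
theorem L78149 : sm gd N7794 = N7466 := flp_d L78148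
theorem L78150 : sm ga N7794 = N7590 := ded_9_1 L76331 L75465 L78148
theorem L78151 : sm ga N7590 = N7794 := flp_a L78150
theorem L78152 : sm gb N7794 = N7794 := ded_14_1 L78149 L75466 L78148
theorem L78153 : sm ge N7794 = N7794 := ded_22_2 L78149 L76311 L76315 L76310 L78148
theorem L78154 : sm gg N7794 = N7794 := ded_24_2 L78149 L76345 L76346 L76344 L78148
theorem L78155 : sm gc N7584 = N7794 := ded_30_0 L78149 L75463 L30113 L71740 L74093 L77119 L77127 L76262 L76286 L76293
theorem L78156 : sm gc N7794 = N7584 := flp_c L78155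
theorem L78157 : sm gf N7590 = N7794 := ded_31_1 L78149 L75463 L72794 L76352 L76362 L77456 L77462 L77566 L77569 L75404 L67188 L32101 L76286 L76334 L76333
theorem L78158 : sm gf N7794 = N7590 := flp_f L78157
theorem L78159 : sm gf N7466 = N7795 := rfl
theorem L78160 : sm gf N7795 = N7466 := flp_f L78159
theorem L78161 : sm ga N7795 = N7592 := ded_11_1 L76348 L75465 L78159
theorem L78162 : sm ga N7592 = N7795 := flp_a L78161
theorem L78163 : sm gb N7795 = N7795 := ded_16_1 L78160 L75466 L78159
theorem L78164 : sm gc N7795 = N7467 := ded_20_1 L75468 L75462 L78159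
theorem L78165 : sm gc N7467 = N7795 := flp_c L78164
theorem L78166 : sm gg N7592 = N7795 := ded_28_1 L78160 L76345 L76338 L76347
theorem L78167 : sm gg N7795 = N7592 := flp_g L78166
theorem L78168 : sm gd N7795 = N7592 := ded_23_1 L76348 L76330 L78157 L78149 L78159
theorem L78169 : sm gd N7592 = N7795 := flp_d L78168
theorem L78170 : sm ge N7468 = N7796 := rfl
theorem L78171 : sm ge N7796 = N7468 := flp_e L78170
theorem L78172 : sm ga N7796 = N7544 := ded_10_1 L76004 L75476 L78170
theorem L78173 : sm ga N7544 = N7796 := flp_a L78172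
theorem L78174 : sm gb N7796 = N7726 := ded_15_1 L77509 L76090 L78170
theorem L78175 : sm gb N7726 = N7796 := flp_b L78174
theorem L78176 : sm gc N7796 = N7469 := ded_19_1 L75482 L75473 L78170
theorem L78177 : sm gc N7469 = N7796 := flp_c L78176
theorem L78178 : sm gf N7796 = N7541 := ded_25_2 L76081 L76087 L78170
theorem L78179 : sm gf N7541 = N7796 := flp_f L78178
theorem L78180 : sm gg N7796 = N7580 := ded_26_2 L76269 L75478 L78170
theorem L78181 : sm gg N7580 = N7796 := flp_g L78180
theorem L78182 : sm gd N7471 = N7797 := rfl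
theorem L78183 : sm gd N7797 = N7471 := flp_d L78182
theorem L78184 : sm ga N7797 = N7568 := ded_9_1 L76181 L75679 L78182
theorem L78185 : sm ga N7568 = N7797 := flp_a L78184
theorem L78186 : sm gb N7797 = N7483 := ded_14_1 L75550 L75648 L78182
theorem L78187 : sm gb N7483 = N7797 := flp_b L78186
theorem L78188 : sm gg N7797 = N7475 := ded_24_2 L75518 L30643 L30638 L75650 L78182
theorem L78189 : sm gg N7475 = N7797 := flp_g L78188
theorem L78190 : sm gf N7566 = N7797 := ded_11_0 L78184 L76177 L76166
theorem L78191 : sm gf N7797 = N7566 := flp_f L78190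
theorem L78192 : sm ge N7568 = N7797 := ded_15_0 L78186 L75556 L76179
theorem L78193 : sm ge N7797 = N7568 := flp_e L78192
theorem L78194 : sm ge N7471 = N7798 := rfl
theorem L78195 : sm ge N7798 = N7471 := flp_e L78194
theorem L78196 : sm gb N7798 = N7481 := ded_15_1 L75543 L75648 L78194
theorem L78197 : sm gb N7481 = N7798 := flp_b L78196
theorem L78198 : sm gc N7798 = N7472 := ded_19_1 L75502 L75499 L78194
theorem L78199 : sm gc N7472 = N7798 := flp_c L78198
theorem L78200 : sm gg N7798 = N7472 := ded_26_2 L75502 L75650 L78194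
theorem L78201 : sm gg N7472 = N7798 := flp_g L78200
theorem L78202 : sm gf N7471 = N7799 := rfl
theorem L78203 : sm gf N7799 = N7471 := flp_f L78202
theorem L78204 : sm gb N7799 = N7484 := ded_16_1 L75560 L75648 L78202
theorem L78205 : sm gb N7484 = N7799 := flp_b L78204
theorem L78206 : sm gc N7799 = N7473 := ded_20_1 L75508 L75499 L78202
theorem L78207 : sm gc N7473 = N7799 := flp_c L78206
theorem L78208 : sm gf N7472 = N7800 := rfl
theorem L78209 : sm gf N7800 = N7472 := flp_f L78208
theorem L78210 : sm gb N7800 = N7480 := ded_16_1 L75538 L75504 L78208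
theorem L78211 : sm gb N7480 = N7800 := flp_b L78210
theorem L78212 : sm ge N7800 = N7473 := ded_25_1 L75508 L75501 L78208
theorem L78213 : sm ge N7473 = N7800 := flp_e L78212
theorem L78214 : sm gg N7799 = N7800 := ded_28_1 L78209 L78201 L78195 L78202
theorem L78215 : sm gg N7800 = N7799 := flp_g L78214
theorem L78216 : sm gg N7473 = N7801 := rfl
theorem L78217 : sm gg N7801 = N7473 := flp_g L78216
theorem L78218 : sm gb N7801 = N7482 := ded_17_1 L75546 L75510 L78216
theorem L78219 : sm gb N7482 = N7801 := flp_b L78218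
theorem L78220 : sm gc N7801 = N7800 := ded_21_1 L78215 L78206 L78216
theorem L78221 : sm gc N7800 = N7801 := flp_c L78220
theorem L78222 : sm ge N7801 = N7799 := ded_26_1 L78214 L78212 L78216
theorem L78223 : sm ge N7799 = N7801 := flp_e L78222
theorem L78224 : sm gf N7798 = N7801 := ded_28_0 L78217 L75508 L75650 L78194
theorem L78225 : sm gf N7801 = N7798 := flp_f L78224
theorem L78226 : sm gc N7475 = N7802 := rfl
theorem L78227 : sm gc N7802 = N7475 := flp_c L78226
theorem L78228 : sm ga N7802 = N7613 := ded_8_1 L76531 L75695 L78226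
theorem L78229 : sm ga N7613 = N7802 := flp_a L78228
theorem L78230 : sm ge N7802 = N7613 := ded_19_2 L76531 L75699 L78226
theorem L78231 : sm ge N7613 = N7802 := flp_e L78230
theorem L78232 : sm gb N7802 = N7615 := ded_13_1 L76550 L76160 L73126 L75520 L78226
theorem L78233 : sm gb N7615 = N7802 := flp_b L78232
theorem L78234 : sm gd N7802 = N7612 := ded_30_5 L76539 L76545 L76472 L76526 L78229 L78227 L75518 L30646 L75517 L78226
theorem L78235 : sm gd N7612 = N7802 := flp_d L78234
theorem L78236 : sm ge N7476 = N7803 := rfl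
theorem L78237 : sm ge N7803 = N7476 := flp_e L78236
theorem L78238 : sm ga N7803 = N7766 := ded_10_1 L77873 L76024 L78236
theorem L78239 : sm ga N7766 = N7803 := flp_a L78238
theorem L78240 : sm gb N7803 = N7477 := ded_15_1 L75526 L75521 L78236
theorem L78241 : sm gb N7477 = N7803 := flp_b L78240
theorem L78242 : sm gc N7803 = N7481 := ded_19_1 L75543 L75654 L78236
theorem L78243 : sm gc N7481 = N7803 := flp_c L78242
theorem L78244 : sm gg N7803 = N7477 := ded_26_2 L75526 L75656 L78236
theorem L78245 : sm gg N7477 = N7803 := flp_g L78244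
theorem L78246 : sm gf N7476 = N7804 := rfl
theorem L78247 : sm gf N7804 = N7476 := flp_f L78246
theorem L78248 : sm gb N7804 = N7478 := ded_16_1 L75530 L75521 L78246
theorem L78249 : sm gb N7478 = N7804 := flp_b L78248
theorem L78250 : sm gc N7804 = N7484 := ded_20_1 L75560 L75654 L78246
theorem L78251 : sm gc N7484 = N7804 := flp_c L78250
theorem L78252 : sm gf N7477 = N7805 := rfl
theorem L78253 : sm gf N7805 = N7477 := flp_f L78252
theorem L78254 : sm gc N7805 = N7480 := ded_20_1 L75538 L75528 L78252
theorem L78255 : sm gc N7480 = N7805 := flp_c L78254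
theorem L78256 : sm ge N7805 = N7478 := ded_25_1 L75530 L75525 L78252
theorem L78257 : sm ge N7478 = N7805 := flp_e L78256
theorem L78258 : sm gg N7804 = N7805 := ded_28_1 L78253 L78245 L78237 L78246
theorem L78259 : sm gg N7805 = N7804 := flp_g L78258
theorem L78260 : sm gd N7805 = N7768 := ded_23_1 L77890 L77879 L77964 L77967 L78252
theorem L78261 : sm gd N7768 = N7805 := flp_d L78260
theorem L78262 : sm gd N7478 = N7806 := rfl
theorem L78263 : sm gd N7806 = N7478 := flp_d L78262
theorem L78264 : sm gf N7806 = N7785 := ded_23_2 L78066 L75273 L30650 L75529 L78262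
theorem L78265 : sm gf N7785 = N7806 := flp_f L78264
theorem L78266 : sm gc N7573 = N7806 := ded_30_0 L78263 L75531 L30655 L64523 L29277 L29257 L75164 L75365 L77602 L77595
theorem L78267 : sm gc N7806 = N7573 := flp_c L78266
theorem L78268 : sm gg N7478 = N7807 := rfl
theorem L78269 : sm gg N7807 = N7478 := flp_g L78268
theorem L78270 : sm gb N7807 = N7805 := ded_17_1 L78259 L78248 L78268
theorem L78271 : sm gb N7805 = N7807 := flp_b L78270
theorem L78272 : sm gc N7807 = N7482 := ded_21_1 L75546 L75532 L78268
theorem L78273 : sm gc N7482 = N7807 := flp_c L78272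
theorem L78274 : sm ge N7807 = N7804 := ded_26_1 L78258 L78256 L78268
theorem L78275 : sm ge N7804 = N7807 := flp_e L78274
theorem L78276 : sm gf N7803 = N7807 := ded_28_0 L78269 L75530 L75656 L78236
theorem L78277 : sm gf N7807 = N7803 := flp_f L78276
theorem L78278 : sm gd N7484 = N7808 := rfl
theorem L78279 : sm gd N7808 = N7484 := flp_d L78278
theorem L78280 : sm gf N7808 = N7521 := ded_23_2 L75846 L75557 L75550 L75559 L78278
theorem L78281 : sm gf N7521 = N7808 := flp_f L78280
theorem L78282 : sm gc N7808 = N7522 := ded_31_3 L75879 L75871 L74900 L74896 L74574 L75437 L75444 L77499 L77502 L75273 L30650 L30648 L30657 L75559 L78278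
theorem L78283 : sm gc N7522 = N7808 := flp_c L78282
theorem L78284 : sm ge N7525 = N7808 := ded_25_3 L78280 L75842 L75866
theorem L78285 : sm ge N7808 = N7525 := flp_e L78284
theorem L78286 : sm gb N7485 = N7809 := rfl
theorem L78287 : sm gb N7809 = N7485 := flp_b L78286
theorem L78288 : sm gd N7809 = N7666 := ded_14_2 L76940 L75570 L78286
theorem L78289 : sm gd N7666 = N7809 := flp_d L78288
theorem L78290 : sm gf N7809 = N7653 := ded_16_2 L76832 L75568 L78286
theorem L78291 : sm gf N7653 = N7809 := flp_f L78290
theorem L78292 : sm gg N7809 = N7743 := ded_17_2 L77671 L75571 L78286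
theorem L78293 : sm gg N7743 = N7809 := flp_g L78292
theorem L78294 : sm gc N7809 = N7487 := ded_13_2 L75588 L30673 L30666 L75565 L78286
theorem L78295 : sm gc N7487 = N7809 := flp_c L78294
theorem L78296 : sm ga N7743 = N7809 := ded_9_3 L78288 L76938 L77669
theorem L78297 : sm ga N7809 = N7743 := flp_a L78296
theorem L78298 : sm ga N7487 = N7810 := rfl
theorem L78299 : sm ga N7810 = N7487 := flp_a L78298
theorem L78300 : sm gc N7810 = N7743 := ded_8_2 L78296 L78294 L78298
theorem L78301 : sm gc N7743 = N7810 := flp_c L78300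
theorem L78302 : sm gd N7810 = N7786 := ded_9_2 L78076 L75590 L78298
theorem L78303 : sm gd N7786 = N7810 := flp_d L78302
theorem L78304 : sm gb N7810 = N7490 := ded_29_7 L75605 L72787 L29380 L30909 L75834 L75836 L78286 L78294 L78298
theorem L78305 : sm gb N7490 = N7810 := flp_b L78304
theorem L78306 : sm gg N7487 = N7810 := ded_21_0 L78300 L78293 L78294
theorem L78307 : sm gg N7810 = N7487 := flp_g L78306
theorem L78308 : sm ge N7774 = N7810 := ded_15_0 L78304 L75607 L77947
theorem L78309 : sm ge N7810 = N7774 := flp_e L78308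
theorem L78310 : sm ge N7487 = N7811 := rfl
theorem L78311 : sm ge N7811 = N7487 := flp_e L78310
theorem L78312 : sm ga N7811 = N7774 := ded_10_1 L78308 L78299 L78310
theorem L78313 : sm ga N7774 = N7811 := flp_a L78312
theorem L78314 : sm gb N7811 = N7488 := ded_15_1 L75592 L75587 L78310
theorem L78315 : sm gb N7488 = N7811 := flp_b L78314
theorem L78316 : sm gg N7811 = N7774 := ded_26_2 L78308 L78307 L78310
theorem L78317 : sm gg N7774 = N7811 := flp_g L78316
theorem L78318 : sm gd N7811 = N7774 := ded_22_1 L78308 L78302 L78081 L75590 L78310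
theorem L78319 : sm gd N7774 = N7811 := flp_d L78318
theorem L78320 : sm gf N7487 = N7812 := rfl
theorem L78321 : sm gf N7812 = N7487 := flp_f L78320
theorem L78322 : sm gb N7812 = N7489 := ded_16_1 L75600 L75587 L78320
theorem L78323 : sm gb N7489 = N7812 := flp_b L78322
theorem L78324 : sm gc N7812 = N7653 := ded_20_1 L78291 L78294 L78320
theorem L78325 : sm gc N7653 = N7812 := flp_c L78324
theorem L78326 : sm gf N7488 = N7813 := rfl
theorem L78327 : sm gf N7813 = N7488 := flp_f L78326
theorem L78328 : sm gc N7813 = N7491 := ded_20_1 L75612 L75594 L78326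
theorem L78329 : sm gc N7491 = N7813 := flp_c L78328
theorem L78330 : sm ge N7813 = N7489 := ded_25_1 L75600 L75591 L78326
theorem L78331 : sm ge N7489 = N7813 := flp_e L78330
theorem L78332 : sm gf N7490 = N7814 := rfl
theorem L78333 : sm gf N7814 = N7490 := flp_f L78332
theorem L78334 : sm ga N7814 = N7808 := ded_11_1 L78280 L75840 L78332
theorem L78335 : sm ga N7808 = N7814 := flp_a L78334
theorem L78336 : sm gc N7814 = N7492 := ded_20_1 L75620 L75606 L78332
theorem L78337 : sm gc N7492 = N7814 := flp_c L78336
theorem L78338 : sm ge N7814 = N7728 := ded_25_1 L77527 L75608 L78332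
theorem L78339 : sm ge N7728 = N7814 := flp_e L78338
theorem L78340 : sm gg N7814 = N7813 := ded_28_3 L78330 L75600 L75603 L78332
theorem L78341 : sm gg N7813 = N7814 := flp_g L78340
theorem L78342 : sm gd N7814 = N7756 := ded_23_1 L77763 L77750 L77761 L75609 L78332
theorem L78343 : sm gd N7756 = N7814 := flp_d L78342
theorem L78344 : sm gd N7494 = N7815 := rfl
theorem L78345 : sm gd N7815 = N7494 := flp_d L78344
theorem L78346 : sm ga N7815 = N7792 := ded_9_1 L78134 L75667 L78344
theorem L78347 : sm ga N7792 = N7815 := flp_a L78346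
theorem L78348 : sm gb N7815 = N7505 := ded_14_1 L75734 L75638 L78344
theorem L78349 : sm gb N7505 = N7815 := flp_b L78348
theorem L78350 : sm gc N7495 = N7816 := rfl
theorem L78351 : sm gc N7816 = N7495 := flp_c L78350
theorem L78352 : sm ga N7816 = N7798 := ded_8_1 L78198 L75660 L78350
theorem L78353 : sm ga N7798 = N7816 := flp_a L78352
theorem L78354 : sm ge N7816 = N7497 := ded_19_2 L75678 L75664 L78350
theorem L78355 : sm ge N7497 = N7816 := flp_e L78354
theorem L78356 : sm gb N7504 = N7816 := ded_29_7 L78351 L75663 L30721 L30640 L30647 L31084 L75989 L77866 L77861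
theorem L78357 : sm gb N7816 = N7504 := flp_b L78356
theorem L78358 : sm gd N7816 = N7798 := ded_30_9 L78353 L78351 L75658 L72895 L30689 L16404 L30688 L72896 L75657 L78350
theorem L78359 : sm gd N7798 = N7816 := flp_d L78358
theorem L78360 : sm gg N7495 = N7816 := ded_12_0 L78352 L78200 L75660
theorem L78361 : sm gg N7816 = N7495 := flp_g L78360
theorem L78362 : sm gf N7495 = N7817 := rfl
theorem L78363 : sm gf N7817 = N7495 := flp_f L78362
theorem L78364 : sm ga N7817 = N7800 := ded_11_1 L78209 L75660 L78362
theorem L78365 : sm ga N7800 = N7817 := flp_a L78364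
theorem L78366 : sm gb N7817 = N7503 := ded_16_1 L75724 L75662 L78362
theorem L78367 : sm gb N7503 = N7817 := flp_b L78366
theorem L78368 : sm ge N7817 = N7498 := ded_25_1 L75686 L75664 L78362
theorem L78369 : sm ge N7498 = N7817 := flp_e L78368
theorem L78370 : sm gf N7497 = N7818 := rfl
theorem L78371 : sm gf N7818 = N7497 := flp_f L78370
theorem L78372 : sm ga N7818 = N7799 := ded_11_1 L78203 L75680 L78370
theorem L78373 : sm ga N7799 = N7818 := flp_a L78372
theorem L78374 : sm gb N7818 = N7510 := ded_16_1 L75754 L75684 L78370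
theorem L78375 : sm gb N7510 = N7818 := flp_b L78374
theorem L78376 : sm gc N7818 = N7498 := ded_20_1 L75686 L75677 L78370
theorem L78377 : sm gc N7498 = N7818 := flp_c L78376
theorem L78378 : sm gg N7818 = N7817 := ded_28_3 L78368 L75686 L75681 L78370
theorem L78379 : sm gg N7817 = N7818 := flp_g L78378
theorem L78380 : sm gg N7498 = N7819 := rfl
theorem L78381 : sm gg N7819 = N7498 := flp_g L78380
theorem L78382 : sm ga N7819 = N7801 := ded_12_1 L78217 L75688 L78380
theorem L78383 : sm ga N7801 = N7819 := flp_a L78382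
theorem L78384 : sm gb N7819 = N7509 := ded_17_1 L75750 L75690 L78380
theorem L78385 : sm gb N7509 = N7819 := flp_b L78384
theorem L78386 : sm gc N7819 = N7817 := ded_21_1 L78379 L78376 L78380
theorem L78387 : sm gc N7817 = N7819 := flp_c L78386
theorem L78388 : sm ge N7819 = N7818 := ded_26_1 L78378 L78368 L78380
theorem L78389 : sm ge N7818 = N7819 := flp_e L78388
theorem L78390 : sm gf N7816 = N7819 := ded_28_0 L78381 L75686 L75681 L78355
theorem L78391 : sm gf N7819 = N7816 := flp_f L78390
theorem L78392 : sm gf N7499 = N7820 := rfl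
theorem L78393 : sm gf N7820 = N7499 := flp_f L78392
theorem L78394 : sm ga N7820 = N7569 := ded_11_1 L76189 L75696 L78392
theorem L78395 : sm ga N7569 = N7820 := flp_a L78394
theorem L78396 : sm gb N7820 = N7511 := ded_16_1 L75760 L75698 L78392
theorem L78397 : sm gb N7511 = N7820 := flp_b L78396
theorem L78398 : sm ge N7820 = N7569 := ded_25_1 L76189 L75700 L78392
theorem L78399 : sm ge N7569 = N7820 := flp_e L78398
theorem L78400 : sm gg N7820 = N7566 := ded_28_3 L76171 L76176 L76183 L78392
theorem L78401 : sm gg N7566 = N7820 := flp_g L78400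
theorem L78402 : sm gd N7820 = N7569 := ded_23_1 L76189 L75518 L30734 L75693 L78392
theorem L78403 : sm gd N7569 = N7820 := flp_d L78402
theorem L78404 : sm gb N7502 = N7821 := rfl
theorem L78405 : sm gb N7821 = N7502 := flp_b L78404
theorem L78406 : sm gd N7821 = N7541 := ded_14_2 L76064 L76067 L78404
theorem L78407 : sm gd N7541 = N7821 := flp_d L78406
theorem L78408 : sm ge N7821 = N7506 := ded_15_2 L75738 L75722 L78404
theorem L78409 : sm ge N7506 = N7821 := flp_e L78408
theorem L78410 : sm gc N7821 = N7504 := ded_13_2 L78356 L78351 L75661 L75719 L78404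
theorem L78411 : sm gc N7504 = N7821 := flp_c L78410
theorem L78412 : sm ga N7821 = N7542 := ded_7_1 L75988 L31083 L75521 L76025 L77854 L77849 L78404
theorem L78413 : sm ga N7542 = N7821 := flp_a L78412
theorem L78414 : sm gg N7502 = N7821 := ded_26_0 L78408 L75742 L75722
theorem L78415 : sm gg N7821 = N7502 := flp_g L78414
theorem L78416 : sm gf N7502 = N7822 := rfl
theorem L78417 : sm gf N7822 = N7502 := flp_f L78416
theorem L78418 : sm gc N7822 = N7503 := ded_20_1 L75724 L75719 L78416
theorem L78419 : sm gc N7503 = N7822 := flp_c L78418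
theorem L78420 : sm ge N7822 = N7508 := ded_25_1 L75746 L75722 L78416
theorem L78421 : sm ge N7508 = N7822 := flp_e L78420
theorem L78422 : sm gd N7822 = N7734 := ded_30_1 L77592 L74769 L28665 L15414 L15220 L28325 L74450 L77340 L77342 L78419
theorem L78423 : sm gd N7734 = N7822 := flp_d L78422
theorem L78424 : sm gd N7506 = N7823 := rfl
theorem L78425 : sm gd N7823 = N7506 := flp_d L78424
theorem L78426 : sm gb N7823 = N7507 := ded_14_1 L75744 L75737 L78424
theorem L78427 : sm gb N7507 = N7823 := flp_b L78426
theorem L78428 : sm gc N7823 = N7823 := ded_30_8 L78425 L77898 L77901 L75330 L75328 L61284 L31212 L73168 L75740 L78424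
theorem L78429 : sm gf N7506 = N7824 := rfl
theorem L78430 : sm gf N7824 = N7506 := flp_f L78429
theorem L78431 : sm gb N7824 = N7508 := ded_16_1 L75746 L75737 L78429
theorem L78432 : sm gb N7508 = N7824 := flp_b L78431
theorem L78433 : sm gc N7824 = N7510 := ded_20_1 L75754 L75740 L78429
theorem L78434 : sm gc N7510 = N7824 := flp_c L78433
theorem L78435 : sm gg N7824 = N7822 := ded_28_3 L78420 L75746 L75741 L78429
theorem L78436 : sm gg N7822 = N7824 := flp_g L78435
theorem L78437 : sm gd N7508 = N7825 := rfl
theorem L78438 : sm gd N7825 = N7508 := flp_d L78437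
theorem L78439 : sm ga N7825 = N7805 := ded_9_1 L78260 L77891 L78437
theorem L78440 : sm ga N7805 = N7825 := flp_a L78439
theorem L78441 : sm gf N7825 = N7545 := ded_23_2 L76015 L75915 L75744 L75745 L78437
theorem L78442 : sm gf N7545 = N7825 := flp_f L78441
theorem L78443 : sm gc N7752 = N7825 := ded_30_0 L78438 L75747 L72921 L75187 L75192 L72519 L75382 L78122 L78131 L77731
theorem L78444 : sm gc N7825 = N7752 := flp_c L78443
theorem L78445 : sm ge N7546 = N7825 := ded_10_0 L78439 L78256 L76019
theorem L78446 : sm ge N7825 = N7546 := flp_e L78445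
theorem L78447 : sm gg N7508 = N7826 := rfl
theorem L78448 : sm gg N7826 = N7508 := flp_g L78447
theorem L78449 : sm gb N7826 = N7822 := ded_17_1 L78436 L78431 L78447
theorem L78450 : sm gb N7822 = N7826 := flp_b L78449
theorem L78451 : sm gc N7826 = N7509 := ded_21_1 L75750 L75748 L78447
theorem L78452 : sm gc N7509 = N7826 := flp_c L78451
theorem L78453 : sm ge N7826 = N7824 := ded_26_1 L78435 L78420 L78447
theorem L78454 : sm ge N7824 = N7826 := flp_e L78453
theorem L78455 : sm gf N7821 = N7826 := ded_28_0 L78448 L75746 L75741 L78409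
theorem L78456 : sm gf N7826 = N7821 := flp_f L78455
theorem L78457 : sm gd N7512 = N7827 := rfl
theorem L78458 : sm gd N7827 = N7512 := flp_d L78457
theorem L78459 : sm ga N7827 = N7588 := ded_9_1 L77815 L77806 L78457
theorem L78460 : sm ga N7588 = N7827 := flp_a L78459
theorem L78461 : sm gb N7827 = N7513 := ded_14_1 L75775 L75769 L78457
theorem L78462 : sm gb N7513 = N7827 := flp_b L78461
theorem L78463 : sm gc N7713 = N7827 := ded_8_0 L78459 L77375 L77370
theorem L78464 : sm gc N7827 = N7713 := flp_c L78463
theorem L78465 : sm ge N7710 = N7827 := ded_29_9 L78459 L76325 L32576 L30111 L71649 L74179 L74181 L74507 L77337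
theorem L78466 : sm ge N7827 = N7710 := flp_e L78465
theorem L78467 : sm gc N7514 = N7828 := rfl
theorem L78468 : sm gc N7828 = N7514 := flp_c L78467
theorem L78469 : sm gg N7828 = N7720 := ded_21_2 L77434 L75787 L78467
theorem L78470 : sm gg N7720 = N7828 := flp_g L78469
theorem L78471 : sm gb N7551 = N7828 := ded_29_7 L78468 L75910 L75905 L75784 L76675 L76677 L77053 L78074 L78067
theorem L78472 : sm gb N7828 = N7551 := flp_b L78471
theorem L78473 : sm gd N7828 = N7544 := ded_30_9 L78173 L78176 L75489 L77228 L77233 L75789 L30864 L30852 L75782 L78467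
theorem L78474 : sm gd N7544 = N7828 := flp_d L78473
theorem L78475 : sm gb N7517 = N7829 := rfl
theorem L78476 : sm gb N7829 = N7517 := flp_b L78475
theorem L78477 : sm gd N7829 = N7555 := ded_14_2 L76079 L75808 L78475
theorem L78478 : sm gd N7555 = N7829 := flp_d L78477
theorem L78479 : sm ge N7829 = N7823 := ded_15_2 L78426 L75822 L78475
theorem L78480 : sm ge N7823 = N7829 := flp_e L78479
theorem L78481 : sm gg N7829 = N7527 := ded_17_2 L75883 L75806 L78475
theorem L78482 : sm gg N7527 = N7829 := flp_g L78481
theorem L78483 : sm gc N7829 = N7829 := ded_13_2 L78476 L75804 L30870 L75803 L78475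
theorem L78484 : sm gc N7519 = N7830 := rfl
theorem L78485 : sm gc N7830 = N7519 := flp_c L78484
theorem L78486 : sm ga N7830 = N7715 := ded_8_1 L77385 L75827 L78484
theorem L78487 : sm ga N7715 = N7830 := flp_a L78486
theorem L78488 : sm ge N7830 = N7520 := ded_19_2 L75835 L75831 L78484
theorem L78489 : sm ge N7520 = N7830 := flp_e L78488
theorem L78490 : sm gg N7830 = N7633 := ded_21_2 L76694 L75833 L78484
theorem L78491 : sm gg N7633 = N7830 := flp_g L78490
theorem L78492 : sm gd N7830 = N7684 := ded_30_9 L77071 L74511 L72677 L66097 L42152 L71608 L28104 L72783 L75824 L78484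
theorem L78493 : sm gd N7684 = N7830 := flp_d L78492
theorem L78494 : sm gb N7520 = N7831 := rfl
theorem L78495 : sm gb N7831 = N7520 := flp_b L78494
theorem L78496 : sm gc N7831 = N7523 := ded_13_2 L75855 L30974 L30909 L75834 L78494
theorem L78497 : sm gc N7523 = N7831 := flp_c L78496
theorem L78498 : sm gb N7521 = N7832 := rfl
theorem L78499 : sm gb N7832 = N7521 := flp_b L78498
theorem L78500 : sm gd N7832 = N7566 := ded_14_2 L76168 L75847 L78498
theorem L78501 : sm gd N7566 = N7832 := flp_d L78500
theorem L78502 : sm ge N7832 = N7523 := ded_15_2 L75855 L75843 L78498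
theorem L78503 : sm ge N7523 = N7832 := flp_e L78502
theorem L78504 : sm gg N7832 = N7567 := ded_17_2 L76174 L75845 L78498
theorem L78505 : sm gg N7567 = N7832 := flp_g L78504
theorem L78506 : sm ga N7832 = N7567 := ded_7_1 L76174 L31201 L75587 L78298 L78304 L75841 L78498
theorem L78507 : sm ga N7567 = N7832 := flp_a L78506
theorem L78508 : sm ga N7523 = N7833 := rfl
theorem L78509 : sm ga N7833 = N7523 := flp_a L78508
theorem L78510 : sm ge N7833 = N7567 := ded_10_2 L78507 L78502 L78508
theorem L78511 : sm ge N7567 = N7833 := flp_e L78510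
theorem L78512 : sm gb N7833 = N7524 := ded_7_2 L75858 L78315 L78312 L77948 L75202 L75854 L78508
theorem L78513 : sm gb N7524 = N7833 := flp_b L78512
theorem L78514 : sm gg N7523 = N7833 := ded_26_0 L78510 L78505 L78502
theorem L78515 : sm gg N7833 = N7523 := flp_g L78514
theorem L78516 : sm gd N7523 = N7833 := ded_22_5 L78510 L76173 L76170 L78501 L78502
theorem L78517 : sm gd N7833 = N7523 := flp_d L78516
theorem L78518 : sm gf N7523 = N7834 := rfl
theorem L78519 : sm gf N7834 = N7523 := flp_f L78518
theorem L78520 : sm gb N7834 = N7525 := ded_16_1 L75867 L75854 L78518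
theorem L78521 : sm gb N7525 = N7834 := flp_b L78520
theorem L78522 : sm gf N7524 = N7835 := rfl
theorem L78523 : sm gf N7835 = N7524 := flp_f L78522
theorem L78524 : sm ga N7835 = N7813 := ded_11_1 L78327 L75859 L78522
theorem L78525 : sm ga N7813 = N7835 := flp_a L78524
theorem L78526 : sm gc N7835 = N7526 := ded_20_1 L75871 L75862 L78522
theorem L78527 : sm gc N7526 = N7835 := flp_c L78526
theorem L78528 : sm ge N7835 = N7570 := ded_25_1 L76191 L75861 L78522
theorem L78529 : sm ge N7570 = N7835 := flp_e L78528
theorem L78530 : sm gg N7835 = N7808 := ded_28_3 L78285 L75867 L75864 L78522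
theorem L78531 : sm gg N7808 = N7835 := flp_g L78530
theorem L78532 : sm gd N7525 = N7836 := rfl
theorem L78533 : sm gd N7836 = N7525 := flp_d L78532
theorem L78534 : sm ga N7836 = N7707 := ded_9_1 L77531 L77525 L78532
theorem L78535 : sm ga N7707 = N7836 := flp_a L78534
theorem L78536 : sm ge N7836 = N7659 := ded_22_2 L76885 L75562 L78278 L78285 L78532
theorem L78537 : sm ge N7659 = N7836 := flp_e L78536
theorem L78538 : sm gg N7836 = N7598 := ded_24_2 L76399 L75758 L76199 L76197 L78532
theorem L78539 : sm gg N7598 = N7836 := flp_g L78538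
theorem L78540 : sm gc N7599 = N7836 := ded_30_0 L78533 L75868 L72940 L28579 L28605 L74708 L75021 L74414 L74426 L76403
theorem L78541 : sm gc N7836 = N7599 := flp_c L78540
theorem L78542 : sm ge N7527 = N7837 := rfl
theorem L78543 : sm ge N7837 = N7527 := flp_e L78542
theorem L78544 : sm ga N7837 = N7533 := ded_10_1 L77292 L77287 L78542
theorem L78545 : sm ga N7533 = N7837 := flp_a L78544
theorem L78546 : sm gb N7837 = N7528 := ded_15_1 L75886 L75882 L78542
theorem L78547 : sm gb N7528 = N7837 := flp_b L78546
theorem L78548 : sm gc N7837 = N7837 := ded_19_1 L78543 L75884 L78542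
theorem L78549 : sm gf N7837 = N7704 := ded_25_2 L77291 L75921 L78542
theorem L78550 : sm gf N7704 = N7837 := flp_f L78549
theorem L78551 : sm gg N7837 = N7823 := ded_26_2 L78480 L78481 L78542
theorem L78552 : sm gg N7823 = N7837 := flp_g L78551
theorem L78553 : sm gd N7837 = N7528 := ded_22_1 L75886 L74384 L77259 L77251 L78542
theorem L78554 : sm gd N7528 = N7837 := flp_d L78553
theorem L78555 : sm gf N7529 = N7838 := rfl
theorem L78556 : sm gf N7838 = N7529 := flp_f L78555
theorem L78557 : sm gb N7838 = N7806 := ded_16_1 L78264 L78069 L78555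
theorem L78558 : sm gb N7806 = N7838 := flp_b L78557
theorem L78559 : sm gc N7838 = N7530 := ded_20_1 L75898 L75893 L78555
theorem L78560 : sm gc N7530 = N7838 := flp_c L78559
theorem L78561 : sm gd N7838 = N7804 := ded_23_1 L78247 L75523 L75265 L75896 L78555
theorem L78562 : sm gd N7804 = N7838 := flp_d L78561
theorem L78563 : sm gg N7529 = N7839 := rfl
theorem L78564 : sm gg N7839 = N7529 := flp_g L78563
theorem L78565 : sm ga N7839 = N7828 := ded_12_1 L78469 L77431 L78563
theorem L78566 : sm ga N7828 = N7839 := flp_a L78565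
theorem L78567 : sm gc N7839 = N7531 := ded_21_1 L75904 L75893 L78563
theorem L78568 : sm gc N7531 = N7839 := flp_c L78567
theorem L78569 : sm ge N7839 = N7828 := ded_26_1 L78469 L77435 L78563
theorem L78570 : sm ge N7828 = N7839 := flp_e L78569
theorem L78571 : sm gd N7839 = N7796 := ded_24_1 L78180 L77320 L77313 L75896 L78563
theorem L78572 : sm gd N7796 = N7839 := flp_d L78571
theorem L78573 : sm gf N7531 = N7840 := rfl
theorem L78574 : sm gf N7840 = N7531 := flp_f L78573
theorem L78575 : sm ga N7840 = N7739 := ded_11_1 L77631 L75906 L78573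
theorem L78576 : sm ga N7739 = N7840 := flp_a L78575
theorem L78577 : sm gb N7840 = N7679 := ded_16_1 L77040 L75908 L78573
theorem L78578 : sm gb N7679 = N7840 := flp_b L78577
theorem L78579 : sm ge N7840 = N7739 := ded_25_1 L77631 L75910 L78573
theorem L78580 : sm ge N7739 = N7840 := flp_e L78579
theorem L78581 : sm gg N7840 = N7775 := ded_28_3 L77955 L75898 L75903 L78573
theorem L78582 : sm gg N7775 = N7840 := flp_g L78581
theorem L78583 : sm gd N7840 = N7709 := ded_23_1 L77323 L74448 L51890 L75912 L78573
theorem L78584 : sm gd N7709 = N7840 := flp_d L78583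
theorem L78585 : sm gb N7532 = N7841 := rfl
theorem L78586 : sm gb N7841 = N7532 := flp_b L78585
theorem L78587 : sm gd N7841 = N7769 := ded_14_2 L77899 L76015 L78585
theorem L78588 : sm gd N7769 = N7841 := flp_d L78587
theorem L78589 : sm gf N7841 = N7823 := ded_16_2 L78426 L75916 L78585
theorem L78590 : sm gf N7823 = N7841 := flp_f L78589
theorem L78591 : sm gg N7841 = N7533 := ded_17_2 L75920 L75918 L78585
theorem L78592 : sm gg N7533 = N7841 := flp_g L78591
theorem L78593 : sm gc N7841 = N7841 := ded_13_2 L78586 L75914 L31004 L75913 L78585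
theorem L78594 : sm ga N7823 = N7841 := ded_29_6 L78586 L75914 L75798 L75794 L75712 L77885 L77881 L78427 L78428
theorem L78595 : sm ga N7841 = N7823 := flp_a L78594
theorem L78596 : sm gg N7534 = N7842 := rfl
theorem L78597 : sm gg N7842 = N7534 := flp_g L78596
theorem L78598 : sm gb N7842 = N7767 := ded_17_1 L77888 L77279 L78596
theorem L78599 : sm gb N7767 = N7842 := flp_b L78598
theorem L78600 : sm gd N7842 = N7766 := ded_24_1 L77878 L76015 L75917 L75924 L78596
theorem L78601 : sm gd N7766 = N7842 := flp_d L78600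
theorem L78602 : sm gf N7542 = N7843 := rfl
theorem L78603 : sm gf N7843 = N7542 := flp_f L78602
theorem L78604 : sm ga N7843 = N7826 := ded_11_1 L78456 L78412 L78602
theorem L78605 : sm ga N7826 = N7843 := flp_a L78604
theorem L78606 : sm gb N7843 = N7546 := ded_16_1 L76017 L75989 L78602
theorem L78607 : sm gb N7546 = N7843 := flp_b L78606
theorem L78608 : sm gc N7843 = N7770 := ded_20_1 L77910 L77865 L78602
theorem L78609 : sm gc N7770 = N7843 := flp_c L78608
theorem L78610 : sm gg N7768 = N7843 := ded_28_1 L78603 L77857 L77851 L77889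
theorem L78611 : sm gg N7843 = N7768 := flp_g L78610
theorem L78612 : sm gd N7543 = N7844 := rfl
theorem L78613 : sm gd N7844 = N7543 := flp_d L78612
theorem L78614 : sm ga N7844 = N7829 := ded_9_1 L78477 L76085 L78612
theorem L78615 : sm ga N7829 = N7844 := flp_a L78614
theorem L78616 : sm gb N7844 = N7548 := ded_14_1 L76029 L75993 L78612
theorem L78617 : sm gb N7548 = N7844 := flp_b L78616
theorem L78618 : sm ge N7844 = N7841 := ded_22_2 L78587 L77903 L75987 L75990 L78612
theorem L78619 : sm ge N7841 = N7844 := flp_e L78618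
theorem L78620 : sm gf N7844 = N7829 := ded_23_2 L78477 L76087 L75479 L75997 L78612
theorem L78621 : sm gf N7829 = N7844 := flp_f L78620
theorem L78622 : sm gg N7844 = N7704 := ded_24_2 L77286 L74411 L76954 L76963 L78612
theorem L78623 : sm gg N7704 = N7844 := flp_g L78622
theorem L78624 : sm gc N7844 = N7844 := ded_30_0 L78613 L75994 L32593 L76351 L78169 L78164 L75498 L76083 L78478 L78615
theorem L78625 : sm gd N7546 = N7845 := rfl
theorem L78626 : sm gd N7845 = N7546 := flp_d L78625
theorem L78627 : sm ga N7845 = N7806 := ded_9_1 L78263 L76019 L78625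
theorem L78628 : sm ga N7806 = N7845 := flp_a L78627
theorem L78629 : sm ge N7845 = N7734 := ded_22_2 L78423 L78420 L78437 L78446 L78625
theorem L78630 : sm ge N7734 = N7845 := flp_e L78629
theorem L78631 : sm gf N7845 = N7551 := ded_23_2 L76057 L31092 L31081 L76016 L78625
theorem L78632 : sm gf N7551 = N7845 := flp_f L78631
theorem L78633 : sm gc N7735 = N7845 := ded_30_0 L78626 L76020 L75053 L64518 L16458 L16442 L30794 L73016 L76207 L77596
theorem L78634 : sm gc N7845 = N7735 := flp_c L78633
theorem L78635 : sm gg N7806 = N7845 := ded_28_1 L78631 L77576 L78072 L78265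
theorem L78636 : sm gg N7845 = N7806 := flp_g L78635
theorem L78637 : sm gg N7546 = N7846 := rfl
theorem L78638 : sm gg N7846 = N7546 := flp_g L78637
theorem L78639 : sm ga N7846 = N7807 := ded_12_1 L78269 L76019 L78637
theorem L78640 : sm ga N7807 = N7846 := flp_a L78639
theorem L78641 : sm gb N7846 = N7768 := ded_17_1 L78610 L78606 L78637
theorem L78642 : sm gb N7768 = N7846 := flp_b L78641
theorem L78643 : sm gc N7846 = N7754 := ded_21_1 L77743 L76021 L78637
theorem L78644 : sm gc N7754 = N7846 := flp_c L78643
theorem L78645 : sm gf N7766 = N7846 := ded_28_0 L78638 L76017 L76022 L77874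
theorem L78646 : sm gf N7846 = N7766 := flp_f L78645
theorem L78647 : sm gd N7846 = N7807 := ded_24_1 L78269 L78262 L78635 L78626 L78637
theorem L78648 : sm gd N7807 = N7846 := flp_d L78647
theorem L78649 : sm gf N7547 = N7847 := rfl
theorem L78650 : sm gf N7847 = N7547 := flp_f L78649
theorem L78651 : sm ga N7847 = N7804 := ded_11_1 L78247 L76025 L78649
theorem L78652 : sm ga N7804 = N7847 := flp_a L78651
theorem L78653 : sm gc N7847 = N7756 := ded_20_1 L77763 L76027 L78649
theorem L78654 : sm gc N7756 = N7847 := flp_c L78653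
theorem L78655 : sm ge N7847 = N7846 := ded_25_1 L78646 L77873 L78649
theorem L78656 : sm ge N7846 = N7847 := flp_e L78655
theorem L78657 : sm gg N7847 = N7825 := ded_28_3 L78446 L76017 L76022 L78649
theorem L78658 : sm gg N7825 = N7847 := flp_g L78657
theorem L78659 : sm gc N7551 = N7848 := rfl
theorem L78660 : sm gc N7848 = N7551 := flp_c L78659
theorem L78661 : sm ga N7848 = N7681 := ded_8_1 L78074 L78067 L78659
theorem L78662 : sm ga N7681 = N7848 := flp_a L78661
theorem L78663 : sm gf N7848 = N7735 := ded_20_2 L78633 L78631 L78659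
theorem L78664 : sm gf N7735 = N7848 := flp_f L78663
theorem L78665 : sm gb N7848 = N7630 := ded_13_1 L76676 L75785 L78467 L78472 L78659
theorem L78666 : sm gb N7630 = N7848 := flp_b L78665
theorem L78667 : sm ge N7736 = N7848 := ded_25_3 L78663 L77594 L77603
theorem L78668 : sm ge N7848 = N7736 := flp_e L78667
theorem L78669 : sm ge N7551 = N7849 := rfl
theorem L78670 : sm ge N7849 = N7551 := flp_e L78669
theorem L78671 : sm ga N7849 = N7732 := ded_10_1 L78072 L78067 L78669
theorem L78672 : sm ga N7732 = N7849 := flp_a L78671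
theorem L78673 : sm gb N7849 = N7839 := ded_15_1 L78569 L78472 L78669
theorem L78674 : sm gb N7839 = N7849 := flp_b L78673
theorem L78675 : sm gc N7849 = N7736 := ded_19_1 L78667 L78660 L78669
theorem L78676 : sm gc N7736 = N7849 := flp_c L78675
theorem L78677 : sm gf N7849 = N7734 := ded_25_2 L78630 L78631 L78669
theorem L78678 : sm gf N7734 = N7849 := flp_f L78677
theorem L78679 : sm gg N7849 = N7785 := ded_26_2 L78071 L77575 L78669
theorem L78680 : sm gg N7785 = N7849 := flp_g L78679
theorem L78681 : sm gd N7849 = N7726 := ded_22_1 L77509 L76094 L76044 L76056 L78669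
theorem L78682 : sm gd N7726 = N7849 := flp_d L78681
theorem L78683 : sm gg N7553 = N7850 := rfl
theorem L78684 : sm gg N7850 = N7553 := flp_g L78683
theorem L78685 : sm ga N7850 = N7730 := ded_12_1 L77553 L76414 L78683
theorem L78686 : sm ga N7730 = N7850 := flp_a L78685
theorem L78687 : sm gb N7850 = N7581 := ded_17_1 L76282 L76064 L78683
theorem L78688 : sm gb N7581 = N7850 := flp_b L78687
theorem L78689 : sm gc N7850 = N7554 := ded_21_1 L76069 L76060 L78683
theorem L78690 : sm gc N7554 = N7850 := flp_c L78689
theorem L78691 : sm ge N7850 = N7557 := ded_26_1 L76097 L76063 L78683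
theorem L78692 : sm ge N7557 = N7850 := flp_e L78691
theorem L78693 : sm gf N7578 = N7850 := ded_28_0 L78684 L77511 L77504 L76254
theorem L78694 : sm gf N7850 = N7578 := flp_f L78693
theorem L78695 : sm gd N7850 = N7581 := ded_24_1 L76282 L78407 L78415 L76066 L78683
theorem L78696 : sm gd N7581 = N7850 := flp_d L78695
theorem L78697 : sm gg N7555 = N7851 := rfl
theorem L78698 : sm gg N7851 = N7555 := flp_g L78697
theorem L78699 : sm ga N7851 = N7668 := ded_12_1 L76963 L76084 L78697
theorem L78700 : sm ga N7668 = N7851 := flp_a L78699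
theorem L78701 : sm gb N7851 = N7557 := ded_17_1 L76097 L76078 L78697
theorem L78702 : sm gb N7557 = N7851 := flp_b L78701
theorem L78703 : sm gc N7851 = N7778 := ded_21_1 L77990 L76083 L78697
theorem L78704 : sm gc N7778 = N7851 := flp_c L78703
theorem L78705 : sm ge N7851 = N7581 := ded_26_1 L76282 L76081 L78697
theorem L78706 : sm ge N7581 = N7851 := flp_e L78705
theorem L78707 : sm gf N7580 = N7851 := ded_28_0 L78698 L76087 L75477 L76268
theorem L78708 : sm gf N7851 = N7580 := flp_f L78707
theorem L78709 : sm gd N7851 = N7667 := ded_24_1 L77262 L77251 L78482 L78477 L78697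
theorem L78710 : sm gd N7667 = N7851 := flp_d L78709
theorem L78711 : sm ga N7558 = N7852 := rfl
theorem L78712 : sm ga N7852 = N7558 := flp_a L78711
theorem L78713 : sm gc N7852 = N7566 := ded_8_2 L76167 L76107 L78711
theorem L78714 : sm gc N7566 = N7852 := flp_c L78713
theorem L78715 : sm gb N7852 = N7559 := ded_7_2 L76110 L77003 L77001 L73961 L72866 L76104 L78711
theorem L78716 : sm gb N7559 = N7852 := flp_b L78715
theorem L78717 : sm ge N7852 = N7558 := ded_29_9 L78711 L78715 L76112 L72869 L72861 L75323 L75320 L76169 L78714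
theorem L78718 : sm ge N7558 = N7852 := flp_e L78717
theorem L78719 : sm gf N7558 = N7853 := rfl
theorem L78720 : sm gf N7853 = N7558 := flp_f L78719
theorem L78721 : sm gb N7853 = N7560 := ded_16_1 L76115 L76104 L78719
theorem L78722 : sm gb N7560 = N7853 := flp_b L78721
theorem L78723 : sm gc N7853 = N7568 := ded_20_1 L76177 L76107 L78719
theorem L78724 : sm gc N7568 = N7853 := flp_c L78723
theorem L78725 : sm gg N7613 = N7853 := ded_17_0 L78721 L76121 L76529
theorem L78726 : sm gg N7853 = N7613 := flp_g L78725
theorem L78727 : sm gg N7558 = N7854 := rfl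
theorem L78728 : sm gg N7854 = N7558 := flp_g L78727
theorem L78729 : sm gb N7854 = N7561 := ded_17_1 L76123 L76104 L78727
theorem L78730 : sm gb N7561 = N7854 := flp_b L78729
theorem L78731 : sm gc N7854 = N7569 := ded_21_1 L76185 L76107 L78727
theorem L78732 : sm gc N7569 = N7854 := flp_c L78731
theorem L78733 : sm gf N7802 = N7854 := ded_28_0 L78728 L78719 L78726 L78231
theorem L78734 : sm gf N7854 = N7802 := flp_f L78733
theorem L78735 : sm gd N7694 = N7854 := ded_14_0 L78729 L76129 L77178
theorem L78736 : sm gd N7854 = N7694 := flp_d L78735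
theorem L78737 : sm gf N7559 = N7855 := rfl
theorem L78738 : sm gf N7855 = N7559 := flp_f L78737
theorem L78739 : sm ga N7855 = N7649 := ded_11_1 L76813 L76111 L78737
theorem L78740 : sm ga N7649 = N7855 := flp_a L78739
theorem L78741 : sm gc N7855 = N7562 := ded_20_1 L76131 L76113 L78737
theorem L78742 : sm gc N7562 = N7855 := flp_c L78741
theorem L78743 : sm ge N7855 = N7560 := ded_25_1 L76115 L76108 L78737
theorem L78744 : sm ge N7560 = N7855 := flp_e L78743
theorem L78745 : sm gg N7855 = N7615 := ded_28_3 L76547 L76556 L76564 L78737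
theorem L78746 : sm gg N7615 = N7855 := flp_g L78745
theorem L78747 : sm gd N7855 = N7560 := ded_23_1 L76115 L73827 L76898 L76906 L78737
theorem L78748 : sm gd N7560 = N7855 := flp_d L78747
theorem L78749 : sm gd N7562 = N7856 := rfl
theorem L78750 : sm gd N7856 = N7562 := flp_d L78749
theorem L78751 : sm ga N7856 = N7676 := ded_9_1 L77025 L76133 L78749
theorem L78752 : sm ga N7676 = N7856 := flp_a L78751
theorem L78753 : sm gb N7856 = N7571 := ded_14_1 L76201 L76135 L78749
theorem L78754 : sm gb N7571 = N7856 := flp_b L78753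
theorem L78755 : sm ge N7856 = N7676 := ded_22_2 L77025 L73986 L72993 L76137 L78749
theorem L78756 : sm ge N7676 = N7856 := flp_e L78755
theorem L78757 : sm gf N7856 = N7856 := ded_23_2 L78750 L76131 L72877 L76130 L78749
theorem L78758 : sm gg N7856 = N7687 := ded_24_2 L77103 L77105 L77118 L76164 L78749
theorem L78759 : sm gg N7687 = N7856 := flp_g L78758
theorem L78760 : sm gc N7856 = N7856 := ded_30_0 L78750 L78742 L78747 L76118 L72992 L73703 L76815 L76808 L77024 L78752
theorem L78761 : sm gc N7567 = N7857 := rfl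
theorem L78762 : sm gc N7857 = N7567 := flp_c L78761
theorem L78763 : sm gb N7857 = N7633 := ded_13_1 L76694 L73619 L31203 L76175 L78761
theorem L78764 : sm gb N7633 = N7857 := flp_b L78763
theorem L78765 : sm gf N7634 = N7857 := ded_16_0 L78763 L76695 L76697
theorem L78766 : sm gf N7857 = N7634 := flp_f L78765
theorem L78767 : sm gf N7567 = N7858 := rfl
theorem L78768 : sm gf N7858 = N7567 := flp_f L78767
theorem L78769 : sm gb N7858 = N7570 := ded_16_1 L76191 L76175 L78767
theorem L78770 : sm gb N7570 = N7858 := flp_b L78769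
theorem L78771 : sm gc N7858 = N7634 := ded_20_1 L78765 L78762 L78767
theorem L78772 : sm gc N7634 = N7858 := flp_c L78771
theorem L78773 : sm gg N7834 = N7858 := ded_28_1 L78768 L78505 L78502 L78518
theorem L78774 : sm gg N7858 = N7834 := flp_g L78773
theorem L78775 : sm gd N7858 = N7818 := ded_23_1 L78371 L76180 L76177 L76172 L78767
theorem L78776 : sm gd N7818 = N7858 := flp_d L78775
theorem L78777 : sm gc N7571 = N7859 := rfl
theorem L78778 : sm gc N7859 = N7571 := flp_c L78777
theorem L78779 : sm gf N7859 = N7859 := ded_20_2 L78778 L76202 L78777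
theorem L78780 : sm gb N7859 = N7859 := ded_13_1 L78778 L78754 L78760 L78753 L78777
theorem L78781 : sm gg N7571 = N7860 := rfl
theorem L78782 : sm gg N7860 = N7571 := flp_g L78781
theorem L78783 : sm ga N7860 = N7632 := ded_12_1 L78111 L78103 L78781
theorem L78784 : sm ga N7632 = N7860 := flp_a L78783
theorem L78785 : sm gb N7860 = N7687 := ded_17_1 L78759 L78753 L78781
theorem L78786 : sm gb N7687 = N7860 := flp_b L78785
theorem L78787 : sm ge N7860 = N7632 := ded_26_1 L78111 L78107 L78781
theorem L78788 : sm ge N7632 = N7860 := flp_e L78787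
theorem L78789 : sm gf N7632 = N7860 := ded_28_0 L78782 L76202 L78781 L78787
theorem L78790 : sm gf N7860 = N7632 := flp_f L78789
theorem L78791 : sm gd N7860 = N7631 := ded_24_1 L76687 L75430 L31241 L76200 L78781
theorem L78792 : sm gd N7631 = N7860 := flp_d L78791
theorem L78793 : sm gf N7572 = N7861 := rfl
theorem L78794 : sm gf N7861 = N7572 := flp_f L78793
theorem L78795 : sm gb N7861 = N7682 := ded_16_1 L77686 L77688 L78793
theorem L78796 : sm gb N7682 = N7861 := flp_b L78795
theorem L78797 : sm gc N7861 = N7861 := ded_20_1 L78794 L76206 L78793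
theorem L78798 : sm gd N7861 = N7681 := ded_23_1 L77055 L76208 L31236 L76203 L78793
theorem L78799 : sm gd N7681 = N7861 := flp_d L78798
theorem L78800 : sm gb N7574 = N7862 := rfl
theorem L78801 : sm gb N7862 = N7574 := flp_b L78800
theorem L78802 : sm ge N7862 = N7588 := ded_15_2 L76325 L76212 L78800
theorem L78803 : sm ge N7588 = N7862 := flp_e L78802
theorem L78804 : sm gf N7862 = N7827 := ded_16_2 L78461 L76214 L78800
theorem L78805 : sm gf N7827 = N7862 := flp_f L78804
theorem L78806 : sm gc N7862 = N7680 := ded_13_2 L77050 L74011 L72969 L76209 L78800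
theorem L78807 : sm gc N7680 = N7862 := flp_c L78806
theorem L78808 : sm ga N7710 = N7862 := ded_29_6 L78801 L76210 L31457 L30111 L71649 L74179 L74181 L74507 L77337
theorem L78809 : sm ga N7862 = N7710 := flp_a L78808
theorem L78810 : sm gg N7574 = N7863 := rfl
theorem L78811 : sm gg N7863 = N7574 := flp_g L78810
theorem L78812 : sm gc N7863 = N7575 := ded_21_1 L76216 L76209 L78810
theorem L78813 : sm gc N7575 = N7863 := flp_c L78812
theorem L78814 : sm ge N7863 = N7589 := ded_26_1 L76327 L76212 L78810
theorem L78815 : sm ge N7589 = N7863 := flp_e L78814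
theorem L78816 : sm gf N7707 = N7863 := ded_28_0 L78811 L76213 L76985 L77309
theorem L78817 : sm gf N7863 = N7707 := flp_f L78816
theorem L78818 : sm gd N7863 = N7813 := ded_24_1 L78341 L78342 L77768 L77734 L78810
theorem L78819 : sm gd N7813 = N7863 := flp_d L78818
theorem L78820 : sm gb N7576 = N7864 := rfl
theorem L78821 : sm gb N7864 = N7576 := flp_b L78820
theorem L78822 : sm gd N7864 = N7600 := ded_14_2 L76411 L76232 L78820
theorem L78823 : sm gd N7600 = N7864 := flp_d L78822
theorem L78824 : sm ge N7864 = N7842 := ded_15_2 L78598 L77883 L78820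
theorem L78825 : sm ge N7842 = N7864 := flp_e L78824
theorem L78826 : sm gg N7864 = N7698 := ded_17_2 L77219 L76230 L78820
theorem L78827 : sm gg N7698 = N7864 := flp_g L78826
theorem L78828 : sm gd N7577 = N7865 := rfl
theorem L78829 : sm gd N7865 = N7577 := flp_d L78828
theorem L78830 : sm ga N7865 = N7865 := ded_9_1 L78829 L76235 L78828
theorem L78831 : sm gb N7865 = N7583 := ded_14_1 L76287 L76237 L78828
theorem L78832 : sm gb N7583 = N7865 := flp_b L78831
theorem L78833 : sm ge N7865 = N7865 := ded_22_2 L78829 L76234 L72662 L76233 L78828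
theorem L78834 : sm gf N7865 = N7603 := ded_23_2 L76431 L73092 L72989 L76241 L78828
theorem L78835 : sm gf N7603 = N7865 := flp_f L78834
theorem L78836 : sm gg N7865 = N7865 := ded_24_2 L78829 L76242 L37709 L76243 L78828
theorem L78837 : sm gc N7865 = N7865 := ded_30_0 L78829 L76238 L72988 L73138 L37709 L73137 L72989 L76239 L78828 L78830
theorem L78838 : sm gf N7586 = N7866 := rfl
theorem L78839 : sm gf N7866 = N7586 := flp_f L78838
theorem L78840 : sm gb N7866 = N7866 := ded_16_1 L78839 L76314 L78838
theorem L78841 : sm gc N7866 = N7587 := ded_20_1 L76317 L76308 L78838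
theorem L78842 : sm gc N7587 = N7866 := flp_c L78841
theorem L78843 : sm ge N7866 = N7795 := ded_25_1 L78160 L76311 L78838
theorem L78844 : sm ge N7795 = N7866 := flp_e L78843
theorem L78845 : sm gg N7588 = N7867 := rfl
theorem L78846 : sm gg N7867 = N7588 := flp_g L78845
theorem L78847 : sm gb N7867 = N7589 := ded_17_1 L76327 L76324 L78845
theorem L78848 : sm gb N7589 = N7867 := flp_b L78847
theorem L78849 : sm gf N7591 = N7868 := rfl
theorem L78850 : sm gf N7868 = N7591 := flp_f L78849
theorem L78851 : sm ga N7868 = N7866 := ded_11_1 L78839 L76340 L78849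
theorem L78852 : sm ga N7866 = N7868 := flp_a L78851
theorem L78853 : sm gb N7868 = N7868 := ded_16_1 L78850 L76341 L78849
theorem L78854 : sm gc N7868 = N7593 := ded_20_1 L76353 L76343 L78849
theorem L78855 : sm gc N7593 = N7868 := flp_c L78854
theorem L78856 : sm ge N7868 = N7592 := ded_25_1 L76348 L76337 L78849
theorem L78857 : sm ge N7592 = N7868 := flp_e L78856
theorem L78858 : sm gg N7868 = N7866 := ded_28_3 L78843 L78160 L76345 L78849
theorem L78859 : sm gg N7866 = N7868 := flp_g L78858
theorem L78860 : sm gd N7868 = N7859 := ded_31_2 L78778 L78781 L78790 L76692 L73600 L71829 L30059 L30055 L16114 L16140 L16145 L30112 L75462 L76345 L78849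
theorem L78861 : sm gd N7859 = N7868 := flp_d L78860
theorem L78862 : sm gg N7594 = N7869 := rfl
theorem L78863 : sm gg N7869 = N7594 := flp_g L78862
theorem L78864 : sm ga N7869 = N7626 := ded_12_1 L77232 L77223 L78862
theorem L78865 : sm ga N7626 = N7869 := flp_a L78864
theorem L78866 : sm gb N7869 = N7596 := ded_17_1 L76377 L76364 L78862
theorem L78867 : sm gb N7596 = N7869 := flp_b L78866
theorem L78868 : sm gc N7869 = N7597 := ded_21_1 L76381 L76367 L78862
theorem L78869 : sm gc N7597 = N7869 := flp_c L78868
theorem L78870 : sm ge N7869 = N7596 := ded_26_1 L76377 L76368 L78862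
theorem L78871 : sm ge N7596 = N7869 := flp_e L78870
theorem L78872 : sm gf N7702 = N7869 := ded_28_0 L78863 L77254 L77261 L77272
theorem L78873 : sm gf N7869 = N7702 := flp_f L78872
theorem L78874 : sm gd N7869 = N7784 := ded_24_1 L78056 L78029 L78040 L77946 L78862
theorem L78875 : sm gd N7784 = N7869 := flp_d L78874
theorem L78876 : sm gg N7595 = N7870 := rfl
theorem L78877 : sm gg N7870 = N7595 := flp_g L78876
theorem L78878 : sm ga N7870 = N7864 := ded_12_1 L78826 L77217 L78876
theorem L78879 : sm ga N7864 = N7870 := flp_a L78878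
theorem L78880 : sm gb N7870 = N7782 := ded_17_1 L78040 L77943 L78876
theorem L78881 : sm gb N7782 = N7870 := flp_b L78880
theorem L78882 : sm gc N7870 = N7842 := ded_21_1 L78597 L76375 L78876
theorem L78883 : sm gc N7842 = N7870 := flp_c L78882
theorem L78884 : sm gf N7864 = N7870 := ded_28_0 L78877 L76372 L78596 L78825
theorem L78885 : sm gf N7870 = N7864 := flp_f L78884
theorem L78886 : sm gd N7780 = N7870 := ded_9_0 L78878 L78822 L78010
theorem L78887 : sm gd N7870 = N7780 := flp_d L78886
theorem L78888 : sm gd N7596 = N7871 := rfl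
theorem L78889 : sm gd N7871 = N7596 := flp_d L78888
theorem L78890 : sm ga N7871 = N7729 := ded_9_1 L77535 L76968 L78888
theorem L78891 : sm ga N7729 = N7871 := flp_a L78890
theorem L78892 : sm gb N7871 = N7784 := ded_14_1 L78875 L78866 L78888
theorem L78893 : sm gb N7784 = N7871 := flp_b L78892
theorem L78894 : sm ge N7871 = N7781 := ded_22_2 L78027 L78062 L78875 L78870 L78888
theorem L78895 : sm ge N7781 = N7871 := flp_e L78894
theorem L78896 : sm gf N7871 = N7708 := ded_23_2 L77321 L78707 L78709 L76952 L78888
theorem L78897 : sm gf N7708 = N7871 := flp_f L78896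
theorem L78898 : sm gg N7871 = N7780 := ded_24_2 L78886 L78877 L76371 L76376 L78888
theorem L78899 : sm gg N7780 = N7871 := flp_g L78898
theorem L78900 : sm gc N7871 = N7709 := ded_31_3 L77330 L77301 L74419 L74409 L74411 L76966 L77536 L77541 L77473 L77464 L74611 L77256 L77261 L76952 L78888
theorem L78901 : sm gc N7709 = N7871 := flp_c L78900
theorem L78902 : sm gb N7598 = N7872 := rfl
theorem L78903 : sm gb N7872 = N7598 := flp_b L78902
theorem L78904 : sm gd N7872 = N7817 := ded_14_2 L78366 L76398 L78902
theorem L78905 : sm gd N7817 = N7872 := flp_d L78904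
theorem L78906 : sm ge N7872 = N7815 := ded_15_2 L78348 L76395 L78902
theorem L78907 : sm ge N7815 = N7872 := flp_e L78906
theorem L78908 : sm gf N7872 = N7792 := ded_16_2 L78133 L76397 L78902
theorem L78909 : sm gf N7792 = N7872 := flp_f L78908
theorem L78910 : sm gb N7604 = N7873 := rfl
theorem L78911 : sm gb N7873 = N7604 := flp_b L78910
theorem L78912 : sm gd N7873 = N7642 := ded_14_2 L76757 L76446 L78910
theorem L78913 : sm gd N7642 = N7873 := flp_d L78912
theorem L78914 : sm gf N7873 = N7831 := ded_16_2 L78495 L76443 L78910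
theorem L78915 : sm gf N7831 = N7873 := flp_f L78914
theorem L78916 : sm gg N7873 = N7634 := ded_17_2 L76698 L76445 L78910
theorem L78917 : sm gg N7634 = N7873 := flp_g L78916
theorem L78918 : sm gc N7873 = N7834 := ded_13_2 L78520 L75868 L73217 L76438 L78910
theorem L78919 : sm gc N7834 = N7873 := flp_c L78918
theorem L78920 : sm ge N7604 = N7874 := rfl
theorem L78921 : sm ge N7874 = N7604 := flp_e L78920
theorem L78922 : sm ga N7874 = N7654 := ded_10_1 L76834 L76441 L78920
theorem L78923 : sm ga N7654 = N7874 := flp_a L78922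
theorem L78924 : sm gc N7874 = N7605 := ded_19_1 L76449 L76438 L78920
theorem L78925 : sm gc N7605 = N7874 := flp_c L78924
theorem L78926 : sm gf N7874 = N7830 := ded_25_2 L78488 L76443 L78920
theorem L78927 : sm gf N7830 = N7874 := flp_f L78926
theorem L78928 : sm gg N7874 = N7635 := ded_26_2 L76700 L76445 L78920
theorem L78929 : sm gg N7635 = N7874 := flp_g L78928
theorem L78930 : sm gd N7874 = N7643 := ded_22_1 L76763 L73663 L73664 L76446 L78920
theorem L78931 : sm gd N7643 = N7874 := flp_d L78930
theorem L78932 : sm gb N7606 = N7875 := rfl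
theorem L78933 : sm gb N7875 = N7606 := flp_b L78932
theorem L78934 : sm ge N7875 = N7658 := ded_15_2 L76876 L76463 L78932
theorem L78935 : sm ge N7658 = N7875 := flp_e L78934
theorem L78936 : sm gf N7875 = N7610 := ded_16_2 L76501 L76465 L78932
theorem L78937 : sm gf N7610 = N7875 := flp_f L78936
theorem L78938 : sm gg N7875 = N7657 := ded_17_2 L76864 L76467 L78932
theorem L78939 : sm gg N7657 = N7875 := flp_g L78938
theorem L78940 : sm gc N7875 = N7610 := ded_13_2 L76501 L73311 L73227 L76458 L78932
theorem L78941 : sm gc N7610 = N7875 := flp_c L78940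
theorem L78942 : sm ge N7610 = N7876 := rfl
theorem L78943 : sm ge N7876 = N7610 := flp_e L78942
theorem L78944 : sm ga N7876 = N7875 := ded_10_1 L78934 L76874 L78942
theorem L78945 : sm ga N7875 = N7876 := flp_a L78944
theorem L78946 : sm gb N7876 = N7611 := ded_15_1 L76505 L76500 L78942
theorem L78947 : sm gb N7611 = N7876 := flp_b L78946
theorem L78948 : sm gc N7876 = N7658 := ded_19_1 L78935 L78940 L78942
theorem L78949 : sm gc N7658 = N7876 := flp_c L78948
theorem L78950 : sm gf N7876 = N7658 := ded_25_2 L78935 L78936 L78942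
theorem L78951 : sm gf N7658 = N7876 := flp_f L78950
theorem L78952 : sm gg N7876 = N7656 := ded_26_2 L76856 L76503 L78942
theorem L78953 : sm gg N7656 = N7876 := flp_g L78952
theorem L78954 : sm gd N7653 = N7876 := ded_14_0 L78946 L76515 L76831
theorem L78955 : sm gd N7876 = N7653 := flp_d L78954
theorem L78956 : sm gf N7613 = N7877 := rfl
theorem L78957 : sm gf N7877 = N7613 := flp_f L78956
theorem L78958 : sm ga N7877 = N7854 := ded_11_1 L78734 L78228 L78956
theorem L78959 : sm ga N7854 = N7877 := flp_a L78958
theorem L78960 : sm gb N7877 = N7616 := ded_16_1 L76557 L76529 L78956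
theorem L78961 : sm gb N7616 = N7877 := flp_b L78960
theorem L78962 : sm gc N7877 = N7820 := ded_20_1 L78393 L76530 L78956
theorem L78963 : sm gc N7820 = N7877 := flp_c L78962
theorem L78964 : sm ge N7877 = N7854 := ded_25_1 L78734 L78230 L78956
theorem L78965 : sm ge N7854 = N7877 := flp_e L78964
theorem L78966 : sm gg N7877 = N7852 := ded_28_3 L78717 L78719 L78726 L78956
theorem L78967 : sm gg N7852 = N7877 := flp_g L78966
theorem L78968 : sm gd N7877 = N7621 := ded_23_1 L76603 L73485 L73361 L76526 L78956
theorem L78969 : sm gd N7621 = N7877 := flp_d L78968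
theorem L78970 : sm gg N7620 = N7878 := rfl
theorem L78971 : sm gg N7878 = N7620 := flp_g L78970
theorem L78972 : sm gb N7878 = N7624 := ded_17_1 L76622 L76601 L78970
theorem L78973 : sm gb N7624 = N7878 := flp_b L78972
theorem L78974 : sm ge N7878 = N7622 := ded_26_1 L76607 L76598 L78970
theorem L78975 : sm ge N7622 = N7878 := flp_e L78974
theorem L78976 : sm gf N7878 = N7740 := ded_28_2 L77639 L77169 L77165 L78970
theorem L78977 : sm gf N7740 = N7878 := flp_f L78976
theorem L78978 : sm gd N7878 = N7634 := ded_24_1 L78917 L78912 L76848 L76841 L78970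
theorem L78979 : sm gd N7634 = N7878 := flp_d L78978
theorem L78980 : sm gf N7622 = N7879 := rfl
theorem L78981 : sm gf N7879 = N7622 := flp_f L78980
theorem L78982 : sm ga N7879 = N7695 := ded_11_1 L77189 L76747 L78980
theorem L78983 : sm ga N7695 = N7879 := flp_a L78982
theorem L78984 : sm gb N7879 = N7625 := ded_16_1 L76634 L76609 L78980
theorem L78985 : sm gb N7625 = N7879 := flp_b L78984
theorem L78986 : sm gc N7879 = N7641 := ded_20_1 L77190 L77187 L78980
theorem L78987 : sm gc N7641 = N7879 := flp_c L78986
theorem L78988 : sm ge N7879 = N7740 := ded_25_1 L78977 L78974 L78980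
theorem L78989 : sm ge N7740 = N7879 := flp_e L78988
theorem L78990 : sm gg N7879 = N7693 := ded_28_3 L77170 L76603 L76606 L78980
theorem L78991 : sm gg N7693 = N7879 := flp_g L78990
theorem L78992 : sm gd N7879 = N7831 := ded_23_1 L78915 L78912 L76760 L76744 L78980
theorem L78993 : sm gd N7831 = N7879 := flp_d L78992
theorem L78994 : sm gc N7627 = N7880 := rfl
theorem L78995 : sm gc N7880 = N7627 := flp_c L78994
theorem L78996 : sm ga N7880 = N7863 := ded_8_1 L78812 L76656 L78994
theorem L78997 : sm ga N7863 = N7880 := flp_a L78996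
theorem L78998 : sm ge N7880 = N7793 := ded_19_2 L78142 L76660 L78994
theorem L78999 : sm ge N7793 = N7880 := flp_e L78998
theorem L79000 : sm gf N7880 = N7836 := ded_20_2 L78541 L76662 L78994
theorem L79001 : sm gf N7836 = N7880 := flp_f L79000
theorem L79002 : sm gg N7880 = N7791 := ded_21_2 L78123 L76664 L78994
theorem L79003 : sm gg N7791 = N7880 := flp_g L79002
theorem L79004 : sm gd N7880 = N7835 := ded_30_9 L78524 L78328 L75617 L78060 L78875 L78868 L76388 L73545 L76653 L78994
theorem L79005 : sm gd N7835 = N7880 := flp_d L79004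
theorem L79006 : sm gb N7628 = N7881 := rfl
theorem L79007 : sm gb N7881 = N7628 := flp_b L79006
theorem L79008 : sm gb N7629 = N7882 := rfl
theorem L79009 : sm gb N7882 = N7629 := flp_b L79008
theorem L79010 : sm gg N7882 = N7660 := ded_17_2 L76887 L76674 L79008
theorem L79011 : sm gg N7660 = N7882 := flp_g L79010
theorem L79012 : sm gc N7882 = N7815 := ded_13_2 L78348 L75736 L73557 L76669 L79008
theorem L79013 : sm gc N7815 = N7882 := flp_c L79012
theorem L79014 : sm ga N7882 = N7690 := ded_7_1 L77136 L74181 L74507 L77338 L77050 L76672 L79008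
theorem L79015 : sm ga N7690 = N7882 := flp_a L79014
theorem L79016 : sm gd N7630 = N7883 := rfl
theorem L79017 : sm gd N7883 = N7630 := flp_d L79016
theorem L79018 : sm ga N7883 = N7682 := ded_9_1 L77058 L76678 L79016
theorem L79019 : sm ga N7682 = N7883 := flp_a L79018
theorem L79020 : sm ge N7883 = N7682 := ded_22_2 L77058 L77059 L77068 L77035 L79016
theorem L79021 : sm ge N7682 = N7883 := flp_e L79020
theorem L79022 : sm gf N7883 = N7677 := ded_23_2 L77029 L73994 L76796 L76805 L79016
theorem L79023 : sm gf N7677 = N7883 := flp_f L79022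
theorem L79024 : sm gg N7883 = N7682 := ded_24_2 L77058 L77038 L77067 L77065 L79016
theorem L79025 : sm gg N7682 = N7883 := flp_g L79024
theorem L79026 : sm gc N7744 = N7883 := ded_30_2 L79017 L76676 L73561 L25207 L73560 L76675 L79016 L79018 L77695 L77700
theorem L79027 : sm gc N7883 = N7744 := flp_c L79026
theorem L79028 : sm gc N7632 = N7884 := rfl
theorem L79029 : sm gc N7884 = N7632 := flp_c L79028
theorem L79030 : sm gb N7884 = N7884 := ded_13_1 L79029 L77403 L77410 L77402 L79028
theorem L79031 : sm ga N7634 = N7885 := rfl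
theorem L79032 : sm ga N7885 = N7634 := flp_a L79031
theorem L79033 : sm gb N7885 = N7874 := ded_29_4 L78924 L76450 L75614 L78329 L78330 L76193 L78770 L78771 L79031
theorem L79034 : sm gb N7874 = N7885 := flp_b L79033
theorem L79035 : sm ge N7873 = N7885 := ded_29_9 L79032 L76698 L73624 L28689 L74703 L77523 L77525 L78521 L78919
theorem L79036 : sm ge N7885 = N7873 := flp_e L79035
theorem L79037 : sm ge N7634 = N7886 := rfl
theorem L79038 : sm ge N7886 = N7634 := flp_e L79037
theorem L79039 : sm ga N7886 = N7873 := ded_10_1 L79035 L79032 L79037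
theorem L79040 : sm ga N7873 = N7886 := flp_a L79039
theorem L79041 : sm gb N7886 = N7635 := ded_15_1 L76700 L76697 L79037
theorem L79042 : sm gb N7635 = N7886 := flp_b L79041
theorem L79043 : sm gg N7886 = N7885 := ded_26_2 L79036 L78916 L79037
theorem L79044 : sm gg N7885 = N7886 := flp_g L79043
theorem L79045 : sm gd N7886 = N7639 := ded_22_1 L76741 L76744 L78975 L78978 L79037
theorem L79046 : sm gd N7639 = N7886 := flp_d L79045
theorem L79047 : sm ge N7641 = N7887 := rfl
theorem L79048 : sm ge N7887 = N7641 := flp_e L79047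
theorem L79049 : sm ga N7887 = N7878 := ded_10_1 L78974 L76748 L79047
theorem L79050 : sm ga N7878 = N7887 := flp_a L79049
theorem L79051 : sm gb N7887 = N7643 := ded_15_1 L76763 L76750 L79047
theorem L79052 : sm gb N7643 = N7887 := flp_b L79051
theorem L79053 : sm gc N7887 = N7740 := ded_19_1 L78989 L78986 L79047
theorem L79054 : sm gc N7740 = N7887 := flp_c L79053
theorem L79055 : sm gg N7887 = N7692 := ded_26_2 L77153 L76752 L79047
theorem L79056 : sm gg N7692 = N7887 := flp_g L79055
theorem L79057 : sm gd N7887 = N7885 := ded_22_1 L79036 L78912 L76754 L76745 L79047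
theorem L79058 : sm gd N7885 = N7887 := flp_d L79057
theorem L79059 : sm gg N7644 = N7888 := rfl
theorem L79060 : sm gg N7888 = N7644 := flp_g L79059
theorem L79061 : sm ga N7888 = N7647 := ded_12_1 L76791 L76773 L79059
theorem L79062 : sm ga N7647 = N7888 := flp_a L79061
theorem L79063 : sm gb N7888 = N7649 := ded_17_1 L76807 L76775 L79059
theorem L79064 : sm gb N7649 = N7888 := flp_b L79063
theorem L79065 : sm ge N7888 = N7647 := ded_26_1 L76791 L76777 L79059
theorem L79066 : sm ge N7647 = N7888 := flp_e L79065
theorem L79067 : sm gf N7673 = N7888 := ded_28_0 L79060 L77020 L77013 L77004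
theorem L79068 : sm gf N7888 = N7673 := flp_f L79067
theorem L79069 : sm gd N7888 = N7647 := ded_24_1 L76791 L73678 L73676 L76770 L79059
theorem L79070 : sm gd N7647 = N7888 := flp_d L79069
theorem L79071 : sm gf N7645 = N7889 := rfl
theorem L79072 : sm gf N7889 = N7645 := flp_f L79071
theorem L79073 : sm ga N7889 = N7788 := ded_11_1 L78100 L77720 L79071
theorem L79074 : sm ga N7788 = N7889 := flp_a L79073
theorem L79075 : sm gb N7889 = N7772 := ded_16_1 L77924 L76781 L79071
theorem L79076 : sm gb N7772 = N7889 := flp_b L79075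
theorem L79077 : sm gc N7889 = N7646 := ded_20_1 L76785 L76778 L79071
theorem L79078 : sm gc N7646 = N7889 := flp_c L79077
theorem L79079 : sm ge N7889 = N7788 := ded_25_1 L78100 L77724 L79071
theorem L79080 : sm ge N7788 = N7889 := flp_e L79079
theorem L79081 : sm gg N7889 = N7786 := ded_28_3 L78081 L78083 L78092 L79071
theorem L79082 : sm gg N7786 = N7889 := flp_g L79081
theorem L79083 : sm gd N7889 = N7788 := ded_23_1 L78100 L77719 L75110 L76782 L79071
theorem L79084 : sm gd N7788 = N7889 := flp_d L79083
theorem L79085 : sm ga N7653 = N7890 := rfl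
theorem L79086 : sm ga N7890 = N7653 := flp_a L79085
theorem L79087 : sm gd N7890 = N7875 := ded_9_2 L78945 L78955 L79085
theorem L79088 : sm gd N7875 = N7890 := flp_d L79087
theorem L79089 : sm gf N7890 = N7743 := ded_11_2 L78296 L78290 L79085
theorem L79090 : sm gf N7743 = N7890 := flp_f L79089
theorem L79091 : sm gb N7890 = N7738 := ded_7_2 L77617 L79042 L79039 L78911 L76440 L76831 L79085
theorem L79092 : sm gb N7738 = N7890 := flp_b L79091
theorem L79093 : sm ge N7737 = N7890 := ded_22_0 L79087 L78934 L76878 L76933 L77612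
theorem L79094 : sm ge N7890 = N7737 := flp_e L79093
theorem L79095 : sm ge N7653 = N7891 := rfl
theorem L79096 : sm ge N7891 = N7653 := flp_e L79095
theorem L79097 : sm ga N7891 = N7737 := ded_10_1 L79093 L79086 L79095
theorem L79098 : sm ga N7737 = N7891 := flp_a L79097
theorem L79099 : sm gb N7891 = N7654 := ded_15_1 L76834 L76831 L79095
theorem L79100 : sm gb N7654 = N7891 := flp_b L79099
theorem L79101 : sm gg N7891 = N7890 := ded_26_2 L79094 L77613 L79095
theorem L79102 : sm gg N7890 = N7891 := flp_g L79101
theorem L79103 : sm gd N7891 = N7719 := ded_22_1 L77427 L76918 L78942 L78955 L79095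
theorem L79104 : sm gd N7719 = N7891 := flp_d L79103
theorem L79105 : sm gb N7659 = N7892 := rfl
theorem L79106 : sm gb N7892 = N7659 := flp_b L79105
theorem L79107 : sm gd N7892 = N7801 := ded_14_2 L78218 L76884 L79105
theorem L79108 : sm gd N7801 = N7892 := flp_d L79107
theorem L79109 : sm gg N7892 = N7815 := ded_17_2 L78348 L76883 L79105
theorem L79110 : sm gg N7815 = N7892 := flp_g L79109
theorem L79111 : sm gc N7892 = N7660 := ded_13_2 L76887 L73825 L73821 L76880 L79105
theorem L79112 : sm gc N7660 = N7892 := flp_c L79111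
theorem L79113 : sm ga N7660 = N7893 := rfl
theorem L79114 : sm ga N7893 = N7660 := flp_a L79113
theorem L79115 : sm gd N7893 = N7852 := ded_9_2 L78712 L76889 L79113
theorem L79116 : sm gd N7852 = N7893 := flp_d L79115
theorem L79117 : sm gg N7893 = N7690 := ded_12_2 L79015 L79010 L79113
theorem L79118 : sm gg N7690 = N7893 := flp_g L79117
theorem L79119 : sm gb N7893 = N7662 := ded_7_2 L76900 L77348 L77359 L77010 L73964 L76886 L79113
theorem L79120 : sm gb N7662 = N7893 := flp_b L79119
theorem L79121 : sm gf N7660 = N7893 := ded_31_1 L79115 L78713 L78401 L78393 L75694 L30731 L30726 L16420 L30688 L72896 L72930 L75635 L78344 L79013 L79010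
theorem L79122 : sm gf N7893 = N7660 := flp_f L79121
theorem L79123 : sm ge N7881 = N7893 := ded_15_0 L79119 L76904 L79006
theorem L79124 : sm ge N7893 = N7881 := flp_e L79123
theorem L79125 : sm ge N7660 = N7894 := rfl
theorem L79126 : sm ge N7894 = N7660 := flp_e L79125
theorem L79127 : sm ga N7894 = N7881 := ded_10_1 L79123 L79114 L79125
theorem L79128 : sm ga N7881 = N7894 := flp_a L79127
theorem L79129 : sm gb N7894 = N7661 := ded_15_1 L76891 L76886 L79125
theorem L79130 : sm gb N7661 = N7894 := flp_b L79129
theorem L79131 : sm gf N7894 = N7881 := ded_25_2 L79123 L79122 L79125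
theorem L79132 : sm gf N7881 = N7894 := flp_f L79131
theorem L79133 : sm gd N7894 = N7881 := ded_22_1 L79123 L79115 L78717 L76889 L79125
theorem L79134 : sm gd N7881 = N7894 := flp_d L79133
theorem L79135 : sm gb N7670 = N7895 := rfl
theorem L79136 : sm gb N7895 = N7670 := flp_b L79135
theorem L79137 : sm gf N7895 = N7867 := ded_16_2 L78847 L76983 L79135
theorem L79138 : sm gf N7867 = N7895 := flp_f L79137
theorem L79139 : sm gg N7895 = N7827 := ded_17_2 L78461 L76985 L79135
theorem L79140 : sm gg N7827 = N7895 := flp_g L79139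
theorem L79141 : sm gc N7895 = N7671 := ded_13_2 L76987 L73949 L73945 L76978 L79135
theorem L79142 : sm gc N7671 = N7895 := flp_c L79141
theorem L79143 : sm ga N7867 = N7895 := ded_12_3 L79139 L78459 L78845
theorem L79144 : sm ga N7895 = N7867 := flp_a L79143
theorem L79145 : sm ga N7671 = N7896 := rfl
theorem L79146 : sm ga N7896 = N7671 := flp_a L79145
theorem L79147 : sm gc N7896 = N7867 := ded_8_2 L79143 L79141 L79145
theorem L79148 : sm gc N7867 = N7896 := flp_c L79147
theorem L79149 : sm ge N7896 = N7674 := ded_10_2 L77358 L77352 L79145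
theorem L79150 : sm ge N7674 = N7896 := flp_e L79149
theorem L79151 : sm gg N7896 = N7714 := ded_12_2 L77370 L77364 L79145
theorem L79152 : sm gg N7714 = N7896 := flp_g L79151
theorem L79153 : sm gb N7896 = N7672 := ded_7_2 L76990 L79130 L79127 L79007 L76667 L76986 L79145
theorem L79154 : sm gb N7672 = N7896 := flp_b L79153
theorem L79155 : sm gf N7671 = N7896 := ded_20_0 L79147 L79138 L79141
theorem L79156 : sm gf N7896 = N7671 := flp_f L79155
theorem L79157 : sm gd N7671 = N7896 := ded_22_5 L79149 L77009 L77004 L77351 L77352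
theorem L79158 : sm gd N7896 = N7671 := flp_d L79157
theorem L79159 : sm gc N7674 = N7897 := rfl
theorem L79160 : sm gc N7897 = N7674 := flp_c L79159
theorem L79161 : sm ge N7897 = N7867 := ded_19_2 L79148 L79149 L79159
theorem L79162 : sm ge N7867 = N7897 := flp_e L79161
theorem L79163 : sm gg N7897 = N7862 := ded_21_2 L78806 L77051 L79159
theorem L79164 : sm gg N7862 = N7897 := flp_g L79163
theorem L79165 : sm gb N7897 = N7863 := ded_13_1 L78812 L76217 L73966 L77011 L79159
theorem L79166 : sm gb N7863 = N7897 := flp_b L79165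
theorem L79167 : sm ge N7681 = N7898 := rfl
theorem L79168 : sm ge N7898 = N7681 := flp_e L79167
theorem L79169 : sm ga N7898 = N7736 := ded_10_1 L78667 L78661 L79167
theorem L79170 : sm ga N7736 = N7898 := flp_a L79169
theorem L79171 : sm gb N7898 = N7683 := ded_15_1 L77060 L77053 L79167
theorem L79172 : sm gb N7683 = N7898 := flp_b L79171
theorem L79173 : sm gc N7898 = N7732 := ded_19_1 L78072 L78073 L79167
theorem L79174 : sm gc N7732 = N7898 := flp_c L79173
theorem L79175 : sm gf N7898 = N7727 := ded_25_2 L77519 L77056 L79167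
theorem L79176 : sm gf N7727 = N7898 := flp_f L79175
theorem L79177 : sm gg N7898 = N7848 := ded_26_2 L78668 L77608 L79167
theorem L79178 : sm gg N7848 = N7898 := flp_g L79177
theorem L79179 : sm gd N7736 = N7898 := ded_30_9 L79169 L78676 L78681 L77507 L74686 L72697 L74687 L77508 L78682 L78675
theorem L79180 : sm gd N7898 = N7736 := flp_d L79179
theorem L79181 : sm gb N7684 = N7899 := rfl
theorem L79182 : sm gb N7899 = N7684 := flp_b L79181
theorem L79183 : sm ge N7899 = N7690 := ded_15_2 L77136 L77074 L79181
theorem L79184 : sm ge N7690 = N7899 := flp_e L79183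
theorem L79185 : sm gf N7899 = N7882 := ded_16_2 L79009 L77076 L79181
theorem L79186 : sm gf N7882 = N7899 := flp_f L79185
theorem L79187 : sm gg N7899 = N7881 := ded_17_2 L79007 L77078 L79181
theorem L79188 : sm gg N7881 = N7899 := flp_g L79187
theorem L79189 : sm gf N7690 = N7900 := rfl
theorem L79190 : sm gf N7900 = N7690 := flp_f L79189
theorem L79191 : sm ga N7900 = N7899 := ded_11_1 L79185 L79014 L79189
theorem L79192 : sm ga N7899 = N7900 := flp_a L79191
theorem L79193 : sm gb N7900 = N7691 := ded_16_1 L77138 L77135 L79189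
theorem L79194 : sm gb N7691 = N7900 := flp_b L79193
theorem L79195 : sm gc N7900 = N7872 := ded_20_1 L78908 L78136 L79189
theorem L79196 : sm gc N7872 = N7900 := flp_c L79195
theorem L79197 : sm ge N7900 = N7882 := ded_25_1 L79186 L79183 L79189
theorem L79198 : sm ge N7882 = N7900 := flp_e L79197
theorem L79199 : sm gg N7900 = N7894 := ded_28_3 L79126 L79121 L79117 L79189
theorem L79200 : sm gg N7894 = N7900 := flp_g L79199
theorem L79201 : sm gd N7900 = N7857 := ded_23_1 L78766 L78979 L78976 L77637 L79189
theorem L79202 : sm gd N7857 = N7900 := flp_d L79201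
theorem L79203 : sm gg N7694 = N7901 := rfl
theorem L79204 : sm gg N7901 = N7694 := flp_g L79203
theorem L79205 : sm ga N7901 = N7740 := ded_12_1 L77639 L77176 L79203
theorem L79206 : sm ga N7740 = N7901 := flp_a L79205
theorem L79207 : sm gb N7901 = N7696 := ded_17_1 L77192 L77178 L79203
theorem L79208 : sm gb N7696 = N7901 := flp_b L79207
theorem L79209 : sm gc N7901 = N7878 := ded_21_1 L78971 L77180 L79203
theorem L79210 : sm gc N7878 = N7901 := flp_c L79209
theorem L79211 : sm ge N7901 = N7695 := ded_26_1 L77184 L77173 L79203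
theorem L79212 : sm ge N7695 = N7901 := flp_e L79211
theorem L79213 : sm gf N7887 = N7901 := ded_28_0 L79204 L77181 L76752 L79047
theorem L79214 : sm gf N7901 = N7887 := flp_f L79213
theorem L79215 : sm gd N7901 = N7882 := ded_24_1 L79010 L76888 L78727 L78736 L79203
theorem L79216 : sm gd N7882 = N7901 := flp_d L79215
theorem L79217 : sm gd N7695 = N7902 := rfl
theorem L79218 : sm gd N7902 = N7695 := flp_d L79217
theorem L79219 : sm ga N7902 = N7831 := ded_9_1 L78993 L78982 L79217
theorem L79220 : sm ga N7831 = N7902 := flp_a L79219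
theorem L79221 : sm gb N7902 = N7697 := ded_14_1 L77204 L77186 L79217
theorem L79222 : sm gb N7697 = N7902 := flp_b L79221
theorem L79223 : sm ge N7902 = N7857 := ded_22_2 L79202 L79197 L79216 L79211 L79217
theorem L79224 : sm ge N7857 = N7902 := flp_e L79223
theorem L79225 : sm gf N7902 = N7886 := ded_23_2 L79045 L76731 L76745 L77190 L79217
theorem L79226 : sm gf N7886 = N7902 := flp_f L79225
theorem L79227 : sm gg N7902 = N7831 := ded_24_2 L78993 L78990 L77171 L77183 L79217
theorem L79228 : sm gg N7831 = N7902 := flp_g L79227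
theorem L79229 : sm gc N7833 = N7902 := ded_30_2 L79218 L77187 L76743 L76736 L76744 L77188 L79217 L79219 L78496 L78516
theorem L79230 : sm gc N7902 = N7833 := flp_c L79229
theorem L79231 : sm gb N7707 = N7903 := rfl
theorem L79232 : sm gb N7903 = N7707 := flp_b L79231
theorem L79233 : sm ge N7903 = N7895 := ded_15_2 L79136 L77309 L79231
theorem L79234 : sm ge N7895 = N7903 := flp_e L79233
theorem L79235 : sm gf N7903 = N7897 := ded_16_2 L79165 L78817 L79231
theorem L79236 : sm gf N7897 = N7903 := flp_f L79235
theorem L79237 : sm gg N7903 = N7710 := ded_17_2 L77333 L77311 L79231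
theorem L79238 : sm gg N7710 = N7903 := flp_g L79237
theorem L79239 : sm gc N7903 = N7712 := ded_13_2 L77349 L74479 L74429 L77306 L79231
theorem L79240 : sm gc N7712 = N7903 := flp_c L79239
theorem L79241 : sm ga N7897 = N7903 := ded_29_6 L79232 L77307 L74430 L73942 L73820 L73824 L73965 L77011 L79159
theorem L79242 : sm ga N7903 = N7897 := flp_a L79241
theorem L79243 : sm gd N7710 = N7904 := rfl
theorem L79244 : sm gd N7904 = N7710 := flp_d L79243
theorem L79245 : sm gb N7904 = N7711 := ded_14_1 L77341 L77332 L79243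
theorem L79246 : sm gb N7711 = N7904 := flp_b L79245
theorem L79247 : sm ge N7904 = N7762 := ded_22_2 L77835 L77790 L78457 L78466 L79243
theorem L79248 : sm ge N7762 = N7904 := flp_e L79247
theorem L79249 : sm gf N7904 = N7759 := ded_23_2 L77793 L77804 L77816 L77335 L79243
theorem L79250 : sm gf N7759 = N7904 := flp_f L79249
theorem L79251 : sm gc N7711 = N7905 := rfl
theorem L79252 : sm gc N7905 = N7711 := flp_c L79251
theorem L79253 : sm ga N7905 = N7822 := ded_8_1 L78418 L77343 L79251
theorem L79254 : sm ga N7822 = N7905 := flp_a L79253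
theorem L79255 : sm ge N7905 = N7768 := ded_19_2 L77893 L77345 L79251
theorem L79256 : sm ge N7768 = N7905 := flp_e L79255
theorem L79257 : sm gf N7905 = N7764 := ded_20_2 L77848 L77347 L79251
theorem L79258 : sm gf N7764 = N7905 := flp_f L79257
theorem L79259 : sm gb N7847 = N7905 := ded_29_7 L79252 L77344 L75156 L75690 L78377 L78372 L78204 L78251 L78652
theorem L79260 : sm gb N7905 = N7847 := flp_b L79259
theorem L79261 : sm gd N7713 = N7906 := rfl
theorem L79262 : sm gd N7906 = N7713 := flp_d L79261
theorem L79263 : sm gb N7906 = N7715 := ded_14_1 L77379 L77363 L79261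
theorem L79264 : sm gb N7715 = N7906 := flp_b L79263
theorem L79265 : sm ge N7906 = N7809 := ded_22_2 L78288 L76944 L76927 L77360 L79261
theorem L79266 : sm ge N7809 = N7906 := flp_e L79265
theorem L79267 : sm gf N7906 = N7891 := ded_23_2 L79103 L77665 L77667 L77367 L79261
theorem L79268 : sm gf N7891 = N7906 := flp_f L79267
theorem L79269 : sm gc N7811 = N7906 := ded_13_0 L79263 L77385 L74581 L75594 L78315
theorem L79270 : sm gc N7906 = N7811 := flp_c L79269
theorem L79271 : sm gd N7714 = N7907 := rfl
theorem L79272 : sm gd N7907 = N7714 := flp_d L79271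
theorem L79273 : sm ga N7907 = N7906 := ded_9_1 L79262 L77371 L79271
theorem L79274 : sm ga N7906 = N7907 := flp_a L79273
theorem L79275 : sm gb N7907 = N7716 := ded_14_1 L77387 L77373 L79271
theorem L79276 : sm gb N7716 = N7907 := flp_b L79275
theorem L79277 : sm ge N7907 = N7743 := ded_22_2 L77670 L77664 L77667 L77377 L79271
theorem L79278 : sm ge N7743 = N7907 := flp_e L79277
theorem L79279 : sm gf N7907 = N7737 := ded_23_2 L77611 L76934 L76927 L77368 L79271
theorem L79280 : sm gf N7737 = N7907 := flp_f L79279
theorem L79281 : sm gg N7907 = N7906 := ded_24_2 L79262 L77364 L79157 L79151 L79271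
theorem L79282 : sm gg N7906 = N7907 := flp_g L79281
theorem L79283 : sm gc N7774 = N7907 := ded_30_2 L79272 L77374 L77815 L77810 L77816 L77375 L79271 L79273 L79270 L78318
theorem L79284 : sm gc N7907 = N7774 := flp_c L79283
theorem L79285 : sm gf N7720 = N7908 := rfl
theorem L79286 : sm gf N7908 = N7720 := flp_f L79285
theorem L79287 : sm ga N7908 = N7838 := ded_11_1 L78556 L77432 L79285
theorem L79288 : sm ga N7838 = N7908 := flp_a L79287
theorem L79289 : sm gc N7908 = N7775 := ded_20_1 L77950 L77433 L79285
theorem L79290 : sm gc N7775 = N7908 := flp_c L79289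
theorem L79291 : sm ge N7908 = N7838 := ded_25_1 L78556 L77436 L79285
theorem L79292 : sm ge N7838 = N7908 := flp_e L79291
theorem L79293 : sm gd N7908 = N7847 := ded_23_1 L78650 L77460 L77450 L77429 L79285
theorem L79294 : sm gd N7847 = N7908 := flp_d L79293
theorem L79295 : sm gc N7727 = N7909 := rfl
theorem L79296 : sm gc N7909 = N7727 := flp_c L79295
theorem L79297 : sm ga N7909 = N7734 := ded_8_1 L77592 L77516 L79295
theorem L79298 : sm ga N7734 = N7909 := flp_a L79297
theorem L79299 : sm ge N7909 = N7806 := ded_19_2 L78267 L77520 L79295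
theorem L79300 : sm ge N7806 = N7909 := flp_e L79299
theorem L79301 : sm gf N7909 = N7732 := ded_20_2 L79174 L79175 L79295
theorem L79302 : sm gf N7732 = N7909 := flp_f L79301
theorem L79303 : sm gg N7909 = N7734 := ded_21_2 L77592 L77522 L79295
theorem L79304 : sm gg N7734 = N7909 := flp_g L79303
theorem L79305 : sm gb N7909 = N7908 := ded_13_1 L79289 L77953 L77415 L77518 L79295
theorem L79306 : sm gb N7908 = N7909 := flp_b L79305
theorem L79307 : sm gd N7909 = N7905 := ded_30_9 L79253 L78418 L76398 L76391 L32784 L52848 L28541 L74688 L77513 L79295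
theorem L79308 : sm gd N7905 = N7909 := flp_d L79307
theorem L79309 : sm gb N7728 = N7910 := rfl
theorem L79310 : sm gb N7910 = N7728 := flp_b L79309
theorem L79311 : sm gd N7910 = N7903 := ded_14_2 L79232 L77531 L79309
theorem L79312 : sm gd N7903 = N7910 := flp_d L79311
theorem L79313 : sm gf N7910 = N7774 := ded_16_2 L77948 L77528 L79309
theorem L79314 : sm gf N7774 = N7910 := flp_f L79313
theorem L79315 : sm gg N7910 = N7812 := ded_17_2 L78322 L77530 L79309
theorem L79316 : sm gg N7812 = N7910 := flp_g L79315
theorem L79317 : sm gc N7910 = N7737 := ded_13_2 L77610 L74781 L74703 L77523 L79309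
theorem L79318 : sm gc N7737 = N7910 := flp_c L79317
theorem L79319 : sm gb N7734 = N7911 := rfl
theorem L79320 : sm gb N7911 = N7734 := flp_b L79319
theorem L79321 : sm gd N7911 = N7826 := ded_14_2 L78449 L78422 L79319
theorem L79322 : sm gd N7826 = N7911 := flp_d L79321
theorem L79323 : sm gf N7911 = N7839 := ded_16_2 L78674 L78677 L79319
theorem L79324 : sm gf N7839 = N7911 := flp_f L79323
theorem L79325 : sm gg N7911 = N7908 := ded_17_2 L79306 L79303 L79319
theorem L79326 : sm gg N7908 = N7911 := flp_g L79325
theorem L79327 : sm gc N7911 = N7840 := ded_13_2 L78577 L77590 L77581 L77591 L79319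
theorem L79328 : sm gc N7840 = N7911 := flp_c L79327
theorem L79329 : sm gc N7739 = N7912 := rfl
theorem L79330 : sm gc N7912 = N7739 := flp_c L79329
theorem L79331 : sm ga N7912 = N7911 := ded_8_1 L79327 L78575 L79329
theorem L79332 : sm ga N7911 = N7912 := flp_a L79331
theorem L79333 : sm ge N7912 = N7911 := ded_19_2 L79327 L78579 L79329
theorem L79334 : sm ge N7911 = N7912 := flp_e L79333
theorem L79335 : sm gf N7912 = N7828 := ded_20_2 L78468 L77632 L79329
theorem L79336 : sm gf N7828 = N7912 := flp_f L79335
theorem L79337 : sm gg N7912 = N7838 := ded_21_2 L78559 L77634 L79329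
theorem L79338 : sm gg N7838 = N7912 := flp_g L79337
theorem L79339 : sm gb N7912 = N7845 := ded_13_1 L78634 L77597 L76803 L77630 L79329
theorem L79340 : sm gb N7845 = N7912 := flp_b L79339
theorem L79341 : sm gd N7912 = N7843 := ded_30_9 L78604 L78451 L78147 L78142 L75460 L76973 L77536 L77541 L77627 L79329
theorem L79342 : sm gd N7843 = N7912 := flp_d L79341
theorem L79343 : sm gf N7747 = N7913 := rfl
theorem L79344 : sm gf N7913 = N7747 := flp_f L79343
theorem L79345 : sm gb N7913 = N7770 := ded_16_1 L77910 L77863 L79343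
theorem L79346 : sm gb N7770 = N7913 := flp_b L79345
theorem L79347 : sm gc N7913 = N7749 := ded_20_1 L77709 L77702 L79343
theorem L79348 : sm gc N7749 = N7913 := flp_c L79347
theorem L79349 : sm gg N7913 = N7762 := ded_28_3 L79248 L79249 L77802 L79343
theorem L79350 : sm gg N7762 = N7913 := flp_g L79349
theorem L79351 : sm gd N7867 = N7913 := ded_14_0 L79345 L77911 L78848
theorem L79352 : sm gd N7913 = N7867 := flp_d L79351
theorem L79353 : sm gf N7748 = N7914 := rfl
theorem L79354 : sm gf N7914 = N7748 := flp_f L79353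
theorem L79355 : sm ga N7914 = N7904 := ded_11_1 L79249 L77794 L79353
theorem L79356 : sm ga N7904 = N7914 := flp_a L79355
theorem L79357 : sm gb N7914 = N7752 := ded_16_1 L77729 L77707 L79353
theorem L79358 : sm gb N7752 = N7914 := flp_b L79357
theorem L79359 : sm ge N7914 = N7749 := ded_25_1 L77709 L77704 L79353
theorem L79360 : sm ge N7749 = N7914 := flp_e L79359
theorem L79361 : sm gd N7914 = N7862 := ded_23_1 L78804 L78458 L77780 L77781 L79353
theorem L79362 : sm gd N7862 = N7914 := flp_d L79361
theorem L79363 : sm gg N7749 = N7915 := rfl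
theorem L79364 : sm gg N7915 = N7749 := flp_g L79363
theorem L79365 : sm ga N7915 = N7913 := ded_12_1 L79349 L77831 L79363
theorem L79366 : sm ga N7913 = N7915 := flp_a L79365
theorem L79367 : sm gb N7915 = N7754 := ded_17_1 L77743 L77711 L79363
theorem L79368 : sm gb N7754 = N7915 := flp_b L79367
theorem L79369 : sm gc N7915 = N7762 := ded_21_1 L79350 L79347 L79363
theorem L79370 : sm gc N7762 = N7915 := flp_c L79369
theorem L79371 : sm gf N7761 = N7915 := ded_28_0 L79364 L77709 L77714 L77822
theorem L79372 : sm gf N7915 = N7761 := flp_f L79371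
theorem L79373 : sm gd N7915 = N7895 := ded_24_1 L79139 L78458 L75771 L77713 L79363
theorem L79374 : sm gd N7895 = N7915 := flp_d L79373
theorem L79375 : sm gd N7750 = N7916 := rfl
theorem L79376 : sm gd N7916 = N7750 := flp_d L79375
theorem L79377 : sm ga N7916 = N7787 := ded_9_1 L78090 L77839 L79375
theorem L79378 : sm ga N7787 = N7916 := flp_a L79377
theorem L79379 : sm gb N7916 = N7755 := ded_14_1 L77751 L77717 L79375
theorem L79380 : sm gb N7755 = N7916 := flp_b L79379
theorem L79381 : sm ge N7916 = N7787 := ded_22_2 L78090 L77845 L77826 L77821 L79375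
theorem L79382 : sm ge N7787 = N7916 := flp_e L79381
theorem L79383 : sm gg N7916 = N7751 := ded_24_2 L77719 L75040 L75035 L77714 L79375
theorem L79384 : sm gg N7751 = N7916 := flp_g L79383
theorem L79385 : sm gc N7888 = N7916 := ded_30_2 L79376 L77800 L77793 L75088 L77792 L77801 L79375 L79377 L78087 L79070
theorem L79386 : sm gc N7916 = N7888 := flp_c L79385
theorem L79387 : sm gf N7786 = N7916 := ded_31_1 L79376 L77800 L77802 L79343 L79352 L79148 L79151 L77369 L76926 L76924 L73861 L73854 L76789 L79078 L79081
theorem L79388 : sm gf N7916 = N7786 := flp_f L79387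
theorem L79389 : sm gf N7750 = N7917 := rfl
theorem L79390 : sm gf N7917 = N7750 := flp_f L79389
theorem L79391 : sm gb N7917 = N7756 := ded_16_1 L77763 L77717 L79389
theorem L79392 : sm gb N7756 = N7917 := flp_b L79391
theorem L79393 : sm gc N7917 = N7904 := ded_20_1 L79249 L77801 L79389
theorem L79394 : sm gc N7904 = N7917 := flp_c L79393
theorem L79395 : sm ge N7917 = N7915 := ded_25_1 L79372 L77821 L79389
theorem L79396 : sm ge N7915 = N7917 := flp_e L79395
theorem L79397 : sm gg N7917 = N7914 := ded_28_3 L79359 L77709 L77714 L79389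
theorem L79398 : sm gg N7914 = N7917 := flp_g L79397
theorem L79399 : sm gf N7763 = N7918 := rfl
theorem L79400 : sm gf N7918 = N7763 := flp_f L79399
theorem L79401 : sm ga N7918 = N7917 := ded_11_1 L79390 L77840 L79399
theorem L79402 : sm ga N7917 = N7918 := flp_a L79401
theorem L79403 : sm gb N7918 = N7771 := ded_16_1 L77914 L77842 L79399
theorem L79404 : sm gb N7771 = N7918 := flp_b L79403
theorem L79405 : sm gc N7918 = N7914 := ded_20_1 L79354 L77844 L79399
theorem L79406 : sm gc N7914 = N7918 := flp_c L79405
theorem L79407 : sm ge N7918 = N7913 := ded_25_1 L79344 L77846 L79399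
theorem L79408 : sm ge N7913 = N7918 := flp_e L79407
theorem L79409 : sm gg N7918 = N7904 := ded_28_3 L79247 L77830 L77837 L79399
theorem L79410 : sm gg N7904 = N7918 := flp_g L79409
theorem L79411 : sm gd N7918 = N7812 := ded_23_1 L78321 L75589 L78083 L78090 L79399
theorem L79412 : sm gd N7812 = N7918 := flp_d L79411
theorem L79413 : sm gf N7769 = N7919 := rfl
theorem L79414 : sm gf N7919 = N7769 := flp_f L79413
theorem L79415 : sm ga N7919 = N7824 := ded_11_1 L78430 L77898 L79413
theorem L79416 : sm ga N7824 = N7919 := flp_a L79415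
theorem L79417 : sm gb N7919 = N7825 := ded_16_1 L78441 L77900 L79413
theorem L79418 : sm gb N7825 = N7919 := flp_b L79417
theorem L79419 : sm gc N7919 = N7771 := ded_20_1 L77914 L77902 L79413
theorem L79420 : sm gc N7771 = N7919 := flp_c L79419
theorem L79421 : sm ge N7919 = N7843 := ded_25_1 L78603 L77904 L79413
theorem L79422 : sm ge N7843 = N7919 := flp_e L79421
theorem L79423 : sm gg N7919 = N7905 := ded_28_3 L79255 L77890 L77895 L79413
theorem L79424 : sm gg N7905 = N7919 := flp_g L79423
theorem L79425 : sm gd N7919 = N7824 := ded_23_1 L78430 L78424 L78590 L78587 L79413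
theorem L79426 : sm gd N7824 = N7919 := flp_d L79425
theorem L79427 : sm gb N7776 = N7920 := rfl
theorem L79428 : sm gb N7920 = N7776 := flp_b L79427
theorem L79429 : sm gd N7920 = N7803 := ded_14_2 L78240 L77968 L79427
theorem L79430 : sm gd N7803 = N7920 := flp_d L79429
theorem L79431 : sm ge N7920 = N7870 := ded_15_2 L78880 L78033 L79427
theorem L79432 : sm ge N7870 = N7920 := flp_e L79431
theorem L79433 : sm gf N7920 = N7842 := ded_16_2 L78598 L77964 L79427
theorem L79434 : sm gf N7842 = N7920 := flp_f L79433
theorem L79435 : sm gg N7920 = N7777 := ded_17_2 L77970 L77966 L79427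
theorem L79436 : sm gg N7777 = N7920 := flp_g L79435
theorem L79437 : sm gc N7920 = N7864 := ded_13_2 L78821 L76226 L75227 L77959 L79427
theorem L79438 : sm gc N7864 = N7920 := flp_c L79437
theorem L79439 : sm ga N7920 = N7842 := ded_7_1 L78598 L77881 L78427 L78594 L78586 L77962 L79427
theorem L79440 : sm ga N7842 = N7920 := flp_a L79439
theorem L79441 : sm gc N7789 = N7921 := rfl
theorem L79442 : sm gc N7921 = N7789 := flp_c L79441
theorem L79443 : sm ga N7921 = N7859 := ded_8_1 L78778 L78104 L79441
theorem L79444 : sm ga N7859 = N7921 := flp_a L79443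
theorem L79445 : sm ge N7921 = N7859 := ded_19_2 L78778 L78108 L79441
theorem L79446 : sm ge N7859 = N7921 := flp_e L79445
theorem L79447 : sm gf N7921 = N7921 := ded_20_2 L79442 L78109 L79441
theorem L79448 : sm gg N7921 = N7884 := ded_21_2 L79029 L78111 L79441
theorem L79449 : sm gg N7884 = N7921 := flp_g L79448
theorem L79450 : sm gb N7921 = N7921 := ded_13_1 L79442 L78105 L77027 L78106 L79441
theorem L79451 : sm gd N7921 = N7866 := ded_30_9 L78852 L78854 L76362 L77456 L77459 L76026 L77750 L77757 L78101 L79441
theorem L79452 : sm gd N7866 = N7921 := flp_d L79451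
theorem L79453 : sm gf N7790 = N7922 := rfl
theorem L79454 : sm gf N7922 = N7790 := flp_f L79453
theorem L79455 : sm ga N7922 = N7861 := ded_11_1 L78794 L78115 L79453
theorem L79456 : sm ga N7861 = N7922 := flp_a L79455
theorem L79457 : sm gb N7922 = N7883 := ded_16_1 L79022 L78117 L79453
theorem L79458 : sm gb N7883 = N7922 := flp_b L79457
theorem L79459 : sm gc N7922 = N7922 := ded_20_1 L79454 L78121 L79453
theorem L79460 : sm ge N7922 = N7861 := ded_25_1 L78794 L78119 L79453
theorem L79461 : sm ge N7861 = N7922 := flp_e L79460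
theorem L79462 : sm gg N7922 = N7861 := ded_28_3 L79461 L79454 L78120 L79453
theorem L79463 : sm gg N7861 = N7922 := flp_g L79462
theorem L79464 : sm gd N7922 = N7848 := ded_23_1 L78663 L77601 L75367 L78112 L79453
theorem L79465 : sm gd N7848 = N7922 := flp_d L79464
theorem L79466 : sm gb N7791 = N7923 := rfl
theorem L79467 : sm gb N7923 = N7791 := flp_b L79466
theorem L79468 : sm gd N7923 = N7800 := ded_14_2 L78210 L78130 L79466
theorem L79469 : sm gd N7800 = N7923 := flp_d L79468
theorem L79470 : sm ge N7923 = N7792 := ded_15_2 L78133 L78127 L79466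
theorem L79471 : sm ge N7792 = N7923 := flp_e L79470
theorem L79472 : sm gf N7923 = N7815 := ded_16_2 L78348 L78129 L79466
theorem L79473 : sm gf N7815 = N7923 := flp_f L79472
theorem L79474 : sm gc N7923 = N7899 := ded_13_2 L79182 L77070 L75387 L78122 L79466
theorem L79475 : sm gc N7899 = N7923 := flp_c L79474
theorem L79476 : sm ga N7923 = N7872 := ded_7_1 L78903 L76392 L77332 L78808 L78801 L78125 L79466
theorem L79477 : sm ga N7872 = N7923 := flp_a L79476
theorem L79478 : sm gg N7792 = N7924 := rfl
theorem L79479 : sm gg N7924 = N7792 := flp_g L79478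
theorem L79480 : sm ga N7924 = N7892 := ded_12_1 L79109 L78346 L79478
theorem L79481 : sm ga N7892 = N7924 := flp_a L79480
theorem L79482 : sm gb N7924 = N7793 := ded_17_1 L78139 L78132 L79478
theorem L79483 : sm gb N7793 = N7924 := flp_b L79482
theorem L79484 : sm gc N7924 = N7893 := ded_21_1 L79117 L78137 L79478
theorem L79485 : sm gc N7893 = N7924 := flp_c L79484
theorem L79486 : sm gf N7924 = N7892 := ded_28_2 L79109 L78907 L78908 L79478
theorem L79487 : sm gf N7892 = N7924 := flp_f L79486
theorem L79488 : sm gd N7924 = N7819 := ded_24_1 L78381 L75691 L75676 L78135 L79478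
theorem L79489 : sm gd N7819 = N7924 := flp_d L79488
theorem L79490 : sm gc N7797 = N7925 := rfl
theorem L79491 : sm gc N7925 = N7797 := flp_c L79490
theorem L79492 : sm ga N7925 = N7853 := ded_8_1 L78723 L78185 L79490
theorem L79493 : sm ga N7853 = N7925 := flp_a L79492
theorem L79494 : sm ge N7925 = N7853 := ded_19_2 L78723 L78192 L79490
theorem L79495 : sm ge N7853 = N7925 := flp_e L79494
theorem L79496 : sm gf N7925 = N7852 := ded_20_2 L78713 L78190 L79490
theorem L79497 : sm gf N7852 = N7925 := flp_f L79496
theorem L79498 : sm gg N7925 = N7802 := ded_21_2 L78227 L78189 L79490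
theorem L79499 : sm gg N7802 = N7925 := flp_g L79498
theorem L79500 : sm gb N7925 = N7855 := ded_13_1 L78741 L76134 L75553 L78187 L79490
theorem L79501 : sm gb N7855 = N7925 := flp_b L79500
theorem L79502 : sm gd N7925 = N7853 := ded_30_9 L79493 L79491 L78183 L75500 L30639 L16372 L30638 L75499 L78182 L79490
theorem L79503 : sm gd N7853 = N7925 := flp_d L79502
theorem L79504 : sm gd N7799 = N7926 := rfl
theorem L79505 : sm gd N7926 = N7799 := flp_d L79504
theorem L79506 : sm ga N7926 = N7858 := ded_9_1 L78775 L78372 L79504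
theorem L79507 : sm ga N7858 = N7926 := flp_a L79506
theorem L79508 : sm gb N7926 = N7808 := ded_14_1 L78279 L78205 L79504
theorem L79509 : sm gb N7808 = N7926 := flp_b L79508
theorem L79510 : sm gf N7926 = N7832 := ded_23_2 L78500 L78190 L78183 L78202 L79504
theorem L79511 : sm gf N7832 = N7926 := flp_f L79510
theorem L79512 : sm gc N7885 = N7926 := ded_30_0 L79505 L78206 L75511 L75640 L78344 L79013 L79216 L79209 L78978 L79031
theorem L79513 : sm gc N7926 = N7885 := flp_c L79512
theorem L79514 : sm ge N7834 = N7926 := ded_29_9 L79506 L78769 L76194 L73591 L73116 L73763 L76441 L78910 L78918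
theorem L79515 : sm ge N7926 = N7834 := flp_e L79514
theorem L79516 : sm gf N7810 = N7927 := rfl
theorem L79517 : sm gf N7927 = N7810 := flp_f L79516
theorem L79518 : sm ga N7927 = N7812 := ded_11_1 L78321 L78298 L79516
theorem L79519 : sm ga N7812 = N7927 := flp_a L79518
theorem L79520 : sm gb N7927 = N7814 := ded_16_1 L78333 L78305 L79516
theorem L79521 : sm gb N7814 = N7927 := flp_b L79520
theorem L79522 : sm gc N7927 = N7890 := ded_20_1 L79089 L78301 L79516
theorem L79523 : sm gc N7890 = N7927 := flp_c L79522
theorem L79524 : sm ge N7927 = N7910 := ded_25_1 L79313 L78308 L79516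
theorem L79525 : sm ge N7910 = N7927 := flp_e L79524
theorem L79526 : sm gd N7927 = N7917 := ded_23_1 L79390 L79375 L79388 L78303 L79516
theorem L79527 : sm gd N7917 = N7927 := flp_d L79526
theorem L79528 : sm gf N7811 = N7928 := rfl
theorem L79529 : sm gf N7928 = N7811 := flp_f L79528
theorem L79530 : sm ga N7928 = N7910 := ded_11_1 L79313 L78313 L79528
theorem L79531 : sm ga N7910 = N7928 := flp_a L79530
theorem L79532 : sm gb N7928 = N7813 := ded_16_1 L78327 L78315 L79528
theorem L79533 : sm gb N7813 = N7928 := flp_b L79532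
theorem L79534 : sm gc N7928 = N7891 := ded_20_1 L79268 L79270 L79528
theorem L79535 : sm gc N7891 = N7928 := flp_c L79534
theorem L79536 : sm ge N7928 = N7812 := ded_25_1 L78321 L78310 L79528
theorem L79537 : sm ge N7812 = N7928 := flp_e L79536
theorem L79538 : sm gg N7928 = N7927 := ded_28_3 L79524 L79313 L78317 L79528
theorem L79539 : sm gg N7927 = N7928 := flp_g L79538
theorem L79540 : sm gd N7928 = N7897 := ded_23_1 L79236 L79312 L79313 L78319 L79528
theorem L79541 : sm gd N7897 = N7928 := flp_d L79540
theorem L79542 : sm gb N7830 = N7929 := rfl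
theorem L79543 : sm gb N7929 = N7830 := flp_b L79542
theorem L79544 : sm gd N7929 = N7899 := ded_14_2 L79182 L78493 L79542
theorem L79545 : sm gd N7899 = N7929 := flp_d L79544
theorem L79546 : sm ge N7929 = N7831 := ded_15_2 L78495 L78489 L79542
theorem L79547 : sm ge N7831 = N7929 := flp_e L79546
theorem L79548 : sm gf N7929 = N7885 := ded_16_2 L79033 L78926 L79542
theorem L79549 : sm gf N7885 = N7929 := flp_f L79548
theorem L79550 : sm gg N7929 = N7857 := ded_17_2 L78763 L78491 L79542
theorem L79551 : sm gg N7857 = N7929 := flp_g L79550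
theorem L79552 : sm gc N7929 = N7832 := ded_13_2 L78499 L75839 L75829 L78484 L79542
theorem L79553 : sm gc N7832 = N7929 := flp_c L79552
theorem L79554 : sm ga N7929 = N7857 := ded_7_1 L78763 L77389 L79276 L79273 L79263 L78487 L79542
theorem L79555 : sm ga N7857 = N7929 := flp_a L79554
theorem L79556 : sm gf N7833 = N7930 := rfl
theorem L79557 : sm gf N7930 = N7833 := flp_f L79556
theorem L79558 : sm ga N7930 = N7834 := ded_11_1 L78519 L78508 L79556
theorem L79559 : sm ga N7834 = N7930 := flp_a L79558
theorem L79560 : sm gb N7930 = N7835 := ded_16_1 L78523 L78513 L79556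
theorem L79561 : sm gb N7835 = N7930 := flp_b L79560
theorem L79562 : sm gc N7930 = N7886 := ded_20_1 L79226 L79230 L79556
theorem L79563 : sm gc N7886 = N7930 := flp_c L79562
theorem L79564 : sm ge N7930 = N7858 := ded_25_1 L78768 L78511 L79556
theorem L79565 : sm ge N7858 = N7930 := flp_e L79564
theorem L79566 : sm gg N7930 = N7926 := ded_28_3 L79515 L78519 L78514 L79556
theorem L79567 : sm gg N7926 = N7930 := flp_g L79566
theorem L79568 : sm gd N7834 = N7931 := rfl
theorem L79569 : sm gd N7931 = N7834 := flp_d L79568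
theorem L79570 : sm gb N7931 = N7836 := ded_14_1 L78533 L78521 L79568
theorem L79571 : sm gb N7836 = N7931 := flp_b L79570
theorem L79572 : sm ge N7931 = N7892 := ded_22_2 L79107 L78222 L79504 L79515 L79568
theorem L79573 : sm ge N7892 = N7931 := flp_e L79572
theorem L79574 : sm gg N7931 = N7872 := ded_24_2 L78904 L78379 L78776 L78774 L79568
theorem L79575 : sm gg N7872 = N7931 := flp_g L79574
theorem L79576 : sm gc N7931 = N7894 := ded_31_3 L79200 L79190 L77638 L79054 L79055 L77155 L77172 L77163 L76752 L77190 L79217 L79230 L78515 L78518 L79568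
theorem L79577 : sm gc N7894 = N7931 := flp_c L79576
theorem L79578 : sm gg N7859 = N7932 := rfl
theorem L79579 : sm gg N7932 = N7859 := flp_g L79578
theorem L79580 : sm ga N7932 = N7884 := ded_12_1 L79449 L79443 L79578
theorem L79581 : sm ga N7884 = N7932 := flp_a L79580
theorem L79582 : sm gb N7932 = N7932 := ded_17_1 L79579 L78780 L79578
theorem L79583 : sm gc N7932 = N7860 := ded_21_1 L78782 L78777 L79578
theorem L79584 : sm gc N7860 = N7932 := flp_c L79583
theorem L79585 : sm ge N7932 = N7884 := ded_26_1 L79449 L79445 L79578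
theorem L79586 : sm ge N7884 = N7932 := flp_e L79585
theorem L79587 : sm gf N7884 = N7932 := ded_28_0 L79579 L78779 L79578 L79585
theorem L79588 : sm gf N7932 = N7884 := flp_f L79587
theorem L79589 : sm gd N7932 = N7884 := ded_24_1 L79449 L79451 L78859 L78860 L79578
theorem L79590 : sm gd N7884 = N7932 := flp_d L79589
theorem L79591 : sm gb N7880 = N7933 := rfl
theorem L79592 : sm gb N7933 = N7880 := flp_b L79591
theorem L79593 : sm gd N7933 = N7930 := ded_14_2 L79560 L79005 L79591
theorem L79594 : sm gd N7930 = N7933 := flp_d L79593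
theorem L79595 : sm ge N7933 = N7924 := ded_15_2 L79482 L78999 L79591
theorem L79596 : sm ge N7924 = N7933 := flp_e L79595
theorem L79597 : sm gf N7933 = N7931 := ded_16_2 L79570 L79001 L79591
theorem L79598 : sm gf N7931 = N7933 := flp_f L79597
theorem L79599 : sm gg N7933 = N7923 := ded_17_2 L79467 L79003 L79591
theorem L79600 : sm gg N7923 = N7933 := flp_g L79599
theorem L79601 : sm gc N7933 = N7881 := ded_13_2 L79007 L76666 L76658 L78994 L79591
theorem L79602 : sm gc N7881 = N7933 := flp_c L79601
theorem L79603 : sm ga N7933 = N7931 := ded_7_1 L79570 L78534 L79231 L79242 L79165 L78997 L79591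
theorem L79604 : sm ga N7931 = N7933 := flp_a L79603

end Cfsg.Agent.Helper28.HeA
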