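import Cfsg.Agent.Helper28.HeB6
import Cfsg.Agent.Helper28.CosetTable2

/-!
# The Held group presentation, cosets of the subgroup generated by a, c, d, e, f, (ab)², (bcde)⁷: the coset table and the index (helper28; generated)
-/

set_option autoImplicit false
set_option maxRecDepth 100000
set_option linter.unusedSimpArgs false
set_option linter.constructorNameAsVariable false

noncomputable section

namespace Cfsg.Agent.Helper28.HeA

open Cfsg.Spor Cfsg.Spor.He Cfsg.Agent.Helper28.CosetTable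

/-- The packed table of the generator a. -/
def TB_a : ℕ := 0x8077d88097a67bd7f27907be7b97e07cc7c17bf7ae79c7f97fa7777f57ec7f77f37f48047427aa7ee7ef79a7f67e57a37487e77e87447eb7037c77d56f88007456f17786ec7d27cd6df80870e7167e27c371b7db7ba7cf7d06f27da7ff73d7c46d77c67e37c87c57ca7d472a7fe6dd7fd8028057086ee7d180169370073e74070d78878b78a7a179e7fc79b7477a07f067a72779180667069c7ea72f7b07ab6b17af7897fb7ad7ed68369e78578378478277c78c7a780376a64c74b7927b27b179d7b37626ca79779579679469d6856b56b36b27936a36a16a07dd7f862968c68b68a68968d6bd68067f67b67967778f66866466366265f66166078765d65b75275174f66575060c60b6496486476466456ea75f75e75b75d74c70974e78d6fc6e37e97ac6e07df7e66a27f17327b56ab7b67cb6725e65e45e26f07266227256766fd7417136de7a272d72e70665c7c25ea5e17a87377356746755b85b75c16b76b85fa5f97d36d25a16d15c87d65956ae7315c45c55c770a7d77b45c66e270f74d7bc6eb72c5816f97e46f76b97b757c5f873374a5735c27047e17026c76f46f56ef7ce7de7386f37bb6e17dc7077535565d16e46d35526e774970b6ed7467d97307c054858a58957f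6a47c957a57855d6e671a71853956256155a5596c478652b5546f656f56a6cb5505645636c069168e7705ba5be54070171e71f6b077f6af77e77d79f6b66b47146ac6ad73f67d67c6325e36a666a6d877b74377a77964e7987817a44ec58755858658558455b5837b85de6bf6845df6be7717757747737726426446437806907994db5ed76f76e5316aa6a976d7a976c66776b73472372465073c64d7a565164f64a5cf65a6a565976967865e75c76876776676476376566676172b76066b66964164063e65363f6554ad66f67366e69f67178e5f566d75875775675575468768668865865765465650e50d50c50b5095085075045034fc4fe6a84f84f44f34f24f14f04ef4ee7764e34e24e14df4de4dd7364d64d54d44d24d14d04cf4cb4c34c04bc4bb4ba4b94b84b74b54b44b360460375a75947146f4a34a24a14a060e60d6016024625f05ef5fc5fd55371d71c6fe57145664b5ce5c05c354f5ff5fe57968155f54d72954c54b54a73b5cd73a6a77397285cc68f6924cc43c43b43a43955154e5904d75bc5b95bb6e857266c5f45e55e059259158f71771070c7117125f26fa7205f34bd6bb4455d45d26bc5d37227214ce40d40c40b42242141d41541341241051050f46045f45c45b45a4594584577194254244234184164204505934494444427153e95995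cb5ca5d65c94144174465886db6da58b69a69869769669456c70556d6d956b5116ff3cb6d65ee6d55665025015676fb5d05f73c36c641158058257e6c555c55e5745775576c26c16cf6ce44e5ec5686d45696956cd6cc6995656e93a66c85fb6e55d86c35f15d75eb5e95e85e74376dc4a73963953d63d53ce5226ba38a3c93c83c73c65206d03873b33b23b13b03af3ae67e3ac3aa3a93a83a76c93a53a43a33a23a13a03c13c05413be53a3bb3b93b839f39e3b65195185174e54e04e440f46757d5ab5aa63d63c63b63a50663963863750a4526366355765754ff5006334d36344fb4fa4c46314c24b24b163062f62e62d62c62b62a4a569b3d23d13d03cf43543451651462862762651562562462349f6824894474485d562162061f4fd61e61d61c61b5b64a65dd61a4c94ca4a84a444f41f4f96194f73ad6184b64b05bf6176166156146136124bf61161060f4f64f54be49e49d6524ab4ac31a3184c85474cd4ed4c76086076066054dc4af4ae36336236135f35e35c35735635535034d34c34b34a3473443433423414da33d33c33b33a33933833733633332b32932832632532432332232132031f31e31d31c60a4686092eb31531431231131047051246546646346460044b5a95a845d45e5a75a65a55a45a35a25f645445544350543659a4c656039d39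c46141e5984d84d958c5bd59745359633f39a3993983975dc5db5da5d93315494514e74e643042f3344334322b82b72b32b23e63e33e13e040e5a059f59e5b25b159b4c544a5b03e53e435b3e259d58d59c5af58e5ae5ad56e5ac5134265b55b45b32962a52a329c29b2993652de2dd2dc2db35d2d72d62d52a629e2d42d32d22a42d02cf2ce2cd2cc2cb2c82c72c62c42c22c159433527842a41c41b4294194284272c53dc3d93de3d33ba3dd3d42c35445433d83db4eb4ea4e94e854229a3bf57b26253e53d53c53b35a3bc57025f5245233cc5213ab3c451f3da51e51d39b51a3943935375365355345335324c15303bd52f52e52d52c55552a52952852752652551c51b44d44c3b744043f43e43d5465453b53b431623e23d26926826726426353f26126053825225125024f24e24d24c24b24a24925e25d25c25b25a25925825724824725625537036e36f36d34534f3522982b936636740436049c49b49a3644994983ff49741a3c520820649649549435432a36a32c49336b31b49249149048f26534648e34836c48d48c48b48a2fd4411f44884874864854844834824813e84314803304383323132d11ea35147f35347e47d26b47c47b47a47947847747647547447347234e4aa30f4a91e039246d46c32f46b46a46931921121020f20d20c20b2c929d29f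2021ff1fe1fd1fc1fb1f71f53401f31f21f11f01ef1ee1ec1eb1e91e81e71e61e51e41e31e21e146e1df1de1dd1dc1db1da2e22df2e42e02e12e34034024014002542b62b53fe3fd3fc3f93f83f732e3f53f43f33f23f13f02463083ef3ee3ed3df3ec3d73eb3ea24524424324224124023f36842e42d2d92d81ed42c42b2b02b11ac1ab1a92052752072722702973fb4093f64082742732713063fa3074074063cd4053692a740a19b1a31a119e19d19c2131c31c21c11c01bf2771bd1a41a219f1bc1bb1ba1b91b81b71b51b41b31b21b11b03e728918b2ab2a22a12a92a02a826d26a26f26632726e38f38e38d26c34938c38b3ca3893883c237c37b37a3793783773763753723712da23c38638538438338238138037f37e37d3743732ca2c02bf2be2bd2bc2bb2ba39139025316918218118017d17c17b17a17917317217117016f16e17817717617516d17422622520322222322122021f21c14e21e1f620021520e21421221921728f21630e30d30c21830b30a3091b61d53592aa3582ac14222430520121a30430330230130017e1f81f92ff21b2fe33e2fc2fb2fa2f92f82f72b42f62f532d2f42f32f22f12f02ef2ee2ed2ec3172ea2e92e82e72e62e514714614514420913f13d13c13b13913813713613513413313213113012f1c41c528e28d28c28b2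8a1aa28828428328228128027f20a27e27d27c27b27a27916c16b16a2af2ae1be2ad11418a18918728729428629318828529229129029511111010f12011f11e11d11211c11b11a1191181171162761a71a61a01a517f18518318423a2392381861fa23723623523423322c22b22a22922723223123022f22e22d2281af1ae1ad23b0fe0fd0fb0fa0f90f80f70f30f20f10f60f50f414015a1591581571551561541530fc15115014f21d14d14c13a13e1481491d91d81d71d612d2040cf15b1d414a1d31d21d114b1d01cf1ce1cd1cc1cb1ca1c91c81c71c60d01430ce0cc0cb0ca0c90c80c70c60c50c412112219719619519419219119018f18e18d18c0f01a810819319a1991980b20b80b70b60b50b41131071061051041031021010ff10016816715216616516416316215e15d15c16116015f1150a30a20a10a009f09e09d09b09c0e60e50e40e30e20e10dd0900de0e00dc0db0da0d90d80d70d60d50d40cd0d10d212e14112c0d312b12a12912812712612512412308308208108007f07e07d07c07b0b90ba10d10c10b10a1090ae10e06f0710700b30ad0ac0ab0aa0a90a80a70a60a40a50ef0ee0ed0ec0eb0ea0e90e70e806005f05e05d05c0950940930920910df08f08e08d08c08b08a0890880870860840850c30c20c10c00bf0be0bd0bc0bb04c04b04a0490480750740720730b00af0b104104003f06b06a06906806706606506406306206109a09909809709603503405905805705605505405305205105004f04e04d07a07907807707602b02a04504404304206e06d06c02302203c03b03a03903803703605b05a01c03203103002f02e02d02c04704601702802702602502403e03d01202001f01e01d03301b01a01901802901601501401302101101000f00e00d00c00b00a009008007006005004003002001000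
/-- The packed table of the generator b. -/
def TB_b : ℕ := 0x7d48087a87a77a279179278c7bb77d77b7d77fd76c79d7677587577567547667b174273c7f07f173072f7b372b72771d71c71771070f7c37047026f96fa6f76f27467686ee6e86e07ce7d87fe6da6d98096d66d56cd6c86c37d96c16bb7747726b97c86b27c66ac6a57e56a370e7137bf69f6de6a08016966956946926aa7ab6db7ed7647f468968776367970b7b578a67580780667267166e66d80566a68c66679a7fb66166079e65b66466266365c65d65e80380464e64d64f64a8027897aa78b6446436cc64764564964664873a77f77e8006377ff70970862c62b62a6767cb7257ca6256237206ce61e7fc6e261a6b87dd7fa7f56867b27ae61374f68861561475561060f6126117f97f87f775d7f660860760660576174e6a174c5fa5f968f5ee5eb7de5e870a6ed7f35e67345e368d5de7f27327807285d75d56be6bf7405d173b6dd7ef7ee5c85c75c27ec5be5c57397eb5c177366867b6ff5b376f5b75b67ea7e95a45a35a259e7e859c6ab6357c063a6207e77e67c158a5897ac74477a7795845825837e457f7e35b868b72257a5785795fb7e17e256c7e05695685775667df56356155e7dc74355b55a6165597db55455355c55062776b6a27da54b7bd7315927b47d67d55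4257c7d37d253e53d53c53b6c55fd76e7d178652d52c52e7d05256ba6d051d7cf66f7cd6ad73573651456d7cc6c67c976950f5d66b56b46b37c75075c46af5036c07c57157b65d94fe4fd4ff7c45237c26e174d7bc7be4f04ef4ed4ee4f44f34f24f17ba7b97b84e87b763b4e474968273e7a070050c7b07607af7654de4dd4dc68e4e04d754e5344df5e27234d27ad58854d7757a94ce54c7a67a54cb6c27a47a34c866b7a166972454479f4bf79879679779c79b4b879379479579965965a4bb4b94ba4b44b34b64b75e956478e79078f4a54a878d78378178578278478878749f4a34a14a04a25ae5ac69171263956e77c5a771463363449458d58755858658577877777648f5c36e35c07715bb77048a53371153276d4f958b61976a61b6176186ea75f75e76275a75975c75b47647547347247747475375275175046b4696026014635fe5ff6cf5286fb74b74a4594584574cd44f5db5da4e65a55a674848b44674743f65174548074143c5d273f67c4395b044073d43e5cd5f35f26a945f7386b67374284275e47334234a641f5dc41d5485b55b472e72d4167296b062872c72662641772a41441362441141070171f71e5ca5c97215a845d5e049b63d4e563c40540b59f5b26365ef5f071b71a7193fc44b5a971851371659a59b3ee4975045054d35603f56d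c51150b5104866314d461c70d70c67863062e62d7077057063cf5087033ce3cd6d756f6fe6fc6fd6f44614603c93c83c63c756a57b6386bc6f83c05706f66f53bd6f33b86506f14556f05943ae6ef3ab6e56ec6eb6e962f3a83a73a96e76e63a03f96e448d67f6776736df46c39b5cb3983b73f46674bd6d838c38b5246d46d36d26d138938852152a45e52967e62161f3835275266c96cb6ca37f5375355fc53052f6c753f6a437b5383793863826c437e37d4cc4964955004474486bd59d46459158f6b73e13e068a5904295095806b14155965976ae3fe3fd5176a66a86a735535635761d3d53d44f64f569a69969869769e69d69b69c34a34d34c34b69336f5f15ad6903ec39a3df68167d6856846833413453433426803da39958c59567a4d13d64cf6745f551a67044445c66c3333323304c44c338e3b04c06654be5434bc65865665765f6526534ab6556544b14b231b32031f31d31c4b532131e64b3b65cf64c31464163e64063f6423123104065af3fa4003ef5985195186323db3d23d13d062936e54f4125ed6222fe47a3d958e48135147f3d84855e74833dc3af4783014883d347c60a60e60d60960c60b2ee2ed2ec46a3ea54a60446e6032e52e34664655126002df5765755d85365b14c945a45b5f85f75f62d55623a34502d12cf4535f442d42c42b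5a02c73675155165ec2c34ca3f72f536c5df5ea5dd2f65e52c52c45e12c22c02bf2be2bd2bc2bb2ba3723712c844e44d44c2dd50a5d45d32a82d72d65d02d42d32d25ce2d05cc2ce2cd36940a3615bf5c65065bd5bc48c5ba5b929e29b29a2995aa4194023f230d49c5ab2903fb40930949928c5025015a140349a5513b24433f35935453f640830a3e749859935c4e335f46d27c2793f028428328236236550e50d4e12fa2f247e4934d648748233b4d04f84f747949249149058157e57d2642633c15745735715722de2612603be3ca56b25d3c256725b3bb3283b95655464a72562553b33f83b14c147d55f24f3ac55d3aa55555755624b3a53a44543a23a155239f39e3913905494e24d55472e824524424124023f39d39c3294c232354154023553a53923351f38438553151e38038152b51c51b23652223452023223123022f22e22d43042f3054e748e22144123823941a2c94492c63e22a92703e341829c3eb27e27b3ed20f2882122184fa4fb4fc20226e26d48426726634e4eb4ea4e94ec1fb2372432234da2424d94d84db1f61f521b33d26b3d733a33933826833628a2da4c74c62db4c51ec1eb31532c32b23a38f3ba1e732632532438d3224aa4af4ae4a94ad4ac4b01e31e21e131125432d4a41dd49e31749d1da29140728528b3f14011d61d81d73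7026a26f26c47b2652224891d02f02f33de2f72f42f943d4422f82fb3dd2ef2fc2f147147046f1c81ce1cd3971ca1c94682e44672e22e12e04623c542a2173313341c11c042542445642242142045241e45141c41b2af2ae2ad36842e44a36643b43a4454381cc4374364354344334324311b61b51b31b21b11b01af1ae1ad2272cc2cb2ca1c31c22193644261a51bd1bc1bb1ba1b91b829520e40f21536040e40d40c19f19d19c2a028d2801d930e4041982872943ff30b33519535a28e28130c3e63e53e428629327635e20b3e935d20d3e818d18c27f19219119021021336330335335230233c3041f133735034f3003cc3cb17b3c43c317925e3bf25c3bc25a2592582573b53b43161742522512503ad24e24d24c3a624a24924824723b39639534734439439339216c16b16a24632a36a36b34837c38a37a38737837737637537437316416216116015f2b01d42031583462ff36d22015414f15714c33e1682aa3582dc19e29d1b427135918727235b29f27a18e27d14414814714614519414922535413f1831821811801fc34913c15115017d34033f1391f31f22691f01ef1ee1bf32f32e1351e91e83271e61e51e431a3193181311df1de3131dc1db30f29230730630812e22618417e14d2fd1cb2ea2e92c11cf2e72e62eb1271251c51c42ac2ab2d92d81e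d11e2a62a52a42a32a22a11a82b92b82142b72b62b52b42b32b22b11181171161151b712011f2a711d11c11b11a11929821629729610f19618f28f19319a28920519727527427319920c27827710910c10b10a2111051851d32001ff1fe1fd1041d21f717c26217a25f17817717617525317317217117016f16e16d23e23d23c0f021a10310116322c16522b22a2292280ea0e90e80e40e60e522421d0e10de21f0da0d91f91f821e0d61d121c0e20ef20420920820720620a0d10d00d20dc2010ff0fe1fa0d80d71f41381371361ea1341331321e013012f1d50c30db1000d50d41261c71281c60bd0bc1221211a71a61be1a41a31a21a11a01ac1ab1aa1a90b40b80b70b60b519b10d10e18a18918818b0af10710618617f16710216612b13e13d0ab0a90a80fa0f90f80f70f60f50f40f30f20f116914a0ac0aa0a70a615e15d15c09615a15915b09514b15609109215508f14012c15315213b13a14e12a12909314114314208308d08a0a30890880c90c80c70c60c50c412d08e08c08b0870861241230760750741131121111101140710700b00b110806c0ad0ee0fd0ed0fc0fb0ec0eb06a0690cc06506406306209e09d09c09b0680670660610e70e30590d30df0e00560dd0c20ce0c10c00cd0cb0ca0bf0be0580570cf05205105004f04e07d07c07b05505405304d0bb0ba0b90430420b30b203f0450440ae06b0a50a409a0990980a20a10a009f09703b03803703605c03a03909408508409007a07907808208108007f07e07703102e02d02c04803002f06e06d07307202402506f02702602806005b05a05f05e05d01f01d01e03204c04704604b04a04901a01801903c03e03d04004101501301401603503303400f01b02b02902a00c02002302102200900b00a01c00e00d017011010012005007006008002003004000001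
/-- The packed table of the generator c. -/
def TB_c : ℕ := 0x7d57c07e27da7a47df7de7d97817e17e77fe7797c47677f67ec7dc75e7fa7517477ac74573b76b76a78f72b7f972c7a57d27cc7ff7407067c77038078006f88048036eb7f87488068026dd74c7938096d86e67e97986f66c76c27a67e87297ae6ba6b67e46b07c57fc6a470c7c18086a06df69c7bc69769e69d69b76e68f74468c7587567437b07667ca7ad7f36786777a96bc6737cd7ea80567066c7a166772d66275466379b65c65d7d17956577976547d66516506f17ee74b64c66f6476a264564964664178478564063f80163c63a6ad63871663177a7fd7076ec70570d6276266596f07266827b771e61d7f07ef61962e7fb7af61561465a75568360f7507f760d75c75275a7597b362d7b276279d6e975b7f575f60370e6027d778e6fb7117db7f45e97f27b57b15e670b7e65ec5df5ea5dd7f15db62868d6bd5d45d361c5f86e27315e75cf6b179f7eb7ed5c67cb5bd5ba7705b972461b5b55b46815ab76d5f55a56d36d16d06d259d77c59459371371274958d58b74e7757c27415886017087787e57765807e357e57d67f57b6fd6fe57374a56e56d7e056b7d05745676f35647907716ef5855eb7777dd5567535a06e77d36e56e45c573254d54c7be54a7d85455445435427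d45405ef5f06d471b71871a7195355f169869a6c96586cb5267cf59159f52b51b7ce51a6c05165157377a85137c951167b5107c850b50a6ac50872e7c650659977e6b355f62061f4ff5da4fb4f97c34f878a6a17bf5477ba7b97bd7b86cc52c6cd7bb4eb4ea4e94ec4e64e563d7b64e07387b44e24e166960760660550d50e76176f7204db7006214d54d46b867a4d17ab7aa4d04cf6747a74cc4cd7a378c4c84c77a26604c46894c37a05bf6654f279c79e4b966b4ba4bd79979a4b37637726ca7964ae6527944ad6557927914a84a74a678d5fa4a47884f178b7877894a14a04a278678378249d69078049c77f49b77d49a49949849649550077b60861676875749249149058173977477348d48c48b5bc67e6aa6a948576c7347234807694b74b462f7657644754c04be4bc76060a75d60c60b60e60963068868768647174f74d70960057857a5a845f45b64b45a73357057271d5055ac58e6ce6d56d644b5c173f6ed73d74643e73074244a43b43a4e344543673e43473c42e73a6a742d51c4405d644173673542642545672f45241e45141b56f41941841772a6e35c44144115ed41066640f72862240e72772540d40c48172272140a52952a4085af4da4065f371f4045a25fd42055371c3fe3fd5a95396e86c53fb7173fa45c4446ae46545041c3e97157143e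46c65903e25f27103ec70f3d63d570a55955a6ee3d23d05236297043ce7027013cb6ff5fe4615ff51e3c83c66f56fc5f63c35f75ca6fa6f93c06f742452f5306f43b95656f23b63b154f3ae6ab3ac55d3aa3d15865873a75576ea5553a15a655239f39e56139a6e16e03986de43539569f5466dc6db6da6d953f6d75413a25024035015385a153a42a3866cf38538444e4d65685693813806996c45b15b237e3c96c837d37c58238a37a3874095773755d86c36c15185193706bf6be36c6bb5126b96b73656846853636b56b43626b23616af5f435f35e53d53b6326a83564863576a63546a56a347f4744724a34bb66464834d34c34b46c6936966956943494376926913455e268b68a68e3443433424696805ae3e03e133f53167d67c33b33a6796766753366716723334c94ca66e66d3f33f666a66832b4c161232661165e6104f365f66131f61847c4b061765b31e31c4b54af6566534a93184aa4ac64f64e64d31464a4f464264464331049e63e63b63963763663549763463330548862c62b62a30048e6256246232fe4134932fb4fd61e3023042f85b661a4f72f347d4b634f3522f031d2f12ef6134f63224f560446e46f4702e94ed2e72e64dc2eb4674495982e12e04625794575fc4022dd59b5fb5f92d72d64605d04554543eb5ce5cc5972ce532374373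5ee5e54664284272c45e159a2c23e55d55d72bd5e83ea2b85e45e32b73314e75e05495de42c42b2f72b32b25dc5d94334325374294484475d25d156a2a63a43a55a72a45cd2a35965cb2a25c95c85c729e4155c348929b5c25c05be5bb5b85b72965b351f5b02935ad2995aa53c45e28e2d230c5a45a328859e59c3f93f82db4c53ef2824c62bf2812803f527e2e258c45343d5952f930d3b34425923e358f4d84d92703dd3de3d926d3773dc26e27c58a58926a26f58455b58326557f29a3cc57c3ca5275762de5752603c45713c225e56c3bf25c3823bc2a52595662572585633b53b43e62525622512505603ad55e24e55c24d24c5583a642142224a53e55424955155024824737654e24254b2c13965483943932ea39139038f38e38d23626352223435a5205365345332313bd52e52d22f52852552422c52122b36f3da39b51d44d44c22a22951737825a36d5143253242af21836736650f2d850c5095072b550450320f35c2743882a12ab4fc4fe2024fa2f447a20033d47b2ec4f04ef4ee1fb4e81f93471f84e44df4de4dd1f521e4d721d3501f24d34d21fd1ff1ef4ce1f01ee4cb33043833232f28332d21a4c21e91e83283274bf36b36a1e54731e61e44b84b24784b11e131a3194ab3171df1de4a53131dc1db49f30f2763e73ff1d91d81d728d2862874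944832fc4841d348f1d148a21c3034871cf3e84824311cd1eb35347e1cb4774794761ca1c934e46839246d1c746b46a1c62c61c53ed4644631c43c745d1c33f72da2193644594581bd2d42d34001bb2c81ba44f2441b91b82281c22d01b52e42a84461b34433972323f223043f22e22d27920e43c4392153601ce43042f2ad1a93692122b12043581a71a62c51be4233bb41f41d41a3591a01a44161a21a14123cd4051ac1aa40b1a81d540719a19919c28940130819719628a28f3fc30630719328432e3f43f13f018f3ee1923d71911902ba21021330e20635b2081891883df3d33d83db18326b3d42692682671843cf17c38b26217a3c525f3c11783be17736e3ba3b73b81761752542533b23b03af1723ab3a93a81703a33a039d39c16d1732cd17139916f16e1b023e23d23c23b23a23923816638c1643891622c03832be37f2bc2bb37b3793723712ca15c15a15915b15615518515421f34033e2fd14b32c2d93681491ab2b61482772ae18b27835d2b91471461451941a327318a2751422ac1403551533513381f333913d34a15234834613b13a34114e1fe33c1383353373341371362f51ea32a32913432132332013313231b1e031631513031231112f30b30a30912e29412c30112a2ff1292fa2b42f61272f22ee2ed1252e82e52e32df2dc2c912011f1b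f2a72d51bc2d12cf2cc2cb11911d2c711c2c311b11a23f16116015f2982162972b02952aa2a911329f20929d29c2a011211111029011429229110e28c28b10d20a28527d27b27a27f10c10b10a21120727227110818622126626c18218118017f0fc0fb2640f92610f725d25b2562550f424524f24324b2412402460f30f20f11691681672370ee2350ed2331af1ae1ad0ec0eb2272242262250e30e22232222202011fa1010e10d71f40de0d421b0d321721420d20c20b0d00e02050df2030ce0cd1fc0cb1f71f60ca1f11ed1ec0c81e71e31e20c61dd1da1d60dd1d40c01d21d00c21cc0c11c80bf0be0ba0b91c11c00b81b61b41b21b11b70b70b60b50e819b1a519f19e19d0b219819518e18d18c0af1871031040ad1061070ab1510a50a40fe0fd17e17d0a217b0a11790a009f17416c16b16a09b09a16516315e15d0990981150970db0dc09515815715014314114d12d0e50e608d0890a814f0880a914c14a08508414409013f13e08013c13908213508113107f07e07a12812612b12412307907807712212111e11811711607007210f06e06d1090731050aa1020ac0d50d80670661000ff0600fa0f80f60f505f05e05d0f00ef0ea0e90e705a0e40940680580570cf05508c0da08e06a0690d90d60540530d20d104c0c90c70cc0c50c404b04a0490c30bd0bc0bb0460750740ae0b30400b40410b10b003d03c08b08a0930a70a60650640630620390a309e09d09c03403e09603209209103108f08708605205103b04f04e02f08307d07c07b02a04707604404502602506f07102205b06c06b05002006103803703602305c02105905601b04d02e02d02c02b04802902801604304201303503f03303a01101001d01203000e00d01801702700b00a02401c01f01e00801a01900601501400500f00400c009007001002003000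
/-- The packed table of the generator d. -/
def TB_d : ℕ := 0x8067d87a68097e77e57f97837b97977847b47c678779c7908037527e37c27c77af79e7eb7ed7b372e72d7f172a7f271b7d67bd8057448047037f77d57b87857337cf7786ec7d96e47db8086db7e97e27a77a36df6d26f17de6e86e77956b97707747bf7f57fd6a66bd7917f670d6dc7c87967e869769571a8017e16ff6aa73a7fe7f078b6876847f47627657297807886756727d480767069b7d37106906856657f36617fb65f74268269e8007be7cc7826537587c37fa76a7766fe6497b26447647aa7fc6c97e07ff80279463e7ab6b563966265564562e62d7dd75f78e6247c96bf6236257ca72667f61e64362078f6b762c64e6b27ad7896137ae7556be77775a74f6b160b75e7507926077027616a36047f860c75975d74c69874e5f870c6c27165ea6c36fd7e662f79a5e55e463367d7017275dc7b55d96f06806887255d27df5cd5cb5c85c77ef7ee7055be7ec7ac6a973c76f7355b767a6926745c16685aa5a46da7ea7ba5a16ef6de7486a869a5925ae6e27a270a58a7c174a5c570f5865855f758172c57f7e475673d57c7b778d7455c66c76946d96936475735d05726d15d17d073871855b5587dc57160e5557ce7cd5526d37da5647116995507d27175487c07d771c6f95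4168b66d54b53a6e57d16f35385fd54e53c52e6c452b7865636fb5245216cb7467495545177737607c45b565c53f7cb50f7695d477f6b450976675c5bc6af5875004ff4fe7b67287154fc7c55145227544f34f24f16637986564ec7a47146e174d7bc5a37bb6fa6f872268a7a166f65b4df4de6d76914dd7367b16797a07b04db7994d873776e4d473e5e14d27236864f74d55bb7a97214e27a84cb7a568f4ee6d64c54f64e44f571f4c24bf79f4f069f77d79d4b879b4b66466bb68e4b24b14af65269d77c4ac7936575df62762a76761a6294c657a78c4a26f765d77b78a76c62249e4ad4ab78163a5ab50c63d77e57d4b46284f45e373f59549350374377a77976861564f64c63665060077177577264248776b53176d48448248364d47f48847a47662b6127636146055074726ea47075175b47146e46b7574736117534684664656265a65ef6cf56252545958974b70745644f4cd46445c44c45b5fe59c4484c143f74744057843d43c74174063443967c5cc6515b843273b5124c97394535614284d76b65b47346f26f541f4a67325e073156d42773072f6fc70b4135a758372046347972b47e6b067640d40c5de72440b6bc5d34ce59b59f41d40771244740563c71e45d59a5c35ff45a71d6963fc71944a5b155e41a5ee5b25a85764013ec3ea6323e750271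35803e13e03de3db5343d870e5f93d46ae7097084585c23cf7065917043cc6387003ca64a4165e83c65995363c46f66f46eb3c23c13cd5ca4e83bf3be3c84233bc53b5576e36c85fc5d73f03ad59e52053d6ee3c73a96ed5653a66e96c13a06e64436e039c6ce39939a6d53973966dd39343739138e38d38c6d838a6ba38955c6cd5666d43876d053057538558c3d938361f5373816cc51d37f6ca52738445552a3805fb6c637b6a46c555d37837652d3743733715194fb6c04e548b6a53695db50850d6b850b51063b50e3646b351161036046d4e36305933b26ad6ac6ab3556a75184fa35135067866b6696356a26a16a06644ba66e34a69c3d23d14e956c34642b51666a50467346234268d68c6893416833404126815d533c67767e49467b3393373385b35f442f67143a5da33032f64b66c32c32b6675ec33d6663253233243204ef4b76604b965e4a063731c65a65947b65831964065463f31a3173323b45ce48f31331264831d4b548a64130f30e30d30c30b30a3094963564d363134d34c4904a52ff39034351549f2fd6186212fa2f961d61b61c2f72f66195bd2f22f14b06175bf2ef2ee6162ed46a60660f60a60d2eb6095052e86084742e560343b6026015f35c04e13ee45e4504605a95f25f05a55fa5842d55f65283a35d831542c45f5f52cb2cf5f1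2c75a02dc5ed5ad3b03292c45512c133e5e95eb2bb5e75e64674ca5e22b55462b33482b23945dd2b13b54cc2af2ae4514e62ab2a95d65c92a741e4215684204244225cf4255b02a22a159d2a035b3d357929c3dc5c44d929a2992982975ba5b95b62952942935af2915ac28f28e28d59828b2d93f53f85a22872853f73fd3f92863fe39d2812803ef5603f146127d59727a59627827759427527427327227159058f2df58e3af41458d26b53358b2692682675884174eb4ea3d058226456e57e26257b26156955a5772ac57425f57056f25d56b56a25b56725a3272583a82c02554304a73ac5012514463dd24f55f3b337924d5593b824b5563a22504543a524c5532482473f454f24554c54d24054a54923e43354723c54548d2c354454354223554053e23353923253552953223052f52652c22e22d2365232343ab51f22a51e22951c51b25651a22622322236d21b3022195132b921721421350a21121020f50620d20c2b620b4182052083063574954fd20132a2154f94f81fd1fc49249134b4ed1fa4351f74e71f623d48c4e04dc4da1f44414c04d61f11f04d14cf4d01ee2892b01ec4a82d84c84c71ea2d14c44c33534451e73ba1e64be4bc4bd1e41e34bb1e23114a14b33014aa4ae1e04a92534521dd4a44a331e1da49d49c49b49a49949849720a26f3581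d41ff1d836b31b1d248e1d04892e72f34864851ce4814801cc2ea2fb47d47c1ca4784774751c846f2f41cd46c2fc1c94692e22c52e42e12e03df1c31c24491c02273ff3312d02d34572d22d62d432d2d744d1b91b82c844e1b71b62cc44b1b42e344438f1b14423b71af2371ae24143e1ad3681ac1ab35d4381aa43643443133442e42d1a83c542a2394291a54261a41a31a21a141c41b41920619f26d41519d41141040f40e19b40a40940819e4061984044034021c14001953351943fb3f63fa1921911903f33f224618e3ed18d1b23eb18c3e93e823b3e63e53e43e33e218730723a29d2383da1823d73d63d518017e3ce17b3cb3c91793c317c3c017a3bd3bb1763b91753723b61743161733b13a43ae1713aa3a13a716f16e39f39e27f39b16c17d16b2bc39816a39534439227626e2aa26c2be37c38b37a38838616138216037e37d15e15d37737515f2da37015820336f36e22122015321c18621e36c14a36a1d73671d935236636514736336236114535f35e35c30814335918129f35a14122413f35413e30414634f34e13c3491f81f934734513933f1dc1e833b33a1373361be33313532e1df1f232832613332232131f1313181e91363141f313231021630321814412d30512b30015b2fe1282f82e92f51262f02e62ec1241231221212de2dd28c2db11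e1ed11d11c11b11a2ce2cd2ca2c91182c611727b2c21162bf2bd2ba2b82b72b41142ad12019a2a82a62a52a42a311029e29229b10f2961a618829018a11f28a28810c28428328210a27e27c27916919711119927021d1021000ff26a20726614e26524325e26325c2600f60f52592572542520f324e0f224a2490f124424223f18b0ef0ee0eb1630ea1650e923122f22822c22b0e71d115a1592251050e00dd0da21f0ec15015114c17f0e414f0d321a0d20d12121fe20e1d62090cf20413b2022000cc1fb1400cd1f50c91ef1de1eb0c71e51db1e10c50c40c31d50c21d30bf0be1cf0bd1cb0bc1c71c61c51c41a71961bf1bd1bc1bb1ba0b51b51b31b00b41a90b30b71891a019c0b10b01930b618f0f00ae1071061570d60ac1850a61841830a30a20a009f0f809e0fa09d17817709c17217016d1091681670a115216616416209615c0e60e514d09409309115609808f1550d808e1540a70dc08a10408708614b14914808314208213a13d07f07e13807d13407c13012f12e12c08107812a12912712507607307207111210b11911511306f10e10d06c10806b1030650640630620d91010a40a50fe0fd0ed0fc0fb0f90f70f405c05b0990df05d0e80590e30e20660e105e0de0db0520510530d704f04e0d50d40840850d00ce0c104a0cb0ca0c80c60480470790c00490bb0430420ba0b90b803f0b206e0400af0ad06906a03a0670920ab0aa0a90a803603505f09009709b09a03309505705803703005408b08d08c02d08908802c02b04b08007707b07a02904502507507404106d07002302102001f06801e03805606106001c05a01b01a05501902e05004d04c01704601601501404402403e01203d03c03b03900f03403203102f00c02a02802702600902201101001d00e00d01800b00a013004007003002008006005001000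
/-- The packed table of the generator e. -/
def TB_e : ℕ := 0x8007d87e07be7a37907f27a67b980977c7c17bf7ca7af7f57f77777f97517fa7f37f480378a7aa74b78d76475e7e37bd71b7d671670d7c77067eb6f87d58076f17457786ec6e66df7cd80870e7e87e177d7486d37ba6c76f66c17d97937717fc6b96b57e577f7c57ae6b26b17fe6dd7fd8067ea7086957d18016936aa69268c7447b27b37427ad7fb7c47b07477a07f06746f769f80269c67080566d79b7ab72a79c68779e7a166165f69e7967976576567cc73c64e80464c76a7ee6727887f164478b6426ca78364078563e69d63b7c677e7d47ff6376a16a07dd7f862974062562476c7cb62263d6206b877267778e61e62c7667676837ed6a568861561374f7ec75260c60d66560975662b7586076066ea75d7f660375f74c70974e7ef5f85f17d37ac5e87de7b45e67b16ed7755e15de68d7926a26917155ea5d46bd5d26766fb6e17135fa64a70c5c670361479f6f06ab7025bc5bb67a5b66ff5b35ae5aa67b6de5a47e95a16d26d06da7e77395cd7315c46ce59c58a7d77e672e5eb6db74d7bc6eb7e458158272c7276d767d7226fc5736fe7336d956c7e27a87cf5675746d45637df72955d55b7417dc7077535565535527db6e46e554f54d73254b7da71d7c05cc70a7176fa6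387015ee53d6f37d27195397185d871169652c52b7866c45257d059159e6c956951a7ce6c05e451473656b65e5117c976d50f50b7c85096b37c37c263a6395e56ad6ac7287b74fd4fc5d94fa76350850773b77a7797a77987817a54ec69969a4eb4ea6cd7bb4e87b87b673a6824e64e473d7b54df4de67976279d4dc50c4db7656904da50e4d54d67004d371e72468966776b7344ce7a954778c4ed7a44cc4cb7a24c74c46604d14d26785be75a4f066266379a66a7996bb4ba4b94b84f961d6417957944ad4ae6526535dd4a761a7914a578f5e772f6474ef6494a24a178949f78765878449d78276f49c7806b06af6d877b4995dc63249463449a62f63049249176875748f77659448d48c77477348a77053176e4867696594d048164f48547c47860876172b7604bf47447347547175b75c46f60475961675575446960a75060160246257646145f5a85d173045974a45657154a5055ad44e74950244b6d648944570b73843e74664b7436ae6bf43959573f54843473e6516354e542d6a76cf43f5904287374267355fb5704a44527146dc5b056f41958941672d56171256057f41341240f66655f72672557e40e57c40b72357b40a7215284095cb4157205f340640471f4035fc4005a03fe71c3fc53c71a5a63fb6c55437103f744344a3ed3eb44f5e262841e41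d6c65d63e25323fa3d73d670f5c85445583d23d155a3cf7047055235c25ba5405b85b557957a3c83c95ff3c56f46fd3c35f65d05ca5423c06f96bc4236c33bd6f553e5553b66f25515c55c35bd3ab6ef5506ee5843a75873a66e95653a06e86e756255c6e33996e23986e05f54e75e067348e45158859d56e38a57d5225666d55a23883876d152038642a51c3da38358e62138251b51d37f6cc6cb51f37e5b251e37d6c837b58053f37953852a52752e53552f6c251737051943b36c6be4bd4676ba3656b76803636856b63626b46a46a349b5f435f43c5f035a4963573556a96a83546a665a3613534be34e4f34f434d34c66464834a67169b69869734969454968f5db68e3e934434334568b68a3416866846813df33f3e167e67f33b67c66866961c33667546c66f66e43833133366c44232e66b33a32a3283266124f65133224a365d65c65b4b64b731e31d31f4b031b4b231a6546553184a949e4ab48065031464d5cf4bb6466453106434aa63f63c50663163642e35c50030563330362e62d30062a5466276262fe6235ed2fc2fa61f6193012f830461b4a82f42f23ad6183512f035261746b2ee60f6116102ec60e2eb60b4682e84cd4772e560546e5122e42e22e32df6005fe2de5fd2dd4022db4252d75f92d53c75f73f92d44505ce5454535965f2372371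5ef5992c64412c52c35ec2c259a4c64482bd5d75e92c15035162b75e34ca4353954375df2b32b22b442c42b4985da43042f5363e35d52a85d345b2a656a3a32a52d22d15935922ce4082aa5c93d529e5c75af3ae5c15c03ce29b5bf5b93cb2965b75b45b141b2925ac2905ab5a945d3085a730a5a52885a359f58d45528459b2832d02cf3e52cd28c28b2c82c759827c5973974e339230b3b23f32a342958f4d72704d93d93dc3dd26f5343de26a58c58b41826e26d58658526558341138b26240d3bf57757845726057525f5723bc25d56d3ca25b5683c23a53b03a23a936e5643913902523e639f3ba24f41447d24e55e39e3b824b5595573bb24a4223b92495543b13aa25625536f24254e54c3ea34743623e23d3e83b53b432723a2392353cd54123353b53a53737723153353037522f52d52952622c52422b52137638537838122a22944d44c51839b3b736d51521a32321921736636751021250d50a4f82165042b820c4972075012a92044ff2024fe4fb4f747947b1fe2004f54f24f11fb4ee4e92ff3961f74e04e24e11f54dd1f44d82fd1f31f14d44c31fc1ef1ff4cf3161ed4c82f54c91eb1ea4c53133251e94c21e74c138f4c032c1e536a4bc3121e34b34b54b41e14b14af1e04ac30f3351dd4a632d3211da4a031728f1d91d83e73ff1d64012851d54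954824931d348449034848b33e4881cf4872ea4831ce1cc33247f1cb47e2e747a1ca4761c84724702f91c746d2f11c646a4664644651c51c446346045e2c945c1bf2af2ae45a1bd4584541bc42041f3f53f441c3f21c11c02272dc3ef3ee4494471b344644443d2be2442c04401af1ae1b021435e43a1ac1ab4314334321a92ad2d92d82b02ab2ac41a3594272954244211bb3e41a71a61a520941719f19e41026319c21519b40c2a728719a40719840530e28d28e3f13f02542763fd2941933073f83f61ba1971961951b520a3ec18e18d23f20d18b28920518a1892081873e03db3d43d31842693d826b1821811833d017b29a3cc1793c63c41783c11773be25825125a24d39d39c28a23b3b32591723af3ac2571703a83a43a11761751742432bf24539a16c16b27939439316925338e38d16822216438c16238923038423238016116037c37a37437315c2ca20115820317d23722122021f14e21c21d1d036b3691493683602982b921136421314714614827835d14427d29f27235b14227535822435622634f33735013d33934b1fa1d113b34613934234033d13833c1df33813733413533032f32b1343291dc32413332013131c3191f01303151e612f31130d30c12e30930613f3021d21f921b2fb2f71272f62f32ef1252ed2e92e62e12e01c21c32cc2cb2d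a1a82d62d32a428212011f11e1b427e1b62c41181172ba2bc2bb1152b62b51142b11be2a22a12a01a31a411211111329d29c10f29929729310e29128128027f19228619410c10b10d27b27a10927727427310827117f18526c2662682670fe18617e2230f92640f726125e25c24824724617125017324c0f30f20f42412400f023c2380fd15516323616523422e22d0e80ea0e92281401530e322514c0fb16615415a15214d0d80d621e15115712912b21820e21020f0d020b0cf20612d15b1d40cc1fd13c1f80ca1f61f21ee0c81ec1e81e40c61e21de1db1d71410ce14a12a14b1261cd1281c90bd0bc1221211b91b81b711c11d0b70b60b81b21b10b41ad1aa1a01a21a10b219d19918f1911900af18c1881020ad1041050ab1070de0ef0a31801670fc1560f817c0fa17a09e09d16d16f16e09b16a1000ed0ee09909815e15d15f0960da0950dc1590d40a80900dd1010df0e408d0e60d915008814f0d50e20c00c308314514312c08013e0cb13a0c71360c913207d07c0d20c10c20d30790781241230760ba0b911911b11a07011606f1100ae06c10a0b11060aa1030ac0a90e106706609a0600ff0a10a205f05e0f60f505c0f10a50ec0eb05a0e70e509408b08f0560e009208c0db08e0930500890d705405307a04c0d10810820cd04b04a0c50c40480850bf0be0460bb07507406e04103f0b50b307303d0b006b06803b06a0a70a60640650380370390a40a009f03409c03509705905503109105808708605105208a02e02d02f08407f07e02a07b02b07704302604502407202207102306d03c06901f06106306201d05b05d01c03205701a04d04f04e01804704901702801504401304203e04001201103a00f03603300e03000c02c02900b02700902502102000801e01b00601901600501401000700d00a004003002001000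
/-- The packed table of the generator f. -/
def TB_f : ℕ := 0x8077d88097a57d978f78e7a47b87e079377a7fd7ae76575f75277675d75074f7a07ab76a7407347457df76075b7e57da7db7167d673b7eb7037c77d56f88007ee74b6ea7057e97ea8058087097e77e27a86d37486ca6f66c77a27a377c7287c47226b47e36af6c07ca72779f6a16dd7bf69c6df7bc6947866938016a96a774274368876268c7a16837fc79b6787f36767247d46716708068027cd7ce7b07f47c279968665f7ad65b79e6587946566547977ff64f64d64c8048036f166e78777564364278b7ba78263f63e78569b6826396b36f77cc65e7fe7797536297f878a7396236a56ab72563c61f71e76361c7f27236166157617fb61376c7b27667ed7fa60d7f760b7ec60966560762a7557566057787f96037f67f560270e6017de7335f27d26675fa7ef5e67b47b570a7f168d5e35e161a7e668e7745ec5d35d26bd7f074a70f7135e86f25c670c70660f6b15bd7cb7c35b97707a97697c96b75ac5b776d6e06e86e66d06d15a159c7e86256ae7315af58e6da73274d6a272d5887417d77086e972c7dc57f7e46b257c67c6b95736fc6fd5f856c6d97e177d7d06f46f56ef72f78d55f6f35836db5815567dd70771c6e571b6e75525c358b58a71d7bd54b7c05e06ed7106f96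bc5b853d5ee55d7d353971971a53653252c69653a7d15385697cf5ca5a352052566c66d7c55145e47356d86375b56ff67b72150a5097c877e70272a5067c67146ac6ad7714fd7b74fe7b64fb7725ba66670d7c16a04ed6414ec7be7814eb6986994e96cc4e87bb7b95d94e463b5da73a73f7b15e24dd66a7b34dc79d4db50c7af7805f350d4d45314d37006b86746607ac4d07aa66867a4cd4cb7a77a64c878c6c16c24d16894c46757476a37594bb4ba65d4b867979c77b6624b379a61d4f97984ae7964ac7954ab4a94a84a67924a57917905e95634a24ee6466474a049f78978869e49d78478349c76f69049b77f56b6bb5ce5034946326334bd49262e62f49060848f75777762762848b71548a7735bb4d648676e5b665a76b61973c61b4b24b17687674757644744bf47272b60475e46f75c47175a62c75846975460e75174e74c46746157645e45d4597465d16fb57057254c50468174944e44b5026d55c073854444564b73043e7445cd6be73e68b73d6dc43a43948043c4e068f69242a4464294274267377365f94565646365e554841d6c658f41658972e4144156e35824105ed4f850772940e6226a47266d771f61e6ba51050f4095285927124064da72040c40b50140241f3fe5a05536c553b7185a53fd3fc3fa7173f63f359344944f3eb4df48d5995b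056f3e35c971154354e6e26e15c770b3d25583d05596ee5c26ec3ce7045083cb7015113c85785795685fe4605676fe5f63c35f75913c05426fa6384586c857757455e3bc5cf64a3b23ae54f6f05666d45543cf3a75845863c46eb3c255c5a46e43e63a056058c3d65f56de39842c5cc46c3914365eb58d56d53f40d5413ab6d63885a26cb6d26c951c6cf3863833da6ce67e51e5265213896cd38737e51f5b138252f6c338c41138a52e6c452953037953737d4c737051751836c43b6bf49a46257b5b45b33636806843626b66b557e5be6b035f5f46355ef5a94953566a86aa3556a63546595bf47e4c04bc34d4f24f334b4a334a64869f69d69a34969769543042d3456914e24e33425db59534168a6876855ad33f3df3e062133b67f67d4ce66b6774c34d267333367233233066f51a44445c6694cf3293ad4f66113266314f566466331f66131e4b54b631c65c61861747c49e65731865565331a65265131465064e3b64f06493106456444af64063d63a51345235e36730550063430263030062d62b3b55942fe6266244124843046204814882fb2fa4855dd2f34f73284b02f035134f31b2ee46b6146122ec61060a46e60c4703e85474762ed6062eb6004654662df2e35125ff5752dd5fd5fc4c52d74255fb56a3c65d03f82d341c4993952ce5975f139b2ca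5f041e5982c54415d75ea4c63e52c24472c42c35e72ba5dc5155df5de2f52b35454332b74352b12f64e72b02b84e65492ad5d85d62a85d55d445a2d62d52a53a32a45a744a5cb4532a33583e229e3d55c85c45c529b4895235c13615bc5405ab5aa3655b23e42915ae29929635a5a828c2d13095a659f59e28859d28445528359b3ee2bf59a28230827f27e3f52c639a59627934446d2765514434085904192704d74d83d826e3d426c53326a3de39954d4173dc26658726558555b5802633ca57d3cc3bd57a2604572de55757155526456e2623a93c95653a43af3ac25b39d4a448e25339f56225224f3ba5614c13b953e3a13be26155a25f24a3bb42124e3aa5503b32493b724644d3ec3d754a23f23e45134723c2e854623b38e38f23852429a52252d53c52b53523137753452737a23423352a51b23623538151d22a38437422b37622836f22751937225621f51632321a2182af49735c40a2a750e50b40f29750549820b3662064032a041a2024ff4fc4fa2f220047a1fd4793224f41fb4f14ef4ea1f73942ff4e53e91f54e14de33e4d93403391ff4d533633d1f21f133a3151ec4cc4ca1eb4c92da2db28a3241e81e74c247d23a4be1e532c36b34e1e33124b94b71e14b44784aa3174ad3191dd3354a72543201e24a11e030d30e1d72891d63ff3f11d52854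964871d34932fc49134648c1f43014834822e91cf1cd4314381cb47f3531ca47b2e747746a4734681c72f93922ef1c91c82e24632e41c41c54643c545f1c132e32f2171be45b4244231bc4541bb4002c72444501ba2c91b744c2cc1b52d03ed44844043f4421b01af3f42bc1b32be1ad43d1ac42e4342141aa1cc4371a943242f3681a842b1a72a22041a54283641bd42242041b2ab1a035919f41820919d41338b40520e36040421228619919840719c1d919728140119532d30b3fb1932943063f93f73f228d18f3f03ef27b24227d18c3ea18b20d3e72742751881872083e11843dd1833db1823d92682691803d33d13c13cd3bf3a83c73a617c17b24d3b817625024817736e1743133b43b11722593b03a225c17a1793a539e25816d39c16c2cf24127c24316a39739616939339032716838d17d37c37b38037f16138522e16223015f16437537815c37337122615820322222315418536d21d21e14e1f636a1493692d919b1482b614729521021114529827714435d18e29d27114235b18a2aa22435720135233c13d3501f334c17e13b1d134821b3432fd1fc3383371de1381361353343311bf13432b32a1333251dc32131131d30f1301f03161e413213128f12e30c30a3071d430313c1f81392f81272f72b42f42f12e62e52ea1252e02e11201b92dc11e1e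a2d82a62d42d22cd1c21192cb1182c81b22bd1b41162c12c01152bb2b91142b52b22ae2ac1132a91121a21a31102a129f10f29c29021610e29329228e10d28b10c28719119210a28020a10927a27820510827327217f22026f26d26b0fe2671861fa23725e25d24c24b0f925725a0f42550f325116f0f71710f12472450f024023d2391670fb0ea22c15e22f2320e822d1630e722914015a0e322514f1551562211530fc0d814d15721c1500d613a0d22192152130d020f20c0ff2070ef15b13f0d11fe1d21f914b1d01ef0c81ee1ed1e91e61db1da1df0c61d810012c0c30cb0ca0bd1ce1241c61260bb1221211c30b81c00b711b11c0b51b81b60b41b11ae1ab1a61a40b21a119e19a1961940af19018d1891070ad1041051031020a812d1431810fd15216609e1780f61700f809c17517309b16e16b1410990ec0ed09716509616015d0e60950dc1590d70de0a409a0e10a50e40db0da0a91510e214c08908808514a13e1460a30ce08408312a12907d1370c512f0c707b12b0790bf07a0c10771280761230ba0b911f11d07011a1170b11110b307110b06f1060670ab0a70d91010aa0610dd0e00cf05f0a00a105d0fa05c0f50f20df0ee05a0eb0e90e509405806806906006a05408d0870550570d50d408c04d0d30cd0cc04b07f04c0810490c90480c40c00c20460be0bc07507404106e0b00b60ae07204003f06b08f0910920ac0390380630640360a60900a203409f09d03309805909308a03b08b08e02f02e04f03105102c08608008202a07e07c02907804202502404507306d06c02102203c05601e06606501d06201c05e05b03205001905305201804e01704a04702801401304404301203d03e01000f03a03703500d00c03002d02b00a00902702602300802001f00601b01a00501601501100700e00b004003002001000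
/-- The packed table of the generator g. -/
def TB_g : ℕ := 0x7ff7bf7cc8027bd80380480678677c8097c17d876d7ed7ec7f67537517f975e7aa7f07907427f37ee7ef7fb7fa72a7a371a7e27d57b47c272e79f7e87167937de7df7766e97187d97da7fd70e6f87e777b7196d17b86f46f56e06df8077706b86b77c66b17c87c571e6a37e57fe6a08087a68057136cc6936ca7d169068e7757e679d68778a72476467b67a76b6767f479b6bb78c7be67069c7ea6de6747347e36617b379a7a979c65b69b6577957966547e07917927f276a64c74b7a76447b178878964380164078378463f6416a96b577e6378007d477a6dd6296ea7dd7b56237157696227cb62063d7fc61e7ac78f77262a72b6146137af72368660f68360d7f575075a74f75c60b7546086066057587f86037f775d75b74c74d74e78d5f76816d26776f26f170d6a27f173268c7356be6bd64e5e65d96245d45ea68d73f7a05d074170872f7307e47035c67677eb7265bb5be7296ab7b07635b36ff7116d77c466d5a35a17e97d37db6f97e17735927bc5907206d96db7d77447066e258a70973158170c6eb5c872d6665aa6847215f657257157059c7177d665e5677cf7d06e77467455bc6e45596e15567057777dc59e6f36d055d6ef5ed70b6ed7ce7cd7a277963570f56c7106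3171f5a253b5525397487d26e65b25ae6947bb6c47b952b57757458f5536cb56854c54b6c05e373e73d5137a851050f7ca7c96b077f6396b35077c76b65095cb6ad6ac7256827806346915195b64f87c37436a17c06724ec6587a47986974ea4e969a4e852c6cd7ba4e46a77b74e07b67367404dd5956684dc7b276267c7007606aa7494d550e53f4db6857ae7ad4d24d07477ab6607a166f69f4cb7a56734ed71d54a4cf4ce4c368961c70260c4ee65c4b979e6754b86f74b366379961b61969d7974ae6527944ad6556506514a573c61a78e4a45fa6454a34a14a064978b78749f78178578249d76e61f4fd50b6b449a77d5046dc6a84fe4fc6d862d49149063048f61676877848c48b59448a73977477154176f63c76c48566765a64d65961761862b47576676561047261276147075f66575946e46f7574697567554687526026014975754605a845f56a64a45845674a6fe4c745244e5ad4da5015a953c6e35d354d7375645635cf73b5b04396bf4de5d243c5155144a75cc42d4e573a5284285c443f7385ec5e14237335e750541d5dc6ae41956f70457f72c5c15d64124165c556057e72740e6f072840f55f40b57c6a540a57b7226cf5365e54296ce5f25325407015ef5fd59759f3fd3fc71c6d671b3fb5a66e856d6fa59a59b41b4635a741f68a6263e471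43e27126c64065423e054470a5823d65853d05873cf55a5897074185c75bf4045b75b44573c73c66c83c55ff6c73c36fd6fc6fb5c93fa59d6da4bd5fb3bd6c36f65545575e95e84224135c05b95506e53ab3a75836ee3d15656ec3a65666c56d43a355e4893e15eb6c26c166c42f5034cc3b449858b3c058d6215ab67e3a03885ee6d55386d353a51f5b152952438c5ac38a51b38237f51d6956c93865355d837d51e3c95343d54d638938753752652d37e5303986a64fb4fa43a5df5de6bc3673656ba6b967f4d44d363a49b6af3616b23625ce63654835a5f035749663363b6325185174816a434f34e4be4f134c34b4f434a4bb66466e69e34969969869642b3455da6923433423e968f3415e268b68867d5f13ec39a39952268050d50c67933a67866b66a3335476714c94ca46c5f532e44233666936b3ca4bc4734f556b4c04ef31f66265f4b431d31c4b765d31b4b04b13196566534ab4ac3173183145dd48064f64b64831064764664230f63e48650a63835f5456004ff35635548730062f62e62c3902fe62862762554f2fb49349c61d2f83013024f94a647b3523cc47847f2f32f247c46a2ed6152ec4bf6112eb60e60960a2f64c82e54776076043662e12e044959835c2de5fe5fc45d45e4444242d62d55f957a5f82d43f92d25f442e4202d15f32ca36f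4034084644402c442742645c3f74c52bd4485d53b63ea5e02b75165e43314322b82b236c2b14373922b05494515db2ad4e74095af5d74464452a645b5d15623b24505962a35cd2a45992a05ca5803ce5c23e329b5615c329e3ae5ba5bd2963cb5b85b542a44a30658e38b57d44b2dd3f03eb2892885a55a45a056e4542d34433e52823ef2832c727f4013f42cd2df4d940043d4e12b43092a53f659341559154e58c27c26f3d326d3d937b3db26c2705885232663dd26555858658441729047d40c4c15252605795785763c25733c43b054332826156925f3b325d3a13a825543e2535463bb4213a43c126441026239e55c24e24b3b855b5552523b15512493b953e24a3ac24636e3714d84d751a2c139335e23c39643123b48e23923832753340553152153d52052a37c23623552f22f37552e51c5273853da23423337322c22938022837822739b35444c39c36d4344c23292952d851246751121833b50650820e4993952774622715022042a950049549437020047e2f433c4f74f61fb4f34f24f04eb21b23d1f64e61f54e34e24df2232422371f23503634d11ef1fc1fd4c41ed3164cd1eb4382f532d4c632f1e932521a36a3bf38d32232b1e81e73263111e24ba1e14b64b54b21e04af4a94aa3341ec4a81ea1da3214a249e1d81d728f1d62763e728b2914072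021d32fa4824834921d048d2221cf4883031ce4842ea46d33035147a4792e61cb1c91c84764744712f71cd1cc1c62f146b1c52c61c44664653ed4614022cb2c22541be3681bd45a4594553f845344f1ba2c81bb3ee1b72dc44d1c02cf3f22e31b34472a82db3972bb1b51ae4411ad2c023f2b543643b1aa2b93e81a94354334301a821742c2a11a61a53582c32194253e641c41e1a02ac41a29c41119d29f41419c26319b21540d36919a2871d53073cd30c2801961953081bf3ff3fe2931991981bc3f33f518f28e3f124418d3df18c20a1b020b35d30a18918820520635b3d73de1833dc3d826718418118026b3d43d23af2993ad3be3c83bc2513ba17a17924717817524c1743b72da3b53a525e17c17b3aa1702573a939f3a216d25a39d24027e16b33f16a2452ba16934739439116838f38e33e38438337a37922d16416038115f23237716215c3763743721582011d43402fd22122021f15616615534832a2a73642ae1482971ab20f14914614521336014418b27827a19e14218727227335913f30522535313d1f133733834d17e14b13a13934634417d13833d1fe1373391df33531533231332c3243231db13413213132031e31a1ee13613512f1e631212e30e30d30b29222430413c1292ff2fc2f92e92e82f01252ef2ee1272e72e42e21b811f11e2c928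a2d92d72842ce2d01191c32cc1b12bf1172c51161b62791152be2bc1142142b62b32af1132ab2aa1a11111101a42a210f20929d29a29829428628510d28d28c19010e10b10a19428110927d27b20c10827527420716718526a26e0fe2692680fd1fa1f425024f25c25b2590f70f425825616e0f90f224d0f11732480f024324123e23a18621d15d2310e922b0e823022e0e716522a12c0e315322610121e21c1541590fc0e20d70e10fb0d40de1f913e2122160d021121020d12d2080cf0ce20314a1ff1d20ca1f81f71f31f01de1dd1e50c61e41e30c81dc1d914315b0cc0cb1d11231c70bc1ca0bb1281211220b81c21c111a0b60b511d1b90b41b41b21af1ac1a70b21a31a219f1931970af19219118e18a0ad1021030ab1051061570a30ef18217f15214e0f517209d17709c0fa17609b17116f16c0ff0eb0980970ee09616316115e0950da0db15a15114f0dd09014c0e008d0e40e50a90881500a808914d0cd0830c31471411400d312b12a13b0c413007c13307b0c90d10be0780800770c20761261240b90ba12007011c11b11807111206c0ae10c0b01070a61040660d90d60610ac06009a10009f05e05d0a205c0f80f60f30a405a0ed0ec0ea0e609408a05608f0df0910860dc0530500930d50d804d08e04c07a0d207e04a0c00490820480c70c50840460c10bf0bd07407506d0400b30b703f03d0730b106b03b0680690390aa0620370360650a70a50340a10a009e03509905903105509205702f08c04e02d08b02c05208708502a08107f07d02b07902604304402502207206f02306e03c06a01f06701d06406305b05f03303205801a05401805104f04704b02902801504504201303e04102101103a01e03801c00e03001902e01700b02701402401202001000f01b00d00c01600a009008003006005001007000004002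

/-- The coset table. -/
def tab : Gen → ℕ → ℕ
  | Gen.a, i => lk TB_a 12 i
  | Gen.b, i => lk TB_b 12 i
  | Gen.c, i => lk TB_c 12 i
  | Gen.d, i => lk TB_d 12 i
  | Gen.e, i => lk TB_e 12 i
  | Gen.f, i => lk TB_f 12 i
  | Gen.g, i => lk TB_g 12 i

/-- The generator with a given number. -/
def genOf : ℕ → Gen
  | 1 => Gen.b
  | 2 => Gen.c
  | 3 => Gen.d
  | 4 => Gen.e
  | 5 => Gen.f
  | 6 => Gen.g
  | _ => Gen.a

/-- Packed parents of a spanning tree of the table. -/
def PAR : ℕ := 0x7d47bf7a67a57a278f78e78378177c77b77a77976c76575f75275275175074f74774273c73b73472e72d72b72a72771b71a71671070d7067037026f86f86f76f16f16ea6e96e66df6df6dd6db6da6d96d86d36d16ca6c76c36c16c16bb6b96b86b76b46b16af6a66a56a36a36a16a06a069c69c69769469369369369068e68c68c68868768768468367b67967867667667467267167067066e66d66c66a66766566166165f65f65b65b65865765665465465364f64d64c64c64c64a64964464464364264264164063f63e63e63e63b63963963763763162e62d62962962962462362362362262262061f61e61d61c61a6196166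1561461361361361360f60f60d60d60d60b60b6096096076076066056056046036036036036026026015f85f75f15ee5ea5e85e85e65e65e65e55e45e15de5de5dd5dc5d95d95d45d35d25d25d25d05cd5cb5c85c75c65c65c25be5be5bd5bb5ba5b95b95b75b65b35b35ac5aa5aa5a45a35a15a15a159e59c59c59459259259058e58d58a58a58a58958858858658558158158157f57f57e57c57c57b57357257157056c56c56c56b56756756756656356355f55d55955855655655655555355255255255054f54d54d54b54b54a54854554454354254154053d53b53a53953953953853553252c52c52b52b52b52552552452151d51b51a51a51751451451451351351050f50f50f50a5095095095075075065065035004ff4fe4fd4fd4fc4fc4fa4f94f84f84f34f24f14ed4ec4ec4ec4ec4eb4ea4e94e94e84e84e84e84e44e44e44e04e04df4de4dd4dd4dd4dc4dc4dc4db4db4db4db4d84d54d44d44d34d34d24d24d14d04d04d04ce4ce4cd4cb4cb4cb4c84c84c74c54c44c44c34c34c24bf4bf4bb4ba4b94b84b84b84b64b34b34b34b24b14af4ae4ae4ac4ac4ab4a94a84a64a54a54a54a54a44a44a24a24a14a04a049f49f49f49e49d49d49d49c49c49c49b49b49a49a49949849449449449349249149049048f48f48f48f48c48b48b48a48a48a48a48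748648648548448248148047f47c47847647547547547447247247247047046f46f46e46e46b46946946946846846646546246146045e45d45945945845645645644f44f44e44e44c44b44b44b44844543f43f43e43e43d43c43c43943943943943643443443242e42d42d42d42a42842842742642642642342341f41f41d41d41b41941941641641641441341241141041040f40f40e40e40e40d40c40b40b40b40a40a40a4094094084074064064054044044034024003fe3fd3fc3fc3fc3fc3fb3fb3fb3fa3fa3f63f33ee3ed3eb3ea3e93e73e43e43e23e13e03de3db3d73d63d63d53d43d23d03d03cf3cf3cf3cf3ce3ce3cc3cb3cb3ca3c83c73c63c63c53c53c43c33c33c33c23c13c03c03c03bf3be3bd3bd3bc3b93b83b63b63b13ae3ae3ad3ab3ab3aa3a73a73a73a73a63a63a63a03a03a039f39e39c39939939839839739639539339139138e38d38c38a38a38a38938838838838738738738638638538338338338338238137f37f37f37f37e37e37e37d37d37d37b37b37b37937937837637537437337137037037036c36c36c36936736536536536336336336236236236136136035f35f35e35a35a35735635535535535435435135034f34e34e34d34c34b34b34a34a34a34a34a349349349349346345345345343342342342341341341341341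34033f33f33f33c33b33b33b33a33933733633633333333333233033032f32e32e32c32b32932832632632532332232031f31f31f31e31d31c31c31c31b31b31b31931931831831831731731431431431431331231031031031030f30f30e30d30c30b30a3093053053053023003003003002ff2fe2fe2fe2fe2fd2fb2fa2fa2f92f82f82f82f72f62f32f22f22f12f02f02f02ef2ee2ed2ed2ec2ec2ec2eb2eb2eb2eb2e82e82e52e52e52e52e32e12e02df2df2df2de2de2dd2dd2dd2db2d72d62d52d52d52d52d42d32d22d12cf2ce2ce2cb2ca2ca2c72c72c62c52c42c32c32c22c22c12bd2bd2bd2bb2ba2b82b72b72b72b52b32b32b22b22b12b12b12b02b02af2ae2ad2ad2ab2a92a82a82a72a62a62a62a52a52a42a42a32a32a22a12a02a029e29e29e29c29b29b29b29a29929829729629629629529429329129129028f28e28d28c28b28928828828828728528428428328328228228128027f27f27e27e27d27c27a27927827727627527427327227127027027026f26e26d26c26b26a26a26926826726626626526526526526426326226226226126026026026025f25f25f25d25d25d25b25b25b25a25925825725525525325325225225124f24f24f24f24e24e24d24b24b24b24b24a24a24a24924924924824724624624524224224023f23e23e2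3c23c23c23b23b23923823823523523523323323323223123123123022f22f22f22e22d22c22c22b22b22a22a22922922822822722722622322221f21b21a21921821721721421321221121020f20e20d20c20b20b2062052042042022022022012002002001fd1fd1fc1fb1fb1fb1fb1fa1f71f71f61f61f51f51f51f51f41f41f41f21f11f11f01ef1ef1ef1ee1ed1ec1ec1eb1eb1eb1ea1ea1ea1e91e81e71e71e71e71e61e51e51e51e41e31e21e21e11e11e11e11e01e01e01e01dd1dd1dd1dd1da1da1da1da1d81d71d71d61d61d61d61d51d51d41d31d31d31d31d21d01d01d01cf1cf1cf1ce1ce1cd1cc1cc1cb1cb1cb1ca1ca1c91c81c81c81c81c71c71c71c61c61c61c51c51c41c41c41c41c31c21c11c01bf1be1be1bd1bd1bd1bc1bc1bb1bb1ba1ba1b91b81b71b71b71b61b51b51b41b31b31b31b11b01af1af1ae1ae1ad1ad1ad1ac1ac1ab1aa1aa1aa1a91a91a91a91a81a81a81a71a61a51a51a51a51a41a31a21a11a01a01a019f19f19d19d19d19c19c19b19b19b19b19a19919819819819819719619519519519519419319319319219119018f18f18f18e18d18d18c18c18c18b18b18b18918818818718718718418318318318218218118018018017e17b17b17b17917917917817817717717617617517517417417417417317217217217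117017017016f16e16d16d16d16c16c16b16b16a16a16a16916916916916816816816616416416216216116116016015f15f15e15d15c15c15c15c15815815815615515415415314e14e14c14b14a14914914914814814814714714614514514514414414414414314214214214214113f13f13f13e13d13d13d13d13c13c13b13a13913913913913813813813713713613513513513513413413413313313213113113113113013013012f12f12f12e12e12e12e12d12c12b12a12912912812712712712612512512512412312212112011f11e11e11e11e11d11c11b11a11911911911811811711711611611611511511511411411411411411311311311211111011011010f10f10f10f10f10e10e10e10d10d10d10c10c10b10a10a10a1091091091091081081081081051021000ff0fe0fe0fe0fd0fc0fb0f90f90f70f70f60f50f40f40f40f30f30f20f20f10f10f10f00f00f00f00ef0ee0eb0ea0ea0e90e90e80e80e80e70e70e70e40e30e30e30e20e00dd0da0da0d90d80d70d60d60d40d40d30d20d20d10d00d00d00d00cf0cf0cf0ce0ce0cc0cc0cb0ca0ca0ca0c90c80c80c80c70c60c60c60c50c40c30c30c20c00bf0be0bd0bd0bc0bc0bb0bb0ba0b90b80b80b80b70b60b50b50b50b40b40b40b40b40b30b20b20b20b20b10b00af0af0af0af0ae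0ad0ad0ad0ab0ab0ab0a60a30a30a30a20a009f09e09e09d09d09c09c09c09b09b09b09b09a09909809709709609609609609509509509409309109009008f08f08d08d08d08908808808808708608508308308308308208008007f07e07d07d07c07c07b07b07a07907807807707707607607607307207107007007007006f06f06c06c06c06c06b06706506406306206106106006006005f05e05d05d05c05c05c05c05b05a05a05a05a05905905805605605605505405205105005004f04e04d04d04c04c04c04b04a04a04904904804804804704604604604604304204104003f03f03f03d03d03d03c03b03b03a03903903803703603603603503403403403403303303203103103103002f02f02e02d02d02c02c02c02b02a02a02a02a02902902602502402402202202202102102001f01e01e01d01d01d01c01c01c01b01a01901901801801801701701701601401301301301201201201000f00f00f00f00d00c00c00c00c00a009009009009008008008006006006005005005004003003002001001000000000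
/-- Packed generators of a spanning tree of the table. -/
def PGN : ℕ := 0xe74dad6351b6bd6a2556d32f531030182e90264abac3097b5d59c6e553ba8da2b9bb8dd63b4128a79d74dd6a76d80bced8b5b1caf14dea1eaf4d4aa55bb5672d557657b57ac5557a170d89b90a79eb63cdb76166e55398d8ded01a567aa8c9a9bcc32ab576d615a230d99ea9c8c191429a493573d6356c8c42d9513b0e5b336c78d45b7647164dbbab176bac3a9c9bd5eb2c61eaec656aa1b59a938b26cdbab2f54dbaabb6dd61cabdad85d8ac55649585ddaeb0ed7585d89b89c8f557579d99bd666d8badaf6819d1d89c6626ce8ca89ad15ced8b167159586bcaa8b54de8f45627538a59768ce8aab4c8d3cb36dc893bae8cd4ea7767a3d137626f468c4aa70ad628c465271c4da75b6e30f591889d8cc7a3362d146616d36ec5627b4562b164ea5a6b1989bda5daeb19d627aadabd632ec4ec49b8b556b7a37644dc7aabb57a1cec59eb137ac59b6db762bac4f589e8de89bb1bb1379eb34623d193b5874b14bb4675c4d4f5665d0c4f44ead13af3d5eadeadd8f456559379d89ea9b6f44dbae36ebda26ecb326f5a9c75badb6ec5aeaec6debac4ec61eb1462331969acf589d8cc4f466c5a26f5713b5eaf5dac6632ec4f44dc51579ebab6eb8ec6dc6de6ebaf4b1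3d556f589d79eb146346f44f57ac8c6b632ec4de7ac5a31633a33b5d61b1eb13cce8b3b1d8abda3362d165ac4dd735d159564deadd4f44ed79eaeb7abd62d5ddab2db7aaaf57a68c6b63376acbb136f54f3d5d836b63baaaf6adc66331455e7ab2ec4f44deaabcf57ac1ac51455e7ab7ac5994aa7014ec5aaaf6af585eb13ccbd6266ed19d1676c66c55ed19b168b589a6b27627a26dbbb565b6f555e7abd66b18d55dabd63362d557b57ac3ac45b7acc945137aaaf3d5eb0b6ebcf59ab3a24db26e87275bd628c651ad13b13d136cb4dd79ea96aaed5eb197ac4deb13d1689e8db75e7abd62576bab3a26dc0ce89689bba32e26ebcf5573d752dbd628f465d6dbd74576bac6f5899ba155bd1bd74573d756f589bba33a25a3d6ed5bd62ad689eb73d5bd62af3b3455b75eb2b0dd7acac3b62ac5b19b6336c66c562b13cde588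

/-- The cosets, in nested blocks of 16. -/
def Qc : List (List (List (List Q))) :=
[[[[N0, N1, N2, N3, N4, N5, N6, N7, N8, N9, N10, N11, N12, N13, N14, N17],
[N18, N19, N20, N21, N22, N23, N24, N25, N26, N27, N28, N30, N38, N39, N40, N41],
[N42, N43, N44, N45, N46, N47, N48, N51, N52, N53, N54, N55, N57, N58, N59, N60],
[N61, N63, N67, N80, N81, N82, N84, N85, N86, N87, N88, N89, N90, N91, N92, N93],
[N94, N95, N96, N97, N98, N99, N100, N101, N103, N104, N105, N106, N107, N111, N112, N113],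
[N114, N115, N117, N119, N120, N121, N123, N124, N125, N131, N160, N161, N162, N163, N164, N165],
[N166, N171, N172, N173, N175, N176, N178, N179, N180, N182, N183, N184, N185, N186, N187, N188],
[N189, N190, N191, N192, N193, N194, N195, N196, N197, N198, N199, N201, N203, N204, N205, N206],
[N207, N208, N210, N211, N212, N213, N219, N220, N221, N222, N224, N225, N226, N230, N234, N235],
[N241, N243, N244, N247, N261, N262, N319, N320, N321, N322, N323, N325, N326, N327, N328, N329],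
[N330, N332, N333, N334, N335, N336, N349, N350, N351, N352, N356, N357, N364, N372, N373, N374],
[N375, N376, N377, N378, N379, N380, N381, N382, N383, N384, N385, N386, N387, N388, N389, N390],
[N391, N392, N394, N395, N401, N402, N403, N404, N405, N406, N407, N408, N409, N410, N416, N417],
[N418, N419, N420, N423, N437, N438, N439, N440, N441, N442, N458, N459, N460, N469, N470, N481],
[N483, N488, N493, N518, N520, N521, N523, N630, N631, N633, N634, N635, N636, N638, N639, N640],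
[N648, N649, N650, N651, N652, N653, N654, N655, N656, N657, N658, N659, N660, N665, N667, N668]],
[[N669, N694, N707, N708, N709, N731, N732, N734, N735, N736, N737, N738, N739, N740, N741, N742],
[N743, N744, N745, N746, N747, N748, N749, N750, N751, N752, N753, N754, N755, N756, N757, N758],
[N759, N760, N761, N762, N763, N764, N765, N766, N767, N768, N769, N770, N777, N778, N779, N790],
[N791, N792, N793, N794, N795, N796, N797, N798, N799, N800, N801, N802, N803, N807, N808, N819],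
[N821, N822, N823, N824, N826, N827, N828, N829, N830, N832, N833, N836, N863, N865, N869, N871],
[N873, N874, N875, N912, N913, N933, N961, N980, N1031, N1032, N1034, N1036, N1265, N1266, N1267, N1268],
[N1269, N1270, N1274, N1275, N1276, N1277, N1278, N1283, N1285, N1302, N1303, N1304, N1305, N1306, N1307, N1308],
[N1309, N1310, N1311, N1312, N1313, N1314, N1315, N1316, N1317, N1318, N1319, N1320, N1321, N1322, N1325, N1337],
[N1341, N1342, N1343, N1344, N1346, N1416, N1459, N1465, N1466, N1467, N1468, N1469, N1470, N1471, N1472, N1473],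
[N1474, N1475, N1476, N1477, N1478, N1479, N1480, N1481, N1482, N1483, N1484, N1485, N1486, N1487, N1488, N1489],
[N1490, N1491, N1492, N1493, N1494, N1495, N1496, N1497, N1498, N1499, N1500, N1501, N1502, N1503, N1504, N1505],
[N1506, N1507, N1508, N1509, N1510, N1511, N1512, N1513, N1514, N1515, N1516, N1517, N1518, N1519, N1520, N1521],
[N1522, N1523, N1524, N1525, N1526, N1527, N1528, N1529, N1530, N1531, N1532, N1533, N1534, N1535, N1536, N1537],
[N1538, N1540, N1541, N1545, N1557, N1560, N1562, N1563, N1564, N1565, N1583, N1584, N1585, N1586, N1587, N1588],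
[N1589, N1590, N1591, N1592, N1593, N1594, N1595, N1596, N1597, N1598, N1599, N1600, N1601, N1602, N1603, N1604],
[N1605, N1606, N1607, N1608, N1609, N1610, N1611, N1612, N1613, N1614, N1615, N1616, N1625, N1626, N1627, N1628]],
[[N1629, N1653, N1654, N1656, N1659, N1661, N1662, N1663, N1664, N1665, N1669, N1670, N1671, N1672, N1673, N1674],
[N1675, N1676, N1677, N1678, N1679, N1680, N1681, N1683, N1684, N1685, N1686, N1690, N1749, N1756, N1758, N1838],
[N1841, N1843, N1872, N1933, N2060, N2061, N2063, N2474, N2475, N2476, N2477, N2478, N2480, N2483, N2484, N2485],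
[N2486, N2487, N2488, N2494, N2495, N2496, N2497, N2498, N2512, N2513, N2514, N2544, N2545, N2546, N2547, N2548],
[N2549, N2550, N2551, N2552, N2553, N2554, N2555, N2556, N2557, N2558, N2559, N2560, N2561, N2562, N2563, N2564],
[N2565, N2566, N2567, N2568, N2569, N2570, N2571, N2572, N2573, N2574, N2575, N2576, N2577, N2578, N2579, N2580],
[N2581, N2582, N2583, N2584, N2585, N2593, N2622, N2623, N2624, N2625, N2626, N2627, N2628, N2629, N2630, N2634],
[N2816, N2817, N2818, N2820, N2821, N2822, N2824, N2825, N2826, N2828, N2829, N2830, N2831, N2832, N2833, N2835],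
[N2836, N2837, N2838, N2839, N2840, N2841, N2842, N2843, N2844, N2845, N2846, N2847, N2848, N2849, N2850, N2851],
[N2852, N2853, N2854, N2855, N2856, N2857, N2858, N2859, N2861, N2862, N2864, N2865, N2866, N2867, N2870, N2871],
[N2872, N2873, N2874, N2875, N2876, N2877, N2878, N2879, N2880, N2881, N2882, N2883, N2884, N2885, N2886, N2887],
[N2888, N2889, N2890, N2891, N2892, N2893, N2894, N2895, N2897, N2898, N2899, N2900, N2901, N2902, N2903, N2904],
[N2905, N2906, N2908, N2910, N2911, N2912, N2913, N2914, N2916, N2917, N2918, N2919, N2920, N2921, N2922, N2923],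
[N2924, N2925, N2926, N2928, N2929, N2930, N2931, N2932, N2934, N2935, N2936, N2939, N2941, N2942, N2943, N2944],
[N2945, N2946, N2947, N2948, N2951, N2952, N2953, N2954, N2955, N2956, N2957, N2958, N2959, N2960, N2961, N2962],
[N2963, N2964, N2965, N2966, N2967, N2969, N2970, N2972, N2973, N2974, N2975, N2976, N2977, N2978, N2979, N2981]],
[[N2983, N2988, N2989, N2990, N2991, N3014, N3020, N3021, N3025, N3026, N3027, N3028, N3030, N3031, N3032, N3074],
[N3075, N3076, N3077, N3078, N3079, N3080, N3081, N3082, N3083, N3084, N3085, N3086, N3087, N3088, N3089, N3090],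
[N3091, N3092, N3094, N3095, N3096, N3097, N3098, N3099, N3100, N3101, N3102, N3103, N3104, N3105, N3106, N3107],
[N3110, N3111, N3112, N3113, N3114, N3116, N3117, N3118, N3119, N3120, N3121, N3122, N3123, N3124, N3125, N3126],
[N3127, N3129, N3130, N3131, N3132, N3133, N3134, N3135, N3136, N3138, N3141, N3142, N3143, N3144, N3157, N3161],
[N3162, N3167, N3168, N3169, N3219, N3222, N3223, N3224, N3233, N3235, N3238, N3243, N3260, N3261, N3263, N3265],
[N3269, N3270, N3271, N3272, N3274, N3276, N3278, N3288, N3289, N3291, N3292, N3295, N3306, N3554, N3596, N3696],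
[N3900, N4527, N4528, N4529, N4530, N4531, N4532, N4533, N4534, N4535, N4536, N4537, N4538, N4541, N4542, N4543],
[N4544, N4545, N4546, N4547, N4548, N4549, N4550, N4562, N4563, N4564, N4565, N4566, N4567, N4592, N4593, N4594],
[N4664, N4665, N4666, N4667, N4668, N4671, N4672, N4673, N4675, N4677, N4678, N4684, N4685, N4686, N4687, N4688],
[N4689, N4690, N4691, N4692, N4693, N4694, N4695, N4696, N4697, N4698, N4699, N4700, N4701, N4702, N4703, N4704],
[N4705, N4706, N4707, N4708, N4710, N4711, N4714, N4715, N4718, N4719, N4720, N4721, N4722, N4723, N4724, N4725],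
[N4726, N4727, N4728, N4729, N4730, N4731, N4732, N4733, N4734, N4735, N4736, N4737, N4738, N4740, N4742, N4757],
[N4758, N4759, N4760, N4816, N4817, N4818, N4819, N4820, N4822, N4823, N4824, N4825, N4827, N4829, N4838, N5062],
[N5063, N5064, N5066, N5068, N5070, N5071, N5072, N5074, N5075, N5077, N5079, N5081, N5084, N5086, N5087, N5089],
[N5090, N5091, N5092, N5093, N5094, N5095, N5097, N5098, N5100, N5101, N5102, N5103, N5104, N5105, N5106, N5108]],
[[N5111, N5113, N5114, N5115, N5116, N5117, N5120, N5121, N5122, N5123, N5124, N5126, N5127, N5129, N5130, N5133],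
[N5134, N5139, N5141, N5142, N5143, N5144, N5147, N5148, N5149, N5150, N5151, N5152, N5153, N5154, N5155, N5156],
[N5157, N5159, N5160, N5161, N5162, N5163, N5164, N5167, N5168, N5170, N5171, N5174, N5175, N5176, N5177, N5181],
[N5182, N5183, N5184, N5185, N5186, N5187, N5188, N5189, N5193, N5195, N5196, N5197, N5199, N5201, N5203, N5205],
[N5206, N5207, N5213, N5217, N5218, N5222, N5224, N5226, N5228, N5230, N5232, N5233, N5238, N5239, N5240, N5243],
[N5244, N5245, N5249, N5252, N5257, N5258, N5259, N5260, N5261, N5262, N5263, N5264, N5278, N5282, N5283, N5284],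
[N5286, N5287, N5288, N5289, N5290, N5292, N5293, N5294, N5302, N5303, N5304, N5305, N5307, N5308, N5310, N5311],
[N5312, N5313, N5314, N5315, N5316, N5317, N5318, N5319, N5321, N5322, N5323, N5324, N5325, N5326, N5327, N5328],
[N5336, N5340, N5341, N5342, N5343, N5344, N5346, N5347, N5348, N5349, N5351, N5352, N5353, N5354, N5356, N5359],
[N5360, N5361, N5362, N5375, N5425, N5426, N5427, N5451, N5454, N5456, N5461, N5462, N5463, N5553, N5554, N5555],
[N5556, N5557, N5558, N5560, N5561, N5563, N5564, N5565, N5566, N5569, N5570, N5571, N5572, N5573, N5575, N5576],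
[N5578, N5579, N5581, N5582, N5583, N5584, N5585, N5587, N5588, N5589, N5590, N5591, N5595, N5596, N5597, N5598],
[N5599, N5602, N5606, N5608, N5609, N5613, N5615, N5616, N5623, N5624, N5628, N5629, N5630, N5631, N5635, N5636],
[N5637, N5638, N5639, N5640, N5641, N5642, N5644, N5647, N5648, N5649, N5651, N5654, N5655, N5656, N5657, N5658],
[N5659, N5660, N5661, N5662, N5665, N5666, N5667, N5668, N5675, N5676, N5677, N5678, N5682, N5683, N5684, N5685],
[N5686, N5688, N5689, N5691, N5692, N5727, N5729, N5739, N5740, N5748, N5857, N5858, N5864, N5865, N5866, N5870]],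
[[N5872, N5902, N5904, N5955, N5959, N5961, N5966, N5967, N5968, N5969, N5970, N5971, N5972, N5973, N5974, N5978],
[N5979, N5980, N6008, N6012, N6043, N6044, N6045, N6850, N6851, N6852, N7179, N7180, N7181, N7182, N7183, N7184],
[N7185, N7186, N7187, N7188, N7189, N7190, N7191, N7192, N7193, N7194, N7195, N7196, N7197, N7198, N7199, N7200],
[N7201, N7202, N7203, N7204, N7205, N7206, N7207, N7208, N7209, N7210, N7211, N7212, N7213, N7214, N7215, N7216],
[N7217, N7218, N7219, N7220, N7221, N7222, N7223, N7224, N7225, N7226, N7227, N7228, N7229, N7230, N7231, N7232],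
[N7233, N7234, N7235, N7236, N7237, N7238, N7239, N7240, N7241, N7242, N7243, N7244, N7245, N7246, N7247, N7248],
[N7249, N7250, N7251, N7252, N7253, N7254, N7255, N7256, N7257, N7258, N7259, N7260, N7261, N7262, N7263, N7264],
[N7265, N7266, N7267, N7268, N7269, N7270, N7271, N7272, N7273, N7274, N7275, N7276, N7277, N7278, N7279, N7280],
[N7281, N7282, N7283, N7284, N7285, N7286, N7287, N7288, N7289, N7290, N7291, N7292, N7293, N7294, N7295, N7296],
[N7297, N7298, N7299, N7300, N7301, N7302, N7303, N7304, N7305, N7306, N7307, N7308, N7309, N7310, N7311, N7312],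
[N7313, N7314, N7315, N7316, N7317, N7318, N7319, N7320, N7321, N7322, N7323, N7324, N7325, N7326, N7327, N7328],
[N7329, N7330, N7331, N7332, N7333, N7334, N7335, N7336, N7337, N7338, N7339, N7340, N7341, N7342, N7343, N7344],
[N7345, N7346, N7347, N7348, N7349, N7350, N7351, N7352, N7353, N7354, N7355, N7356, N7357, N7358, N7359, N7360],
[N7361, N7362, N7363, N7364, N7365, N7366, N7367, N7368, N7369, N7370, N7371, N7372, N7373, N7374, N7375, N7376],
[N7377, N7378, N7379, N7380, N7381, N7382, N7383, N7384, N7385, N7386, N7387, N7388, N7389, N7390, N7391, N7392],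
[N7393, N7394, N7395, N7396, N7397, N7398, N7399, N7400, N7401, N7402, N7403, N7404, N7405, N7406, N7407, N7408]],
[[N7409, N7410, N7411, N7412, N7413, N7414, N7415, N7416, N7417, N7418, N7419, N7420, N7421, N7422, N7423, N7424],
[N7425, N7426, N7427, N7428, N7429, N7430, N7431, N7432, N7433, N7434, N7435, N7436, N7437, N7438, N7439, N7440],
[N7441, N7442, N7443, N7444, N7445, N7446, N7447, N7448, N7449, N7450, N7451, N7452, N7453, N7454, N7455, N7456],
[N7457, N7458, N7459, N7460, N7461, N7462, N7463, N7464, N7465, N7466, N7467, N7468, N7469, N7470, N7471, N7472],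
[N7473, N7475, N7476, N7477, N7478, N7480, N7481, N7482, N7483, N7484, N7485, N7486, N7487, N7488, N7489, N7490],
[N7491, N7492, N7493, N7494, N7495, N7496, N7497, N7498, N7499, N7500, N7501, N7502, N7503, N7504, N7505, N7506],
[N7507, N7508, N7509, N7510, N7511, N7512, N7513, N7514, N7515, N7516, N7517, N7518, N7519, N7520, N7521, N7522],
[N7523, N7524, N7525, N7526, N7527, N7528, N7529, N7530, N7531, N7532, N7533, N7534, N7535, N7536, N7537, N7538],
[N7539, N7540, N7541, N7542, N7543, N7544, N7545, N7546, N7547, N7548, N7549, N7550, N7551, N7552, N7553, N7554],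
[N7555, N7556, N7557, N7558, N7559, N7560, N7561, N7562, N7563, N7564, N7565, N7566, N7567, N7568, N7569, N7570],
[N7571, N7572, N7573, N7574, N7575, N7576, N7577, N7578, N7579, N7580, N7581, N7582, N7583, N7584, N7585, N7586],
[N7587, N7588, N7589, N7590, N7591, N7592, N7593, N7594, N7595, N7596, N7597, N7598, N7599, N7600, N7601, N7602],
[N7603, N7604, N7605, N7606, N7607, N7608, N7609, N7610, N7611, N7612, N7613, N7614, N7615, N7616, N7617, N7618],
[N7619, N7620, N7621, N7622, N7623, N7624, N7625, N7626, N7627, N7628, N7629, N7630, N7631, N7632, N7633, N7634],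
[N7635, N7636, N7637, N7638, N7639, N7640, N7641, N7642, N7643, N7644, N7645, N7646, N7647, N7648, N7649, N7650],
[N7652, N7653, N7654, N7655, N7656, N7657, N7658, N7659, N7660, N7661, N7662, N7663, N7664, N7665, N7666, N7667]],
[[N7668, N7669, N7670, N7671, N7672, N7673, N7674, N7675, N7676, N7677, N7678, N7679, N7680, N7681, N7682, N7683],
[N7684, N7685, N7686, N7687, N7688, N7689, N7690, N7691, N7692, N7693, N7694, N7695, N7696, N7697, N7698, N7699],
[N7700, N7701, N7702, N7703, N7704, N7705, N7706, N7707, N7708, N7709, N7710, N7711, N7712, N7713, N7714, N7715],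
[N7716, N7717, N7718, N7719, N7720, N7721, N7722, N7723, N7724, N7725, N7726, N7727, N7728, N7729, N7730, N7731],
[N7732, N7733, N7734, N7735, N7736, N7737, N7738, N7739, N7740, N7741, N7742, N7743, N7744, N7745, N7746, N7747],
[N7748, N7749, N7750, N7751, N7752, N7753, N7754, N7755, N7756, N7757, N7758, N7759, N7760, N7761, N7762, N7763],
[N7764, N7765, N7766, N7767, N7768, N7769, N7770, N7771, N7772, N7773, N7774, N7775, N7776, N7777, N7778, N7779],
[N7780, N7781, N7782, N7783, N7784, N7785, N7786, N7787, N7788, N7789, N7790, N7791, N7792, N7793, N7794, N7795],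
[N7796, N7797, N7798, N7799, N7800, N7801, N7802, N7803, N7804, N7805, N7806, N7807, N7808, N7809, N7810, N7811],
[N7812, N7813, N7814, N7815, N7816, N7817, N7818, N7819, N7820, N7821, N7822, N7823, N7824, N7825, N7826, N7827],
[N7828, N7829, N7830, N7831, N7832, N7833, N7834, N7835, N7836, N7837, N7838, N7839, N7840, N7841, N7842, N7843],
[N7844, N7845, N7846, N7847, N7848, N7849, N7850, N7851, N7852, N7853, N7854, N7855, N7856, N7857, N7858, N7859],
[N7860, N7861, N7862, N7863, N7864, N7865, N7866, N7867, N7868, N7869, N7870, N7871, N7872, N7873, N7874, N7875],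
[N7876, N7877, N7878, N7879, N7880, N7881, N7882, N7883, N7884, N7885, N7886, N7887, N7888, N7889, N7890, N7891],
[N7892, N7893, N7894, N7895, N7896, N7897, N7898, N7899, N7900, N7901, N7902, N7903, N7904, N7905, N7906, N7907],
[N7908, N7909, N7910, N7911, N7912, N7913, N7914, N7915, N7916, N7917, N7918, N7919, N7920, N7921, N7922, N7923]],
[[N7924, N7925, N7926, N7927, N7928, N7929, N7930, N7931, N7932, N7933]]]]

/-- The cosets. -/
def Qf (i : ℕ) : Q := (((Qc.getD (i / 4096) []).getD (i / 256 % 16) []).getD (i / 16 % 16) []).getD (i % 16) N0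

theorem e3 {g : Grp} {i j : ℕ} {x y : Q} (hi : Qf i = x) (h : sm g x = y) (hj : Qf j = y) : sm g (Qf i) = Qf j := by
  rw [hi, hj]; exact h

theorem q0 : Qf 0 = N0 := rfl
theorem q1 : Qf 1 = N1 := rfl
theorem q2 : Qf 2 = N2 := rfl
theorem q3 : Qf 3 = N3 := rfl
theorem q4 : Qf 4 = N4 := rfl
theorem q5 : Qf 5 = N5 := rfl
theorem q6 : Qf 6 = N6 := rfl
theorem q7 : Qf 7 = N7 := rfl
theorem q8 : Qf 8 = N8 := rfl
theorem q9 : Qf 9 = N9 := rfl
theorem q10 : Qf 10 = N10 := rfl
theorem q11 : Qf 11 = N11 := rfl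
theorem q12 : Qf 12 = N12 := rfl
theorem q13 : Qf 13 = N13 := rfl
theorem q14 : Qf 14 = N14 := rfl
theorem q15 : Qf 15 = N17 := rfl
theorem q16 : Qf 16 = N18 := rfl
theorem q17 : Qf 17 = N19 := rfl
theorem q18 : Qf 18 = N20 := rfl
theorem q19 : Qf 19 = N21 := rfl
theorem q20 : Qf 20 = N22 := rfl
theorem q21 : Qf 21 = N23 := rfl
theorem q22 : Qf 22 = N24 := rfl
theorem q23 : Qf 23 = N25 := rfl
theorem q24 : Qf 24 = N26 := rfl
theorem q25 : Qf 25 = N27 := rfl
theorem q26 : Qf 26 = N28 := rfl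
theorem q27 : Qf 27 = N30 := rfl
theorem q28 : Qf 28 = N38 := rfl
theorem q29 : Qf 29 = N39 := rfl
theorem q30 : Qf 30 = N40 := rfl
theorem q31 : Qf 31 = N41 := rfl
theorem q32 : Qf 32 = N42 := rfl
theorem q33 : Qf 33 = N43 := rfl
theorem q34 : Qf 34 = N44 := rfl
theorem q35 : Qf 35 = N45 := rfl
theorem q36 : Qf 36 = N46 := rfl
theorem q37 : Qf 37 = N47 := rfl
theorem q38 : Qf 38 = N48 := rfl
theorem q39 : Qf 39 = N51 := rfl
theorem q40 : Qf 40 = N52 := rfl
theorem q41 : Qf 41 = N53 := rfl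
theorem q42 : Qf 42 = N54 := rfl
theorem q43 : Qf 43 = N55 := rfl
theorem q44 : Qf 44 = N57 := rfl
theorem q45 : Qf 45 = N58 := rfl
theorem q46 : Qf 46 = N59 := rfl
theorem q47 : Qf 47 = N60 := rfl
theorem q48 : Qf 48 = N61 := rfl
theorem q49 : Qf 49 = N63 := rfl
theorem q50 : Qf 50 = N67 := rfl
theorem q51 : Qf 51 = N80 := rfl
theorem q52 : Qf 52 = N81 := rfl
theorem q53 : Qf 53 = N82 := rfl
theorem q54 : Qf 54 = N84 := rfl
theorem q55 : Qf 55 = N85 := rfl
theorem q56 : Qf 56 = N86 := rfl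
theorem q57 : Qf 57 = N87 := rfl
theorem q58 : Qf 58 = N88 := rfl
theorem q59 : Qf 59 = N89 := rfl
theorem q60 : Qf 60 = N90 := rfl
theorem q61 : Qf 61 = N91 := rfl
theorem q62 : Qf 62 = N92 := rfl
theorem q63 : Qf 63 = N93 := rfl
theorem q64 : Qf 64 = N94 := rfl
theorem q65 : Qf 65 = N95 := rfl
theorem q66 : Qf 66 = N96 := rfl
theorem q67 : Qf 67 = N97 := rfl
theorem q68 : Qf 68 = N98 := rfl
theorem q69 : Qf 69 = N99 := rfl
theorem q70 : Qf 70 = N100 := rfl
theorem q71 : Qf 71 = N101 := rfl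
theorem q72 : Qf 72 = N103 := rfl
theorem q73 : Qf 73 = N104 := rfl
theorem q74 : Qf 74 = N105 := rfl
theorem q75 : Qf 75 = N106 := rfl
theorem q76 : Qf 76 = N107 := rfl
theorem q77 : Qf 77 = N111 := rfl
theorem q78 : Qf 78 = N112 := rfl
theorem q79 : Qf 79 = N113 := rfl
theorem q80 : Qf 80 = N114 := rfl
theorem q81 : Qf 81 = N115 := rfl
theorem q82 : Qf 82 = N117 := rfl
theorem q83 : Qf 83 = N119 := rfl
theorem q84 : Qf 84 = N120 := rfl
theorem q85 : Qf 85 = N121 := rfl
theorem q86 : Qf 86 = N123 := rfl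
theorem q87 : Qf 87 = N124 := rfl
theorem q88 : Qf 88 = N125 := rfl
theorem q89 : Qf 89 = N131 := rfl
theorem q90 : Qf 90 = N160 := rfl
theorem q91 : Qf 91 = N161 := rfl
theorem q92 : Qf 92 = N162 := rfl
theorem q93 : Qf 93 = N163 := rfl
theorem q94 : Qf 94 = N164 := rfl
theorem q95 : Qf 95 = N165 := rfl
theorem q96 : Qf 96 = N166 := rfl
theorem q97 : Qf 97 = N171 := rfl
theorem q98 : Qf 98 = N172 := rfl
theorem q99 : Qf 99 = N173 := rfl
theorem q100 : Qf 100 = N175 := rfl
theorem q101 : Qf 101 = N176 := rfl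
theorem q102 : Qf 102 = N178 := rfl
theorem q103 : Qf 103 = N179 := rfl
theorem q104 : Qf 104 = N180 := rfl
theorem q105 : Qf 105 = N182 := rfl
theorem q106 : Qf 106 = N183 := rfl
theorem q107 : Qf 107 = N184 := rfl
theorem q108 : Qf 108 = N185 := rfl
theorem q109 : Qf 109 = N186 := rfl
theorem q110 : Qf 110 = N187 := rfl
theorem q111 : Qf 111 = N188 := rfl
theorem q112 : Qf 112 = N189 := rfl
theorem q113 : Qf 113 = N190 := rfl
theorem q114 : Qf 114 = N191 := rfl
theorem q115 : Qf 115 = N192 := rfl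
theorem q116 : Qf 116 = N193 := rfl
theorem q117 : Qf 117 = N194 := rfl
theorem q118 : Qf 118 = N195 := rfl
theorem q119 : Qf 119 = N196 := rfl
theorem q120 : Qf 120 = N197 := rfl
theorem q121 : Qf 121 = N198 := rfl
theorem q122 : Qf 122 = N199 := rfl
theorem q123 : Qf 123 = N201 := rfl
theorem q124 : Qf 124 = N203 := rfl
theorem q125 : Qf 125 = N204 := rfl
theorem q126 : Qf 126 = N205 := rfl
theorem q127 : Qf 127 = N206 := rfl
theorem q128 : Qf 128 = N207 := rfl
theorem q129 : Qf 129 = N208 := rfl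
theorem q130 : Qf 130 = N210 := rfl
theorem q131 : Qf 131 = N211 := rfl
theorem q132 : Qf 132 = N212 := rfl
theorem q133 : Qf 133 = N213 := rfl
theorem q134 : Qf 134 = N219 := rfl
theorem q135 : Qf 135 = N220 := rfl
theorem q136 : Qf 136 = N221 := rfl
theorem q137 : Qf 137 = N222 := rfl
theorem q138 : Qf 138 = N224 := rfl
theorem q139 : Qf 139 = N225 := rfl
theorem q140 : Qf 140 = N226 := rfl
theorem q141 : Qf 141 = N230 := rfl
theorem q142 : Qf 142 = N234 := rfl
theorem q143 : Qf 143 = N235 := rfl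
theorem q144 : Qf 144 = N241 := rfl
theorem q145 : Qf 145 = N243 := rfl
theorem q146 : Qf 146 = N244 := rfl
theorem q147 : Qf 147 = N247 := rfl
theorem q148 : Qf 148 = N261 := rfl
theorem q149 : Qf 149 = N262 := rfl
theorem q150 : Qf 150 = N319 := rfl
theorem q151 : Qf 151 = N320 := rfl
theorem q152 : Qf 152 = N321 := rfl
theorem q153 : Qf 153 = N322 := rfl
theorem q154 : Qf 154 = N323 := rfl
theorem q155 : Qf 155 = N325 := rfl
theorem q156 : Qf 156 = N326 := rfl
theorem q157 : Qf 157 = N327 := rfl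
theorem q158 : Qf 158 = N328 := rfl
theorem q159 : Qf 159 = N329 := rfl
theorem q160 : Qf 160 = N330 := rfl
theorem q161 : Qf 161 = N332 := rfl
theorem q162 : Qf 162 = N333 := rfl
theorem q163 : Qf 163 = N334 := rfl
theorem q164 : Qf 164 = N335 := rfl
theorem q165 : Qf 165 = N336 := rfl
theorem q166 : Qf 166 = N349 := rfl
theorem q167 : Qf 167 = N350 := rfl
theorem q168 : Qf 168 = N351 := rfl
theorem q169 : Qf 169 = N352 := rfl
theorem q170 : Qf 170 = N356 := rfl
theorem q171 : Qf 171 = N357 := rfl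
theorem q172 : Qf 172 = N364 := rfl
theorem q173 : Qf 173 = N372 := rfl
theorem q174 : Qf 174 = N373 := rfl
theorem q175 : Qf 175 = N374 := rfl
theorem q176 : Qf 176 = N375 := rfl
theorem q177 : Qf 177 = N376 := rfl
theorem q178 : Qf 178 = N377 := rfl
theorem q179 : Qf 179 = N378 := rfl
theorem q180 : Qf 180 = N379 := rfl
theorem q181 : Qf 181 = N380 := rfl
theorem q182 : Qf 182 = N381 := rfl
theorem q183 : Qf 183 = N382 := rfl
theorem q184 : Qf 184 = N383 := rfl
theorem q185 : Qf 185 = N384 := rfl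
theorem q186 : Qf 186 = N385 := rfl
theorem q187 : Qf 187 = N386 := rfl
theorem q188 : Qf 188 = N387 := rfl
theorem q189 : Qf 189 = N388 := rfl
theorem q190 : Qf 190 = N389 := rfl
theorem q191 : Qf 191 = N390 := rfl
theorem q192 : Qf 192 = N391 := rfl
theorem q193 : Qf 193 = N392 := rfl
theorem q194 : Qf 194 = N394 := rfl
theorem q195 : Qf 195 = N395 := rfl
theorem q196 : Qf 196 = N401 := rfl
theorem q197 : Qf 197 = N402 := rfl
theorem q198 : Qf 198 = N403 := rfl
theorem q199 : Qf 199 = N404 := rfl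
theorem q200 : Qf 200 = N405 := rfl
theorem q201 : Qf 201 = N406 := rfl
theorem q202 : Qf 202 = N407 := rfl
theorem q203 : Qf 203 = N408 := rfl
theorem q204 : Qf 204 = N409 := rfl
theorem q205 : Qf 205 = N410 := rfl
theorem q206 : Qf 206 = N416 := rfl
theorem q207 : Qf 207 = N417 := rfl
theorem q208 : Qf 208 = N418 := rfl
theorem q209 : Qf 209 = N419 := rfl
theorem q210 : Qf 210 = N420 := rfl
theorem q211 : Qf 211 = N423 := rfl
theorem q212 : Qf 212 = N437 := rfl
theorem q213 : Qf 213 = N438 := rfl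
theorem q214 : Qf 214 = N439 := rfl
theorem q215 : Qf 215 = N440 := rfl
theorem q216 : Qf 216 = N441 := rfl
theorem q217 : Qf 217 = N442 := rfl
theorem q218 : Qf 218 = N458 := rfl
theorem q219 : Qf 219 = N459 := rfl
theorem q220 : Qf 220 = N460 := rfl
theorem q221 : Qf 221 = N469 := rfl
theorem q222 : Qf 222 = N470 := rfl
theorem q223 : Qf 223 = N481 := rfl
theorem q224 : Qf 224 = N483 := rfl
theorem q225 : Qf 225 = N488 := rfl
theorem q226 : Qf 226 = N493 := rfl
theorem q227 : Qf 227 = N518 := rfl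
theorem q228 : Qf 228 = N520 := rfl
theorem q229 : Qf 229 = N521 := rfl
theorem q230 : Qf 230 = N523 := rfl
theorem q231 : Qf 231 = N630 := rfl
theorem q232 : Qf 232 = N631 := rfl
theorem q233 : Qf 233 = N633 := rfl
theorem q234 : Qf 234 = N634 := rfl
theorem q235 : Qf 235 = N635 := rfl
theorem q236 : Qf 236 = N636 := rfl
theorem q237 : Qf 237 = N638 := rfl
theorem q238 : Qf 238 = N639 := rfl
theorem q239 : Qf 239 = N640 := rfl
theorem q240 : Qf 240 = N648 := rfl
theorem q241 : Qf 241 = N649 := rfl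
theorem q242 : Qf 242 = N650 := rfl
theorem q243 : Qf 243 = N651 := rfl
theorem q244 : Qf 244 = N652 := rfl
theorem q245 : Qf 245 = N653 := rfl
theorem q246 : Qf 246 = N654 := rfl
theorem q247 : Qf 247 = N655 := rfl
theorem q248 : Qf 248 = N656 := rfl
theorem q249 : Qf 249 = N657 := rfl
theorem q250 : Qf 250 = N658 := rfl
theorem q251 : Qf 251 = N659 := rfl
theorem q252 : Qf 252 = N660 := rfl
theorem q253 : Qf 253 = N665 := rfl
theorem q254 : Qf 254 = N667 := rfl
theorem q255 : Qf 255 = N668 := rfl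
theorem q256 : Qf 256 = N669 := rfl
theorem q257 : Qf 257 = N694 := rfl
theorem q258 : Qf 258 = N707 := rfl
theorem q259 : Qf 259 = N708 := rfl
theorem q260 : Qf 260 = N709 := rfl
theorem q261 : Qf 261 = N731 := rfl
theorem q262 : Qf 262 = N732 := rfl
theorem q263 : Qf 263 = N734 := rfl
theorem q264 : Qf 264 = N735 := rfl
theorem q265 : Qf 265 = N736 := rfl
theorem q266 : Qf 266 = N737 := rfl
theorem q267 : Qf 267 = N738 := rfl
theorem q268 : Qf 268 = N739 := rfl
theorem q269 : Qf 269 = N740 := rfl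
theorem q270 : Qf 270 = N741 := rfl
theorem q271 : Qf 271 = N742 := rfl
theorem q272 : Qf 272 = N743 := rfl
theorem q273 : Qf 273 = N744 := rfl
theorem q274 : Qf 274 = N745 := rfl
theorem q275 : Qf 275 = N746 := rfl
theorem q276 : Qf 276 = N747 := rfl
theorem q277 : Qf 277 = N748 := rfl
theorem q278 : Qf 278 = N749 := rfl
theorem q279 : Qf 279 = N750 := rfl
theorem q280 : Qf 280 = N751 := rfl
theorem q281 : Qf 281 = N752 := rfl
theorem q282 : Qf 282 = N753 := rfl
theorem q283 : Qf 283 = N754 := rfl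
theorem q284 : Qf 284 = N755 := rfl
theorem q285 : Qf 285 = N756 := rfl
theorem q286 : Qf 286 = N757 := rfl
theorem q287 : Qf 287 = N758 := rfl
theorem q288 : Qf 288 = N759 := rfl
theorem q289 : Qf 289 = N760 := rfl
theorem q290 : Qf 290 = N761 := rfl
theorem q291 : Qf 291 = N762 := rfl
theorem q292 : Qf 292 = N763 := rfl
theorem q293 : Qf 293 = N764 := rfl
theorem q294 : Qf 294 = N765 := rfl
theorem q295 : Qf 295 = N766 := rfl
theorem q296 : Qf 296 = N767 := rfl
theorem q297 : Qf 297 = N768 := rfl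
theorem q298 : Qf 298 = N769 := rfl
theorem q299 : Qf 299 = N770 := rfl
theorem q300 : Qf 300 = N777 := rfl
theorem q301 : Qf 301 = N778 := rfl
theorem q302 : Qf 302 = N779 := rfl
theorem q303 : Qf 303 = N790 := rfl
theorem q304 : Qf 304 = N791 := rfl
theorem q305 : Qf 305 = N792 := rfl
theorem q306 : Qf 306 = N793 := rfl
theorem q307 : Qf 307 = N794 := rfl
theorem q308 : Qf 308 = N795 := rfl
theorem q309 : Qf 309 = N796 := rfl
theorem q310 : Qf 310 = N797 := rfl
theorem q311 : Qf 311 = N798 := rfl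
theorem q312 : Qf 312 = N799 := rfl
theorem q313 : Qf 313 = N800 := rfl
theorem q314 : Qf 314 = N801 := rfl
theorem q315 : Qf 315 = N802 := rfl
theorem q316 : Qf 316 = N803 := rfl
theorem q317 : Qf 317 = N807 := rfl
theorem q318 : Qf 318 = N808 := rfl
theorem q319 : Qf 319 = N819 := rfl
theorem q320 : Qf 320 = N821 := rfl
theorem q321 : Qf 321 = N822 := rfl
theorem q322 : Qf 322 = N823 := rfl
theorem q323 : Qf 323 = N824 := rfl
theorem q324 : Qf 324 = N826 := rfl
theorem q325 : Qf 325 = N827 := rfl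
theorem q326 : Qf 326 = N828 := rfl
theorem q327 : Qf 327 = N829 := rfl
theorem q328 : Qf 328 = N830 := rfl
theorem q329 : Qf 329 = N832 := rfl
theorem q330 : Qf 330 = N833 := rfl
theorem q331 : Qf 331 = N836 := rfl
theorem q332 : Qf 332 = N863 := rfl
theorem q333 : Qf 333 = N865 := rfl
theorem q334 : Qf 334 = N869 := rfl
theorem q335 : Qf 335 = N871 := rfl
theorem q336 : Qf 336 = N873 := rfl
theorem q337 : Qf 337 = N874 := rfl
theorem q338 : Qf 338 = N875 := rfl
theorem q339 : Qf 339 = N912 := rfl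
theorem q340 : Qf 340 = N913 := rfl
theorem q341 : Qf 341 = N933 := rfl
theorem q342 : Qf 342 = N961 := rfl
theorem q343 : Qf 343 = N980 := rfl
theorem q344 : Qf 344 = N1031 := rfl
theorem q345 : Qf 345 = N1032 := rfl
theorem q346 : Qf 346 = N1034 := rfl
theorem q347 : Qf 347 = N1036 := rfl
theorem q348 : Qf 348 = N1265 := rfl
theorem q349 : Qf 349 = N1266 := rfl
theorem q350 : Qf 350 = N1267 := rfl
theorem q351 : Qf 351 = N1268 := rfl
theorem q352 : Qf 352 = N1269 := rfl
theorem q353 : Qf 353 = N1270 := rfl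
theorem q354 : Qf 354 = N1274 := rfl
theorem q355 : Qf 355 = N1275 := rfl
theorem q356 : Qf 356 = N1276 := rfl
theorem q357 : Qf 357 = N1277 := rfl
theorem q358 : Qf 358 = N1278 := rfl
theorem q359 : Qf 359 = N1283 := rfl
theorem q360 : Qf 360 = N1285 := rfl
theorem q361 : Qf 361 = N1302 := rfl
theorem q362 : Qf 362 = N1303 := rfl
theorem q363 : Qf 363 = N1304 := rfl
theorem q364 : Qf 364 = N1305 := rfl
theorem q365 : Qf 365 = N1306 := rfl
theorem q366 : Qf 366 = N1307 := rfl
theorem q367 : Qf 367 = N1308 := rfl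
theorem q368 : Qf 368 = N1309 := rfl
theorem q369 : Qf 369 = N1310 := rfl
theorem q370 : Qf 370 = N1311 := rfl
theorem q371 : Qf 371 = N1312 := rfl
theorem q372 : Qf 372 = N1313 := rfl
theorem q373 : Qf 373 = N1314 := rfl
theorem q374 : Qf 374 = N1315 := rfl
theorem q375 : Qf 375 = N1316 := rfl
theorem q376 : Qf 376 = N1317 := rfl
theorem q377 : Qf 377 = N1318 := rfl
theorem q378 : Qf 378 = N1319 := rfl
theorem q379 : Qf 379 = N1320 := rfl
theorem q380 : Qf 380 = N1321 := rfl
theorem q381 : Qf 381 = N1322 := rfl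
theorem q382 : Qf 382 = N1325 := rfl
theorem q383 : Qf 383 = N1337 := rfl
theorem q384 : Qf 384 = N1341 := rfl
theorem q385 : Qf 385 = N1342 := rfl
theorem q386 : Qf 386 = N1343 := rfl
theorem q387 : Qf 387 = N1344 := rfl
theorem q388 : Qf 388 = N1346 := rfl
theorem q389 : Qf 389 = N1416 := rfl
theorem q390 : Qf 390 = N1459 := rfl
theorem q391 : Qf 391 = N1465 := rfl
theorem q392 : Qf 392 = N1466 := rfl
theorem q393 : Qf 393 = N1467 := rfl
theorem q394 : Qf 394 = N1468 := rfl
theorem q395 : Qf 395 = N1469 := rfl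
theorem q396 : Qf 396 = N1470 := rfl
theorem q397 : Qf 397 = N1471 := rfl
theorem q398 : Qf 398 = N1472 := rfl
theorem q399 : Qf 399 = N1473 := rfl
theorem q400 : Qf 400 = N1474 := rfl
theorem q401 : Qf 401 = N1475 := rfl
theorem q402 : Qf 402 = N1476 := rfl
theorem q403 : Qf 403 = N1477 := rfl
theorem q404 : Qf 404 = N1478 := rfl
theorem q405 : Qf 405 = N1479 := rfl
theorem q406 : Qf 406 = N1480 := rfl
theorem q407 : Qf 407 = N1481 := rfl
theorem q408 : Qf 408 = N1482 := rfl
theorem q409 : Qf 409 = N1483 := rfl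
theorem q410 : Qf 410 = N1484 := rfl
theorem q411 : Qf 411 = N1485 := rfl
theorem q412 : Qf 412 = N1486 := rfl
theorem q413 : Qf 413 = N1487 := rfl
theorem q414 : Qf 414 = N1488 := rfl
theorem q415 : Qf 415 = N1489 := rfl
theorem q416 : Qf 416 = N1490 := rfl
theorem q417 : Qf 417 = N1491 := rfl
theorem q418 : Qf 418 = N1492 := rfl
theorem q419 : Qf 419 = N1493 := rfl
theorem q420 : Qf 420 = N1494 := rfl
theorem q421 : Qf 421 = N1495 := rfl
theorem q422 : Qf 422 = N1496 := rfl
theorem q423 : Qf 423 = N1497 := rfl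
theorem q424 : Qf 424 = N1498 := rfl
theorem q425 : Qf 425 = N1499 := rfl
theorem q426 : Qf 426 = N1500 := rfl
theorem q427 : Qf 427 = N1501 := rfl
theorem q428 : Qf 428 = N1502 := rfl
theorem q429 : Qf 429 = N1503 := rfl
theorem q430 : Qf 430 = N1504 := rfl
theorem q431 : Qf 431 = N1505 := rfl
theorem q432 : Qf 432 = N1506 := rfl
theorem q433 : Qf 433 = N1507 := rfl
theorem q434 : Qf 434 = N1508 := rfl
theorem q435 : Qf 435 = N1509 := rfl
theorem q436 : Qf 436 = N1510 := rfl
theorem q437 : Qf 437 = N1511 := rfl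
theorem q438 : Qf 438 = N1512 := rfl
theorem q439 : Qf 439 = N1513 := rfl
theorem q440 : Qf 440 = N1514 := rfl
theorem q441 : Qf 441 = N1515 := rfl
theorem q442 : Qf 442 = N1516 := rfl
theorem q443 : Qf 443 = N1517 := rfl
theorem q444 : Qf 444 = N1518 := rfl
theorem q445 : Qf 445 = N1519 := rfl
theorem q446 : Qf 446 = N1520 := rfl
theorem q447 : Qf 447 = N1521 := rfl
theorem q448 : Qf 448 = N1522 := rfl
theorem q449 : Qf 449 = N1523 := rfl
theorem q450 : Qf 450 = N1524 := rfl
theorem q451 : Qf 451 = N1525 := rfl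
theorem q452 : Qf 452 = N1526 := rfl
theorem q453 : Qf 453 = N1527 := rfl
theorem q454 : Qf 454 = N1528 := rfl
theorem q455 : Qf 455 = N1529 := rfl
theorem q456 : Qf 456 = N1530 := rfl
theorem q457 : Qf 457 = N1531 := rfl
theorem q458 : Qf 458 = N1532 := rfl
theorem q459 : Qf 459 = N1533 := rfl
theorem q460 : Qf 460 = N1534 := rfl
theorem q461 : Qf 461 = N1535 := rfl
theorem q462 : Qf 462 = N1536 := rfl
theorem q463 : Qf 463 = N1537 := rfl
theorem q464 : Qf 464 = N1538 := rfl
theorem q465 : Qf 465 = N1540 := rfl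
theorem q466 : Qf 466 = N1541 := rfl
theorem q467 : Qf 467 = N1545 := rfl
theorem q468 : Qf 468 = N1557 := rfl
theorem q469 : Qf 469 = N1560 := rfl
theorem q470 : Qf 470 = N1562 := rfl
theorem q471 : Qf 471 = N1563 := rfl
theorem q472 : Qf 472 = N1564 := rfl
theorem q473 : Qf 473 = N1565 := rfl
theorem q474 : Qf 474 = N1583 := rfl
theorem q475 : Qf 475 = N1584 := rfl
theorem q476 : Qf 476 = N1585 := rfl
theorem q477 : Qf 477 = N1586 := rfl
theorem q478 : Qf 478 = N1587 := rfl
theorem q479 : Qf 479 = N1588 := rfl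
theorem q480 : Qf 480 = N1589 := rfl
theorem q481 : Qf 481 = N1590 := rfl
theorem q482 : Qf 482 = N1591 := rfl
theorem q483 : Qf 483 = N1592 := rfl
theorem q484 : Qf 484 = N1593 := rfl
theorem q485 : Qf 485 = N1594 := rfl
theorem q486 : Qf 486 = N1595 := rfl
theorem q487 : Qf 487 = N1596 := rfl
theorem q488 : Qf 488 = N1597 := rfl
theorem q489 : Qf 489 = N1598 := rfl
theorem q490 : Qf 490 = N1599 := rfl
theorem q491 : Qf 491 = N1600 := rfl
theorem q492 : Qf 492 = N1601 := rfl
theorem q493 : Qf 493 = N1602 := rfl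
theorem q494 : Qf 494 = N1603 := rfl
theorem q495 : Qf 495 = N1604 := rfl
theorem q496 : Qf 496 = N1605 := rfl
theorem q497 : Qf 497 = N1606 := rfl
theorem q498 : Qf 498 = N1607 := rfl
theorem q499 : Qf 499 = N1608 := rfl
theorem q500 : Qf 500 = N1609 := rfl
theorem q501 : Qf 501 = N1610 := rfl
theorem q502 : Qf 502 = N1611 := rfl
theorem q503 : Qf 503 = N1612 := rfl
theorem q504 : Qf 504 = N1613 := rfl
theorem q505 : Qf 505 = N1614 := rfl
theorem q506 : Qf 506 = N1615 := rfl
theorem q507 : Qf 507 = N1616 := rfl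
theorem q508 : Qf 508 = N1625 := rfl
theorem q509 : Qf 509 = N1626 := rfl
theorem q510 : Qf 510 = N1627 := rfl
theorem q511 : Qf 511 = N1628 := rfl
theorem q512 : Qf 512 = N1629 := rfl
theorem q513 : Qf 513 = N1653 := rfl
theorem q514 : Qf 514 = N1654 := rfl
theorem q515 : Qf 515 = N1656 := rfl
theorem q516 : Qf 516 = N1659 := rfl
theorem q517 : Qf 517 = N1661 := rfl
theorem q518 : Qf 518 = N1662 := rfl
theorem q519 : Qf 519 = N1663 := rfl
theorem q520 : Qf 520 = N1664 := rfl
theorem q521 : Qf 521 = N1665 := rfl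
theorem q522 : Qf 522 = N1669 := rfl
theorem q523 : Qf 523 = N1670 := rfl
theorem q524 : Qf 524 = N1671 := rfl
theorem q525 : Qf 525 = N1672 := rfl
theorem q526 : Qf 526 = N1673 := rfl
theorem q527 : Qf 527 = N1674 := rfl
theorem q528 : Qf 528 = N1675 := rfl
theorem q529 : Qf 529 = N1676 := rfl
theorem q530 : Qf 530 = N1677 := rfl
theorem q531 : Qf 531 = N1678 := rfl
theorem q532 : Qf 532 = N1679 := rfl
theorem q533 : Qf 533 = N1680 := rfl
theorem q534 : Qf 534 = N1681 := rfl
theorem q535 : Qf 535 = N1683 := rfl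
theorem q536 : Qf 536 = N1684 := rfl
theorem q537 : Qf 537 = N1685 := rfl
theorem q538 : Qf 538 = N1686 := rfl
theorem q539 : Qf 539 = N1690 := rfl
theorem q540 : Qf 540 = N1749 := rfl
theorem q541 : Qf 541 = N1756 := rfl
theorem q542 : Qf 542 = N1758 := rfl
theorem q543 : Qf 543 = N1838 := rfl
theorem q544 : Qf 544 = N1841 := rfl
theorem q545 : Qf 545 = N1843 := rfl
theorem q546 : Qf 546 = N1872 := rfl
theorem q547 : Qf 547 = N1933 := rfl
theorem q548 : Qf 548 = N2060 := rfl
theorem q549 : Qf 549 = N2061 := rfl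
theorem q550 : Qf 550 = N2063 := rfl
theorem q551 : Qf 551 = N2474 := rfl
theorem q552 : Qf 552 = N2475 := rfl
theorem q553 : Qf 553 = N2476 := rfl
theorem q554 : Qf 554 = N2477 := rfl
theorem q555 : Qf 555 = N2478 := rfl
theorem q556 : Qf 556 = N2480 := rfl
theorem q557 : Qf 557 = N2483 := rfl
theorem q558 : Qf 558 = N2484 := rfl
theorem q559 : Qf 559 = N2485 := rfl
theorem q560 : Qf 560 = N2486 := rfl
theorem q561 : Qf 561 = N2487 := rfl
theorem q562 : Qf 562 = N2488 := rfl
theorem q563 : Qf 563 = N2494 := rfl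
theorem q564 : Qf 564 = N2495 := rfl
theorem q565 : Qf 565 = N2496 := rfl
theorem q566 : Qf 566 = N2497 := rfl
theorem q567 : Qf 567 = N2498 := rfl
theorem q568 : Qf 568 = N2512 := rfl
theorem q569 : Qf 569 = N2513 := rfl
theorem q570 : Qf 570 = N2514 := rfl
theorem q571 : Qf 571 = N2544 := rfl
theorem q572 : Qf 572 = N2545 := rfl
theorem q573 : Qf 573 = N2546 := rfl
theorem q574 : Qf 574 = N2547 := rfl
theorem q575 : Qf 575 = N2548 := rfl
theorem q576 : Qf 576 = N2549 := rfl
theorem q577 : Qf 577 = N2550 := rfl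
theorem q578 : Qf 578 = N2551 := rfl
theorem q579 : Qf 579 = N2552 := rfl
theorem q580 : Qf 580 = N2553 := rfl
theorem q581 : Qf 581 = N2554 := rfl
theorem q582 : Qf 582 = N2555 := rfl
theorem q583 : Qf 583 = N2556 := rfl
theorem q584 : Qf 584 = N2557 := rfl
theorem q585 : Qf 585 = N2558 := rfl
theorem q586 : Qf 586 = N2559 := rfl
theorem q587 : Qf 587 = N2560 := rfl
theorem q588 : Qf 588 = N2561 := rfl
theorem q589 : Qf 589 = N2562 := rfl
theorem q590 : Qf 590 = N2563 := rfl
theorem q591 : Qf 591 = N2564 := rfl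
theorem q592 : Qf 592 = N2565 := rfl
theorem q593 : Qf 593 = N2566 := rfl
theorem q594 : Qf 594 = N2567 := rfl
theorem q595 : Qf 595 = N2568 := rfl
theorem q596 : Qf 596 = N2569 := rfl
theorem q597 : Qf 597 = N2570 := rfl
theorem q598 : Qf 598 = N2571 := rfl
theorem q599 : Qf 599 = N2572 := rfl
theorem q600 : Qf 600 = N2573 := rfl
theorem q601 : Qf 601 = N2574 := rfl
theorem q602 : Qf 602 = N2575 := rfl
theorem q603 : Qf 603 = N2576 := rfl
theorem q604 : Qf 604 = N2577 := rfl
theorem q605 : Qf 605 = N2578 := rfl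
theorem q606 : Qf 606 = N2579 := rfl
theorem q607 : Qf 607 = N2580 := rfl
theorem q608 : Qf 608 = N2581 := rfl
theorem q609 : Qf 609 = N2582 := rfl
theorem q610 : Qf 610 = N2583 := rfl
theorem q611 : Qf 611 = N2584 := rfl
theorem q612 : Qf 612 = N2585 := rfl
theorem q613 : Qf 613 = N2593 := rfl
theorem q614 : Qf 614 = N2622 := rfl
theorem q615 : Qf 615 = N2623 := rfl
theorem q616 : Qf 616 = N2624 := rfl
theorem q617 : Qf 617 = N2625 := rfl
theorem q618 : Qf 618 = N2626 := rfl
theorem q619 : Qf 619 = N2627 := rfl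
theorem q620 : Qf 620 = N2628 := rfl
theorem q621 : Qf 621 = N2629 := rfl
theorem q622 : Qf 622 = N2630 := rfl
theorem q623 : Qf 623 = N2634 := rfl
theorem q624 : Qf 624 = N2816 := rfl
theorem q625 : Qf 625 = N2817 := rfl
theorem q626 : Qf 626 = N2818 := rfl
theorem q627 : Qf 627 = N2820 := rfl
theorem q628 : Qf 628 = N2821 := rfl
theorem q629 : Qf 629 = N2822 := rfl
theorem q630 : Qf 630 = N2824 := rfl
theorem q631 : Qf 631 = N2825 := rfl
theorem q632 : Qf 632 = N2826 := rfl
theorem q633 : Qf 633 = N2828 := rfl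
theorem q634 : Qf 634 = N2829 := rfl
theorem q635 : Qf 635 = N2830 := rfl
theorem q636 : Qf 636 = N2831 := rfl
theorem q637 : Qf 637 = N2832 := rfl
theorem q638 : Qf 638 = N2833 := rfl
theorem q639 : Qf 639 = N2835 := rfl
theorem q640 : Qf 640 = N2836 := rfl
theorem q641 : Qf 641 = N2837 := rfl
theorem q642 : Qf 642 = N2838 := rfl
theorem q643 : Qf 643 = N2839 := rfl
theorem q644 : Qf 644 = N2840 := rfl
theorem q645 : Qf 645 = N2841 := rfl
theorem q646 : Qf 646 = N2842 := rfl
theorem q647 : Qf 647 = N2843 := rfl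
theorem q648 : Qf 648 = N2844 := rfl
theorem q649 : Qf 649 = N2845 := rfl
theorem q650 : Qf 650 = N2846 := rfl
theorem q651 : Qf 651 = N2847 := rfl
theorem q652 : Qf 652 = N2848 := rfl
theorem q653 : Qf 653 = N2849 := rfl
theorem q654 : Qf 654 = N2850 := rfl
theorem q655 : Qf 655 = N2851 := rfl
theorem q656 : Qf 656 = N2852 := rfl
theorem q657 : Qf 657 = N2853 := rfl
theorem q658 : Qf 658 = N2854 := rfl
theorem q659 : Qf 659 = N2855 := rfl
theorem q660 : Qf 660 = N2856 := rfl
theorem q661 : Qf 661 = N2857 := rfl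
theorem q662 : Qf 662 = N2858 := rfl
theorem q663 : Qf 663 = N2859 := rfl
theorem q664 : Qf 664 = N2861 := rfl
theorem q665 : Qf 665 = N2862 := rfl
theorem q666 : Qf 666 = N2864 := rfl
theorem q667 : Qf 667 = N2865 := rfl
theorem q668 : Qf 668 = N2866 := rfl
theorem q669 : Qf 669 = N2867 := rfl
theorem q670 : Qf 670 = N2870 := rfl
theorem q671 : Qf 671 = N2871 := rfl
theorem q672 : Qf 672 = N2872 := rfl
theorem q673 : Qf 673 = N2873 := rfl
theorem q674 : Qf 674 = N2874 := rfl
theorem q675 : Qf 675 = N2875 := rfl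
theorem q676 : Qf 676 = N2876 := rfl
theorem q677 : Qf 677 = N2877 := rfl
theorem q678 : Qf 678 = N2878 := rfl
theorem q679 : Qf 679 = N2879 := rfl
theorem q680 : Qf 680 = N2880 := rfl
theorem q681 : Qf 681 = N2881 := rfl
theorem q682 : Qf 682 = N2882 := rfl
theorem q683 : Qf 683 = N2883 := rfl
theorem q684 : Qf 684 = N2884 := rfl
theorem q685 : Qf 685 = N2885 := rfl
theorem q686 : Qf 686 = N2886 := rfl
theorem q687 : Qf 687 = N2887 := rfl
theorem q688 : Qf 688 = N2888 := rfl
theorem q689 : Qf 689 = N2889 := rfl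
theorem q690 : Qf 690 = N2890 := rfl
theorem q691 : Qf 691 = N2891 := rfl
theorem q692 : Qf 692 = N2892 := rfl
theorem q693 : Qf 693 = N2893 := rfl
theorem q694 : Qf 694 = N2894 := rfl
theorem q695 : Qf 695 = N2895 := rfl
theorem q696 : Qf 696 = N2897 := rfl
theorem q697 : Qf 697 = N2898 := rfl
theorem q698 : Qf 698 = N2899 := rfl
theorem q699 : Qf 699 = N2900 := rfl
theorem q700 : Qf 700 = N2901 := rfl
theorem q701 : Qf 701 = N2902 := rfl
theorem q702 : Qf 702 = N2903 := rfl
theorem q703 : Qf 703 = N2904 := rfl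
theorem q704 : Qf 704 = N2905 := rfl
theorem q705 : Qf 705 = N2906 := rfl
theorem q706 : Qf 706 = N2908 := rfl
theorem q707 : Qf 707 = N2910 := rfl
theorem q708 : Qf 708 = N2911 := rfl
theorem q709 : Qf 709 = N2912 := rfl
theorem q710 : Qf 710 = N2913 := rfl
theorem q711 : Qf 711 = N2914 := rfl
theorem q712 : Qf 712 = N2916 := rfl
theorem q713 : Qf 713 = N2917 := rfl
theorem q714 : Qf 714 = N2918 := rfl
theorem q715 : Qf 715 = N2919 := rfl
theorem q716 : Qf 716 = N2920 := rfl
theorem q717 : Qf 717 = N2921 := rfl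
theorem q718 : Qf 718 = N2922 := rfl
theorem q719 : Qf 719 = N2923 := rfl
theorem q720 : Qf 720 = N2924 := rfl
theorem q721 : Qf 721 = N2925 := rfl
theorem q722 : Qf 722 = N2926 := rfl
theorem q723 : Qf 723 = N2928 := rfl
theorem q724 : Qf 724 = N2929 := rfl
theorem q725 : Qf 725 = N2930 := rfl
theorem q726 : Qf 726 = N2931 := rfl
theorem q727 : Qf 727 = N2932 := rfl
theorem q728 : Qf 728 = N2934 := rfl
theorem q729 : Qf 729 = N2935 := rfl
theorem q730 : Qf 730 = N2936 := rfl
theorem q731 : Qf 731 = N2939 := rfl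
theorem q732 : Qf 732 = N2941 := rfl
theorem q733 : Qf 733 = N2942 := rfl
theorem q734 : Qf 734 = N2943 := rfl
theorem q735 : Qf 735 = N2944 := rfl
theorem q736 : Qf 736 = N2945 := rfl
theorem q737 : Qf 737 = N2946 := rfl
theorem q738 : Qf 738 = N2947 := rfl
theorem q739 : Qf 739 = N2948 := rfl
theorem q740 : Qf 740 = N2951 := rfl
theorem q741 : Qf 741 = N2952 := rfl
theorem q742 : Qf 742 = N2953 := rfl
theorem q743 : Qf 743 = N2954 := rfl
theorem q744 : Qf 744 = N2955 := rfl
theorem q745 : Qf 745 = N2956 := rfl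
theorem q746 : Qf 746 = N2957 := rfl
theorem q747 : Qf 747 = N2958 := rfl
theorem q748 : Qf 748 = N2959 := rfl
theorem q749 : Qf 749 = N2960 := rfl
theorem q750 : Qf 750 = N2961 := rfl
theorem q751 : Qf 751 = N2962 := rfl
theorem q752 : Qf 752 = N2963 := rfl
theorem q753 : Qf 753 = N2964 := rfl
theorem q754 : Qf 754 = N2965 := rfl
theorem q755 : Qf 755 = N2966 := rfl
theorem q756 : Qf 756 = N2967 := rfl
theorem q757 : Qf 757 = N2969 := rfl
theorem q758 : Qf 758 = N2970 := rfl
theorem q759 : Qf 759 = N2972 := rfl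
theorem q760 : Qf 760 = N2973 := rfl
theorem q761 : Qf 761 = N2974 := rfl
theorem q762 : Qf 762 = N2975 := rfl
theorem q763 : Qf 763 = N2976 := rfl
theorem q764 : Qf 764 = N2977 := rfl
theorem q765 : Qf 765 = N2978 := rfl
theorem q766 : Qf 766 = N2979 := rfl
theorem q767 : Qf 767 = N2981 := rfl
theorem q768 : Qf 768 = N2983 := rfl
theorem q769 : Qf 769 = N2988 := rfl
theorem q770 : Qf 770 = N2989 := rfl
theorem q771 : Qf 771 = N2990 := rfl
theorem q772 : Qf 772 = N2991 := rfl
theorem q773 : Qf 773 = N3014 := rfl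
theorem q774 : Qf 774 = N3020 := rfl
theorem q775 : Qf 775 = N3021 := rfl
theorem q776 : Qf 776 = N3025 := rfl
theorem q777 : Qf 777 = N3026 := rfl
theorem q778 : Qf 778 = N3027 := rfl
theorem q779 : Qf 779 = N3028 := rfl
theorem q780 : Qf 780 = N3030 := rfl
theorem q781 : Qf 781 = N3031 := rfl
theorem q782 : Qf 782 = N3032 := rfl
theorem q783 : Qf 783 = N3074 := rfl
theorem q784 : Qf 784 = N3075 := rfl
theorem q785 : Qf 785 = N3076 := rfl
theorem q786 : Qf 786 = N3077 := rfl
theorem q787 : Qf 787 = N3078 := rfl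
theorem q788 : Qf 788 = N3079 := rfl
theorem q789 : Qf 789 = N3080 := rfl
theorem q790 : Qf 790 = N3081 := rfl
theorem q791 : Qf 791 = N3082 := rfl
theorem q792 : Qf 792 = N3083 := rfl
theorem q793 : Qf 793 = N3084 := rfl
theorem q794 : Qf 794 = N3085 := rfl
theorem q795 : Qf 795 = N3086 := rfl
theorem q796 : Qf 796 = N3087 := rfl
theorem q797 : Qf 797 = N3088 := rfl
theorem q798 : Qf 798 = N3089 := rfl
theorem q799 : Qf 799 = N3090 := rfl
theorem q800 : Qf 800 = N3091 := rfl
theorem q801 : Qf 801 = N3092 := rfl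
theorem q802 : Qf 802 = N3094 := rfl
theorem q803 : Qf 803 = N3095 := rfl
theorem q804 : Qf 804 = N3096 := rfl
theorem q805 : Qf 805 = N3097 := rfl
theorem q806 : Qf 806 = N3098 := rfl
theorem q807 : Qf 807 = N3099 := rfl
theorem q808 : Qf 808 = N3100 := rfl
theorem q809 : Qf 809 = N3101 := rfl
theorem q810 : Qf 810 = N3102 := rfl
theorem q811 : Qf 811 = N3103 := rfl
theorem q812 : Qf 812 = N3104 := rfl
theorem q813 : Qf 813 = N3105 := rfl
theorem q814 : Qf 814 = N3106 := rfl
theorem q815 : Qf 815 = N3107 := rfl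
theorem q816 : Qf 816 = N3110 := rfl
theorem q817 : Qf 817 = N3111 := rfl
theorem q818 : Qf 818 = N3112 := rfl
theorem q819 : Qf 819 = N3113 := rfl
theorem q820 : Qf 820 = N3114 := rfl
theorem q821 : Qf 821 = N3116 := rfl
theorem q822 : Qf 822 = N3117 := rfl
theorem q823 : Qf 823 = N3118 := rfl
theorem q824 : Qf 824 = N3119 := rfl
theorem q825 : Qf 825 = N3120 := rfl
theorem q826 : Qf 826 = N3121 := rfl
theorem q827 : Qf 827 = N3122 := rfl
theorem q828 : Qf 828 = N3123 := rfl
theorem q829 : Qf 829 = N3124 := rfl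
theorem q830 : Qf 830 = N3125 := rfl
theorem q831 : Qf 831 = N3126 := rfl
theorem q832 : Qf 832 = N3127 := rfl
theorem q833 : Qf 833 = N3129 := rfl
theorem q834 : Qf 834 = N3130 := rfl
theorem q835 : Qf 835 = N3131 := rfl
theorem q836 : Qf 836 = N3132 := rfl
theorem q837 : Qf 837 = N3133 := rfl
theorem q838 : Qf 838 = N3134 := rfl
theorem q839 : Qf 839 = N3135 := rfl
theorem q840 : Qf 840 = N3136 := rfl
theorem q841 : Qf 841 = N3138 := rfl
theorem q842 : Qf 842 = N3141 := rfl
theorem q843 : Qf 843 = N3142 := rfl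
theorem q844 : Qf 844 = N3143 := rfl
theorem q845 : Qf 845 = N3144 := rfl
theorem q846 : Qf 846 = N3157 := rfl
theorem q847 : Qf 847 = N3161 := rfl
theorem q848 : Qf 848 = N3162 := rfl
theorem q849 : Qf 849 = N3167 := rfl
theorem q850 : Qf 850 = N3168 := rfl
theorem q851 : Qf 851 = N3169 := rfl
theorem q852 : Qf 852 = N3219 := rfl
theorem q853 : Qf 853 = N3222 := rfl
theorem q854 : Qf 854 = N3223 := rfl
theorem q855 : Qf 855 = N3224 := rfl
theorem q856 : Qf 856 = N3233 := rfl
theorem q857 : Qf 857 = N3235 := rfl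
theorem q858 : Qf 858 = N3238 := rfl
theorem q859 : Qf 859 = N3243 := rfl
theorem q860 : Qf 860 = N3260 := rfl
theorem q861 : Qf 861 = N3261 := rfl
theorem q862 : Qf 862 = N3263 := rfl
theorem q863 : Qf 863 = N3265 := rfl
theorem q864 : Qf 864 = N3269 := rfl
theorem q865 : Qf 865 = N3270 := rfl
theorem q866 : Qf 866 = N3271 := rfl
theorem q867 : Qf 867 = N3272 := rfl
theorem q868 : Qf 868 = N3274 := rfl
theorem q869 : Qf 869 = N3276 := rfl
theorem q870 : Qf 870 = N3278 := rfl
theorem q871 : Qf 871 = N3288 := rfl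
theorem q872 : Qf 872 = N3289 := rfl
theorem q873 : Qf 873 = N3291 := rfl
theorem q874 : Qf 874 = N3292 := rfl
theorem q875 : Qf 875 = N3295 := rfl
theorem q876 : Qf 876 = N3306 := rfl
theorem q877 : Qf 877 = N3554 := rfl
theorem q878 : Qf 878 = N3596 := rfl
theorem q879 : Qf 879 = N3696 := rfl
theorem q880 : Qf 880 = N3900 := rfl
theorem q881 : Qf 881 = N4527 := rfl
theorem q882 : Qf 882 = N4528 := rfl
theorem q883 : Qf 883 = N4529 := rfl
theorem q884 : Qf 884 = N4530 := rfl
theorem q885 : Qf 885 = N4531 := rfl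
theorem q886 : Qf 886 = N4532 := rfl
theorem q887 : Qf 887 = N4533 := rfl
theorem q888 : Qf 888 = N4534 := rfl
theorem q889 : Qf 889 = N4535 := rfl
theorem q890 : Qf 890 = N4536 := rfl
theorem q891 : Qf 891 = N4537 := rfl
theorem q892 : Qf 892 = N4538 := rfl
theorem q893 : Qf 893 = N4541 := rfl
theorem q894 : Qf 894 = N4542 := rfl
theorem q895 : Qf 895 = N4543 := rfl
theorem q896 : Qf 896 = N4544 := rfl
theorem q897 : Qf 897 = N4545 := rfl
theorem q898 : Qf 898 = N4546 := rfl
theorem q899 : Qf 899 = N4547 := rfl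
theorem q900 : Qf 900 = N4548 := rfl
theorem q901 : Qf 901 = N4549 := rfl
theorem q902 : Qf 902 = N4550 := rfl
theorem q903 : Qf 903 = N4562 := rfl
theorem q904 : Qf 904 = N4563 := rfl
theorem q905 : Qf 905 = N4564 := rfl
theorem q906 : Qf 906 = N4565 := rfl
theorem q907 : Qf 907 = N4566 := rfl
theorem q908 : Qf 908 = N4567 := rfl
theorem q909 : Qf 909 = N4592 := rfl
theorem q910 : Qf 910 = N4593 := rfl
theorem q911 : Qf 911 = N4594 := rfl
theorem q912 : Qf 912 = N4664 := rfl
theorem q913 : Qf 913 = N4665 := rfl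
theorem q914 : Qf 914 = N4666 := rfl
theorem q915 : Qf 915 = N4667 := rfl
theorem q916 : Qf 916 = N4668 := rfl
theorem q917 : Qf 917 = N4671 := rfl
theorem q918 : Qf 918 = N4672 := rfl
theorem q919 : Qf 919 = N4673 := rfl
theorem q920 : Qf 920 = N4675 := rfl
theorem q921 : Qf 921 = N4677 := rfl
theorem q922 : Qf 922 = N4678 := rfl
theorem q923 : Qf 923 = N4684 := rfl
theorem q924 : Qf 924 = N4685 := rfl
theorem q925 : Qf 925 = N4686 := rfl
theorem q926 : Qf 926 = N4687 := rfl
theorem q927 : Qf 927 = N4688 := rfl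
theorem q928 : Qf 928 = N4689 := rfl
theorem q929 : Qf 929 = N4690 := rfl
theorem q930 : Qf 930 = N4691 := rfl
theorem q931 : Qf 931 = N4692 := rfl
theorem q932 : Qf 932 = N4693 := rfl
theorem q933 : Qf 933 = N4694 := rfl
theorem q934 : Qf 934 = N4695 := rfl
theorem q935 : Qf 935 = N4696 := rfl
theorem q936 : Qf 936 = N4697 := rfl
theorem q937 : Qf 937 = N4698 := rfl
theorem q938 : Qf 938 = N4699 := rfl
theorem q939 : Qf 939 = N4700 := rfl
theorem q940 : Qf 940 = N4701 := rfl
theorem q941 : Qf 941 = N4702 := rfl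
theorem q942 : Qf 942 = N4703 := rfl
theorem q943 : Qf 943 = N4704 := rfl
theorem q944 : Qf 944 = N4705 := rfl
theorem q945 : Qf 945 = N4706 := rfl
theorem q946 : Qf 946 = N4707 := rfl
theorem q947 : Qf 947 = N4708 := rfl
theorem q948 : Qf 948 = N4710 := rfl
theorem q949 : Qf 949 = N4711 := rfl
theorem q950 : Qf 950 = N4714 := rfl
theorem q951 : Qf 951 = N4715 := rfl
theorem q952 : Qf 952 = N4718 := rfl
theorem q953 : Qf 953 = N4719 := rfl
theorem q954 : Qf 954 = N4720 := rfl
theorem q955 : Qf 955 = N4721 := rfl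
theorem q956 : Qf 956 = N4722 := rfl
theorem q957 : Qf 957 = N4723 := rfl
theorem q958 : Qf 958 = N4724 := rfl
theorem q959 : Qf 959 = N4725 := rfl
theorem q960 : Qf 960 = N4726 := rfl
theorem q961 : Qf 961 = N4727 := rfl
theorem q962 : Qf 962 = N4728 := rfl
theorem q963 : Qf 963 = N4729 := rfl
theorem q964 : Qf 964 = N4730 := rfl
theorem q965 : Qf 965 = N4731 := rfl
theorem q966 : Qf 966 = N4732 := rfl
theorem q967 : Qf 967 = N4733 := rfl
theorem q968 : Qf 968 = N4734 := rfl
theorem q969 : Qf 969 = N4735 := rfl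
theorem q970 : Qf 970 = N4736 := rfl
theorem q971 : Qf 971 = N4737 := rfl
theorem q972 : Qf 972 = N4738 := rfl
theorem q973 : Qf 973 = N4740 := rfl
theorem q974 : Qf 974 = N4742 := rfl
theorem q975 : Qf 975 = N4757 := rfl
theorem q976 : Qf 976 = N4758 := rfl
theorem q977 : Qf 977 = N4759 := rfl
theorem q978 : Qf 978 = N4760 := rfl
theorem q979 : Qf 979 = N4816 := rfl
theorem q980 : Qf 980 = N4817 := rfl
theorem q981 : Qf 981 = N4818 := rfl
theorem q982 : Qf 982 = N4819 := rfl
theorem q983 : Qf 983 = N4820 := rfl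
theorem q984 : Qf 984 = N4822 := rfl
theorem q985 : Qf 985 = N4823 := rfl
theorem q986 : Qf 986 = N4824 := rfl
theorem q987 : Qf 987 = N4825 := rfl
theorem q988 : Qf 988 = N4827 := rfl
theorem q989 : Qf 989 = N4829 := rfl
theorem q990 : Qf 990 = N4838 := rfl
theorem q991 : Qf 991 = N5062 := rfl
theorem q992 : Qf 992 = N5063 := rfl
theorem q993 : Qf 993 = N5064 := rfl
theorem q994 : Qf 994 = N5066 := rfl
theorem q995 : Qf 995 = N5068 := rfl
theorem q996 : Qf 996 = N5070 := rfl
theorem q997 : Qf 997 = N5071 := rfl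
theorem q998 : Qf 998 = N5072 := rfl
theorem q999 : Qf 999 = N5074 := rfl
theorem q1000 : Qf 1000 = N5075 := rfl
theorem q1001 : Qf 1001 = N5077 := rfl
theorem q1002 : Qf 1002 = N5079 := rfl
theorem q1003 : Qf 1003 = N5081 := rfl
theorem q1004 : Qf 1004 = N5084 := rfl
theorem q1005 : Qf 1005 = N5086 := rfl
theorem q1006 : Qf 1006 = N5087 := rfl
theorem q1007 : Qf 1007 = N5089 := rfl
theorem q1008 : Qf 1008 = N5090 := rfl
theorem q1009 : Qf 1009 = N5091 := rfl
theorem q1010 : Qf 1010 = N5092 := rfl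
theorem q1011 : Qf 1011 = N5093 := rfl
theorem q1012 : Qf 1012 = N5094 := rfl
theorem q1013 : Qf 1013 = N5095 := rfl
theorem q1014 : Qf 1014 = N5097 := rfl
theorem q1015 : Qf 1015 = N5098 := rfl
theorem q1016 : Qf 1016 = N5100 := rfl
theorem q1017 : Qf 1017 = N5101 := rfl
theorem q1018 : Qf 1018 = N5102 := rfl
theorem q1019 : Qf 1019 = N5103 := rfl
theorem q1020 : Qf 1020 = N5104 := rfl
theorem q1021 : Qf 1021 = N5105 := rfl
theorem q1022 : Qf 1022 = N5106 := rfl
theorem q1023 : Qf 1023 = N5108 := rfl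
theorem q1024 : Qf 1024 = N5111 := rfl
theorem q1025 : Qf 1025 = N5113 := rfl
theorem q1026 : Qf 1026 = N5114 := rfl
theorem q1027 : Qf 1027 = N5115 := rfl
theorem q1028 : Qf 1028 = N5116 := rfl
theorem q1029 : Qf 1029 = N5117 := rfl
theorem q1030 : Qf 1030 = N5120 := rfl
theorem q1031 : Qf 1031 = N5121 := rfl
theorem q1032 : Qf 1032 = N5122 := rfl
theorem q1033 : Qf 1033 = N5123 := rfl
theorem q1034 : Qf 1034 = N5124 := rfl
theorem q1035 : Qf 1035 = N5126 := rfl
theorem q1036 : Qf 1036 = N5127 := rfl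
theorem q1037 : Qf 1037 = N5129 := rfl
theorem q1038 : Qf 1038 = N5130 := rfl
theorem q1039 : Qf 1039 = N5133 := rfl
theorem q1040 : Qf 1040 = N5134 := rfl
theorem q1041 : Qf 1041 = N5139 := rfl
theorem q1042 : Qf 1042 = N5141 := rfl
theorem q1043 : Qf 1043 = N5142 := rfl
theorem q1044 : Qf 1044 = N5143 := rfl
theorem q1045 : Qf 1045 = N5144 := rfl
theorem q1046 : Qf 1046 = N5147 := rfl
theorem q1047 : Qf 1047 = N5148 := rfl
theorem q1048 : Qf 1048 = N5149 := rfl
theorem q1049 : Qf 1049 = N5150 := rfl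
theorem q1050 : Qf 1050 = N5151 := rfl
theorem q1051 : Qf 1051 = N5152 := rfl
theorem q1052 : Qf 1052 = N5153 := rfl
theorem q1053 : Qf 1053 = N5154 := rfl
theorem q1054 : Qf 1054 = N5155 := rfl
theorem q1055 : Qf 1055 = N5156 := rfl
theorem q1056 : Qf 1056 = N5157 := rfl
theorem q1057 : Qf 1057 = N5159 := rfl
theorem q1058 : Qf 1058 = N5160 := rfl
theorem q1059 : Qf 1059 = N5161 := rfl
theorem q1060 : Qf 1060 = N5162 := rfl
theorem q1061 : Qf 1061 = N5163 := rfl
theorem q1062 : Qf 1062 = N5164 := rfl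
theorem q1063 : Qf 1063 = N5167 := rfl
theorem q1064 : Qf 1064 = N5168 := rfl
theorem q1065 : Qf 1065 = N5170 := rfl
theorem q1066 : Qf 1066 = N5171 := rfl
theorem q1067 : Qf 1067 = N5174 := rfl
theorem q1068 : Qf 1068 = N5175 := rfl
theorem q1069 : Qf 1069 = N5176 := rfl
theorem q1070 : Qf 1070 = N5177 := rfl
theorem q1071 : Qf 1071 = N5181 := rfl
theorem q1072 : Qf 1072 = N5182 := rfl
theorem q1073 : Qf 1073 = N5183 := rfl
theorem q1074 : Qf 1074 = N5184 := rfl
theorem q1075 : Qf 1075 = N5185 := rfl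
theorem q1076 : Qf 1076 = N5186 := rfl
theorem q1077 : Qf 1077 = N5187 := rfl
theorem q1078 : Qf 1078 = N5188 := rfl
theorem q1079 : Qf 1079 = N5189 := rfl
theorem q1080 : Qf 1080 = N5193 := rfl
theorem q1081 : Qf 1081 = N5195 := rfl
theorem q1082 : Qf 1082 = N5196 := rfl
theorem q1083 : Qf 1083 = N5197 := rfl
theorem q1084 : Qf 1084 = N5199 := rfl
theorem q1085 : Qf 1085 = N5201 := rfl
theorem q1086 : Qf 1086 = N5203 := rfl
theorem q1087 : Qf 1087 = N5205 := rfl
theorem q1088 : Qf 1088 = N5206 := rfl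
theorem q1089 : Qf 1089 = N5207 := rfl
theorem q1090 : Qf 1090 = N5213 := rfl
theorem q1091 : Qf 1091 = N5217 := rfl
theorem q1092 : Qf 1092 = N5218 := rfl
theorem q1093 : Qf 1093 = N5222 := rfl
theorem q1094 : Qf 1094 = N5224 := rfl
theorem q1095 : Qf 1095 = N5226 := rfl
theorem q1096 : Qf 1096 = N5228 := rfl
theorem q1097 : Qf 1097 = N5230 := rfl
theorem q1098 : Qf 1098 = N5232 := rfl
theorem q1099 : Qf 1099 = N5233 := rfl
theorem q1100 : Qf 1100 = N5238 := rfl
theorem q1101 : Qf 1101 = N5239 := rfl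
theorem q1102 : Qf 1102 = N5240 := rfl
theorem q1103 : Qf 1103 = N5243 := rfl
theorem q1104 : Qf 1104 = N5244 := rfl
theorem q1105 : Qf 1105 = N5245 := rfl
theorem q1106 : Qf 1106 = N5249 := rfl
theorem q1107 : Qf 1107 = N5252 := rfl
theorem q1108 : Qf 1108 = N5257 := rfl
theorem q1109 : Qf 1109 = N5258 := rfl
theorem q1110 : Qf 1110 = N5259 := rfl
theorem q1111 : Qf 1111 = N5260 := rfl
theorem q1112 : Qf 1112 = N5261 := rfl
theorem q1113 : Qf 1113 = N5262 := rfl
theorem q1114 : Qf 1114 = N5263 := rfl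
theorem q1115 : Qf 1115 = N5264 := rfl
theorem q1116 : Qf 1116 = N5278 := rfl
theorem q1117 : Qf 1117 = N5282 := rfl
theorem q1118 : Qf 1118 = N5283 := rfl
theorem q1119 : Qf 1119 = N5284 := rfl
theorem q1120 : Qf 1120 = N5286 := rfl
theorem q1121 : Qf 1121 = N5287 := rfl
theorem q1122 : Qf 1122 = N5288 := rfl
theorem q1123 : Qf 1123 = N5289 := rfl
theorem q1124 : Qf 1124 = N5290 := rfl
theorem q1125 : Qf 1125 = N5292 := rfl
theorem q1126 : Qf 1126 = N5293 := rfl
theorem q1127 : Qf 1127 = N5294 := rfl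
theorem q1128 : Qf 1128 = N5302 := rfl
theorem q1129 : Qf 1129 = N5303 := rfl
theorem q1130 : Qf 1130 = N5304 := rfl
theorem q1131 : Qf 1131 = N5305 := rfl
theorem q1132 : Qf 1132 = N5307 := rfl
theorem q1133 : Qf 1133 = N5308 := rfl
theorem q1134 : Qf 1134 = N5310 := rfl
theorem q1135 : Qf 1135 = N5311 := rfl
theorem q1136 : Qf 1136 = N5312 := rfl
theorem q1137 : Qf 1137 = N5313 := rfl
theorem q1138 : Qf 1138 = N5314 := rfl
theorem q1139 : Qf 1139 = N5315 := rfl
theorem q1140 : Qf 1140 = N5316 := rfl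
theorem q1141 : Qf 1141 = N5317 := rfl
theorem q1142 : Qf 1142 = N5318 := rfl
theorem q1143 : Qf 1143 = N5319 := rfl
theorem q1144 : Qf 1144 = N5321 := rfl
theorem q1145 : Qf 1145 = N5322 := rfl
theorem q1146 : Qf 1146 = N5323 := rfl
theorem q1147 : Qf 1147 = N5324 := rfl
theorem q1148 : Qf 1148 = N5325 := rfl
theorem q1149 : Qf 1149 = N5326 := rfl
theorem q1150 : Qf 1150 = N5327 := rfl
theorem q1151 : Qf 1151 = N5328 := rfl
theorem q1152 : Qf 1152 = N5336 := rfl
theorem q1153 : Qf 1153 = N5340 := rfl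
theorem q1154 : Qf 1154 = N5341 := rfl
theorem q1155 : Qf 1155 = N5342 := rfl
theorem q1156 : Qf 1156 = N5343 := rfl
theorem q1157 : Qf 1157 = N5344 := rfl
theorem q1158 : Qf 1158 = N5346 := rfl
theorem q1159 : Qf 1159 = N5347 := rfl
theorem q1160 : Qf 1160 = N5348 := rfl
theorem q1161 : Qf 1161 = N5349 := rfl
theorem q1162 : Qf 1162 = N5351 := rfl
theorem q1163 : Qf 1163 = N5352 := rfl
theorem q1164 : Qf 1164 = N5353 := rfl
theorem q1165 : Qf 1165 = N5354 := rfl
theorem q1166 : Qf 1166 = N5356 := rfl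
theorem q1167 : Qf 1167 = N5359 := rfl
theorem q1168 : Qf 1168 = N5360 := rfl
theorem q1169 : Qf 1169 = N5361 := rfl
theorem q1170 : Qf 1170 = N5362 := rfl
theorem q1171 : Qf 1171 = N5375 := rfl
theorem q1172 : Qf 1172 = N5425 := rfl
theorem q1173 : Qf 1173 = N5426 := rfl
theorem q1174 : Qf 1174 = N5427 := rfl
theorem q1175 : Qf 1175 = N5451 := rfl
theorem q1176 : Qf 1176 = N5454 := rfl
theorem q1177 : Qf 1177 = N5456 := rfl
theorem q1178 : Qf 1178 = N5461 := rfl
theorem q1179 : Qf 1179 = N5462 := rfl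
theorem q1180 : Qf 1180 = N5463 := rfl
theorem q1181 : Qf 1181 = N5553 := rfl
theorem q1182 : Qf 1182 = N5554 := rfl
theorem q1183 : Qf 1183 = N5555 := rfl
theorem q1184 : Qf 1184 = N5556 := rfl
theorem q1185 : Qf 1185 = N5557 := rfl
theorem q1186 : Qf 1186 = N5558 := rfl
theorem q1187 : Qf 1187 = N5560 := rfl
theorem q1188 : Qf 1188 = N5561 := rfl
theorem q1189 : Qf 1189 = N5563 := rfl
theorem q1190 : Qf 1190 = N5564 := rfl
theorem q1191 : Qf 1191 = N5565 := rfl
theorem q1192 : Qf 1192 = N5566 := rfl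
theorem q1193 : Qf 1193 = N5569 := rfl
theorem q1194 : Qf 1194 = N5570 := rfl
theorem q1195 : Qf 1195 = N5571 := rfl
theorem q1196 : Qf 1196 = N5572 := rfl
theorem q1197 : Qf 1197 = N5573 := rfl
theorem q1198 : Qf 1198 = N5575 := rfl
theorem q1199 : Qf 1199 = N5576 := rfl
theorem q1200 : Qf 1200 = N5578 := rfl
theorem q1201 : Qf 1201 = N5579 := rfl
theorem q1202 : Qf 1202 = N5581 := rfl
theorem q1203 : Qf 1203 = N5582 := rfl
theorem q1204 : Qf 1204 = N5583 := rfl
theorem q1205 : Qf 1205 = N5584 := rfl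
theorem q1206 : Qf 1206 = N5585 := rfl
theorem q1207 : Qf 1207 = N5587 := rfl
theorem q1208 : Qf 1208 = N5588 := rfl
theorem q1209 : Qf 1209 = N5589 := rfl
theorem q1210 : Qf 1210 = N5590 := rfl
theorem q1211 : Qf 1211 = N5591 := rfl
theorem q1212 : Qf 1212 = N5595 := rfl
theorem q1213 : Qf 1213 = N5596 := rfl
theorem q1214 : Qf 1214 = N5597 := rfl
theorem q1215 : Qf 1215 = N5598 := rfl
theorem q1216 : Qf 1216 = N5599 := rfl
theorem q1217 : Qf 1217 = N5602 := rfl
theorem q1218 : Qf 1218 = N5606 := rfl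
theorem q1219 : Qf 1219 = N5608 := rfl
theorem q1220 : Qf 1220 = N5609 := rfl
theorem q1221 : Qf 1221 = N5613 := rfl
theorem q1222 : Qf 1222 = N5615 := rfl
theorem q1223 : Qf 1223 = N5616 := rfl
theorem q1224 : Qf 1224 = N5623 := rfl
theorem q1225 : Qf 1225 = N5624 := rfl
theorem q1226 : Qf 1226 = N5628 := rfl
theorem q1227 : Qf 1227 = N5629 := rfl
theorem q1228 : Qf 1228 = N5630 := rfl
theorem q1229 : Qf 1229 = N5631 := rfl
theorem q1230 : Qf 1230 = N5635 := rfl
theorem q1231 : Qf 1231 = N5636 := rfl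
theorem q1232 : Qf 1232 = N5637 := rfl
theorem q1233 : Qf 1233 = N5638 := rfl
theorem q1234 : Qf 1234 = N5639 := rfl
theorem q1235 : Qf 1235 = N5640 := rfl
theorem q1236 : Qf 1236 = N5641 := rfl
theorem q1237 : Qf 1237 = N5642 := rfl
theorem q1238 : Qf 1238 = N5644 := rfl
theorem q1239 : Qf 1239 = N5647 := rfl
theorem q1240 : Qf 1240 = N5648 := rfl
theorem q1241 : Qf 1241 = N5649 := rfl
theorem q1242 : Qf 1242 = N5651 := rfl
theorem q1243 : Qf 1243 = N5654 := rfl
theorem q1244 : Qf 1244 = N5655 := rfl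
theorem q1245 : Qf 1245 = N5656 := rfl
theorem q1246 : Qf 1246 = N5657 := rfl
theorem q1247 : Qf 1247 = N5658 := rfl
theorem q1248 : Qf 1248 = N5659 := rfl
theorem q1249 : Qf 1249 = N5660 := rfl
theorem q1250 : Qf 1250 = N5661 := rfl
theorem q1251 : Qf 1251 = N5662 := rfl
theorem q1252 : Qf 1252 = N5665 := rfl
theorem q1253 : Qf 1253 = N5666 := rfl
theorem q1254 : Qf 1254 = N5667 := rfl
theorem q1255 : Qf 1255 = N5668 := rfl
theorem q1256 : Qf 1256 = N5675 := rfl
theorem q1257 : Qf 1257 = N5676 := rfl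
theorem q1258 : Qf 1258 = N5677 := rfl
theorem q1259 : Qf 1259 = N5678 := rfl
theorem q1260 : Qf 1260 = N5682 := rfl
theorem q1261 : Qf 1261 = N5683 := rfl
theorem q1262 : Qf 1262 = N5684 := rfl
theorem q1263 : Qf 1263 = N5685 := rfl
theorem q1264 : Qf 1264 = N5686 := rfl
theorem q1265 : Qf 1265 = N5688 := rfl
theorem q1266 : Qf 1266 = N5689 := rfl
theorem q1267 : Qf 1267 = N5691 := rfl
theorem q1268 : Qf 1268 = N5692 := rfl
theorem q1269 : Qf 1269 = N5727 := rfl
theorem q1270 : Qf 1270 = N5729 := rfl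
theorem q1271 : Qf 1271 = N5739 := rfl
theorem q1272 : Qf 1272 = N5740 := rfl
theorem q1273 : Qf 1273 = N5748 := rfl
theorem q1274 : Qf 1274 = N5857 := rfl
theorem q1275 : Qf 1275 = N5858 := rfl
theorem q1276 : Qf 1276 = N5864 := rfl
theorem q1277 : Qf 1277 = N5865 := rfl
theorem q1278 : Qf 1278 = N5866 := rfl
theorem q1279 : Qf 1279 = N5870 := rfl
theorem q1280 : Qf 1280 = N5872 := rfl
theorem q1281 : Qf 1281 = N5902 := rfl
theorem q1282 : Qf 1282 = N5904 := rfl
theorem q1283 : Qf 1283 = N5955 := rfl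
theorem q1284 : Qf 1284 = N5959 := rfl
theorem q1285 : Qf 1285 = N5961 := rfl
theorem q1286 : Qf 1286 = N5966 := rfl
theorem q1287 : Qf 1287 = N5967 := rfl
theorem q1288 : Qf 1288 = N5968 := rfl
theorem q1289 : Qf 1289 = N5969 := rfl
theorem q1290 : Qf 1290 = N5970 := rfl
theorem q1291 : Qf 1291 = N5971 := rfl
theorem q1292 : Qf 1292 = N5972 := rfl
theorem q1293 : Qf 1293 = N5973 := rfl
theorem q1294 : Qf 1294 = N5974 := rfl
theorem q1295 : Qf 1295 = N5978 := rfl
theorem q1296 : Qf 1296 = N5979 := rfl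
theorem q1297 : Qf 1297 = N5980 := rfl
theorem q1298 : Qf 1298 = N6008 := rfl
theorem q1299 : Qf 1299 = N6012 := rfl
theorem q1300 : Qf 1300 = N6043 := rfl
theorem q1301 : Qf 1301 = N6044 := rfl
theorem q1302 : Qf 1302 = N6045 := rfl
theorem q1303 : Qf 1303 = N6850 := rfl
theorem q1304 : Qf 1304 = N6851 := rfl
theorem q1305 : Qf 1305 = N6852 := rfl
theorem q1306 : Qf 1306 = N7179 := rfl
theorem q1307 : Qf 1307 = N7180 := rfl
theorem q1308 : Qf 1308 = N7181 := rfl
theorem q1309 : Qf 1309 = N7182 := rfl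
theorem q1310 : Qf 1310 = N7183 := rfl
theorem q1311 : Qf 1311 = N7184 := rfl
theorem q1312 : Qf 1312 = N7185 := rfl
theorem q1313 : Qf 1313 = N7186 := rfl
theorem q1314 : Qf 1314 = N7187 := rfl
theorem q1315 : Qf 1315 = N7188 := rfl
theorem q1316 : Qf 1316 = N7189 := rfl
theorem q1317 : Qf 1317 = N7190 := rfl
theorem q1318 : Qf 1318 = N7191 := rfl
theorem q1319 : Qf 1319 = N7192 := rfl
theorem q1320 : Qf 1320 = N7193 := rfl
theorem q1321 : Qf 1321 = N7194 := rfl
theorem q1322 : Qf 1322 = N7195 := rfl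
theorem q1323 : Qf 1323 = N7196 := rfl
theorem q1324 : Qf 1324 = N7197 := rfl
theorem q1325 : Qf 1325 = N7198 := rfl
theorem q1326 : Qf 1326 = N7199 := rfl
theorem q1327 : Qf 1327 = N7200 := rfl
theorem q1328 : Qf 1328 = N7201 := rfl
theorem q1329 : Qf 1329 = N7202 := rfl
theorem q1330 : Qf 1330 = N7203 := rfl
theorem q1331 : Qf 1331 = N7204 := rfl
theorem q1332 : Qf 1332 = N7205 := rfl
theorem q1333 : Qf 1333 = N7206 := rfl
theorem q1334 : Qf 1334 = N7207 := rfl
theorem q1335 : Qf 1335 = N7208 := rfl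
theorem q1336 : Qf 1336 = N7209 := rfl
theorem q1337 : Qf 1337 = N7210 := rfl
theorem q1338 : Qf 1338 = N7211 := rfl
theorem q1339 : Qf 1339 = N7212 := rfl
theorem q1340 : Qf 1340 = N7213 := rfl
theorem q1341 : Qf 1341 = N7214 := rfl
theorem q1342 : Qf 1342 = N7215 := rfl
theorem q1343 : Qf 1343 = N7216 := rfl
theorem q1344 : Qf 1344 = N7217 := rfl
theorem q1345 : Qf 1345 = N7218 := rfl
theorem q1346 : Qf 1346 = N7219 := rfl
theorem q1347 : Qf 1347 = N7220 := rfl
theorem q1348 : Qf 1348 = N7221 := rfl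
theorem q1349 : Qf 1349 = N7222 := rfl
theorem q1350 : Qf 1350 = N7223 := rfl
theorem q1351 : Qf 1351 = N7224 := rfl
theorem q1352 : Qf 1352 = N7225 := rfl
theorem q1353 : Qf 1353 = N7226 := rfl
theorem q1354 : Qf 1354 = N7227 := rfl
theorem q1355 : Qf 1355 = N7228 := rfl
theorem q1356 : Qf 1356 = N7229 := rfl
theorem q1357 : Qf 1357 = N7230 := rfl
theorem q1358 : Qf 1358 = N7231 := rfl
theorem q1359 : Qf 1359 = N7232 := rfl
theorem q1360 : Qf 1360 = N7233 := rfl
theorem q1361 : Qf 1361 = N7234 := rfl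
theorem q1362 : Qf 1362 = N7235 := rfl
theorem q1363 : Qf 1363 = N7236 := rfl
theorem q1364 : Qf 1364 = N7237 := rfl
theorem q1365 : Qf 1365 = N7238 := rfl
theorem q1366 : Qf 1366 = N7239 := rfl
theorem q1367 : Qf 1367 = N7240 := rfl
theorem q1368 : Qf 1368 = N7241 := rfl
theorem q1369 : Qf 1369 = N7242 := rfl
theorem q1370 : Qf 1370 = N7243 := rfl
theorem q1371 : Qf 1371 = N7244 := rfl
theorem q1372 : Qf 1372 = N7245 := rfl
theorem q1373 : Qf 1373 = N7246 := rfl
theorem q1374 : Qf 1374 = N7247 := rfl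
theorem q1375 : Qf 1375 = N7248 := rfl
theorem q1376 : Qf 1376 = N7249 := rfl
theorem q1377 : Qf 1377 = N7250 := rfl
theorem q1378 : Qf 1378 = N7251 := rfl
theorem q1379 : Qf 1379 = N7252 := rfl
theorem q1380 : Qf 1380 = N7253 := rfl
theorem q1381 : Qf 1381 = N7254 := rfl
theorem q1382 : Qf 1382 = N7255 := rfl
theorem q1383 : Qf 1383 = N7256 := rfl
theorem q1384 : Qf 1384 = N7257 := rfl
theorem q1385 : Qf 1385 = N7258 := rfl
theorem q1386 : Qf 1386 = N7259 := rfl
theorem q1387 : Qf 1387 = N7260 := rfl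
theorem q1388 : Qf 1388 = N7261 := rfl
theorem q1389 : Qf 1389 = N7262 := rfl
theorem q1390 : Qf 1390 = N7263 := rfl
theorem q1391 : Qf 1391 = N7264 := rfl
theorem q1392 : Qf 1392 = N7265 := rfl
theorem q1393 : Qf 1393 = N7266 := rfl
theorem q1394 : Qf 1394 = N7267 := rfl
theorem q1395 : Qf 1395 = N7268 := rfl
theorem q1396 : Qf 1396 = N7269 := rfl
theorem q1397 : Qf 1397 = N7270 := rfl
theorem q1398 : Qf 1398 = N7271 := rfl
theorem q1399 : Qf 1399 = N7272 := rfl
theorem q1400 : Qf 1400 = N7273 := rfl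
theorem q1401 : Qf 1401 = N7274 := rfl
theorem q1402 : Qf 1402 = N7275 := rfl
theorem q1403 : Qf 1403 = N7276 := rfl
theorem q1404 : Qf 1404 = N7277 := rfl
theorem q1405 : Qf 1405 = N7278 := rfl
theorem q1406 : Qf 1406 = N7279 := rfl
theorem q1407 : Qf 1407 = N7280 := rfl
theorem q1408 : Qf 1408 = N7281 := rfl
theorem q1409 : Qf 1409 = N7282 := rfl
theorem q1410 : Qf 1410 = N7283 := rfl
theorem q1411 : Qf 1411 = N7284 := rfl
theorem q1412 : Qf 1412 = N7285 := rfl
theorem q1413 : Qf 1413 = N7286 := rfl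
theorem q1414 : Qf 1414 = N7287 := rfl
theorem q1415 : Qf 1415 = N7288 := rfl
theorem q1416 : Qf 1416 = N7289 := rfl
theorem q1417 : Qf 1417 = N7290 := rfl
theorem q1418 : Qf 1418 = N7291 := rfl
theorem q1419 : Qf 1419 = N7292 := rfl
theorem q1420 : Qf 1420 = N7293 := rfl
theorem q1421 : Qf 1421 = N7294 := rfl
theorem q1422 : Qf 1422 = N7295 := rfl
theorem q1423 : Qf 1423 = N7296 := rfl
theorem q1424 : Qf 1424 = N7297 := rfl
theorem q1425 : Qf 1425 = N7298 := rfl
theorem q1426 : Qf 1426 = N7299 := rfl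
theorem q1427 : Qf 1427 = N7300 := rfl
theorem q1428 : Qf 1428 = N7301 := rfl
theorem q1429 : Qf 1429 = N7302 := rfl
theorem q1430 : Qf 1430 = N7303 := rfl
theorem q1431 : Qf 1431 = N7304 := rfl
theorem q1432 : Qf 1432 = N7305 := rfl
theorem q1433 : Qf 1433 = N7306 := rfl
theorem q1434 : Qf 1434 = N7307 := rfl
theorem q1435 : Qf 1435 = N7308 := rfl
theorem q1436 : Qf 1436 = N7309 := rfl
theorem q1437 : Qf 1437 = N7310 := rfl
theorem q1438 : Qf 1438 = N7311 := rfl
theorem q1439 : Qf 1439 = N7312 := rfl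
theorem q1440 : Qf 1440 = N7313 := rfl
theorem q1441 : Qf 1441 = N7314 := rfl
theorem q1442 : Qf 1442 = N7315 := rfl
theorem q1443 : Qf 1443 = N7316 := rfl
theorem q1444 : Qf 1444 = N7317 := rfl
theorem q1445 : Qf 1445 = N7318 := rfl
theorem q1446 : Qf 1446 = N7319 := rfl
theorem q1447 : Qf 1447 = N7320 := rfl
theorem q1448 : Qf 1448 = N7321 := rfl
theorem q1449 : Qf 1449 = N7322 := rfl
theorem q1450 : Qf 1450 = N7323 := rfl
theorem q1451 : Qf 1451 = N7324 := rfl
theorem q1452 : Qf 1452 = N7325 := rfl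
theorem q1453 : Qf 1453 = N7326 := rfl
theorem q1454 : Qf 1454 = N7327 := rfl
theorem q1455 : Qf 1455 = N7328 := rfl
theorem q1456 : Qf 1456 = N7329 := rfl
theorem q1457 : Qf 1457 = N7330 := rfl
theorem q1458 : Qf 1458 = N7331 := rfl
theorem q1459 : Qf 1459 = N7332 := rfl
theorem q1460 : Qf 1460 = N7333 := rfl
theorem q1461 : Qf 1461 = N7334 := rfl
theorem q1462 : Qf 1462 = N7335 := rfl
theorem q1463 : Qf 1463 = N7336 := rfl
theorem q1464 : Qf 1464 = N7337 := rfl
theorem q1465 : Qf 1465 = N7338 := rfl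
theorem q1466 : Qf 1466 = N7339 := rfl
theorem q1467 : Qf 1467 = N7340 := rfl
theorem q1468 : Qf 1468 = N7341 := rfl
theorem q1469 : Qf 1469 = N7342 := rfl
theorem q1470 : Qf 1470 = N7343 := rfl
theorem q1471 : Qf 1471 = N7344 := rfl
theorem q1472 : Qf 1472 = N7345 := rfl
theorem q1473 : Qf 1473 = N7346 := rfl
theorem q1474 : Qf 1474 = N7347 := rfl
theorem q1475 : Qf 1475 = N7348 := rfl
theorem q1476 : Qf 1476 = N7349 := rfl
theorem q1477 : Qf 1477 = N7350 := rfl
theorem q1478 : Qf 1478 = N7351 := rfl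
theorem q1479 : Qf 1479 = N7352 := rfl
theorem q1480 : Qf 1480 = N7353 := rfl
theorem q1481 : Qf 1481 = N7354 := rfl
theorem q1482 : Qf 1482 = N7355 := rfl
theorem q1483 : Qf 1483 = N7356 := rfl
theorem q1484 : Qf 1484 = N7357 := rfl
theorem q1485 : Qf 1485 = N7358 := rfl
theorem q1486 : Qf 1486 = N7359 := rfl
theorem q1487 : Qf 1487 = N7360 := rfl
theorem q1488 : Qf 1488 = N7361 := rfl
theorem q1489 : Qf 1489 = N7362 := rfl
theorem q1490 : Qf 1490 = N7363 := rfl
theorem q1491 : Qf 1491 = N7364 := rfl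
theorem q1492 : Qf 1492 = N7365 := rfl
theorem q1493 : Qf 1493 = N7366 := rfl
theorem q1494 : Qf 1494 = N7367 := rfl
theorem q1495 : Qf 1495 = N7368 := rfl
theorem q1496 : Qf 1496 = N7369 := rfl
theorem q1497 : Qf 1497 = N7370 := rfl
theorem q1498 : Qf 1498 = N7371 := rfl
theorem q1499 : Qf 1499 = N7372 := rfl
theorem q1500 : Qf 1500 = N7373 := rfl
theorem q1501 : Qf 1501 = N7374 := rfl
theorem q1502 : Qf 1502 = N7375 := rfl
theorem q1503 : Qf 1503 = N7376 := rfl
theorem q1504 : Qf 1504 = N7377 := rfl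
theorem q1505 : Qf 1505 = N7378 := rfl
theorem q1506 : Qf 1506 = N7379 := rfl
theorem q1507 : Qf 1507 = N7380 := rfl
theorem q1508 : Qf 1508 = N7381 := rfl
theorem q1509 : Qf 1509 = N7382 := rfl
theorem q1510 : Qf 1510 = N7383 := rfl
theorem q1511 : Qf 1511 = N7384 := rfl
theorem q1512 : Qf 1512 = N7385 := rfl
theorem q1513 : Qf 1513 = N7386 := rfl
theorem q1514 : Qf 1514 = N7387 := rfl
theorem q1515 : Qf 1515 = N7388 := rfl
theorem q1516 : Qf 1516 = N7389 := rfl
theorem q1517 : Qf 1517 = N7390 := rfl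
theorem q1518 : Qf 1518 = N7391 := rfl
theorem q1519 : Qf 1519 = N7392 := rfl
theorem q1520 : Qf 1520 = N7393 := rfl
theorem q1521 : Qf 1521 = N7394 := rfl
theorem q1522 : Qf 1522 = N7395 := rfl
theorem q1523 : Qf 1523 = N7396 := rfl
theorem q1524 : Qf 1524 = N7397 := rfl
theorem q1525 : Qf 1525 = N7398 := rfl
theorem q1526 : Qf 1526 = N7399 := rfl
theorem q1527 : Qf 1527 = N7400 := rfl
theorem q1528 : Qf 1528 = N7401 := rfl
theorem q1529 : Qf 1529 = N7402 := rfl
theorem q1530 : Qf 1530 = N7403 := rfl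
theorem q1531 : Qf 1531 = N7404 := rfl
theorem q1532 : Qf 1532 = N7405 := rfl
theorem q1533 : Qf 1533 = N7406 := rfl
theorem q1534 : Qf 1534 = N7407 := rfl
theorem q1535 : Qf 1535 = N7408 := rfl
theorem q1536 : Qf 1536 = N7409 := rfl
theorem q1537 : Qf 1537 = N7410 := rfl
theorem q1538 : Qf 1538 = N7411 := rfl
theorem q1539 : Qf 1539 = N7412 := rfl
theorem q1540 : Qf 1540 = N7413 := rfl
theorem q1541 : Qf 1541 = N7414 := rfl
theorem q1542 : Qf 1542 = N7415 := rfl
theorem q1543 : Qf 1543 = N7416 := rfl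
theorem q1544 : Qf 1544 = N7417 := rfl
theorem q1545 : Qf 1545 = N7418 := rfl
theorem q1546 : Qf 1546 = N7419 := rfl
theorem q1547 : Qf 1547 = N7420 := rfl
theorem q1548 : Qf 1548 = N7421 := rfl
theorem q1549 : Qf 1549 = N7422 := rfl
theorem q1550 : Qf 1550 = N7423 := rfl
theorem q1551 : Qf 1551 = N7424 := rfl
theorem q1552 : Qf 1552 = N7425 := rfl
theorem q1553 : Qf 1553 = N7426 := rfl
theorem q1554 : Qf 1554 = N7427 := rfl
theorem q1555 : Qf 1555 = N7428 := rfl
theorem q1556 : Qf 1556 = N7429 := rfl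
theorem q1557 : Qf 1557 = N7430 := rfl
theorem q1558 : Qf 1558 = N7431 := rfl
theorem q1559 : Qf 1559 = N7432 := rfl
theorem q1560 : Qf 1560 = N7433 := rfl
theorem q1561 : Qf 1561 = N7434 := rfl
theorem q1562 : Qf 1562 = N7435 := rfl
theorem q1563 : Qf 1563 = N7436 := rfl
theorem q1564 : Qf 1564 = N7437 := rfl
theorem q1565 : Qf 1565 = N7438 := rfl
theorem q1566 : Qf 1566 = N7439 := rfl
theorem q1567 : Qf 1567 = N7440 := rfl
theorem q1568 : Qf 1568 = N7441 := rfl
theorem q1569 : Qf 1569 = N7442 := rfl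
theorem q1570 : Qf 1570 = N7443 := rfl
theorem q1571 : Qf 1571 = N7444 := rfl
theorem q1572 : Qf 1572 = N7445 := rfl
theorem q1573 : Qf 1573 = N7446 := rfl
theorem q1574 : Qf 1574 = N7447 := rfl
theorem q1575 : Qf 1575 = N7448 := rfl
theorem q1576 : Qf 1576 = N7449 := rfl
theorem q1577 : Qf 1577 = N7450 := rfl
theorem q1578 : Qf 1578 = N7451 := rfl
theorem q1579 : Qf 1579 = N7452 := rfl
theorem q1580 : Qf 1580 = N7453 := rfl
theorem q1581 : Qf 1581 = N7454 := rfl
theorem q1582 : Qf 1582 = N7455 := rfl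
theorem q1583 : Qf 1583 = N7456 := rfl
theorem q1584 : Qf 1584 = N7457 := rfl
theorem q1585 : Qf 1585 = N7458 := rfl
theorem q1586 : Qf 1586 = N7459 := rfl
theorem q1587 : Qf 1587 = N7460 := rfl
theorem q1588 : Qf 1588 = N7461 := rfl
theorem q1589 : Qf 1589 = N7462 := rfl
theorem q1590 : Qf 1590 = N7463 := rfl
theorem q1591 : Qf 1591 = N7464 := rfl
theorem q1592 : Qf 1592 = N7465 := rfl
theorem q1593 : Qf 1593 = N7466 := rfl
theorem q1594 : Qf 1594 = N7467 := rfl
theorem q1595 : Qf 1595 = N7468 := rfl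
theorem q1596 : Qf 1596 = N7469 := rfl
theorem q1597 : Qf 1597 = N7470 := rfl
theorem q1598 : Qf 1598 = N7471 := rfl
theorem q1599 : Qf 1599 = N7472 := rfl
theorem q1600 : Qf 1600 = N7473 := rfl
theorem q1601 : Qf 1601 = N7475 := rfl
theorem q1602 : Qf 1602 = N7476 := rfl
theorem q1603 : Qf 1603 = N7477 := rfl
theorem q1604 : Qf 1604 = N7478 := rfl
theorem q1605 : Qf 1605 = N7480 := rfl
theorem q1606 : Qf 1606 = N7481 := rfl
theorem q1607 : Qf 1607 = N7482 := rfl
theorem q1608 : Qf 1608 = N7483 := rfl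
theorem q1609 : Qf 1609 = N7484 := rfl
theorem q1610 : Qf 1610 = N7485 := rfl
theorem q1611 : Qf 1611 = N7486 := rfl
theorem q1612 : Qf 1612 = N7487 := rfl
theorem q1613 : Qf 1613 = N7488 := rfl
theorem q1614 : Qf 1614 = N7489 := rfl
theorem q1615 : Qf 1615 = N7490 := rfl
theorem q1616 : Qf 1616 = N7491 := rfl
theorem q1617 : Qf 1617 = N7492 := rfl
theorem q1618 : Qf 1618 = N7493 := rfl
theorem q1619 : Qf 1619 = N7494 := rfl
theorem q1620 : Qf 1620 = N7495 := rfl
theorem q1621 : Qf 1621 = N7496 := rfl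
theorem q1622 : Qf 1622 = N7497 := rfl
theorem q1623 : Qf 1623 = N7498 := rfl
theorem q1624 : Qf 1624 = N7499 := rfl
theorem q1625 : Qf 1625 = N7500 := rfl
theorem q1626 : Qf 1626 = N7501 := rfl
theorem q1627 : Qf 1627 = N7502 := rfl
theorem q1628 : Qf 1628 = N7503 := rfl
theorem q1629 : Qf 1629 = N7504 := rfl
theorem q1630 : Qf 1630 = N7505 := rfl
theorem q1631 : Qf 1631 = N7506 := rfl
theorem q1632 : Qf 1632 = N7507 := rfl
theorem q1633 : Qf 1633 = N7508 := rfl
theorem q1634 : Qf 1634 = N7509 := rfl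
theorem q1635 : Qf 1635 = N7510 := rfl
theorem q1636 : Qf 1636 = N7511 := rfl
theorem q1637 : Qf 1637 = N7512 := rfl
theorem q1638 : Qf 1638 = N7513 := rfl
theorem q1639 : Qf 1639 = N7514 := rfl
theorem q1640 : Qf 1640 = N7515 := rfl
theorem q1641 : Qf 1641 = N7516 := rfl
theorem q1642 : Qf 1642 = N7517 := rfl
theorem q1643 : Qf 1643 = N7518 := rfl
theorem q1644 : Qf 1644 = N7519 := rfl
theorem q1645 : Qf 1645 = N7520 := rfl
theorem q1646 : Qf 1646 = N7521 := rfl
theorem q1647 : Qf 1647 = N7522 := rfl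
theorem q1648 : Qf 1648 = N7523 := rfl
theorem q1649 : Qf 1649 = N7524 := rfl
theorem q1650 : Qf 1650 = N7525 := rfl
theorem q1651 : Qf 1651 = N7526 := rfl
theorem q1652 : Qf 1652 = N7527 := rfl
theorem q1653 : Qf 1653 = N7528 := rfl
theorem q1654 : Qf 1654 = N7529 := rfl
theorem q1655 : Qf 1655 = N7530 := rfl
theorem q1656 : Qf 1656 = N7531 := rfl
theorem q1657 : Qf 1657 = N7532 := rfl
theorem q1658 : Qf 1658 = N7533 := rfl
theorem q1659 : Qf 1659 = N7534 := rfl
theorem q1660 : Qf 1660 = N7535 := rfl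
theorem q1661 : Qf 1661 = N7536 := rfl
theorem q1662 : Qf 1662 = N7537 := rfl
theorem q1663 : Qf 1663 = N7538 := rfl
theorem q1664 : Qf 1664 = N7539 := rfl
theorem q1665 : Qf 1665 = N7540 := rfl
theorem q1666 : Qf 1666 = N7541 := rfl
theorem q1667 : Qf 1667 = N7542 := rfl
theorem q1668 : Qf 1668 = N7543 := rfl
theorem q1669 : Qf 1669 = N7544 := rfl
theorem q1670 : Qf 1670 = N7545 := rfl
theorem q1671 : Qf 1671 = N7546 := rfl
theorem q1672 : Qf 1672 = N7547 := rfl
theorem q1673 : Qf 1673 = N7548 := rfl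
theorem q1674 : Qf 1674 = N7549 := rfl
theorem q1675 : Qf 1675 = N7550 := rfl
theorem q1676 : Qf 1676 = N7551 := rfl
theorem q1677 : Qf 1677 = N7552 := rfl
theorem q1678 : Qf 1678 = N7553 := rfl
theorem q1679 : Qf 1679 = N7554 := rfl
theorem q1680 : Qf 1680 = N7555 := rfl
theorem q1681 : Qf 1681 = N7556 := rfl
theorem q1682 : Qf 1682 = N7557 := rfl
theorem q1683 : Qf 1683 = N7558 := rfl
theorem q1684 : Qf 1684 = N7559 := rfl
theorem q1685 : Qf 1685 = N7560 := rfl
theorem q1686 : Qf 1686 = N7561 := rfl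
theorem q1687 : Qf 1687 = N7562 := rfl
theorem q1688 : Qf 1688 = N7563 := rfl
theorem q1689 : Qf 1689 = N7564 := rfl
theorem q1690 : Qf 1690 = N7565 := rfl
theorem q1691 : Qf 1691 = N7566 := rfl
theorem q1692 : Qf 1692 = N7567 := rfl
theorem q1693 : Qf 1693 = N7568 := rfl
theorem q1694 : Qf 1694 = N7569 := rfl
theorem q1695 : Qf 1695 = N7570 := rfl
theorem q1696 : Qf 1696 = N7571 := rfl
theorem q1697 : Qf 1697 = N7572 := rfl
theorem q1698 : Qf 1698 = N7573 := rfl
theorem q1699 : Qf 1699 = N7574 := rfl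
theorem q1700 : Qf 1700 = N7575 := rfl
theorem q1701 : Qf 1701 = N7576 := rfl
theorem q1702 : Qf 1702 = N7577 := rfl
theorem q1703 : Qf 1703 = N7578 := rfl
theorem q1704 : Qf 1704 = N7579 := rfl
theorem q1705 : Qf 1705 = N7580 := rfl
theorem q1706 : Qf 1706 = N7581 := rfl
theorem q1707 : Qf 1707 = N7582 := rfl
theorem q1708 : Qf 1708 = N7583 := rfl
theorem q1709 : Qf 1709 = N7584 := rfl
theorem q1710 : Qf 1710 = N7585 := rfl
theorem q1711 : Qf 1711 = N7586 := rfl
theorem q1712 : Qf 1712 = N7587 := rfl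
theorem q1713 : Qf 1713 = N7588 := rfl
theorem q1714 : Qf 1714 = N7589 := rfl
theorem q1715 : Qf 1715 = N7590 := rfl
theorem q1716 : Qf 1716 = N7591 := rfl
theorem q1717 : Qf 1717 = N7592 := rfl
theorem q1718 : Qf 1718 = N7593 := rfl
theorem q1719 : Qf 1719 = N7594 := rfl
theorem q1720 : Qf 1720 = N7595 := rfl
theorem q1721 : Qf 1721 = N7596 := rfl
theorem q1722 : Qf 1722 = N7597 := rfl
theorem q1723 : Qf 1723 = N7598 := rfl
theorem q1724 : Qf 1724 = N7599 := rfl
theorem q1725 : Qf 1725 = N7600 := rfl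
theorem q1726 : Qf 1726 = N7601 := rfl
theorem q1727 : Qf 1727 = N7602 := rfl
theorem q1728 : Qf 1728 = N7603 := rfl
theorem q1729 : Qf 1729 = N7604 := rfl
theorem q1730 : Qf 1730 = N7605 := rfl
theorem q1731 : Qf 1731 = N7606 := rfl
theorem q1732 : Qf 1732 = N7607 := rfl
theorem q1733 : Qf 1733 = N7608 := rfl
theorem q1734 : Qf 1734 = N7609 := rfl
theorem q1735 : Qf 1735 = N7610 := rfl
theorem q1736 : Qf 1736 = N7611 := rfl
theorem q1737 : Qf 1737 = N7612 := rfl
theorem q1738 : Qf 1738 = N7613 := rfl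
theorem q1739 : Qf 1739 = N7614 := rfl
theorem q1740 : Qf 1740 = N7615 := rfl
theorem q1741 : Qf 1741 = N7616 := rfl
theorem q1742 : Qf 1742 = N7617 := rfl
theorem q1743 : Qf 1743 = N7618 := rfl
theorem q1744 : Qf 1744 = N7619 := rfl
theorem q1745 : Qf 1745 = N7620 := rfl
theorem q1746 : Qf 1746 = N7621 := rfl
theorem q1747 : Qf 1747 = N7622 := rfl
theorem q1748 : Qf 1748 = N7623 := rfl
theorem q1749 : Qf 1749 = N7624 := rfl
theorem q1750 : Qf 1750 = N7625 := rfl
theorem q1751 : Qf 1751 = N7626 := rfl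
theorem q1752 : Qf 1752 = N7627 := rfl
theorem q1753 : Qf 1753 = N7628 := rfl
theorem q1754 : Qf 1754 = N7629 := rfl
theorem q1755 : Qf 1755 = N7630 := rfl
theorem q1756 : Qf 1756 = N7631 := rfl
theorem q1757 : Qf 1757 = N7632 := rfl
theorem q1758 : Qf 1758 = N7633 := rfl
theorem q1759 : Qf 1759 = N7634 := rfl
theorem q1760 : Qf 1760 = N7635 := rfl
theorem q1761 : Qf 1761 = N7636 := rfl
theorem q1762 : Qf 1762 = N7637 := rfl
theorem q1763 : Qf 1763 = N7638 := rfl
theorem q1764 : Qf 1764 = N7639 := rfl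
theorem q1765 : Qf 1765 = N7640 := rfl
theorem q1766 : Qf 1766 = N7641 := rfl
theorem q1767 : Qf 1767 = N7642 := rfl
theorem q1768 : Qf 1768 = N7643 := rfl
theorem q1769 : Qf 1769 = N7644 := rfl
theorem q1770 : Qf 1770 = N7645 := rfl
theorem q1771 : Qf 1771 = N7646 := rfl
theorem q1772 : Qf 1772 = N7647 := rfl
theorem q1773 : Qf 1773 = N7648 := rfl
theorem q1774 : Qf 1774 = N7649 := rfl
theorem q1775 : Qf 1775 = N7650 := rfl
theorem q1776 : Qf 1776 = N7652 := rfl
theorem q1777 : Qf 1777 = N7653 := rfl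
theorem q1778 : Qf 1778 = N7654 := rfl
theorem q1779 : Qf 1779 = N7655 := rfl
theorem q1780 : Qf 1780 = N7656 := rfl
theorem q1781 : Qf 1781 = N7657 := rfl
theorem q1782 : Qf 1782 = N7658 := rfl
theorem q1783 : Qf 1783 = N7659 := rfl
theorem q1784 : Qf 1784 = N7660 := rfl
theorem q1785 : Qf 1785 = N7661 := rfl
theorem q1786 : Qf 1786 = N7662 := rfl
theorem q1787 : Qf 1787 = N7663 := rfl
theorem q1788 : Qf 1788 = N7664 := rfl
theorem q1789 : Qf 1789 = N7665 := rfl
theorem q1790 : Qf 1790 = N7666 := rfl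
theorem q1791 : Qf 1791 = N7667 := rfl
theorem q1792 : Qf 1792 = N7668 := rfl
theorem q1793 : Qf 1793 = N7669 := rfl
theorem q1794 : Qf 1794 = N7670 := rfl
theorem q1795 : Qf 1795 = N7671 := rfl
theorem q1796 : Qf 1796 = N7672 := rfl
theorem q1797 : Qf 1797 = N7673 := rfl
theorem q1798 : Qf 1798 = N7674 := rfl
theorem q1799 : Qf 1799 = N7675 := rfl
theorem q1800 : Qf 1800 = N7676 := rfl
theorem q1801 : Qf 1801 = N7677 := rfl
theorem q1802 : Qf 1802 = N7678 := rfl
theorem q1803 : Qf 1803 = N7679 := rfl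
theorem q1804 : Qf 1804 = N7680 := rfl
theorem q1805 : Qf 1805 = N7681 := rfl
theorem q1806 : Qf 1806 = N7682 := rfl
theorem q1807 : Qf 1807 = N7683 := rfl
theorem q1808 : Qf 1808 = N7684 := rfl
theorem q1809 : Qf 1809 = N7685 := rfl
theorem q1810 : Qf 1810 = N7686 := rfl
theorem q1811 : Qf 1811 = N7687 := rfl
theorem q1812 : Qf 1812 = N7688 := rfl
theorem q1813 : Qf 1813 = N7689 := rfl
theorem q1814 : Qf 1814 = N7690 := rfl
theorem q1815 : Qf 1815 = N7691 := rfl
theorem q1816 : Qf 1816 = N7692 := rfl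
theorem q1817 : Qf 1817 = N7693 := rfl
theorem q1818 : Qf 1818 = N7694 := rfl
theorem q1819 : Qf 1819 = N7695 := rfl
theorem q1820 : Qf 1820 = N7696 := rfl
theorem q1821 : Qf 1821 = N7697 := rfl
theorem q1822 : Qf 1822 = N7698 := rfl
theorem q1823 : Qf 1823 = N7699 := rfl
theorem q1824 : Qf 1824 = N7700 := rfl
theorem q1825 : Qf 1825 = N7701 := rfl
theorem q1826 : Qf 1826 = N7702 := rfl
theorem q1827 : Qf 1827 = N7703 := rfl
theorem q1828 : Qf 1828 = N7704 := rfl
theorem q1829 : Qf 1829 = N7705 := rfl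
theorem q1830 : Qf 1830 = N7706 := rfl
theorem q1831 : Qf 1831 = N7707 := rfl
theorem q1832 : Qf 1832 = N7708 := rfl
theorem q1833 : Qf 1833 = N7709 := rfl
theorem q1834 : Qf 1834 = N7710 := rfl
theorem q1835 : Qf 1835 = N7711 := rfl
theorem q1836 : Qf 1836 = N7712 := rfl
theorem q1837 : Qf 1837 = N7713 := rfl
theorem q1838 : Qf 1838 = N7714 := rfl
theorem q1839 : Qf 1839 = N7715 := rfl
theorem q1840 : Qf 1840 = N7716 := rfl
theorem q1841 : Qf 1841 = N7717 := rfl
theorem q1842 : Qf 1842 = N7718 := rfl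
theorem q1843 : Qf 1843 = N7719 := rfl
theorem q1844 : Qf 1844 = N7720 := rfl
theorem q1845 : Qf 1845 = N7721 := rfl
theorem q1846 : Qf 1846 = N7722 := rfl
theorem q1847 : Qf 1847 = N7723 := rfl
theorem q1848 : Qf 1848 = N7724 := rfl
theorem q1849 : Qf 1849 = N7725 := rfl
theorem q1850 : Qf 1850 = N7726 := rfl
theorem q1851 : Qf 1851 = N7727 := rfl
theorem q1852 : Qf 1852 = N7728 := rfl
theorem q1853 : Qf 1853 = N7729 := rfl
theorem q1854 : Qf 1854 = N7730 := rfl
theorem q1855 : Qf 1855 = N7731 := rfl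
theorem q1856 : Qf 1856 = N7732 := rfl
theorem q1857 : Qf 1857 = N7733 := rfl
theorem q1858 : Qf 1858 = N7734 := rfl
theorem q1859 : Qf 1859 = N7735 := rfl
theorem q1860 : Qf 1860 = N7736 := rfl
theorem q1861 : Qf 1861 = N7737 := rfl
theorem q1862 : Qf 1862 = N7738 := rfl
theorem q1863 : Qf 1863 = N7739 := rfl
theorem q1864 : Qf 1864 = N7740 := rfl
theorem q1865 : Qf 1865 = N7741 := rfl
theorem q1866 : Qf 1866 = N7742 := rfl
theorem q1867 : Qf 1867 = N7743 := rfl
theorem q1868 : Qf 1868 = N7744 := rfl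
theorem q1869 : Qf 1869 = N7745 := rfl
theorem q1870 : Qf 1870 = N7746 := rfl
theorem q1871 : Qf 1871 = N7747 := rfl
theorem q1872 : Qf 1872 = N7748 := rfl
theorem q1873 : Qf 1873 = N7749 := rfl
theorem q1874 : Qf 1874 = N7750 := rfl
theorem q1875 : Qf 1875 = N7751 := rfl
theorem q1876 : Qf 1876 = N7752 := rfl
theorem q1877 : Qf 1877 = N7753 := rfl
theorem q1878 : Qf 1878 = N7754 := rfl
theorem q1879 : Qf 1879 = N7755 := rfl
theorem q1880 : Qf 1880 = N7756 := rfl
theorem q1881 : Qf 1881 = N7757 := rfl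
theorem q1882 : Qf 1882 = N7758 := rfl
theorem q1883 : Qf 1883 = N7759 := rfl
theorem q1884 : Qf 1884 = N7760 := rfl
theorem q1885 : Qf 1885 = N7761 := rfl
theorem q1886 : Qf 1886 = N7762 := rfl
theorem q1887 : Qf 1887 = N7763 := rfl
theorem q1888 : Qf 1888 = N7764 := rfl
theorem q1889 : Qf 1889 = N7765 := rfl
theorem q1890 : Qf 1890 = N7766 := rfl
theorem q1891 : Qf 1891 = N7767 := rfl
theorem q1892 : Qf 1892 = N7768 := rfl
theorem q1893 : Qf 1893 = N7769 := rfl
theorem q1894 : Qf 1894 = N7770 := rfl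
theorem q1895 : Qf 1895 = N7771 := rfl
theorem q1896 : Qf 1896 = N7772 := rfl
theorem q1897 : Qf 1897 = N7773 := rfl
theorem q1898 : Qf 1898 = N7774 := rfl
theorem q1899 : Qf 1899 = N7775 := rfl
theorem q1900 : Qf 1900 = N7776 := rfl
theorem q1901 : Qf 1901 = N7777 := rfl
theorem q1902 : Qf 1902 = N7778 := rfl
theorem q1903 : Qf 1903 = N7779 := rfl
theorem q1904 : Qf 1904 = N7780 := rfl
theorem q1905 : Qf 1905 = N7781 := rfl
theorem q1906 : Qf 1906 = N7782 := rfl
theorem q1907 : Qf 1907 = N7783 := rfl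
theorem q1908 : Qf 1908 = N7784 := rfl
theorem q1909 : Qf 1909 = N7785 := rfl
theorem q1910 : Qf 1910 = N7786 := rfl
theorem q1911 : Qf 1911 = N7787 := rfl
theorem q1912 : Qf 1912 = N7788 := rfl
theorem q1913 : Qf 1913 = N7789 := rfl
theorem q1914 : Qf 1914 = N7790 := rfl
theorem q1915 : Qf 1915 = N7791 := rfl
theorem q1916 : Qf 1916 = N7792 := rfl
theorem q1917 : Qf 1917 = N7793 := rfl
theorem q1918 : Qf 1918 = N7794 := rfl
theorem q1919 : Qf 1919 = N7795 := rfl
theorem q1920 : Qf 1920 = N7796 := rfl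
theorem q1921 : Qf 1921 = N7797 := rfl
theorem q1922 : Qf 1922 = N7798 := rfl
theorem q1923 : Qf 1923 = N7799 := rfl
theorem q1924 : Qf 1924 = N7800 := rfl
theorem q1925 : Qf 1925 = N7801 := rfl
theorem q1926 : Qf 1926 = N7802 := rfl
theorem q1927 : Qf 1927 = N7803 := rfl
theorem q1928 : Qf 1928 = N7804 := rfl
theorem q1929 : Qf 1929 = N7805 := rfl
theorem q1930 : Qf 1930 = N7806 := rfl
theorem q1931 : Qf 1931 = N7807 := rfl
theorem q1932 : Qf 1932 = N7808 := rfl
theorem q1933 : Qf 1933 = N7809 := rfl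
theorem q1934 : Qf 1934 = N7810 := rfl
theorem q1935 : Qf 1935 = N7811 := rfl
theorem q1936 : Qf 1936 = N7812 := rfl
theorem q1937 : Qf 1937 = N7813 := rfl
theorem q1938 : Qf 1938 = N7814 := rfl
theorem q1939 : Qf 1939 = N7815 := rfl
theorem q1940 : Qf 1940 = N7816 := rfl
theorem q1941 : Qf 1941 = N7817 := rfl
theorem q1942 : Qf 1942 = N7818 := rfl
theorem q1943 : Qf 1943 = N7819 := rfl
theorem q1944 : Qf 1944 = N7820 := rfl
theorem q1945 : Qf 1945 = N7821 := rfl
theorem q1946 : Qf 1946 = N7822 := rfl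
theorem q1947 : Qf 1947 = N7823 := rfl
theorem q1948 : Qf 1948 = N7824 := rfl
theorem q1949 : Qf 1949 = N7825 := rfl
theorem q1950 : Qf 1950 = N7826 := rfl
theorem q1951 : Qf 1951 = N7827 := rfl
theorem q1952 : Qf 1952 = N7828 := rfl
theorem q1953 : Qf 1953 = N7829 := rfl
theorem q1954 : Qf 1954 = N7830 := rfl
theorem q1955 : Qf 1955 = N7831 := rfl
theorem q1956 : Qf 1956 = N7832 := rfl
theorem q1957 : Qf 1957 = N7833 := rfl
theorem q1958 : Qf 1958 = N7834 := rfl
theorem q1959 : Qf 1959 = N7835 := rfl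
theorem q1960 : Qf 1960 = N7836 := rfl
theorem q1961 : Qf 1961 = N7837 := rfl
theorem q1962 : Qf 1962 = N7838 := rfl
theorem q1963 : Qf 1963 = N7839 := rfl
theorem q1964 : Qf 1964 = N7840 := rfl
theorem q1965 : Qf 1965 = N7841 := rfl
theorem q1966 : Qf 1966 = N7842 := rfl
theorem q1967 : Qf 1967 = N7843 := rfl
theorem q1968 : Qf 1968 = N7844 := rfl
theorem q1969 : Qf 1969 = N7845 := rfl
theorem q1970 : Qf 1970 = N7846 := rfl
theorem q1971 : Qf 1971 = N7847 := rfl
theorem q1972 : Qf 1972 = N7848 := rfl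
theorem q1973 : Qf 1973 = N7849 := rfl
theorem q1974 : Qf 1974 = N7850 := rfl
theorem q1975 : Qf 1975 = N7851 := rfl
theorem q1976 : Qf 1976 = N7852 := rfl
theorem q1977 : Qf 1977 = N7853 := rfl
theorem q1978 : Qf 1978 = N7854 := rfl
theorem q1979 : Qf 1979 = N7855 := rfl
theorem q1980 : Qf 1980 = N7856 := rfl
theorem q1981 : Qf 1981 = N7857 := rfl
theorem q1982 : Qf 1982 = N7858 := rfl
theorem q1983 : Qf 1983 = N7859 := rfl
theorem q1984 : Qf 1984 = N7860 := rfl
theorem q1985 : Qf 1985 = N7861 := rfl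
theorem q1986 : Qf 1986 = N7862 := rfl
theorem q1987 : Qf 1987 = N7863 := rfl
theorem q1988 : Qf 1988 = N7864 := rfl
theorem q1989 : Qf 1989 = N7865 := rfl
theorem q1990 : Qf 1990 = N7866 := rfl
theorem q1991 : Qf 1991 = N7867 := rfl
theorem q1992 : Qf 1992 = N7868 := rfl
theorem q1993 : Qf 1993 = N7869 := rfl
theorem q1994 : Qf 1994 = N7870 := rfl
theorem q1995 : Qf 1995 = N7871 := rfl
theorem q1996 : Qf 1996 = N7872 := rfl
theorem q1997 : Qf 1997 = N7873 := rfl
theorem q1998 : Qf 1998 = N7874 := rfl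
theorem q1999 : Qf 1999 = N7875 := rfl
theorem q2000 : Qf 2000 = N7876 := rfl
theorem q2001 : Qf 2001 = N7877 := rfl
theorem q2002 : Qf 2002 = N7878 := rfl
theorem q2003 : Qf 2003 = N7879 := rfl
theorem q2004 : Qf 2004 = N7880 := rfl
theorem q2005 : Qf 2005 = N7881 := rfl
theorem q2006 : Qf 2006 = N7882 := rfl
theorem q2007 : Qf 2007 = N7883 := rfl
theorem q2008 : Qf 2008 = N7884 := rfl
theorem q2009 : Qf 2009 = N7885 := rfl
theorem q2010 : Qf 2010 = N7886 := rfl
theorem q2011 : Qf 2011 = N7887 := rfl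
theorem q2012 : Qf 2012 = N7888 := rfl
theorem q2013 : Qf 2013 = N7889 := rfl
theorem q2014 : Qf 2014 = N7890 := rfl
theorem q2015 : Qf 2015 = N7891 := rfl
theorem q2016 : Qf 2016 = N7892 := rfl
theorem q2017 : Qf 2017 = N7893 := rfl
theorem q2018 : Qf 2018 = N7894 := rfl
theorem q2019 : Qf 2019 = N7895 := rfl
theorem q2020 : Qf 2020 = N7896 := rfl
theorem q2021 : Qf 2021 = N7897 := rfl
theorem q2022 : Qf 2022 = N7898 := rfl
theorem q2023 : Qf 2023 = N7899 := rfl
theorem q2024 : Qf 2024 = N7900 := rfl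
theorem q2025 : Qf 2025 = N7901 := rfl
theorem q2026 : Qf 2026 = N7902 := rfl
theorem q2027 : Qf 2027 = N7903 := rfl
theorem q2028 : Qf 2028 = N7904 := rfl
theorem q2029 : Qf 2029 = N7905 := rfl
theorem q2030 : Qf 2030 = N7906 := rfl
theorem q2031 : Qf 2031 = N7907 := rfl
theorem q2032 : Qf 2032 = N7908 := rfl
theorem q2033 : Qf 2033 = N7909 := rfl
theorem q2034 : Qf 2034 = N7910 := rfl
theorem q2035 : Qf 2035 = N7911 := rfl
theorem q2036 : Qf 2036 = N7912 := rfl
theorem q2037 : Qf 2037 = N7913 := rfl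
theorem q2038 : Qf 2038 = N7914 := rfl
theorem q2039 : Qf 2039 = N7915 := rfl
theorem q2040 : Qf 2040 = N7916 := rfl
theorem q2041 : Qf 2041 = N7917 := rfl
theorem q2042 : Qf 2042 = N7918 := rfl
theorem q2043 : Qf 2043 = N7919 := rfl
theorem q2044 : Qf 2044 = N7920 := rfl
theorem q2045 : Qf 2045 = N7921 := rfl
theorem q2046 : Qf 2046 = N7922 := rfl
theorem q2047 : Qf 2047 = N7923 := rfl
theorem q2048 : Qf 2048 = N7924 := rfl
theorem q2049 : Qf 2049 = N7925 := rfl
theorem q2050 : Qf 2050 = N7926 := rfl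
theorem q2051 : Qf 2051 = N7927 := rfl
theorem q2052 : Qf 2052 = N7928 := rfl
theorem q2053 : Qf 2053 = N7929 := rfl
theorem q2054 : Qf 2054 = N7930 := rfl
theorem q2055 : Qf 2055 = N7931 := rfl
theorem q2056 : Qf 2056 = N7932 := rfl
theorem q2057 : Qf 2057 = N7933 := rfl

theorem ce_a_0 : ∀ r, r < 64 → sm ga (Qf (0 + r)) = Qf (tab Gen.a (0 + r)) :=
  edges_tab (sm ga) Qf (tab Gen.a) 0 [(0, 0), (1, 1), (2, 2), (3, 3), (4, 4), (5, 5), (6, 6), (7, 7), (8, 8), (9, 9), (10, 10), (11, 11), (12, 12), (13, 13), (14, 14), (15, 15), (16, 16), (17, 17), (18, 33), (19, 19), (20, 20), (21, 21), (22, 22), (23, 41), (24, 24), (25, 25), (26, 26), (27, 27), (28, 51), (29, 29), (30, 30), (31, 31), (32, 32), (33, 18), (34, 61), (35, 62), (36, 36), (37, 37), (38, 38), (39, 39), (40, 40), (41, 23), (42, 70), (43, 71), (44, 44), (45, 45), (46, 46), (47, 47), (48, 48), (49, 49), (50, 50), (51, 28), (52, 90), (53, 91), (54, 54), (55, 55), (56, 56), (57, 57), (58, 58), (59, 59), (60, 60),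 (61, 34), (62, 35), (63, 108)]
    ⟨e3 q0 L0 q0, e3 q1 L10 q1, e3 q2 L13 q2, e3 q3 L19 q3, e3 q4 L25 q4, e3 q5 L32 q5, e3 q6 L36 q6, e3 q7 L40 q7, e3 q8 L48 q8, e3 q9 L54 q9, e3 q10 L58 q10, e3 q11 L63 q11, e3 q12 L67 q12, e3 q13 L70 q13, e3 q14 L75 q14, e3 q15 L88 q15, e3 q16 L92 q16, e3 q17 L99 q17, e3 q18 L222 q33, e3 q19 L108 q19, e3 q20 L111 q20, e3 q21 L117 q21, e3 q22 L122 q22, e3 q23 L283 q41, e3 q24 L132 q24, e3 q25 L136 q25, e3 q26 L141 q26, e3 q27 L151 q27, e3 q28 L422 q51, e3 q29 L201 q29, e3 q30 L204 q30, e3 q31 L210 q31, e3 q32 L215 q32, e3 q33 L223 q18, e3 q34 L480 q61, e3 q35 L488 q62, e3 q36 L239 q36, e3 q37 L243 q37, e3 q38 L246 q38, e3 q39 L256 q39, e3 q40 L272 q40, e3 q41 L284 q23, e3 q42 L542 q70, e3 q43 L548 q71, e3 q44 L306 q44, e3 q45 L310 q45, e3 q46 L314 q46, e3 q47 L318 q47, e3 q48 L321 q48, e3 q49 L335 q49, e3 q50 L357 q50, e3 q51 L423 q28, e3 q52 L836 q90, e3 q53 L842 q91, e3 q54 L446 q54, e3 q55 L449 q55, e3 q56 L452 q56, e3 q57 L456 q57,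 e3 q58 L459 q58, e3 q59 L468 q59, e3 q60 L471 q60, e3 q61 L479 q34, e3 q62 L487 q35, e3 q63 L951 q108, trivial⟩ (by decide +kernel)

theorem ce_a_1 : ∀ r, r < 64 → sm ga (Qf (64 + r)) = Qf (tab Gen.a (64 + r)) :=
  edges_tab (sm ga) Qf (tab Gen.a) 64 [(64, 109), (65, 110), (66, 66), (67, 67), (68, 68), (69, 69), (70, 42), (71, 43), (72, 118), (73, 119), (74, 120), (75, 121), (76, 122), (77, 77), (78, 78), (79, 79), (80, 80), (81, 81), (82, 82), (83, 83), (84, 84), (85, 85), (86, 86), (87, 87), (88, 88), (89, 89), (90, 52), (91, 53), (92, 150), (93, 151), (94, 152), (95, 153), (96, 154), (97, 97), (98, 98), (99, 99), (100, 100), (101, 101), (102, 102), (103, 103), (104, 104), (105, 105), (106, 106), (107, 107), (108, 63), (109, 64), (110, 65), (111, 177), (112, 175), (113, 176), (114, 115), (115, 114), (116, 116), (117, 117), (118, 72), (119, 73), (120, 74), (121, 75), (122, 76), (123, 187), (124, 188), (125, 189), (126, 190), (127, 191)]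
    ⟨e3 q64 L957 q109, e3 q65 L967 q110, e3 q66 L510 q66, e3 q67 L517 q67, e3 q68 L522 q68, e3 q69 L531 q69, e3 q70 L541 q42, e3 q71 L547 q43, e3 q72 L1018 q118, e3 q73 L1027 q119, e3 q74 L1035 q120, e3 q75 L1041 q121, e3 q76 L1047 q122, e3 q77 L606 q77, e3 q78 L611 q78, e3 q79 L617 q79, e3 q80 L623 q80, e3 q81 L628 q81, e3 q82 L639 q82, e3 q83 L650 q83, e3 q84 L653 q84, e3 q85 L656 q85, e3 q86 L662 q86, e3 q87 L665 q87, e3 q88 L668 q88, e3 q89 L686 q89, e3 q90 L835 q52, e3 q91 L841 q53, e3 q92 L1642 q150, e3 q93 L1646 q151, e3 q94 L1654 q152, e3 q95 L1660 q153, e3 q96 L1667 q154, e3 q97 L889 q97, e3 q98 L894 q98, e3 q99 L899 q99, e3 q100 L909 q100, e3 q101 L914 q101, e3 q102 L924 q102, e3 q103 L927 q103, e3 q104 L931 q104, e3 q105 L937 q105, e3 q106 L940 q106, e3 q107 L943 q107, e3 q108 L950 q63, e3 q109 L956 q64, e3 q110 L966 q65, e3 q111 L1942 q177, e3 q112 L1928 q175, e3 q113 L1932 q176, e3 q114 L994 q115, e3 q115 L993 q114, e3 q116 L1003 q116, e3 q117 L1009 q117,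 e3 q118 L1017 q72, e3 q119 L1026 q73, e3 q120 L1034 q74, e3 q121 L1040 q75, e3 q122 L1046 q76, e3 q123 L2003 q187, e3 q124 L2013 q188, e3 q125 L2019 q189, e3 q126 L2025 q190, e3 q127 L2033 q191, trivial⟩ (by decide +kernel)

theorem ce_a_2 : ∀ r, r < 64 → sm ga (Qf (128 + r)) = Qf (tab Gen.a (128 + r)) :=
  edges_tab (sm ga) Qf (tab Gen.a) 128 [(128, 192), (129, 193), (130, 194), (131, 195), (132, 133), (133, 132), (134, 134), (135, 135), (136, 136), (137, 137), (138, 138), (139, 139), (140, 140), (141, 141), (142, 142), (143, 143), (144, 223), (145, 145), (146, 146), (147, 147), (148, 148), (149, 149), (150, 92), (151, 93), (152, 94), (153, 95), (154, 96), (155, 232), (156, 231), (157, 233), (158, 234), (159, 235), (160, 236), (161, 237), (162, 238), (163, 239), (164, 165), (165, 164), (166, 166), (167, 167), (168, 168), (169, 169), (170, 170), (171, 171), (172, 172), (173, 173), (174, 179), (175, 112), (176, 113), (177, 111), (178, 270), (179, 174), (180, 265), (181,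 266), (182, 267), (183, 268), (184, 269), (185, 186), (186, 185), (187, 123), (188, 124), (189, 125), (190, 126), (191, 127)]
    ⟨e3 q128 L2041 q192, e3 q129 L2049 q193, e3 q130 L2065 q194, e3 q131 L2075 q195, e3 q132 L70847 q133, e3 q133 L70846 q132, e3 q134 L1144 q134, e3 q135 L1151 q135, e3 q136 L1158 q136, e3 q137 L1161 q137, e3 q138 L1169 q138, e3 q139 L1174 q139, e3 q140 L1177 q140, e3 q141 L1193 q141, e3 q142 L1211 q142, e3 q143 L1220 q143, e3 q144 L2490 q223, e3 q145 L1248 q145, e3 q146 L1253 q146, e3 q147 L1270 q147, e3 q148 L1344 q148, e3 q149 L1347 q149, e3 q150 L1641 q92, e3 q151 L1645 q93, e3 q152 L1653 q94, e3 q153 L1659 q95, e3 q154 L1666 q96, e3 q155 L3251 q232, e3 q156 L53637 q231, e3 q157 L3261 q233, e3 q158 L3267 q234, e3 q159 L3273 q235, e3 q160 L3281 q236, e3 q161 L3299 q237, e3 q162 L3307 q238, e3 q163 L3317 q239, e3 q164 L70352 q165, e3 q165 L70353 q164, e3 q166 L1792 q166, e3 q167 L1797 q167, e3 q168 L1802 q168, e3 q169 L1805 q169, e3 q170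 L1834 q170, e3 q171 L1837 q171, e3 q172 L1875 q172, e3 q173 L1917 q173, e3 q174 L1956 q179, e3 q175 L1927 q112, e3 q176 L1931 q113, e3 q177 L1941 q111, e3 q178 L3814 q270, e3 q179 L1955 q174, e3 q180 L3790 q265, e3 q181 L3796 q266, e3 q182 L3800 q267, e3 q183 L3806 q268, e3 q184 L3810 q269, e3 q185 L1984 q186, e3 q186 L1983 q185, e3 q187 L2004 q123, e3 q188 L2012 q124, e3 q189 L2018 q125, e3 q190 L2024 q126, e3 q191 L2032 q127, trivial⟩ (by decide +kernel)

theorem ce_a_3 : ∀ r, r < 64 → sm ga (Qf (192 + r)) = Qf (tab Gen.a (192 + r)) :=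
  edges_tab (sm ga) Qf (tab Gen.a) 192 [(192, 128), (193, 129), (194, 130), (195, 131), (196, 291), (197, 292), (198, 293), (199, 294), (200, 295), (201, 296), (202, 297), (203, 298), (204, 299), (205, 211), (206, 300), (207, 321), (208, 302), (209, 210), (210, 209), (211, 205), (212, 212), (213, 213), (214, 214), (215, 215), (216, 216), (217, 217), (218, 218), (219, 219), (220, 220), (221, 224), (222, 222), (223, 144), (224, 221), (225, 225), (226, 226), (227, 227), (228, 228), (229, 229), (230, 230), (231, 156), (232, 155), (233, 157), (234, 158), (235, 159), (236, 160), (237, 161), (238, 162), (239, 163), (240, 277), (241, 351), (242, 352), (243, 353), (244, 348), (245, 349), (246, 350), (247, 354), (248, 355), (249, 356), (250, 357), (251, 358), (252, 338), (253, 359), (254, 360), (255, 256)]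
    ⟨e3 q192 L2040 q128, e3 q193 L2048 q129, e3 q194 L2064 q130, e3 q195 L2074 q131, e3 q196 L3904 q291, e3 q197 L3914 q292, e3 q198 L3924 q293, e3 q199 L3928 q294, e3 q200 L3936 q295, e3 q201 L3940 q296, e3 q202 L3952 q297, e3 q203 L3960 q298, e3 q204 L3968 q299, e3 q205 L70762 q211, e3 q206 L4014 q300, e3 q207 L4227 q321, e3 q208 L4024 q302, e3 q209 L66246 q210, e3 q210 L66245 q209, e3 q211 L70761 q205, e3 q212 L2298 q212, e3 q213 L2303 q213, e3 q214 L2308 q214, e3 q215 L2311 q215, e3 q216 L2316 q216, e3 q217 L2319 q217, e3 q218 L2389 q218, e3 q219 L2392 q219, e3 q220 L2397 q220, e3 q221 L2503 q224, e3 q222 L2436 q222, e3 q223 L2491 q144, e3 q224 L2502 q221, e3 q225 L2524 q225, e3 q226 L2551 q226, e3 q227 L2682 q227, e3 q228 L2695 q228, e3 q229 L2698 q229, e3 q230 L2706 q230, e3 q231 L53638 q156, e3 q232 L3250 q155, e3 q233 L3260 q157, e3 q234 L3266 q158, e3 q235 L3272 q159, e3 q236 L3280 q160, e3 q237 L3298 q161, e3 q238 L3306 q162, e3 q239 L3316 q163, e3 q240 L3844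 q277, e3 q241 L6486 q351, e3 q242 L6490 q352, e3 q243 L6494 q353, e3 q244 L65711 q348, e3 q245 L68816 q349, e3 q246 L53609 q350, e3 q247 L6518 q354, e3 q248 L6522 q355, e3 q249 L6530 q356, e3 q250 L6534 q357, e3 q251 L6546 q358, e3 q252 L69267 q338, e3 q253 L6591 q359, e3 q254 L6604 q360, e3 q255 L66173 q256, trivial⟩ (by decide +kernel)

theorem ce_a_4 : ∀ r, r < 64 → sm ga (Qf (256 + r)) = Qf (tab Gen.a (256 + r)) :=
  edges_tab (sm ga) Qf (tab Gen.a) 256 [(256, 255), (257, 257), (258, 258), (259, 259), (260, 260), (261, 261), (262, 262), (263, 263), (264, 275), (265, 180), (266, 181), (267, 182), (268, 183), (269, 184), (270, 178), (271, 408), (272, 409), (273, 410), (274, 403), (275, 264), (276, 424), (277, 240), (278, 396), (279, 397), (280, 398), (281, 399), (282, 400), (283, 401), (284, 402), (285, 404), (286, 405), (287, 406), (288, 407), (289, 290), (290, 289), (291, 196), (292, 197), (293, 198), (294, 199), (295, 200), (296, 201), (297, 202), (298, 203),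 (299, 204), (300, 206), (301, 323), (302, 208), (303, 454), (304, 455), (305, 456), (306, 457), (307, 458), (308, 459), (309, 460), (310, 461), (311, 462), (312, 463), (313, 464), (314, 331), (315, 465), (316, 466), (317, 467), (318, 330), (319, 468)]
    ⟨e3 q256 L66172 q255, e3 q257 L3579 q257, e3 q258 L3638 q258, e3 q259 L3642 q259, e3 q260 L3648 q260, e3 q261 L3767 q261, e3 q262 L3770 q262, e3 q263 L3780 q263, e3 q264 L3836 q275, e3 q265 L3789 q180, e3 q266 L3795 q181, e3 q267 L3799 q182, e3 q268 L3805 q183, e3 q269 L3809 q184, e3 q270 L3813 q178, e3 q271 L7640 q408, e3 q272 L7644 q409, e3 q273 L7652 q410, e3 q274 L7608 q403, e3 q275 L3835 q264, e3 q276 L7727 q424, e3 q277 L3843 q240, e3 q278 L7566 q396, e3 q279 L7572 q397, e3 q280 L7578 q398, e3 q281 L7584 q399, e3 q282 L7590 q400, e3 q283 L7596 q401, e3 q284 L7602 q402, e3 q285 L7614 q404, e3 q286 L7622 q405, e3 q287 L7626 q406, e3 q288 L7632 q407, e3 q289 L3895 q290, e3 q290 L3894 q289, e3 q291 L3903 q196, e3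 q292 L3913 q197, e3 q293 L3923 q198, e3 q294 L3927 q199, e3 q295 L3935 q200, e3 q296 L3939 q201, e3 q297 L3951 q202, e3 q298 L3959 q203, e3 q299 L3967 q204, e3 q300 L4013 q206, e3 q301 L4242 q323, e3 q302 L4023 q208, e3 q303 L7855 q454, e3 q304 L7863 q455, e3 q305 L7871 q456, e3 q306 L7875 q457, e3 q307 L7879 q458, e3 q308 L7883 q459, e3 q309 L7887 q460, e3 q310 L7891 q461, e3 q311 L7895 q462, e3 q312 L7899 q463, e3 q313 L7905 q464, e3 q314 L70821 q331, e3 q315 L7921 q465, e3 q316 L7927 q466, e3 q317 L7955 q467, e3 q318 L70825 q330, e3 q319 L8031 q468, trivial⟩ (by decide +kernel)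

theorem ce_a_5 : ∀ r, r < 64 → sm ga (Qf (320 + r)) = Qf (tab Gen.a (320 + r)) :=
  edges_tab (sm ga) Qf (tab Gen.a) 320 [(320, 347), (321, 207), (322, 516), (323, 301), (324, 470), (325, 471), (326, 472), (327, 473), (328, 329), (329, 328), (330, 318), (331, 314), (332, 332), (333, 333), (334, 541), (335, 335), (336, 336), (337, 337), (338, 252), (339, 339), (340, 340), (341, 342), (342, 341), (343, 343), (344, 344), (345, 345), (346, 346), (347, 320), (348, 244), (349, 245), (350, 246), (351, 241), (352, 242), (353, 243), (354, 247), (355, 248), (356, 249), (357, 250), (358, 251), (359, 253), (360, 254), (361, 571), (362, 429), (363, 430), (364, 431), (365, 552), (366, 557), (367, 558), (368, 559), (369, 560), (370, 561), (371, 562), (372, 551), (373, 553), (374, 554), (375, 555), (376, 556), (377, 563), (378, 564), (379, 565), (380, 566), (381, 567), (382, 506), (383, 390)]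
    ⟨e3 q320 L71168 q347, e3 q321 L4228 q207, e3 q322 L8541 q516, e3 q323 L4241 q301, e3 q324 L8061 q470, e3 q325 L8067 q471, e3 q326 L8071 q472, e3 q327 L8075 q473, e3 q328 L66223 q329, e3 q329 L66224 q328, e3 q330 L70826 q318, e3 q331 L70822 q314, e3 q332 L4431 q332, e3 q333 L4443 q333, e3 q334 L8987 q541, e3 q335 L4466 q335, e3 q336 L4478 q336, e3 q337 L4485 q337, e3 q338 L69268 q252, e3 q339 L50879 q339, e3 q340 L4653 q340, e3 q341 L4903 q342, e3 q342 L4902 q341, e3 q343 L5009 q343, e3 q344 L5257 q344, e3 q345 L5260 q345, e3 q346 L5272 q346, e3 q347 L71167 q320, e3 q348 L65712 q244, e3 q349 L68817 q245, e3 q350 L53610 q246, e3 q351 L6485 q241, e3 q352 L6489 q242, e3 q353 L6493 q243, e3 q354 L6517 q247, e3 q355 L6521 q248, e3 q356 L6529 q249, e3 q357 L6533 q250, e3 q358 L6545 q251, e3 q359 L6590 q253, e3 q360 L6603 q254, e3 q361 L13453 q571, e3 q362 L7748 q429, e3 q363 L7754 q430, e3 q364 L7760 q431, e3 q365 L65715 q552, e3 q366 L13103 q557, e3 q367 L13109 q558,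 e3 q368 L13115 q559, e3 q369 L13121 q560, e3 q370 L13127 q561, e3 q371 L13133 q562, e3 q372 L65663 q551, e3 q373 L65675 q553, e3 q374 L65698 q554, e3 q375 L65853 q555, e3 q376 L53600 q556, e3 q377 L13165 q563, e3 q378 L13169 q564, e3 q379 L13173 q565, e3 q380 L13177 q566, e3 q381 L13181 q567, e3 q382 L61366 q506, e3 q383 L70651 q390, trivial⟩ (by decide +kernel)

theorem ce_a_6 : ∀ r, r < 64 → sm ga (Qf (384 + r)) = Qf (tab Gen.a (384 + r)) :=
  edges_tab (sm ga) Qf (tab Gen.a) 384 [(384, 568), (385, 569), (386, 570), (387, 388), (388, 387), (389, 389), (390, 383), (391, 421), (392, 416), (393, 422), (394, 423), (395, 630), (396, 278), (397, 279), (398, 280), (399, 281), (400, 282), (401, 283), (402, 284), (403, 274), (404, 285), (405, 286), (406, 287), (407, 288), (408, 271), (409, 272), (410, 273), (411, 661), (412, 656), (413, 657), (414, 658), (415, 645), (416, 392), (417, 659), (418, 646), (419, 660), (420, 647), (421, 391), (422, 393), (423, 394), (424, 276),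 (425, 685), (426, 446), (427, 686), (428, 687), (429, 362), (430, 363), (431, 364), (432, 633), (433, 634), (434, 635), (435, 636), (436, 637), (437, 638), (438, 522), (439, 639), (440, 640), (441, 641), (442, 642), (443, 643), (444, 644), (445, 648), (446, 426), (447, 650)]
    ⟨e3 q384 L13285 q568, e3 q385 L13290 q569, e3 q386 L13295 q570, e3 q387 L66168 q388, e3 q388 L66169 q387, e3 q389 L7269 q389, e3 q390 L70652 q383, e3 q391 L7710 q421, e3 q392 L7676 q416, e3 q393 L7714 q422, e3 q394 L7722 q423, e3 q395 L14968 q630, e3 q396 L7565 q278, e3 q397 L7571 q279, e3 q398 L7577 q280, e3 q399 L7583 q281, e3 q400 L7589 q282, e3 q401 L7595 q283, e3 q402 L7601 q284, e3 q403 L7607 q274, e3 q404 L7613 q285, e3 q405 L7621 q286, e3 q406 L7625 q287, e3 q407 L7631 q288, e3 q408 L7639 q271, e3 q409 L7643 q272, e3 q410 L7651 q273, e3 q411 L15195 q661, e3 q412 L15152 q656, e3 q413 L15158 q657, e3 q414 L15164 q658, e3 q415 L15085 q645, e3 q416 L7675 q392, e3 q417 L15170 q659, e3 q418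 L15091 q646, e3 q419 L15180 q660, e3 q420 L15099 q647, e3 q421 L7709 q391, e3 q422 L7713 q393, e3 q423 L7721 q394, e3 q424 L7728 q276, e3 q425 L15360 q685, e3 q426 L7821 q446, e3 q427 L15364 q686, e3 q428 L15368 q687, e3 q429 L7747 q362, e3 q430 L7753 q363, e3 q431 L7759 q364, e3 q432 L14991 q633, e3 q433 L14997 q634, e3 q434 L15005 q635, e3 q435 L15013 q636, e3 q436 L15019 q637, e3 q437 L15027 q638, e3 q438 L71904 q522, e3 q439 L15045 q639, e3 q440 L15057 q640, e3 q441 L15063 q641, e3 q442 L15069 q642, e3 q443 L15075 q643, e3 q444 L15079 q644, e3 q445 L15103 q648, e3 q446 L7822 q426, e3 q447 L15113 q650, trivial⟩ (by decide +kernel)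

theorem ce_a_7 : ∀ r, r < 64 → sm ga (Qf (448 + r)) = Qf (tab Gen.a (448 + r)) :=
  edges_tab (sm ga) Qf (tab Gen.a) 448 [(448, 651), (449, 652), (450, 653), (451, 654), (452, 453), (453, 452), (454, 303), (455, 304), (456, 305), (457, 306), (458, 307), (459, 308), (460, 309), (461, 310), (462, 311), (463, 312), (464, 313), (465, 315), (466, 316), (467, 317), (468, 319), (469, 521), (470, 324), (471, 325), (472, 326), (473, 327), (474, 741), (475, 742), (476, 743), (477, 744), (478, 745), (479, 746), (480, 791), (481, 748), (482, 749), (483, 750), (484, 751), (485, 752), (486, 753), (487, 754), (488, 755), (489, 756), (490, 813), (491, 757), (492, 758), (493, 692), (494, 759), (495, 760), (496, 761), (497, 762), (498, 763), (499, 764), (500, 830), (501, 766), (502, 539), (503, 767), (504, 505), (505, 504), (506, 382), (507, 768), (508, 769), (509, 770), (510, 771), (511, 772)]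
    ⟨e3 q448 L15120 q651, e3 q449 L15126 q652, e3 q450 L15132 q653, e3 q451 L15138 q654, e3 q452 L7850 q453, e3 q453 L7849 q452, e3 q454 L7854 q303, e3 q455 L7862 q304, e3 q456 L7870 q305, e3 q457 L7874 q306, e3 q458 L7878 q307, e3 q459 L7882 q308, e3 q460 L7886 q309, e3 q461 L7890 q310, e3 q462 L7894 q311, e3 q463 L7898 q312, e3 q464 L7904 q313, e3 q465 L7920 q315, e3 q466 L7926 q316, e3 q467 L7954 q317, e3 q468 L8030 q319, e3 q469 L8571 q521, e3 q470 L8060 q324, e3 q471 L8066 q325, e3 q472 L8070 q326, e3 q473 L8074 q327, e3 q474 L15663 q741, e3 q475 L15669 q742, e3 q476 L15679 q743, e3 q477 L15685 q744, e3 q478 L15691 q745, e3 q479 L15701 q746, e3 q480 L16402 q791, e3 q481 L15709 q748, e3 q482 L15713 q749, e3 q483 L15719 q750, e3 q484 L15725 q751, e3 q485 L15733 q752, e3 q486 L15739 q753, e3 q487 L15749 q754, e3 q488 L15753 q755, e3 q489 L15757 q756, e3 q490 L16514 q813, e3 q491 L15765 q757, e3 q492 L15769 q758, e3 q493 L52799 q692, e3 q494 L15781 q759, e3 q495 L15789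 q760, e3 q496 L15797 q761, e3 q497 L15807 q762, e3 q498 L15811 q763, e3 q499 L15819 q764, e3 q500 L16620 q830, e3 q501 L15833 q766, e3 q502 L70767 q539, e3 q503 L15845 q767, e3 q504 L8323 q505, e3 q505 L8322 q504, e3 q506 L61365 q382, e3 q507 L15857 q768, e3 q508 L15889 q769, e3 q509 L15893 q770, e3 q510 L15897 q771, e3 q511 L15903 q772, trivial⟩ (by decide +kernel)

theorem ce_a_8 : ∀ r, r < 64 → sm ga (Qf (512 + r)) = Qf (tab Gen.a (512 + r)) :=
  edges_tab (sm ga) Qf (tab Gen.a) 512 [(512, 538), (513, 513), (514, 773), (515, 548), (516, 322), (517, 684), (518, 856), (519, 682), (520, 857), (521, 469), (522, 438), (523, 777), (524, 778), (525, 779), (526, 536), (527, 780), (528, 781), (529, 782), (530, 534), (531, 655), (532, 535), (533, 537), (534, 530), (535, 532), (536, 526), (537, 533), (538, 512), (539, 502), (540, 542), (541, 334), (542, 540), (543, 543), (544, 544), (545, 545), (546, 547), (547, 546), (548, 515), (549, 549), (550, 550), (551, 372), (552, 365),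 (553, 373), (554, 374), (555, 375), (556, 376), (557, 366), (558, 367), (559, 368), (560, 369), (561, 370), (562, 371), (563, 377), (564, 378), (565, 379), (566, 380), (567, 381), (568, 384), (569, 385), (570, 386), (571, 361), (572, 595), (573, 912), (574, 913), (575, 698)]
    ⟨e3 q512 L72022 q538, e3 q513 L67513 q513, e3 q514 L16037 q773, e3 q515 L67304 q548, e3 q516 L8540 q322, e3 q517 L71511 q684, e3 q518 L17107 q856, e3 q519 L71766 q682, e3 q520 L17121 q857, e3 q521 L8570 q469, e3 q522 L71905 q438, e3 q523 L16107 q777, e3 q524 L16113 q778, e3 q525 L16119 q779, e3 q526 L52975 q536, e3 q527 L16131 q780, e3 q528 L16137 q781, e3 q529 L16143 q782, e3 q530 L53003 q534, e3 q531 L71801 q655, e3 q532 L52983 q535, e3 q533 L66082 q537, e3 q534 L53002 q530, e3 q535 L52982 q532, e3 q536 L52974 q526, e3 q537 L66083 q533, e3 q538 L72023 q512, e3 q539 L70766 q502, e3 q540 L9000 q542, e3 q541 L8988 q334, e3 q542 L8999 q540, e3 q543 L67713 q543, e3 q544 L9457 q544, e3 q545 L9464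 q545, e3 q546 L10009 q547, e3 q547 L10008 q546, e3 q548 L67303 q515, e3 q549 L10733 q549, e3 q550 L10743 q550, e3 q551 L65662 q372, e3 q552 L65714 q365, e3 q553 L65674 q373, e3 q554 L65699 q374, e3 q555 L65854 q375, e3 q556 L53601 q376, e3 q557 L13102 q366, e3 q558 L13108 q367, e3 q559 L13114 q368, e3 q560 L13120 q369, e3 q561 L13126 q370, e3 q562 L13132 q371, e3 q563 L13164 q377, e3 q564 L13168 q378, e3 q565 L13172 q379, e3 q566 L13176 q380, e3 q567 L13180 q381, e3 q568 L13284 q384, e3 q569 L13289 q385, e3 q570 L13294 q386, e3 q571 L13454 q361, e3 q572 L13545 q595, e3 q573 L25626 q912, e3 q574 L25630 q913, e3 q575 L15428 q698, trivial⟩ (by decide +kernel)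

theorem ce_a_9 : ∀ r, r < 64 → sm ga (Qf (576 + r)) = Qf (tab Gen.a (576 + r)) :=
  edges_tab (sm ga) Qf (tab Gen.a) 576 [(576, 699), (577, 700), (578, 701), (579, 702), (580, 703), (581, 704), (582, 714), (583, 883), (584, 884), (585, 893), (586, 894), (587, 895), (588, 896), (589, 897), (590, 898), (591, 899), (592, 900), (593, 901), (594, 902), (595, 572), (596, 730), (597, 881), (598, 882), (599, 885), (600, 886), (601, 887), (602, 888), (603, 889), (604, 890), (605, 891), (606, 892), (607, 962), (608, 904), (609, 905), (610, 970), (611, 907), (612, 908), (613, 841), (614, 620), (615, 909), (616, 910), (617, 911), (618, 622), (619, 807), (620, 614), (621, 623), (622, 618), (623, 621), (624, 680), (625, 672), (626, 681), (627, 673), (628, 674), (629, 683), (630, 395), (631, 649), (632, 999), (633, 432), (634, 433), (635, 434), (636, 435), (637, 436), (638, 437), (639, 439)]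
    ⟨e3 q576 L15436 q699, e3 q577 L15444 q700, e3 q578 L15452 q701, e3 q579 L15458 q702, e3 q580 L15466 q703, e3 q581 L15472 q704, e3 q582 L15510 q714, e3 q583 L65708 q883, e3 q584 L65703 q884, e3 q585 L24869 q893, e3 q586 L24873 q894, e3 q587 L24877 q895, e3 q588 L24883 q896, e3 q589 L24889 q897, e3 q590 L24893 q898, e3 q591 L24897 q899, e3 q592 L24903 q900, e3 q593 L24909 q901, e3 q594 L24913 q902, e3 q595 L13546 q572, e3 q596 L15596 q730, e3 q597 L65670 q881, e3 q598 L53355 q882, e3 q599 L65845 q885, e3 q600 L65695 q886, e3 q601 L65654 q887, e3 q602 L65689 q888, e3 q603 L65780 q889, e3 q604 L65824 q890, e3 q605 L53594 q891, e3 q606 L53589 q892, e3 q607 L25913 q962, e3 q608 L25003 q904, e3 q609 L25007 q905, e3 q610 L25945 q970, e3 q611 L25015 q907, e3 q612 L25021 q908, e3 q613 L61337 q841, e3 q614 L26298 q620, e3 q615 L25195 q909, e3 q616 L25206 q910, e3 q617 L25213 q911, e3 q618 L66068 q622, e3 q619 L16480 q807, e3 q620 L26297 q614, e3 q621 L66093 q623, e3 q622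 L66067 q618, e3 q623 L66092 q621, e3 q624 L15322 q680, e3 q625 L15270 q672, e3 q626 L15326 q681, e3 q627 L15278 q673, e3 q628 L15286 q674, e3 q629 L15340 q683, e3 q630 L14969 q395, e3 q631 L15109 q649, e3 q632 L27948 q999, e3 q633 L14990 q432, e3 q634 L14996 q433, e3 q635 L15004 q434, e3 q636 L15012 q435, e3 q637 L15018 q436, e3 q638 L15026 q437, e3 q639 L15044 q439, trivial⟩ (by decide +kernel)

theorem ce_a_10 : ∀ r, r < 64 → sm ga (Qf (640 + r)) = Qf (tab Gen.a (640 + r)) :=
  edges_tab (sm ga) Qf (tab Gen.a) 640 [(640, 440), (641, 441), (642, 442), (643, 443), (644, 444), (645, 415), (646, 418), (647, 420), (648, 445), (649, 631), (650, 447), (651, 448), (652, 449), (653, 450), (654, 451), (655, 531), (656, 412), (657, 413), (658, 414), (659, 417), (660, 419), (661, 411), (662, 1034), (663, 679), (664, 873), (665, 1029), (666, 973), (667, 1030), (668, 1031), (669, 775), (670, 1018), (671, 774), (672, 625), (673, 627), (674, 628), (675, 1032), (676, 1014), (677,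 1033), (678, 1019), (679, 663), (680, 624), (681, 626), (682, 519), (683, 629), (684, 517), (685, 425), (686, 427), (687, 428), (688, 689), (689, 688), (690, 1067), (691, 1068), (692, 493), (693, 728), (694, 729), (695, 1069), (696, 1070), (697, 872), (698, 575), (699, 576), (700, 577), (701, 578), (702, 579), (703, 580)]
    ⟨e3 q640 L15056 q440, e3 q641 L15062 q441, e3 q642 L15068 q442, e3 q643 L15074 q443, e3 q644 L15078 q444, e3 q645 L15084 q415, e3 q646 L15090 q418, e3 q647 L15098 q420, e3 q648 L15102 q445, e3 q649 L15108 q631, e3 q650 L15112 q447, e3 q651 L15119 q448, e3 q652 L15125 q449, e3 q653 L15131 q450, e3 q654 L15137 q451, e3 q655 L71802 q531, e3 q656 L15151 q412, e3 q657 L15157 q413, e3 q658 L15163 q414, e3 q659 L15169 q417, e3 q660 L15179 q419, e3 q661 L15196 q411, e3 q662 L28278 q1034, e3 q663 L15317 q679, e3 q664 L52845 q873, e3 q665 L28230 q1029, e3 q666 L73197 q973, e3 q667 L28248 q1030, e3 q668 L28252 q1031, e3 q669 L71921 q775, e3 q670 L28130 q1018,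 e3 q671 L71703 q774, e3 q672 L15269 q625, e3 q673 L15277 q627, e3 q674 L15285 q628, e3 q675 L28264 q1032, e3 q676 L28098 q1014, e3 q677 L28272 q1033, e3 q678 L28134 q1019, e3 q679 L15318 q663, e3 q680 L15321 q624, e3 q681 L15325 q626, e3 q682 L71767 q519, e3 q683 L15339 q629, e3 q684 L71510 q517, e3 q685 L15359 q425, e3 q686 L15363 q427, e3 q687 L15367 q428, e3 q688 L65608 q689, e3 q689 L65609 q688, e3 q690 L28532 q1067, e3 q691 L28536 q1068, e3 q692 L52798 q493, e3 q693 L15580 q728, e3 q694 L15588 q729, e3 q695 L28540 q1069, e3 q696 L28544 q1070, e3 q697 L52869 q872, e3 q698 L15427 q575, e3 q699 L15435 q576, e3 q700 L15443 q577, e3 q701 L15451 q578, e3 q702 L15457 q579, e3 q703 L15465 q580, trivial⟩ (by decide +kernel)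

theorem ce_a_11 : ∀ r, r < 64 → sm ga (Qf (704 + r)) = Qf (tab Gen.a (704 + r)) :=
  edges_tab (sm ga) Qf (tab Gen.a) 704 [(704, 581), (705, 1002), (706, 1003), (707, 983), (708, 1004), (709, 991), (710, 1005), (711, 1006), (712, 1007), (713, 776), (714, 582), (715, 1008), (716, 1009), (717, 1010), (718, 1011), (719, 1012), (720, 1013), (721, 814), (722, 1015), (723, 1016), (724, 1017), (725, 1020), (726, 1021), (727, 1022), (728, 693), (729, 694), (730, 596), (731, 1024), (732, 1025), (733, 1026), (734, 1027), (735, 739), (736, 737), (737, 736), (738, 740), (739, 735), (740, 738), (741, 474), (742, 475), (743, 476), (744, 477), (745, 478), (746, 479), (747, 1134), (748, 481), (749, 482), (750, 483), (751, 484), (752, 485), (753, 486), (754, 487), (755, 488), (756, 489), (757, 491), (758, 492), (759, 494), (760, 495), (761, 496), (762, 497), (763, 498), (764, 499), (765, 832), (766, 501), (767, 503)]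
    ⟨e3 q704 L15471 q581, e3 q705 L27986 q1002, e3 q706 L27998 q1003, e3 q707 L72387 q983, e3 q708 L28012 q1004, e3 q709 L41501 q991, e3 q710 L28022 q1005, e3 q711 L28026 q1006, e3 q712 L28038 q1007, e3 q713 L71626 q776, e3 q714 L15509 q582, e3 q715 L28042 q1008, e3 q716 L28052 q1009, e3 q717 L28066 q1010, e3 q718 L28074 q1011, e3 q719 L28082 q1012, e3 q720 L28088 q1013, e3 q721 L72734 q814, e3 q722 L28108 q1015, e3 q723 L28118 q1016, e3 q724 L28124 q1017, e3 q725 L28140 q1020, e3 q726 L28144 q1021, e3 q727 L28150 q1022, e3 q728 L15579 q693, e3 q729 L15587 q694, e3 q730 L15595 q596, e3 q731 L28190 q1024, e3 q732 L28200 q1025, e3 q733 L28212 q1026, e3 q734 L28218 q1027, e3 q735 L15640 q739, e3 q736 L41466 q737, e3 q737 L41465 q736, e3 q738 L15656 q740, e3 q739 L15639 q735, e3 q740 L15655 q738, e3 q741 L15662 q474, e3 q742 L15668 q475, e3 q743 L15678 q476, e3 q744 L15684 q477, e3 q745 L15690 q478, e3 q746 L15700 q479, e3 q747 L29212 q1134, e3 q748 L15708 q481, e3 q749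 L15712 q482, e3 q750 L15718 q483, e3 q751 L15724 q484, e3 q752 L15732 q485, e3 q753 L15738 q486, e3 q754 L15748 q487, e3 q755 L15752 q488, e3 q756 L15756 q489, e3 q757 L15764 q491, e3 q758 L15768 q492, e3 q759 L15780 q494, e3 q760 L15788 q495, e3 q761 L15796 q496, e3 q762 L15806 q497, e3 q763 L15810 q498, e3 q764 L15818 q499, e3 q765 L16635 q832, e3 q766 L15832 q501, e3 q767 L15844 q503, trivial⟩ (by decide +kernel)

theorem ce_a_12 : ∀ r, r < 64 → sm ga (Qf (768 + r)) = Qf (tab Gen.a (768 + r)) :=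
  edges_tab (sm ga) Qf (tab Gen.a) 768 [(768, 507), (769, 508), (770, 509), (771, 510), (772, 511), (773, 514), (774, 671), (775, 669), (776, 713), (777, 523), (778, 524), (779, 525), (780, 527), (781, 528), (782, 529), (783, 793), (784, 1129), (785, 1130), (786, 1131), (787, 815), (788, 1132), (789, 1133), (790, 914), (791, 480), (792, 1193), (793, 783), (794, 1194), (795, 846), (796, 1138), (797, 1139), (798, 1140), (799, 1141), (800, 1142), (801, 1143), (802, 1144), (803, 1145), (804, 1146), (805, 1147), (806, 1148), (807, 619), (808, 1149), (809, 1150), (810, 851), (811, 1151), (812, 849), (813, 490), (814, 721), (815, 787), (816, 818), (817, 1080), (818, 816), (819, 1152), (820, 1073), (821, 1000), (822, 1153), (823, 1154), (824, 1155), (825, 1156), (826, 1157), (827, 1158), (828, 1159), (829, 1160), (830, 500), (831, 1089)]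
    ⟨e3 q768 L15856 q507, e3 q769 L15888 q508, e3 q770 L15892 q509, e3 q771 L15896 q510, e3 q772 L15902 q511, e3 q773 L16036 q514, e3 q774 L71704 q671, e3 q775 L71922 q669, e3 q776 L71627 q713, e3 q777 L16106 q523, e3 q778 L16112 q524, e3 q779 L16118 q525, e3 q780 L16130 q527, e3 q781 L16136 q528, e3 q782 L16142 q529, e3 q783 L16416 q793, e3 q784 L29173 q1129, e3 q785 L29177 q1130, e3 q786 L29185 q1131, e3 q787 L16528 q815, e3 q788 L29197 q1132, e3 q789 L29201 q1133, e3 q790 L52822 q914, e3 q791 L16403 q480, e3 q792 L30691 q1193, e3 q793 L16415 q783, e3 q794 L30697 q1194, e3 q795 L16773 q846, e3 q796 L29239 q1138, e3 q797 L29243 q1139, e3 q798 L29247 q1140, e3 q799 L29251 q1141, e3 q800 L29255 q1142, e3 q801 L29265 q1143, e3 q802 L29279 q1144, e3 q803 L29283 q1145, e3 q804 L29295 q1146, e3 q805 L29305 q1147, e3 q806 L29315 q1148, e3 q807 L16481 q619, e3 q808 L29323 q1149, e3 q809 L29327 q1150, e3 q810 L66076 q851, e3 q811 L29337 q1151, e3 q812 L66065 q849, e3 q813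 L16515 q490, e3 q814 L72733 q721, e3 q815 L16527 q787, e3 q816 L52927 q818, e3 q817 L52895 q1080, e3 q818 L52926 q816, e3 q819 L29381 q1152, e3 q820 L52772 q1073, e3 q821 L52836 q1000, e3 q822 L29409 q1153, e3 q823 L29413 q1154, e3 q824 L29425 q1155, e3 q825 L29437 q1156, e3 q826 L29447 q1157, e3 q827 L29465 q1158, e3 q828 L29469 q1159, e3 q829 L29477 q1160, e3 q830 L16621 q500, e3 q831 L72600 q1089, trivial⟩ (by decide +kernel)

theorem ce_a_13 : ∀ r, r < 64 → sm ga (Qf (832 + r)) = Qf (tab Gen.a (832 + r)) :=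
  edges_tab (sm ga) Qf (tab Gen.a) 832 [(832, 765), (833, 1162), (834, 1163), (835, 1164), (836, 1165), (837, 876), (838, 840), (839, 1166), (840, 838), (841, 613), (842, 1167), (843, 1168), (844, 1169), (845, 1170), (846, 795), (847, 875), (848, 1171), (849, 812), (850, 874), (851, 810), (852, 852), (853, 1172), (854, 1173), (855, 1174), (856, 518), (857, 520), (858, 965), (859, 1050), (860, 1175), (861, 1023), (862, 1176), (863, 1177), (864, 868), (865, 1178), (866, 1179), (867, 1180), (868, 864), (869, 1028), (870, 871), (871, 870), (872, 697), (873, 664), (874, 850), (875, 847), (876, 837), (877, 877), (878, 879), (879, 878), (880, 880), (881, 597), (882, 598), (883, 583), (884, 584), (885, 599), (886, 600), (887, 601), (888, 602), (889, 603), (890, 604), (891, 605), (892, 606), (893, 585), (894, 586), (895, 587)]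
    ⟨e3 q832 L16634 q765, e3 q833 L29497 q1162, e3 q834 L29501 q1163, e3 q835 L29505 q1164, e3 q836 L29511 q1165, e3 q837 L70702 q876, e3 q838 L16671 q840, e3 q839 L29519 q1166, e3 q840 L16670 q838, e3 q841 L61336 q613, e3 q842 L29533 q1167, e3 q843 L29537 q1168, e3 q844 L29541 q1169, e3 q845 L29545 q1170, e3 q846 L16772 q795, e3 q847 L66057 q875, e3 q848 L29607 q1171, e3 q849 L66066 q812, e3 q850 L72004 q874, e3 q851 L66077 q810, e3 q852 L50238 q852, e3 q853 L29893 q1172, e3 q854 L29897 q1173, e3 q855 L29901 q1174, e3 q856 L17106 q518, e3 q857 L17120 q520, e3 q858 L65874 q965, e3 q859 L71700 q1050, e3 q860 L30035 q1175, e3 q861 L71812 q1023, e3 q862 L30057 q1176, e3 q863 L30071 q1177, e3 q864 L52936 q868, e3 q865 L30111 q1178, e3 q866 L30115 q1179, e3 q867 L30119 q1180, e3 q868 L52937 q864, e3 q869 L41926 q1028, e3 q870 L52595 q871, e3 q871 L52596 q870, e3 q872 L52870 q697, e3 q873 L52844 q664, e3 q874 L72005 q850, e3 q875 L66056 q847, e3 q876 L70703 q837, e3 q877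 L67536 q877, e3 q878 L19828 q879, e3 q879 L19827 q878, e3 q880 L21096 q880, e3 q881 L65669 q597, e3 q882 L53354 q598, e3 q883 L65709 q583, e3 q884 L65702 q584, e3 q885 L65846 q599, e3 q886 L65694 q600, e3 q887 L65653 q601, e3 q888 L65690 q602, e3 q889 L65779 q603, e3 q890 L65825 q604, e3 q891 L53593 q605, e3 q892 L53590 q606, e3 q893 L24868 q585, e3 q894 L24872 q586, e3 q895 L24876 q587, trivial⟩ (by decide +kernel)

theorem ce_a_14 : ∀ r, r < 64 → sm ga (Qf (896 + r)) = Qf (tab Gen.a (896 + r)) :=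
  edges_tab (sm ga) Qf (tab Gen.a) 896 [(896, 588), (897, 589), (898, 590), (899, 591), (900, 592), (901, 593), (902, 594), (903, 1336), (904, 608), (905, 609), (906, 1343), (907, 611), (908, 612), (909, 615), (910, 616), (911, 617), (912, 573), (913, 574), (914, 790), (915, 948), (916, 949), (917, 1349), (918, 1350), (919, 1085), (920, 1086), (921, 1087), (922, 1088), (923, 951), (924, 1100), (925, 1101), (926, 1307), (927, 1308), (928, 1317), (929, 1318), (930, 1319), (931, 1320), (932, 1321), (933, 1322), (934, 1365), (935, 1324), (936, 1325), (937, 1326), (938, 1327), (939, 957), (940, 1328), (941, 1217), (942, 1330), (943, 1331), (944, 1332), (945, 1333), (946, 1334), (947, 1335), (948, 915), (949, 916), (950, 1306), (951, 923), (952, 1309), (953, 1310), (954, 986), (955, 1311), (956, 964), (957, 939), (958, 1313), (959, 972)]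
    ⟨e3 q896 L24882 q588, e3 q897 L24888 q589, e3 q898 L24892 q590, e3 q899 L24896 q591, e3 q900 L24902 q592, e3 q901 L24908 q593, e3 q902 L24912 q594, e3 q903 L73478 q1336, e3 q904 L25002 q608, e3 q905 L25006 q609, e3 q906 L73526 q1343, e3 q907 L25014 q611, e3 q908 L25020 q612, e3 q909 L25194 q615, e3 q910 L25205 q616, e3 q911 L25212 q617, e3 q912 L25625 q573, e3 q913 L25629 q574, e3 q914 L52821 q790, e3 q915 L25814 q948, e3 q916 L25822 q949, e3 q917 L73567 q1349, e3 q918 L73579 q1350, e3 q919 L28673 q1085, e3 q920 L28689 q1086, e3 q921 L28697 q1087, e3 q922 L28703 q1088, e3 q923 L72828 q951, e3 q924 L28839 q1100, e3 q925 L28849 q1101, e3 q926 L73225 q1307, e3 q927 L73233 q1308, e3 q928 L73313 q1317, e3 q929 L73319 q1318, e3 q930 L73327 q1319, e3 q931 L73337 q1320, e3 q932 L73343 q1321, e3 q933 L73351 q1322, e3 q934 L73668 q1365, e3 q935 L73365 q1324, e3 q936 L73369 q1325, e3 q937 L73381 q1326, e3 q938 L73391 q1327, e3 q939 L72852 q957, e3 q940 L73403 q1328, e3 q941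 L72936 q1217, e3 q942 L73419 q1330, e3 q943 L73425 q1331, e3 q944 L73437 q1332, e3 q945 L73447 q1333, e3 q946 L73459 q1334, e3 q947 L73467 q1335, e3 q948 L25813 q915, e3 q949 L25821 q916, e3 q950 L73215 q1306, e3 q951 L72827 q923, e3 q952 L73241 q1309, e3 q953 L73247 q1310, e3 q954 L72880 q986, e3 q955 L73253 q1311, e3 q956 L25926 q964, e3 q957 L72853 q939, e3 q958 L73281 q1313, e3 q959 L25958 q972, trivial⟩ (by decide +kernel)

theorem ce_a_15 : ∀ r, r < 64 → sm ga (Qf (960 + r)) = Qf (tab Gen.a (960 + r)) :=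
  edges_tab (sm ga) Qf (tab Gen.a) 960 [(960, 1315), (961, 1316), (962, 607), (963, 1392), (964, 956), (965, 858), (966, 1339), (967, 1340), (968, 1341), (969, 1342), (970, 610), (971, 1403), (972, 959), (973, 666), (974, 1346), (975, 1256), (976, 1257), (977, 1258), (978, 1259), (979, 987), (980, 984), (981, 1347), (982, 1348), (983, 707), (984, 980), (985, 989), (986, 954), (987, 979), (988, 990), (989, 985), (990, 988), (991, 709), (992, 1063), (993, 1064), (994, 1049), (995, 1065), (996, 1051), (997, 1052), (998, 1066), (999, 632), (1000, 821), (1001, 1428), (1002, 705), (1003, 706), (1004, 708), (1005, 710), (1006, 711), (1007, 712), (1008, 715), (1009, 716), (1010, 717), (1011, 718), (1012, 719), (1013, 720), (1014, 676), (1015, 722), (1016, 723), (1017, 724), (1018, 670), (1019, 678), (1020, 725), (1021, 726), (1022, 727), (1023, 861)]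
    ⟨e3 q960 L73297 q1315, e3 q961 L73305 q1316, e3 q962 L25914 q607, e3 q963 L73847 q1392, e3 q964 L25925 q956, e3 q965 L65873 q858, e3 q966 L73501 q1339, e3 q967 L73507 q1340, e3 q968 L73513 q1341, e3 q969 L73519 q1342, e3 q970 L25946 q610, e3 q971 L73923 q1403, e3 q972 L25957 q959, e3 q973 L73196 q666, e3 q974 L73551 q1346, e3 q975 L72866 q1256, e3 q976 L72868 q1257, e3 q977 L72870 q1258, e3 q978 L72872 q1259, e3 q979 L26413 q987, e3 q980 L64380 q984, e3 q981 L73555 q1347, e3 q982 L73563 q1348, e3 q983 L72386 q707, e3 q984 L64379 q980, e3 q985 L72890 q989, e3 q986 L72881 q954, e3 q987 L26412 q979, e3 q988 L64392 q990, e3 q989 L72891 q985, e3 q990 L64391 q988, e3 q991 L41500 q709, e3 q992 L28492 q1063, e3 q993 L28496 q1064, e3 q994 L28384 q1049, e3 q995 L28504 q1065, e3 q996 L28402 q1051, e3 q997 L28412 q1052, e3 q998 L28508 q1066, e3 q999 L27947 q632, e3 q1000 L52835 q821, e3 q1001 L74096 q1428, e3 q1002 L27985 q705, e3 q1003 L27997 q706, e3 q1004 L28011 q708, e3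 q1005 L28021 q710, e3 q1006 L28025 q711, e3 q1007 L28037 q712, e3 q1008 L28041 q715, e3 q1009 L28051 q716, e3 q1010 L28065 q717, e3 q1011 L28073 q718, e3 q1012 L28081 q719, e3 q1013 L28087 q720, e3 q1014 L28097 q676, e3 q1015 L28107 q722, e3 q1016 L28117 q723, e3 q1017 L28123 q724, e3 q1018 L28129 q670, e3 q1019 L28133 q678, e3 q1020 L28139 q725, e3 q1021 L28143 q726, e3 q1022 L28149 q727, e3 q1023 L71811 q861, trivial⟩ (by decide +kernel)

theorem ce_a_16 : ∀ r, r < 64 → sm ga (Qf (1024 + r)) = Qf (tab Gen.a (1024 + r)) :=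
  edges_tab (sm ga) Qf (tab Gen.a) 1024 [(1024, 731), (1025, 732), (1026, 733), (1027, 734), (1028, 869), (1029, 665), (1030, 667), (1031, 668), (1032, 675), (1033, 677), (1034, 662), (1035, 1459), (1036, 1460), (1037, 1461), (1038, 1062), (1039, 1299), (1040, 1452), (1041, 1390), (1042, 1453), (1043, 1454), (1044, 1422), (1045, 1455), (1046, 1436), (1047, 1421), (1048, 1437), (1049, 994), (1050, 859), (1051, 996), (1052, 997), (1053, 1456), (1054, 1098), (1055, 1221), (1056, 1435), (1057, 1457), (1058, 1458), (1059, 1438), (1060, 1439), (1061, 1440), (1062, 1038), (1063, 992), (1064, 993), (1065, 995), (1066, 998), (1067, 690), (1068, 691), (1069, 695), (1070, 696), (1071, 1074), (1072, 1075), (1073, 820), (1074, 1071), (1075, 1072), (1076, 1254), (1077, 1255), (1078, 1105), (1079, 1353), (1080, 817), (1081, 1497), (1082, 1498), (1083, 1499), (1084, 1500), (1085, 919), (1086, 920), (1087, 921)]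
    ⟨e3 q1024 L28189 q731, e3 q1025 L28199 q732, e3 q1026 L28211 q733, e3 q1027 L28217 q734, e3 q1028 L41925 q869, e3 q1029 L28229 q665, e3 q1030 L28247 q667, e3 q1031 L28251 q668, e3 q1032 L28263 q675, e3 q1033 L28271 q677, e3 q1034 L28277 q662, e3 q1035 L74381 q1459, e3 q1036 L74389 q1460, e3 q1037 L74397 q1461, e3 q1038 L28468 q1062, e3 q1039 L72764 q1299, e3 q1040 L74312 q1452, e3 q1041 L73833 q1390, e3 q1042 L74320 q1453, e3 q1043 L74330 q1454, e3 q1044 L74051 q1422, e3 q1045 L74336 q1455, e3 q1046 L74182 q1436, e3 q1047 L74041 q1421, e3 q1048 L74186 q1437, e3 q1049 L28383 q994, e3 q1050 L71699 q859, e3 q1051 L28401 q996, e3 q1052 L28411 q997, e3 q1053 L74347 q1456, e3 q1054 L73151 q1098, e3 q1055 L72784 q1221, e3 q1056 L74170 q1435, e3 q1057 L74355 q1457, e3 q1058 L74369 q1458, e3 q1059 L74198 q1438, e3 q1060 L74206 q1439, e3 q1061 L74212 q1440, e3 q1062 L28467 q1038, e3 q1063 L28491 q992, e3 q1064 L28495 q993, e3 q1065 L28503 q995, e3 q1066 L28507 q998, e3 q1067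 L28531 q690, e3 q1068 L28535 q691, e3 q1069 L28539 q695, e3 q1070 L28543 q696, e3 q1071 L72806 q1074, e3 q1072 L72809 q1075, e3 q1073 L52771 q820, e3 q1074 L72807 q1071, e3 q1075 L72810 q1072, e3 q1076 L73010 q1254, e3 q1077 L72525 q1255, e3 q1078 L73056 q1105, e3 q1079 L73606 q1353, e3 q1080 L52894 q817, e3 q1081 L74669 q1497, e3 q1082 L74673 q1498, e3 q1083 L74681 q1499, e3 q1084 L74691 q1500, e3 q1085 L28672 q919, e3 q1086 L28688 q920, e3 q1087 L28696 q921, trivial⟩ (by decide +kernel)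

theorem ce_a_17 : ∀ r, r < 64 → sm ga (Qf (1088 + r)) = Qf (tab Gen.a (1088 + r)) :=
  edges_tab (sm ga) Qf (tab Gen.a) 1088 [(1088, 922), (1089, 831), (1090, 1430), (1091, 1107), (1092, 1431), (1093, 1469), (1094, 1420), (1095, 1241), (1096, 1240), (1097, 1432), (1098, 1054), (1099, 1121), (1100, 924), (1101, 925), (1102, 1376), (1103, 1222), (1104, 1434), (1105, 1078), (1106, 1285), (1107, 1091), (1108, 1109), (1109, 1108), (1110, 1526), (1111, 1442), (1112, 1443), (1113, 1444), (1114, 1445), (1115, 1446), (1116, 1447), (1117, 1118), (1118, 1117), (1119, 1448), (1120, 1449), (1121, 1099), (1122, 1536), (1123, 1124), (1124, 1123), (1125, 1126), (1126, 1125), (1127, 1298), (1128, 1136), (1129, 784), (1130, 785), (1131, 786), (1132, 788), (1133, 789), (1134, 747), (1135, 1545), (1136, 1128), (1137, 1546), (1138, 796), (1139, 797), (1140, 798), (1141, 799), (1142, 800), (1143, 801), (1144, 802), (1145, 803), (1146, 804), (1147, 805), (1148, 806), (1149, 808), (1150,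 809), (1151, 811)]
    ⟨e3 q1088 L28702 q922, e3 q1089 L72599 q831, e3 q1090 L74110 q1430, e3 q1091 L73058 q1107, e3 q1092 L74124 q1431, e3 q1093 L74443 q1469, e3 q1094 L74027 q1420, e3 q1095 L73083 q1241, e3 q1096 L73081 q1240, e3 q1097 L74136 q1432, e3 q1098 L73152 q1054, e3 q1099 L73053 q1121, e3 q1100 L28838 q924, e3 q1101 L28848 q925, e3 q1102 L73734 q1376, e3 q1103 L72752 q1222, e3 q1104 L74162 q1434, e3 q1105 L73057 q1078, e3 q1106 L73063 q1285, e3 q1107 L73059 q1091, e3 q1108 L28931 q1109, e3 q1109 L28930 q1108, e3 q1110 L74912 q1526, e3 q1111 L74224 q1442, e3 q1112 L74232 q1443, e3 q1113 L74238 q1444, e3 q1114 L74246 q1445, e3 q1115 L74256 q1446, e3 q1116 L74266 q1447, e3 q1117 L73261 q1118, e3 q1118 L73260 q1117, e3 q1119 L74276 q1448, e3 q1120 L74282 q1449, e3 q1121 L73052 q1099, e3 q1122 L75010 q1536, e3 q1123 L41473 q1124, e3 q1124 L41472 q1123, e3 q1125 L41457 q1126, e3 q1126 L41456 q1125, e3 q1127 L72711 q1298, e3 q1128 L29225 q1136, e3 q1129 L29172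 q784, e3 q1130 L29176 q785, e3 q1131 L29184 q786, e3 q1132 L29196 q788, e3 q1133 L29200 q789, e3 q1134 L29213 q747, e3 q1135 L75066 q1545, e3 q1136 L29224 q1128, e3 q1137 L75075 q1546, e3 q1138 L29238 q796, e3 q1139 L29242 q797, e3 q1140 L29246 q798, e3 q1141 L29250 q799, e3 q1142 L29254 q800, e3 q1143 L29264 q801, e3 q1144 L29278 q802, e3 q1145 L29282 q803, e3 q1146 L29294 q804, e3 q1147 L29304 q805, e3 q1148 L29314 q806, e3 q1149 L29322 q808, e3 q1150 L29326 q809, e3 q1151 L29336 q811, trivial⟩ (by decide +kernel)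

theorem ce_a_18 : ∀ r, r < 64 → sm ga (Qf (1152 + r)) = Qf (tab Gen.a (1152 + r)) :=
  edges_tab (sm ga) Qf (tab Gen.a) 1152 [(1152, 819), (1153, 822), (1154, 823), (1155, 824), (1156, 825), (1157, 826), (1158, 827), (1159, 828), (1160, 829), (1161, 1242), (1162, 833), (1163, 834), (1164, 835), (1165, 836), (1166, 839), (1167, 842), (1168, 843), (1169, 844), (1170, 845), (1171, 848), (1172, 853), (1173, 854), (1174, 855), (1175, 860), (1176, 862), (1177, 863), (1178, 865), (1179, 866), (1180, 867), (1181, 1198), (1182, 1199), (1183, 1244), (1184, 1541), (1185, 1542), (1186, 1543), (1187, 1544), (1188, 1223), (1189, 1261), (1190, 1229), (1191, 1351), (1192, 1224), (1193, 792), (1194, 794), (1195, 1196), (1196, 1195), (1197, 1618), (1198, 1181), (1199, 1182), (1200, 1214), (1201, 1269), (1202, 1270), (1203, 1551), (1204, 1552), (1205, 1553), (1206, 1215), (1207, 1554), (1208, 1555), (1209, 1556), (1210, 1557), (1211, 1558), (1212, 1559), (1213, 1471), (1214, 1200),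 (1215, 1206)]
    ⟨e3 q1152 L29380 q819, e3 q1153 L29408 q822, e3 q1154 L29412 q823, e3 q1155 L29424 q824, e3 q1156 L29436 q825, e3 q1157 L29446 q826, e3 q1158 L29464 q827, e3 q1159 L29468 q828, e3 q1160 L29476 q829, e3 q1161 L31060 q1242, e3 q1162 L29496 q833, e3 q1163 L29500 q834, e3 q1164 L29504 q835, e3 q1165 L29510 q836, e3 q1166 L29518 q839, e3 q1167 L29532 q842, e3 q1168 L29536 q843, e3 q1169 L29540 q844, e3 q1170 L29544 q845, e3 q1171 L29606 q848, e3 q1172 L29892 q853, e3 q1173 L29896 q854, e3 q1174 L29900 q855, e3 q1175 L30034 q860, e3 q1176 L30056 q862, e3 q1177 L30070 q863, e3 q1178 L30110 q865, e3 q1179 L30114 q866, e3 q1180 L30118 q867, e3 q1181 L30722 q1198, e3 q1182 L30728 q1199, e3 q1183 L31084 q1244, e3 q1184 L75048 q1541, e3 q1185 L75052 q1542, e3 q1186 L75058 q1543, e3 q1187 L75062 q1544, e3 q1188 L30907 q1223, e3 q1189 L31202 q1261, e3 q1190 L73165 q1229, e3 q1191 L73592 q1351, e3 q1192 L72781 q1224, e3 q1193 L30690 q792, e3 q1194 L30696 q794, e3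 q1195 L72899 q1196, e3 q1196 L72900 q1195, e3 q1197 L75632 q1618, e3 q1198 L30721 q1181, e3 q1199 L30727 q1182, e3 q1200 L72901 q1214, e3 q1201 L31394 q1269, e3 q1202 L31406 q1270, e3 q1203 L75115 q1551, e3 q1204 L75121 q1552, e3 q1205 L75131 q1553, e3 q1206 L72912 q1215, e3 q1207 L75143 q1554, e3 q1208 L75153 q1555, e3 q1209 L75157 q1556, e3 q1210 L75163 q1557, e3 q1211 L75167 q1558, e3 q1212 L75173 q1559, e3 q1213 L74457 q1471, e3 q1214 L72902 q1200, e3 q1215 L72911 q1206, trivial⟩ (by decide +kernel)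

theorem ce_a_19 : ∀ r, r < 64 → sm ga (Qf (1216 + r)) = Qf (tab Gen.a (1216 + r)) :=
  edges_tab (sm ga) Qf (tab Gen.a) 1216 [(1216, 1560), (1217, 941), (1218, 1271), (1219, 1561), (1220, 1273), (1221, 1055), (1222, 1103), (1223, 1188), (1224, 1192), (1225, 1226), (1226, 1225), (1227, 1562), (1228, 1501), (1229, 1190), (1230, 1462), (1231, 1563), (1232, 1564), (1233, 1565), (1234, 1566), (1235, 1277), (1236, 1567), (1237, 1568), (1238, 1569), (1239, 1493), (1240, 1096), (1241, 1095), (1242, 1161), (1243, 1666), (1244, 1183), (1245, 1571), (1246, 1572), (1247, 1573), (1248, 1301), (1249, 1574), (1250, 1575), (1251, 1576), (1252, 1300), (1253, 1302), (1254, 1076), (1255, 1077), (1256, 975), (1257, 976), (1258, 977), (1259, 978), (1260, 1691), (1261, 1189), (1262, 1578), (1263, 1579), (1264, 1580), (1265, 1581), (1266, 1582), (1267, 1583), (1268, 1584), (1269, 1201), (1270, 1202), (1271, 1218), (1272, 1585), (1273, 1220), (1274, 1274), (1275, 1275), (1276, 1588), (1277,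 1235), (1278, 1587), (1279, 1280)]
    ⟨e3 q1216 L75183 q1560, e3 q1217 L72935 q941, e3 q1218 L72682 q1271, e3 q1219 L75197 q1561, e3 q1220 L72972 q1273, e3 q1221 L72785 q1055, e3 q1222 L72753 q1103, e3 q1223 L30906 q1188, e3 q1224 L72780 q1192, e3 q1225 L72771 q1226, e3 q1226 L72770 q1225, e3 q1227 L75203 q1562, e3 q1228 L74701 q1501, e3 q1229 L73166 q1190, e3 q1230 L74403 q1462, e3 q1231 L75207 q1563, e3 q1232 L75217 q1564, e3 q1233 L75225 q1565, e3 q1234 L75233 q1566, e3 q1235 L32082 q1277, e3 q1236 L75239 q1567, e3 q1237 L75247 q1568, e3 q1238 L75251 q1569, e3 q1239 L74622 q1493, e3 q1240 L73080 q1096, e3 q1241 L73082 q1095, e3 q1242 L31059 q1161, e3 q1243 L75984 q1666, e3 q1244 L31083 q1183, e3 q1245 L75269 q1571, e3 q1246 L75275 q1572, e3 q1247 L75283 q1573, e3 q1248 L73007 q1301, e3 q1249 L75289 q1574, e3 q1250 L75301 q1575, e3 q1251 L75307 q1576, e3 q1252 L73005 q1300, e3 q1253 L73009 q1302, e3 q1254 L73011 q1076, e3 q1255 L72526 q1077, e3 q1256 L72867 q975,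 e3 q1257 L72869 q976, e3 q1258 L72871 q977, e3 q1259 L72873 q978, e3 q1260 L76166 q1691, e3 q1261 L31201 q1189, e3 q1262 L75321 q1578, e3 q1263 L75327 q1579, e3 q1264 L75337 q1580, e3 q1265 L75345 q1581, e3 q1266 L75353 q1582, e3 q1267 L75361 q1583, e3 q1268 L75371 q1584, e3 q1269 L31393 q1201, e3 q1270 L31405 q1202, e3 q1271 L72681 q1218, e3 q1272 L75385 q1585, e3 q1273 L72971 q1220, e3 q1274 L72659 q1274, e3 q1275 L72660 q1275, e3 q1276 L75413 q1588, e3 q1277 L32081 q1235, e3 q1278 L75403 q1587, e3 q1279 L72982 q1280, trivial⟩ (by decide +kernel)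

theorem ce_a_20 : ∀ r, r < 64 → sm ga (Qf (1280 + r)) = Qf (tab Gen.a (1280 + r)) :=
  edges_tab (sm ga) Qf (tab Gen.a) 1280 [(1280, 1279), (1281, 1397), (1282, 1398), (1283, 1589), (1284, 1590), (1285, 1106), (1286, 1290), (1287, 1591), (1288, 1592), (1289, 1593), (1290, 1286), (1291, 1594), (1292, 1595), (1293, 1596), (1294, 1597), (1295, 1450), (1296, 1451), (1297, 1405), (1298, 1127), (1299, 1039), (1300, 1252), (1301, 1248), (1302, 1253), (1303, 1303), (1304, 1304), (1305, 1305), (1306, 950), (1307, 926), (1308, 927), (1309, 952), (1310, 953), (1311, 955), (1312, 1338), (1313, 958), (1314, 1345), (1315, 960), (1316, 961), (1317, 928), (1318, 929), (1319, 930), (1320, 931), (1321, 932), (1322, 933), (1323, 1737), (1324, 935), (1325, 936), (1326, 937), (1327, 938), (1328, 940), (1329, 1662), (1330, 942), (1331, 943), (1332, 944), (1333, 945), (1334, 946), (1335, 947), (1336, 903), (1337, 1744), (1338, 1312), (1339, 966), (1340, 967), (1341, 968), (1342, 969), (1343,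 906)]
    ⟨e3 q1280 L72981 q1279, e3 q1281 L73875 q1397, e3 q1282 L73887 q1398, e3 q1283 L75425 q1589, e3 q1284 L75435 q1590, e3 q1285 L73062 q1106, e3 q1286 L72791 q1290, e3 q1287 L75449 q1591, e3 q1288 L75455 q1592, e3 q1289 L75465 q1593, e3 q1290 L72790 q1286, e3 q1291 L75470 q1594, e3 q1292 L75476 q1595, e3 q1293 L75484 q1596, e3 q1294 L75494 q1597, e3 q1295 L74294 q1450, e3 q1296 L74302 q1451, e3 q1297 L73937 q1405, e3 q1298 L72710 q1127, e3 q1299 L72765 q1039, e3 q1300 L73004 q1252, e3 q1301 L73006 q1248, e3 q1302 L73008 q1253, e3 q1303 L37702 q1303, e3 q1304 L37705 q1304, e3 q1305 L37708 q1305, e3 q1306 L73214 q950, e3 q1307 L73224 q926, e3 q1308 L73232 q927, e3 q1309 L73240 q952, e3 q1310 L73246 q953, e3 q1311 L73252 q955, e3 q1312 L73491 q1338, e3 q1313 L73280 q958, e3 q1314 L73541 q1345, e3 q1315 L73296 q960, e3 q1316 L73304 q961, e3 q1317 L73312 q928, e3 q1318 L73318 q929, e3 q1319 L73326 q930, e3 q1320 L73336 q931, e3 q1321 L73342 q932, e3 q1322 L73350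 q933, e3 q1323 L76516 q1737, e3 q1324 L73364 q935, e3 q1325 L73368 q936, e3 q1326 L73380 q937, e3 q1327 L73390 q938, e3 q1328 L73402 q940, e3 q1329 L75945 q1662, e3 q1330 L73418 q942, e3 q1331 L73424 q943, e3 q1332 L73436 q944, e3 q1333 L73446 q945, e3 q1334 L73458 q946, e3 q1335 L73466 q947, e3 q1336 L73479 q903, e3 q1337 L76595 q1744, e3 q1338 L73490 q1312, e3 q1339 L73500 q966, e3 q1340 L73506 q967, e3 q1341 L73512 q968, e3 q1342 L73518 q969, e3 q1343 L73527 q906, trivial⟩ (by decide +kernel)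

theorem ce_a_21 : ∀ r, r < 64 → sm ga (Qf (1344 + r)) = Qf (tab Gen.a (1344 + r)) :=
  edges_tab (sm ga) Qf (tab Gen.a) 1344 [(1344, 1722), (1345, 1314), (1346, 974), (1347, 981), (1348, 982), (1349, 917), (1350, 918), (1351, 1191), (1352, 1756), (1353, 1079), (1354, 1511), (1355, 1512), (1356, 1513), (1357, 1515), (1358, 1495), (1359, 1521), (1360, 1731), (1361, 1496), (1362, 1765), (1363, 1531), (1364, 1736), (1365, 934), (1366, 1769), (1367, 1381), (1368, 1689), (1369, 1740), (1370, 1741), (1371, 1685), (1372, 1385), (1373, 1748), (1374, 1384), (1375, 1516), (1376, 1102), (1377, 1742), (1378, 1743), (1379, 1729), (1380, 1730), (1381, 1367), (1382, 1399), (1383, 1396), (1384, 1374), (1385, 1372), (1386, 1733), (1387, 1406), (1388, 1410), (1389, 1408), (1390, 1041), (1391, 1734), (1392, 963), (1393, 1527), (1394, 1488), (1395, 1787), (1396, 1383), (1397, 1281), (1398, 1282), (1399, 1382), (1400, 1749), (1401, 1518), (1402, 1750), (1403, 971), (1404, 1791), (1405,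 1297), (1406, 1387), (1407, 1753)]
    ⟨e3 q1344 L76383 q1722, e3 q1345 L73540 q1314, e3 q1346 L73550 q974, e3 q1347 L73554 q981, e3 q1348 L73562 q982, e3 q1349 L73566 q917, e3 q1350 L73578 q918, e3 q1351 L73591 q1191, e3 q1352 L76682 q1756, e3 q1353 L73605 q1079, e3 q1354 L74773 q1511, e3 q1355 L74783 q1512, e3 q1356 L74791 q1513, e3 q1357 L74803 q1515, e3 q1358 L74645 q1495, e3 q1359 L74857 q1521, e3 q1360 L76461 q1731, e3 q1361 L74657 q1496, e3 q1362 L76734 q1765, e3 q1363 L74953 q1531, e3 q1364 L76507 q1736, e3 q1365 L73669 q934, e3 q1366 L76773 q1769, e3 q1367 L73778 q1381, e3 q1368 L76149 q1689, e3 q1369 L76549 q1740, e3 q1370 L76559 q1741, e3 q1371 L76117 q1685, e3 q1372 L73805 q1385, e3 q1373 L76613 q1748, e3 q1374 L73797 q1384, e3 q1375 L74811 q1516, e3 q1376 L73733 q1102, e3 q1377 L76571 q1742, e3 q1378 L76581 q1743, e3 q1379 L76441 q1729, e3 q1380 L76451 q1730, e3 q1381 L73779 q1367, e3 q1382 L73895 q1399, e3 q1383 L73867 q1396, e3 q1384 L73796 q1374, e3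 q1385 L73804 q1372, e3 q1386 L76477 q1733, e3 q1387 L73943 q1406, e3 q1388 L73965 q1410, e3 q1389 L73953 q1408, e3 q1390 L73832 q1041, e3 q1391 L76489 q1734, e3 q1392 L73846 q963, e3 q1393 L74927 q1527, e3 q1394 L74595 q1488, e3 q1395 L76913 q1787, e3 q1396 L73866 q1383, e3 q1397 L73874 q1281, e3 q1398 L73886 q1282, e3 q1399 L73894 q1382, e3 q1400 L76624 q1749, e3 q1401 L74831 q1518, e3 q1402 L76636 q1750, e3 q1403 L73922 q971, e3 q1404 L76951 q1791, e3 q1405 L73936 q1297, e3 q1406 L73942 q1387, e3 q1407 L76668 q1753, trivial⟩ (by decide +kernel)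

theorem ce_a_22 : ∀ r, r < 64 → sm ga (Qf (1408 + r)) = Qf (tab Gen.a (1408 + r)) :=
  edges_tab (sm ga) Qf (tab Gen.a) 1408 [(1408, 1389), (1409, 1797), (1410, 1388), (1411, 1684), (1412, 1686), (1413, 1687), (1414, 1688), (1415, 1690), (1416, 1419), (1417, 1754), (1418, 1755), (1419, 1416), (1420, 1094), (1421, 1047), (1422, 1044), (1423, 1481), (1424, 1494), (1425, 1482), (1426, 1483), (1427, 1433), (1428, 1001), (1429, 1813), (1430, 1090), (1431, 1092), (1432, 1097), (1433, 1427), (1434, 1104), (1435, 1056), (1436, 1046), (1437, 1048), (1438, 1059), (1439, 1060), (1440, 1061), (1441, 1817), (1442, 1111), (1443, 1112), (1444, 1113), (1445, 1114), (1446, 1115), (1447, 1116), (1448, 1119), (1449, 1120), (1450, 1295), (1451, 1296), (1452, 1040), (1453, 1042), (1454, 1043), (1455, 1045), (1456, 1053), (1457, 1057), (1458, 1058), (1459, 1035), (1460, 1036), (1461, 1037), (1462, 1230), (1463, 1825), (1464, 1826), (1465, 1491), (1466, 1724), (1467, 1490), (1468, 1492),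 (1469, 1093), (1470, 1723), (1471, 1213)]
    ⟨e3 q1408 L73952 q1389, e3 q1409 L77000 q1797, e3 q1410 L73964 q1388, e3 q1411 L76111 q1684, e3 q1412 L76125 q1686, e3 q1413 L76133 q1687, e3 q1414 L76141 q1688, e3 q1415 L76159 q1690, e3 q1416 L74019 q1419, e3 q1417 L76672 q1754, e3 q1418 L76678 q1755, e3 q1419 L74018 q1416, e3 q1420 L74026 q1094, e3 q1421 L74040 q1047, e3 q1422 L74050 q1044, e3 q1423 L74526 q1481, e3 q1424 L74634 q1494, e3 q1425 L74540 q1482, e3 q1426 L74552 q1483, e3 q1427 L74158 q1433, e3 q1428 L74095 q1001, e3 q1429 L77122 q1813, e3 q1430 L74109 q1090, e3 q1431 L74123 q1092, e3 q1432 L74135 q1097, e3 q1433 L74157 q1427, e3 q1434 L74161 q1104, e3 q1435 L74169 q1056, e3 q1436 L74181 q1046, e3 q1437 L74185 q1048, e3 q1438 L74197 q1059, e3 q1439 L74205 q1060, e3 q1440 L74211 q1061, e3 q1441 L77161 q1817, e3 q1442 L74223 q1111, e3 q1443 L74231 q1112, e3 q1444 L74237 q1113, e3 q1445 L74245 q1114, e3 q1446 L74255 q1115, e3 q1447 L74265 q1116, e3 q1448 L74275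 q1119, e3 q1449 L74281 q1120, e3 q1450 L74293 q1295, e3 q1451 L74301 q1296, e3 q1452 L74311 q1040, e3 q1453 L74319 q1042, e3 q1454 L74329 q1043, e3 q1455 L74335 q1045, e3 q1456 L74346 q1053, e3 q1457 L74354 q1057, e3 q1458 L74368 q1058, e3 q1459 L74380 q1035, e3 q1460 L74388 q1036, e3 q1461 L74396 q1037, e3 q1462 L74402 q1230, e3 q1463 L77258 q1825, e3 q1464 L77266 q1826, e3 q1465 L74608 q1491, e3 q1466 L76403 q1724, e3 q1467 L74604 q1490, e3 q1468 L74616 q1492, e3 q1469 L74442 q1093, e3 q1470 L76393 q1723, e3 q1471 L74456 q1213, trivial⟩ (by decide +kernel)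

theorem ce_a_23 : ∀ r, r < 64 → sm ga (Qf (1472 + r)) = Qf (tab Gen.a (1472 + r)) :=
  edges_tab (sm ga) Qf (tab Gen.a) 1472 [(1472, 1523), (1473, 1824), (1474, 1786), (1475, 1522), (1476, 1810), (1477, 1809), (1478, 1804), (1479, 1808), (1480, 1815), (1481, 1423), (1482, 1425), (1483, 1426), (1484, 1504), (1485, 1509), (1486, 1524), (1487, 1644), (1488, 1394), (1489, 1768), (1490, 1467), (1491, 1465), (1492, 1468), (1493, 1239), (1494, 1424), (1495, 1358), (1496, 1361), (1497, 1081), (1498, 1082), (1499, 1083), (1500, 1084), (1501, 1228), (1502, 1682), (1503, 1679), (1504, 1484), (1505, 1832), (1506, 1849), (1507, 1703), (1508, 1850), (1509, 1485), (1510, 1851), (1511, 1354), (1512, 1355), (1513, 1356), (1514, 1833), (1515, 1357), (1516, 1375), (1517, 1665), (1518, 1401), (1519, 1534), (1520, 1535), (1521, 1359), (1522, 1475), (1523, 1472), (1524, 1486), (1525, 1611), (1526, 1110), (1527, 1393), (1528, 1790), (1529, 1820), (1530, 1821), (1531, 1363), (1532, 1533),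 (1533, 1532), (1534, 1519), (1535, 1520)]
    ⟨e3 q1472 L74879 q1523, e3 q1473 L77240 q1824, e3 q1474 L76901 q1786, e3 q1475 L74867 q1522, e3 q1476 L77092 q1810, e3 q1477 L77082 q1809, e3 q1478 L77338 q1804, e3 q1479 L77072 q1808, e3 q1480 L77140 q1815, e3 q1481 L74525 q1423, e3 q1482 L74539 q1425, e3 q1483 L74551 q1426, e3 q1484 L74725 q1504, e3 q1485 L74766 q1509, e3 q1486 L74899 q1524, e3 q1487 L75827 q1644, e3 q1488 L74596 q1394, e3 q1489 L76765 q1768, e3 q1490 L74603 q1467, e3 q1491 L74607 q1465, e3 q1492 L74615 q1468, e3 q1493 L74621 q1239, e3 q1494 L74633 q1424, e3 q1495 L74644 q1358, e3 q1496 L74656 q1361, e3 q1497 L74668 q1081, e3 q1498 L74672 q1082, e3 q1499 L74680 q1083, e3 q1500 L74690 q1084, e3 q1501 L74700 q1228, e3 q1502 L76099 q1682, e3 q1503 L76071 q1679, e3 q1504 L74724 q1484, e3 q1505 L77315 q1832, e3 q1506 L77494 q1849, e3 q1507 L76247 q1703, e3 q1508 L77506 q1850, e3 q1509 L74767 q1485, e3 q1510 L77516 q1851, e3 q1511 L74772 q1354, e3 q1512 L74782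 q1355, e3 q1513 L74790 q1356, e3 q1514 L77325 q1833, e3 q1515 L74802 q1357, e3 q1516 L74810 q1375, e3 q1517 L75977 q1665, e3 q1518 L74830 q1401, e3 q1519 L74987 q1534, e3 q1520 L74999 q1535, e3 q1521 L74856 q1359, e3 q1522 L74866 q1475, e3 q1523 L74878 q1472, e3 q1524 L74898 q1486, e3 q1525 L75576 q1611, e3 q1526 L74913 q1110, e3 q1527 L74926 q1393, e3 q1528 L76939 q1790, e3 q1529 L77194 q1820, e3 q1530 L77206 q1821, e3 q1531 L74952 q1363, e3 q1532 L74977 q1533, e3 q1533 L74976 q1532, e3 q1534 L74986 q1519, e3 q1535 L74998 q1520, trivial⟩ (by decide +kernel)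

theorem ce_a_24 : ∀ r, r < 64 → sm ga (Qf (1536 + r)) = Qf (tab Gen.a (1536 + r)) :=
  edges_tab (sm ga) Qf (tab Gen.a) 1536 [(1536, 1122), (1537, 1538), (1538, 1537), (1539, 1549), (1540, 1550), (1541, 1184), (1542, 1185), (1543, 1186), (1544, 1187), (1545, 1135), (1546, 1137), (1547, 1881), (1548, 1882), (1549, 1539), (1550, 1540), (1551, 1203), (1552, 1204), (1553, 1205), (1554, 1207), (1555, 1208), (1556, 1209), (1557, 1210), (1558, 1211), (1559, 1212), (1560, 1216), (1561, 1219), (1562, 1227), (1563, 1231), (1564, 1232), (1565, 1233), (1566, 1234), (1567, 1236), (1568, 1237), (1569, 1238), (1570, 1846), (1571, 1245), (1572, 1246), (1573, 1247), (1574, 1249), (1575, 1250), (1576, 1251), (1577, 1910), (1578, 1262), (1579, 1263), (1580, 1264), (1581, 1265), (1582, 1266), (1583, 1267), (1584, 1268), (1585, 1272), (1586, 1704), (1587, 1278), (1588, 1276), (1589, 1283), (1590, 1284), (1591, 1287), (1592, 1288), (1593, 1289), (1594, 1291), (1595, 1292), (1596, 1293),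 (1597, 1294), (1598, 1622), (1599, 1620)]
    ⟨e3 q1536 L75011 q1122, e3 q1537 L75030 q1538, e3 q1538 L75029 q1537, e3 q1539 L75097 q1549, e3 q1540 L75103 q1550, e3 q1541 L75047 q1184, e3 q1542 L75051 q1185, e3 q1543 L75057 q1186, e3 q1544 L75061 q1187, e3 q1545 L75065 q1135, e3 q1546 L75074 q1137, e3 q1547 L77773 q1881, e3 q1548 L77786 q1882, e3 q1549 L75096 q1539, e3 q1550 L75102 q1540, e3 q1551 L75114 q1203, e3 q1552 L75120 q1204, e3 q1553 L75130 q1205, e3 q1554 L75142 q1207, e3 q1555 L75152 q1208, e3 q1556 L75156 q1209, e3 q1557 L75162 q1210, e3 q1558 L75166 q1211, e3 q1559 L75172 q1212, e3 q1560 L75182 q1216, e3 q1561 L75196 q1219, e3 q1562 L75202 q1227, e3 q1563 L75206 q1231, e3 q1564 L75216 q1232, e3 q1565 L75224 q1233, e3 q1566 L75232 q1234, e3 q1567 L75238 q1236, e3 q1568 L75246 q1237, e3 q1569 L75250 q1238, e3 q1570 L77452 q1846, e3 q1571 L75268 q1245, e3 q1572 L75274 q1246, e3 q1573 L75282 q1247, e3 q1574 L75288 q1249, e3 q1575 L75300 q1250, e3 q1576 L75306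 q1251, e3 q1577 L78075 q1910, e3 q1578 L75320 q1262, e3 q1579 L75326 q1263, e3 q1580 L75336 q1264, e3 q1581 L75344 q1265, e3 q1582 L75352 q1266, e3 q1583 L75360 q1267, e3 q1584 L75370 q1268, e3 q1585 L75384 q1272, e3 q1586 L76259 q1704, e3 q1587 L75402 q1278, e3 q1588 L75412 q1276, e3 q1589 L75424 q1283, e3 q1590 L75434 q1284, e3 q1591 L75448 q1287, e3 q1592 L75454 q1288, e3 q1593 L75464 q1289, e3 q1594 L75469 q1291, e3 q1595 L75475 q1292, e3 q1596 L75483 q1293, e3 q1597 L75493 q1294, e3 q1598 L75680 q1622, e3 q1599 L75660 q1620, trivial⟩ (by decide +kernel)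

theorem ce_a_25 : ∀ r, r < 64 → sm ga (Qf (1600 + r)) = Qf (tab Gen.a (1600 + r)) :=
  edges_tab (sm ga) Qf (tab Gen.a) 1600 [(1600, 1623), (1601, 1624), (1602, 1672), (1603, 1670), (1604, 1671), (1605, 1876), (1606, 1877), (1607, 1878), (1608, 1879), (1609, 1880), (1610, 1645), (1611, 1525), (1612, 1934), (1613, 1649), (1614, 1695), (1615, 1646), (1616, 1651), (1617, 1647), (1618, 1197), (1619, 1621), (1620, 1599), (1621, 1619), (1622, 1598), (1623, 1600), (1624, 1601), (1625, 1641), (1626, 1643), (1627, 1888), (1628, 1835), (1629, 1889), (1630, 1638), (1631, 1893), (1632, 1891), (1633, 1892), (1634, 1894), (1635, 1895), (1636, 1896), (1637, 1884), (1638, 1630), (1639, 1656), (1640, 1897), (1641, 1625), (1642, 1701), (1643, 1626), (1644, 1487), (1645, 1610), (1646, 1615), (1647, 1617), (1648, 1957), (1649, 1613), (1650, 1852), (1651, 1616), (1652, 1828), (1653, 1827), (1654, 1844), (1655, 1899), (1656, 1639), (1657, 1900), (1658, 1961), (1659, 1901), (1660, 1705),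 (1661, 1706), (1662, 1329), (1663, 1902)]
    ⟨e3 q1600 L75688 q1623, e3 q1601 L75696 q1624, e3 q1602 L76025 q1672, e3 q1603 L76011 q1670, e3 q1604 L76019 q1671, e3 q1605 L77731 q1876, e3 q1606 L77739 q1877, e3 q1607 L77745 q1878, e3 q1608 L77753 q1879, e3 q1609 L77765 q1880, e3 q1610 L75837 q1645, e3 q1611 L75575 q1525, e3 q1612 L78298 q1934, e3 q1613 L75859 q1649, e3 q1614 L76193 q1695, e3 q1615 L75841 q1646, e3 q1616 L75873 q1651, e3 q1617 L75851 q1647, e3 q1618 L75631 q1197, e3 q1619 L75668 q1621, e3 q1620 L75659 q1599, e3 q1621 L75667 q1619, e3 q1622 L75679 q1598, e3 q1623 L75687 q1600, e3 q1624 L75695 q1601, e3 q1625 L75795 q1641, e3 q1626 L75812 q1643, e3 q1627 L77850 q1888, e3 q1628 L77343 q1835, e3 q1629 L77862 q1889, e3 q1630 L75777 q1638, e3 q1631 L77898 q1893, e3 q1632 L77882 q1891, e3 q1633 L77892 q1892, e3 q1634 L77908 q1894, e3 q1635 L77916 q1895, e3 q1636 L77926 q1896, e3 q1637 L77807 q1884, e3 q1638 L75776 q1630, e3 q1639 L75906 q1656, e3 q1640 L77938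 q1897, e3 q1641 L75794 q1625, e3 q1642 L76228 q1701, e3 q1643 L75811 q1626, e3 q1644 L75826 q1487, e3 q1645 L75836 q1610, e3 q1646 L75840 q1615, e3 q1647 L75850 q1617, e3 q1648 L78508 q1957, e3 q1649 L75858 q1613, e3 q1650 L77526 q1852, e3 q1651 L75872 q1616, e3 q1652 L77288 q1828, e3 q1653 L77278 q1827, e3 q1654 L77432 q1844, e3 q1655 L77952 q1899, e3 q1656 L75905 q1639, e3 q1657 L77962 q1900, e3 q1658 L78545 q1961, e3 q1659 L77977 q1901, e3 q1660 L76271 q1705, e3 q1661 L76279 q1706, e3 q1662 L75944 q1329, e3 q1663 L77984 q1902, trivial⟩ (by decide +kernel)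

theorem ce_a_26 : ∀ r, r < 64 → sm ga (Qf (1664 + r)) = Qf (tab Gen.a (1664 + r)) :=
  edges_tab (sm ga) Qf (tab Gen.a) 1664 [(1664, 1903), (1665, 1517), (1666, 1243), (1667, 1945), (1668, 1680), (1669, 1920), (1670, 1603), (1671, 1604), (1672, 1602), (1673, 1906), (1674, 1907), (1675, 1908), (1676, 1909), (1677, 1905), (1678, 1726), (1679, 1503), (1680, 1668), (1681, 1727), (1682, 1502), (1683, 1976), (1684, 1411), (1685, 1371), (1686, 1412), (1687, 1413), (1688, 1414), (1689, 1368), (1690, 1415), (1691, 1260), (1692, 1956), (1693, 1921), (1694, 1944), (1695, 1614), (1696, 1913), (1697, 1914), (1698, 1859), (1699, 1915), (1700, 1752), (1701, 1642), (1702, 1702), (1703, 1507), (1704, 1586), (1705, 1660), (1706, 1661), (1707, 1855), (1708, 1709), (1709, 1708), (1710, 1812), (1711, 1716), (1712, 1718), (1713, 1951), (1714, 1917), (1715, 1918), (1716, 1711), (1717, 1919), (1718, 1712), (1719, 1823), (1720, 1822), (1721, 1793), (1722, 1344), (1723, 1470), (1724, 1466),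 (1725, 1904), (1726, 1678), (1727, 1681)]
    ⟨e3 q1664 L77996 q1903, e3 q1665 L75976 q1517, e3 q1666 L75985 q1243, e3 q1667 L78413 q1945, e3 q1668 L76084 q1680, e3 q1669 L78173 q1920, e3 q1670 L76010 q1603, e3 q1671 L76018 q1604, e3 q1672 L76024 q1602, e3 q1673 L78032 q1906, e3 q1674 L78044 q1907, e3 q1675 L78058 q1908, e3 q1676 L78068 q1909, e3 q1677 L78020 q1905, e3 q1678 L76415 q1726, e3 q1679 L76070 q1503, e3 q1680 L76085 q1668, e3 q1681 L76423 q1727, e3 q1682 L76098 q1502, e3 q1683 L78711 q1976, e3 q1684 L76110 q1411, e3 q1685 L76116 q1371, e3 q1686 L76124 q1412, e3 q1687 L76132 q1413, e3 q1688 L76140 q1414, e3 q1689 L76148 q1368, e3 q1690 L76158 q1415, e3 q1691 L76167 q1260, e3 q1692 L78507 q1956, e3 q1693 L78185 q1921, e3 q1694 L78395 q1944, e3 q1695 L76192 q1614, e3 q1696 L78104 q1913, e3 q1697 L78115 q1914, e3 q1698 L77596 q1859, e3 q1699 L78125 q1915, e3 q1700 L76656 q1752, e3 q1701 L76227 q1642, e3 q1702 L76235 q1702, e3 q1703 L76246 q1507, e3 q1704 L76258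 q1586, e3 q1705 L76270 q1660, e3 q1706 L76278 q1661, e3 q1707 L77560 q1855, e3 q1708 L76293 q1709, e3 q1709 L76292 q1708, e3 q1710 L77108 q1812, e3 q1711 L76340 q1716, e3 q1712 L76355 q1718, e3 q1713 L78460 q1951, e3 q1714 L78141 q1917, e3 q1715 L78151 q1918, e3 q1716 L76339 q1711, e3 q1717 L78162 q1919, e3 q1718 L76354 q1712, e3 q1719 L77224 q1823, e3 q1720 L77218 q1822, e3 q1721 L76969 q1793, e3 q1722 L76382 q1344, e3 q1723 L76392 q1470, e3 q1724 L76402 q1466, e3 q1725 L78010 q1904, e3 q1726 L76414 q1678, e3 q1727 L76422 q1681, trivial⟩ (by decide +kernel)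

theorem ce_a_27 : ∀ r, r < 64 → sm ga (Qf (1728 + r)) = Qf (tab Gen.a (1728 + r)) :=
  edges_tab (sm ga) Qf (tab Gen.a) 1728 [(1728, 1728), (1729, 1379), (1730, 1380), (1731, 1360), (1732, 1739), (1733, 1386), (1734, 1391), (1735, 1782), (1736, 1364), (1737, 1323), (1738, 1926), (1739, 1732), (1740, 1369), (1741, 1370), (1742, 1377), (1743, 1378), (1744, 1337), (1745, 1816), (1746, 1818), (1747, 1766), (1748, 1373), (1749, 1400), (1750, 1402), (1751, 1993), (1752, 1700), (1753, 1407), (1754, 1417), (1755, 1418), (1756, 1352), (1757, 1984), (1758, 1840), (1759, 2009), (1760, 1862), (1761, 1773), (1762, 1803), (1763, 1865), (1764, 1767), (1765, 1362), (1766, 1747), (1767, 1764), (1768, 1489), (1769, 1366), (1770, 1875), (1771, 1799), (1772, 2012), (1773, 1761), (1774, 1979), (1775, 1779), (1776, 1848), (1777, 2014), (1778, 1998), (1779, 1775), (1780, 1781), (1781, 1780), (1782, 1735), (1783, 1794), (1784, 2017), (1785, 1796), (1786, 1474), (1787, 1395), (1788, 1866),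 (1789, 1843), (1790, 1528), (1791, 1404)]
    ⟨e3 q1728 L76432 q1728, e3 q1729 L76440 q1379, e3 q1730 L76450 q1380, e3 q1731 L76460 q1360, e3 q1732 L76535 q1739, e3 q1733 L76476 q1386, e3 q1734 L76488 q1391, e3 q1735 L76875 q1782, e3 q1736 L76506 q1364, e3 q1737 L76517 q1323, e3 q1738 L78229 q1926, e3 q1739 L76534 q1732, e3 q1740 L76548 q1369, e3 q1741 L76558 q1370, e3 q1742 L76570 q1377, e3 q1743 L76580 q1378, e3 q1744 L76594 q1337, e3 q1745 L77160 q1816, e3 q1746 L77176 q1818, e3 q1747 L76748 q1766, e3 q1748 L76612 q1373, e3 q1749 L76623 q1400, e3 q1750 L76635 q1402, e3 q1751 L78865 q1993, e3 q1752 L76655 q1700, e3 q1753 L76667 q1407, e3 q1754 L76671 q1417, e3 q1755 L76677 q1418, e3 q1756 L76681 q1352, e3 q1757 L78784 q1984, e3 q1758 L77389 q1840, e3 q1759 L79031 q2009, e3 q1760 L77618 q1862, e3 q1761 L76799 q1773, e3 q1762 L77042 q1803, e3 q1763 L77644 q1865, e3 q1764 L76756 q1767, e3 q1765 L76735 q1362, e3 q1766 L76747 q1747, e3 q1767 L76755 q1764, e3 q1768 L76764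 q1489, e3 q1769 L76772 q1366, e3 q1770 L77721 q1875, e3 q1771 L77015 q1799, e3 q1772 L79062 q2012, e3 q1773 L76798 q1761, e3 q1774 L78740 q1979, e3 q1775 L76850 q1779, e3 q1776 L77480 q1848, e3 q1777 L79085 q2014, e3 q1778 L78923 q1998, e3 q1779 L76851 q1775, e3 q1780 L76863 q1781, e3 q1781 L76862 q1780, e3 q1782 L76874 q1735, e3 q1783 L76981 q1794, e3 q1784 L79113 q2017, e3 q1785 L76991 q1796, e3 q1786 L76900 q1474, e3 q1787 L76912 q1395, e3 q1788 L77658 q1866, e3 q1789 L77422 q1843, e3 q1790 L76938 q1528, e3 q1791 L76950 q1404, trivial⟩ (by decide +kernel)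

theorem ce_a_28 : ∀ r, r < 64 → sm ga (Qf (1792 + r)) = Qf (tab Gen.a (1792 + r)) :=
  edges_tab (sm ga) Qf (tab Gen.a) 1792 [(1792, 1975), (1793, 1721), (1794, 1783), (1795, 2020), (1796, 1785), (1797, 1409), (1798, 1836), (1799, 1771), (1800, 1980), (1801, 1869), (1802, 1807), (1803, 1762), (1804, 1478), (1805, 1972), (1806, 2007), (1807, 1802), (1808, 1479), (1809, 1477), (1810, 1476), (1811, 1841), (1812, 1710), (1813, 1429), (1814, 2006), (1815, 1480), (1816, 1745), (1817, 1441), (1818, 1746), (1819, 2003), (1820, 1529), (1821, 1530), (1822, 1720), (1823, 1719), (1824, 1473), (1825, 1463), (1826, 1464), (1827, 1653), (1828, 1652), (1829, 1845), (1830, 1847), (1831, 1960), (1832, 1505), (1833, 1514), (1834, 1986), (1835, 1628), (1836, 1798), (1837, 1838), (1838, 1837), (1839, 1954), (1840, 1758), (1841, 1811), (1842, 1857), (1843, 1789), (1844, 1654), (1845, 1829), (1846, 1570), (1847, 1830), (1848, 1776), (1849, 1506), (1850, 1508), (1851, 1510), (1852, 1650),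 (1853, 1995), (1854, 1974), (1855, 1707)]
    ⟨e3 q1792 L78700 q1975, e3 q1793 L76968 q1721, e3 q1794 L76980 q1783, e3 q1795 L79145 q2020, e3 q1796 L76990 q1785, e3 q1797 L77001 q1409, e3 q1798 L77358 q1836, e3 q1799 L77014 q1771, e3 q1800 L78752 q1980, e3 q1801 L77679 q1869, e3 q1802 L77062 q1807, e3 q1803 L77041 q1762, e3 q1804 L77339 q1478, e3 q1805 L78662 q1972, e3 q1806 L79019 q2007, e3 q1807 L77061 q1802, e3 q1808 L77071 q1479, e3 q1809 L77081 q1477, e3 q1810 L77091 q1476, e3 q1811 L77401 q1841, e3 q1812 L77107 q1710, e3 q1813 L77121 q1429, e3 q1814 L79015 q2006, e3 q1815 L77139 q1480, e3 q1816 L77159 q1745, e3 q1817 L77162 q1441, e3 q1818 L77175 q1746, e3 q1819 L78983 q2003, e3 q1820 L77193 q1529, e3 q1821 L77205 q1530, e3 q1822 L77217 q1720, e3 q1823 L77223 q1719, e3 q1824 L77239 q1473, e3 q1825 L77257 q1463, e3 q1826 L77265 q1464, e3 q1827 L77277 q1653, e3 q1828 L77287 q1652, e3 q1829 L77440 q1845, e3 q1830 L77466 q1847, e3 q1831 L78535 q1960, e3 q1832 L77314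 q1505, e3 q1833 L77324 q1514, e3 q1834 L78808 q1986, e3 q1835 L77342 q1628, e3 q1836 L77359 q1798, e3 q1837 L77371 q1838, e3 q1838 L77370 q1837, e3 q1839 L78487 q1954, e3 q1840 L77388 q1758, e3 q1841 L77400 q1811, e3 q1842 L77580 q1857, e3 q1843 L77421 q1789, e3 q1844 L77431 q1654, e3 q1845 L77439 q1829, e3 q1846 L77451 q1570, e3 q1847 L77465 q1830, e3 q1848 L77479 q1776, e3 q1849 L77493 q1506, e3 q1850 L77505 q1508, e3 q1851 L77515 q1510, e3 q1852 L77525 q1650, e3 q1853 L78891 q1995, e3 q1854 L78686 q1974, e3 q1855 L77559 q1707, trivial⟩ (by decide +kernel)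

theorem ce_a_29 : ∀ r, r < 64 → sm ga (Qf (1856 + r)) = Qf (tab Gen.a (1856 + r)) :=
  edges_tab (sm ga) Qf (tab Gen.a) 1856 [(1856, 1973), (1857, 1842), (1858, 2033), (1859, 1698), (1860, 2022), (1861, 2015), (1862, 1760), (1863, 1964), (1864, 2025), (1865, 1763), (1866, 1788), (1867, 1933), (1868, 1870), (1869, 1801), (1870, 1868), (1871, 1885), (1872, 1883), (1873, 1886), (1874, 1887), (1875, 1770), (1876, 1605), (1877, 1606), (1878, 1607), (1879, 1608), (1880, 1609), (1881, 1547), (1882, 1548), (1883, 1872), (1884, 1637), (1885, 1871), (1886, 1873), (1887, 1874), (1888, 1627), (1889, 1629), (1890, 1927), (1891, 1632), (1892, 1633), (1893, 1631), (1894, 1634), (1895, 1635), (1896, 1636), (1897, 1640), (1898, 1935), (1899, 1655), (1900, 1657), (1901, 1659), (1902, 1663), (1903, 1664), (1904, 1725), (1905, 1677), (1906, 1673), (1907, 1674), (1908, 1675), (1909, 1676), (1910, 1577), (1911, 2040), (1912, 2013), (1913, 1696), (1914, 1697), (1915, 1699), (1916, 1939),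 (1917, 1714), (1918, 1715), (1919, 1717)]
    ⟨e3 q1856 L78672 q1973, e3 q1857 L77579 q1842, e3 q1858 L79298 q2033, e3 q1859 L77595 q1698, e3 q1860 L79170 q2022, e3 q1861 L79098 q2015, e3 q1862 L77617 q1760, e3 q1863 L78576 q1964, e3 q1864 L79206 q2025, e3 q1865 L77643 q1763, e3 q1866 L77657 q1788, e3 q1867 L78296 q1933, e3 q1868 L77692 q1870, e3 q1869 L77678 q1801, e3 q1870 L77691 q1868, e3 q1871 L77820 q1885, e3 q1872 L77795 q1883, e3 q1873 L77832 q1886, e3 q1874 L77840 q1887, e3 q1875 L77720 q1770, e3 q1876 L77730 q1605, e3 q1877 L77738 q1606, e3 q1878 L77744 q1607, e3 q1879 L77752 q1608, e3 q1880 L77764 q1609, e3 q1881 L77772 q1547, e3 q1882 L77785 q1548, e3 q1883 L77794 q1872, e3 q1884 L77806 q1637, e3 q1885 L77819 q1871, e3 q1886 L77831 q1873, e3 q1887 L77839 q1874, e3 q1888 L77849 q1627, e3 q1889 L77861 q1629, e3 q1890 L78239 q1927, e3 q1891 L77881 q1632, e3 q1892 L77891 q1633, e3 q1893 L77897 q1631, e3 q1894 L77907 q1634, e3 q1895 L77915 q1635, e3 q1896 L77925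 q1636, e3 q1897 L77937 q1640, e3 q1898 L78313 q1935, e3 q1899 L77951 q1655, e3 q1900 L77961 q1657, e3 q1901 L77978 q1659, e3 q1902 L77983 q1663, e3 q1903 L77995 q1664, e3 q1904 L78009 q1725, e3 q1905 L78019 q1677, e3 q1906 L78031 q1673, e3 q1907 L78043 q1674, e3 q1908 L78057 q1675, e3 q1909 L78067 q1676, e3 q1910 L78076 q1577, e3 q1911 L79378 q2040, e3 q1912 L79074 q2013, e3 q1913 L78103 q1696, e3 q1914 L78114 q1697, e3 q1915 L78124 q1699, e3 q1916 L78347 q1939, e3 q1917 L78140 q1714, e3 q1918 L78150 q1715, e3 q1919 L78161 q1717, trivial⟩ (by decide +kernel)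

theorem ce_a_30 : ∀ r, r < 64 → sm ga (Qf (1920 + r)) = Qf (tab Gen.a (1920 + r)) :=
  edges_tab (sm ga) Qf (tab Gen.a) 1920 [(1920, 1669), (1921, 1693), (1922, 1940), (1923, 1942), (1924, 1941), (1925, 1943), (1926, 1738), (1927, 1890), (1928, 1971), (1929, 1949), (1930, 1969), (1931, 1970), (1932, 1938), (1933, 1867), (1934, 1612), (1935, 1898), (1936, 2051), (1937, 1959), (1938, 1932), (1939, 1916), (1940, 1922), (1941, 1924), (1942, 1923), (1943, 1925), (1944, 1694), (1945, 1667), (1946, 2029), (1947, 1965), (1948, 2043), (1949, 1929), (1950, 1967), (1951, 1713), (1952, 1963), (1953, 1968), (1954, 1839), (1955, 2026), (1956, 1692), (1957, 1648), (1958, 2054), (1959, 1937), (1960, 1831), (1961, 1658), (1962, 2032), (1963, 1952), (1964, 1863), (1965, 1947), (1966, 2044), (1967, 1950), (1968, 1953), (1969, 1930), (1970, 1931), (1971, 1928), (1972, 1805), (1973, 1856), (1974, 1854), (1975, 1792), (1976, 1683), (1977, 2049), (1978, 2001), (1979, 1774), (1980, 1800),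 (1981, 2053), (1982, 2050), (1983, 2045)]
    ⟨e3 q1920 L78172 q1669, e3 q1921 L78184 q1693, e3 q1922 L78353 q1940, e3 q1923 L78373 q1942, e3 q1924 L78365 q1941, e3 q1925 L78383 q1943, e3 q1926 L78228 q1738, e3 q1927 L78238 q1890, e3 q1928 L78652 q1971, e3 q1929 L78440 q1949, e3 q1930 L78628 q1969, e3 q1931 L78640 q1970, e3 q1932 L78335 q1938, e3 q1933 L78297 q1867, e3 q1934 L78299 q1612, e3 q1935 L78312 q1898, e3 q1936 L79519 q2051, e3 q1937 L78525 q1959, e3 q1938 L78334 q1932, e3 q1939 L78346 q1916, e3 q1940 L78352 q1922, e3 q1941 L78364 q1924, e3 q1942 L78372 q1923, e3 q1943 L78382 q1925, e3 q1944 L78394 q1694, e3 q1945 L78412 q1667, e3 q1946 L79254 q2029, e3 q1947 L78594 q1965, e3 q1948 L79416 q2043, e3 q1949 L78439 q1929, e3 q1950 L78605 q1967, e3 q1951 L78459 q1713, e3 q1952 L78566 q1963, e3 q1953 L78615 q1968, e3 q1954 L78486 q1839, e3 q1955 L79220 q2026, e3 q1956 L78506 q1692, e3 q1957 L78509 q1648, e3 q1958 L79559 q2054, e3 q1959 L78524 q1937, e3 q1960 L78534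 q1831, e3 q1961 L78544 q1658, e3 q1962 L79288 q2032, e3 q1963 L78565 q1952, e3 q1964 L78575 q1863, e3 q1965 L78595 q1947, e3 q1966 L79440 q2044, e3 q1967 L78604 q1950, e3 q1968 L78614 q1953, e3 q1969 L78627 q1930, e3 q1970 L78639 q1931, e3 q1971 L78651 q1928, e3 q1972 L78661 q1805, e3 q1973 L78671 q1856, e3 q1974 L78685 q1854, e3 q1975 L78699 q1792, e3 q1976 L78712 q1683, e3 q1977 L79493 q2049, e3 q1978 L78959 q2001, e3 q1979 L78739 q1774, e3 q1980 L78751 q1800, e3 q1981 L79555 q2053, e3 q1982 L79507 q2050, e3 q1983 L79444 q2045, trivial⟩ (by decide +kernel)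

theorem ce_a_31 : ∀ r, r < 64 → sm ga (Qf (1984 + r)) = Qf (tab Gen.a (1984 + r)) :=
  edges_tab (sm ga) Qf (tab Gen.a) 1984 [(1984, 1757), (1985, 2046), (1986, 1834), (1987, 2004), (1988, 1994), (1989, 1989), (1990, 1992), (1991, 2019), (1992, 1990), (1993, 1751), (1994, 1988), (1995, 1853), (1996, 2047), (1997, 2010), (1998, 1778), (1999, 2000), (2000, 1999), (2001, 1978), (2002, 2011), (2003, 1819), (2004, 1987), (2005, 2018), (2006, 1814), (2007, 1806), (2008, 2056), (2009, 1759), (2010, 1997), (2011, 2002), (2012, 1772), (2013, 1912), (2014, 1777), (2015, 1861), (2016, 2048), (2017, 1784), (2018, 2005), (2019, 1991), (2020, 1795), (2021, 2027), (2022, 1860), (2023, 2024), (2024, 2023), (2025, 1864), (2026, 1955), (2027, 2021), (2028, 2038), (2029, 1946), (2030, 2031), (2031, 2030), (2032, 1962), (2033, 1858), (2034, 2052), (2035, 2036), (2036, 2035), (2037, 2039), (2038, 2028), (2039, 2037), (2040, 1911), (2041, 2042), (2042, 2041), (2043, 1948), (2044, 1966),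 (2045, 1983), (2046, 1985), (2047, 1996)]
    ⟨e3 q1984 L78783 q1757, e3 q1985 L79456 q2046, e3 q1986 L78809 q1834, e3 q1987 L78997 q2004, e3 q1988 L78879 q1994, e3 q1989 L78830 q1989, e3 q1990 L78852 q1992, e3 q1991 L79143 q2019, e3 q1992 L78851 q1990, e3 q1993 L78864 q1751, e3 q1994 L78878 q1988, e3 q1995 L78890 q1853, e3 q1996 L79477 q2047, e3 q1997 L79040 q2010, e3 q1998 L78922 q1778, e3 q1999 L78945 q2000, e3 q2000 L78944 q1999, e3 q2001 L78958 q1978, e3 q2002 L79050 q2011, e3 q2003 L78982 q1819, e3 q2004 L78996 q1987, e3 q2005 L79128 q2018, e3 q2006 L79014 q1814, e3 q2007 L79018 q1806, e3 q2008 L79581 q2056, e3 q2009 L79032 q1759, e3 q2010 L79039 q1997, e3 q2011 L79049 q2002, e3 q2012 L79061 q1772, e3 q2013 L79073 q1912, e3 q2014 L79086 q1777, e3 q2015 L79097 q1861, e3 q2016 L79481 q2048, e3 q2017 L79114 q1784, e3 q2018 L79127 q2005, e3 q2019 L79144 q1991, e3 q2020 L79146 q1795, e3 q2021 L79241 q2027, e3 q2022 L79169 q1860, e3 q2023 L79192 q2024, e3 q2024 L79191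 q2023, e3 q2025 L79205 q1864, e3 q2026 L79219 q1955, e3 q2027 L79242 q2021, e3 q2028 L79356 q2038, e3 q2029 L79253 q1946, e3 q2030 L79274 q2031, e3 q2031 L79273 q2030, e3 q2032 L79287 q1962, e3 q2033 L79297 q1858, e3 q2034 L79531 q2052, e3 q2035 L79332 q2036, e3 q2036 L79331 q2035, e3 q2037 L79366 q2039, e3 q2038 L79355 q2028, e3 q2039 L79365 q2037, e3 q2040 L79377 q1911, e3 q2041 L79402 q2042, e3 q2042 L79401 q2041, e3 q2043 L79415 q1948, e3 q2044 L79439 q1966, e3 q2045 L79443 q1983, e3 q2046 L79455 q1985, e3 q2047 L79476 q1996, trivial⟩ (by decide +kernel)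

theorem ce_a_32 : ∀ r, r < 10 → sm ga (Qf (2048 + r)) = Qf (tab Gen.a (2048 + r)) :=
  edges_tab (sm ga) Qf (tab Gen.a) 2048 [(2048, 2016), (2049, 1977), (2050, 1982), (2051, 1936), (2052, 2034), (2053, 1981), (2054, 1958), (2055, 2057), (2056, 2008), (2057, 2055)]
    ⟨e3 q2048 L79480 q2016, e3 q2049 L79492 q1977, e3 q2050 L79506 q1982, e3 q2051 L79518 q1936, e3 q2052 L79530 q2034, e3 q2053 L79554 q1981, e3 q2054 L79558 q1958, e3 q2055 L79604 q2057, e3 q2056 L79580 q2008, e3 q2057 L79603 q2055, trivial⟩ (by decide +kernel)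

theorem cl_a : ∀ i, i < 2058 → sm ga (Qf i) = Qf (tab Gen.a i) :=
  all_of_chunks (fun i => sm ga (Qf i) = Qf (tab Gen.a i)) 32 10
    ⟨ce_a_0, ce_a_1, ce_a_2, ce_a_3, ce_a_4, ce_a_5, ce_a_6, ce_a_7, ce_a_8, ce_a_9, ce_a_10, ce_a_11, ce_a_12, ce_a_13, ce_a_14, ce_a_15, ce_a_16, ce_a_17, ce_a_18, ce_a_19, ce_a_20, ce_a_21, ce_a_22, ce_a_23, ce_a_24, ce_a_25, ce_a_26, ce_a_27, ce_a_28, ce_a_29, ce_a_30, ce_a_31, trivial⟩
    ce_a_32

theorem ce_b_0 : ∀ r, r < 64 → sm gb (Qf (0 + r)) = Qf (tab Gen.b (0 + r)) :=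
  edges_tab (sm gb) Qf (tab Gen.b) 0 [(0, 1), (1, 0), (2, 4), (3, 3), (4, 2), (5, 8), (6, 6), (7, 7), (8, 5), (9, 18), (10, 16), (11, 17), (12, 23), (13, 13), (14, 14), (15, 28), (16, 10), (17, 11), (18, 9), (19, 34), (20, 33), (21, 35), (22, 32), (23, 12), (24, 42), (25, 41), (26, 43), (27, 27), (28, 15), (29, 52), (30, 51), (31, 53), (32, 22), (33, 20), (34, 19), (35, 21), (36, 65), (37, 64), (38, 61), (39, 62), (40, 60), (41, 25), (42, 24), (43, 26), (44, 73), (45, 74), (46, 75), (47, 70), (48, 71), (49, 76), (50, 50), (51, 30), (52, 29), (53, 31), (54, 93), (55, 94), (56, 95), (57, 90), (58, 91), (59, 96), (60, 40), (61, 38), (62, 39), (63, 111)]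
    ⟨e3 q0 L5 q1, e3 q1 L6 q0, e3 q2 L27 q4, e3 q3 L22 q3, e3 q4 L26 q2, e3 q5 L50 q8, e3 q6 L37 q6, e3 q7 L41 q7, e3 q8 L49 q5, e3 q9 L103 q18, e3 q10 L94 q16, e3 q11 L101 q17, e3 q12 L127 q23, e3 q13 L71 q13, e3 q14 L76 q14, e3 q15 L194 q28, e3 q16 L93 q10, e3 q17 L100 q11, e3 q18 L104 q9, e3 q19 L232 q34, e3 q20 L226 q33, e3 q21 L236 q35, e3 q22 L217 q32, e3 q23 L128 q12, e3 q24 L293 q42, e3 q25 L287 q41, e3 q26 L297 q43, e3 q27 L152 q27, e3 q28 L195 q15, e3 q29 L434 q52, e3 q30 L428 q51, e3 q31 L438 q53, e3 q32 L216 q22, e3 q33 L225 q20, e3 q34 L231 q19, e3 q35 L235 q21, e3 q36 L506 q65, e3 q37 L502 q64, e3 q38 L482 q61, e3 q39 L490 q62, e3 q40 L473 q60, e3 q41 L286 q25, e3 q42 L292 q24, e3 q43 L296 q26, e3 q44 L569 q73, e3 q45 L573 q74, e3 q46 L577 q75, e3 q47 L544 q70, e3 q48 L550 q71, e3 q49 L581 q76, e3 q50 L358 q50, e3 q51 L427 q30, e3 q52 L433 q29, e3 q53 L437 q31, e3 q54 L856 q93, e3 q55 L860 q94, e3 q56 L864 q95, e3 q57 L838 q90, e3 q58 L844 q91, e3 q59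 L869 q96, e3 q60 L472 q40, e3 q61 L481 q38, e3 q62 L489 q39, e3 q63 L971 q111, trivial⟩ (by decide +kernel)

theorem ce_b_1 : ∀ r, r < 64 → sm gb (Qf (64 + r)) = Qf (tab Gen.b (64 + r)) :=
  edges_tab (sm gb) Qf (tab Gen.b) 64 [(64, 37), (65, 36), (66, 114), (67, 115), (68, 109), (69, 110), (70, 47), (71, 48), (72, 72), (73, 44), (74, 45), (75, 46), (76, 49), (77, 119), (78, 126), (79, 127), (80, 128), (81, 129), (82, 130), (83, 120), (84, 121), (85, 122), (86, 144), (87, 132), (88, 133), (89, 148), (90, 57), (91, 58), (92, 92), (93, 54), (94, 55), (95, 56), (96, 59), (97, 151), (98, 159), (99, 160), (100, 161), (101, 162), (102, 152), (103, 153), (104, 154), (105, 164), (106, 165), (107, 107), (108, 174), (109, 68), (110, 69), (111, 63), (112, 178), (113, 179), (114, 66), (115, 67), (116, 185), (117, 186), (118, 187), (119, 77), (120, 83), (121, 84), (122, 85), (123, 123), (124, 124), (125, 125), (126, 78), (127, 79)]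
    ⟨e3 q64 L501 q37, e3 q65 L505 q36, e3 q66 L986 q114, e3 q67 L996 q115, e3 q68 L959 q109, e3 q69 L969 q110, e3 q70 L543 q47, e3 q71 L549 q48, e3 q72 L565 q72, e3 q73 L568 q44, e3 q74 L572 q45, e3 q75 L576 q46, e3 q76 L580 q49, e3 q77 L1029 q119, e3 q78 L1077 q126, e3 q79 L1083 q127, e3 q80 L1089 q128, e3 q81 L1095 q129, e3 q82 L1107 q130, e3 q83 L1037 q120, e3 q84 L1043 q121, e3 q85 L1049 q122, e3 q86 L1240 q144, e3 q87 L1117 q132, e3 q88 L1121 q133, e3 q89 L1339 q148, e3 q90 L837 q57, e3 q91 L843 q58, e3 q92 L68794 q92, e3 q93 L855 q54, e3 q94 L859 q55, e3 q95 L863 q56, e3 q96 L868 q59, e3 q97 L1648 q151, e3 q98 L1691 q159, e3 q99 L1697 q160, e3 q100 L1709 q161, e3 q101 L1715 q162, e3 q102 L1656 q152, e3 q103 L1662 q153, e3 q104 L1669 q154, e3 q105 L1725 q164, e3 q106 L1729 q165, e3 q107 L947 q107, e3 q108 L1919 q174, e3 q109 L958 q68, e3 q110 L968 q69, e3 q111 L972 q63, e3 q112 L1952 q178, e3 q113 L1958 q179, e3 q114 L985 q66, e3 q115 L995 q67, e3 q116 L1978 q185,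 e3 q117 L1986 q186, e3 q118 L1991 q187, e3 q119 L1028 q77, e3 q120 L1036 q83, e3 q121 L1042 q84, e3 q122 L1048 q85, e3 q123 L1058 q123, e3 q124 L1066 q124, e3 q125 L1071 q125, e3 q126 L1076 q78, e3 q127 L1082 q79, trivial⟩ (by decide +kernel)

theorem ce_b_2 : ∀ r, r < 64 → sm gb (Qf (128 + r)) = Qf (tab Gen.b (128 + r)) :=
  edges_tab (sm gb) Qf (tab Gen.b) 128 [(128, 80), (129, 81), (130, 82), (131, 207), (132, 87), (133, 88), (134, 190), (135, 191), (136, 202), (137, 203), (138, 205), (139, 192), (140, 193), (141, 206), (142, 194), (143, 221), (144, 86), (145, 224), (146, 223), (147, 211), (148, 89), (149, 227), (150, 231), (151, 97), (152, 102), (153, 103), (154, 104), (155, 155), (156, 156), (157, 157), (158, 158), (159, 98), (160, 99), (161, 100), (162, 101), (163, 204), (164, 105), (165, 106), (166, 235), (167, 236), (168, 251), (169, 252), (170, 237), (171, 253), (172, 238), (173, 173), (174, 108), (175, 264), (176, 177), (177, 176), (178, 112), (179, 113),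 (180, 276), (181, 272), (182, 273), (183, 274), (184, 275), (185, 116), (186, 117), (187, 118), (188, 291), (189, 292), (190, 134), (191, 135)]
    ⟨e3 q128 L1088 q80, e3 q129 L1094 q81, e3 q130 L1106 q82, e3 q131 L2188 q207, e3 q132 L1116 q87, e3 q133 L1120 q88, e3 q134 L2027 q190, e3 q135 L2035 q191, e3 q136 L2147 q202, e3 q137 L2151 q203, e3 q138 L2159 q205, e3 q139 L70841 q192, e3 q140 L71082 q193, e3 q141 L2187 q206, e3 q142 L2067 q194, e3 q143 L2432 q221, e3 q144 L1241 q86, e3 q145 L2505 q224, e3 q146 L69873 q223, e3 q147 L2219 q211, e3 q148 L1340 q89, e3 q149 L2684 q227, e3 q150 L3244 q231, e3 q151 L1647 q97, e3 q152 L1655 q102, e3 q153 L1661 q103, e3 q154 L1668 q104, e3 q155 L65743 q155, e3 q156 L53639 q156, e3 q157 L65756 q157, e3 q158 L68803 q158, e3 q159 L1690 q98, e3 q160 L1696 q99, e3 q161 L1708 q100, e3 q162 L1714 q101, e3 q163 L68937 q204, e3 q164 L1724 q105, e3 q165 L1728 q106, e3 q166 L3275 q235, e3 q167 L3283 q236, e3 q168 L3411 q251, e3 q169 L3415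 q252, e3 q170 L70319 q237, e3 q171 L3444 q253, e3 q172 L3309 q238, e3 q173 L1918 q173, e3 q174 L1920 q108, e3 q175 L3786 q264, e3 q176 L1944 q177, e3 q177 L1943 q176, e3 q178 L1951 q112, e3 q179 L1957 q113, e3 q180 L3839 q276, e3 q181 L3822 q272, e3 q182 L3826 q273, e3 q183 L3830 q274, e3 q184 L3838 q275, e3 q185 L1977 q116, e3 q186 L1985 q117, e3 q187 L1992 q118, e3 q188 L3906 q291, e3 q189 L3916 q292, e3 q190 L2026 q134, e3 q191 L2034 q135, trivial⟩ (by decide +kernel)

theorem ce_b_3 : ∀ r, r < 64 → sm gb (Qf (192 + r)) = Qf (tab Gen.b (192 + r)) :=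
  edges_tab (sm gb) Qf (tab Gen.b) 192 [(192, 139), (193, 140), (194, 142), (195, 301), (196, 196), (197, 197), (198, 198), (199, 199), (200, 200), (201, 201), (202, 136), (203, 137), (204, 163), (205, 138), (206, 141), (207, 131), (208, 322), (209, 323), (210, 321), (211, 147), (212, 297), (213, 298), (214, 334), (215, 314), (216, 315), (217, 338), (218, 339), (219, 300), (220, 320), (221, 143), (222, 341), (223, 146), (224, 145), (225, 342), (226, 331), (227, 149), (228, 347), (229, 345), (230, 346), (231, 150), (232, 348), (233, 349), (234, 350), (235, 166), (236, 167), (237, 170), (238, 172), (239, 330), (240, 361), (241, 241), (242, 242), (243, 243), (244, 244), (245, 245), (246, 246), (247, 247), (248, 248), (249, 249), (250, 250), (251, 168), (252, 169), (253, 171), (254, 317), (255, 318)]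
    ⟨e3 q192 L70840 q139, e3 q193 L71083 q140, e3 q194 L2066 q142, e3 q195 L4017 q301, e3 q196 L2110 q196, e3 q197 L2117 q197, e3 q198 L2124 q198, e3 q199 L2127 q199, e3 q200 L2134 q200, e3 q201 L2137 q201, e3 q202 L2146 q136, e3 q203 L2150 q137, e3 q204 L68938 q163, e3 q205 L2158 q138, e3 q206 L2186 q141, e3 q207 L2189 q131, e3 q208 L4238 q322, e3 q209 L4244 q323, e3 q210 L66247 q321, e3 q211 L2218 q147, e3 q212 L3954 q297, e3 q213 L3962 q298, e3 q214 L4459 q334, e3 q215 L4134 q314, e3 q216 L4140 q315, e3 q217 L4490 q338, e3 q218 L4649 q339, e3 q219 L71180 q300, e3 q220 L4224 q320, e3 q221 L2433 q143, e3 q222 L4770 q341, e3 q223 L69874 q146, e3 q224 L2504 q145, e3 q225 L4905 q342, e3 q226 L4292 q331, e3 q227 L2683 q149, e3 q228 L5280 q347, e3 q229 L5262 q345, e3 q230 L5274 q346, e3 q231 L3245 q150, e3 q232 L6470 q348, e3 q233 L6474 q349, e3 q234 L6480 q350, e3 q235 L3274 q166, e3 q236 L3282 q167, e3 q237 L70318 q170, e3 q238 L3308 q172, e3 q239 L72016 q330, e3 q240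 L6712 q361, e3 q241 L53275 q241, e3 q242 L53227 q242, e3 q243 L65728 q243, e3 q244 L65713 q244, e3 q245 L68818 q245, e3 q246 L53611 q246, e3 q247 L53195 q247, e3 q248 L53478 q248, e3 q249 L53586 q249, e3 q250 L68812 q250, e3 q251 L3410 q168, e3 q252 L3414 q169, e3 q253 L3443 q171, e3 q254 L66201 q317, e3 q255 L69007 q318, trivial⟩ (by decide +kernel)

theorem ce_b_4 : ∀ r, r < 64 → sm gb (Qf (256 + r)) = Qf (tab Gen.b (256 + r)) :=
  edges_tab (sm gb) Qf (tab Gen.b) 256 [(256, 299), (257, 358), (258, 258), (259, 359), (260, 383), (261, 390), (262, 262), (263, 263), (264, 175), (265, 395), (266, 392), (267, 393), (268, 394), (269, 270), (270, 269), (271, 411), (272, 181), (273, 182), (274, 183), (275, 184), (276, 180), (277, 425), (278, 426), (279, 427), (280, 428), (281, 416), (282, 417), (283, 418), (284, 419), (285, 420), (286, 446), (287, 422), (288, 423), (289, 289), (290, 290), (291, 188), (292, 189), (293, 454), (294, 296), (295, 455), (296, 294), (297, 212),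 (298, 213), (299, 256), (300, 219), (301, 195), (302, 469), (303, 303), (304, 304), (305, 480), (306, 306), (307, 307), (308, 308), (309, 490), (310, 310), (311, 311), (312, 312), (313, 500), (314, 215), (315, 216), (316, 506), (317, 254), (318, 255), (319, 513)]
    ⟨e3 q256 L71574 q299, e3 q257 L6548 q358, e3 q258 L49252 q258, e3 q259 L70399 q359, e3 q260 L6863 q383, e3 q261 L7498 q390, e3 q262 L3771 q262, e3 q263 L3781 q263, e3 q264 L3785 q175, e3 q265 L7559 q395, e3 q266 L7548 q392, e3 q267 L7552 q393, e3 q268 L7558 q394, e3 q269 L3816 q270, e3 q270 L3815 q269, e3 q271 L7655 q411, e3 q272 L3821 q181, e3 q273 L3825 q182, e3 q274 L3829 q183, e3 q275 L3837 q184, e3 q276 L3840 q180, e3 q277 L7732 q425, e3 q278 L7736 q426, e3 q279 L7740 q427, e3 q280 L7744 q428, e3 q281 L7678 q416, e3 q282 L7684 q417, e3 q283 L7690 q418, e3 q284 L7696 q419, e3 q285 L7702 q420, e3 q286 L7817 q446, e3 q287 L7716 q422, e3 q288 L7724 q423, e3 q289 L3891 q289, e3 q290 L3900 q290, e3 q291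 L3905 q188, e3 q292 L3915 q189, e3 q293 L7857 q454, e3 q294 L3942 q296, e3 q295 L7865 q455, e3 q296 L3941 q294, e3 q297 L3953 q212, e3 q298 L3961 q213, e3 q299 L71575 q256, e3 q300 L71179 q219, e3 q301 L4018 q195, e3 q302 L8051 q469, e3 q303 L4099 q303, e3 q304 L4104 q304, e3 q305 L8212 q480, e3 q306 L4111 q306, e3 q307 L4114 q307, e3 q308 L4117 q308, e3 q309 L8254 q490, e3 q310 L4122 q310, e3 q311 L4125 q311, e3 q312 L4128 q312, e3 q313 L8298 q500, e3 q314 L4133 q215, e3 q315 L4139 q216, e3 q316 L8330 q506, e3 q317 L66200 q254, e3 q318 L69008 q255, e3 q319 L8508 q513, trivial⟩ (by decide +kernel)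

theorem ce_b_5 : ∀ r, r < 64 → sm gb (Qf (320 + r)) = Qf (tab Gen.b (320 + r)) :=
  edges_tab (sm gb) Qf (tab Gen.b) 320 [(320, 220), (321, 210), (322, 208), (323, 209), (324, 522), (325, 518), (326, 519), (327, 520), (328, 521), (329, 516), (330, 239), (331, 226), (332, 540), (333, 465), (334, 214), (335, 542), (336, 504), (337, 505), (338, 217), (339, 218), (340, 543), (341, 222), (342, 225), (343, 541), (344, 548), (345, 229), (346, 230), (347, 228), (348, 232), (349, 233), (350, 234), (351, 552), (352, 553), (353, 554), (354, 555), (355, 357), (356, 556), (357, 355), (358, 257), (359, 259), (360, 538), (361, 240), (362, 572), (363, 573), (364, 574), (365, 365), (366, 366), (367, 367), (368, 368), (369, 369), (370, 370), (371, 371), (372, 595), (373, 373), (374, 374), (375, 375), (376, 376), (377, 607), (378, 378), (379, 610), (380, 380), (381, 503), (382, 466), (383, 260)]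
    ⟨e3 q320 L4223 q220, e3 q321 L66248 q210, e3 q322 L4237 q208, e3 q323 L4243 q209, e3 q324 L8600 q522, e3 q325 L8559 q518, e3 q326 L8563 q519, e3 q327 L8567 q520, e3 q328 L8573 q521, e3 q329 L66150 q516, e3 q330 L72015 q239, e3 q331 L4291 q226, e3 q332 L8952 q540, e3 q333 L7923 q465, e3 q334 L4460 q214, e3 q335 L9002 q542, e3 q336 L8315 q504, e3 q337 L8325 q505, e3 q338 L4491 q217, e3 q339 L4650 q218, e3 q340 L9446 q543, e3 q341 L4769 q222, e3 q342 L4904 q225, e3 q343 L70686 q541, e3 q344 L10727 q548, e3 q345 L5261 q229, e3 q346 L5273 q230, e3 q347 L5281 q228, e3 q348 L6469 q232, e3 q349 L6473 q233, e3 q350 L6479 q234, e3 q351 L13053 q552, e3 q352 L13057 q553, e3 q353 L13061 q554, e3 q354 L13065 q555, e3 q355 L53473 q357, e3 q356 L13079 q556, e3 q357 L53472 q355, e3 q358 L6547 q257, e3 q359 L70400 q259, e3 q360 L72017 q538, e3 q361 L6713 q240, e3 q362 L13458 q572, e3 q363 L13462 q573, e3 q364 L13466 q574, e3 q365 L53287 q365, e3 q366 L65745 q366, e3 q367 L53259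 q367, e3 q368 L53210 q368, e3 q369 L53243 q369, e3 q370 L53552 q370, e3 q371 L65734 q371, e3 q372 L13541 q595, e3 q373 L53323 q373, e3 q374 L65700 q374, e3 q375 L65855 q375, e3 q376 L53602 q376, e3 q377 L13608 q607, e3 q378 L65831 q378, e3 q379 L13616 q610, e3 q380 L53519 q380, e3 q381 L57397 q503, e3 q382 L69235 q466, e3 q383 L6862 q260, trivial⟩ (by decide +kernel)

theorem ce_b_6 : ∀ r, r < 64 → sm gb (Qf (384 + r)) = Qf (tab Gen.b (384 + r)) :=
  edges_tab (sm gb) Qf (tab Gen.b) 384 [(384, 509), (385, 510), (386, 511), (387, 512), (388, 467), (389, 389), (390, 261), (391, 529), (392, 266), (393, 267), (394, 268), (395, 265), (396, 631), (397, 632), (398, 524), (399, 409), (400, 627), (401, 628), (402, 629), (403, 407), (404, 517), (405, 649), (406, 410), (407, 403), (408, 655), (409, 399), (410, 406), (411, 271), (412, 662), (413, 663), (414, 534), (415, 664), (416, 281), (417, 282), (418, 283), (419, 284), (420, 285), (421, 679), (422, 287), (423, 288), (424,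 439), (425, 277), (426, 278), (427, 279), (428, 280), (429, 689), (430, 690), (431, 691), (432, 692), (433, 693), (434, 694), (435, 695), (436, 532), (437, 696), (438, 697), (439, 424), (440, 673), (441, 674), (442, 675), (443, 676), (444, 677), (445, 678), (446, 286), (447, 493)]
    ⟨e3 q384 L66039 q509, e3 q385 L65948 q510, e3 q386 L66010 q511, e3 q387 L71586 q512, e3 q388 L71584 q467, e3 q389 L67915 q389, e3 q390 L7499 q261, e3 q391 L71755 q529, e3 q392 L7547 q266, e3 q393 L7551 q267, e3 q394 L7557 q268, e3 q395 L7560 q265, e3 q396 L14975 q631, e3 q397 L14979 q632, e3 q398 L71834 q524, e3 q399 L7646 q409, e3 q400 L14943 q627, e3 q401 L14949 q628, e3 q402 L14955 q629, e3 q403 L7634 q407, e3 q404 L65879 q517, e3 q405 L15104 q649, e3 q406 L7654 q410, e3 q407 L7633 q403, e3 q408 L15145 q655, e3 q409 L7645 q399, e3 q410 L7653 q406, e3 q411 L7656 q271, e3 q412 L15202 q662, e3 q413 L15206 q663, e3 q414 L71982 q534, e3 q415 L15218 q664, e3 q416 L7677 q281, e3 q417 L7683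 q282, e3 q418 L7689 q283, e3 q419 L7695 q284, e3 q420 L7701 q285, e3 q421 L15311 q679, e3 q422 L7715 q287, e3 q423 L7723 q288, e3 q424 L7799 q439, e3 q425 L7731 q277, e3 q426 L7735 q278, e3 q427 L7739 q279, e3 q428 L7743 q280, e3 q429 L15376 q689, e3 q430 L15380 q690, e3 q431 L15384 q691, e3 q432 L15388 q692, e3 q433 L15392 q693, e3 q434 L15398 q694, e3 q435 L15404 q695, e3 q436 L71943 q532, e3 q437 L15416 q696, e3 q438 L15420 q697, e3 q439 L7800 q424, e3 q440 L15280 q673, e3 q441 L15288 q674, e3 q442 L15294 q675, e3 q443 L15298 q676, e3 q444 L15304 q677, e3 q445 L15308 q678, e3 q446 L7818 q286, e3 q447 L52787 q493, trivial⟩ (by decide +kernel)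

theorem ce_b_7 : ∀ r, r < 64 → sm gb (Qf (448 + r)) = Qf (tab Gen.b (448 + r)) :=
  edges_tab (sm gb) Qf (tab Gen.b) 448 [(448, 728), (449, 729), (450, 683), (451, 684), (452, 452), (453, 453), (454, 293), (455, 295), (456, 747), (457, 742), (458, 743), (459, 463), (460, 705), (461, 745), (462, 746), (463, 459), (464, 765), (465, 333), (466, 382), (467, 388), (468, 550), (469, 302), (470, 776), (471, 774), (472, 775), (473, 658), (474, 783), (475, 475), (476, 476), (477, 787), (478, 478), (479, 479), (480, 305), (481, 792), (482, 793), (483, 794), (484, 484), (485, 485), (486, 486), (487, 807), (488, 488), (489, 489), (490, 309), (491, 814), (492, 815), (493, 447), (494, 494), (495, 495), (496, 496), (497, 617), (498, 498), (499, 499), (500, 313), (501, 831), (502, 832), (503, 381), (504, 336), (505, 337), (506, 316), (507, 841), (508, 508), (509, 384), (510, 385), (511, 386)]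
    ⟨e3 q448 L15582 q728, e3 q449 L15590 q729, e3 q450 L15342 q683, e3 q451 L15350 q684, e3 q452 L7846 q452, e3 q453 L7851 q453, e3 q454 L7856 q293, e3 q455 L7864 q295, e3 q456 L15704 q747, e3 q457 L15671 q742, e3 q458 L15681 q743, e3 q459 L7901 q463, e3 q460 L52734 q705, e3 q461 L15693 q745, e3 q462 L15703 q746, e3 q463 L7900 q459, e3 q464 L15824 q765, e3 q465 L7922 q333, e3 q466 L69236 q382, e3 q467 L71583 q388, e3 q468 L67140 q550, e3 q469 L8050 q302, e3 q470 L16100 q776, e3 q471 L16075 q774, e3 q472 L16079 q775, e3 q473 L71681 q658, e3 q474 L16368 q783, e3 q475 L8190 q475, e3 q476 L8197 q476, e3 q477 L16385 q787, e3 q478 L8204 q478, e3 q479 L8211 q479, e3 q480 L8213 q305, e3 q481 L16412 q792, e3 q482 L16418 q793, e3 q483 L16425 q794, e3 q484 L8227 q484, e3 q485 L8234 q485, e3 q486 L8239 q486, e3 q487 L16477 q807, e3 q488 L8248 q488, e3 q489 L8251 q489, e3 q490 L8255 q309, e3 q491 L16524 q814, e3 q492 L16530 q815, e3 q493 L52788 q447, e3 q494 L8269 q494, e3 q495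 L8276 q495, e3 q496 L8281 q496, e3 q497 L13821 q617, e3 q498 L8290 q498, e3 q499 L8295 q499, e3 q500 L8299 q313, e3 q501 L16631 q831, e3 q502 L16637 q832, e3 q503 L57396 q381, e3 q504 L8314 q336, e3 q505 L8324 q337, e3 q506 L8331 q316, e3 q507 L16689 q841, e3 q508 L64430 q508, e3 q509 L66040 q384, e3 q510 L65949 q385, e3 q511 L66009 q386, trivial⟩ (by decide +kernel)

theorem ce_b_8 : ∀ r, r < 64 → sm gb (Qf (512 + r)) = Qf (tab Gen.b (512 + r)) :=
  edges_tab (sm gb) Qf (tab Gen.b) 512 [(512, 387), (513, 319), (514, 852), (515, 549), (516, 329), (517, 404), (518, 325), (519, 326), (520, 327), (521, 328), (522, 324), (523, 637), (524, 398), (525, 634), (526, 671), (527, 859), (528, 626), (529, 391), (530, 857), (531, 625), (532, 436), (533, 669), (534, 414), (535, 732), (536, 856), (537, 682), (538, 360), (539, 830), (540, 332), (541, 343), (542, 335), (543, 340), (544, 544), (545, 877), (546, 767), (547, 838), (548, 344), (549, 515), (550, 468), (551, 688), (552,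 351), (553, 352), (554, 353), (555, 354), (556, 356), (557, 883), (558, 884), (559, 885), (560, 886), (561, 887), (562, 888), (563, 903), (564, 890), (565, 906), (566, 892), (567, 840), (568, 875), (569, 874), (570, 810), (571, 582), (572, 362), (573, 363), (574, 364), (575, 914)]
    ⟨e3 q512 L71587 q387, e3 q513 L8509 q319, e3 q514 L17035 q852, e3 q515 L67143 q549, e3 q516 L66149 q329, e3 q517 L65880 q404, e3 q518 L8558 q325, e3 q519 L8562 q326, e3 q520 L8566 q327, e3 q521 L8572 q328, e3 q522 L8601 q324, e3 q523 L71881 q637, e3 q524 L71833 q398, e3 q525 L71849 q634, e3 q526 L71934 q671, e3 q527 L17159 q859, e3 q528 L41859 q626, e3 q529 L71756 q391, e3 q530 L52998 q857, e3 q531 L71803 q625, e3 q532 L71942 q436, e3 q533 L71924 q669, e3 q534 L71983 q414, e3 q535 L52857 q732, e3 q536 L52976 q856, e3 q537 L71927 q682, e3 q538 L72018 q360, e3 q539 L70768 q830, e3 q540 L8953 q332, e3 q541 L70685 q343, e3 q542 L9001 q335, e3 q543 L9445 q340, e3 q544 L67806 q544, e3 q545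 L18908 q877, e3 q546 L70733 q767, e3 q547 L70721 q838, e3 q548 L10728 q344, e3 q549 L67144 q515, e3 q550 L67139 q468, e3 q551 L15372 q688, e3 q552 L13052 q351, e3 q553 L13056 q352, e3 q554 L13060 q353, e3 q555 L13064 q354, e3 q556 L13078 q356, e3 q557 L24807 q883, e3 q558 L24813 q884, e3 q559 L24819 q885, e3 q560 L24825 q886, e3 q561 L24831 q887, e3 q562 L24837 q888, e3 q563 L24998 q903, e3 q564 L24847 q890, e3 q565 L25010 q906, e3 q566 L24853 q892, e3 q567 L70618 q840, e3 q568 L72008 q875, e3 q569 L72001 q874, e3 q570 L16493 q810, e3 q571 L13503 q582, e3 q572 L13457 q362, e3 q573 L13461 q363, e3 q574 L13465 q364, e3 q575 L25634 q914, trivial⟩ (by decide +kernel)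

theorem ce_b_9 : ∀ r, r < 64 → sm gb (Qf (576 + r)) = Qf (tab Gen.b (576 + r)) :=
  edges_tab (sm gb) Qf (tab Gen.b) 576 [(576, 915), (577, 916), (578, 836), (579, 839), (580, 917), (581, 918), (582, 571), (583, 583), (584, 584), (585, 585), (586, 586), (587, 934), (588, 588), (589, 589), (590, 590), (591, 941), (592, 592), (593, 593), (594, 594), (595, 372), (596, 790), (597, 948), (598, 949), (599, 599), (600, 600), (601, 601), (602, 602), (603, 956), (604, 604), (605, 959), (606, 606), (607, 377), (608, 963), (609, 964), (610, 379), (611, 971), (612, 972), (613, 768), (614, 847), (615, 848), (616, 823), (617, 497), (618, 772), (619, 828), (620, 770), (621, 850), (622, 851), (623, 771), (624, 867), (625, 531), (626, 528), (627, 400), (628, 401), (629, 402), (630, 639), (631, 396), (632, 397), (633, 1000), (634, 525), (635, 861), (636, 1001), (637, 523), (638, 862), (639, 630)]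
    ⟨e3 q576 L25638 q915, e3 q577 L25644 q916, e3 q578 L72589 q836, e3 q579 L72560 q839, e3 q580 L25660 q917, e3 q581 L25664 q918, e3 q582 L13504 q571, e3 q583 L65710 q583, e3 q584 L53303 q584, e3 q585 L65749 q585, e3 q586 L65731 q586, e3 q587 L25737 q934, e3 q588 L65841 q588, e3 q589 L53221 q589, e3 q590 L65740 q590, e3 q591 L25773 q941, e3 q592 L53531 q592, e3 q593 L53546 q593, e3 q594 L65739 q594, e3 q595 L13542 q372, e3 q596 L52815 q790, e3 q597 L25816 q948, e3 q598 L25824 q949, e3 q599 L65847 q599, e3 q600 L53313 q600, e3 q601 L53540 q601, e3 q602 L65691 q602, e3 q603 L25885 q956, e3 q604 L65826 q604, e3 q605 L25899 q959, e3 q606 L53591 q606, e3 q607 L13609 q377, e3 q608 L25922 q963, e3 q609 L25928 q964, e3 q610 L13617 q379, e3 q611 L25954 q971, e3 q612 L25960 q972, e3 q613 L61331 q768, e3 q614 L66052 q847, e3 q615 L66025 q848, e3 q616 L16576 q823, e3 q617 L13820 q497, e3 q618 L42185 q772, e3 q619 L16608 q828, e3 q620 L71572 q770, e3 q621 L71593 q850, e3 q622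 L71560 q851, e3 q623 L71591 q771, e3 q624 L71749 q867, e3 q625 L71804 q531, e3 q626 L41858 q528, e3 q627 L14942 q400, e3 q628 L14948 q401, e3 q629 L14954 q402, e3 q630 L15048 q639, e3 q631 L14974 q396, e3 q632 L14978 q397, e3 q633 L27958 q1000, e3 q634 L71848 q525, e3 q635 L41734 q861, e3 q636 L27974 q1001, e3 q637 L71882 q523, e3 q638 L71824 q862, e3 q639 L15049 q630, trivial⟩ (by decide +kernel)

theorem ce_b_10 : ∀ r, r < 64 → sm gb (Qf (640 + r)) = Qf (tab Gen.b (640 + r)) :=
  edges_tab (sm gb) Qf (tab Gen.b) 640 [(640, 659), (641, 646), (642, 996), (643, 997), (644, 998), (645, 780), (646, 641), (647, 654), (648, 858), (649, 405), (650, 821), (651, 779), (652, 1023), (653, 660), (654, 647), (655, 408), (656, 1028), (657, 782), (658, 473), (659, 640), (660, 653), (661, 672), (662, 412), (663, 413), (664, 415), (665, 1036), (666, 1037), (667, 1038), (668, 864), (669, 533), (670, 1039), (671, 526), (672, 661), (673, 440), (674, 441), (675, 442), (676, 443), (677,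 444), (678, 445), (679, 421), (680, 1062), (681, 868), (682, 537), (683, 450), (684, 451), (685, 714), (686, 715), (687, 716), (688, 551), (689, 429), (690, 430), (691, 431), (692, 432), (693, 433), (694, 434), (695, 435), (696, 437), (697, 438), (698, 1073), (699, 1074), (700, 1075), (701, 1076), (702, 1077), (703, 1078)]
    ⟨e3 q640 L15172 q659, e3 q641 L15093 q646, e3 q642 L27928 q996, e3 q643 L27934 q997, e3 q644 L27938 q998, e3 q645 L71663 q780, e3 q646 L15092 q641, e3 q647 L15140 q654, e3 q648 L65870 q858, e3 q649 L15105 q405, e3 q650 L52830 q821, e3 q651 L71796 q779, e3 q652 L28166 q1023, e3 q653 L15182 q660, e3 q654 L15139 q647, e3 q655 L15146 q408, e3 q656 L28226 q1028, e3 q657 L71760 q782, e3 q658 L71682 q473, e3 q659 L15171 q640, e3 q660 L15181 q653, e3 q661 L15274 q672, e3 q662 L15201 q412, e3 q663 L15205 q413, e3 q664 L15217 q415, e3 q665 L28294 q1036, e3 q666 L28302 q1037, e3 q667 L28306 q1038, e3 q668 L71970 q864, e3 q669 L71923 q533, e3 q670 L28328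 q1039, e3 q671 L71935 q526, e3 q672 L15273 q661, e3 q673 L15279 q440, e3 q674 L15287 q441, e3 q675 L15293 q442, e3 q676 L15297 q443, e3 q677 L15303 q444, e3 q678 L15307 q445, e3 q679 L15312 q421, e3 q680 L28470 q1062, e3 q681 L52930 q868, e3 q682 L71928 q537, e3 q683 L15341 q450, e3 q684 L15349 q451, e3 q685 L15512 q714, e3 q686 L15520 q715, e3 q687 L15528 q716, e3 q688 L15371 q551, e3 q689 L15375 q429, e3 q690 L15379 q430, e3 q691 L15383 q431, e3 q692 L15387 q432, e3 q693 L15391 q433, e3 q694 L15397 q434, e3 q695 L15403 q435, e3 q696 L15415 q437, e3 q697 L15419 q438, e3 q698 L28590 q1073, e3 q699 L28596 q1074, e3 q700 L28602 q1075, e3 q701 L28608 q1076, e3 q702 L28614 q1077, e3 q703 L28620 q1078, trivial⟩ (by decide +kernel)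

theorem ce_b_11 : ∀ r, r < 64 → sm gb (Qf (704 + r)) = Qf (tab Gen.b (704 + r)) :=
  edges_tab (sm gb) Qf (tab Gen.b) 704 [(704, 1079), (705, 460), (706, 1080), (707, 1093), (708, 1082), (709, 1083), (710, 870), (711, 1098), (712, 1070), (713, 872), (714, 685), (715, 686), (716, 687), (717, 1051), (718, 1052), (719, 1105), (720, 1054), (721, 1106), (722, 1056), (723, 1057), (724, 1058), (725, 1110), (726, 1060), (727, 1061), (728, 448), (729, 449), (730, 820), (731, 817), (732, 535), (733, 1066), (734, 965), (735, 1122), (736, 736), (737, 737), (738, 738), (739, 1127), (740, 740), (741, 1128), (742, 457), (743, 458), (744, 919), (745, 461), (746, 462), (747, 456), (748, 1135), (749, 1136), (750, 1137), (751, 753), (752, 764), (753, 751), (754, 989), (755, 763), (756, 760), (757, 1090), (758, 1085), (759, 761), (760, 756), (761, 759), (762, 990), (763, 755), (764, 752), (765, 464), (766, 1161), (767, 546)]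
    ⟨e3 q704 L28626 q1079, e3 q705 L52733 q460, e3 q706 L28644 q1080, e3 q707 L28766 q1093, e3 q708 L28654 q1082, e3 q709 L28658 q1083, e3 q710 L71895 q870, e3 q711 L28812 q1098, e3 q712 L28546 q1070, e3 q713 L52867 q872, e3 q714 L15511 q685, e3 q715 L15519 q686, e3 q716 L15527 q687, e3 q717 L28404 q1051, e3 q718 L28414 q1052, e3 q719 L28878 q1105, e3 q720 L28424 q1054, e3 q721 L28894 q1106, e3 q722 L28432 q1056, e3 q723 L28440 q1057, e3 q724 L28444 q1058, e3 q725 L28936 q1110, e3 q726 L28454 q1060, e3 q727 L28462 q1061, e3 q728 L15581 q448, e3 q729 L15589 q449, e3 q730 L52765 q820, e3 q731 L52882 q817, e3 q732 L52858 q535, e3 q733 L28510 q1066, e3 q734 L52538 q965, e3 q735 L29069 q1122, e3 q736 L15628 q736, e3 q737 L15632 q737, e3 q738 L15636 q738, e3 q739 L29109 q1127, e3 q740 L15657 q740, e3 q741 L29164 q1128, e3 q742 L15670 q457, e3 q743 L15680 q458, e3 q744 L52757 q919, e3 q745 L15692 q461, e3 q746 L15702 q462, e3 q747 L15705 q456, e3 q748 L29221 q1135, e3 q749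 L29227 q1136, e3 q750 L29235 q1137, e3 q751 L15741 q753, e3 q752 L15821 q764, e3 q753 L15740 q751, e3 q754 L26437 q989, e3 q755 L15813 q763, e3 q756 L15791 q760, e3 q757 L52755 q1090, e3 q758 L52751 q1085, e3 q759 L15799 q761, e3 q760 L15790 q756, e3 q761 L15798 q759, e3 q762 L71551 q990, e3 q763 L15812 q755, e3 q764 L15820 q752, e3 q765 L15825 q464, e3 q766 L29487 q1161, e3 q767 L70732 q546, trivial⟩ (by decide +kernel)

theorem ce_b_12 : ∀ r, r < 64 → sm gb (Qf (768 + r)) = Qf (tab Gen.b (768 + r)) :=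
  edges_tab (sm gb) Qf (tab Gen.b) 768 [(768, 613), (769, 1147), (770, 620), (771, 623), (772, 618), (773, 880), (774, 471), (775, 472), (776, 470), (777, 1025), (778, 1009), (779, 651), (780, 645), (781, 1031), (782, 657), (783, 474), (784, 1181), (785, 791), (786, 1182), (787, 477), (788, 1188), (789, 813), (790, 596), (791, 785), (792, 481), (793, 482), (794, 483), (795, 1200), (796, 1196), (797, 1197), (798, 1193), (799, 1198), (800, 1199), (801, 1194), (802, 802), (803, 909), (804, 804), (805, 805), (806, 806), (807, 487), (808, 954), (809, 911), (810, 570), (811, 811), (812, 812), (813, 789), (814, 491), (815, 492), (816, 1221), (817, 731), (818, 1222), (819, 1223), (820, 730), (821, 650), (822, 822), (823, 616), (824, 824), (825, 825), (826, 826), (827, 983), (828, 619), (829, 829), (830, 539), (831, 501)]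
    ⟨e3 q768 L61332 q613, e3 q769 L64492 q1147, e3 q770 L71573 q620, e3 q771 L71590 q623, e3 q772 L42184 q618, e3 q773 L67322 q880, e3 q774 L16074 q471, e3 q775 L16078 q472, e3 q776 L16101 q470, e3 q777 L71634 q1025, e3 q778 L42052 q1009, e3 q779 L71795 q651, e3 q780 L71664 q645, e3 q781 L71738 q1031, e3 q782 L71759 q657, e3 q783 L16369 q474, e3 q784 L30641 q1181, e3 q785 L16406 q791, e3 q786 L30645 q1182, e3 q787 L16386 q477, e3 q788 L30666 q1188, e3 q789 L16518 q813, e3 q790 L52814 q596, e3 q791 L16405 q785, e3 q792 L16411 q481, e3 q793 L16417 q482, e3 q794 L16424 q483, e3 q795 L30740 q1200, e3 q796 L30710 q1196, e3 q797 L30714 q1197, e3 q798 L64654 q1193, e3 q799 L30724 q1198, e3 q800 L30730 q1199, e3 q801 L64729 q1194, e3 q802 L16459 q802, e3 q803 L25197 q909, e3 q804 L16466 q804, e3 q805 L16471 q805, e3 q806 L16474 q806, e3 q807 L16478 q487, e3 q808 L72883 q954, e3 q809 L25215 q911, e3 q810 L16492 q570, e3 q811 L16500 q811, e3 q812 L16507 q812, e3 q813 L16517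 q789, e3 q814 L16523 q491, e3 q815 L16529 q492, e3 q816 L30895 q1221, e3 q817 L52881 q731, e3 q818 L30903 q1222, e3 q819 L30909 q1223, e3 q820 L52764 q730, e3 q821 L52831 q650, e3 q822 L16571 q822, e3 q823 L16577 q616, e3 q824 L16584 q824, e3 q825 L16593 q825, e3 q826 L16600 q826, e3 q827 L26397 q983, e3 q828 L16607 q619, e3 q829 L16615 q829, e3 q830 L70769 q539, e3 q831 L16630 q501, trivial⟩ (by decide +kernel)

theorem ce_b_13 : ∀ r, r < 64 → sm gb (Qf (832 + r)) = Qf (tab Gen.b (832 + r)) :=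
  edges_tab (sm gb) Qf (tab Gen.b) 832 [(832, 502), (833, 1243), (834, 1240), (835, 1241), (836, 578), (837, 1242), (838, 547), (839, 579), (840, 567), (841, 507), (842, 1260), (843, 1257), (844, 1258), (845, 1259), (846, 846), (847, 614), (848, 615), (849, 1156), (850, 621), (851, 622), (852, 514), (853, 1276), (854, 1275), (855, 1274), (856, 536), (857, 530), (858, 648), (859, 527), (860, 1005), (861, 635), (862, 638), (863, 1003), (864, 668), (865, 1048), (866, 995), (867, 624), (868, 681), (869, 994), (870, 710), (871, 1097), (872, 713), (873, 1050), (874, 569), (875, 568), (876, 1089), (877, 545), (878, 1166), (879, 1255), (880, 773), (881, 1071), (882, 1072), (883, 557), (884, 558), (885, 559), (886, 560), (887, 561), (888, 562), (889, 1312), (890, 564), (891, 1314), (892, 566), (893, 1307), (894, 1308), (895, 1323)]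
    ⟨e3 q832 L16636 q502, e3 q833 L31079 q1243, e3 q834 L31048 q1240, e3 q835 L31052 q1241, e3 q836 L72590 q578, e3 q837 L31062 q1242, e3 q838 L70722 q547, e3 q839 L72559 q579, e3 q840 L70619 q567, e3 q841 L16688 q507, e3 q842 L31197 q1260, e3 q843 L31166 q1257, e3 q844 L31170 q1258, e3 q845 L31174 q1259, e3 q846 L64446 q846, e3 q847 L66053 q614, e3 q848 L66024 q615, e3 q849 L66064 q1156, e3 q850 L71594 q621, e3 q851 L71561 q622, e3 q852 L17034 q514, e3 q853 L32077 q1276, e3 q854 L32046 q1275, e3 q855 L72977 q1274, e3 q856 L52977 q536, e3 q857 L52997 q530, e3 q858 L65871 q648, e3 q859 L17158 q527, e3 q860 L71892 q1005, e3 q861 L41733 q635, e3 q862 L71823 q638, e3 q863 L71788 q1003, e3 q864 L71969 q668, e3 q865 L71693 q1048, e3 q866 L41852 q995, e3 q867 L71750 q624, e3 q868 L52931 q681, e3 q869 L41922 q994, e3 q870 L71896 q710, e3 q871 L52487 q1097, e3 q872 L52868 q713, e3 q873 L52846 q1050, e3 q874 L72002 q569, e3 q875 L72007 q568, e3 q876 L72602 q1089, e3 q877 L18907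 q545, e3 q878 L70739 q1166, e3 q879 L70720 q1255, e3 q880 L67321 q773, e3 q881 L28578 q1071, e3 q882 L28584 q1072, e3 q883 L24806 q557, e3 q884 L24812 q558, e3 q885 L24818 q559, e3 q886 L24824 q560, e3 q887 L24830 q561, e3 q888 L24836 q562, e3 q889 L73272 q1312, e3 q890 L24846 q564, e3 q891 L73286 q1314, e3 q892 L24852 q566, e3 q893 L73227 q1307, e3 q894 L73235 q1308, e3 q895 L73358 q1323, trivial⟩ (by decide +kernel)

theorem ce_b_14 : ∀ r, r < 64 → sm gb (Qf (896 + r)) = Qf (tab Gen.b (896 + r)) :=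
  edges_tab (sm gb) Qf (tab Gen.b) 896 [(896, 897), (897, 896), (898, 1310), (899, 1329), (900, 901), (901, 900), (902, 1311), (903, 563), (904, 1337), (905, 1338), (906, 565), (907, 1344), (908, 1345), (909, 803), (910, 1218), (911, 809), (912, 924), (913, 925), (914, 575), (915, 576), (916, 577), (917, 580), (918, 581), (919, 744), (920, 1351), (921, 1237), (922, 1250), (923, 1353), (924, 912), (925, 913), (926, 926), (927, 927), (928, 1362), (929, 929), (930, 930), (931, 1108), (932, 932), (933, 933), (934, 587), (935, 1366), (936, 1367), (937, 1365), (938, 938), (939, 1373), (940, 940), (941, 591), (942, 1375), (943, 1149), (944, 1217), (945, 945), (946, 1016), (947, 947), (948, 597), (949, 598), (950, 1191), (951, 1350), (952, 1381), (953, 953), (954, 808), (955, 955), (956, 603), (957, 1383), (958, 962), (959, 605)]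
    ⟨e3 q896 L72946 q897, e3 q897 L72945 q896, e3 q898 L73249 q1310, e3 q899 L73410 q1329, e3 q900 L72836 q901, e3 q901 L72835 q900, e3 q902 L73255 q1311, e3 q903 L24999 q563, e3 q904 L73487 q1337, e3 q905 L73493 q1338, e3 q906 L25011 q565, e3 q907 L73535 q1344, e3 q908 L73543 q1345, e3 q909 L25196 q803, e3 q910 L30850 q1218, e3 q911 L25214 q809, e3 q912 L25700 q924, e3 q913 L25708 q925, e3 q914 L25633 q575, e3 q915 L25637 q576, e3 q916 L25643 q577, e3 q917 L25659 q580, e3 q918 L25663 q581, e3 q919 L52756 q744, e3 q920 L73594 q1351, e3 q921 L73036 q1237, e3 q922 L73071 q1250, e3 q923 L73608 q1353, e3 q924 L25699 q912, e3 q925 L25707 q913, e3 q926 L72948 q926, e3 q927 L72815 q927, e3 q928 L73659 q1362, e3 q929 L72953 q929, e3 q930 L72952 q930, e3 q931 L73170 q1108, e3 q932 L72838 q932, e3 q933 L72949 q933, e3 q934 L25738 q587, e3 q935 L73680 q1366, e3 q936 L73684 q1367, e3 q937 L73674 q1365, e3 q938 L72801 q938, e3 q939 L73716 q1373, e3 q940 L72951 q940, e3 q941 L25774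 q591, e3 q942 L73730 q1375, e3 q943 L72934 q1149, e3 q944 L72944 q1217, e3 q945 L72839 q945, e3 q946 L73174 q1016, e3 q947 L72950 q947, e3 q948 L25815 q597, e3 q949 L25823 q598, e3 q950 L73115 q1191, e3 q951 L73581 q1350, e3 q952 L73767 q1381, e3 q953 L72817 q953, e3 q954 L72882 q808, e3 q955 L72947 q955, e3 q956 L25886 q603, e3 q957 L73793 q1383, e3 q958 L25916 q962, e3 q959 L25900 q605, trivial⟩ (by decide +kernel)

theorem ce_b_15 : ∀ r, r < 64 → sm gb (Qf (960 + r)) = Qf (tab Gen.b (960 + r)) :=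
  edges_tab (sm gb) Qf (tab Gen.b) 960 [(960, 1387), (961, 970), (962, 958), (963, 608), (964, 609), (965, 734), (966, 1394), (967, 1393), (968, 1395), (969, 1396), (970, 961), (971, 611), (972, 612), (973, 1405), (974, 1406), (975, 1409), (976, 1168), (977, 1169), (978, 1170), (979, 1145), (980, 1271), (981, 1272), (982, 1232), (983, 827), (984, 1154), (985, 1159), (986, 1238), (987, 1171), (988, 1150), (989, 754), (990, 762), (991, 1249), (992, 1293), (993, 1294), (994, 869), (995, 866), (996, 642), (997, 643), (998, 644), (999, 1008), (1000, 633), (1001, 636), (1002, 1133), (1003, 863), (1004, 1251), (1005, 860), (1006, 1433), (1007, 1176), (1008, 999), (1009, 778), (1010, 1032), (1011, 1014), (1012, 1349), (1013, 1427), (1014, 1011), (1015, 1091), (1016, 946), (1017, 1361), (1018, 1178), (1019, 1027), (1020, 1441), (1021, 1281), (1022, 1282), (1023, 652)]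
    ⟨e3 q960 L73821 q1387, e3 q961 L25948 q970, e3 q962 L25915 q958, e3 q963 L25921 q608, e3 q964 L25927 q609, e3 q965 L52537 q734, e3 q966 L73859 q1394, e3 q967 L73853 q1393, e3 q968 L73863 q1395, e3 q969 L73869 q1396, e3 q970 L25947 q961, e3 q971 L25953 q611, e3 q972 L25959 q612, e3 q973 L73931 q1405, e3 q974 L73945 q1406, e3 q975 L73960 q1409, e3 q976 L72861 q1168, e3 q977 L72863 q1169, e3 q978 L72865 q1170, e3 q979 L29287 q1145, e3 q980 L72684 q1271, e3 q981 L72969 q1272, e3 q982 L31001 q1232, e3 q983 L26396 q827, e3 q984 L71557 q1154, e3 q985 L64293 q1159, e3 q986 L31024 q1238, e3 q987 L64346 q1171, e3 q988 L29329 q1150, e3 q989 L26436 q754, e3 q990 L71552 q762, e3 q991 L73069 q1249, e3 q992 L73019 q1293, e3 q993 L73021 q1294, e3 q994 L41923 q869, e3 q995 L41851 q866, e3 q996 L27927 q642, e3 q997 L27933 q643, e3 q998 L27937 q644, e3 q999 L28044 q1008, e3 q1000 L27957 q633, e3 q1001 L27973 q636, e3 q1002 L52759 q1133, e3 q1003 L71787 q863, e3 q1004 L73067 q1251,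 e3 q1005 L71893 q860, e3 q1006 L74147 q1433, e3 q1007 L42049 q1176, e3 q1008 L28043 q999, e3 q1009 L42051 q778, e3 q1010 L28266 q1032, e3 q1011 L28100 q1014, e3 q1012 L73569 q1349, e3 q1013 L74088 q1427, e3 q1014 L28099 q1011, e3 q1015 L72768 q1091, e3 q1016 L73173 q946, e3 q1017 L73655 q1361, e3 q1018 L71650 q1178, e3 q1019 L28220 q1027, e3 q1020 L74217 q1441, e3 q1021 L72958 q1281, e3 q1022 L72960 q1282, e3 q1023 L28165 q652, trivial⟩ (by decide +kernel)

theorem ce_b_16 : ∀ r, r < 64 → sm gb (Qf (1024 + r)) = Qf (tab Gen.b (1024 + r)) :=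
  edges_tab (sm gb) Qf (tab Gen.b) 1024 [(1024, 1177), (1025, 777), (1026, 1033), (1027, 1019), (1028, 656), (1029, 1451), (1030, 1180), (1031, 781), (1032, 1010), (1033, 1026), (1034, 1049), (1035, 1450), (1036, 665), (1037, 666), (1038, 667), (1039, 670), (1040, 1465), (1041, 1466), (1042, 1164), (1043, 1468), (1044, 1469), (1045, 1286), (1046, 1478), (1047, 1471), (1048, 865), (1049, 1034), (1050, 873), (1051, 717), (1052, 718), (1053, 1484), (1054, 720), (1055, 1486), (1056, 722), (1057, 723), (1058, 724), (1059, 1488), (1060, 726), (1061, 727), (1062, 680), (1063, 1491), (1064, 1492), (1065, 1290), (1066, 733), (1067, 1100), (1068, 1101), (1069, 1102), (1070, 712), (1071, 881), (1072, 882), (1073, 698), (1074, 699), (1075, 700), (1076, 701), (1077, 702), (1078, 703), (1079, 704), (1080, 706), (1081, 1505), (1082, 708), (1083, 709), (1084, 1509), (1085, 758), (1086, 1501), (1087, 1514)]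
    ⟨e3 q1024 L71791 q1177, e3 q1025 L71633 q777, e3 q1026 L28274 q1033, e3 q1027 L28219 q1019, e3 q1028 L28225 q656, e3 q1029 L74304 q1451, e3 q1030 L71753 q1180, e3 q1031 L71739 q781, e3 q1032 L28265 q1010, e3 q1033 L28273 q1026, e3 q1034 L28386 q1049, e3 q1035 L74298 q1450, e3 q1036 L28293 q665, e3 q1037 L28301 q666, e3 q1038 L28305 q667, e3 q1039 L28327 q670, e3 q1040 L74421 q1465, e3 q1041 L74429 q1466, e3 q1042 L73750 q1164, e3 q1043 L74439 q1468, e3 q1044 L74445 q1469, e3 q1045 L72514 q1286, e3 q1046 L74507 q1478, e3 q1047 L74459 q1471, e3 q1048 L71692 q865, e3 q1049 L28385 q1034, e3 q1050 L52847 q873, e3 q1051 L28403 q717, e3 q1052 L28413 q718, e3 q1053 L74559 q1484, e3 q1054 L28423 q720, e3 q1055 L74569 q1486, e3 q1056 L28431 q722, e3 q1057 L28439 q723, e3 q1058 L28443 q724, e3 q1059 L74587 q1488, e3 q1060 L28453 q726, e3 q1061 L28461 q727, e3 q1062 L28469 q680, e3 q1063 L74610 q1491, e3 q1064 L74618 q1492, e3 q1065 L72789 q1290, e3 q1066 L28509 q733, e3 q1067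 L28841 q1100, e3 q1068 L28851 q1101, e3 q1069 L28861 q1102, e3 q1070 L28545 q712, e3 q1071 L28577 q881, e3 q1072 L28583 q882, e3 q1073 L28589 q698, e3 q1074 L28595 q699, e3 q1075 L28601 q700, e3 q1076 L28607 q701, e3 q1077 L28613 q702, e3 q1078 L28619 q703, e3 q1079 L28625 q704, e3 q1080 L28643 q706, e3 q1081 L74734 q1505, e3 q1082 L28653 q708, e3 q1083 L28657 q709, e3 q1084 L74758 q1509, e3 q1085 L52750 q758, e3 q1086 L74703 q1501, e3 q1087 L74796 q1514, trivial⟩ (by decide +kernel)

theorem ce_b_17 : ∀ r, r < 64 → sm gb (Qf (1088 + r)) = Qf (tab Gen.b (1088 + r)) :=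
  edges_tab (sm gb) Qf (tab Gen.b) 1088 [(1088, 1503), (1089, 876), (1090, 757), (1091, 1015), (1092, 1226), (1093, 707), (1094, 1516), (1095, 1302), (1096, 1301), (1097, 871), (1098, 711), (1099, 1440), (1100, 1067), (1101, 1068), (1102, 1069), (1103, 1524), (1104, 1107), (1105, 719), (1106, 721), (1107, 1104), (1108, 931), (1109, 1378), (1110, 725), (1111, 1526), (1112, 1527), (1113, 1528), (1114, 1115), (1115, 1114), (1116, 1225), (1117, 1457), (1118, 1334), (1119, 1496), (1120, 1397), (1121, 1398), (1122, 735), (1123, 1536), (1124, 1298), (1125, 1125), (1126, 1126), (1127, 739), (1128, 741), (1129, 1539), (1130, 1134), (1131, 1540), (1132, 1354), (1133, 1002), (1134, 1130), (1135, 748), (1136, 749), (1137, 750), (1138, 1547), (1139, 1548), (1140, 1545), (1141, 1549), (1142, 1550), (1143, 1546), (1144, 1148), (1145, 979), (1146, 1160), (1147, 769), (1148, 1144), (1149, 943), (1150, 988), (1151, 1155)]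
    ⟨e3 q1088 L74717 q1503, e3 q1089 L72601 q876, e3 q1090 L52754 q757, e3 q1091 L72769 q1015, e3 q1092 L72773 q1226, e3 q1093 L28767 q707, e3 q1094 L74813 q1516, e3 q1095 L72998 q1302, e3 q1096 L72996 q1301, e3 q1097 L52488 q871, e3 q1098 L28813 q711, e3 q1099 L74214 q1440, e3 q1100 L28840 q1067, e3 q1101 L28850 q1068, e3 q1102 L28860 q1069, e3 q1103 L74888 q1524, e3 q1104 L28905 q1107, e3 q1105 L28879 q719, e3 q1106 L28895 q721, e3 q1107 L28904 q1104, e3 q1108 L73169 q931, e3 q1109 L73761 q1378, e3 q1110 L28937 q725, e3 q1111 L74919 q1526, e3 q1112 L74929 q1527, e3 q1113 L74937 q1528, e3 q1114 L28957 q1115, e3 q1115 L28956 q1114, e3 q1116 L72766 q1225, e3 q1117 L74357 q1457, e3 q1118 L73461 q1334, e3 q1119 L74659 q1496, e3 q1120 L73877 q1397, e3 q1121 L73889 q1398, e3 q1122 L29070 q735, e3 q1123 L75018 q1536, e3 q1124 L72698 q1298, e3 q1125 L29097 q1125, e3 q1126 L29102 q1126, e3 q1127 L29110 q739, e3 q1128 L29165 q741, e3 q1129 L75038 q1539, e3 q1130 L29215 q1134,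 e3 q1131 L75042 q1540, e3 q1132 L73620 q1354, e3 q1133 L52760 q1002, e3 q1134 L29214 q1130, e3 q1135 L29220 q748, e3 q1136 L29226 q749, e3 q1137 L29234 q750, e3 q1138 L75087 q1547, e3 q1139 L75092 q1548, e3 q1140 L75068 q1545, e3 q1141 L75099 q1549, e3 q1142 L75105 q1550, e3 q1143 L75077 q1546, e3 q1144 L29317 q1148, e3 q1145 L29286 q979, e3 q1146 L29479 q1160, e3 q1147 L64491 q769, e3 q1148 L29316 q1144, e3 q1149 L72933 q943, e3 q1150 L29328 q988, e3 q1151 L29427 q1155, trivial⟩ (by decide +kernel)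

theorem ce_b_18 : ∀ r, r < 64 → sm gb (Qf (1152 + r)) = Qf (tab Gen.b (1152 + r)) :=
  edges_tab (sm gb) Qf (tab Gen.b) 1152 [(1152, 1511), (1153, 1157), (1154, 984), (1155, 1151), (1156, 849), (1157, 1153), (1158, 1422), (1159, 985), (1160, 1146), (1161, 766), (1162, 1570), (1163, 1517), (1164, 1042), (1165, 1359), (1166, 878), (1167, 1577), (1168, 976), (1169, 977), (1170, 978), (1171, 987), (1172, 1586), (1173, 1304), (1174, 1305), (1175, 1432), (1176, 1007), (1177, 1024), (1178, 1018), (1179, 1455), (1180, 1030), (1181, 784), (1182, 786), (1183, 1602), (1184, 1599), (1185, 1600), (1186, 1598), (1187, 1601), (1188, 788), (1189, 1612), (1190, 1487), (1191, 950), (1192, 1611), (1193, 798), (1194, 801), (1195, 1205), (1196, 796), (1197, 797), (1198, 799), (1199, 800), (1200, 795), (1201, 1202), (1202, 1201), (1203, 1620), (1204, 1621), (1205, 1195), (1206, 1619), (1207, 1618), (1208, 1631), (1209, 1623), (1210, 1622), (1211, 1624), (1212, 1212), (1213, 1347), (1214,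 1214), (1215, 1637)]
    ⟨e3 q1152 L74775 q1511, e3 q1153 L29449 q1157, e3 q1154 L71556 q984, e3 q1155 L29426 q1151, e3 q1156 L66063 q849, e3 q1157 L29448 q1153, e3 q1158 L74053 q1422, e3 q1159 L64292 q985, e3 q1160 L29478 q1146, e3 q1161 L29486 q766, e3 q1162 L75260 q1570, e3 q1163 L74821 q1517, e3 q1164 L73749 q1042, e3 q1165 L73642 q1359, e3 q1166 L70738 q878, e3 q1167 L75314 q1577, e3 q1168 L72860 q976, e3 q1169 L72862 q977, e3 q1170 L72864 q978, e3 q1171 L64347 q987, e3 q1172 L75392 q1586, e3 q1173 L72984 q1304, e3 q1174 L72986 q1305, e3 q1175 L74138 q1432, e3 q1176 L42048 q1007, e3 q1177 L71790 q1024, e3 q1178 L71649 q1018, e3 q1179 L74338 q1455, e3 q1180 L71752 q1030, e3 q1181 L30640 q784, e3 q1182 L30644 q786, e3 q1183 L75521 q1602, e3 q1184 L75504 q1599, e3 q1185 L75510 q1600, e3 q1186 L75648 q1598, e3 q1187 L75520 q1601, e3 q1188 L30665 q788, e3 q1189 L75587 q1612, e3 q1190 L74582 q1487, e3 q1191 L73116 q950, e3 q1192 L75578 q1611, e3 q1193 L64653 q798, e3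 q1194 L64730 q801, e3 q1195 L72924 q1205, e3 q1196 L30709 q796, e3 q1197 L30713 q797, e3 q1198 L30723 q799, e3 q1199 L30729 q800, e3 q1200 L30741 q795, e3 q1201 L72926 q1202, e3 q1202 L72925 q1201, e3 q1203 L75662 q1620, e3 q1204 L75670 q1621, e3 q1205 L72923 q1195, e3 q1206 L75638 q1619, e3 q1207 L75634 q1618, e3 q1208 L75737 q1631, e3 q1209 L75690 q1623, e3 q1210 L75684 q1622, e3 q1211 L75698 q1624, e3 q1212 L30808 q1212, e3 q1213 L73557 q1347, e3 q1214 L30815 q1214, e3 q1215 L75769 q1637, trivial⟩ (by decide +kernel)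

theorem ce_b_19 : ∀ r, r < 64 → sm gb (Qf (1216 + r)) = Qf (tab Gen.b (1216 + r)) :=
  edges_tab (sm gb) Qf (tab Gen.b) 1216 [(1216, 1216), (1217, 944), (1218, 910), (1219, 1219), (1220, 1220), (1221, 816), (1222, 818), (1223, 819), (1224, 1644), (1225, 1116), (1226, 1092), (1227, 1648), (1228, 1306), (1229, 1525), (1230, 1652), (1231, 1231), (1232, 982), (1233, 1233), (1234, 1658), (1235, 1429), (1236, 1420), (1237, 921), (1238, 986), (1239, 1664), (1240, 834), (1241, 835), (1242, 837), (1243, 833), (1244, 1667), (1245, 1668), (1246, 1669), (1247, 1661), (1248, 1665), (1249, 991), (1250, 922), (1251, 1004), (1252, 1680), (1253, 1453), (1254, 1521), (1255, 879), (1256, 1683), (1257, 843), (1258, 844), (1259, 845), (1260, 842), (1261, 1692), (1262, 1691), (1263, 1693), (1264, 1694), (1265, 1687), (1266, 1688), (1267, 1689), (1268, 1690), (1269, 1269), (1270, 1270), (1271, 980), (1272, 981), (1273, 1565), (1274, 855), (1275, 854), (1276, 853), (1277, 1703), (1278, 1704),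 (1279, 1702)]
    ⟨e3 q1216 L30824 q1216, e3 q1217 L72943 q944, e3 q1218 L30849 q910, e3 q1219 L30865 q1219, e3 q1220 L30870 q1220, e3 q1221 L30894 q816, e3 q1222 L30902 q818, e3 q1223 L30908 q819, e3 q1224 L75829 q1644, e3 q1225 L72767 q1116, e3 q1226 L72772 q1092, e3 q1227 L75854 q1648, e3 q1228 L73217 q1306, e3 q1229 L74905 q1525, e3 q1230 L75882 q1652, e3 q1231 L30993 q1231, e3 q1232 L31000 q982, e3 q1233 L31004 q1233, e3 q1234 L75919 q1658, e3 q1235 L74106 q1429, e3 q1236 L74029 q1420, e3 q1237 L73037 q921, e3 q1238 L31023 q986, e3 q1239 L75967 q1664, e3 q1240 L31047 q834, e3 q1241 L31051 q835, e3 q1242 L31061 q837, e3 q1243 L31080 q833, e3 q1244 L75989 q1667, e3 q1245 L75993 q1668, e3 q1246 L76001 q1669, e3 q1247 L75937 q1661, e3 q1248 L75979 q1665, e3 q1249 L73068 q991, e3 q1250 L73070 q922, e3 q1251 L73066 q1004, e3 q1252 L76078 q1680, e3 q1253 L74325 q1453, e3 q1254 L74859 q1521, e3 q1255 L70719 q879, e3 q1256 L76104 q1683, e3 q1257 L31165 q843, e3 q1258 L31169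 q844, e3 q1259 L31173 q845, e3 q1260 L31198 q842, e3 q1261 L76175 q1692, e3 q1262 L76169 q1691, e3 q1263 L76179 q1693, e3 q1264 L76187 q1694, e3 q1265 L76135 q1687, e3 q1266 L76143 q1688, e3 q1267 L76151 q1689, e3 q1268 L76161 q1690, e3 q1269 L72892 q1269, e3 q1270 L72893 q1270, e3 q1271 L72683 q980, e3 q1272 L72970 q981, e3 q1273 L75227 q1565, e3 q1274 L72976 q855, e3 q1275 L32045 q854, e3 q1276 L32078 q853, e3 q1277 L76249 q1703, e3 q1278 L76261 q1704, e3 q1279 L76237 q1702, trivial⟩ (by decide +kernel)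

theorem ce_b_20 : ∀ r, r < 64 → sm gb (Qf (1280 + r)) = Qf (tab Gen.b (1280 + r)) :=
  edges_tab (sm gb) Qf (tab Gen.b) 1280 [(1280, 1303), (1281, 1021), (1282, 1022), (1283, 1710), (1284, 1431), (1285, 1430), (1286, 1045), (1287, 1713), (1288, 1408), (1289, 1289), (1290, 1065), (1291, 1424), (1292, 1674), (1293, 992), (1294, 993), (1295, 1719), (1296, 1423), (1297, 1425), (1298, 1124), (1299, 1437), (1300, 1725), (1301, 1096), (1302, 1095), (1303, 1280), (1304, 1173), (1305, 1174), (1306, 1228), (1307, 893), (1308, 894), (1309, 1732), (1310, 898), (1311, 902), (1312, 889), (1313, 1336), (1314, 891), (1315, 1700), (1316, 1343), (1317, 1735), (1318, 1327), (1319, 1328), (1320, 1532), (1321, 1333), (1322, 1335), (1323, 895), (1324, 1738), (1325, 1739), (1326, 1737), (1327, 1318), (1328, 1319), (1329, 899), (1330, 1567), (1331, 1569), (1332, 1662), (1333, 1321), (1334, 1118), (1335, 1322), (1336, 1313), (1337, 904), (1338, 905), (1339, 1745), (1340, 1746), (1341, 1747),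 (1342, 1748), (1343, 1316)]
    ⟨e3 q1280 L73090 q1303, e3 q1281 L72957 q1021, e3 q1282 L72959 q1022, e3 q1283 L76298 q1710, e3 q1284 L74126 q1431, e3 q1285 L74112 q1430, e3 q1286 L72513 q1045, e3 q1287 L76324 q1713, e3 q1288 L73955 q1408, e3 q1289 L73097 q1289, e3 q1290 L72788 q1065, e3 q1291 L74069 q1424, e3 q1292 L76041 q1674, e3 q1293 L73018 q992, e3 q1294 L73020 q993, e3 q1295 L76364 q1719, e3 q1296 L74061 q1423, e3 q1297 L74076 q1425, e3 q1298 L72699 q1124, e3 q1299 L74188 q1437, e3 q1300 L76410 q1725, e3 q1301 L72997 q1096, e3 q1302 L72999 q1095, e3 q1303 L73091 q1280, e3 q1304 L72983 q1173, e3 q1305 L72987 q1174, e3 q1306 L73216 q1228, e3 q1307 L73226 q893, e3 q1308 L73234 q894, e3 q1309 L76468 q1732, e3 q1310 L73248 q898, e3 q1311 L73254 q902, e3 q1312 L73273 q889, e3 q1313 L73481 q1336, e3 q1314 L73287 q891, e3 q1315 L76218 q1700, e3 q1316 L73529 q1343, e3 q1317 L76500 q1735, e3 q1318 L73393 q1327, e3 q1319 L73405 q1328, e3 q1320 L74965 q1532, e3 q1321 L73449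 q1333, e3 q1322 L73469 q1335, e3 q1323 L73359 q895, e3 q1324 L76529 q1738, e3 q1325 L76537 q1739, e3 q1326 L76521 q1737, e3 q1327 L73392 q1318, e3 q1328 L73404 q1319, e3 q1329 L73411 q899, e3 q1330 L75241 q1567, e3 q1331 L75253 q1569, e3 q1332 L75947 q1662, e3 q1333 L73448 q1321, e3 q1334 L73460 q1118, e3 q1335 L73468 q1322, e3 q1336 L73480 q1313, e3 q1337 L73486 q904, e3 q1338 L73492 q905, e3 q1339 L76601 q1745, e3 q1340 L76605 q1746, e3 q1341 L76609 q1747, e3 q1342 L76615 q1748, e3 q1343 L73528 q1316, trivial⟩ (by decide +kernel)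

theorem ce_b_21 : ∀ r, r < 64 → sm gb (Qf (1344 + r)) = Qf (tab Gen.b (1344 + r)) :=
  edges_tab (sm gb) Qf (tab Gen.b) 1344 [(1344, 907), (1345, 908), (1346, 1752), (1347, 1213), (1348, 1639), (1349, 1012), (1350, 951), (1351, 920), (1352, 1483), (1353, 923), (1354, 1132), (1355, 1759), (1356, 1651), (1357, 1655), (1358, 1663), (1359, 1165), (1360, 1764), (1361, 1017), (1362, 928), (1363, 1766), (1364, 1767), (1365, 937), (1366, 935), (1367, 936), (1368, 1583), (1369, 1769), (1370, 1771), (1371, 1772), (1372, 1765), (1373, 939), (1374, 1775), (1375, 942), (1376, 1428), (1377, 1776), (1378, 1109), (1379, 1777), (1380, 1616), (1381, 952), (1382, 1779), (1383, 957), (1384, 1781), (1385, 1782), (1386, 1392), (1387, 960), (1388, 1784), (1389, 1724), (1390, 1592), (1391, 1403), (1392, 1386), (1393, 967), (1394, 966), (1395, 968), (1396, 969), (1397, 1120), (1398, 1121), (1399, 1780), (1400, 1789), (1401, 1788), (1402, 1790), (1403, 1391), (1404, 1751), (1405, 973), (1406,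 974), (1407, 1795)]
    ⟨e3 q1344 L73534 q907, e3 q1345 L73542 q908, e3 q1346 L76658 q1752, e3 q1347 L73556 q1213, e3 q1348 L75785 q1639, e3 q1349 L73568 q1012, e3 q1350 L73580 q951, e3 q1351 L73593 q920, e3 q1352 L74558 q1483, e3 q1353 L73607 q923, e3 q1354 L73619 q1132, e3 q1355 L76697 q1759, e3 q1356 L75875 q1651, e3 q1357 L75900 q1655, e3 q1358 L75959 q1663, e3 q1359 L73641 q1165, e3 q1360 L76729 q1764, e3 q1361 L73656 q1017, e3 q1362 L73660 q928, e3 q1363 L76750 q1766, e3 q1364 L76758 q1767, e3 q1365 L73673 q937, e3 q1366 L73679 q935, e3 q1367 L73683 q936, e3 q1368 L75363 q1583, e3 q1369 L76775 q1769, e3 q1370 L76787 q1771, e3 q1371 L76793 q1772, e3 q1372 L76740 q1765, e3 q1373 L73717 q939, e3 q1374 L76819 q1775, e3 q1375 L73729 q942, e3 q1376 L74098 q1428, e3 q1377 L76828 q1776, e3 q1378 L73762 q1109, e3 q1379 L76831 q1777, e3 q1380 L75614 q1616, e3 q1381 L73768 q952, e3 q1382 L76839 q1779, e3 q1383 L73792 q957, e3 q1384 L76865 q1781, e3 q1385 L76877 q1782, e3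 q1386 L73849 q1392, e3 q1387 L73820 q960, e3 q1388 L76886 q1784, e3 q1389 L76405 q1724, e3 q1390 L75457 q1592, e3 q1391 L73925 q1403, e3 q1392 L73848 q1386, e3 q1393 L73852 q967, e3 q1394 L73858 q966, e3 q1395 L73862 q968, e3 q1396 L73868 q969, e3 q1397 L73876 q1120, e3 q1398 L73888 q1121, e3 q1399 L76855 q1780, e3 q1400 L76931 q1789, e3 q1401 L76923 q1788, e3 q1402 L76941 q1790, e3 q1403 L73924 q1391, e3 q1404 L76650 q1751, e3 q1405 L73930 q973, e3 q1406 L73944 q974, e3 q1407 L76986 q1795, trivial⟩ (by decide +kernel)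

theorem ce_b_22 : ∀ r, r < 64 → sm gb (Qf (1408 + r)) = Qf (tab Gen.b (1408 + r)) :=
  edges_tab (sm gb) Qf (tab Gen.b) 1408 [(1408, 1288), (1409, 975), (1410, 1798), (1411, 1797), (1412, 1799), (1413, 1581), (1414, 1582), (1415, 1584), (1416, 1656), (1417, 1804), (1418, 1805), (1419, 1564), (1420, 1236), (1421, 1585), (1422, 1158), (1423, 1296), (1424, 1291), (1425, 1297), (1426, 1756), (1427, 1013), (1428, 1376), (1429, 1235), (1430, 1285), (1431, 1284), (1432, 1175), (1433, 1006), (1434, 1435), (1435, 1434), (1436, 1814), (1437, 1299), (1438, 1816), (1439, 1449), (1440, 1099), (1441, 1020), (1442, 1817), (1443, 1818), (1444, 1819), (1445, 1520), (1446, 1519), (1447, 1590), (1448, 1458), (1449, 1439), (1450, 1035), (1451, 1029), (1452, 1596), (1453, 1253), (1454, 1597), (1455, 1179), (1456, 1504), (1457, 1117), (1458, 1448), (1459, 1825), (1460, 1481), (1461, 1482), (1462, 1822), (1463, 1823), (1464, 1793), (1465, 1040), (1466, 1041), (1467, 1572), (1468, 1043),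 (1469, 1044), (1470, 1834), (1471, 1047)]
    ⟨e3 q1408 L73954 q1288, e3 q1409 L73961 q975, e3 q1410 L77011 q1798, e3 q1411 L77003 q1797, e3 q1412 L77017 q1799, e3 q1413 L75347 q1581, e3 q1414 L75355 q1582, e3 q1415 L75373 q1584, e3 q1416 L75908 q1656, e3 q1417 L77049 q1804, e3 q1418 L77053 q1805, e3 q1419 L75219 q1564, e3 q1420 L74028 q1236, e3 q1421 L75387 q1585, e3 q1422 L74052 q1158, e3 q1423 L74060 q1296, e3 q1424 L74068 q1291, e3 q1425 L74075 q1297, e3 q1426 L76690 q1756, e3 q1427 L74087 q1013, e3 q1428 L74097 q1376, e3 q1429 L74105 q1235, e3 q1430 L74111 q1285, e3 q1431 L74125 q1284, e3 q1432 L74137 q1175, e3 q1433 L74148 q1006, e3 q1434 L74172 q1435, e3 q1435 L74171 q1434, e3 q1436 L77135 q1814, e3 q1437 L74187 q1299, e3 q1438 L77149 q1816, e3 q1439 L74284 q1449, e3 q1440 L74213 q1099, e3 q1441 L74218 q1020, e3 q1442 L77168 q1817, e3 q1443 L77178 q1818, e3 q1444 L77186 q1819, e3 q1445 L74847 q1520, e3 q1446 L74839 q1519, e3 q1447 L75441 q1590, e3 q1448 L74371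 q1458, e3 q1449 L74283 q1439, e3 q1450 L74297 q1035, e3 q1451 L74303 q1029, e3 q1452 L75486 q1596, e3 q1453 L74326 q1253, e3 q1454 L75496 q1597, e3 q1455 L74337 q1179, e3 q1456 L74731 q1504, e3 q1457 L74356 q1117, e3 q1458 L74370 q1448, e3 q1459 L77249 q1825, e3 q1460 L74529 q1481, e3 q1461 L74542 q1482, e3 q1462 L77220 q1822, e3 q1463 L77226 q1823, e3 q1464 L76971 q1793, e3 q1465 L74420 q1040, e3 q1466 L74428 q1041, e3 q1467 L75277 q1572, e3 q1468 L74438 q1043, e3 q1469 L74444 q1044, e3 q1470 L77332 q1834, e3 q1471 L74458 q1047, trivial⟩ (by decide +kernel)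

theorem ce_b_23 : ∀ r, r < 64 → sm gb (Qf (1472 + r)) = Qf (tab Gen.b (1472 + r)) :=
  edges_tab (sm gb) Qf (tab Gen.b) 1472 [(1472, 1574), (1473, 1830), (1474, 1836), (1475, 1576), (1476, 1712), (1477, 1833), (1478, 1046), (1479, 1837), (1480, 1838), (1481, 1460), (1482, 1461), (1483, 1352), (1484, 1053), (1485, 1500), (1486, 1055), (1487, 1190), (1488, 1059), (1489, 1843), (1490, 1508), (1491, 1063), (1492, 1064), (1493, 1847), (1494, 1718), (1495, 1848), (1496, 1119), (1497, 1705), (1498, 1522), (1499, 1523), (1500, 1485), (1501, 1086), (1502, 1853), (1503, 1088), (1504, 1456), (1505, 1081), (1506, 1660), (1507, 1855), (1508, 1490), (1509, 1084), (1510, 1857), (1511, 1152), (1512, 1861), (1513, 1617), (1514, 1087), (1515, 1863), (1516, 1094), (1517, 1163), (1518, 1864), (1519, 1446), (1520, 1445), (1521, 1254), (1522, 1498), (1523, 1499), (1524, 1103), (1525, 1229), (1526, 1111), (1527, 1112), (1528, 1113), (1529, 1866), (1530, 1867), (1531, 1787), (1532, 1320),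 (1533, 1743), (1534, 1535), (1535, 1534)]
    ⟨e3 q1472 L75291 q1574, e3 q1473 L77303 q1830, e3 q1474 L77348 q1836, e3 q1475 L75309 q1576, e3 q1476 L76319 q1712, e3 q1477 L77327 q1833, e3 q1478 L74508 q1046, e3 q1479 L77363 q1837, e3 q1480 L77373 q1838, e3 q1481 L74530 q1460, e3 q1482 L74541 q1461, e3 q1483 L74557 q1352, e3 q1484 L74560 q1053, e3 q1485 L74697 q1500, e3 q1486 L74570 q1055, e3 q1487 L74581 q1190, e3 q1488 L74588 q1059, e3 q1489 L77424 q1843, e3 q1490 L74755 q1508, e3 q1491 L74609 q1063, e3 q1492 L74617 q1064, e3 q1493 L77468 q1847, e3 q1494 L76357 q1718, e3 q1495 L77482 q1848, e3 q1496 L74658 q1119, e3 q1497 L76273 q1705, e3 q1498 L74869 q1522, e3 q1499 L74881 q1523, e3 q1500 L74696 q1485, e3 q1501 L74702 q1086, e3 q1502 L77533 q1853, e3 q1503 L74716 q1088, e3 q1504 L74730 q1456, e3 q1505 L74735 q1081, e3 q1506 L75929 q1660, e3 q1507 L77562 q1855, e3 q1508 L74754 q1490, e3 q1509 L74759 q1084, e3 q1510 L77582 q1857, e3 q1511 L74774 q1152, e3 q1512 L77609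 q1861, e3 q1513 L75622 q1617, e3 q1514 L74797 q1087, e3 q1515 L77630 q1863, e3 q1516 L74812 q1094, e3 q1517 L74820 q1163, e3 q1518 L77635 q1864, e3 q1519 L74838 q1446, e3 q1520 L74846 q1445, e3 q1521 L74858 q1254, e3 q1522 L74868 q1498, e3 q1523 L74880 q1499, e3 q1524 L74889 q1103, e3 q1525 L74904 q1229, e3 q1526 L74918 q1111, e3 q1527 L74928 q1112, e3 q1528 L74936 q1113, e3 q1529 L77660 q1866, e3 q1530 L77672 q1867, e3 q1531 L76915 q1787, e3 q1532 L74964 q1320, e3 q1533 L76589 q1743, e3 q1534 L75001 q1535, e3 q1535 L75000 q1534, trivial⟩ (by decide +kernel)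

theorem ce_b_24 : ∀ r, r < 64 → sm gb (Qf (1536 + r)) = Qf (tab Gen.b (1536 + r)) :=
  edges_tab (sm gb) Qf (tab Gen.b) 1536 [(1536, 1123), (1537, 1537), (1538, 1538), (1539, 1129), (1540, 1131), (1541, 1872), (1542, 1873), (1543, 1874), (1544, 1875), (1545, 1140), (1546, 1143), (1547, 1138), (1548, 1139), (1549, 1141), (1550, 1142), (1551, 1883), (1552, 1884), (1553, 1881), (1554, 1882), (1555, 1890), (1556, 1886), (1557, 1887), (1558, 1770), (1559, 1560), (1560, 1559), (1561, 1563), (1562, 1898), (1563, 1561), (1564, 1419), (1565, 1273), (1566, 1901), (1567, 1330), (1568, 1809), (1569, 1331), (1570, 1162), (1571, 1904), (1572, 1467), (1573, 1905), (1574, 1472), (1575, 1763), (1576, 1475), (1577, 1167), (1578, 1910), (1579, 1911), (1580, 1912), (1581, 1413), (1582, 1414), (1583, 1368), (1584, 1415), (1585, 1421), (1586, 1172), (1587, 1588), (1588, 1587), (1589, 1812), (1590, 1447), (1591, 1916), (1592, 1390), (1593, 1593), (1594, 1810), (1595, 1681), (1596, 1452),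 (1597, 1454), (1598, 1186), (1599, 1184)]
    ⟨e3 q1536 L75017 q1123, e3 q1537 L75025 q1537, e3 q1538 L75031 q1538, e3 q1539 L75037 q1129, e3 q1540 L75041 q1131, e3 q1541 L77707 q1872, e3 q1542 L77711 q1873, e3 q1543 L77717 q1874, e3 q1544 L77723 q1875, e3 q1545 L75067 q1140, e3 q1546 L75076 q1143, e3 q1547 L75086 q1138, e3 q1548 L75091 q1139, e3 q1549 L75098 q1141, e3 q1550 L75104 q1142, e3 q1551 L77797 q1883, e3 q1552 L77809 q1884, e3 q1553 L77775 q1881, e3 q1554 L77788 q1882, e3 q1555 L77871 q1890, e3 q1556 L77834 q1886, e3 q1557 L77842 q1887, e3 q1558 L76781 q1770, e3 q1559 L75185 q1560, e3 q1560 L75184 q1559, e3 q1561 L75209 q1563, e3 q1562 L77947 q1898, e3 q1563 L75208 q1561, e3 q1564 L75218 q1419, e3 q1565 L75226 q1273, e3 q1566 L77969 q1901, e3 q1567 L75240 q1330, e3 q1568 L77084 q1809, e3 q1569 L75252 q1331, e3 q1570 L75261 q1162, e3 q1571 L78012 q1904, e3 q1572 L75276 q1467, e3 q1573 L78022 q1905, e3 q1574 L75290 q1472, e3 q1575 L76720 q1763, e3 q1576 L75308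 q1475, e3 q1577 L75315 q1167, e3 q1578 L78080 q1910, e3 q1579 L78086 q1911, e3 q1580 L78096 q1912, e3 q1581 L75346 q1413, e3 q1582 L75354 q1414, e3 q1583 L75362 q1368, e3 q1584 L75372 q1415, e3 q1585 L75386 q1421, e3 q1586 L75393 q1172, e3 q1587 L75415 q1588, e3 q1588 L75414 q1587, e3 q1589 L77110 q1812, e3 q1590 L75440 q1447, e3 q1591 L78132 q1916, e3 q1592 L75456 q1390, e3 q1593 L75466 q1593, e3 q1594 L77094 q1810, e3 q1595 L76091 q1681, e3 q1596 L75485 q1452, e3 q1597 L75495 q1454, e3 q1598 L75647 q1186, e3 q1599 L75503 q1184, trivial⟩ (by decide +kernel)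

theorem ce_b_25 : ∀ r, r < 64 → sm gb (Qf (1600 + r)) = Qf (tab Gen.b (1600 + r)) :=
  edges_tab (sm gb) Qf (tab Gen.b) 1600 [(1600, 1185), (1601, 1187), (1602, 1183), (1603, 1927), (1604, 1928), (1605, 1924), (1606, 1922), (1607, 1925), (1608, 1921), (1609, 1923), (1610, 1933), (1611, 1192), (1612, 1189), (1613, 1935), (1614, 1936), (1615, 1934), (1616, 1380), (1617, 1513), (1618, 1207), (1619, 1206), (1620, 1203), (1621, 1204), (1622, 1210), (1623, 1209), (1624, 1211), (1625, 1626), (1626, 1625), (1627, 1945), (1628, 1941), (1629, 1940), (1630, 1939), (1631, 1208), (1632, 1947), (1633, 1948), (1634, 1943), (1635, 1942), (1636, 1944), (1637, 1215), (1638, 1951), (1639, 1348), (1640, 1828), (1641, 1641), (1642, 1953), (1643, 1643), (1644, 1224), (1645, 1955), (1646, 1956), (1647, 1730), (1648, 1227), (1649, 1957), (1650, 1958), (1651, 1356), (1652, 1230), (1653, 1961), (1654, 1909), (1655, 1357), (1656, 1416), (1657, 1965), (1658, 1234), (1659, 1827), (1660, 1506),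 (1661, 1247), (1662, 1332), (1663, 1358)]
    ⟨e3 q1600 L75509 q1185, e3 q1601 L75519 q1187, e3 q1602 L75522 q1183, e3 q1603 L78241 q1927, e3 q1604 L78249 q1928, e3 q1605 L78211 q1924, e3 q1606 L78197 q1922, e3 q1607 L78219 q1925, e3 q1608 L78187 q1921, e3 q1609 L78205 q1923, e3 q1610 L78286 q1933, e3 q1611 L75577 q1192, e3 q1612 L75588 q1189, e3 q1613 L78315 q1935, e3 q1614 L78323 q1936, e3 q1615 L78305 q1934, e3 q1616 L75613 q1380, e3 q1617 L75621 q1513, e3 q1618 L75633 q1207, e3 q1619 L75637 q1206, e3 q1620 L75661 q1203, e3 q1621 L75669 q1204, e3 q1622 L75683 q1210, e3 q1623 L75689 q1209, e3 q1624 L75697 q1211, e3 q1625 L75712 q1626, e3 q1626 L75711 q1625, e3 q1627 L78404 q1945, e3 q1628 L78367 q1941, e3 q1629 L78356 q1940, e3 q1630 L78349 q1939, e3 q1631 L75738 q1208, e3 q1632 L78427 q1947, e3 q1633 L78432 q1948, e3 q1634 L78385 q1943, e3 q1635 L78375 q1942, e3 q1636 L78397 q1944, e3 q1637 L75770 q1215, e3 q1638 L78462 q1951, e3 q1639 L75784 q1348, e3 q1640 L77290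 q1828, e3 q1641 L75796 q1641, e3 q1642 L78475 q1953, e3 q1643 L75813 q1643, e3 q1644 L75828 q1224, e3 q1645 L78494 q1955, e3 q1646 L78498 q1956, e3 q1647 L76453 q1730, e3 q1648 L75855 q1227, e3 q1649 L78513 q1957, e3 q1650 L78521 q1958, e3 q1651 L75874 q1356, e3 q1652 L75883 q1230, e3 q1653 L78547 q1961, e3 q1654 L78070 q1909, e3 q1655 L75899 q1357, e3 q1656 L75907 q1416, e3 q1657 L78585 q1965, e3 q1658 L75920 q1234, e3 q1659 L77280 q1827, e3 q1660 L75928 q1506, e3 q1661 L75936 q1247, e3 q1662 L75946 q1332, e3 q1663 L75958 q1358, trivial⟩ (by decide +kernel)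

theorem ce_b_26 : ∀ r, r < 64 → sm gb (Qf (1664 + r)) = Qf (tab Gen.b (1664 + r)) :=
  edges_tab (sm gb) Qf (tab Gen.b) 1664 [(1664, 1239), (1665, 1248), (1666, 1678), (1667, 1244), (1668, 1245), (1669, 1246), (1670, 1893), (1671, 1967), (1672, 1888), (1673, 1968), (1674, 1292), (1675, 1792), (1676, 1952), (1677, 1854), (1678, 1666), (1679, 1865), (1680, 1252), (1681, 1595), (1682, 1975), (1683, 1256), (1684, 1976), (1685, 1977), (1686, 1978), (1687, 1265), (1688, 1266), (1689, 1267), (1690, 1268), (1691, 1262), (1692, 1261), (1693, 1263), (1694, 1264), (1695, 1982), (1696, 1980), (1697, 1869), (1698, 1761), (1699, 1986), (1700, 1315), (1701, 1988), (1702, 1279), (1703, 1277), (1704, 1278), (1705, 1497), (1706, 1974), (1707, 1813), (1708, 1989), (1709, 1728), (1710, 1283), (1711, 1711), (1712, 1476), (1713, 1287), (1714, 1991), (1715, 1715), (1716, 1716), (1717, 1717), (1718, 1494), (1719, 1295), (1720, 1897), (1721, 1993), (1722, 1734), (1723, 1996), (1724, 1389),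 (1725, 1300), (1726, 1846), (1727, 1845)]
    ⟨e3 q1664 L75966 q1239, e3 q1665 L75978 q1248, e3 q1666 L76064 q1678, e3 q1667 L75988 q1244, e3 q1668 L75992 q1245, e3 q1669 L76000 q1246, e3 q1670 L77900 q1893, e3 q1671 L78607 q1967, e3 q1672 L77854 q1888, e3 q1673 L78617 q1968, e3 q1674 L76040 q1292, e3 q1675 L76957 q1792, e3 q1676 L78471 q1952, e3 q1677 L77548 q1854, e3 q1678 L76065 q1666, e3 q1679 L77646 q1865, e3 q1680 L76079 q1252, e3 q1681 L76090 q1595, e3 q1682 L78702 q1975, e3 q1683 L76105 q1256, e3 q1684 L78716 q1976, e3 q1685 L78722 q1977, e3 q1686 L78730 q1978, e3 q1687 L76134 q1265, e3 q1688 L76142 q1266, e3 q1689 L76150 q1267, e3 q1690 L76160 q1268, e3 q1691 L76168 q1262, e3 q1692 L76174 q1261, e3 q1693 L76178 q1263, e3 q1694 L76186 q1264, e3 q1695 L78770 q1982, e3 q1696 L78754 q1980, e3 q1697 L77687 q1869, e3 q1698 L76711 q1761, e3 q1699 L78800 q1986, e3 q1700 L76217 q1315, e3 q1701 L78820 q1988, e3 q1702 L76236 q1279, e3 q1703 L76248 q1277, e3 q1704 L76260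 q1278, e3 q1705 L76272 q1497, e3 q1706 L78688 q1974, e3 q1707 L77131 q1813, e3 q1708 L78832 q1989, e3 q1709 L76434 q1728, e3 q1710 L76299 q1283, e3 q1711 L76314 q1711, e3 q1712 L76318 q1476, e3 q1713 L76325 q1287, e3 q1714 L78848 q1991, e3 q1715 L76332 q1715, e3 q1716 L76341 q1716, e3 q1717 L76349 q1717, e3 q1718 L76356 q1494, e3 q1719 L76365 q1295, e3 q1720 L77944 q1897, e3 q1721 L78867 q1993, e3 q1722 L76491 q1734, e3 q1723 L78902 q1996, e3 q1724 L76404 q1389, e3 q1725 L76411 q1300, e3 q1726 L77454 q1846, e3 q1727 L77442 q1845, trivial⟩ (by decide +kernel)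

theorem ce_b_27 : ∀ r, r < 64 → sm gb (Qf (1728 + r)) = Qf (tab Gen.b (1728 + r)) :=
  edges_tab (sm gb) Qf (tab Gen.b) 1728 [(1728, 1709), (1729, 1997), (1730, 1647), (1731, 1999), (1732, 1309), (1733, 1744), (1734, 1722), (1735, 1317), (1736, 2000), (1737, 1326), (1738, 1324), (1739, 1325), (1740, 1926), (1741, 2001), (1742, 1902), (1743, 1533), (1744, 1733), (1745, 1339), (1746, 1340), (1747, 1341), (1748, 1342), (1749, 2002), (1750, 2003), (1751, 1404), (1752, 1346), (1753, 2005), (1754, 2006), (1755, 1972), (1756, 1426), (1757, 1841), (1758, 1981), (1759, 1355), (1760, 2010), (1761, 1698), (1762, 1899), (1763, 1575), (1764, 1360), (1765, 1372), (1766, 1363), (1767, 1364), (1768, 2011), (1769, 1369), (1770, 1558), (1771, 1370), (1772, 1371), (1773, 1859), (1774, 2012), (1775, 1374), (1776, 1377), (1777, 1379), (1778, 2015), (1779, 1382), (1780, 1399), (1781, 1384), (1782, 1385), (1783, 2016), (1784, 1388), (1785, 2018), (1786, 2017), (1787, 1531), (1788, 1401),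 (1789, 1400), (1790, 1402), (1791, 1826)]
    ⟨e3 q1728 L76433 q1709, e3 q1729 L78910 q1997, e3 q1730 L76452 q1647, e3 q1731 L78932 q1999, e3 q1732 L76469 q1309, e3 q1733 L76597 q1744, e3 q1734 L76490 q1722, e3 q1735 L76501 q1317, e3 q1736 L78947 q2000, e3 q1737 L76520 q1326, e3 q1738 L76528 q1324, e3 q1739 L76536 q1325, e3 q1740 L78233 q1926, e3 q1741 L78961 q2001, e3 q1742 L77986 q1902, e3 q1743 L76588 q1533, e3 q1744 L76596 q1733, e3 q1745 L76600 q1339, e3 q1746 L76604 q1340, e3 q1747 L76608 q1341, e3 q1748 L76614 q1342, e3 q1749 L78973 q2002, e3 q1750 L78985 q2003, e3 q1751 L76649 q1404, e3 q1752 L76657 q1346, e3 q1753 L79006 q2005, e3 q1754 L79008 q2006, e3 q1755 L78666 q1972, e3 q1756 L76689 q1426, e3 q1757 L77403 q1841, e3 q1758 L78764 q1981, e3 q1759 L76698 q1355, e3 q1760 L79042 q2010, e3 q1761 L76712 q1698, e3 q1762 L77954 q1899, e3 q1763 L76719 q1575, e3 q1764 L76730 q1360, e3 q1765 L76739 q1372, e3 q1766 L76749 q1363, e3 q1767 L76757 q1364, e3 q1768 L79052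 q2011, e3 q1769 L76774 q1369, e3 q1770 L76780 q1558, e3 q1771 L76786 q1370, e3 q1772 L76792 q1371, e3 q1773 L77598 q1859, e3 q1774 L79064 q2012, e3 q1775 L76818 q1374, e3 q1776 L76827 q1377, e3 q1777 L76832 q1379, e3 q1778 L79100 q2015, e3 q1779 L76840 q1382, e3 q1780 L76854 q1399, e3 q1781 L76864 q1384, e3 q1782 L76876 q1385, e3 q1783 L79105 q2016, e3 q1784 L76887 q1388, e3 q1785 L79130 q2018, e3 q1786 L79120 q2017, e3 q1787 L76914 q1531, e3 q1788 L76922 q1401, e3 q1789 L76930 q1400, e3 q1790 L76940 q1402, e3 q1791 L77268 q1826, trivial⟩ (by decide +kernel)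

theorem ce_b_28 : ∀ r, r < 64 → sm gb (Qf (1792 + r)) = Qf (tab Gen.b (1792 + r)) :=
  edges_tab (sm gb) Qf (tab Gen.b) 1792 [(1792, 1675), (1793, 1464), (1794, 2019), (1795, 1407), (1796, 2020), (1797, 1411), (1798, 1410), (1799, 1412), (1800, 1913), (1801, 1914), (1802, 1860), (1803, 1964), (1804, 1417), (1805, 1418), (1806, 1985), (1807, 2022), (1808, 2023), (1809, 1568), (1810, 1594), (1811, 1984), (1812, 1589), (1813, 1707), (1814, 1436), (1815, 2024), (1816, 1438), (1817, 1442), (1818, 1443), (1819, 1444), (1820, 2025), (1821, 2026), (1822, 1462), (1823, 1463), (1824, 1903), (1825, 1459), (1826, 1791), (1827, 1659), (1828, 1640), (1829, 1907), (1830, 1473), (1831, 2027), (1832, 1849), (1833, 1477), (1834, 1470), (1835, 2028), (1836, 1474), (1837, 1479), (1838, 1480), (1839, 2030), (1840, 2031), (1841, 1757), (1842, 1851), (1843, 1489), (1844, 1856), (1845, 1727), (1846, 1726), (1847, 1493), (1848, 1495), (1849, 1832), (1850, 1920), (1851, 1842), (1852, 2034),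 (1853, 1502), (1854, 1677), (1855, 1507)]
    ⟨e3 q1792 L76956 q1675, e3 q1793 L76970 q1464, e3 q1794 L79135 q2019, e3 q1795 L76987 q1407, e3 q1796 L79154 q2020, e3 q1797 L77002 q1411, e3 q1798 L77010 q1410, e3 q1799 L77016 q1412, e3 q1800 L78106 q1913, e3 q1801 L78117 q1914, e3 q1802 L77606 q1860, e3 q1803 L78578 q1964, e3 q1804 L77050 q1417, e3 q1805 L77054 q1418, e3 q1806 L78796 q1985, e3 q1807 L79172 q2022, e3 q1808 L79181 q2023, e3 q1809 L77083 q1568, e3 q1810 L77093 q1594, e3 q1811 L78786 q1984, e3 q1812 L77109 q1589, e3 q1813 L77132 q1707, e3 q1814 L77136 q1436, e3 q1815 L79194 q2024, e3 q1816 L77150 q1438, e3 q1817 L77167 q1442, e3 q1818 L77177 q1443, e3 q1819 L77185 q1444, e3 q1820 L79208 q2025, e3 q1821 L79222 q2026, e3 q1822 L77219 q1462, e3 q1823 L77225 q1463, e3 q1824 L77998 q1903, e3 q1825 L77250 q1459, e3 q1826 L77267 q1791, e3 q1827 L77279 q1659, e3 q1828 L77289 q1640, e3 q1829 L78046 q1907, e3 q1830 L77302 q1473, e3 q1831 L79231 q2027, e3 q1832 L77496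 q1849, e3 q1833 L77326 q1477, e3 q1834 L77333 q1470, e3 q1835 L79246 q2028, e3 q1836 L77349 q1474, e3 q1837 L77362 q1479, e3 q1838 L77372 q1480, e3 q1839 L79264 q2030, e3 q1840 L79276 q2031, e3 q1841 L77402 q1757, e3 q1842 L77518 q1851, e3 q1843 L77423 q1489, e3 q1844 L77574 q1856, e3 q1845 L77441 q1727, e3 q1846 L77453 q1726, e3 q1847 L77467 q1493, e3 q1848 L77481 q1495, e3 q1849 L77495 q1832, e3 q1850 L78175 q1920, e3 q1851 L77517 q1842, e3 q1852 L79309 q2034, e3 q1853 L77534 q1502, e3 q1854 L77547 q1677, e3 q1855 L77561 q1507, trivial⟩ (by decide +kernel)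

theorem ce_b_29 : ∀ r, r < 64 → sm gb (Qf (1856 + r)) = Qf (tab Gen.b (1856 + r)) :=
  edges_tab (sm gb) Qf (tab Gen.b) 1856 [(1856, 1844), (1857, 1510), (1858, 2035), (1859, 1773), (1860, 1802), (1861, 1512), (1862, 2014), (1863, 1515), (1864, 1518), (1865, 1679), (1866, 1529), (1867, 1530), (1868, 1868), (1869, 1697), (1870, 1870), (1871, 1889), (1872, 1541), (1873, 1542), (1874, 1543), (1875, 1544), (1876, 2038), (1877, 1885), (1878, 2039), (1879, 2040), (1880, 2041), (1881, 1553), (1882, 1554), (1883, 1551), (1884, 1552), (1885, 1877), (1886, 1556), (1887, 1557), (1888, 1672), (1889, 1871), (1890, 1555), (1891, 1966), (1892, 1970), (1893, 1670), (1894, 2037), (1895, 2042), (1896, 2013), (1897, 1720), (1898, 1562), (1899, 1762), (1900, 2044), (1901, 1566), (1902, 1742), (1903, 1824), (1904, 1571), (1905, 1573), (1906, 1994), (1907, 1829), (1908, 1995), (1909, 1654), (1910, 1578), (1911, 1579), (1912, 1580), (1913, 1800), (1914, 1801), (1915, 2047), (1916, 1591),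 (1917, 2048), (1918, 1918), (1919, 1919)]
    ⟨e3 q1856 L77573 q1844, e3 q1857 L77581 q1510, e3 q1858 L79319 q2035, e3 q1859 L77597 q1773, e3 q1860 L77605 q1802, e3 q1861 L77610 q1512, e3 q1862 L79092 q2014, e3 q1863 L77629 q1515, e3 q1864 L77636 q1518, e3 q1865 L77645 q1679, e3 q1866 L77659 q1529, e3 q1867 L77671 q1530, e3 q1868 L77675 q1868, e3 q1869 L77688 q1697, e3 q1870 L77693 q1870, e3 q1871 L77864 q1889, e3 q1872 L77706 q1541, e3 q1873 L77710 q1542, e3 q1874 L77716 q1543, e3 q1875 L77722 q1544, e3 q1876 L79358 q2038, e3 q1877 L77823 q1885, e3 q1878 L79368 q2039, e3 q1879 L79380 q2040, e3 q1880 L79392 q2041, e3 q1881 L77774 q1553, e3 q1882 L77787 q1554, e3 q1883 L77796 q1551, e3 q1884 L77808 q1552, e3 q1885 L77824 q1877, e3 q1886 L77833 q1556, e3 q1887 L77841 q1557, e3 q1888 L77853 q1672, e3 q1889 L77863 q1871, e3 q1890 L77872 q1555, e3 q1891 L78599 q1966, e3 q1892 L78642 q1970, e3 q1893 L77899 q1670, e3 q1894 L79346 q2037, e3 q1895 L79404 q2042, e3 q1896 L79076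 q2013, e3 q1897 L77943 q1720, e3 q1898 L77948 q1562, e3 q1899 L77953 q1762, e3 q1900 L79427 q2044, e3 q1901 L77970 q1566, e3 q1902 L77985 q1742, e3 q1903 L77997 q1824, e3 q1904 L78011 q1571, e3 q1905 L78021 q1573, e3 q1906 L78881 q1994, e3 q1907 L78045 q1829, e3 q1908 L78893 q1995, e3 q1909 L78069 q1654, e3 q1910 L78079 q1578, e3 q1911 L78085 q1579, e3 q1912 L78095 q1580, e3 q1913 L78105 q1800, e3 q1914 L78116 q1801, e3 q1915 L79466 q2047, e3 q1916 L78133 q1591, e3 q1917 L79483 q2048, e3 q1918 L78152 q1918, e3 q1919 L78163 q1919, trivial⟩ (by decide +kernel)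

theorem ce_b_30 : ∀ r, r < 64 → sm gb (Qf (1920 + r)) = Qf (tab Gen.b (1920 + r)) :=
  edges_tab (sm gb) Qf (tab Gen.b) 1920 [(1920, 1850), (1921, 1608), (1922, 1606), (1923, 1609), (1924, 1605), (1925, 1607), (1926, 1740), (1927, 1603), (1928, 1604), (1929, 1931), (1930, 1962), (1931, 1929), (1932, 2050), (1933, 1610), (1934, 1615), (1935, 1613), (1936, 1614), (1937, 2052), (1938, 2051), (1939, 1630), (1940, 1629), (1941, 1628), (1942, 1635), (1943, 1634), (1944, 1636), (1945, 1627), (1946, 1950), (1947, 1632), (1948, 1633), (1949, 2043), (1950, 1946), (1951, 1638), (1952, 1676), (1953, 1642), (1954, 2053), (1955, 1645), (1956, 1646), (1957, 1649), (1958, 1650), (1959, 2054), (1960, 2055), (1961, 1653), (1962, 1930), (1963, 1973), (1964, 1803), (1965, 1657), (1966, 1891), (1967, 1671), (1968, 1673), (1969, 2036), (1970, 1892), (1971, 2029), (1972, 1755), (1973, 1963), (1974, 1706), (1975, 1682), (1976, 1684), (1977, 1685), (1978, 1686), (1979, 2049), (1980, 1696),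 (1981, 1758), (1982, 1695), (1983, 1983)]
    ⟨e3 q1920 L78174 q1850, e3 q1921 L78186 q1608, e3 q1922 L78196 q1606, e3 q1923 L78204 q1609, e3 q1924 L78210 q1605, e3 q1925 L78218 q1607, e3 q1926 L78232 q1740, e3 q1927 L78240 q1603, e3 q1928 L78248 q1604, e3 q1929 L78271 q1931, e3 q1930 L78558 q1962, e3 q1931 L78270 q1929, e3 q1932 L79509 q2050, e3 q1933 L78287 q1610, e3 q1934 L78304 q1615, e3 q1935 L78314 q1613, e3 q1936 L78322 q1614, e3 q1937 L79533 q2052, e3 q1938 L79521 q2051, e3 q1939 L78348 q1630, e3 q1940 L78357 q1629, e3 q1941 L78366 q1628, e3 q1942 L78374 q1635, e3 q1943 L78384 q1634, e3 q1944 L78396 q1636, e3 q1945 L78405 q1627, e3 q1946 L78450 q1950, e3 q1947 L78426 q1632, e3 q1948 L78431 q1633, e3 q1949 L79418 q2043, e3 q1950 L78449 q1946, e3 q1951 L78461 q1638, e3 q1952 L78472 q1676, e3 q1953 L78476 q1642, e3 q1954 L79542 q2053, e3 q1955 L78495 q1645, e3 q1956 L78499 q1646, e3 q1957 L78512 q1649, e3 q1958 L78520 q1650, e3 q1959 L79561 q2054, e3 q1960 L79571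 q2055, e3 q1961 L78546 q1653, e3 q1962 L78557 q1930, e3 q1963 L78674 q1973, e3 q1964 L78577 q1803, e3 q1965 L78586 q1657, e3 q1966 L78598 q1891, e3 q1967 L78606 q1671, e3 q1968 L78616 q1673, e3 q1969 L79340 q2036, e3 q1970 L78641 q1892, e3 q1971 L79259 q2029, e3 q1972 L78665 q1755, e3 q1973 L78673 q1963, e3 q1974 L78687 q1706, e3 q1975 L78701 q1682, e3 q1976 L78715 q1684, e3 q1977 L78721 q1685, e3 q1978 L78729 q1686, e3 q1979 L79501 q2049, e3 q1980 L78753 q1696, e3 q1981 L78763 q1758, e3 q1982 L78769 q1695, e3 q1983 L78780 q1983, trivial⟩ (by decide +kernel)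

theorem ce_b_31 : ∀ r, r < 64 → sm gb (Qf (1984 + r)) = Qf (tab Gen.b (1984 + r)) :=
  edges_tab (sm gb) Qf (tab Gen.b) 1984 [(1984, 1811), (1985, 1806), (1986, 1699), (1987, 2021), (1988, 1701), (1989, 1708), (1990, 1990), (1991, 1714), (1992, 1992), (1993, 1721), (1994, 1906), (1995, 1908), (1996, 1723), (1997, 1729), (1998, 2009), (1999, 1731), (2000, 1736), (2001, 1741), (2002, 1749), (2003, 1750), (2004, 2057), (2005, 1753), (2006, 1754), (2007, 2046), (2008, 2008), (2009, 1998), (2010, 1760), (2011, 1768), (2012, 1774), (2013, 1896), (2014, 1862), (2015, 1778), (2016, 1783), (2017, 1786), (2018, 1785), (2019, 1794), (2020, 1796), (2021, 1987), (2022, 1807), (2023, 1808), (2024, 1815), (2025, 1820), (2026, 1821), (2027, 1831), (2028, 1835), (2029, 1971), (2030, 1839), (2031, 1840), (2032, 2033), (2033, 2032), (2034, 1852), (2035, 1858), (2036, 1969), (2037, 1894), (2038, 1876), (2039, 1878), (2040, 1879), (2041, 1880), (2042, 1895), (2043, 1949), (2044, 1900),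 (2045, 2045), (2046, 2007), (2047, 1915)]
    ⟨e3 q1984 L78785 q1811, e3 q1985 L78795 q1806, e3 q1986 L78801 q1699, e3 q1987 L79166 q2021, e3 q1988 L78821 q1701, e3 q1989 L78831 q1708, e3 q1990 L78840 q1990, e3 q1991 L78847 q1714, e3 q1992 L78853 q1992, e3 q1993 L78866 q1721, e3 q1994 L78880 q1906, e3 q1995 L78892 q1908, e3 q1996 L78903 q1723, e3 q1997 L78911 q1729, e3 q1998 L79034 q2009, e3 q1999 L78933 q1731, e3 q2000 L78946 q1736, e3 q2001 L78960 q1741, e3 q2002 L78972 q1749, e3 q2003 L78984 q1750, e3 q2004 L79591 q2057, e3 q2005 L79007 q1753, e3 q2006 L79009 q1754, e3 q2007 L79458 q2046, e3 q2008 L79030 q2008, e3 q2009 L79033 q1998, e3 q2010 L79041 q1760, e3 q2011 L79051 q1768, e3 q2012 L79063 q1774, e3 q2013 L79075 q1896, e3 q2014 L79091 q1862, e3 q2015 L79099 q1778, e3 q2016 L79106 q1783, e3 q2017 L79119 q1786, e3 q2018 L79129 q1785, e3 q2019 L79136 q1794, e3 q2020 L79153 q1796, e3 q2021 L79165 q1987, e3 q2022 L79171 q1807, e3 q2023 L79182 q1808, e3 q2024 L79193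 q1815, e3 q2025 L79207 q1820, e3 q2026 L79221 q1821, e3 q2027 L79232 q1831, e3 q2028 L79245 q1835, e3 q2029 L79260 q1971, e3 q2030 L79263 q1839, e3 q2031 L79275 q1840, e3 q2032 L79306 q2033, e3 q2033 L79305 q2032, e3 q2034 L79310 q1852, e3 q2035 L79320 q1858, e3 q2036 L79339 q1969, e3 q2037 L79345 q1894, e3 q2038 L79357 q1876, e3 q2039 L79367 q1878, e3 q2040 L79379 q1879, e3 q2041 L79391 q1880, e3 q2042 L79403 q1895, e3 q2043 L79417 q1949, e3 q2044 L79428 q1900, e3 q2045 L79450 q2045, e3 q2046 L79457 q2007, e3 q2047 L79467 q1915, trivial⟩ (by decide +kernel)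

theorem ce_b_32 : ∀ r, r < 10 → sm gb (Qf (2048 + r)) = Qf (tab Gen.b (2048 + r)) :=
  edges_tab (sm gb) Qf (tab Gen.b) 2048 [(2048, 1917), (2049, 1979), (2050, 1932), (2051, 1938), (2052, 1937), (2053, 1954), (2054, 1959), (2055, 1960), (2056, 2056), (2057, 2004)]
    ⟨e3 q2048 L79482 q1917, e3 q2049 L79500 q1979, e3 q2050 L79508 q1932, e3 q2051 L79520 q1938, e3 q2052 L79532 q1937, e3 q2053 L79543 q1954, e3 q2054 L79560 q1959, e3 q2055 L79570 q1960, e3 q2056 L79582 q2056, e3 q2057 L79592 q2004, trivial⟩ (by decide +kernel)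

theorem cl_b : ∀ i, i < 2058 → sm gb (Qf i) = Qf (tab Gen.b i) :=
  all_of_chunks (fun i => sm gb (Qf i) = Qf (tab Gen.b i)) 32 10
    ⟨ce_b_0, ce_b_1, ce_b_2, ce_b_3, ce_b_4, ce_b_5, ce_b_6, ce_b_7, ce_b_8, ce_b_9, ce_b_10, ce_b_11, ce_b_12, ce_b_13, ce_b_14, ce_b_15, ce_b_16, ce_b_17, ce_b_18, ce_b_19, ce_b_20, ce_b_21, ce_b_22, ce_b_23, ce_b_24, ce_b_25, ce_b_26, ce_b_27, ce_b_28, ce_b_29, ce_b_30, ce_b_31, trivial⟩
    ce_b_32

theorem ce_c_0 : ∀ r, r < 64 → sm gc (Qf (0 + r)) = Qf (tab Gen.c (0 + r)) :=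
  edges_tab (sm gc) Qf (tab Gen.c) 0 [(0, 0), (1, 3), (2, 2), (3, 1), (4, 7), (5, 9), (6, 12), (7, 4), (8, 15), (9, 5), (10, 20), (11, 21), (12, 6), (13, 25), (14, 26), (15, 8), (16, 30), (17, 31), (18, 28), (19, 36), (20, 10), (21, 11), (22, 39), (23, 23), (24, 24), (25, 13), (26, 14), (27, 48), (28, 18), (29, 29), (30, 16), (31, 17), (32, 58), (33, 51), (34, 63), (35, 53), (36, 19), (37, 66), (38, 67), (39, 22), (40, 40), (41, 41), (42, 72), (43, 43), (44, 44), (45, 45), (46, 46), (47, 77), (48, 27), (49, 86), (50, 89), (51, 33), (52, 92), (53, 35), (54, 54), (55, 55), (56, 56), (57, 97), (58, 32), (59, 80), (60, 107), (61, 108), (62, 91), (63, 34)]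
    ⟨e3 q0 L1 q0, e3 q1 L17 q3, e3 q2 L14 q2, e3 q3 L18 q1, e3 q4 L43 q7, e3 q5 L52 q9, e3 q6 L65 q12, e3 q7 L42 q4, e3 q8 L86 q15, e3 q9 L53 q5, e3 q10 L113 q20, e3 q11 L119 q21, e3 q12 L66 q6, e3 q13 L138 q25, e3 q14 L143 q26, e3 q15 L87 q8, e3 q16 L206 q30, e3 q17 L212 q31, e3 q18 L198 q28, e3 q19 L237 q36, e3 q20 L112 q10, e3 q21 L118 q11, e3 q22 L258 q39, e3 q23 L129 q23, e3 q24 L133 q24, e3 q25 L137 q13, e3 q26 L142 q14, e3 q27 L323 q48, e3 q28 L197 q18, e3 q29 L69926 q29, e3 q30 L205 q16, e3 q31 L211 q17, e3 q32 L461 q58, e3 q33 L425 q51, e3 q34 L497 q63, e3 q35 L440 q53, e3 q36 L238 q19, e3 q37 L512 q66, e3 q38 L519 q67, e3 q39 L257 q22, e3 q40 L276 q40, e3 q41 L285 q41, e3 q42 L563 q72, e3 q43 L298 q43, e3 q44 L307 q44, e3 q45 L311 q45, e3 q46 L315 q46, e3 q47 L1023 q77, e3 q48 L322 q27, e3 q49 L660 q86, e3 q50 L684 q89, e3 q51 L424 q33, e3 q52 L851 q92, e3 q53 L439 q35, e3 q54 L70464 q54, e3 q55 L68014 q55, e3 q56 L69740 q56, e3 q57 L70462 q97, e3 q58 L460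 q32, e3 q59 L69816 q80, e3 q60 L941 q107, e3 q61 L948 q108, e3 q62 L846 q91, e3 q63 L498 q34, trivial⟩ (by decide +kernel)

theorem ce_c_1 : ∀ r, r < 64 → sm gc (Qf (64 + r)) = Qf (tab Gen.c (64 + r)) :=
  edges_tab (sm gc) Qf (tab Gen.c) 64 [(64, 113), (65, 111), (66, 37), (67, 38), (68, 69), (69, 68), (70, 118), (71, 71), (72, 42), (73, 123), (74, 124), (75, 125), (76, 131), (77, 47), (78, 78), (79, 79), (80, 59), (81, 81), (82, 82), (83, 134), (84, 135), (85, 143), (86, 49), (87, 145), (88, 146), (89, 50), (90, 150), (91, 62), (92, 52), (93, 156), (94, 157), (95, 158), (96, 163), (97, 57), (98, 98), (99, 99), (100, 100), (101, 101), (102, 166), (103, 167), (104, 147), (105, 138), (106, 139), (107, 60), (108, 61), (109, 176), (110, 177), (111, 65), (112, 180), (113, 64), (114, 179), (115, 174), (116, 116), (117, 117), (118, 70), (119, 187), (120, 188), (121, 189), (122, 195), (123, 73), (124, 74), (125, 75), (126, 196), (127, 197)]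
    ⟨e3 q64 L982 q113, e3 q65 L974 q111, e3 q66 L511 q37, e3 q67 L518 q38, e3 q68 L533 q69, e3 q69 L532 q68, e3 q70 L1015 q118, e3 q71 L551 q71, e3 q72 L564 q42, e3 q73 L2007 q123, e3 q74 L1068 q124, e3 q75 L1073 q125, e3 q76 L1112 q131, e3 q77 L1022 q47, e3 q78 L612 q78, e3 q79 L618 q79, e3 q80 L69817 q59, e3 q81 L629 q81, e3 q82 L640 q82, e3 q83 L1146 q134, e3 q84 L1153 q135, e3 q85 L1218 q143, e3 q86 L661 q49, e3 q87 L1250 q145, e3 q88 L1255 q146, e3 q89 L685 q50, e3 q90 L1639 q150, e3 q91 L845 q62, e3 q92 L852 q52, e3 q93 L1679 q156, e3 q94 L1683 q157, e3 q95 L1687 q158, e3 q96 L1720 q163, e3 q97 L70461 q57, e3 q98 L70477 q98, e3 q99 L70453 q99, e3 q100 L67963 q100, e3 q101 L70488 q101, e3 q102 L70270 q166, e3 q103 L70437 q167, e3 q104 L69823 q147, e3 q105 L69858 q138, e3 q106 L45654 q139, e3 q107 L942 q60, e3 q108 L949 q61, e3 q109 L1934 q176, e3 q110 L1946 q177, e3 q111 L973 q65, e3 q112 L1965 q180, e3 q113 L981 q64, e3 q114 L1960 q179, e3 q115 L1924 q174, e3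 q116 L1006 q116, e3 q117 L1014 q117, e3 q118 L1016 q70, e3 q119 L1994 q187, e3 q120 L2015 q188, e3 q121 L2021 q189, e3 q122 L2072 q195, e3 q123 L2006 q73, e3 q124 L1067 q74, e3 q125 L1072 q75, e3 q126 L2112 q196, e3 q127 L2119 q197, trivial⟩ (by decide +kernel)

theorem ce_c_2 : ∀ r, r < 64 → sm gc (Qf (128 + r)) = Qf (tab Gen.c (128 + r)) :=
  edges_tab (sm gc) Qf (tab Gen.c) 128 [(128, 204), (129, 199), (130, 201), (131, 76), (132, 209), (133, 210), (134, 83), (135, 84), (136, 214), (137, 217), (138, 105), (139, 106), (140, 142), (141, 218), (142, 140), (143, 85), (144, 207), (145, 87), (146, 88), (147, 104), (148, 148), (149, 228), (150, 90), (151, 231), (152, 233), (153, 234), (154, 239), (155, 240), (156, 93), (157, 94), (158, 95), (159, 245), (160, 246), (161, 248), (162, 250), (163, 96), (164, 255), (165, 256), (166, 102), (167, 103), (168, 216), (169, 213), (170, 172), (171, 258), (172, 170), (173, 261), (174, 115), (175, 265), (176, 109), (177, 110), (178,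 271), (179, 114), (180, 112), (181, 278), (182, 279), (183, 280), (184, 286), (185, 289), (186, 290), (187, 119), (188, 120), (189, 121), (190, 291), (191, 292)]
    ⟨e3 q128 L2152 q204, e3 q129 L2129 q199, e3 q130 L2139 q201, e3 q131 L1113 q76, e3 q132 L2197 q209, e3 q133 L2201 q210, e3 q134 L1145 q83, e3 q135 L1152 q84, e3 q136 L2306 q214, e3 q137 L2317 q217, e3 q138 L69857 q105, e3 q139 L45655 q106, e3 q140 L71084 q142, e3 q141 L2387 q218, e3 q142 L71085 q140, e3 q143 L1219 q85, e3 q144 L2191 q207, e3 q145 L1249 q87, e3 q146 L1254 q88, e3 q147 L69822 q104, e3 q148 L1343 q148, e3 q149 L2693 q228, e3 q150 L1640 q90, e3 q151 L53626 q231, e3 q152 L3263 q233, e3 q153 L3269 q234, e3 q154 L3314 q239, e3 q155 L3366 q240, e3 q156 L1678 q93, e3 q157 L1682 q94, e3 q158 L1686 q95, e3 q159 L3379 q245, e3 q160 L3385 q246, e3 q161 L3393 q248, e3 q162 L3401 q250, e3 q163 L1721 q96, e3 q164 L3456 q255, e3 q165 L3460 q256, e3 q166 L70271 q102, e3 q167 L70436 q103, e3 q168 L70542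 q216, e3 q169 L70447 q213, e3 q170 L70260 q172, e3 q171 L3636 q258, e3 q172 L70261 q170, e3 q173 L3765 q261, e3 q174 L1923 q115, e3 q175 L3787 q265, e3 q176 L1933 q109, e3 q177 L1945 q110, e3 q178 L3817 q271, e3 q179 L1959 q114, e3 q180 L1966 q112, e3 q181 L3850 q278, e3 q182 L3854 q279, e3 q183 L3858 q280, e3 q184 L3881 q286, e3 q185 L3887 q289, e3 q186 L3892 q290, e3 q187 L1993 q119, e3 q188 L2014 q120, e3 q189 L2020 q121, e3 q190 L3908 q291, e3 q191 L3918 q292, trivial⟩ (by decide +kernel)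

theorem ce_c_3 : ∀ r, r < 64 → sm gc (Qf (192 + r)) = Qf (tab Gen.c (192 + r)) :=
  edges_tab (sm gc) Qf (tab Gen.c) 192 [(192, 299), (193, 294), (194, 296), (195, 122), (196, 126), (197, 127), (198, 305), (199, 129), (200, 309), (201, 130), (202, 313), (203, 316), (204, 128), (205, 318), (206, 319), (207, 144), (208, 324), (209, 132), (210, 133), (211, 330), (212, 332), (213, 169), (214, 136), (215, 335), (216, 168), (217, 137), (218, 141), (219, 230), (220, 229), (221, 301), (222, 333), (223, 321), (224, 323), (225, 336), (226, 343), (227, 344), (228, 149), (229, 220), (230, 219), (231, 151), (232, 277), (233, 152), (234, 153), (235, 349), (236, 350), (237, 355), (238, 357), (239, 154), (240, 155), (241, 362), (242, 363), (243, 364), (244, 372), (245, 159), (246, 160), (247, 377), (248, 161), (249, 379), (250, 162), (251, 381), (252, 382), (253, 253), (254, 254), (255, 164)]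
    ⟨e3 q192 L3965 q299, e3 q193 L3930 q294, e3 q194 L3944 q296, e3 q195 L2073 q122, e3 q196 L2111 q126, e3 q197 L2118 q127, e3 q198 L4107 q305, e3 q199 L2128 q129, e3 q200 L4118 q309, e3 q201 L2138 q130, e3 q202 L4129 q313, e3 q203 L4141 q316, e3 q204 L2153 q128, e3 q205 L4164 q318, e3 q206 L4213 q319, e3 q207 L2190 q144, e3 q208 L4253 q324, e3 q209 L2196 q132, e3 q210 L2200 q133, e3 q211 L4276 q330, e3 q212 L4429 q332, e3 q213 L70446 q169, e3 q214 L2307 q136, e3 q215 L4468 q335, e3 q216 L70543 q168, e3 q217 L2318 q137, e3 q218 L2388 q141, e3 q219 L68335 q230, e3 q220 L68306 q229, e3 q221 L4020 q301, e3 q222 L70742 q333, e3 q223 L4230 q321, e3 q224 L4246 q323, e3 q225 L70729 q336, e3 q226 L5007 q343, e3 q227 L5255 q344, e3 q228 L2694 q149, e3 q229 L68307 q220, e3 q230 L68336 q219, e3 q231 L53627 q151, e3 q232 L3845 q277, e3 q233 L3262 q152, e3 q234 L3268 q153, e3 q235 L70274 q349, e3 q236 L68840 q350, e3 q237 L6524 q355, e3 q238 L6536 q357, e3 q239 L3315 q154, e3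 q240 L3367 q155, e3 q241 L6717 q362, e3 q242 L6721 q363, e3 q243 L6725 q364, e3 q244 L6756 q372, e3 q245 L3378 q159, e3 q246 L3384 q160, e3 q247 L6770 q377, e3 q248 L3392 q161, e3 q249 L6774 q379, e3 q250 L3400 q162, e3 q251 L6778 q381, e3 q252 L6790 q382, e3 q253 L67922 q253, e3 q254 L3452 q254, e3 q255 L3455 q164, trivial⟩ (by decide +kernel)

theorem ce_c_4 : ∀ r, r < 64 → sm gc (Qf (256 + r)) = Qf (tab Gen.c (256 + r)) :=
  edges_tab (sm gc) Qf (tab Gen.c) 256 [(256, 165), (257, 337), (258, 171), (259, 263), (260, 262), (261, 173), (262, 260), (263, 259), (264, 391), (265, 175), (266, 396), (267, 397), (268, 398), (269, 405), (270, 408), (271, 178), (272, 413), (273, 414), (274, 415), (275, 421), (276, 411), (277, 232), (278, 181), (279, 182), (280, 183), (281, 439), (282, 433), (283, 434), (284, 436), (285, 438), (286, 184), (287, 448), (288, 449), (289, 185), (290, 186), (291, 190), (292, 191), (293, 456), (294, 193), (295, 460), (296, 194), (297, 464), (298,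 466), (299, 192), (300, 468), (301, 221), (302, 470), (303, 474), (304, 477), (305, 198), (306, 482), (307, 483), (308, 487), (309, 200), (310, 492), (311, 493), (312, 497), (313, 202), (314, 502), (315, 503), (316, 203), (317, 508), (318, 205), (319, 206)]
    ⟨e3 q256 L3459 q165, e3 q257 L70623 q337, e3 q258 L3637 q171, e3 q259 L70635 q263, e3 q260 L70593 q262, e3 q261 L3766 q173, e3 q262 L70594 q260, e3 q263 L70636 q259, e3 q264 L7543 q391, e3 q265 L3788 q175, e3 q266 L7568 q396, e3 q267 L7574 q397, e3 q268 L7580 q398, e3 q269 L7619 q405, e3 q270 L7637 q408, e3 q271 L3818 q178, e3 q272 L7664 q413, e3 q273 L7668 q414, e3 q274 L7672 q415, e3 q275 L7707 q421, e3 q276 L7658 q411, e3 q277 L3846 q232, e3 q278 L3849 q181, e3 q279 L3853 q182, e3 q280 L3857 q183, e3 q281 L7795 q439, e3 q282 L7768 q433, e3 q283 L7774 q434, e3 q284 L7782 q436, e3 q285 L7790 q438, e3 q286 L3882 q184, e3 q287 L7829 q448, e3 q288 L7833 q449, e3 q289 L3888 q185, e3 q290 L3893 q186, e3 q291 L3907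 q190, e3 q292 L3917 q191, e3 q293 L7868 q456, e3 q294 L3929 q193, e3 q295 L7884 q460, e3 q296 L3943 q194, e3 q297 L7902 q464, e3 q298 L7924 q466, e3 q299 L3966 q192, e3 q300 L8028 q468, e3 q301 L4019 q221, e3 q302 L8058 q470, e3 q303 L8184 q474, e3 q304 L8198 q477, e3 q305 L4108 q198, e3 q306 L8220 q482, e3 q307 L8224 q483, e3 q308 L8244 q487, e3 q309 L4119 q200, e3 q310 L8262 q492, e3 q311 L8266 q493, e3 q312 L8286 q497, e3 q313 L4130 q202, e3 q314 L8307 q502, e3 q315 L8311 q503, e3 q316 L4142 q203, e3 q317 L8392 q508, e3 q318 L4163 q205, e3 q319 L4214 q206, trivial⟩ (by decide +kernel)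

theorem ce_c_5 : ∀ r, r < 64 → sm gc (Qf (320 + r)) = Qf (tab Gen.c (320 + r)) :=
  edges_tab (sm gc) Qf (tab Gen.c) 320 [(320, 515), (321, 223), (322, 517), (323, 224), (324, 208), (325, 523), (326, 524), (327, 525), (328, 532), (329, 535), (330, 211), (331, 539), (332, 212), (333, 222), (334, 500), (335, 215), (336, 225), (337, 257), (338, 506), (339, 513), (340, 544), (341, 546), (342, 547), (343, 226), (344, 227), (345, 549), (346, 550), (347, 548), (348, 551), (349, 235), (350, 236), (351, 429), (352, 430), (353, 431), (354, 563), (355, 237), (356, 565), (357, 238), (358, 567), (359, 359), (360, 360), (361, 361), (362, 241), (363, 242), (364, 243), (365, 582), (366, 576), (367, 577), (368, 587), (369, 579), (370, 591), (371, 581), (372, 244), (373, 597), (374, 598), (375, 603), (376, 605), (377, 247), (378, 609), (379, 249), (380, 612), (381, 251), (382, 252), (383, 383)]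
    ⟨e3 q320 L8521 q515, e3 q321 L4229 q223, e3 q322 L8554 q517, e3 q323 L4245 q224, e3 q324 L4254 q208, e3 q325 L8605 q523, e3 q326 L8609 q524, e3 q327 L8613 q525, e3 q328 L8640 q532, e3 q329 L8648 q535, e3 q330 L4275 q211, e3 q331 L8666 q539, e3 q332 L4430 q212, e3 q333 L70741 q222, e3 q334 L8301 q500, e3 q335 L4467 q215, e3 q336 L70728 q225, e3 q337 L70624 q257, e3 q338 L8333 q506, e3 q339 L8511 q513, e3 q340 L9455 q544, e3 q341 L9696 q546, e3 q342 L10006 q547, e3 q343 L5008 q226, e3 q344 L5256 q227, e3 q345 L50905 q549, e3 q346 L10745 q550, e3 q347 L10730 q548, e3 q348 L13048 q551, e3 q349 L70275 q235, e3 q350 L68839 q236, e3 q351 L7750 q429, e3 q352 L7756 q430, e3 q353 L7762 q431, e3 q354 L13162 q563, e3 q355 L6523 q237, e3 q356 L13170 q565, e3 q357 L6535 q238, e3 q358 L13178 q567, e3 q359 L69189 q359, e3 q360 L6605 q360, e3 q361 L53701 q361, e3 q362 L6716 q241, e3 q363 L6720 q242, e3 q364 L6724 q243, e3 q365 L13499 q582, e3 q366 L13472 q576, e3 q367 L13478 q577,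 e3 q368 L13517 q587, e3 q369 L13486 q579, e3 q370 L13529 q591, e3 q371 L13494 q581, e3 q372 L6757 q244, e3 q373 L13553 q597, e3 q374 L13557 q598, e3 q375 L13584 q603, e3 q376 L13596 q605, e3 q377 L6771 q247, e3 q378 L13615 q609, e3 q379 L6775 q249, e3 q380 L13623 q612, e3 q381 L6779 q251, e3 q382 L6791 q252, e3 q383 L49202 q383, trivial⟩ (by decide +kernel)

theorem ce_c_6 : ∀ r, r < 64 → sm gc (Qf (384 + r)) = Qf (tab Gen.c (384 + r)) :=
  edges_tab (sm gc) Qf (tab Gen.c) 384 [(384, 384), (385, 385), (386, 386), (387, 620), (388, 614), (389, 545), (390, 390), (391, 264), (392, 625), (393, 626), (394, 519), (395, 529), (396, 266), (397, 267), (398, 268), (399, 639), (400, 634), (401, 635), (402, 637), (403, 645), (404, 522), (405, 269), (406, 651), (407, 652), (408, 270), (409, 657), (410, 658), (411, 276), (412, 656), (413, 272), (414, 273), (415, 274), (416, 672), (417, 668), (418, 669), (419, 521), (420, 671), (421, 275), (422, 681), (423, 682), (424, 661), (425,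 688), (426, 663), (427, 534), (428, 664), (429, 351), (430, 352), (431, 353), (432, 575), (433, 282), (434, 283), (435, 707), (436, 284), (437, 711), (438, 285), (439, 281), (440, 715), (441, 716), (442, 719), (443, 721), (444, 444), (445, 725), (446, 679), (447, 447)]
    ⟨e3 q384 L6892 q384, e3 q385 L6895 q385, e3 q386 L6898 q386, e3 q387 L13836 q620, e3 q388 L64367 q614, e3 q389 L19008 q545, e3 q390 L7500 q390, e3 q391 L7544 q264, e3 q392 L14925 q625, e3 q393 L14929 q626, e3 q394 L71769 q519, e3 q395 L71839 q529, e3 q396 L7567 q266, e3 q397 L7573 q267, e3 q398 L7579 q268, e3 q399 L15042 q639, e3 q400 L14999 q634, e3 q401 L15007 q635, e3 q402 L15021 q637, e3 q403 L15082 q645, e3 q404 L71874 q522, e3 q405 L7620 q269, e3 q406 L15122 q651, e3 q407 L15128 q652, e3 q408 L7638 q270, e3 q409 L15160 q657, e3 q410 L15166 q658, e3 q411 L7657 q276, e3 q412 L15153 q656, e3 q413 L7663 q272, e3 q414 L7667 q273, e3 q415 L7671 q274, e3 q416 L15267 q672, e3 q417 L15232 q668, e3 q418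 L15238 q669, e3 q419 L71956 q521, e3 q420 L15262 q671, e3 q421 L7708 q275, e3 q422 L15328 q681, e3 q423 L15334 q682, e3 q424 L15198 q661, e3 q425 L15369 q688, e3 q426 L15208 q663, e3 q427 L71975 q534, e3 q428 L15220 q664, e3 q429 L7749 q351, e3 q430 L7755 q352, e3 q431 L7761 q353, e3 q432 L15052 q575, e3 q433 L7767 q282, e3 q434 L7773 q283, e3 q435 L15487 q707, e3 q436 L7781 q284, e3 q437 L15495 q711, e3 q438 L7789 q285, e3 q439 L7796 q281, e3 q440 L15522 q715, e3 q441 L15530 q716, e3 q442 L15545 q719, e3 q443 L15549 q721, e3 q444 L72404 q444, e3 q445 L15561 q725, e3 q446 L15316 q679, e3 q447 L7825 q447, trivial⟩ (by decide +kernel)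

theorem ce_c_7 : ∀ r, r < 64 → sm gc (Qf (448 + r)) = Qf (tab Gen.c (448 + r)) :=
  edges_tab (sm gc) Qf (tab Gen.c) 448 [(448, 287), (449, 288), (450, 713), (451, 732), (452, 735), (453, 739), (454, 741), (455, 744), (456, 293), (457, 749), (458, 750), (459, 754), (460, 295), (461, 758), (462, 692), (463, 762), (464, 297), (465, 767), (466, 298), (467, 769), (468, 300), (469, 660), (470, 302), (471, 777), (472, 778), (473, 779), (474, 303), (475, 785), (476, 786), (477, 304), (478, 789), (479, 790), (480, 480), (481, 795), (482, 306), (483, 307), (484, 800), (485, 803), (486, 801), (487, 308), (488, 809), (489, 810), (490, 490), (491, 757), (492, 310), (493, 311), (494, 820), (495, 823), (496, 821), (497, 312), (498, 828), (499, 510), (500, 334), (501, 833), (502, 314), (503, 315), (504, 838), (505, 840), (506, 338), (507, 842), (508, 317), (509, 825), (510, 499), (511, 824)]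
    ⟨e3 q448 L7828 q287, e3 q449 L7832 q288, e3 q450 L15504 q713, e3 q451 L15615 q732, e3 q452 L15624 q735, e3 q453 L15637 q739, e3 q454 L15660 q741, e3 q455 L15682 q744, e3 q456 L7869 q293, e3 q457 L15715 q749, e3 q458 L15721 q750, e3 q459 L15746 q754, e3 q460 L7885 q295, e3 q461 L15771 q758, e3 q462 L52801 q692, e3 q463 L15804 q762, e3 q464 L7903 q297, e3 q465 L15847 q767, e3 q466 L7925 q298, e3 q467 L15886 q769, e3 q468 L8029 q300, e3 q469 L71619 q660, e3 q470 L8059 q302, e3 q471 L16109 q777, e3 q472 L16115 q778, e3 q473 L16121 q779, e3 q474 L8185 q303, e3 q475 L16378 q785, e3 q476 L16384 q786, e3 q477 L8199 q304, e3 q478 L16395 q789, e3 q479 L16401 q790, e3 q480 L8214 q480, e3 q481 L16427 q795, e3 q482 L8219 q306, e3 q483 L8223 q307, e3 q484 L16442 q800, e3 q485 L16460 q803, e3 q486 L72098 q801, e3 q487 L8245 q308, e3 q488 L16489 q809, e3 q489 L16495 q810, e3 q490 L8256 q490, e3 q491 L71313 q757, e3 q492 L8261 q310, e3 q493 L8265 q311, e3 q494 L16554 q820, e3 q495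 L16572 q823, e3 q496 L16564 q821, e3 q497 L8287 q312, e3 q498 L16610 q828, e3 q499 L65940 q510, e3 q500 L8300 q334, e3 q501 L16648 q833, e3 q502 L8306 q314, e3 q503 L8310 q315, e3 q504 L16661 q838, e3 q505 L16673 q840, e3 q506 L8332 q338, e3 q507 L16706 q842, e3 q508 L8393 q317, e3 q509 L66031 q825, e3 q510 L65941 q499, e3 q511 L66011 q824, trivial⟩ (by decide +kernel)

theorem ce_c_8 : ∀ r, r < 64 → sm gc (Qf (512 + r)) = Qf (tab Gen.c (512 + r)) :=
  edges_tab (sm gc) Qf (tab Gen.c) 512 [(512, 849), (513, 339), (514, 853), (515, 320), (516, 684), (517, 322), (518, 629), (519, 394), (520, 627), (521, 419), (522, 404), (523, 325), (524, 326), (525, 327), (526, 697), (527, 861), (528, 632), (529, 395), (530, 686), (531, 631), (532, 328), (533, 694), (534, 427), (535, 329), (536, 872), (537, 729), (538, 812), (539, 331), (540, 765), (541, 830), (542, 832), (543, 543), (544, 340), (545, 389), (546, 341), (547, 342), (548, 347), (549, 345), (550, 346), (551, 348), (552,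 714), (553, 881), (554, 882), (555, 889), (556, 891), (557, 699), (558, 700), (559, 895), (560, 702), (561, 899), (562, 704), (563, 354), (564, 905), (565, 356), (566, 908), (567, 358), (568, 568), (569, 569), (570, 570), (571, 571), (572, 572), (573, 573), (574, 574), (575, 432)]
    ⟨e3 q512 L16814 q849, e3 q513 L8510 q339, e3 q514 L17050 q853, e3 q515 L8520 q320, e3 q516 L71513 q684, e3 q517 L8555 q322, e3 q518 L71713 q629, e3 q519 L71768 q394, e3 q520 L71727 q627, e3 q521 L71955 q419, e3 q522 L71873 q404, e3 q523 L8604 q325, e3 q524 L8608 q326, e3 q525 L8612 q327, e3 q526 L71936 q697, e3 q527 L17243 q861, e3 q528 L71853 q632, e3 q529 L71840 q395, e3 q530 L71987 q686, e3 q531 L71805 q631, e3 q532 L8641 q328, e3 q533 L71916 q694, e3 q534 L71976 q427, e3 q535 L8649 q329, e3 q536 L17350 q872, e3 q537 L71929 q729, e3 q538 L41107 q812, e3 q539 L8667 q331, e3 q540 L15829 q765, e3 q541 L16623 q830, e3 q542 L16639 q832, e3 q543 L67473 q543, e3 q544 L9456 q340, e3 q545 L19007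 q389, e3 q546 L9697 q341, e3 q547 L10007 q342, e3 q548 L10729 q347, e3 q549 L50904 q345, e3 q550 L10744 q346, e3 q551 L13049 q348, e3 q552 L65717 q714, e3 q553 L24799 q881, e3 q554 L24803 q882, e3 q555 L24842 q889, e3 q556 L24848 q891, e3 q557 L15438 q699, e3 q558 L15446 q700, e3 q559 L24874 q895, e3 q560 L15460 q702, e3 q561 L24894 q899, e3 q562 L15474 q704, e3 q563 L13163 q354, e3 q564 L25009 q905, e3 q565 L13171 q356, e3 q566 L25023 q908, e3 q567 L13179 q358, e3 q568 L13286 q568, e3 q569 L13291 q569, e3 q570 L13296 q570, e3 q571 L65579 q571, e3 q572 L53715 q572, e3 q573 L53712 q573, e3 q574 L53693 q574, e3 q575 L15053 q432, trivial⟩ (by decide +kernel)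

theorem ce_c_9 : ∀ r, r < 64 → sm gc (Qf (576 + r)) = Qf (tab Gen.c (576 + r)) :=
  edges_tab (sm gc) Qf (tab Gen.c) 576 [(576, 366), (577, 367), (578, 921), (579, 369), (580, 717), (581, 371), (582, 365), (583, 924), (584, 925), (585, 928), (586, 931), (587, 368), (588, 936), (589, 937), (590, 939), (591, 370), (592, 943), (593, 944), (594, 946), (595, 595), (596, 596), (597, 373), (598, 374), (599, 952), (600, 951), (601, 954), (602, 878), (603, 375), (604, 958), (605, 376), (606, 961), (607, 607), (608, 965), (609, 378), (610, 610), (611, 907), (612, 380), (613, 975), (614, 388), (615, 615), (616, 616), (617, 617), (618, 980), (619, 619), (620, 387), (621, 987), (622, 984), (623, 979), (624, 991), (625, 392), (626, 393), (627, 520), (628, 859), (629, 518), (630, 782), (631, 531), (632, 528), (633, 698), (634, 400), (635, 401), (636, 983), (637, 402), (638, 1006), (639, 399)]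
    ⟨e3 q576 L13471 q366, e3 q577 L13477 q367, e3 q578 L25681 q921, e3 q579 L13485 q369, e3 q580 L72480 q717, e3 q581 L13493 q371, e3 q582 L13500 q365, e3 q583 L25702 q924, e3 q584 L25710 q925, e3 q585 L25721 q928, e3 q586 L25729 q931, e3 q587 L13518 q368, e3 q588 L25746 q936, e3 q589 L25752 q937, e3 q590 L25767 q939, e3 q591 L13530 q370, e3 q592 L25782 q943, e3 q593 L25788 q944, e3 q594 L25797 q946, e3 q595 L65661 q595, e3 q596 L13549 q596, e3 q597 L13552 q373, e3 q598 L13556 q374, e3 q599 L25851 q952, e3 q600 L25838 q951, e3 q601 L25869 q954, e3 q602 L72647 q878, e3 q603 L13585 q375, e3 q604 L25894 q958, e3 q605 L13597 q376, e3 q606 L25908 q961, e3 q607 L65785 q607, e3 q608 L25931 q965, e3 q609 L13614 q378, e3 q610 L53578 q610, e3 q611 L25016 q907, e3 q612 L13622 q380, e3 q613 L26040 q975, e3 q614 L64366 q388, e3 q615 L13810 q615, e3 q616 L13815 q616, e3 q617 L13822 q617, e3 q618 L64400 q980, e3 q619 L13831 q619, e3 q620 L13837 q387, e3 q621 L26415 q987, e3 q622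 L64385 q984, e3 q623 L66096 q979, e3 q624 L27893 q991, e3 q625 L14924 q392, e3 q626 L14928 q393, e3 q627 L71728 q520, e3 q628 L71696 q859, e3 q629 L71712 q518, e3 q630 L71762 q782, e3 q631 L71806 q531, e3 q632 L71852 q528, e3 q633 L15431 q698, e3 q634 L14998 q400, e3 q635 L15006 q401, e3 q636 L72389 q983, e3 q637 L15020 q402, e3 q638 L28023 q1006, e3 q639 L15043 q399, trivial⟩ (by decide +kernel)

theorem ce_c_10 : ∀ r, r < 64 → sm gc (Qf (640 + r)) = Qf (tab Gen.c (640 + r)) :=
  edges_tab (sm gc) Qf (tab Gen.c) 640 [(640, 1008), (641, 1009), (642, 1012), (643, 814), (644, 644), (645, 403), (646, 775), (647, 774), (648, 1020), (649, 655), (650, 650), (651, 406), (652, 407), (653, 776), (654, 1025), (655, 649), (656, 412), (657, 409), (658, 410), (659, 1031), (660, 469), (661, 424), (662, 1035), (663, 426), (664, 428), (665, 1029), (666, 973), (667, 1042), (668, 417), (669, 418), (670, 1046), (671, 420), (672, 416), (673, 857), (674, 1050), (675, 1053), (676, 1055),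 (677, 955), (678, 1059), (679, 446), (680, 709), (681, 422), (682, 423), (683, 856), (684, 516), (685, 689), (686, 530), (687, 873), (688, 425), (689, 685), (690, 1071), (691, 1072), (692, 462), (693, 864), (694, 533), (695, 1081), (696, 1084), (697, 526), (698, 633), (699, 557), (700, 558), (701, 1087), (702, 560), (703, 1010)]
    ⟨e3 q640 L28046 q1008, e3 q641 L28056 q1009, e3 q642 L28079 q1012, e3 q643 L72738 q814, e3 q644 L72399 q644, e3 q645 L15083 q403, e3 q646 L71607 q775, e3 q647 L71640 q774, e3 q648 L28137 q1020, e3 q649 L15148 q655, e3 q650 L15116 q650, e3 q651 L15121 q406, e3 q652 L15127 q407, e3 q653 L42078 q776, e3 q654 L28204 q1025, e3 q655 L15147 q649, e3 q656 L15154 q412, e3 q657 L15159 q409, e3 q658 L15165 q410, e3 q659 L28256 q1031, e3 q660 L71620 q469, e3 q661 L15197 q424, e3 q662 L28289 q1035, e3 q663 L15207 q426, e3 q664 L15219 q428, e3 q665 L28232 q1029, e3 q666 L73199 q973, e3 q667 L28359 q1042, e3 q668 L15231 q417, e3 q669 L15237 q418, e3 q670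 L28373 q1046, e3 q671 L15261 q420, e3 q672 L15268 q416, e3 q673 L71507 q857, e3 q674 L28394 q1050, e3 q675 L28419 q1053, e3 q676 L28425 q1055, e3 q677 L72653 q955, e3 q678 L28447 q1059, e3 q679 L15315 q446, e3 q680 L41484 q709, e3 q681 L15327 q422, e3 q682 L15333 q423, e3 q683 L71721 q856, e3 q684 L71512 q516, e3 q685 L65599 q689, e3 q686 L71988 q530, e3 q687 L52849 q873, e3 q688 L15370 q425, e3 q689 L65600 q685, e3 q690 L28580 q1071, e3 q691 L28586 q1072, e3 q692 L52800 q462, e3 q693 L71972 q864, e3 q694 L71915 q533, e3 q695 L28649 q1081, e3 q696 L28664 q1084, e3 q697 L71937 q526, e3 q698 L15432 q633, e3 q699 L15437 q557, e3 q700 L15445 q558, e3 q701 L28694 q1087, e3 q702 L15459 q560, e3 q703 L72467 q1010, trivial⟩ (by decide +kernel)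

theorem ce_c_11 : ∀ r, r < 64 → sm gc (Qf (704 + r)) = Qf (tab Gen.c (704 + r)) :=
  edges_tab (sm gc) Qf (tab Gen.c) 704 [(704, 562), (705, 919), (706, 1091), (707, 435), (708, 1094), (709, 680), (710, 740), (711, 437), (712, 720), (713, 450), (714, 552), (715, 440), (716, 441), (717, 580), (718, 1103), (719, 442), (720, 712), (721, 443), (722, 1024), (723, 723), (724, 724), (725, 445), (726, 1112), (727, 1113), (728, 868), (729, 537), (730, 730), (731, 1015), (732, 451), (733, 1117), (734, 967), (735, 452), (736, 1123), (737, 1124), (738, 1005), (739, 453), (740, 710), (741, 454), (742, 1130), (743, 1131), (744, 455), (745, 1133), (746, 914), (747, 1128), (748, 846), (749, 457), (750, 458), (751, 1142), (752, 1145), (753, 1143), (754, 459), (755, 1150), (756, 851), (757, 491), (758, 461), (759, 1073), (760, 1154), (761, 1000), (762, 463), (763, 1159), (764, 771), (765, 540), (766, 1162), (767, 465)]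
    ⟨e3 q704 L15473 q562, e3 q705 L25672 q919, e3 q706 L28752 q1091, e3 q707 L15488 q435, e3 q708 L28774 q1094, e3 q709 L41485 q680, e3 q710 L41512 q740, e3 q711 L15496 q437, e3 q712 L72450 q720, e3 q713 L15503 q450, e3 q714 L65718 q552, e3 q715 L15521 q440, e3 q716 L15529 q441, e3 q717 L72481 q580, e3 q718 L28870 q1103, e3 q719 L15546 q442, e3 q720 L72449 q712, e3 q721 L15550 q443, e3 q722 L72703 q1024, e3 q723 L72415 q723, e3 q724 L72414 q724, e3 q725 L15562 q445, e3 q726 L28943 q1112, e3 q727 L28947 q1113, e3 q728 L52124 q868, e3 q729 L71930 q537, e3 q730 L15597 q730, e3 q731 L72508 q1015, e3 q732 L15614 q451, e3 q733 L29051 q1117, e3 q734 L72709 q967, e3 q735 L15625 q452, e3 q736 L29075 q1123, e3 q737 L29081 q1124, e3 q738 L41521 q1005, e3 q739 L15638 q453, e3 q740 L41511 q710, e3 q741 L15661 q454, e3 q742 L29179 q1130, e3 q743 L29187 q1131, e3 q744 L15683 q455, e3 q745 L29203 q1133, e3 q746 L52824 q914, e3 q747 L29169 q1128, e3 q748 L16774 q846, e3 q749 L15714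 q457, e3 q750 L15720 q458, e3 q751 L29257 q1142, e3 q752 L29280 q1145, e3 q753 L64168 q1143, e3 q754 L15747 q459, e3 q755 L29331 q1150, e3 q756 L51912 q851, e3 q757 L71314 q491, e3 q758 L15770 q461, e3 q759 L52774 q1073, e3 q760 L29410 q1154, e3 q761 L52838 q1000, e3 q762 L15805 q463, e3 q763 L29471 q1159, e3 q764 L71492 q771, e3 q765 L15828 q540, e3 q766 L29494 q1162, e3 q767 L15846 q465, trivial⟩ (by decide +kernel)

theorem ce_c_12 : ∀ r, r < 64 → sm gc (Qf (768 + r)) = Qf (tab Gen.c (768 + r)) :=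
  edges_tab (sm gc) Qf (tab Gen.c) 768 [(768, 1167), (769, 467), (770, 1156), (771, 764), (772, 1155), (773, 1172), (774, 647), (775, 646), (776, 653), (777, 471), (778, 472), (779, 473), (780, 1023), (781, 999), (782, 630), (783, 783), (784, 1183), (785, 475), (786, 476), (787, 787), (788, 1189), (789, 478), (790, 479), (791, 791), (792, 1195), (793, 793), (794, 794), (795, 481), (796, 1201), (797, 1144), (798, 1202), (799, 1208), (800, 484), (801, 486), (802, 1139), (803, 485), (804, 874), (805, 875), (806, 1215), (807, 807), (808, 808), (809, 488), (810, 489), (811, 1218), (812, 538), (813, 813), (814, 643), (815, 815), (816, 818), (817, 1080), (818, 816), (819, 1227), (820, 494), (821, 496), (822, 1230), (823, 495), (824, 511), (825, 509), (826, 1234), (827, 1235), (828, 498), (829, 848), (830, 541), (831, 1239)]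
    ⟨e3 q768 L29530 q1167, e3 q769 L15887 q467, e3 q770 L71480 q1156, e3 q771 L71491 q764, e3 q772 L71457 q1155, e3 q773 L29890 q1172, e3 q774 L71639 q647, e3 q775 L71608 q646, e3 q776 L42079 q653, e3 q777 L16108 q471, e3 q778 L16114 q472, e3 q779 L16120 q473, e3 q780 L71814 q1023, e3 q781 L71740 q999, e3 q782 L71761 q630, e3 q783 L16372 q783, e3 q784 L30647 q1183, e3 q785 L16377 q475, e3 q786 L16383 q476, e3 q787 L16389 q787, e3 q788 L30672 q1189, e3 q789 L16394 q478, e3 q790 L16400 q479, e3 q791 L16404 q791, e3 q792 L30705 q1195, e3 q793 L16419 q793, e3 q794 L16426 q794, e3 q795 L16428 q481, e3 q796 L30747 q1201, e3 q797 L64523 q1144, e3 q798 L30755 q1202, e3 q799 L30788 q1208, e3 q800 L16441 q484, e3 q801 L72099 q486, e3 q802 L64519 q1139, e3 q803 L16461 q485, e3 q804 L72067 q874, e3 q805 L72065 q875, e3 q806 L30818 q1215, e3 q807 L16479 q807, e3 q808 L65036 q808, e3 q809 L16488 q488, e3 q810 L16494 q489, e3 q811 L30852 q1218, e3 q812 L41108 q538, e3 q813 L16516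 q813, e3 q814 L72739 q643, e3 q815 L16531 q815, e3 q816 L71308 q818, e3 q817 L71304 q1080, e3 q818 L71307 q816, e3 q819 L30973 q1227, e3 q820 L16553 q494, e3 q821 L16563 q496, e3 q822 L30989 q1230, e3 q823 L16573 q495, e3 q824 L66012 q511, e3 q825 L66030 q509, e3 q826 L31007 q1234, e3 q827 L31011 q1235, e3 q828 L16609 q498, e3 q829 L66027 q848, e3 q830 L16622 q541, e3 q831 L31043 q1239, trivial⟩ (by decide +kernel)

theorem ce_c_13 : ∀ r, r < 64 → sm gc (Qf (832 + r)) = Qf (tab Gen.c (832 + r)) :=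
  edges_tab (sm gc) Qf (tab Gen.c) 832 [(832, 542), (833, 501), (834, 1245), (835, 1246), (836, 1247), (837, 1252), (838, 504), (839, 839), (840, 505), (841, 1256), (842, 507), (843, 1262), (844, 1263), (845, 1264), (846, 748), (847, 1147), (848, 829), (849, 512), (850, 1146), (851, 756), (852, 1274), (853, 514), (854, 1278), (855, 1276), (856, 683), (857, 673), (858, 904), (859, 628), (860, 860), (861, 527), (862, 1283), (863, 1284), (864, 693), (865, 1287), (866, 1289), (867, 1292), (868, 728), (869, 1295), (870, 870), (871, 871), (872, 536), (873, 687), (874, 804), (875, 805), (876, 1300), (877, 877), (878, 602), (879, 888), (880, 1303), (881, 553), (882, 554), (883, 1100), (884, 1101), (885, 1309), (886, 923), (887, 986), (888, 879), (889, 555), (890, 1313), (891, 556), (892, 1316), (893, 1317), (894, 1320), (895, 559)]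
    ⟨e3 q832 L16638 q542, e3 q833 L16649 q501, e3 q834 L31090 q1245, e3 q835 L31094 q1246, e3 q836 L31098 q1247, e3 q837 L31125 q1252, e3 q838 L16660 q504, e3 q839 L72665 q839, e3 q840 L16672 q505, e3 q841 L31161 q1256, e3 q842 L16707 q507, e3 q843 L31208 q1262, e3 q844 L31212 q1263, e3 q845 L31216 q1264, e3 q846 L16775 q748, e3 q847 L51944 q1147, e3 q848 L66026 q829, e3 q849 L16815 q512, e3 q850 L66089 q1146, e3 q851 L51913 q756, e3 q852 L32041 q1274, e3 q853 L17051 q514, e3 q854 L32088 q1278, e3 q855 L73134 q1276, e3 q856 L71720 q683, e3 q857 L71508 q673, e3 q858 L53089 q904, e3 q859 L71697 q628, e3 q860 L30095 q860, e3 q861 L17242 q527, e3 q862 L32535 q1283, e3 q863 L32543 q1284, e3 q864 L71971 q693, e3 q865 L32575 q1287, e3 q866 L32579 q1289, e3 q867 L32587 q1292, e3 q868 L52125 q728, e3 q869 L32605 q1295, e3 q870 L17310 q870, e3 q871 L52255 q871, e3 q872 L17349 q536, e3 q873 L52848 q687, e3 q874 L72068 q804, e3 q875 L72066 q805, e3 q876 L32929 q1300, e3 q877 L67462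 q877, e3 q878 L72648 q602, e3 q879 L72655 q888, e3 q880 L37700 q1303, e3 q881 L24798 q553, e3 q882 L24802 q554, e3 q883 L65642 q1100, e3 q884 L65705 q1101, e3 q885 L73238 q1309, e3 q886 L72844 q923, e3 q887 L72834 q986, e3 q888 L72654 q879, e3 q889 L24843 q555, e3 q890 L73283 q1313, e3 q891 L24849 q556, e3 q892 L73307 q1316, e3 q893 L73310 q1317, e3 q894 L73334 q1320, e3 q895 L24875 q559, trivial⟩ (by decide +kernel)

theorem ce_c_14 : ∀ r, r < 64 → sm gc (Qf (896 + r)) = Qf (tab Gen.c (896 + r)) :=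
  edges_tab (sm gc) Qf (tab Gen.c) 896 [(896, 1325), (897, 1326), (898, 957), (899, 561), (900, 1331), (901, 1332), (902, 1334), (903, 1312), (904, 858), (905, 564), (906, 1314), (907, 611), (908, 566), (909, 909), (910, 910), (911, 911), (912, 912), (913, 913), (914, 746), (915, 915), (916, 916), (917, 1352), (918, 918), (919, 705), (920, 1355), (921, 578), (922, 1358), (923, 886), (924, 583), (925, 584), (926, 1360), (927, 1361), (928, 585), (929, 1364), (930, 1342), (931, 586), (932, 1058), (933, 1057), (934, 934), (935, 1368), (936, 588), (937, 589), (938, 1372), (939, 590), (940, 1374), (941, 941), (942, 1376), (943, 592), (944, 593), (945, 1378), (946, 594), (947, 998), (948, 948), (949, 949), (950, 1379), (951, 600), (952, 599), (953, 1382), (954, 601), (955, 677), (956, 956), (957, 898), (958, 604), (959, 959)]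
    ⟨e3 q896 L73371 q1325, e3 q897 L73383 q1326, e3 q898 L72848 q957, e3 q899 L24895 q561, e3 q900 L73427 q1331, e3 q901 L73439 q1332, e3 q902 L73456 q1334, e3 q903 L73277 q1312, e3 q904 L53088 q858, e3 q905 L25008 q564, e3 q906 L73293 q1314, e3 q907 L25017 q611, e3 q908 L25022 q566, e3 q909 L25198 q909, e3 q910 L25207 q910, e3 q911 L25216 q911, e3 q912 L72846 q912, e3 q913 L72816 q913, e3 q914 L52823 q746, e3 q915 L72847 q915, e3 q916 L72808 q916, e3 q917 L73599 q1352, e3 q918 L72845 q918, e3 q919 L25671 q705, e3 q920 L73623 q1355, e3 q921 L25682 q578, e3 q922 L73636 q1358, e3 q923 L72843 q886, e3 q924 L25701 q583, e3 q925 L25709 q584, e3 q926 L73645 q1360, e3 q927 L73649 q1361, e3 q928 L25722 q585, e3 q929 L73667 q1364, e3 q930 L73523 q1342, e3 q931 L25730 q586, e3 q932 L73087 q1058, e3 q933 L73085 q1057, e3 q934 L72800 q934, e3 q935 L73688 q1368, e3 q936 L25745 q588, e3 q937 L25751 q589, e3 q938 L73706 q1372, e3 q939 L25768 q590, e3 q940 L73724 q1374, e3 q941 L72840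 q941, e3 q942 L73731 q1376, e3 q943 L25781 q592, e3 q944 L25787 q593, e3 q945 L73753 q1378, e3 q946 L25798 q594, e3 q947 L73089 q998, e3 q948 L72818 q948, e3 q949 L72819 q949, e3 q950 L73763 q1379, e3 q951 L25837 q600, e3 q952 L25852 q599, e3 q953 L73780 q1382, e3 q954 L25870 q601, e3 q955 L72652 q677, e3 q956 L72954 q956, e3 q957 L72849 q898, e3 q958 L25893 q604, e3 q959 L72842 q959, trivial⟩ (by decide +kernel)

theorem ce_c_15 : ∀ r, r < 64 → sm gc (Qf (960 + r)) = Qf (tab Gen.c (960 + r)) :=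
  edges_tab (sm gc) Qf (tab Gen.c) 960 [(960, 1388), (961, 606), (962, 962), (963, 1393), (964, 964), (965, 608), (966, 1397), (967, 734), (968, 1398), (969, 1319), (970, 970), (971, 1404), (972, 972), (973, 666), (974, 1407), (975, 613), (976, 1411), (977, 1371), (978, 1412), (979, 623), (980, 618), (981, 1417), (982, 1418), (983, 636), (984, 622), (985, 988), (986, 887), (987, 621), (988, 985), (989, 990), (990, 989), (991, 624), (992, 1241), (993, 1240), (994, 1423), (995, 995), (996, 1426), (997, 1090), (998, 947), (999, 781), (1000, 761), (1001, 1429), (1002, 1085), (1003, 1107), (1004, 1420), (1005, 738), (1006, 638), (1007, 1013), (1008, 640), (1009, 641), (1010, 703), (1011, 1222), (1012, 642), (1013, 1007), (1014, 1221), (1015, 731), (1016, 1016), (1017, 1017), (1018, 1436), (1019, 1438), (1020, 648), (1021, 1443), (1022, 1444), (1023, 780)]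
    ⟨e3 q960 L73824 q1388, e3 q961 L25907 q606, e3 q962 L72955 q962, e3 q963 L73850 q1393, e3 q964 L72956 q964, e3 q965 L25932 q608, e3 q966 L73879 q1397, e3 q967 L72708 q734, e3 q968 L73891 q1398, e3 q969 L73329 q1319, e3 q970 L72841 q970, e3 q971 L73926 q1404, e3 q972 L72837 q972, e3 q973 L73198 q666, e3 q974 L73948 q1407, e3 q975 L26041 q613, e3 q976 L73971 q1411, e3 q977 L73703 q1371, e3 q978 L73977 q1412, e3 q979 L66097 q623, e3 q980 L64399 q618, e3 q981 L74010 q1417, e3 q982 L74014 q1418, e3 q983 L72388 q636, e3 q984 L64384 q622, e3 q985 L72888 q988, e3 q986 L72833 q887, e3 q987 L26414 q621, e3 q988 L72889 q985, e3 q989 L64397 q990, e3 q990 L64396 q989, e3 q991 L27894 q624, e3 q992 L73150 q1241, e3 q993 L73147 q1240, e3 q994 L74064 q1423, e3 q995 L72672 q995, e3 q996 L74081 q1426, e3 q997 L72750 q1090, e3 q998 L73088 q947, e3 q999 L71741 q781, e3 q1000 L52837 q761, e3 q1001 L74101 q1429, e3 q1002 L28675 q1085, e3 q1003 L73060 q1107, e3 q1004 L74031 q1420, e3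 q1005 L41520 q738, e3 q1006 L28024 q638, e3 q1007 L72504 q1013, e3 q1008 L28045 q640, e3 q1009 L28055 q641, e3 q1010 L72466 q703, e3 q1011 L72748 q1222, e3 q1012 L28080 q642, e3 q1013 L72503 q1007, e3 q1014 L72783 q1221, e3 q1015 L72507 q731, e3 q1016 L73042 q1016, e3 q1017 L73043 q1017, e3 q1018 L74179 q1436, e3 q1019 L74195 q1438, e3 q1020 L28138 q648, e3 q1021 L74234 q1443, e3 q1022 L74240 q1444, e3 q1023 L71813 q780, trivial⟩ (by decide +kernel)

theorem ce_c_16 : ∀ r, r < 64 → sm gc (Qf (1024 + r)) = Qf (tab Gen.c (1024 + r)) :=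
  edges_tab (sm gc) Qf (tab Gen.c) 1024 [(1024, 722), (1025, 654), (1026, 1118), (1027, 1340), (1028, 1450), (1029, 665), (1030, 1453), (1031, 659), (1032, 1456), (1033, 1311), (1034, 1459), (1035, 662), (1036, 1463), (1037, 1464), (1038, 1467), (1039, 1470), (1040, 1472), (1041, 1474), (1042, 667), (1043, 1161), (1044, 1475), (1045, 1045), (1046, 670), (1047, 1479), (1048, 1480), (1049, 1481), (1050, 674), (1051, 1483), (1052, 1430), (1053, 675), (1054, 1485), (1055, 676), (1056, 1447), (1057, 933), (1058, 932), (1059, 678), (1060, 1386), (1061, 1489), (1062, 1490), (1063, 1095), (1064, 1096), (1065, 1065), (1066, 1335), (1067, 1074), (1068, 1075), (1069, 1497), (1070, 1500), (1071, 690), (1072, 691), (1073, 759), (1074, 1067), (1075, 1068), (1076, 1502), (1077, 1353), (1078, 1504), (1079, 1255), (1080, 817), (1081, 695), (1082, 1507), (1083, 1508), (1084, 696), (1085, 1002), (1086, 1512), (1087, 701)]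
    ⟨e3 q1024 L72702 q722, e3 q1025 L28203 q654, e3 q1026 L73258 q1118, e3 q1027 L73509 q1340, e3 q1028 L74291 q1450, e3 q1029 L28231 q665, e3 q1030 L74317 q1453, e3 q1031 L28255 q659, e3 q1032 L74344 q1456, e3 q1033 L73256 q1311, e3 q1034 L74378 q1459, e3 q1035 L28290 q662, e3 q1036 L74409 q1463, e3 q1037 L74415 q1464, e3 q1038 L74434 q1467, e3 q1039 L74450 q1470, e3 q1040 L74466 q1472, e3 q1041 L74478 q1474, e3 q1042 L28360 q667, e3 q1043 L73746 q1161, e3 q1044 L74491 q1475, e3 q1045 L73096 q1045, e3 q1046 L28374 q670, e3 q1047 L74512 q1479, e3 q1048 L74520 q1480, e3 q1049 L74523 q1481, e3 q1050 L28393 q674, e3 q1051 L74549 q1483, e3 q1052 L74116 q1430, e3 q1053 L28420 q675, e3 q1054 L74568 q1485, e3 q1055 L28426 q676, e3 q1056 L74268 q1447, e3 q1057 L73084 q933, e3 q1058 L73086 q932, e3 q1059 L28448 q678, e3 q1060 L73814 q1386, e3 q1061 L74600 q1489, e3 q1062 L74601 q1490, e3 q1063 L72368 q1095, e3 q1064 L72370 q1096, e3 q1065 L72671 q1065, e3 q1066 L73471 q1335,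 e3 q1067 L72803 q1074, e3 q1068 L72812 q1075, e3 q1069 L74666 q1497, e3 q1070 L74688 q1500, e3 q1071 L28579 q690, e3 q1072 L28585 q691, e3 q1073 L52773 q759, e3 q1074 L72802 q1067, e3 q1075 L72811 q1068, e3 q1076 L74708 q1502, e3 q1077 L73615 q1353, e3 q1078 L74722 q1504, e3 q1079 L72755 q1255, e3 q1080 L71305 q817, e3 q1081 L28650 q695, e3 q1082 L74751 q1507, e3 q1083 L74757 q1508, e3 q1084 L28665 q696, e3 q1085 L28674 q1002, e3 q1086 L74780 q1512, e3 q1087 L28695 q701, trivial⟩ (by decide +kernel)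

theorem ce_c_17 : ∀ r, r < 64 → sm gc (Qf (1088 + r)) = Qf (tab Gen.c (1088 + r)) :=
  edges_tab (sm gc) Qf (tab Gen.c) 1088 [(1088, 1495), (1089, 1493), (1090, 997), (1091, 706), (1092, 1434), (1093, 1505), (1094, 708), (1095, 1063), (1096, 1064), (1097, 1126), (1098, 1509), (1099, 1518), (1100, 883), (1101, 884), (1102, 1330), (1103, 718), (1104, 1431), (1105, 1484), (1106, 1486), (1107, 1003), (1108, 1108), (1109, 1109), (1110, 1488), (1111, 1120), (1112, 726), (1113, 727), (1114, 1529), (1115, 1531), (1116, 1435), (1117, 733), (1118, 1026), (1119, 1532), (1120, 1111), (1121, 1401), (1122, 1122), (1123, 736), (1124, 737), (1125, 1432), (1126, 1097), (1127, 1127), (1128, 747), (1129, 1244), (1130, 742), (1131, 743), (1132, 1261), (1133, 745), (1134, 1136), (1135, 1135), (1136, 1134), (1137, 1540), (1138, 1269), (1139, 802), (1140, 1270), (1141, 1555), (1142, 751), (1143, 753), (1144, 797), (1145, 752), (1146, 850), (1147, 847), (1148, 1206), (1149, 1149), (1150,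 755), (1151, 1271)]
    ⟨e3 q1088 L74647 q1495, e3 q1089 L74624 q1493, e3 q1090 L72751 q997, e3 q1091 L28753 q706, e3 q1092 L74164 q1434, e3 q1093 L74737 q1505, e3 q1094 L28773 q708, e3 q1095 L72367 q1063, e3 q1096 L72369 q1064, e3 q1097 L29104 q1126, e3 q1098 L74765 q1509, e3 q1099 L74828 q1518, e3 q1100 L65643 q883, e3 q1101 L65706 q884, e3 q1102 L73421 q1330, e3 q1103 L28871 q718, e3 q1104 L74128 q1431, e3 q1105 L74564 q1484, e3 q1106 L74576 q1486, e3 q1107 L73061 q1003, e3 q1108 L73044 q1108, e3 q1109 L73045 q1109, e3 q1110 L74594 q1488, e3 q1111 L73267 q1120, e3 q1112 L28942 q726, e3 q1113 L28946 q727, e3 q1114 L74941 q1529, e3 q1115 L74955 q1531, e3 q1116 L74174 q1435, e3 q1117 L29052 q733, e3 q1118 L73259 q1026, e3 q1119 L74967 q1532, e3 q1120 L73266 q1111, e3 q1121 L73909 q1401, e3 q1122 L29071 q1122, e3 q1123 L29074 q736, e3 q1124 L29080 q737, e3 q1125 L74140 q1432, e3 q1126 L29103 q1097, e3 q1127 L29111 q1127, e3 q1128 L29168 q747, e3 q1129 L31085 q1244,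 e3 q1130 L29178 q742, e3 q1131 L29186 q743, e3 q1132 L31203 q1261, e3 q1133 L29202 q745, e3 q1134 L29229 q1136, e3 q1135 L72894 q1135, e3 q1136 L29228 q1134, e3 q1137 L75044 q1540, e3 q1138 L31396 q1269, e3 q1139 L64518 q802, e3 q1140 L31408 q1270, e3 q1141 L75150 q1555, e3 q1142 L29256 q751, e3 q1143 L64167 q753, e3 q1144 L64522 q797, e3 q1145 L29281 q752, e3 q1146 L66088 q850, e3 q1147 L51945 q847, e3 q1148 L72913 q1206, e3 q1149 L65035 q1149, e3 q1150 L29330 q755, e3 q1151 L72686 q1271, trivial⟩ (by decide +kernel)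

theorem ce_c_18 : ∀ r, r < 64 → sm gc (Qf (1152 + r)) = Qf (tab Gen.c (1152 + r)) :=
  edges_tab (sm gc) Qf (tab Gen.c) 1152 [(1152, 1562), (1153, 1462), (1154, 760), (1155, 772), (1156, 770), (1157, 1566), (1158, 1277), (1159, 763), (1160, 1171), (1161, 1043), (1162, 766), (1163, 1571), (1164, 1572), (1165, 1573), (1166, 1166), (1167, 768), (1168, 1578), (1169, 1579), (1170, 1580), (1171, 1160), (1172, 773), (1173, 1587), (1174, 1588), (1175, 1175), (1176, 1589), (1177, 1590), (1178, 1591), (1179, 1593), (1180, 1595), (1181, 1598), (1182, 1182), (1183, 784), (1184, 1603), (1185, 1604), (1186, 1602), (1187, 1268), (1188, 1610), (1189, 788), (1190, 1613), (1191, 1614), (1192, 1615), (1193, 1196), (1194, 1194), (1195, 792), (1196, 1193), (1197, 1619), (1198, 1622), (1199, 1199), (1200, 1205), (1201, 796), (1202, 798), (1203, 1627), (1204, 1559), (1205, 1200), (1206, 1148), (1207, 1560), (1208, 799), (1209, 1633), (1210, 1631), (1211, 1267), (1212, 1552), (1213, 1630),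 (1214, 1553), (1215, 806)]
    ⟨e3 q1152 L75200 q1562, e3 q1153 L74404 q1462, e3 q1154 L29411 q760, e3 q1155 L71458 q772, e3 q1156 L71481 q770, e3 q1157 L75230 q1566, e3 q1158 L32083 q1277, e3 q1159 L29470 q763, e3 q1160 L72519 q1171, e3 q1161 L73745 q1043, e3 q1162 L29495 q766, e3 q1163 L75271 q1571, e3 q1164 L75279 q1572, e3 q1165 L75285 q1573, e3 q1166 L72666 q1166, e3 q1167 L29531 q768, e3 q1168 L75323 q1578, e3 q1169 L75329 q1579, e3 q1170 L75339 q1580, e3 q1171 L72520 q1160, e3 q1172 L29891 q773, e3 q1173 L75405 q1587, e3 q1174 L75417 q1588, e3 q1175 L30094 q1175, e3 q1176 L75422 q1589, e3 q1177 L75432 q1590, e3 q1178 L75446 q1591, e3 q1179 L75462 q1593, e3 q1180 L75473 q1595, e3 q1181 L75499 q1598, e3 q1182 L30646 q1182, e3 q1183 L30648 q784, e3 q1184 L75528 q1603, e3 q1185 L75532 q1604, e3 q1186 L75654 q1602, e3 q1187 L73125 q1268, e3 q1188 L75565 q1610, e3 q1189 L30673 q788, e3 q1190 L75594 q1613, e3 q1191 L75602 q1614, e3 q1192 L75606 q1615, e3 q1193 L72896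 q1196, e3 q1194 L30700 q1194, e3 q1195 L30706 q792, e3 q1196 L72895 q1193, e3 q1197 L75640 q1619, e3 q1198 L75677 q1622, e3 q1199 L30731 q1199, e3 q1200 L72928 q1205, e3 q1201 L30746 q796, e3 q1202 L30754 q798, e3 q1203 L75719 q1627, e3 q1204 L75175 q1559, e3 q1205 L72927 q1200, e3 q1206 L72914 q1148, e3 q1207 L75187 q1560, e3 q1208 L30789 q799, e3 q1209 L75748 q1633, e3 q1210 L75740 q1631, e3 q1211 L73016 q1267, e3 q1212 L75123 q1552, e3 q1213 L75735 q1630, e3 q1214 L75133 q1553, e3 q1215 L30819 q806, trivial⟩ (by decide +kernel)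

theorem ce_c_19 : ∀ r, r < 64 → sm gc (Qf (1216 + r)) = Qf (tab Gen.c (1216 + r)) :=
  edges_tab (sm gc) Qf (tab Gen.c) 1216 [(1216, 1554), (1217, 1217), (1218, 811), (1219, 1640), (1220, 1642), (1221, 1014), (1222, 1011), (1223, 1645), (1224, 1646), (1225, 1226), (1226, 1225), (1227, 819), (1228, 1650), (1229, 1649), (1230, 822), (1231, 1653), (1232, 1654), (1233, 1657), (1234, 826), (1235, 827), (1236, 1660), (1237, 1661), (1238, 1329), (1239, 831), (1240, 993), (1241, 992), (1242, 1454), (1243, 1664), (1244, 1129), (1245, 834), (1246, 835), (1247, 836), (1248, 1678), (1249, 1674), (1250, 1675), (1251, 1506), (1252, 837), (1253, 1681), (1254, 1682), (1255, 1079), (1256, 841), (1257, 1684), (1258, 1685), (1259, 1686), (1260, 1683), (1261, 1132), (1262, 843), (1263, 844), (1264, 845), (1265, 1608), (1266, 1636), (1267, 1211), (1268, 1187), (1269, 1138), (1270, 1140), (1271, 1151), (1272, 1699), (1273, 1701), (1274, 852), (1275, 1702), (1276, 855), (1277, 1158), (1278,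 854), (1279, 1704)]
    ⟨e3 q1216 L75145 q1554, e3 q1217 L72931 q1217, e3 q1218 L30851 q811, e3 q1219 L75788 q1640, e3 q1220 L75803 q1642, e3 q1221 L72782 q1014, e3 q1222 L72749 q1011, e3 q1223 L75834 q1645, e3 q1224 L75838 q1646, e3 q1225 L72775 q1226, e3 q1226 L72774 q1225, e3 q1227 L30974 q819, e3 q1228 L75869 q1650, e3 q1229 L75862 q1649, e3 q1230 L30990 q822, e3 q1231 L75888 q1653, e3 q1232 L75893 q1654, e3 q1233 L75913 q1657, e3 q1234 L31008 q826, e3 q1235 L31012 q827, e3 q1236 L75931 q1660, e3 q1237 L75939 q1661, e3 q1238 L73415 q1329, e3 q1239 L31044 q831, e3 q1240 L73148 q993, e3 q1241 L73149 q992, e3 q1242 L74332 q1454, e3 q1243 L75969 q1664, e3 q1244 L31086 q1129, e3 q1245 L31089 q834, e3 q1246 L31093 q835, e3 q1247 L31097 q836, e3 q1248 L76060 q1678, e3 q1249 L76043 q1674, e3 q1250 L76051 q1675, e3 q1251 L74742 q1506, e3 q1252 L31126 q837, e3 q1253 L76093 q1681, e3 q1254 L76101 q1682, e3 q1255 L72754 q1079, e3 q1256 L31162 q841, e3 q1257 L76113 q1684, e3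 q1258 L76119 q1685, e3 q1259 L76127 q1686, e3 q1260 L76107 q1683, e3 q1261 L31204 q1132, e3 q1262 L31207 q843, e3 q1263 L31211 q844, e3 q1264 L31215 q845, e3 q1265 L75553 q1608, e3 q1266 L75762 q1636, e3 q1267 L73017 q1211, e3 q1268 L73126 q1187, e3 q1269 L31395 q1138, e3 q1270 L31407 q1140, e3 q1271 L72685 q1151, e3 q1272 L76209 q1699, e3 q1273 L76225 q1701, e3 q1274 L32042 q852, e3 q1275 L76239 q1702, e3 q1276 L73133 q855, e3 q1277 L32084 q1158, e3 q1278 L32087 q854, e3 q1279 L76263 q1704, trivial⟩ (by decide +kernel)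

theorem ce_c_20 : ∀ r, r < 64 → sm gc (Qf (1280 + r)) = Qf (tab Gen.c (1280 + r)) :=
  edges_tab (sm gc) Qf (tab Gen.c) 1280 [(1280, 1586), (1281, 1339), (1282, 1341), (1283, 862), (1284, 863), (1285, 1524), (1286, 1711), (1287, 865), (1288, 1714), (1289, 866), (1290, 1716), (1291, 1717), (1292, 867), (1293, 1669), (1294, 1668), (1295, 869), (1296, 1719), (1297, 1721), (1298, 1298), (1299, 1723), (1300, 876), (1301, 1726), (1302, 1727), (1303, 880), (1304, 1305), (1305, 1304), (1306, 1729), (1307, 1731), (1308, 1496), (1309, 885), (1310, 1399), (1311, 1033), (1312, 903), (1313, 890), (1314, 906), (1315, 1410), (1316, 892), (1317, 893), (1318, 1736), (1319, 969), (1320, 894), (1321, 1458), (1322, 1457), (1323, 1732), (1324, 1689), (1325, 896), (1326, 897), (1327, 1385), (1328, 1384), (1329, 1238), (1330, 1102), (1331, 900), (1332, 901), (1333, 1743), (1334, 902), (1335, 1066), (1336, 1338), (1337, 1441), (1338, 1336), (1339, 1281), (1340, 1027), (1341, 1282), (1342,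 930), (1343, 1345)]
    ⟨e3 q1280 L75399 q1586, e3 q1281 L73503 q1339, e3 q1282 L73515 q1341, e3 q1283 L32536 q862, e3 q1284 L32544 q863, e3 q1285 L74897 q1524, e3 q1286 L76308 q1711, e3 q1287 L32576 q865, e3 q1288 L76329 q1714, e3 q1289 L32580 q866, e3 q1290 L76343 q1716, e3 q1291 L76351 q1717, e3 q1292 L32588 q867, e3 q1293 L76003 q1669, e3 q1294 L75995 q1668, e3 q1295 L32606 q869, e3 q1296 L76367 q1719, e3 q1297 L76379 q1721, e3 q1298 L72697 q1298, e3 q1299 L76390 q1723, e3 q1300 L32930 q876, e3 q1301 L76417 q1726, e3 q1302 L76425 q1727, e3 q1303 L37701 q880, e3 q1304 L73138 q1305, e3 q1305 L73137 q1304, e3 q1306 L76438 q1729, e3 q1307 L76458 q1731, e3 q1308 L74661 q1496, e3 q1309 L73239 q885, e3 q1310 L73900 q1399, e3 q1311 L73257 q1033, e3 q1312 L73276 q903, e3 q1313 L73282 q890, e3 q1314 L73292 q906, e3 q1315 L73966 q1410, e3 q1316 L73306 q892, e3 q1317 L73311 q893, e3 q1318 L76509 q1736, e3 q1319 L73328 q969, e3 q1320 L73335 q894, e3 q1321 L74373 q1458, e3 q1322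 L74359 q1457, e3 q1323 L76473 q1732, e3 q1324 L76153 q1689, e3 q1325 L73370 q896, e3 q1326 L73382 q897, e3 q1327 L73807 q1385, e3 q1328 L73799 q1384, e3 q1329 L73414 q1238, e3 q1330 L73420 q1102, e3 q1331 L73426 q900, e3 q1332 L73438 q901, e3 q1333 L76578 q1743, e3 q1334 L73457 q902, e3 q1335 L73470 q1066, e3 q1336 L73495 q1338, e3 q1337 L74220 q1441, e3 q1338 L73494 q1336, e3 q1339 L73502 q1281, e3 q1340 L73508 q1027, e3 q1341 L73514 q1282, e3 q1342 L73522 q930, e3 q1343 L73545 q1345, trivial⟩ (by decide +kernel)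

theorem ce_c_21 : ∀ r, r < 64 → sm gc (Qf (1344 + r)) = Qf (tab Gen.c (1344 + r)) :=
  edges_tab (sm gc) Qf (tab Gen.c) 1344 [(1344, 1751), (1345, 1343), (1346, 1753), (1347, 1754), (1348, 1755), (1349, 1756), (1350, 1350), (1351, 1695), (1352, 917), (1353, 1077), (1354, 1758), (1355, 920), (1356, 1760), (1357, 1761), (1358, 922), (1359, 1377), (1360, 926), (1361, 927), (1362, 1362), (1363, 1446), (1364, 929), (1365, 1365), (1366, 1770), (1367, 1367), (1368, 935), (1369, 1415), (1370, 1414), (1371, 977), (1372, 938), (1373, 1373), (1374, 940), (1375, 1707), (1376, 942), (1377, 1359), (1378, 945), (1379, 950), (1380, 1778), (1381, 1381), (1382, 953), (1383, 1780), (1384, 1328), (1385, 1327), (1386, 1060), (1387, 1783), (1388, 960), (1389, 1785), (1390, 1786), (1391, 1482), (1392, 1527), (1393, 963), (1394, 1526), (1395, 1788), (1396, 1781), (1397, 966), (1398, 968), (1399, 1310), (1400, 1535), (1401, 1121), (1402, 1534), (1403, 1791), (1404, 971), (1405, 1793), (1406,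 1794), (1407, 974)]
    ⟨e3 q1344 L76645 q1751, e3 q1345 L73544 q1343, e3 q1346 L76665 q1753, e3 q1347 L76669 q1754, e3 q1348 L76675 q1755, e3 q1349 L76679 q1756, e3 q1350 L73582 q1350, e3 q1351 L76195 q1695, e3 q1352 L73600 q917, e3 q1353 L73616 q1077, e3 q1354 L76693 q1758, e3 q1355 L73624 q920, e3 q1356 L76702 q1760, e3 q1357 L76705 q1761, e3 q1358 L73635 q922, e3 q1359 L73742 q1377, e3 q1360 L73646 q926, e3 q1361 L73650 q927, e3 q1362 L73661 q1362, e3 q1363 L74258 q1446, e3 q1364 L73666 q929, e3 q1365 L73670 q1365, e3 q1366 L76778 q1770, e3 q1367 L73685 q1367, e3 q1368 L73689 q935, e3 q1369 L73999 q1415, e3 q1370 L73991 q1414, e3 q1371 L73702 q977, e3 q1372 L73707 q938, e3 q1373 L73720 q1373, e3 q1374 L73723 q940, e3 q1375 L77134 q1707, e3 q1376 L73732 q942, e3 q1377 L73741 q1359, e3 q1378 L73754 q945, e3 q1379 L73764 q950, e3 q1380 L76836 q1778, e3 q1381 L73777 q1381, e3 q1382 L73781 q953, e3 q1383 L76852 q1780, e3 q1384 L73798 q1328, e3 q1385 L73806 q1327, e3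 q1386 L73815 q1060, e3 q1387 L76880 q1783, e3 q1388 L73825 q960, e3 q1389 L76893 q1785, e3 q1390 L76903 q1786, e3 q1391 L74544 q1482, e3 q1392 L74931 q1527, e3 q1393 L73851 q963, e3 q1394 L74915 q1526, e3 q1395 L76925 q1788, e3 q1396 L76867 q1781, e3 q1397 L73878 q966, e3 q1398 L73890 q968, e3 q1399 L73901 q1310, e3 q1400 L75003 q1535, e3 q1401 L73908 q1121, e3 q1402 L74989 q1534, e3 q1403 L76948 q1791, e3 q1404 L73927 q971, e3 q1405 L76973 q1793, e3 q1406 L76978 q1794, e3 q1407 L73949 q974, trivial⟩ (by decide +kernel)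

theorem ce_c_22 : ∀ r, r < 64 → sm gc (Qf (1408 + r)) = Qf (tab Gen.c (1408 + r)) :=
  edges_tab (sm gc) Qf (tab Gen.c) 1408 [(1408, 1796), (1409, 1577), (1410, 1315), (1411, 976), (1412, 978), (1413, 1774), (1414, 1370), (1415, 1369), (1416, 1802), (1417, 981), (1418, 982), (1419, 1807), (1420, 1004), (1421, 1808), (1422, 1522), (1423, 994), (1424, 1424), (1425, 1734), (1426, 996), (1427, 1812), (1428, 1813), (1429, 1001), (1430, 1052), (1431, 1104), (1432, 1125), (1433, 1710), (1434, 1092), (1435, 1116), (1436, 1018), (1437, 1815), (1438, 1019), (1439, 1733), (1440, 1768), (1441, 1337), (1442, 1449), (1443, 1021), (1444, 1022), (1445, 1820), (1446, 1363), (1447, 1056), (1448, 1533), (1449, 1442), (1450, 1028), (1451, 1823), (1452, 1523), (1453, 1030), (1454, 1242), (1455, 1455), (1456, 1032), (1457, 1322), (1458, 1321), (1459, 1034), (1460, 1825), (1461, 1826), (1462, 1153), (1463, 1036), (1464, 1037), (1465, 1829), (1466, 1831), (1467, 1038), (1468, 1570), (1469,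 1832), (1470, 1039), (1471, 1638)]
    ⟨e3 q1408 L76994 q1796, e3 q1409 L75317 q1577, e3 q1410 L73967 q1315, e3 q1411 L73970 q976, e3 q1412 L73976 q978, e3 q1413 L76809 q1774, e3 q1414 L73990 q1370, e3 q1415 L73998 q1369, e3 q1416 L77033 q1802, e3 q1417 L74011 q981, e3 q1418 L74015 q982, e3 q1419 L77064 q1807, e3 q1420 L74030 q1004, e3 q1421 L77069 q1808, e3 q1422 L74871 q1522, e3 q1423 L74065 q994, e3 q1424 L74072 q1424, e3 q1425 L76499 q1734, e3 q1426 L74082 q996, e3 q1427 L77112 q1812, e3 q1428 L77119 q1813, e3 q1429 L74102 q1001, e3 q1430 L74115 q1052, e3 q1431 L74127 q1104, e3 q1432 L74139 q1125, e3 q1433 L76307 q1710, e3 q1434 L74163 q1092, e3 q1435 L74173 q1116, e3 q1436 L74180 q1018, e3 q1437 L77142 q1815, e3 q1438 L74196 q1019, e3 q1439 L76482 q1733, e3 q1440 L76767 q1768, e3 q1441 L74219 q1337, e3 q1442 L74286 q1449, e3 q1443 L74233 q1021, e3 q1444 L74239 q1022, e3 q1445 L77196 q1820, e3 q1446 L74257 q1363, e3 q1447 L74267 q1056, e3 q1448 L74979 q1533, e3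 q1449 L74285 q1442, e3 q1450 L74292 q1028, e3 q1451 L77228 q1823, e3 q1452 L74883 q1523, e3 q1453 L74318 q1030, e3 q1454 L74331 q1242, e3 q1455 L74343 q1455, e3 q1456 L74345 q1032, e3 q1457 L74358 q1322, e3 q1458 L74372 q1321, e3 q1459 L74379 q1034, e3 q1460 L77256 q1825, e3 q1461 L77270 q1826, e3 q1462 L74405 q1153, e3 q1463 L74408 q1036, e3 q1464 L74414 q1037, e3 q1465 L77294 q1829, e3 q1466 L77306 q1831, e3 q1467 L74435 q1038, e3 q1468 L75263 q1570, e3 q1469 L77317 q1832, e3 q1470 L74451 q1039, e3 q1471 L75778 q1638, trivial⟩ (by decide +kernel)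

theorem ce_c_23 : ∀ r, r < 64 → sm gc (Qf (1472 + r)) = Qf (tab Gen.c (1472 + r)) :=
  edges_tab (sm gc) Qf (tab Gen.c) 1472 [(1472, 1040), (1473, 1517), (1474, 1041), (1475, 1044), (1476, 1476), (1477, 1763), (1478, 1834), (1479, 1047), (1480, 1048), (1481, 1049), (1482, 1391), (1483, 1051), (1484, 1105), (1485, 1054), (1486, 1106), (1487, 1839), (1488, 1110), (1489, 1061), (1490, 1062), (1491, 1845), (1492, 1846), (1493, 1089), (1494, 1494), (1495, 1088), (1496, 1308), (1497, 1069), (1498, 1703), (1499, 1850), (1500, 1070), (1501, 1852), (1502, 1076), (1503, 1854), (1504, 1078), (1505, 1093), (1506, 1251), (1507, 1082), (1508, 1083), (1509, 1098), (1510, 1858), (1511, 1840), (1512, 1086), (1513, 1862), (1514, 1853), (1515, 1773), (1516, 1855), (1517, 1473), (1518, 1099), (1519, 1750), (1520, 1749), (1521, 1742), (1522, 1422), (1523, 1452), (1524, 1285), (1525, 1821), (1526, 1394), (1527, 1392), (1528, 1843), (1529, 1114), (1530, 1611), (1531, 1115), (1532, 1119),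 (1533, 1448), (1534, 1402), (1535, 1400)]
    ⟨e3 q1472 L74467 q1040, e3 q1473 L74827 q1517, e3 q1474 L74479 q1041, e3 q1475 L74490 q1044, e3 q1476 L74500 q1476, e3 q1477 L76722 q1763, e3 q1478 L77337 q1834, e3 q1479 L74511 q1047, e3 q1480 L74519 q1048, e3 q1481 L74524 q1049, e3 q1482 L74543 q1391, e3 q1483 L74550 q1051, e3 q1484 L74563 q1105, e3 q1485 L74567 q1054, e3 q1486 L74575 q1106, e3 q1487 L77384 q1839, e3 q1488 L74593 q1110, e3 q1489 L74599 q1061, e3 q1490 L74602 q1062, e3 q1491 L77444 q1845, e3 q1492 L77456 q1846, e3 q1493 L74623 q1089, e3 q1494 L74639 q1494, e3 q1495 L74646 q1088, e3 q1496 L74660 q1308, e3 q1497 L74667 q1069, e3 q1498 L76252 q1703, e3 q1499 L77508 q1850, e3 q1500 L74689 q1070, e3 q1501 L77523 q1852, e3 q1502 L74709 q1076, e3 q1503 L77550 q1854, e3 q1504 L74723 q1078, e3 q1505 L74736 q1093, e3 q1506 L74743 q1251, e3 q1507 L74750 q1082, e3 q1508 L74756 q1083, e3 q1509 L74764 q1098, e3 q1510 L77591 q1858, e3 q1511 L77396 q1840, e3 q1512 L74781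 q1086, e3 q1513 L77620 q1862, e3 q1514 L77542 q1853, e3 q1515 L76802 q1773, e3 q1516 L77564 q1855, e3 q1517 L74826 q1473, e3 q1518 L74829 q1099, e3 q1519 L76638 q1750, e3 q1520 L76626 q1749, e3 q1521 L76573 q1742, e3 q1522 L74870 q1422, e3 q1523 L74882 q1452, e3 q1524 L74896 q1285, e3 q1525 L77213 q1821, e3 q1526 L74914 q1394, e3 q1527 L74930 q1392, e3 q1528 L77426 q1843, e3 q1529 L74940 q1114, e3 q1530 L75580 q1611, e3 q1531 L74954 q1115, e3 q1532 L74966 q1119, e3 q1533 L74978 q1448, e3 q1534 L74988 q1402, e3 q1535 L75002 q1400, trivial⟩ (by decide +kernel)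

theorem ce_c_24 : ∀ r, r < 64 → sm gc (Qf (1536 + r)) = Qf (tab Gen.c (1536 + r)) :=
  edges_tab (sm gc) Qf (tab Gen.c) 1536 [(1536, 1536), (1537, 1801), (1538, 1869), (1539, 1871), (1540, 1137), (1541, 1670), (1542, 1671), (1543, 1672), (1544, 1584), (1545, 1545), (1546, 1550), (1547, 1547), (1548, 1548), (1549, 1885), (1550, 1546), (1551, 1888), (1552, 1212), (1553, 1214), (1554, 1216), (1555, 1141), (1556, 1892), (1557, 1893), (1558, 1583), (1559, 1204), (1560, 1207), (1561, 1897), (1562, 1152), (1563, 1827), (1564, 1844), (1565, 1900), (1566, 1157), (1567, 1705), (1568, 1706), (1569, 1662), (1570, 1468), (1571, 1163), (1572, 1164), (1573, 1165), (1574, 1907), (1575, 1908), (1576, 1849), (1577, 1409), (1578, 1168), (1579, 1169), (1580, 1170), (1581, 1879), (1582, 1896), (1583, 1558), (1584, 1544), (1585, 1915), (1586, 1280), (1587, 1173), (1588, 1174), (1589, 1176), (1590, 1177), (1591, 1178), (1592, 1917), (1593, 1179), (1594, 1919), (1595, 1180), (1596, 1920),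 (1597, 1680), (1598, 1181), (1599, 1922)]
    ⟨e3 q1536 L75012 q1536, e3 q1537 L77031 q1801, e3 q1538 L77676 q1869, e3 q1539 L77702 q1871, e3 q1540 L75043 q1137, e3 q1541 L76013 q1670, e3 q1542 L76021 q1671, e3 q1543 L76027 q1672, e3 q1544 L75375 q1584, e3 q1545 L75069 q1545, e3 q1546 L75107 q1550, e3 q1547 L75088 q1547, e3 q1548 L75093 q1548, e3 q1549 L77817 q1885, e3 q1550 L75106 q1546, e3 q1551 L77847 q1888, e3 q1552 L75122 q1212, e3 q1553 L75132 q1214, e3 q1554 L75144 q1216, e3 q1555 L75151 q1141, e3 q1556 L77894 q1892, e3 q1557 L77902 q1893, e3 q1558 L75365 q1583, e3 q1559 L75174 q1204, e3 q1560 L75186 q1207, e3 q1561 L77935 q1897, e3 q1562 L75201 q1152, e3 q1563 L77282 q1827, e3 q1564 L77433 q1844, e3 q1565 L77959 q1900, e3 q1566 L75231 q1157, e3 q1567 L76275 q1705, e3 q1568 L76281 q1706, e3 q1569 L75950 q1662, e3 q1570 L75262 q1468, e3 q1571 L75270 q1163, e3 q1572 L75278 q1164, e3 q1573 L75284 q1165, e3 q1574 L78048 q1907, e3 q1575 L78060 q1908, e3 q1576 L77499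 q1849, e3 q1577 L75316 q1409, e3 q1578 L75322 q1168, e3 q1579 L75328 q1169, e3 q1580 L75338 q1170, e3 q1581 L77756 q1879, e3 q1582 L77928 q1896, e3 q1583 L75364 q1558, e3 q1584 L75374 q1544, e3 q1585 L78122 q1915, e3 q1586 L75398 q1280, e3 q1587 L75404 q1173, e3 q1588 L75416 q1174, e3 q1589 L75423 q1176, e3 q1590 L75433 q1177, e3 q1591 L75447 q1178, e3 q1592 L78143 q1917, e3 q1593 L75463 q1179, e3 q1594 L78165 q1919, e3 q1595 L75474 q1180, e3 q1596 L78177 q1920, e3 q1597 L76083 q1680, e3 q1598 L75500 q1181, e3 q1599 L78199 q1922, trivial⟩ (by decide +kernel)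

theorem ce_c_25 : ∀ r, r < 64 → sm gc (Qf (1600 + r)) = Qf (tab Gen.c (1600 + r)) :=
  edges_tab (sm gc) Qf (tab Gen.c) 1600 [(1600, 1923), (1601, 1926), (1602, 1186), (1603, 1184), (1604, 1185), (1605, 1929), (1606, 1927), (1607, 1931), (1608, 1265), (1609, 1928), (1610, 1188), (1611, 1530), (1612, 1933), (1613, 1190), (1614, 1191), (1615, 1192), (1616, 1937), (1617, 1938), (1618, 1621), (1619, 1197), (1620, 1940), (1621, 1618), (1622, 1198), (1623, 1942), (1624, 1738), (1625, 1906), (1626, 1891), (1627, 1203), (1628, 1946), (1629, 1945), (1630, 1213), (1631, 1210), (1632, 1643), (1633, 1209), (1634, 1950), (1635, 1948), (1636, 1266), (1637, 1637), (1638, 1471), (1639, 1952), (1640, 1219), (1641, 1673), (1642, 1220), (1643, 1632), (1644, 1954), (1645, 1223), (1646, 1224), (1647, 1932), (1648, 1955), (1649, 1229), (1650, 1228), (1651, 1959), (1652, 1652), (1653, 1231), (1654, 1232), (1655, 1962), (1656, 1963), (1657, 1233), (1658, 1658), (1659, 1720), (1660, 1236),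 (1661, 1237), (1662, 1569), (1663, 1792)]
    ⟨e3 q1600 L78207 q1923, e3 q1601 L78226 q1926, e3 q1602 L75653 q1186, e3 q1603 L75527 q1184, e3 q1604 L75531 q1185, e3 q1605 L78255 q1929, e3 q1606 L78243 q1927, e3 q1607 L78273 q1931, e3 q1608 L75554 q1265, e3 q1609 L78251 q1928, e3 q1610 L75566 q1188, e3 q1611 L75579 q1530, e3 q1612 L78295 q1933, e3 q1613 L75593 q1190, e3 q1614 L75601 q1191, e3 q1615 L75605 q1192, e3 q1616 L78329 q1937, e3 q1617 L78337 q1938, e3 q1618 L75672 q1621, e3 q1619 L75639 q1197, e3 q1620 L78350 q1940, e3 q1621 L75671 q1618, e3 q1622 L75678 q1198, e3 q1623 L78377 q1942, e3 q1624 L76530 q1738, e3 q1625 L78035 q1906, e3 q1626 L77885 q1891, e3 q1627 L75720 q1203, e3 q1628 L78419 q1946, e3 q1629 L78411 q1945, e3 q1630 L75736 q1213, e3 q1631 L75739 q1210, e3 q1632 L75821 q1643, e3 q1633 L75747 q1209, e3 q1634 L78452 q1950, e3 q1635 L78434 q1948, e3 q1636 L75761 q1266, e3 q1637 L75773 q1637, e3 q1638 L75779 q1471, e3 q1639 L78467 q1952, e3 q1640 L75789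 q1219, e3 q1641 L76034 q1673, e3 q1642 L75804 q1220, e3 q1643 L75820 q1632, e3 q1644 L78484 q1954, e3 q1645 L75835 q1223, e3 q1646 L75839 q1224, e3 q1647 L78283 q1932, e3 q1648 L78497 q1955, e3 q1649 L75863 q1229, e3 q1650 L75868 q1228, e3 q1651 L78527 q1959, e3 q1652 L75884 q1652, e3 q1653 L75887 q1231, e3 q1654 L75894 q1232, e3 q1655 L78560 q1962, e3 q1656 L78568 q1963, e3 q1657 L75914 q1233, e3 q1658 L75923 q1658, e3 q1659 L76375 q1720, e3 q1660 L75930 q1236, e3 q1661 L75938 q1237, e3 q1662 L75951 q1569, e3 q1663 L76964 q1792, trivial⟩ (by decide +kernel)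

theorem ce_c_26 : ∀ r, r < 64 → sm gc (Qf (1664 + r)) = Qf (tab Gen.c (1664 + r)) :=
  edges_tab (sm gc) Qf (tab Gen.c) 1664 [(1664, 1243), (1665, 1824), (1666, 1903), (1667, 1889), (1668, 1294), (1669, 1293), (1670, 1541), (1671, 1542), (1672, 1543), (1673, 1641), (1674, 1249), (1675, 1250), (1676, 1972), (1677, 1848), (1678, 1248), (1679, 1974), (1680, 1597), (1681, 1253), (1682, 1254), (1683, 1260), (1684, 1257), (1685, 1258), (1686, 1259), (1687, 1979), (1688, 1741), (1689, 1324), (1690, 1740), (1691, 1976), (1692, 1981), (1693, 1977), (1694, 1978), (1695, 1351), (1696, 1983), (1697, 1697), (1698, 1930), (1699, 1272), (1700, 1987), (1701, 1273), (1702, 1275), (1703, 1498), (1704, 1279), (1705, 1567), (1706, 1568), (1707, 1375), (1708, 1715), (1709, 1918), (1710, 1433), (1711, 1286), (1712, 1990), (1713, 1838), (1714, 1288), (1715, 1708), (1716, 1290), (1717, 1291), (1718, 1992), (1719, 1296), (1720, 1659), (1721, 1297), (1722, 1993), (1723, 1299), (1724, 1960),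 (1725, 1847), (1726, 1301), (1727, 1302)]
    ⟨e3 q1664 L75968 q1243, e3 q1665 L77242 q1824, e3 q1666 L78000 q1903, e3 q1667 L77866 q1889, e3 q1668 L75994 q1294, e3 q1669 L76002 q1293, e3 q1670 L76012 q1541, e3 q1671 L76020 q1542, e3 q1672 L76026 q1543, e3 q1673 L76035 q1641, e3 q1674 L76042 q1249, e3 q1675 L76050 q1250, e3 q1676 L78659 q1972, e3 q1677 L77484 q1848, e3 q1678 L76061 q1248, e3 q1679 L78690 q1974, e3 q1680 L76082 q1597, e3 q1681 L76092 q1253, e3 q1682 L76100 q1254, e3 q1683 L76106 q1260, e3 q1684 L76112 q1257, e3 q1685 L76118 q1258, e3 q1686 L76126 q1259, e3 q1687 L78742 q1979, e3 q1688 L76561 q1741, e3 q1689 L76152 q1324, e3 q1690 L76551 q1740, e3 q1691 L78714 q1976, e3 q1692 L78761 q1981, e3 q1693 L78724 q1977, e3 q1694 L78732 q1978, e3 q1695 L76194 q1351, e3 q1696 L78777 q1983, e3 q1697 L76206 q1697, e3 q1698 L78266 q1930, e3 q1699 L76210 q1272, e3 q1700 L78813 q1987, e3 q1701 L76226 q1273, e3 q1702 L76238 q1275, e3 q1703 L76253 q1498, e3 q1704 L76262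 q1279, e3 q1705 L76274 q1567, e3 q1706 L76280 q1568, e3 q1707 L77133 q1375, e3 q1708 L76334 q1715, e3 q1709 L78155 q1918, e3 q1710 L76306 q1433, e3 q1711 L76309 q1286, e3 q1712 L78842 q1990, e3 q1713 L77375 q1838, e3 q1714 L76328 q1288, e3 q1715 L76335 q1708, e3 q1716 L76342 q1290, e3 q1717 L76350 q1291, e3 q1718 L78855 q1992, e3 q1719 L76366 q1296, e3 q1720 L76374 q1659, e3 q1721 L76378 q1297, e3 q1722 L78869 q1993, e3 q1723 L76391 q1299, e3 q1724 L78540 q1960, e3 q1725 L77470 q1847, e3 q1726 L76416 q1301, e3 q1727 L76424 q1302, trivial⟩ (by decide +kernel)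

theorem ce_c_27 : ∀ r, r < 64 → sm gc (Qf (1728 + r)) = Qf (tab Gen.c (1728 + r)) :=
  edges_tab (sm gc) Qf (tab Gen.c) 1728 [(1728, 1728), (1729, 1306), (1730, 1998), (1731, 1307), (1732, 1323), (1733, 1439), (1734, 1425), (1735, 1999), (1736, 1318), (1737, 1739), (1738, 1624), (1739, 1737), (1740, 1690), (1741, 1688), (1742, 1521), (1743, 1333), (1744, 1817), (1745, 1818), (1746, 1816), (1747, 1819), (1748, 1748), (1749, 1520), (1750, 1519), (1751, 1344), (1752, 2004), (1753, 1346), (1754, 1347), (1755, 1348), (1756, 1349), (1757, 2008), (1758, 1354), (1759, 1982), (1760, 1356), (1761, 1357), (1762, 1842), (1763, 1477), (1764, 1764), (1765, 1765), (1766, 2003), (1767, 1767), (1768, 1440), (1769, 1875), (1770, 1366), (1771, 2013), (1772, 1911), (1773, 1515), (1774, 1413), (1775, 1775), (1776, 1905), (1777, 1936), (1778, 1380), (1779, 1779), (1780, 1383), (1781, 1396), (1782, 2000), (1783, 1387), (1784, 2016), (1785, 1389), (1786, 1390), (1787, 1866), (1788, 1395),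 (1789, 1790), (1790, 1789), (1791, 1403)]
    ⟨e3 q1728 L76437 q1728, e3 q1729 L76439 q1306, e3 q1730 L78925 q1998, e3 q1731 L76459 q1307, e3 q1732 L76472 q1323, e3 q1733 L76483 q1439, e3 q1734 L76498 q1425, e3 q1735 L78941 q1999, e3 q1736 L76508 q1318, e3 q1737 L76539 q1739, e3 q1738 L76531 q1624, e3 q1739 L76538 q1737, e3 q1740 L76550 q1690, e3 q1741 L76560 q1688, e3 q1742 L76572 q1521, e3 q1743 L76579 q1333, e3 q1744 L77164 q1817, e3 q1745 L77180 q1818, e3 q1746 L77158 q1816, e3 q1747 L77188 q1819, e3 q1748 L76618 q1748, e3 q1749 L76625 q1520, e3 q1750 L76637 q1519, e3 q1751 L76646 q1344, e3 q1752 L78994 q2004, e3 q1753 L76666 q1346, e3 q1754 L76670 q1347, e3 q1755 L76676 q1348, e3 q1756 L76680 q1349, e3 q1757 L79028 q2008, e3 q1758 L76694 q1354, e3 q1759 L78772 q1982, e3 q1760 L76701 q1356, e3 q1761 L76706 q1357, e3 q1762 L77415 q1842, e3 q1763 L76721 q1477, e3 q1764 L76733 q1764, e3 q1765 L76736 q1765, e3 q1766 L78987 q2003, e3 q1767 L76759 q1767, e3 q1768 L76766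 q1440, e3 q1769 L77726 q1875, e3 q1770 L76779 q1366, e3 q1771 L79078 q2013, e3 q1772 L78088 q1911, e3 q1773 L76803 q1515, e3 q1774 L76808 q1413, e3 q1775 L76820 q1775, e3 q1776 L78024 q1905, e3 q1777 L78325 q1936, e3 q1778 L76835 q1380, e3 q1779 L76849 q1779, e3 q1780 L76853 q1383, e3 q1781 L76866 q1396, e3 q1782 L78949 q2000, e3 q1783 L76881 q1387, e3 q1784 L79112 q2016, e3 q1785 L76892 q1389, e3 q1786 L76902 q1390, e3 q1787 L77662 q1866, e3 q1788 L76924 q1395, e3 q1789 L76943 q1790, e3 q1790 L76942 q1789, e3 q1791 L76949 q1403, trivial⟩ (by decide +kernel)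

theorem ce_c_28 : ∀ r, r < 64 → sm gc (Qf (1792 + r)) = Qf (tab Gen.c (1792 + r)) :=
  edges_tab (sm gc) Qf (tab Gen.c) 1792 [(1792, 1663), (1793, 1405), (1794, 1406), (1795, 2019), (1796, 1408), (1797, 1910), (1798, 2021), (1799, 1912), (1800, 1800), (1801, 1537), (1802, 1416), (1803, 1857), (1804, 1986), (1805, 1909), (1806, 1870), (1807, 1419), (1808, 1421), (1809, 1865), (1810, 1810), (1811, 1811), (1812, 1427), (1813, 1428), (1814, 1916), (1815, 1437), (1816, 1746), (1817, 1744), (1818, 1745), (1819, 1747), (1820, 1445), (1821, 1525), (1822, 1901), (1823, 1451), (1824, 1665), (1825, 1460), (1826, 1461), (1827, 1563), (1828, 1828), (1829, 1465), (1830, 1904), (1831, 1466), (1832, 1469), (1833, 1995), (1834, 1478), (1835, 2029), (1836, 2027), (1837, 1951), (1838, 1713), (1839, 1487), (1840, 1511), (1841, 1841), (1842, 1762), (1843, 1528), (1844, 1564), (1845, 1491), (1846, 1492), (1847, 1725), (1848, 1677), (1849, 1576), (1850, 1499), (1851, 2033), (1852, 1501),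 (1853, 1514), (1854, 1503), (1855, 1516)]
    ⟨e3 q1792 L76965 q1663, e3 q1793 L76972 q1405, e3 q1794 L76979 q1406, e3 q1795 L79142 q2019, e3 q1796 L76995 q1408, e3 q1797 L78078 q1910, e3 q1798 L79159 q2021, e3 q1799 L78098 q1912, e3 q1800 L77027 q1800, e3 q1801 L77032 q1537, e3 q1802 L77034 q1416, e3 q1803 L77590 q1857, e3 q1804 L78807 q1986, e3 q1805 L78074 q1909, e3 q1806 L77695 q1870, e3 q1807 L77063 q1419, e3 q1808 L77070 q1421, e3 q1809 L77648 q1865, e3 q1810 L77095 q1810, e3 q1811 L77104 q1811, e3 q1812 L77111 q1427, e3 q1813 L77120 q1428, e3 q1814 L78137 q1916, e3 q1815 L77141 q1437, e3 q1816 L77157 q1746, e3 q1817 L77163 q1744, e3 q1818 L77179 q1745, e3 q1819 L77187 q1747, e3 q1820 L77195 q1445, e3 q1821 L77214 q1525, e3 q1822 L77976 q1901, e3 q1823 L77227 q1451, e3 q1824 L77241 q1665, e3 q1825 L77255 q1460, e3 q1826 L77269 q1461, e3 q1827 L77281 q1563, e3 q1828 L77293 q1828, e3 q1829 L77295 q1465, e3 q1830 L78014 q1904, e3 q1831 L77307 q1466, e3 q1832 L77316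 q1469, e3 q1833 L78901 q1995, e3 q1834 L77336 q1478, e3 q1835 L79251 q2029, e3 q1836 L79240 q2027, e3 q1837 L78463 q1951, e3 q1838 L77374 q1713, e3 q1839 L77385 q1487, e3 q1840 L77397 q1511, e3 q1841 L77410 q1841, e3 q1842 L77416 q1762, e3 q1843 L77425 q1528, e3 q1844 L77434 q1564, e3 q1845 L77443 q1491, e3 q1846 L77455 q1492, e3 q1847 L77469 q1725, e3 q1848 L77483 q1677, e3 q1849 L77500 q1576, e3 q1850 L77507 q1499, e3 q1851 L79295 q2033, e3 q1852 L77524 q1501, e3 q1853 L77541 q1514, e3 q1854 L77549 q1503, e3 q1855 L77563 q1516, trivial⟩ (by decide +kernel)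

theorem ce_c_29 : ∀ r, r < 64 → sm gc (Qf (1856 + r)) = Qf (tab Gen.c (1856 + r)) :=
  edges_tab (sm gc) Qf (tab Gen.c) 1856 [(1856, 2022), (1857, 1803), (1858, 1510), (1859, 1969), (1860, 1973), (1861, 2034), (1862, 1513), (1863, 2036), (1864, 2011), (1865, 1809), (1866, 1787), (1867, 1934), (1868, 2007), (1869, 1538), (1870, 1806), (1871, 1539), (1872, 1887), (1873, 2037), (1874, 1883), (1875, 1769), (1876, 1949), (1877, 1890), (1878, 1970), (1879, 1581), (1880, 1971), (1881, 1881), (1882, 1882), (1883, 1874), (1884, 1884), (1885, 1549), (1886, 2039), (1887, 1872), (1888, 1551), (1889, 1667), (1890, 1877), (1891, 1626), (1892, 1556), (1893, 1557), (1894, 1967), (1895, 2043), (1896, 1582), (1897, 1561), (1898, 2031), (1899, 2032), (1900, 1565), (1901, 1822), (1902, 1975), (1903, 1666), (1904, 1830), (1905, 1776), (1906, 1625), (1907, 1574), (1908, 1575), (1909, 1805), (1910, 1797), (1911, 1772), (1912, 1799), (1913, 2045), (1914, 1914), (1915, 1585), (1916, 1814),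 (1917, 1592), (1918, 1709), (1919, 1594)]
    ⟨e3 q1856 L79174 q2022, e3 q1857 L77589 q1803, e3 q1858 L77592 q1510, e3 q1859 L78633 q1969, e3 q1860 L78676 q1973, e3 q1861 L79318 q2034, e3 q1862 L77619 q1513, e3 q1863 L79329 q2036, e3 q1864 L79054 q2011, e3 q1865 L77647 q1809, e3 q1866 L77661 q1787, e3 q1867 L78301 q1934, e3 q1868 L79026 q2007, e3 q1869 L77677 q1538, e3 q1870 L77694 q1806, e3 q1871 L77703 q1539, e3 q1872 L77844 q1887, e3 q1873 L79348 q2037, e3 q1874 L77800 q1883, e3 q1875 L77727 q1769, e3 q1876 L78443 q1949, e3 q1877 L77876 q1890, e3 q1878 L78644 q1970, e3 q1879 L77757 q1581, e3 q1880 L78654 q1971, e3 q1881 L77776 q1881, e3 q1882 L77789 q1882, e3 q1883 L77801 q1874, e3 q1884 L77810 q1884, e3 q1885 L77818 q1549, e3 q1886 L79370 q2039, e3 q1887 L77843 q1872, e3 q1888 L77848 q1551, e3 q1889 L77865 q1667, e3 q1890 L77875 q1877, e3 q1891 L77886 q1626, e3 q1892 L77893 q1556, e3 q1893 L77901 q1557, e3 q1894 L78609 q1967, e3 q1895 L79420 q2043, e3 q1896 L77927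 q1582, e3 q1897 L77936 q1561, e3 q1898 L79283 q2031, e3 q1899 L79290 q2032, e3 q1900 L77960 q1565, e3 q1901 L77975 q1822, e3 q1902 L78704 q1975, e3 q1903 L77999 q1666, e3 q1904 L78013 q1830, e3 q1905 L78023 q1776, e3 q1906 L78036 q1625, e3 q1907 L78047 q1574, e3 q1908 L78059 q1575, e3 q1909 L78073 q1805, e3 q1910 L78077 q1797, e3 q1911 L78087 q1772, e3 q1912 L78097 q1799, e3 q1913 L79441 q2045, e3 q1914 L78121 q1914, e3 q1915 L78123 q1585, e3 q1916 L78136 q1814, e3 q1917 L78142 q1592, e3 q1918 L78156 q1709, e3 q1919 L78164 q1594, trivial⟩ (by decide +kernel)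

theorem ce_c_30 : ∀ r, r < 64 → sm gc (Qf (1920 + r)) = Qf (tab Gen.c (1920 + r)) :=
  edges_tab (sm gc) Qf (tab Gen.c) 1920 [(1920, 1596), (1921, 2049), (1922, 1599), (1923, 1600), (1924, 1925), (1925, 1924), (1926, 1601), (1927, 1606), (1928, 1609), (1929, 1605), (1930, 1698), (1931, 1607), (1932, 1647), (1933, 1612), (1934, 1867), (1935, 2030), (1936, 1777), (1937, 1616), (1938, 1617), (1939, 2006), (1940, 1620), (1941, 1943), (1942, 1623), (1943, 1941), (1944, 2001), (1945, 1629), (1946, 1628), (1947, 1947), (1948, 1635), (1949, 1876), (1950, 1634), (1951, 1837), (1952, 1639), (1953, 1953), (1954, 1644), (1955, 1648), (1956, 2053), (1957, 2026), (1958, 1997), (1959, 1651), (1960, 1724), (1961, 1961), (1962, 1655), (1963, 1656), (1964, 2035), (1965, 1965), (1966, 1994), (1967, 1894), (1968, 1968), (1969, 1859), (1970, 1878), (1971, 1880), (1972, 1676), (1973, 1860), (1974, 1679), (1975, 1902), (1976, 1691), (1977, 1693), (1978, 1694), (1979, 1687), (1980, 1980),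 (1981, 1692), (1982, 1759), (1983, 1696)]
    ⟨e3 q1920 L78176 q1596, e3 q1921 L79490 q2049, e3 q1922 L78198 q1599, e3 q1923 L78206 q1600, e3 q1924 L78221 q1925, e3 q1925 L78220 q1924, e3 q1926 L78227 q1601, e3 q1927 L78242 q1606, e3 q1928 L78250 q1609, e3 q1929 L78254 q1605, e3 q1930 L78267 q1698, e3 q1931 L78272 q1607, e3 q1932 L78282 q1647, e3 q1933 L78294 q1612, e3 q1934 L78300 q1867, e3 q1935 L79269 q2030, e3 q1936 L78324 q1777, e3 q1937 L78328 q1616, e3 q1938 L78336 q1617, e3 q1939 L79013 q2006, e3 q1940 L78351 q1620, e3 q1941 L78387 q1943, e3 q1942 L78376 q1623, e3 q1943 L78386 q1941, e3 q1944 L78963 q2001, e3 q1945 L78410 q1629, e3 q1946 L78418 q1628, e3 q1947 L78428 q1947, e3 q1948 L78433 q1635, e3 q1949 L78444 q1876, e3 q1950 L78451 q1634, e3 q1951 L78464 q1837, e3 q1952 L78468 q1639, e3 q1953 L78483 q1953, e3 q1954 L78485 q1644, e3 q1955 L78496 q1648, e3 q1956 L79553 q2053, e3 q1957 L79229 q2026, e3 q1958 L78919 q1997, e3 q1959 L78526 q1651, e3 q1960 L78541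 q1724, e3 q1961 L78548 q1961, e3 q1962 L78559 q1655, e3 q1963 L78567 q1656, e3 q1964 L79328 q2035, e3 q1965 L78593 q1965, e3 q1966 L78883 q1994, e3 q1967 L78608 q1894, e3 q1968 L78624 q1968, e3 q1969 L78634 q1859, e3 q1970 L78643 q1878, e3 q1971 L78653 q1880, e3 q1972 L78660 q1676, e3 q1973 L78675 q1860, e3 q1974 L78689 q1679, e3 q1975 L78703 q1902, e3 q1976 L78713 q1691, e3 q1977 L78723 q1693, e3 q1978 L78731 q1694, e3 q1979 L78741 q1687, e3 q1980 L78760 q1980, e3 q1981 L78762 q1692, e3 q1982 L78771 q1759, e3 q1983 L78778 q1696, trivial⟩ (by decide +kernel)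

theorem ce_c_31 : ∀ r, r < 64 → sm gc (Qf (1984 + r)) = Qf (tab Gen.c (1984 + r)) :=
  edges_tab (sm gc) Qf (tab Gen.c) 1984 [(1984, 2056), (1985, 1985), (1986, 1804), (1987, 1700), (1988, 2044), (1989, 1989), (1990, 1712), (1991, 2020), (1992, 1718), (1993, 1722), (1994, 1966), (1995, 1833), (1996, 2024), (1997, 1958), (1998, 1730), (1999, 1735), (2000, 1782), (2001, 1944), (2002, 2025), (2003, 1766), (2004, 1752), (2005, 2057), (2006, 1939), (2007, 1868), (2008, 1757), (2009, 2050), (2010, 2054), (2011, 1864), (2012, 2040), (2013, 1771), (2014, 2051), (2015, 2052), (2016, 1784), (2017, 2048), (2018, 2055), (2019, 1795), (2020, 1991), (2021, 1798), (2022, 1856), (2023, 2047), (2024, 1996), (2025, 2002), (2026, 1957), (2027, 1836), (2028, 2041), (2029, 1835), (2030, 1935), (2031, 1898), (2032, 1899), (2033, 1851), (2034, 1861), (2035, 1964), (2036, 1863), (2037, 1873), (2038, 2042), (2039, 1886), (2040, 2012), (2041, 2028), (2042, 2038), (2043, 1895), (2044, 1988),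 (2045, 1913), (2046, 2046), (2047, 2023)]
    ⟨e3 q1984 L79584 q2056, e3 q1985 L78797 q1985, e3 q1986 L78806 q1804, e3 q1987 L78812 q1700, e3 q1988 L79438 q2044, e3 q1989 L78837 q1989, e3 q1990 L78841 q1712, e3 q1991 L79148 q2020, e3 q1992 L78854 q1718, e3 q1993 L78868 q1722, e3 q1994 L78882 q1966, e3 q1995 L78900 q1833, e3 q1996 L79196 q2024, e3 q1997 L78918 q1958, e3 q1998 L78924 q1730, e3 q1999 L78940 q1735, e3 q2000 L78948 q1782, e3 q2001 L78962 q1944, e3 q2002 L79210 q2025, e3 q2003 L78986 q1766, e3 q2004 L78995 q1752, e3 q2005 L79602 q2057, e3 q2006 L79012 q1939, e3 q2007 L79027 q1868, e3 q2008 L79029 q1757, e3 q2009 L79512 q2050, e3 q2010 L79563 q2054, e3 q2011 L79053 q1864, e3 q2012 L79385 q2040, e3 q2013 L79077 q1771, e3 q2014 L79523 q2051, e3 q2015 L79535 q2052, e3 q2016 L79111 q1784, e3 q2017 L79485 q2048, e3 q2018 L79577 q2055, e3 q2019 L79141 q1795, e3 q2020 L79147 q1991, e3 q2021 L79160 q1798, e3 q2022 L79173 q1856, e3 q2023 L79475 q2047, e3 q2024 L79195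 q1996, e3 q2025 L79209 q2002, e3 q2026 L79230 q1957, e3 q2027 L79239 q1836, e3 q2028 L79394 q2041, e3 q2029 L79252 q1835, e3 q2030 L79270 q1935, e3 q2031 L79284 q1898, e3 q2032 L79289 q1899, e3 q2033 L79296 q1851, e3 q2034 L79317 q1861, e3 q2035 L79327 q1964, e3 q2036 L79330 q1863, e3 q2037 L79347 q1873, e3 q2038 L79406 q2042, e3 q2039 L79369 q1886, e3 q2040 L79386 q2012, e3 q2041 L79393 q2028, e3 q2042 L79405 q2038, e3 q2043 L79419 q1895, e3 q2044 L79437 q1988, e3 q2045 L79442 q1913, e3 q2046 L79459 q2046, e3 q2047 L79474 q2023, trivial⟩ (by decide +kernel)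

theorem ce_c_32 : ∀ r, r < 10 → sm gc (Qf (2048 + r)) = Qf (tab Gen.c (2048 + r)) :=
  edges_tab (sm gc) Qf (tab Gen.c) 2048 [(2048, 2017), (2049, 1921), (2050, 2009), (2051, 2014), (2052, 2015), (2053, 1956), (2054, 2010), (2055, 2018), (2056, 1984), (2057, 2005)]
    ⟨e3 q2048 L79484 q2017, e3 q2049 L79491 q1921, e3 q2050 L79513 q2009, e3 q2051 L79522 q2014, e3 q2052 L79534 q2015, e3 q2053 L79552 q1956, e3 q2054 L79562 q2010, e3 q2055 L79576 q2018, e3 q2056 L79583 q1984, e3 q2057 L79601 q2005, trivial⟩ (by decide +kernel)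

theorem cl_c : ∀ i, i < 2058 → sm gc (Qf i) = Qf (tab Gen.c i) :=
  all_of_chunks (fun i => sm gc (Qf i) = Qf (tab Gen.c i)) 32 10
    ⟨ce_c_0, ce_c_1, ce_c_2, ce_c_3, ce_c_4, ce_c_5, ce_c_6, ce_c_7, ce_c_8, ce_c_9, ce_c_10, ce_c_11, ce_c_12, ce_c_13, ce_c_14, ce_c_15, ce_c_16, ce_c_17, ce_c_18, ce_c_19, ce_c_20, ce_c_21, ce_c_22, ce_c_23, ce_c_24, ce_c_25, ce_c_26, ce_c_27, ce_c_28, ce_c_29, ce_c_30, ce_c_31, trivial⟩
    ce_c_32

theorem ce_d_0 : ∀ r, r < 64 → sm gd (Qf (0 + r)) = Qf (tab Gen.d (0 + r)) :=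
  edges_tab (sm gd) Qf (tab Gen.d) 0 [(0, 0), (1, 1), (2, 5), (3, 6), (4, 8), (5, 2), (6, 3), (7, 7), (8, 4), (9, 19), (10, 10), (11, 11), (12, 24), (13, 13), (14, 14), (15, 29), (16, 16), (17, 17), (18, 34), (19, 9), (20, 38), (21, 39), (22, 40), (23, 42), (24, 12), (25, 47), (26, 49), (27, 50), (28, 52), (29, 15), (30, 57), (31, 59), (32, 60), (33, 61), (34, 18), (35, 62), (36, 36), (37, 68), (38, 20), (39, 21), (40, 22), (41, 70), (42, 23), (43, 76), (44, 77), (45, 80), (46, 46), (47, 25), (48, 85), (49, 26), (50, 27), (51, 90), (52, 28), (53, 96), (54, 97), (55, 86), (56, 56), (57, 30), (58, 104), (59, 31), (60, 32), (61, 33), (62, 35), (63, 112)]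
    ⟨e3 q0 L2 q0, e3 q1 L7 q1, e3 q2 L30 q5, e3 q3 L34 q6, e3 q4 L46 q8, e3 q5 L31 q2, e3 q6 L35 q3, e3 q7 L48309 q7, e3 q8 L47 q4, e3 q9 L106 q19, e3 q10 L60 q10, e3 q11 L64 q11, e3 q12 L130 q24, e3 q13 L72 q13, e3 q14 L77 q14, e3 q15 L199 q29, e3 q16 L96 q16, e3 q17 L102 q17, e3 q18 L229 q34, e3 q19 L107 q9, e3 q20 L269 q38, e3 q21 L263 q39, e3 q22 L270 q40, e3 q23 L290 q42, e3 q24 L131 q12, e3 q25 L316 q47, e3 q26 L333 q49, e3 q27 L355 q50, e3 q28 L431 q52, e3 q29 L200 q15, e3 q30 L454 q57, e3 q31 L466 q59, e3 q32 L469 q60, e3 q33 L477 q61, e3 q34 L230 q18, e3 q35 L496 q62, e3 q36 L240 q36, e3 q37 L520 q68, e3 q38 L268 q20, e3 q39 L264 q21, e3 q40 L271 q22, e3 q41 L539 q70, e3 q42 L291 q23, e3 q43 L578 q76, e3 q44 L604 q77, e3 q45 L621 q80, e3 q46 L72160 q46, e3 q47 L317 q25, e3 q48 L654 q85, e3 q49 L334 q26, e3 q50 L356 q27, e3 q51 L833 q90, e3 q52 L432 q28, e3 q53 L866 q96, e3 q54 L887 q97, e3 q55 L69756 q86, e3 q56 L453 q56, e3 q57 L455 q30, e3 q58 L929 q104,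 e3 q59 L467 q31, e3 q60 L470 q32, e3 q61 L478 q33, e3 q62 L495 q35, e3 q63 L977 q112, trivial⟩ (by decide +kernel)

theorem ce_d_1 : ∀ r, r < 64 → sm gd (Qf (64 + r)) = Qf (tab Gen.d (64 + r)) :=
  edges_tab (sm gd) Qf (tab Gen.d) 64 [(64, 109), (65, 65), (66, 116), (67, 117), (68, 37), (69, 69), (70, 41), (71, 122), (72, 123), (73, 119), (74, 128), (75, 75), (76, 43), (77, 44), (78, 136), (79, 137), (80, 45), (81, 140), (82, 141), (83, 139), (84, 84), (85, 48), (86, 55), (87, 88), (88, 87), (89, 149), (90, 51), (91, 154), (92, 155), (93, 151), (94, 144), (95, 95), (96, 53), (97, 54), (98, 168), (99, 169), (100, 170), (101, 171), (102, 146), (103, 103), (104, 58), (105, 106), (106, 105), (107, 173), (108, 175), (109, 64), (110, 110), (111, 178), (112, 63), (113, 184), (114, 185), (115, 186), (116, 66), (117, 67), (118, 187), (119, 73), (120, 192), (121, 121), (122, 71), (123, 72), (124, 198), (125, 200), (126, 202), (127, 203)]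
    ⟨e3 q64 L963 q109, e3 q65 L507 q65, e3 q66 L1001 q116, e3 q67 L1007 q117, e3 q68 L521 q37, e3 q69 L538 q69, e3 q70 L540 q41, e3 q71 L1044 q122, e3 q72 L1056 q123, e3 q73 L1031 q119, e3 q74 L1086 q128, e3 q75 L40679 q75, e3 q76 L579 q43, e3 q77 L605 q44, e3 q78 L1156 q136, e3 q79 L1159 q137, e3 q80 L622 q45, e3 q81 L1175 q140, e3 q82 L1191 q141, e3 q83 L72223 q139, e3 q84 L61598 q84, e3 q85 L655 q48, e3 q86 L69757 q55, e3 q87 L70837 q88, e3 q88 L70838 q87, e3 q89 L1345 q149, e3 q90 L834 q51, e3 q91 L1664 q154, e3 q92 L1674 q155, e3 q93 L1650 q151, e3 q94 L68913 q144, e3 q95 L865 q95, e3 q96 L867 q53, e3 q97 L888 q54, e3 q98 L1800 q168, e3 q99 L1803 q169, e3 q100 L1832 q170, e3 q101 L1835 q171, e3 q102 L49000 q146, e3 q103 L928 q103, e3 q104 L930 q58, e3 q105 L70345 q106, e3 q106 L70344 q105, e3 q107 L1915 q173, e3 q108 L1925 q175, e3 q109 L962 q64, e3 q110 L970 q110, e3 q111 L1949 q178, e3 q112 L978 q63, e3 q113 L1973 q184, e3 q114 L1975 q185, e3 q115 L1981 q186,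 e3 q116 L1002 q66, e3 q117 L1008 q67, e3 q118 L1999 q187, e3 q119 L1030 q73, e3 q120 L2038 q192, e3 q121 L72162 q121, e3 q122 L1045 q71, e3 q123 L1057 q72, e3 q124 L2122 q198, e3 q125 L2132 q200, e3 q126 L2144 q202, e3 q127 L2148 q203, trivial⟩ (by decide +kernel)

theorem ce_d_2 : ∀ r, r < 64 → sm gd (Qf (128 + r)) = Qf (tab Gen.d (128 + r)) :=
  edges_tab (sm gd) Qf (tab Gen.d) 128 [(128, 74), (129, 193), (130, 206), (131, 208), (132, 133), (133, 132), (134, 212), (135, 213), (136, 78), (137, 79), (138, 215), (139, 83), (140, 81), (141, 82), (142, 219), (143, 222), (144, 94), (145, 225), (146, 102), (147, 226), (148, 227), (149, 89), (150, 232), (151, 93), (152, 223), (153, 153), (154, 91), (155, 92), (156, 244), (157, 247), (158, 249), (159, 251), (160, 252), (161, 237), (162, 253), (163, 254), (164, 165), (165, 164), (166, 257), (167, 217), (168, 98), (169, 99), (170, 100), (171, 101), (172, 259), (173, 107), (174, 264), (175, 108), (176, 269), (177, 270), (178,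 111), (179, 275), (180, 277), (181, 281), (182, 267), (183, 274), (184, 113), (185, 114), (186, 115), (187, 118), (188, 293), (189, 295), (190, 297), (191, 298)]
    ⟨e3 q128 L1087 q74, e3 q129 L72216 q193, e3 q130 L2184 q206, e3 q131 L2192 q208, e3 q132 L70849 q133, e3 q133 L70848 q132, e3 q134 L2296 q212, e3 q135 L2301 q213, e3 q136 L1157 q78, e3 q137 L1160 q79, e3 q138 L2313 q215, e3 q139 L72224 q83, e3 q140 L1176 q81, e3 q141 L1192 q82, e3 q142 L69323 q219, e3 q143 L2434 q222, e3 q144 L68912 q94, e3 q145 L2522 q225, e3 q146 L49001 q102, e3 q147 L2549 q226, e3 q148 L2680 q227, e3 q149 L1346 q89, e3 q150 L3248 q232, e3 q151 L1649 q93, e3 q152 L68630 q223, e3 q153 L1663 q153, e3 q154 L1665 q91, e3 q155 L1675 q92, e3 q156 L3374 q244, e3 q157 L3388 q247, e3 q158 L3396 q249, e3 q159 L3408 q251, e3 q160 L3412 q252, e3 q161 L70321 q237, e3 q162 L3441 q253, e3 q163 L3450 q254, e3 q164 L70354 q165, e3 q165 L70355 q164, e3 q166 L3577 q257, e3 q167 L70296 q217, e3 q168 L1801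 q98, e3 q169 L1804 q99, e3 q170 L1833 q100, e3 q171 L1836 q101, e3 q172 L70402 q259, e3 q173 L1916 q107, e3 q174 L3783 q264, e3 q175 L1926 q108, e3 q176 L3807 q269, e3 q177 L3811 q270, e3 q178 L1950 q111, e3 q179 L3833 q275, e3 q180 L3841 q277, e3 q181 L3859 q281, e3 q182 L3802 q267, e3 q183 L3832 q274, e3 q184 L1974 q113, e3 q185 L1976 q114, e3 q186 L1982 q115, e3 q187 L2000 q118, e3 q188 L3921 q293, e3 q189 L3933 q295, e3 q190 L3949 q297, e3 q191 L3957 q298, trivial⟩ (by decide +kernel)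

theorem ce_d_3 : ∀ r, r < 64 → sm gd (Qf (192 + r)) = Qf (tab Gen.d (192 + r)) :=
  edges_tab (sm gd) Qf (tab Gen.d) 192 [(192, 120), (193, 129), (194, 300), (195, 302), (196, 303), (197, 304), (198, 124), (199, 308), (200, 125), (201, 312), (202, 126), (203, 127), (204, 317), (205, 314), (206, 130), (207, 322), (208, 131), (209, 328), (210, 329), (211, 331), (212, 134), (213, 135), (214, 260), (215, 138), (216, 220), (217, 167), (218, 340), (219, 142), (220, 216), (221, 341), (222, 143), (223, 152), (224, 342), (225, 145), (226, 147), (227, 148), (228, 333), (229, 229), (230, 230), (231, 348), (232, 150), (233, 354), (234, 356), (235, 358), (236, 338), (237, 161), (238, 359), (239, 360), (240, 265), (241, 365), (242, 368), (243, 370), (244, 156), (245, 375), (246, 376), (247, 157), (248, 250), (249, 158), (250, 248), (251, 159), (252, 160), (253, 162), (254, 163), (255, 387)]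
    ⟨e3 q192 L2039 q120, e3 q193 L72217 q129, e3 q194 L4011 q300, e3 q195 L4021 q302, e3 q196 L4097 q303, e3 q197 L4102 q304, e3 q198 L2123 q124, e3 q199 L4115 q308, e3 q200 L2133 q125, e3 q201 L4126 q312, e3 q202 L2145 q126, e3 q203 L2149 q127, e3 q204 L4159 q317, e3 q205 L4136 q314, e3 q206 L2185 q130, e3 q207 L4235 q322, e3 q208 L2193 q131, e3 q209 L4261 q328, e3 q210 L4271 q329, e3 q211 L4289 q331, e3 q212 L2297 q134, e3 q213 L2302 q135, e3 q214 L69584 q260, e3 q215 L2312 q138, e3 q216 L2399 q220, e3 q217 L70295 q167, e3 q218 L4651 q340, e3 q219 L69322 q142, e3 q220 L2398 q216, e3 q221 L4767 q341, e3 q222 L2435 q143, e3 q223 L68631 q152, e3 q224 L4900 q342, e3 q225 L2523 q145, e3 q226 L2550 q147, e3 q227 L2681 q148, e3 q228 L70744 q333, e3 q229 L2699 q229, e3 q230 L48419 q230, e3 q231 L6467 q348, e3 q232 L3249 q150, e3 q233 L6515 q354, e3 q234 L6527 q356, e3 q235 L6543 q358, e3 q236 L70300 q338, e3 q237 L70320 q161, e3 q238 L6588 q359, e3 q239 L6601 q360, e3 q240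 L3791 q265, e3 q241 L6726 q365, e3 q242 L6738 q368, e3 q243 L6746 q370, e3 q244 L3375 q156, e3 q245 L6762 q375, e3 q246 L6766 q376, e3 q247 L3389 q157, e3 q248 L3407 q250, e3 q249 L3397 q158, e3 q250 L3406 q248, e3 q251 L3409 q159, e3 q252 L3413 q160, e3 q253 L3442 q162, e3 q254 L3451 q163, e3 q255 L6899 q387, trivial⟩ (by decide +kernel)

theorem ce_d_4 : ∀ r, r < 64 → sm gd (Qf (256 + r)) = Qf (tab Gen.d (256 + r)) :=
  edges_tab (sm gd) Qf (tab Gen.d) 256 [(256, 388), (257, 166), (258, 389), (259, 172), (260, 214), (261, 343), (262, 262), (263, 263), (264, 174), (265, 240), (266, 399), (267, 182), (268, 403), (269, 176), (270, 177), (271, 412), (272, 416), (273, 393), (274, 183), (275, 179), (276, 425), (277, 180), (278, 432), (279, 435), (280, 437), (281, 181), (282, 442), (283, 443), (284, 444), (285, 445), (286, 447), (287, 406), (288, 423), (289, 452), (290, 453), (291, 454), (292, 455), (293, 188), (294, 459), (295, 189), (296, 463), (297, 190), (298, 191),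 (299, 467), (300, 194), (301, 469), (302, 195), (303, 196), (304, 197), (305, 481), (306, 475), (307, 485), (308, 199), (309, 491), (310, 478), (311, 495), (312, 201), (313, 501), (314, 205), (315, 320), (316, 507), (317, 204), (318, 512), (319, 514)]
    ⟨e3 q256 L6909 q388, e3 q257 L3578 q166, e3 q258 L7267 q389, e3 q259 L70401 q172, e3 q260 L69585 q214, e3 q261 L70630 q343, e3 q262 L3772 q262, e3 q263 L3782 q263, e3 q264 L3784 q174, e3 q265 L3792 q240, e3 q266 L7581 q399, e3 q267 L3801 q182, e3 q268 L7605 q403, e3 q269 L3808 q176, e3 q270 L3812 q177, e3 q271 L7659 q412, e3 q272 L7673 q416, e3 q273 L7554 q393, e3 q274 L3831 q183, e3 q275 L3834 q179, e3 q276 L7729 q425, e3 q277 L3842 q180, e3 q278 L7763 q432, e3 q279 L7777 q435, e3 q280 L7785 q437, e3 q281 L3860 q181, e3 q282 L7809 q442, e3 q283 L7811 q443, e3 q284 L7813 q444, e3 q285 L7815 q445, e3 q286 L7823 q447, e3 q287 L7628 q406, e3 q288 L7726 q423, e3 q289 L7844 q452, e3 q290 L7847 q453, e3 q291 L7852 q454,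 e3 q292 L7860 q455, e3 q293 L3922 q188, e3 q294 L7880 q459, e3 q295 L3934 q189, e3 q296 L7896 q463, e3 q297 L3950 q190, e3 q298 L3958 q191, e3 q299 L7952 q467, e3 q300 L4012 q194, e3 q301 L8048 q469, e3 q302 L4022 q195, e3 q303 L4098 q196, e3 q304 L4103 q197, e3 q305 L8215 q481, e3 q306 L8194 q475, e3 q307 L8232 q485, e3 q308 L4116 q199, e3 q309 L8257 q491, e3 q310 L8208 q478, e3 q311 L8274 q495, e3 q312 L4127 q201, e3 q313 L8302 q501, e3 q314 L4135 q205, e3 q315 L4226 q320, e3 q316 L8334 q507, e3 q317 L4160 q204, e3 q318 L8402 q512, e3 q319 L8512 q514, trivial⟩ (by decide +kernel)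

theorem ce_d_5 : ∀ r, r < 64 → sm gd (Qf (320 + r)) = Qf (tab Gen.d (320 + r)) :=
  edges_tab (sm gd) Qf (tab Gen.d) 320 [(320, 315), (321, 516), (322, 207), (323, 521), (324, 470), (325, 526), (326, 510), (327, 530), (328, 209), (329, 210), (330, 538), (331, 211), (332, 335), (333, 228), (334, 383), (335, 332), (336, 337), (337, 336), (338, 236), (339, 543), (340, 218), (341, 221), (342, 224), (343, 261), (344, 549), (345, 345), (346, 346), (347, 465), (348, 231), (349, 555), (350, 556), (351, 552), (352, 559), (353, 561), (354, 233), (355, 357), (356, 234), (357, 355), (358, 235), (359, 238), (360, 239), (361, 395), (362, 575), (363, 578), (364, 580), (365, 241), (366, 585), (367, 586), (368, 242), (369, 590), (370, 243), (371, 594), (372, 596), (373, 599), (374, 601), (375, 245), (376, 246), (377, 608), (378, 604), (379, 611), (380, 606), (381, 579), (382, 613), (383, 334)]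
    ⟨e3 q320 L4225 q315, e3 q321 L8538 q516, e3 q322 L4236 q207, e3 q323 L8568 q521, e3 q324 L8063 q470, e3 q325 L8614 q526, e3 q326 L8399 q510, e3 q327 L8630 q530, e3 q328 L4262 q209, e3 q329 L4272 q210, e3 q330 L8654 q538, e3 q331 L4290 q211, e3 q332 L4469 q335, e3 q333 L70743 q228, e3 q334 L69182 q383, e3 q335 L4470 q332, e3 q336 L70799 q337, e3 q337 L70798 q336, e3 q338 L70301 q236, e3 q339 L9443 q543, e3 q340 L4652 q218, e3 q341 L4768 q221, e3 q342 L4901 q224, e3 q343 L70629 q261, e3 q344 L10731 q549, e3 q345 L5263 q345, e3 q346 L68345 q346, e3 q347 L71169 q465, e3 q348 L6468 q231, e3 q349 L13062 q555, e3 q350 L13076 q556, e3 q351 L65725 q552, e3 q352 L13112 q559, e3 q353 L13124 q561, e3 q354 L6516 q233, e3 q355 L6542 q357, e3 q356 L6528 q234, e3 q357 L6541 q355, e3 q358 L6544 q235, e3 q359 L6589 q238, e3 q360 L6602 q239, e3 q361 L7562 q395, e3 q362 L13467 q575, e3 q363 L13481 q578, e3 q364 L13489 q580, e3 q365 L6727 q241, e3 q366 L13513 q585, e3 q367 L13515 q586,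 e3 q368 L6739 q242, e3 q369 L13527 q590, e3 q370 L6747 q243, e3 q371 L13539 q594, e3 q372 L13547 q596, e3 q373 L13558 q599, e3 q374 L13570 q601, e3 q375 L6763 q245, e3 q376 L6767 q246, e3 q377 L13610 q608, e3 q378 L13595 q604, e3 q379 L13618 q611, e3 q380 L13607 q606, e3 q381 L72555 q579, e3 q382 L13663 q613, e3 q383 L69181 q334, trivial⟩ (by decide +kernel)

theorem ce_d_6 : ∀ r, r < 64 → sm gd (Qf (384 + r)) = Qf (tab Gen.d (384 + r)) :=
  edges_tab (sm gd) Qf (tab Gen.d) 384 [(384, 614), (385, 519), (386, 618), (387, 255), (388, 256), (389, 258), (390, 541), (391, 624), (392, 409), (393, 273), (394, 407), (395, 361), (396, 633), (397, 636), (398, 638), (399, 266), (400, 642), (401, 643), (402, 644), (403, 268), (404, 648), (405, 650), (406, 287), (407, 394), (408, 656), (409, 392), (410, 422), (411, 662), (412, 271), (413, 667), (414, 658), (415, 670), (416, 272), (417, 675), (418, 676), (419, 677), (420, 678), (421, 680), (422, 410), (423, 288), (424, 685), (425,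 276), (426, 692), (427, 695), (428, 696), (429, 698), (430, 701), (431, 703), (432, 278), (433, 706), (434, 635), (435, 279), (436, 710), (437, 280), (438, 713), (439, 714), (440, 717), (441, 718), (442, 282), (443, 283), (444, 284), (445, 285), (446, 493), (447, 286)]
    ⟨e3 q384 L13804 q614, e3 q385 L65950 q519, e3 q386 L13825 q618, e3 q387 L6900 q255, e3 q388 L6910 q256, e3 q389 L7268 q258, e3 q390 L43779 q541, e3 q391 L14920 q624, e3 q392 L7648 q409, e3 q393 L7553 q273, e3 q394 L7636 q407, e3 q395 L7561 q361, e3 q396 L14988 q633, e3 q397 L15010 q636, e3 q398 L15024 q638, e3 q399 L7582 q266, e3 q400 L15066 q642, e3 q401 L15072 q643, e3 q402 L15076 q644, e3 q403 L7606 q268, e3 q404 L15100 q648, e3 q405 L15110 q650, e3 q406 L7627 q287, e3 q407 L7635 q394, e3 q408 L15149 q656, e3 q409 L7647 q392, e3 q410 L7718 q422, e3 q411 L15199 q662, e3 q412 L7660 q271, e3 q413 L15227 q667, e3 q414 L51815 q658, e3 q415 L15257 q670, e3 q416 L7674 q272, e3 q417 L15291 q675, e3 q418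 L15295 q676, e3 q419 L15301 q677, e3 q420 L15305 q678, e3 q421 L15319 q680, e3 q422 L7717 q410, e3 q423 L7725 q288, e3 q424 L15357 q685, e3 q425 L7730 q276, e3 q426 L15385 q692, e3 q427 L15401 q695, e3 q428 L15413 q696, e3 q429 L15425 q698, e3 q430 L15449 q701, e3 q431 L15463 q703, e3 q432 L7764 q278, e3 q433 L15483 q706, e3 q434 L71897 q635, e3 q435 L7778 q279, e3 q436 L15493 q710, e3 q437 L7786 q280, e3 q438 L15501 q713, e3 q439 L15507 q714, e3 q440 L15537 q717, e3 q441 L15541 q718, e3 q442 L7810 q282, e3 q443 L7812 q283, e3 q444 L7814 q284, e3 q445 L7816 q285, e3 q446 L52951 q493, e3 q447 L7824 q286, trivial⟩ (by decide +kernel)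

theorem ce_d_7 : ∀ r, r < 64 → sm gd (Qf (448 + r)) = Qf (tab Gen.d (448 + r)) :=
  edges_tab (sm gd) Qf (tab Gen.d) 448 [(448, 731), (449, 652), (450, 733), (451, 734), (452, 289), (453, 290), (454, 291), (455, 292), (456, 748), (457, 742), (458, 752), (459, 294), (460, 757), (461, 745), (462, 760), (463, 296), (464, 766), (465, 347), (466, 768), (467, 299), (468, 773), (469, 301), (470, 324), (471, 536), (472, 771), (473, 534), (474, 784), (475, 306), (476, 499), (477, 788), (478, 310), (479, 489), (480, 792), (481, 305), (482, 799), (483, 801), (484, 802), (485, 307), (486, 806), (487, 808), (488, 498), (489, 479), (490, 814), (491, 309), (492, 819), (493, 446), (494, 822), (495, 311), (496, 826), (497, 827), (498, 488), (499, 476), (500, 831), (501, 313), (502, 837), (503, 839), (504, 505), (505, 504), (506, 841), (507, 316), (508, 846), (509, 847), (510, 326), (511, 772)]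
    ⟨e3 q448 L15606 q731, e3 q449 L71819 q652, e3 q450 L15620 q733, e3 q451 L15622 q734, e3 q452 L7845 q289, e3 q453 L7848 q290, e3 q454 L7853 q291, e3 q455 L7861 q292, e3 q456 L15706 q748, e3 q457 L15675 q742, e3 q458 L15730 q752, e3 q459 L7881 q294, e3 q460 L15762 q757, e3 q461 L15697 q745, e3 q462 L15786 q760, e3 q463 L7897 q296, e3 q464 L15830 q766, e3 q465 L71170 q347, e3 q466 L15854 q768, e3 q467 L7953 q299, e3 q468 L16034 q773, e3 q469 L8049 q301, e3 q470 L8062 q324, e3 q471 L52981 q536, e3 q472 L15899 q771, e3 q473 L53007 q534, e3 q474 L16373 q784, e3 q475 L8193 q306, e3 q476 L8297 q499, e3 q477 L16390 q788, e3 q478 L8207 q310, e3 q479 L8253 q489, e3 q480 L16409 q792, e3 q481 L8216 q305, e3 q482 L16437 q799, e3 q483 L16447 q801, e3 q484 L16457 q802, e3 q485 L8233 q307, e3 q486 L16472 q806, e3 q487 L16484 q808, e3 q488 L8292 q498, e3 q489 L8252 q479, e3 q490 L16521 q814, e3 q491 L8258 q309, e3 q492 L16549 q819, e3 q493 L52952 q446, e3 q494 L16569 q822, e3 q495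 L8275 q311, e3 q496 L16598 q826, e3 q497 L16603 q827, e3 q498 L8291 q488, e3 q499 L8296 q476, e3 q500 L16628 q831, e3 q501 L8303 q313, e3 q502 L16656 q837, e3 q503 L16666 q839, e3 q504 L70803 q505, e3 q505 L70804 q504, e3 q506 L16686 q841, e3 q507 L8335 q316, e3 q508 L16770 q846, e3 q509 L16788 q847, e3 q510 L8398 q326, e3 q511 L71558 q772, trivial⟩ (by decide +kernel)

theorem ce_d_8 : ∀ r, r < 64 → sm gd (Qf (512 + r)) = Qf (tab Gen.d (512 + r)) :=
  edges_tab (sm gd) Qf (tab Gen.d) 512 [(512, 318), (513, 852), (514, 319), (515, 548), (516, 321), (517, 858), (518, 671), (519, 385), (520, 857), (521, 323), (522, 776), (523, 860), (524, 862), (525, 863), (526, 325), (527, 865), (528, 866), (529, 867), (530, 327), (531, 869), (532, 870), (533, 850), (534, 473), (535, 871), (536, 471), (537, 874), (538, 330), (539, 876), (540, 542), (541, 390), (542, 540), (543, 339), (544, 544), (545, 545), (546, 878), (547, 879), (548, 515), (549, 344), (550, 880), (551, 730), (552,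 351), (553, 885), (554, 887), (555, 349), (556, 350), (557, 893), (558, 894), (559, 352), (560, 898), (561, 353), (562, 902), (563, 904), (564, 890), (565, 907), (566, 892), (567, 702), (568, 620), (569, 682), (570, 622), (571, 630), (572, 914), (573, 836), (574, 917), (575, 362)]
    ⟨e3 q512 L8403 q318, e3 q513 L17032 q852, e3 q514 L8513 q319, e3 q515 L67148 q548, e3 q516 L8539 q321, e3 q517 L17134 q858, e3 q518 L71708 q671, e3 q519 L65951 q385, e3 q520 L53011 q857, e3 q521 L8569 q323, e3 q522 L16103 q776, e3 q523 L17238 q860, e3 q524 L17252 q862, e3 q525 L17260 q863, e3 q526 L8615 q325, e3 q527 L17284 q865, e3 q528 L17286 q866, e3 q529 L17288 q867, e3 q530 L8631 q327, e3 q531 L17300 q869, e3 q532 L17308 q870, e3 q533 L16819 q850, e3 q534 L53006 q473, e3 q535 L17345 q871, e3 q536 L52980 q471, e3 q537 L17361 q874, e3 q538 L8655 q330, e3 q539 L17421 q876, e3 q540 L9005 q542, e3 q541 L43780 q390, e3 q542 L9006 q540, e3 q543 L9444 q339, e3 q544 L9458 q544, e3 q545 L67823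 q545, e3 q546 L19216 q878, e3 q547 L19825 q879, e3 q548 L67149 q515, e3 q549 L10732 q344, e3 q550 L21094 q880, e3 q551 L65664 q730, e3 q552 L65726 q351, e3 q553 L24816 q885, e3 q554 L24828 q887, e3 q555 L13063 q349, e3 q556 L13077 q350, e3 q557 L24866 q893, e3 q558 L24870 q894, e3 q559 L13113 q352, e3 q560 L24890 q898, e3 q561 L13125 q353, e3 q562 L24910 q902, e3 q563 L25000 q904, e3 q564 L65806 q890, e3 q565 L25012 q907, e3 q566 L53514 q892, e3 q567 L72610 q702, e3 q568 L26300 q620, e3 q569 L72000 q682, e3 q570 L66074 q622, e3 q571 L14971 q630, e3 q572 L25631 q914, e3 q573 L72579 q836, e3 q574 L25657 q917, e3 q575 L13468 q362, trivial⟩ (by decide +kernel)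

theorem ce_d_9 : ∀ r, r < 64 → sm gd (Qf (576 + r)) = Qf (tab Gen.d (576 + r)) :=
  edges_tab (sm gd) Qf (tab Gen.d) 576 [(576, 920), (577, 700), (578, 363), (579, 381), (580, 364), (581, 923), (582, 639), (583, 926), (584, 927), (585, 366), (586, 367), (587, 935), (588, 929), (589, 938), (590, 369), (591, 942), (592, 932), (593, 945), (594, 371), (595, 790), (596, 372), (597, 950), (598, 882), (599, 373), (600, 953), (601, 374), (602, 955), (603, 957), (604, 378), (605, 960), (606, 380), (607, 963), (608, 377), (609, 969), (610, 971), (611, 379), (612, 974), (613, 382), (614, 384), (615, 981), (616, 982), (617, 983), (618, 386), (619, 986), (620, 568), (621, 669), (622, 570), (623, 775), (624, 391), (625, 994), (626, 995), (627, 996), (628, 997), (629, 998), (630, 571), (631, 1000), (632, 1001), (633, 396), (634, 1003), (635, 434), (636, 397), (637, 1005), (638, 398), (639, 582)]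
    ⟨e3 q576 L25677 q920, e3 q577 L72501 q700, e3 q578 L13482 q363, e3 q579 L72556 q381, e3 q580 L13490 q364, e3 q581 L25695 q923, e3 q582 L15051 q639, e3 q583 L25713 q926, e3 q584 L25717 q927, e3 q585 L13514 q366, e3 q586 L13516 q367, e3 q587 L25741 q935, e3 q588 L25726 q929, e3 q589 L25753 q938, e3 q590 L13528 q369, e3 q591 L25777 q942, e3 q592 L25734 q932, e3 q593 L25789 q945, e3 q594 L13540 q371, e3 q595 L52819 q790, e3 q596 L13548 q372, e3 q597 L25833 q950, e3 q598 L72426 q882, e3 q599 L13559 q373, e3 q600 L25861 q953, e3 q601 L13571 q374, e3 q602 L25877 q955, e3 q603 L25889 q957, e3 q604 L13594 q378, e3 q605 L25903 q960, e3 q606 L13606 q380, e3 q607 L25919 q963, e3 q608 L13611 q377, e3 q609 L25941 q969, e3 q610 L25951 q971, e3 q611 L13619 q379, e3 q612 L25969 q974, e3 q613 L13664 q382, e3 q614 L13805 q384, e3 q615 L26390 q981, e3 q616 L26392 q982, e3 q617 L26394 q983, e3 q618 L13826 q386, e3 q619 L26408 q986, e3 q620 L26299 q568, e3 q621 L51868 q669, e3 q622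 L66073 q570, e3 q623 L42152 q775, e3 q624 L14921 q391, e3 q625 L27903 q994, e3 q626 L27915 q995, e3 q627 L27925 q996, e3 q628 L27931 q997, e3 q629 L27935 q998, e3 q630 L14970 q571, e3 q631 L27955 q1000, e3 q632 L27971 q1001, e3 q633 L14989 q396, e3 q634 L27995 q1003, e3 q635 L71898 q434, e3 q636 L15011 q397, e3 q637 L28019 q1005, e3 q638 L15025 q398, e3 q639 L15050 q582, trivial⟩ (by decide +kernel)

theorem ce_d_10 : ∀ r, r < 64 → sm gd (Qf (640 + r)) = Qf (tab Gen.d (640 + r)) :=
  edges_tab (sm gd) Qf (tab Gen.d) 640 [(640, 1010), (641, 1011), (642, 400), (643, 401), (644, 402), (645, 1018), (646, 1014), (647, 1019), (648, 404), (649, 821), (650, 405), (651, 1024), (652, 449), (653, 1026), (654, 1027), (655, 1028), (656, 408), (657, 1030), (658, 414), (659, 1032), (660, 1033), (661, 1034), (662, 411), (663, 1038), (664, 1039), (665, 1040), (666, 1041), (667, 413), (668, 1045), (669, 621), (670, 415), (671, 518), (672, 1049), (673, 1051), (674, 1052), (675, 417),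 (676, 418), (677, 419), (678, 420), (679, 1062), (680, 421), (681, 1065), (682, 569), (683, 1066), (684, 965), (685, 424), (686, 1069), (687, 1070), (688, 820), (689, 1073), (690, 1076), (691, 1078), (692, 426), (693, 1080), (694, 861), (695, 427), (696, 428), (697, 872), (698, 429), (699, 1086), (700, 577), (701, 430), (702, 567), (703, 431)]
    ⟨e3 q640 L28063 q1010, e3 q641 L28071 q1011, e3 q642 L15067 q400, e3 q643 L15073 q401, e3 q644 L15077 q402, e3 q645 L28127 q1018, e3 q646 L28104 q1014, e3 q647 L28131 q1019, e3 q648 L15101 q404, e3 q649 L52644 q821, e3 q650 L15111 q405, e3 q651 L28187 q1024, e3 q652 L71820 q449, e3 q653 L28209 q1026, e3 q654 L28215 q1027, e3 q655 L28223 q1028, e3 q656 L15150 q408, e3 q657 L28245 q1030, e3 q658 L51814 q414, e3 q659 L28261 q1032, e3 q660 L28269 q1033, e3 q661 L28275 q1034, e3 q662 L15200 q411, e3 q663 L28303 q1038, e3 q664 L28325 q1039, e3 q665 L28329 q1040, e3 q666 L28349 q1041, e3 q667 L15228 q413, e3 q668 L28365 q1045, e3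 q669 L51869 q621, e3 q670 L15258 q415, e3 q671 L71707 q518, e3 q672 L28381 q1049, e3 q673 L28399 q1051, e3 q674 L28409 q1052, e3 q675 L15292 q417, e3 q676 L15296 q418, e3 q677 L15302 q419, e3 q678 L15306 q420, e3 q679 L28465 q1062, e3 q680 L15320 q421, e3 q681 L28501 q1065, e3 q682 L71999 q569, e3 q683 L28505 q1066, e3 q684 L52551 q965, e3 q685 L15358 q424, e3 q686 L28537 q1069, e3 q687 L28541 q1070, e3 q688 L65621 q820, e3 q689 L28587 q1073, e3 q690 L28605 q1076, e3 q691 L28617 q1078, e3 q692 L15386 q426, e3 q693 L28641 q1080, e3 q694 L71917 q861, e3 q695 L15402 q427, e3 q696 L15414 q428, e3 q697 L52865 q872, e3 q698 L15426 q429, e3 q699 L28686 q1086, e3 q700 L72502 q577, e3 q701 L15450 q430, e3 q702 L72609 q567, e3 q703 L15464 q431, trivial⟩ (by decide +kernel)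

theorem ce_d_11 : ∀ r, r < 64 → sm gd (Qf (704 + r)) = Qf (tab Gen.d (704 + r)) :=
  edges_tab (sm gd) Qf (tab Gen.d) 704 [(704, 951), (705, 1090), (706, 433), (707, 911), (708, 1092), (709, 739), (710, 436), (711, 1099), (712, 716), (713, 438), (714, 439), (715, 1102), (716, 712), (717, 440), (718, 441), (719, 1101), (720, 727), (721, 813), (722, 724), (723, 726), (724, 722), (725, 1111), (726, 723), (727, 720), (728, 817), (729, 1023), (730, 551), (731, 448), (732, 1097), (733, 450), (734, 451), (735, 991), (736, 736), (737, 737), (738, 740), (739, 709), (740, 738), (741, 1129), (742, 457), (743, 764), (744, 1132), (745, 461), (746, 756), (747, 1135), (748, 456), (749, 1141), (750, 1143), (751, 1144), (752, 458), (753, 1148), (754, 1149), (755, 763), (756, 746), (757, 460), (758, 1152), (759, 1153), (760, 462), (761, 1157), (762, 1158), (763, 755), (764, 743), (765, 1161), (766, 464), (767, 1166)]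
    ⟨e3 q704 L72830 q951, e3 q705 L28734 q1090, e3 q706 L15484 q433, e3 q707 L72383 q911, e3 q708 L28757 q1092, e3 q709 L41482 q739, e3 q710 L15494 q436, e3 q711 L28814 q1099, e3 q712 L15535 q716, e3 q713 L15502 q438, e3 q714 L15508 q439, e3 q715 L28858 q1102, e3 q716 L15536 q712, e3 q717 L15538 q440, e3 q718 L15542 q441, e3 q719 L72485 q1101, e3 q720 L15570 q727, e3 q721 L72728 q813, e3 q722 L15560 q724, e3 q723 L15566 q726, e3 q724 L15559 q722, e3 q725 L28938 q1111, e3 q726 L15565 q723, e3 q727 L15569 q720, e3 q728 L52884 q817, e3 q729 L41729 q1023, e3 q730 L65665 q551, e3 q731 L15607 q448, e3 q732 L28801 q1097, e3 q733 L15621 q450, e3 q734 L15623 q451, e3 q735 L27896 q991, e3 q736 L15629 q736, e3 q737 L15633 q737, e3 q738 L15659 q740, e3 q739 L41483 q709, e3 q740 L15658 q738, e3 q741 L29170 q1129, e3 q742 L15674 q457, e3 q743 L15823 q764, e3 q744 L29194 q1132, e3 q745 L15696 q461, e3 q746 L15759 q756, e3 q747 L29218 q1135, e3 q748 L15707 q456, e3 q749 L29248 q1141,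 e3 q750 L29262 q1143, e3 q751 L29276 q1144, e3 q752 L15731 q458, e3 q753 L29312 q1148, e3 q754 L29320 q1149, e3 q755 L15815 q763, e3 q756 L15758 q746, e3 q757 L15763 q460, e3 q758 L29378 q1152, e3 q759 L29406 q1153, e3 q760 L15787 q462, e3 q761 L29444 q1157, e3 q762 L29462 q1158, e3 q763 L15814 q755, e3 q764 L15822 q743, e3 q765 L29484 q1161, e3 q766 L15831 q464, e3 q767 L29516 q1166, trivial⟩ (by decide +kernel)

theorem ce_d_12 : ∀ r, r < 64 → sm gd (Qf (768 + r)) = Qf (tab Gen.d (768 + r)) :=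
  edges_tab (sm gd) Qf (tab Gen.d) 768 [(768, 466), (769, 795), (770, 875), (771, 472), (772, 511), (773, 468), (774, 856), (775, 623), (776, 522), (777, 1175), (778, 1176), (779, 1177), (780, 1178), (781, 1179), (782, 1180), (783, 1181), (784, 474), (785, 798), (786, 1187), (787, 1188), (788, 477), (789, 1106), (790, 595), (791, 1193), (792, 480), (793, 1198), (794, 1194), (795, 769), (796, 1203), (797, 1185), (798, 785), (799, 482), (800, 1211), (801, 483), (802, 484), (803, 1213), (804, 1212), (805, 1214), (806, 486), (807, 954), (808, 487), (809, 1093), (810, 851), (811, 1219), (812, 1220), (813, 721), (814, 490), (815, 1223), (816, 1224), (817, 728), (818, 1192), (819, 492), (820, 688), (821, 649), (822, 494), (823, 1232), (824, 1231), (825, 1233), (826, 496), (827, 497), (828, 1238), (829, 1216), (830, 1089), (831, 500)]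
    ⟨e3 q768 L15855 q466, e3 q769 L16430 q795, e3 q770 L66062 q875, e3 q771 L15898 q472, e3 q772 L71559 q511, e3 q773 L16035 q468, e3 q774 L17111 q856, e3 q775 L42153 q623, e3 q776 L16102 q522, e3 q777 L30032 q1175, e3 q778 L30054 q1176, e3 q779 L30068 q1177, e3 q780 L30108 q1178, e3 q781 L30112 q1179, e3 q782 L30116 q1180, e3 q783 L30638 q1181, e3 q784 L16374 q474, e3 q785 L64652 q798, e3 q786 L30661 q1187, e3 q787 L30663 q1188, e3 q788 L16391 q477, e3 q789 L72730 q1106, e3 q790 L52820 q595, e3 q791 L30688 q1193, e3 q792 L16410 q480, e3 q793 L30719 q1198, e3 q794 L64676 q1194, e3 q795 L16429 q769, e3 q796 L30756 q1203, e3 q797 L30656 q1185, e3 q798 L64651 q785, e3 q799 L16438 q482, e3 q800 L30794 q1211, e3 q801 L16448 q483, e3 q802 L16458 q484, e3 q803 L30811 q1213, e3 q804 L30810 q1212, e3 q805 L30813 q1214, e3 q806 L16473 q486, e3 q807 L72885 q954, e3 q808 L16485 q487, e3 q809 L72374 q1093, e3 q810 L72047 q851, e3 q811 L30863 q1219, e3 q812 L30868 q1220, e3 q813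 L72727 q721, e3 q814 L16522 q490, e3 q815 L30904 q1223, e3 q816 L30941 q1224, e3 q817 L52883 q728, e3 q818 L30683 q1192, e3 q819 L16550 q492, e3 q820 L65620 q688, e3 q821 L52643 q649, e3 q822 L16570 q494, e3 q823 L30998 q1232, e3 q824 L30997 q1231, e3 q825 L31002 q1233, e3 q826 L16599 q496, e3 q827 L16604 q497, e3 q828 L31021 q1238, e3 q829 L30828 q1216, e3 q830 L72604 q1089, e3 q831 L16629 q500, trivial⟩ (by decide +kernel)

theorem ce_d_13 : ∀ r, r < 64 → sm gd (Qf (832 + r)) = Qf (tab Gen.d (832 + r)) :=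
  edges_tab (sm gd) Qf (tab Gen.d) 832 [(832, 1242), (833, 1244), (834, 1248), (835, 1164), (836, 573), (837, 502), (838, 1255), (839, 503), (840, 1077), (841, 506), (842, 1261), (843, 843), (844, 1169), (845, 1170), (846, 508), (847, 509), (848, 1272), (849, 1273), (850, 533), (851, 810), (852, 513), (853, 1277), (854, 1173), (855, 855), (856, 774), (857, 520), (858, 517), (859, 1048), (860, 523), (861, 694), (862, 524), (863, 525), (864, 1286), (865, 527), (866, 528), (867, 529), (868, 1290), (869, 531), (870, 532), (871, 535), (872, 697), (873, 1299), (874, 537), (875, 770), (876, 539), (877, 877), (878, 546), (879, 547), (880, 550), (881, 1306), (882, 598), (883, 1307), (884, 1308), (885, 553), (886, 1310), (887, 554), (888, 1311), (889, 939), (890, 564), (891, 1315), (892, 566), (893, 557), (894, 558), (895, 1324)]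
    ⟨e3 q832 L31057 q1242, e3 q833 L31081 q1244, e3 q834 L31099 q1248, e3 q835 L29507 q1164, e3 q836 L72578 q573, e3 q837 L16657 q502, e3 q838 L31131 q1255, e3 q839 L16667 q503, e3 q840 L72528 q1077, e3 q841 L16687 q506, e3 q842 L31199 q1261, e3 q843 L61357 q843, e3 q844 L61285 q1169, e3 q845 L29547 q1170, e3 q846 L16771 q508, e3 q847 L16789 q509, e3 q848 L31455 q1272, e3 q849 L31495 q1273, e3 q850 L16818 q533, e3 q851 L72048 q810, e3 q852 L17033 q513, e3 q853 L32079 q1277, e3 q854 L50227 q1173, e3 q855 L67258 q855, e3 q856 L17110 q774, e3 q857 L53012 q520, e3 q858 L17135 q517, e3 q859 L71695 q1048, e3 q860 L17239 q523, e3 q861 L71918 q694, e3 q862 L17253 q524, e3 q863 L17261 q525, e3 q864 L32571 q1286, e3 q865 L17285 q527, e3 q866 L17287 q528, e3 q867 L17289 q529, e3 q868 L32584 q1290, e3 q869 L17301 q531, e3 q870 L17309 q532, e3 q871 L17346 q535, e3 q872 L52866 q697, e3 q873 L32783 q1299, e3 q874 L17362 q537, e3 q875 L66061 q770, e3 q876 L17422 q539, e3 q877 L67456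 q877, e3 q878 L19217 q546, e3 q879 L19826 q547, e3 q880 L21095 q550, e3 q881 L73212 q1306, e3 q882 L72425 q598, e3 q883 L73222 q1307, e3 q884 L73230 q1308, e3 q885 L24817 q553, e3 q886 L73244 q1310, e3 q887 L24829 q554, e3 q888 L73250 q1311, e3 q889 L72851 q939, e3 q890 L65805 q564, e3 q891 L73294 q1315, e3 q892 L53515 q566, e3 q893 L24867 q557, e3 q894 L24871 q558, e3 q895 L73362 q1324, trivial⟩ (by decide +kernel)

theorem ce_d_14 : ∀ r, r < 64 → sm gd (Qf (896 + r)) = Qf (tab Gen.d (896 + r)) :=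
  edges_tab (sm gd) Qf (tab Gen.d) 896 [(896, 1318), (897, 1327), (898, 560), (899, 1330), (900, 1321), (901, 1333), (902, 562), (903, 1337), (904, 563), (905, 1342), (906, 1344), (907, 565), (908, 1346), (909, 1347), (910, 1348), (911, 707), (912, 1165), (913, 1349), (914, 572), (915, 1351), (916, 1075), (917, 574), (918, 1353), (919, 1354), (920, 576), (921, 1357), (922, 1356), (923, 581), (924, 1359), (925, 1012), (926, 583), (927, 584), (928, 1363), (929, 588), (930, 933), (931, 1108), (932, 592), (933, 930), (934, 1366), (935, 587), (936, 952), (937, 1369), (938, 589), (939, 889), (940, 947), (941, 1375), (942, 591), (943, 989), (944, 1094), (945, 593), (946, 1281), (947, 940), (948, 1191), (949, 1072), (950, 597), (951, 704), (952, 936), (953, 600), (954, 807), (955, 602), (956, 1383), (957, 603), (958, 1386), (959, 1387)]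
    ⟨e3 q896 L73321 q1318, e3 q897 L73388 q1327, e3 q898 L24891 q560, e3 q899 L73416 q1330, e3 q900 L73345 q1321, e3 q901 L73444 q1333, e3 q902 L24911 q562, e3 q903 L73484 q1337, e3 q904 L25001 q563, e3 q905 L73516 q1342, e3 q906 L73532 q1344, e3 q907 L25013 q565, e3 q908 L73548 q1346, e3 q909 L73552 q1347, e3 q910 L73560 q1348, e3 q911 L72382 q707, e3 q912 L73064 q1165, e3 q913 L73564 q1349, e3 q914 L25632 q572, e3 q915 L73589 q1351, e3 q916 L72756 q1075, e3 q917 L25658 q574, e3 q918 L73603 q1353, e3 q919 L73617 q1354, e3 q920 L25678 q576, e3 q921 L73629 q1357, e3 q922 L73628 q1356, e3 q923 L25696 q581, e3 q924 L73639 q1359, e3 q925 L72487 q1012, e3 q926 L25714 q583, e3 q927 L25718 q584, e3 q928 L73662 q1363, e3 q929 L25725 q588, e3 q930 L25764 q933, e3 q931 L73172 q1108, e3 q932 L25733 q592, e3 q933 L25763 q930, e3 q934 L73677 q1366, e3 q935 L25742 q587, e3 q936 L25860 q952, e3 q937 L73695 q1369, e3 q938 L25754 q589, e3 q939 L72850 q889, e3 q940 L25804 q947, e3 q941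 L73727 q1375, e3 q942 L25778 q591, e3 q943 L72858 q989, e3 q944 L72656 q1094, e3 q945 L25790 q593, e3 q946 L73176 q1281, e3 q947 L25803 q940, e3 q948 L72759 q1191, e3 q949 L72761 q1072, e3 q950 L25834 q597, e3 q951 L72829 q704, e3 q952 L25859 q936, e3 q953 L25862 q600, e3 q954 L72884 q807, e3 q955 L25878 q602, e3 q956 L73790 q1383, e3 q957 L25890 q603, e3 q958 L73810 q1386, e3 q959 L73818 q1387, trivial⟩ (by decide +kernel)

theorem ce_d_15 : ∀ r, r < 64 → sm gd (Qf (960 + r)) = Qf (tab Gen.d (960 + r)) :=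
  edges_tab (sm gd) Qf (tab Gen.d) 960 [(960, 605), (961, 1391), (962, 1392), (963, 607), (964, 1396), (965, 684), (966, 1399), (967, 1370), (968, 1385), (969, 609), (970, 1403), (971, 610), (972, 1406), (973, 1390), (974, 612), (975, 1410), (976, 976), (977, 1258), (978, 1259), (979, 1047), (980, 1416), (981, 615), (982, 616), (983, 617), (984, 1419), (985, 1331), (986, 619), (987, 1421), (988, 1044), (989, 943), (990, 1422), (991, 735), (992, 1423), (993, 1424), (994, 625), (995, 626), (996, 627), (997, 628), (998, 629), (999, 1428), (1000, 631), (1001, 632), (1002, 1430), (1003, 634), (1004, 1431), (1005, 637), (1006, 1121), (1007, 1009), (1008, 1376), (1009, 1007), (1010, 640), (1011, 641), (1012, 925), (1013, 1022), (1014, 646), (1015, 1017), (1016, 1021), (1017, 1015), (1018, 645), (1019, 647), (1020, 1442), (1021, 1016), (1022, 1013), (1023, 729)]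
    ⟨e3 q960 L25904 q605, e3 q961 L73842 q1391, e3 q962 L73844 q1392, e3 q963 L25920 q607, e3 q964 L73864 q1396, e3 q965 L52552 q684, e3 q966 L73892 q1399, e3 q967 L73699 q1370, e3 q968 L73809 q1385, e3 q969 L25942 q609, e3 q970 L73920 q1403, e3 q971 L25952 q610, e3 q972 L73940 q1406, e3 q973 L73835 q1390, e3 q974 L25970 q612, e3 q975 L73962 q1410, e3 q976 L26044 q976, e3 q977 L72993 q1258, e3 q978 L72991 q1259, e3 q979 L72678 q1047, e3 q980 L74004 q1416, e3 q981 L26391 q615, e3 q982 L26393 q616, e3 q983 L26395 q617, e3 q984 L74023 q1419, e3 q985 L73432 q1331, e3 q986 L26409 q619, e3 q987 L74038 q1421, e3 q988 L72680 q1044, e3 q989 L72859 q943, e3 q990 L74048 q1422, e3 q991 L27895 q735, e3 q992 L74058 q1423, e3 q993 L74066 q1424, e3 q994 L27904 q625, e3 q995 L27916 q626, e3 q996 L27926 q627, e3 q997 L27932 q628, e3 q998 L27936 q629, e3 q999 L74093 q1428, e3 q1000 L27956 q631, e3 q1001 L27972 q632, e3 q1002 L74107 q1430, e3 q1003 L27996 q634, e3 q1004 L74132 q1431,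 e3 q1005 L28020 q637, e3 q1006 L72474 q1121, e3 q1007 L28061 q1009, e3 q1008 L73736 q1376, e3 q1009 L28062 q1007, e3 q1010 L28064 q640, e3 q1011 L28072 q641, e3 q1012 L72486 q925, e3 q1013 L28152 q1022, e3 q1014 L28103 q646, e3 q1015 L28126 q1017, e3 q1016 L28146 q1021, e3 q1017 L28125 q1015, e3 q1018 L28128 q645, e3 q1019 L28132 q647, e3 q1020 L74221 q1442, e3 q1021 L28145 q1016, e3 q1022 L28151 q1013, e3 q1023 L41728 q729, trivial⟩ (by decide +kernel)

theorem ce_d_16 : ∀ r, r < 64 → sm gd (Qf (1024 + r)) = Qf (tab Gen.d (1024 + r)) :=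
  edges_tab (sm gd) Qf (tab Gen.d) 1024 [(1024, 651), (1025, 1432), (1026, 653), (1027, 654), (1028, 655), (1029, 1452), (1030, 657), (1031, 1455), (1032, 659), (1033, 660), (1034, 661), (1035, 1462), (1036, 1465), (1037, 1466), (1038, 663), (1039, 664), (1040, 665), (1041, 666), (1042, 1241), (1043, 1476), (1044, 988), (1045, 668), (1046, 1401), (1047, 979), (1048, 859), (1049, 672), (1050, 1437), (1051, 673), (1052, 674), (1053, 1456), (1054, 1061), (1055, 1487), (1056, 1058), (1057, 1060), (1058, 1056), (1059, 1384), (1060, 1057), (1061, 1054), (1062, 679), (1063, 1481), (1064, 1494), (1065, 681), (1066, 683), (1067, 1254), (1068, 1105), (1069, 686), (1070, 687), (1071, 1228), (1072, 949), (1073, 689), (1074, 1501), (1075, 916), (1076, 690), (1077, 840), (1078, 691), (1079, 1350), (1080, 693), (1081, 1506), (1082, 1226), (1083, 1127), (1084, 1510), (1085, 1511), (1086, 699), (1087, 1515)]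
    ⟨e3 q1024 L28188 q651, e3 q1025 L74146 q1432, e3 q1026 L28210 q653, e3 q1027 L28216 q654, e3 q1028 L28224 q655, e3 q1029 L74309 q1452, e3 q1030 L28246 q657, e3 q1031 L74333 q1455, e3 q1032 L28262 q659, e3 q1033 L28270 q660, e3 q1034 L28276 q661, e3 q1035 L74400 q1462, e3 q1036 L74418 q1465, e3 q1037 L74426 q1466, e3 q1038 L28304 q663, e3 q1039 L28326 q664, e3 q1040 L28330 q665, e3 q1041 L28350 q666, e3 q1042 L73752 q1241, e3 q1043 L74496 q1476, e3 q1044 L72679 q988, e3 q1045 L28366 q668, e3 q1046 L73913 q1401, e3 q1047 L72677 q979, e3 q1048 L71694 q859, e3 q1049 L28382 q672, e3 q1050 L74194 q1437, e3 q1051 L28400 q673, e3 q1052 L28410 q674, e3 q1053 L74351 q1456, e3 q1054 L28464 q1061, e3 q1055 L74579 q1487, e3 q1056 L28446 q1058, e3 q1057 L28458 q1060, e3 q1058 L28445 q1056, e3 q1059 L73800 q1384, e3 q1060 L28457 q1057, e3 q1061 L28463 q1054, e3 q1062 L28466 q679, e3 q1063 L74534 q1481, e3 q1064 L74631 q1494, e3 q1065 L28502 q681, e3 q1066 L28506 q683, e3 q1067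 L73130 q1254, e3 q1068 L73055 q1105, e3 q1069 L28538 q686, e3 q1070 L28542 q687, e3 q1071 L72939 q1228, e3 q1072 L72760 q949, e3 q1073 L28588 q689, e3 q1074 L74698 q1501, e3 q1075 L72757 q916, e3 q1076 L28606 q690, e3 q1077 L72527 q840, e3 q1078 L28618 q691, e3 q1079 L73588 q1350, e3 q1080 L28642 q693, e3 q1081 L74740 q1506, e3 q1082 L72777 q1226, e3 q1083 L72366 q1127, e3 q1084 L74768 q1510, e3 q1085 L74770 q1511, e3 q1086 L28687 q699, e3 q1087 L74800 q1515, trivial⟩ (by decide +kernel)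

theorem ce_d_17 : ∀ r, r < 64 → sm gd (Qf (1088 + r)) = Qf (tab Gen.d (1088 + r)) :=
  edges_tab (sm gd) Qf (tab Gen.d) 1088 [(1088, 1513), (1089, 830), (1090, 705), (1091, 1361), (1092, 708), (1093, 809), (1094, 944), (1095, 1453), (1096, 1517), (1097, 732), (1098, 1440), (1099, 711), (1100, 1521), (1101, 719), (1102, 715), (1103, 1525), (1104, 1119), (1105, 1068), (1106, 789), (1107, 1496), (1108, 931), (1109, 1320), (1110, 1526), (1111, 725), (1112, 1412), (1113, 1530), (1114, 1445), (1115, 1520), (1116, 1522), (1117, 1449), (1118, 1120), (1119, 1104), (1120, 1118), (1121, 1006), (1122, 1249), (1123, 1472), (1124, 1523), (1125, 1537), (1126, 1538), (1127, 1083), (1128, 1539), (1129, 741), (1130, 1140), (1131, 1544), (1132, 744), (1133, 1285), (1134, 1545), (1135, 747), (1136, 1549), (1137, 1546), (1138, 1551), (1139, 1542), (1140, 1130), (1141, 749), (1142, 1558), (1143, 750), (1144, 751), (1145, 1471), (1146, 1559), (1147, 1200), (1148, 753), (1149, 754), (1150,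 1469), (1151, 1561)]
    ⟨e3 q1088 L74795 q1513, e3 q1089 L72603 q830, e3 q1090 L28735 q705, e3 q1091 L73658 q1361, e3 q1092 L28756 q708, e3 q1093 L72373 q809, e3 q1094 L72657 q944, e3 q1095 L74322 q1453, e3 q1096 L74818 q1517, e3 q1097 L28800 q732, e3 q1098 L74216 q1440, e3 q1099 L28815 q711, e3 q1100 L74854 q1521, e3 q1101 L72484 q719, e3 q1102 L28859 q715, e3 q1103 L74902 q1525, e3 q1104 L29058 q1119, e3 q1105 L73054 q1068, e3 q1106 L72729 q789, e3 q1107 L74665 q1496, e3 q1108 L73171 q931, e3 q1109 L73339 q1320, e3 q1110 L74922 q1526, e3 q1111 L28939 q725, e3 q1112 L73982 q1412, e3 q1113 L74948 q1530, e3 q1114 L74252 q1445, e3 q1115 L74853 q1520, e3 q1116 L74875 q1522, e3 q1117 L74290 q1449, e3 q1118 L29064 q1120, e3 q1119 L29057 q1104, e3 q1120 L29063 q1118, e3 q1121 L72475 q1006, e3 q1122 L73031 q1249, e3 q1123 L74472 q1472, e3 q1124 L74887 q1523, e3 q1125 L75023 q1537, e3 q1126 L75027 q1538, e3 q1127 L72365 q1083, e3 q1128 L75035 q1539, e3 q1129 L29171 q741,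 e3 q1130 L72886 q1140, e3 q1131 L75059 q1544, e3 q1132 L29195 q744, e3 q1133 L72511 q1285, e3 q1134 L75063 q1545, e3 q1135 L29219 q747, e3 q1136 L75094 q1549, e3 q1137 L75083 q1546, e3 q1138 L75112 q1551, e3 q1139 L75054 q1542, e3 q1140 L72887 q1130, e3 q1141 L29249 q749, e3 q1142 L75164 q1558, e3 q1143 L29263 q750, e3 q1144 L29277 q751, e3 q1145 L74465 q1471, e3 q1146 L75179 q1559, e3 q1147 L64493 q1200, e3 q1148 L29313 q753, e3 q1149 L29321 q754, e3 q1150 L74449 q1469, e3 q1151 L75194 q1561, trivial⟩ (by decide +kernel)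

theorem ce_d_18 : ∀ r, r < 64 → sm gd (Qf (1152 + r)) = Qf (tab Gen.d (1152 + r)) :=
  edges_tab (sm gd) Qf (tab Gen.d) 1152 [(1152, 758), (1153, 759), (1154, 1564), (1155, 1563), (1156, 1565), (1157, 761), (1158, 762), (1159, 1569), (1160, 1560), (1161, 765), (1162, 1183), (1163, 1301), (1164, 835), (1165, 912), (1166, 767), (1167, 1189), (1168, 1168), (1169, 844), (1170, 845), (1171, 1585), (1172, 1235), (1173, 854), (1174, 1174), (1175, 777), (1176, 778), (1177, 779), (1178, 780), (1179, 781), (1180, 782), (1181, 783), (1182, 1601), (1183, 1162), (1184, 1205), (1185, 797), (1186, 1608), (1187, 786), (1188, 787), (1189, 1167), (1190, 1486), (1191, 948), (1192, 818), (1193, 791), (1194, 794), (1195, 1599), (1196, 1620), (1197, 1600), (1198, 793), (1199, 1624), (1200, 1147), (1201, 1625), (1202, 1626), (1203, 796), (1204, 1591), (1205, 1184), (1206, 1630), (1207, 1209), (1208, 1632), (1209, 1207), (1210, 1263), (1211, 800), (1212, 804), (1213, 803), (1214, 805), (1215,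 1638)]
    ⟨e3 q1152 L29379 q758, e3 q1153 L29407 q759, e3 q1154 L75214 q1564, e3 q1155 L75213 q1563, e3 q1156 L75222 q1565, e3 q1157 L29445 q761, e3 q1158 L29463 q762, e3 q1159 L75248 q1569, e3 q1160 L75193 q1560, e3 q1161 L29485 q765, e3 q1162 L30650 q1183, e3 q1163 L73012 q1301, e3 q1164 L29506 q835, e3 q1165 L73065 q912, e3 q1166 L29517 q767, e3 q1167 L30675 q1189, e3 q1168 L72876 q1168, e3 q1169 L61284 q844, e3 q1170 L29546 q845, e3 q1171 L75382 q1585, e3 q1172 L31014 q1235, e3 q1173 L50226 q854, e3 q1174 L72985 q1174, e3 q1175 L30033 q777, e3 q1176 L30055 q778, e3 q1177 L30069 q779, e3 q1178 L30109 q780, e3 q1179 L30113 q781, e3 q1180 L30117 q782, e3 q1181 L30639 q783, e3 q1182 L75517 q1601, e3 q1183 L30649 q1162, e3 q1184 L72919 q1205, e3 q1185 L30655 q797, e3 q1186 L75549 q1608, e3 q1187 L30662 q786, e3 q1188 L30664 q787, e3 q1189 L30674 q1167, e3 q1190 L74577 q1486, e3 q1191 L72758 q948, e3 q1192 L30682 q818, e3 q1193 L30689 q791, e3 q1194 L64675 q794, e3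 q1195 L75506 q1599, e3 q1196 L75657 q1620, e3 q1197 L75512 q1600, e3 q1198 L30720 q793, e3 q1199 L75693 q1624, e3 q1200 L64494 q1147, e3 q1201 L75701 q1625, e3 q1202 L75709 q1626, e3 q1203 L30757 q796, e3 q1204 L75451 q1591, e3 q1205 L72920 q1184, e3 q1206 L75733 q1630, e3 q1207 L72922 q1209, e3 q1208 L75743 q1632, e3 q1209 L72921 q1207, e3 q1210 L73167 q1263, e3 q1211 L30795 q800, e3 q1212 L30809 q804, e3 q1213 L30812 q803, e3 q1214 L30814 q805, e3 q1215 L75774 q1638, trivial⟩ (by decide +kernel)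

theorem ce_d_19 : ∀ r, r < 64 → sm gd (Qf (1216 + r)) = Qf (tab Gen.d (1216 + r)) :=
  edges_tab (sm gd) Qf (tab Gen.d) 1216 [(1216, 829), (1217, 1516), (1218, 1639), (1219, 811), (1220, 812), (1221, 1644), (1222, 1611), (1223, 815), (1224, 816), (1225, 1498), (1226, 1082), (1227, 1649), (1228, 1071), (1229, 1524), (1230, 1459), (1231, 824), (1232, 823), (1233, 825), (1234, 1659), (1235, 1172), (1236, 1662), (1237, 1655), (1238, 828), (1239, 1493), (1240, 1665), (1241, 1042), (1242, 832), (1243, 1667), (1244, 833), (1245, 1673), (1246, 1676), (1247, 1677), (1248, 834), (1249, 1122), (1250, 1651), (1251, 1284), (1252, 1642), (1253, 1302), (1254, 1067), (1255, 838), (1256, 1388), (1257, 1257), (1258, 977), (1259, 978), (1260, 1692), (1261, 842), (1262, 1646), (1263, 1210), (1264, 1636), (1265, 1696), (1266, 1697), (1267, 1698), (1268, 1589), (1269, 1641), (1270, 1643), (1271, 1656), (1272, 848), (1273, 849), (1274, 1274), (1275, 1304), (1276, 1703), (1277, 853), (1278,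 1707), (1279, 1708)]
    ⟨e3 q1216 L30827 q829, e3 q1217 L74817 q1516, e3 q1218 L75782 q1639, e3 q1219 L30864 q811, e3 q1220 L30869 q812, e3 q1221 L75824 q1644, e3 q1222 L75586 q1611, e3 q1223 L30905 q815, e3 q1224 L30942 q816, e3 q1225 L74677 q1498, e3 q1226 L72776 q1082, e3 q1227 L75856 q1649, e3 q1228 L72940 q1071, e3 q1229 L74900 q1524, e3 q1230 L74384 q1459, e3 q1231 L30996 q824, e3 q1232 L30999 q823, e3 q1233 L31003 q825, e3 q1234 L75924 q1659, e3 q1235 L31013 q1172, e3 q1236 L75942 q1662, e3 q1237 L75902 q1655, e3 q1238 L31022 q828, e3 q1239 L74630 q1493, e3 q1240 L75974 q1665, e3 q1241 L73751 q1042, e3 q1242 L31058 q832, e3 q1243 L75986 q1667, e3 q1244 L31082 q833, e3 q1245 L76028 q1673, e3 q1246 L76056 q1676, e3 q1247 L76058 q1677, e3 q1248 L31100 q834, e3 q1249 L73030 q1122, e3 q1250 L75881 q1651, e3 q1251 L73029 q1284, e3 q1252 L75808 q1642, e3 q1253 L73014 q1302, e3 q1254 L73129 q1067, e3 q1255 L31132 q838, e3 q1256 L73827 q1388, e3 q1257 L72877 q1257,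 e3 q1258 L72992 q977, e3 q1259 L72990 q978, e3 q1260 L76172 q1692, e3 q1261 L31200 q842, e3 q1262 L75847 q1646, e3 q1263 L73168 q1210, e3 q1264 L75768 q1636, e3 q1265 L76200 q1696, e3 q1266 L76203 q1697, e3 q1267 L76207 q1698, e3 q1268 L75431 q1589, e3 q1269 L75802 q1641, e3 q1270 L75819 q1643, e3 q1271 L75912 q1656, e3 q1272 L31456 q848, e3 q1273 L31496 q849, e3 q1274 L72662 q1274, e3 q1275 L72988 q1304, e3 q1276 L76244 q1703, e3 q1277 L32080 q853, e3 q1278 L76284 q1707, e3 q1279 L76286 q1708, trivial⟩ (by decide +kernel)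

theorem ce_d_20 : ∀ r, r < 64 → sm gd (Qf (1280 + r)) = Qf (tab Gen.d (1280 + r)) :=
  edges_tab (sm gd) Qf (tab Gen.d) 1280 [(1280, 1709), (1281, 946), (1282, 1427), (1283, 1584), (1284, 1251), (1285, 1133), (1286, 864), (1287, 1552), (1288, 1297), (1289, 1715), (1290, 868), (1291, 1294), (1292, 1595), (1293, 1296), (1294, 1291), (1295, 1720), (1296, 1293), (1297, 1288), (1298, 1499), (1299, 873), (1300, 1701), (1301, 1163), (1302, 1253), (1303, 1728), (1304, 1275), (1305, 1305), (1306, 881), (1307, 883), (1308, 884), (1309, 1325), (1310, 886), (1311, 888), (1312, 1373), (1313, 1733), (1314, 1700), (1315, 891), (1316, 1734), (1317, 1531), (1318, 896), (1319, 1322), (1320, 1109), (1321, 900), (1322, 1319), (1323, 1738), (1324, 895), (1325, 1309), (1326, 1740), (1327, 897), (1328, 1335), (1329, 1567), (1330, 899), (1331, 985), (1332, 1420), (1333, 901), (1334, 1397), (1335, 1328), (1336, 1744), (1337, 903), (1338, 1748), (1339, 1382), (1340, 1741), (1341, 1372), (1342,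 905), (1343, 1722)]
    ⟨e3 q1280 L76290 q1709, e3 q1281 L73175 q946, e3 q1282 L74092 q1427, e3 q1283 L75380 q1584, e3 q1284 L73028 q1251, e3 q1285 L72512 q1133, e3 q1286 L32572 q864, e3 q1287 L75126 q1552, e3 q1288 L32614 q1297, e3 q1289 L76330 q1715, e3 q1290 L32583 q868, e3 q1291 L32594 q1294, e3 q1292 L75480 q1595, e3 q1293 L32610 q1296, e3 q1294 L32593 q1291, e3 q1295 L76370 q1720, e3 q1296 L32609 q1293, e3 q1297 L32613 q1288, e3 q1298 L74687 q1499, e3 q1299 L32784 q873, e3 q1300 L76232 q1701, e3 q1301 L73013 q1163, e3 q1302 L73015 q1253, e3 q1303 L76430 q1728, e3 q1304 L72989 q1275, e3 q1305 L37709 q1305, e3 q1306 L73213 q881, e3 q1307 L73223 q883, e3 q1308 L73231 q884, e3 q1309 L73376 q1325, e3 q1310 L73245 q886, e3 q1311 L73251 q888, e3 q1312 L73719 q1373, e3 q1313 L76474 q1733, e3 q1314 L76224 q1700, e3 q1315 L73295 q891, e3 q1316 L76486 q1734, e3 q1317 L74961 q1531, e3 q1318 L73320 q896, e3 q1319 L73355 q1322, e3 q1320 L73338 q1109, e3 q1321 L73344 q900,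 e3 q1322 L73354 q1319, e3 q1323 L76526 q1738, e3 q1324 L73363 q895, e3 q1325 L73377 q1309, e3 q1326 L76555 q1740, e3 q1327 L73389 q897, e3 q1328 L73477 q1335, e3 q1329 L75242 q1567, e3 q1330 L73417 q899, e3 q1331 L73433 q985, e3 q1332 L74037 q1420, e3 q1333 L73445 q901, e3 q1334 L73883 q1397, e3 q1335 L73476 q1328, e3 q1336 L76592 q1744, e3 q1337 L73485 q903, e3 q1338 L76610 q1748, e3 q1339 L73789 q1382, e3 q1340 L76567 q1741, e3 q1341 L73714 q1372, e3 q1342 L73517 q905, e3 q1343 L76389 q1722, trivial⟩ (by decide +kernel)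

theorem ce_d_21 : ∀ r, r < 64 → sm gd (Qf (1344 + r)) = Qf (tab Gen.d (1344 + r)) :=
  edges_tab (sm gd) Qf (tab Gen.d) 1344 [(1344, 906), (1345, 1752), (1346, 908), (1347, 909), (1348, 910), (1349, 913), (1350, 1079), (1351, 915), (1352, 1757), (1353, 918), (1354, 919), (1355, 1749), (1356, 922), (1357, 921), (1358, 1742), (1359, 924), (1360, 1760), (1361, 1091), (1362, 1766), (1363, 928), (1364, 1729), (1365, 1769), (1366, 934), (1367, 1381), (1368, 1773), (1369, 937), (1370, 967), (1371, 1774), (1372, 1341), (1373, 1312), (1374, 1438), (1375, 941), (1376, 1008), (1377, 1495), (1378, 1532), (1379, 1736), (1380, 1763), (1381, 1367), (1382, 1339), (1383, 956), (1384, 1059), (1385, 968), (1386, 958), (1387, 959), (1388, 1256), (1389, 1482), (1390, 973), (1391, 961), (1392, 962), (1393, 1771), (1394, 1780), (1395, 1782), (1396, 964), (1397, 1334), (1398, 1433), (1399, 966), (1400, 1512), (1401, 1046), (1402, 1610), (1403, 970), (1404, 1792), (1405, 1592), (1406, 972),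 (1407, 1796)]
    ⟨e3 q1344 L73533 q906, e3 q1345 L76653 q1752, e3 q1346 L73549 q908, e3 q1347 L73553 q909, e3 q1348 L73561 q910, e3 q1349 L73565 q913, e3 q1350 L73587 q1079, e3 q1351 L73590 q915, e3 q1352 L76691 q1757, e3 q1353 L73604 q918, e3 q1354 L73618 q919, e3 q1355 L76632 q1749, e3 q1356 L73627 q922, e3 q1357 L73630 q921, e3 q1358 L76577 q1742, e3 q1359 L73640 q924, e3 q1360 L76704 q1760, e3 q1361 L73657 q1091, e3 q1362 L76745 q1766, e3 q1363 L73663 q928, e3 q1364 L76446 q1729, e3 q1365 L76770 q1769, e3 q1366 L73678 q934, e3 q1367 L73770 q1381, e3 q1368 L76796 q1773, e3 q1369 L73694 q937, e3 q1370 L73698 q967, e3 q1371 L76815 q1774, e3 q1372 L73715 q1341, e3 q1373 L73718 q1312, e3 q1374 L74202 q1438, e3 q1375 L73728 q941, e3 q1376 L73735 q1008, e3 q1377 L74653 q1495, e3 q1378 L74973 q1532, e3 q1379 L76514 q1736, e3 q1380 L76728 q1763, e3 q1381 L73769 q1367, e3 q1382 L73788 q1339, e3 q1383 L73791 q956, e3 q1384 L73801 q1059, e3 q1385 L73808 q968, e3 q1386 L73811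 q958, e3 q1387 L73819 q959, e3 q1388 L73826 q1256, e3 q1389 L74548 q1482, e3 q1390 L73834 q973, e3 q1391 L73843 q961, e3 q1392 L73845 q962, e3 q1393 L76789 q1771, e3 q1394 L76858 q1780, e3 q1395 L76879 q1782, e3 q1396 L73865 q964, e3 q1397 L73882 q1334, e3 q1398 L74150 q1433, e3 q1399 L73893 q966, e3 q1400 L74786 q1512, e3 q1401 L73912 q1046, e3 q1402 L75570 q1610, e3 q1403 L73921 q970, e3 q1404 L76954 q1792, e3 q1405 L75461 q1592, e3 q1406 L73941 q972, e3 q1407 L76988 q1796, trivial⟩ (by decide +kernel)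

theorem ce_d_22 : ∀ r, r < 64 → sm gd (Qf (1408 + r)) = Qf (tab Gen.d (1408 + r)) :=
  edges_tab (sm gd) Qf (tab Gen.d) 1408 [(1408, 1425), (1409, 1798), (1410, 975), (1411, 1474), (1412, 1112), (1413, 1800), (1414, 1801), (1415, 1710), (1416, 980), (1417, 1529), (1418, 1806), (1419, 984), (1420, 1332), (1421, 987), (1422, 990), (1423, 992), (1424, 993), (1425, 1408), (1426, 1811), (1427, 1282), (1428, 999), (1429, 1586), (1430, 1002), (1431, 1004), (1432, 1025), (1433, 1398), (1434, 1448), (1435, 1458), (1436, 1518), (1437, 1050), (1438, 1374), (1439, 1457), (1440, 1098), (1441, 1817), (1442, 1020), (1443, 1686), (1444, 1821), (1445, 1114), (1446, 1535), (1447, 1475), (1448, 1434), (1449, 1117), (1450, 1822), (1451, 1596), (1452, 1029), (1453, 1095), (1454, 1810), (1455, 1031), (1456, 1053), (1457, 1439), (1458, 1435), (1459, 1230), (1460, 1491), (1461, 1724), (1462, 1035), (1463, 1828), (1464, 1502), (1465, 1036), (1466, 1037), (1467, 1654), (1468, 1712), (1469,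 1150), (1470, 1835), (1471, 1145)]
    ⟨e3 q1408 L74078 q1425, e3 q1409 L77008 q1798, e3 q1410 L73963 q975, e3 q1411 L74486 q1474, e3 q1412 L73983 q1112, e3 q1413 L77024 q1800, e3 q1414 L77028 q1801, e3 q1415 L76301 q1710, e3 q1416 L74005 q980, e3 q1417 L74947 q1529, e3 q1418 L77057 q1806, e3 q1419 L74022 q984, e3 q1420 L74036 q1332, e3 q1421 L74039 q987, e3 q1422 L74049 q990, e3 q1423 L74059 q992, e3 q1424 L74067 q993, e3 q1425 L74077 q1408, e3 q1426 L77102 q1811, e3 q1427 L74091 q1282, e3 q1428 L74094 q999, e3 q1429 L75395 q1586, e3 q1430 L74108 q1002, e3 q1431 L74131 q1004, e3 q1432 L74145 q1025, e3 q1433 L74149 q1398, e3 q1434 L74278 q1448, e3 q1435 L74377 q1458, e3 q1436 L74835 q1518, e3 q1437 L74193 q1050, e3 q1438 L74201 q1374, e3 q1439 L74363 q1457, e3 q1440 L74215 q1098, e3 q1441 L77172 q1817, e3 q1442 L74222 q1020, e3 q1443 L76128 q1686, e3 q1444 L77203 q1821, e3 q1445 L74251 q1114, e3 q1446 L75009 q1535, e3 q1447 L74495 q1475, e3 q1448 L74277 q1434, e3 q1449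 L74289 q1117, e3 q1450 L77215 q1822, e3 q1451 L75490 q1596, e3 q1452 L74310 q1029, e3 q1453 L74321 q1095, e3 q1454 L77101 q1810, e3 q1455 L74334 q1031, e3 q1456 L74350 q1053, e3 q1457 L74362 q1439, e3 q1458 L74376 q1435, e3 q1459 L74385 q1230, e3 q1460 L74612 q1491, e3 q1461 L76409 q1724, e3 q1462 L74401 q1035, e3 q1463 L77285 q1828, e3 q1464 L75022 q1502, e3 q1465 L74419 q1036, e3 q1466 L74427 q1037, e3 q1467 L75896 q1654, e3 q1468 L76323 q1712, e3 q1469 L74448 q1150, e3 q1470 L77340 q1835, e3 q1471 L74464 q1145, trivial⟩ (by decide +kernel)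

theorem ce_d_23 : ∀ r, r < 64 → sm gd (Qf (1472 + r)) = Qf (tab Gen.d (1472 + r)) :=
  edges_tab (sm gd) Qf (tab Gen.d) 1472 [(1472, 1123), (1473, 1824), (1474, 1411), (1475, 1447), (1476, 1043), (1477, 1803), (1478, 1788), (1479, 1839), (1480, 1840), (1481, 1063), (1482, 1389), (1483, 1841), (1484, 1504), (1485, 1842), (1486, 1190), (1487, 1055), (1488, 1781), (1489, 1778), (1490, 1844), (1491, 1460), (1492, 1718), (1493, 1239), (1494, 1064), (1495, 1377), (1496, 1107), (1497, 1849), (1498, 1225), (1499, 1298), (1500, 1851), (1501, 1074), (1502, 1464), (1503, 1617), (1504, 1484), (1505, 1660), (1506, 1081), (1507, 1588), (1508, 1856), (1509, 1857), (1510, 1084), (1511, 1085), (1512, 1400), (1513, 1088), (1514, 1863), (1515, 1087), (1516, 1217), (1517, 1096), (1518, 1436), (1519, 1534), (1520, 1115), (1521, 1100), (1522, 1116), (1523, 1124), (1524, 1229), (1525, 1103), (1526, 1110), (1527, 1799), (1528, 1867), (1529, 1417), (1530, 1113), (1531, 1317), (1532, 1378),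 (1533, 1743), (1534, 1519), (1535, 1446)]
    ⟨e3 q1472 L74473 q1123, e3 q1473 L77248 q1824, e3 q1474 L74487 q1411, e3 q1475 L74494 q1447, e3 q1476 L74497 q1043, e3 q1477 L77048 q1803, e3 q1478 L76926 q1788, e3 q1479 L77378 q1839, e3 q1480 L77386 q1840, e3 q1481 L74533 q1063, e3 q1482 L74547 q1389, e3 q1483 L77398 q1841, e3 q1484 L74733 q1504, e3 q1485 L77411 q1842, e3 q1486 L74578 q1190, e3 q1487 L74580 q1055, e3 q1488 L76871 q1781, e3 q1489 L76838 q1778, e3 q1490 L77429 q1844, e3 q1491 L74611 q1460, e3 q1492 L76363 q1718, e3 q1493 L74629 q1239, e3 q1494 L74632 q1064, e3 q1495 L74652 q1377, e3 q1496 L74664 q1107, e3 q1497 L77491 q1849, e3 q1498 L74676 q1225, e3 q1499 L74686 q1298, e3 q1500 L77513 q1851, e3 q1501 L74699 q1074, e3 q1502 L75021 q1464, e3 q1503 L75628 q1617, e3 q1504 L74732 q1484, e3 q1505 L75932 q1660, e3 q1506 L74741 q1081, e3 q1507 L75421 q1588, e3 q1508 L77571 q1856, e3 q1509 L77577 q1857, e3 q1510 L74769 q1084, e3 q1511 L74771 q1085, e3 q1512 L74787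 q1400, e3 q1513 L74794 q1088, e3 q1514 L77627 q1863, e3 q1515 L74801 q1087, e3 q1516 L74816 q1217, e3 q1517 L74819 q1096, e3 q1518 L74834 q1436, e3 q1519 L74995 q1534, e3 q1520 L74852 q1115, e3 q1521 L74855 q1100, e3 q1522 L74874 q1116, e3 q1523 L74886 q1124, e3 q1524 L74901 q1229, e3 q1525 L74903 q1103, e3 q1526 L74923 q1110, e3 q1527 L77022 q1799, e3 q1528 L77669 q1867, e3 q1529 L74946 q1417, e3 q1530 L74949 q1113, e3 q1531 L74960 q1317, e3 q1532 L74972 q1378, e3 q1533 L76591 q1743, e3 q1534 L74994 q1519, e3 q1535 L75008 q1446, trivial⟩ (by decide +kernel)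

theorem ce_d_24 : ∀ r, r < 64 → sm gd (Qf (1536 + r)) = Qf (tab Gen.d (1536 + r)) :=
  edges_tab (sm gd) Qf (tab Gen.d) 1536 [(1536, 1574), (1537, 1125), (1538, 1126), (1539, 1128), (1540, 1875), (1541, 1553), (1542, 1139), (1543, 1879), (1544, 1131), (1545, 1134), (1546, 1137), (1547, 1883), (1548, 1873), (1549, 1136), (1550, 1770), (1551, 1138), (1552, 1287), (1553, 1541), (1554, 1556), (1555, 1891), (1556, 1554), (1557, 1579), (1558, 1142), (1559, 1146), (1560, 1160), (1561, 1151), (1562, 1613), (1563, 1155), (1564, 1154), (1565, 1156), (1566, 1901), (1567, 1329), (1568, 1899), (1569, 1159), (1570, 1602), (1571, 1906), (1572, 1909), (1573, 1905), (1574, 1536), (1575, 1616), (1576, 1590), (1577, 1612), (1578, 1615), (1579, 1557), (1580, 1896), (1581, 1913), (1582, 1914), (1583, 1859), (1584, 1283), (1585, 1171), (1586, 1429), (1587, 1855), (1588, 1507), (1589, 1268), (1590, 1576), (1591, 1204), (1592, 1405), (1593, 1918), (1594, 1597), (1595, 1292), (1596, 1451),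 (1597, 1594), (1598, 1921), (1599, 1195)]
    ⟨e3 q1536 L75297 q1574, e3 q1537 L75024 q1125, e3 q1538 L75028 q1126, e3 q1539 L75036 q1128, e3 q1540 L77718 q1875, e3 q1541 L75138 q1553, e3 q1542 L75053 q1139, e3 q1543 L77750 q1879, e3 q1544 L75060 q1131, e3 q1545 L75064 q1134, e3 q1546 L75082 q1137, e3 q1547 L77792 q1883, e3 q1548 L77713 q1873, e3 q1549 L75095 q1136, e3 q1550 L76782 q1770, e3 q1551 L75113 q1138, e3 q1552 L75127 q1287, e3 q1553 L75139 q1541, e3 q1554 L75159 q1556, e3 q1555 L77879 q1891, e3 q1556 L75158 q1554, e3 q1557 L75330 q1579, e3 q1558 L75165 q1142, e3 q1559 L75178 q1146, e3 q1560 L75192 q1160, e3 q1561 L75195 q1151, e3 q1562 L75598 q1613, e3 q1563 L75212 q1155, e3 q1564 L75215 q1154, e3 q1565 L75223 q1156, e3 q1566 L77979 q1901, e3 q1567 L75243 q1329, e3 q1568 L77958 q1899, e3 q1569 L75249 q1159, e3 q1570 L75524 q1602, e3 q1571 L78029 q1906, e3 q1572 L78065 q1909, e3 q1573 L78028 q1905, e3 q1574 L75296 q1536, e3 q1575 L75618 q1616, e3 q1576 L75445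 q1590, e3 q1577 L75590 q1612, e3 q1578 L75609 q1615, e3 q1579 L75331 q1557, e3 q1580 L77934 q1896, e3 q1581 L78101 q1913, e3 q1582 L78112 q1914, e3 q1583 L77602 q1859, e3 q1584 L75381 q1283, e3 q1585 L75383 q1171, e3 q1586 L75394 q1429, e3 q1587 L77570 q1855, e3 q1588 L75420 q1507, e3 q1589 L75430 q1268, e3 q1590 L75444 q1576, e3 q1591 L75450 q1204, e3 q1592 L75460 q1405, e3 q1593 L78148 q1918, e3 q1594 L75498 q1597, e3 q1595 L75479 q1292, e3 q1596 L75489 q1451, e3 q1597 L75497 q1594, e3 q1598 L78182 q1921, e3 q1599 L75505 q1195, trivial⟩ (by decide +kernel)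

theorem ce_d_25 : ∀ r, r < 64 → sm gd (Qf (1600 + r)) = Qf (tab Gen.d (1600 + r)) :=
  edges_tab (sm gd) Qf (tab Gen.d) 1600 [(1600, 1197), (1601, 1182), (1602, 1570), (1603, 1900), (1604, 1930), (1605, 1915), (1606, 1629), (1607, 1783), (1608, 1186), (1609, 1932), (1610, 1402), (1611, 1222), (1612, 1577), (1613, 1562), (1614, 1895), (1615, 1578), (1616, 1575), (1617, 1503), (1618, 1623), (1619, 1939), (1620, 1196), (1621, 1916), (1622, 1693), (1623, 1618), (1624, 1199), (1625, 1201), (1626, 1202), (1627, 1678), (1628, 1723), (1629, 1606), (1630, 1206), (1631, 1947), (1632, 1208), (1633, 1949), (1634, 1917), (1635, 1695), (1636, 1264), (1637, 1951), (1638, 1215), (1639, 1218), (1640, 1823), (1641, 1269), (1642, 1252), (1643, 1270), (1644, 1221), (1645, 1750), (1646, 1262), (1647, 1679), (1648, 1957), (1649, 1227), (1650, 1960), (1651, 1250), (1652, 1825), (1653, 1961), (1654, 1467), (1655, 1237), (1656, 1271), (1657, 1670), (1658, 1827), (1659, 1234), (1660, 1505),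 (1661, 1854), (1662, 1236), (1663, 1902)]
    ⟨e3 q1600 L75511 q1197, e3 q1601 L75518 q1182, e3 q1602 L75523 q1570, e3 q1603 L77968 q1900, e3 q1604 L78262 q1930, e3 q1605 L78130 q1915, e3 q1606 L75732 q1629, e3 q1607 L76884 q1783, e3 q1608 L75550 q1186, e3 q1609 L78278 q1932, e3 q1610 L75569 q1402, e3 q1611 L75585 q1222, e3 q1612 L75589 q1577, e3 q1613 L75597 q1562, e3 q1614 L77922 q1895, e3 q1615 L75610 q1578, e3 q1616 L75617 q1575, e3 q1617 L75627 q1503, e3 q1618 L75692 q1623, e3 q1619 L78344 q1939, e3 q1620 L75658 q1196, e3 q1621 L78135 q1916, e3 q1622 L76180 q1693, e3 q1623 L75691 q1618, e3 q1624 L75694 q1199, e3 q1625 L75702 q1201, e3 q1626 L75710 q1202, e3 q1627 L76066 q1678, e3 q1628 L76398 q1723, e3 q1629 L75731 q1606, e3 q1630 L75734 q1206, e3 q1631 L78424 q1947, e3 q1632 L75744 q1208, e3 q1633 L78437 q1949, e3 q1634 L78147 q1917, e3 q1635 L76199 q1695, e3 q1636 L75767 q1264, e3 q1637 L78457 q1951, e3 q1638 L75775 q1215, e3 q1639 L75783 q1218, e3 q1640 L77234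 q1823, e3 q1641 L75801 q1269, e3 q1642 L75807 q1252, e3 q1643 L75818 q1270, e3 q1644 L75825 q1221, e3 q1645 L76644 q1750, e3 q1646 L75846 q1262, e3 q1647 L76077 q1679, e3 q1648 L78516 q1957, e3 q1649 L75857 q1227, e3 q1650 L78532 q1960, e3 q1651 L75880 q1250, e3 q1652 L77252 q1825, e3 q1653 L78554 q1961, e3 q1654 L75895 q1467, e3 q1655 L75901 q1237, e3 q1656 L75911 q1271, e3 q1657 L76014 q1670, e3 q1658 L77283 q1827, e3 q1659 L75925 q1234, e3 q1660 L75933 q1505, e3 q1661 L77556 q1854, e3 q1662 L75943 q1236, e3 q1663 L77992 q1902, trivial⟩ (by decide +kernel)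

theorem ce_d_26 : ∀ r, r < 64 → sm gd (Qf (1664 + r)) = Qf (tab Gen.d (1664 + r)) :=
  edges_tab (sm gd) Qf (tab Gen.d) 1664 [(1664, 1847), (1665, 1240), (1666, 1945), (1667, 1243), (1668, 1968), (1669, 1952), (1670, 1657), (1671, 1969), (1672, 1846), (1673, 1245), (1674, 1681), (1675, 1751), (1676, 1246), (1677, 1247), (1678, 1627), (1679, 1647), (1680, 1953), (1681, 1674), (1682, 1826), (1683, 1784), (1684, 1786), (1685, 1979), (1686, 1443), (1687, 1980), (1688, 1869), (1689, 1761), (1690, 1812), (1691, 1956), (1692, 1260), (1693, 1622), (1694, 1944), (1695, 1635), (1696, 1265), (1697, 1266), (1698, 1267), (1699, 1876), (1700, 1314), (1701, 1300), (1702, 1989), (1703, 1276), (1704, 1813), (1705, 1832), (1706, 1974), (1707, 1278), (1708, 1279), (1709, 1280), (1710, 1415), (1711, 1711), (1712, 1468), (1713, 1884), (1714, 1894), (1715, 1289), (1716, 1716), (1717, 1919), (1718, 1492), (1719, 1897), (1720, 1295), (1721, 1995), (1722, 1343), (1723, 1628), (1724, 1461),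 (1725, 1988), (1726, 1888), (1727, 1907)]
    ⟨e3 q1664 L77476 q1847, e3 q1665 L75975 q1240, e3 q1666 L78407 q1945, e3 q1667 L75987 q1243, e3 q1668 L78612 q1968, e3 q1669 L78474 q1952, e3 q1670 L76015 q1657, e3 q1671 L78625 q1969, e3 q1672 L77460 q1846, e3 q1673 L76029 q1245, e3 q1674 L76095 q1681, e3 q1675 L76651 q1751, e3 q1676 L76057 q1246, e3 q1677 L76059 q1247, e3 q1678 L76067 q1627, e3 q1679 L76076 q1647, e3 q1680 L78478 q1953, e3 q1681 L76094 q1674, e3 q1682 L77274 q1826, e3 q1683 L76889 q1784, e3 q1684 L76907 q1786, e3 q1685 L78748 q1979, e3 q1686 L76129 q1443, e3 q1687 L78749 q1980, e3 q1688 L77684 q1869, e3 q1689 L76710 q1761, e3 q1690 L77117 q1812, e3 q1691 L78501 q1956, e3 q1692 L76173 q1260, e3 q1693 L76181 q1622, e3 q1694 L78403 q1944, e3 q1695 L76198 q1635, e3 q1696 L76201 q1265, e3 q1697 L76204 q1266, e3 q1698 L76208 q1267, e3 q1699 L77735 q1876, e3 q1700 L76223 q1314, e3 q1701 L76231 q1300, e3 q1702 L78828 q1989, e3 q1703 L76245 q1276, e3 q1704 L77128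 q1813, e3 q1705 L77320 q1832, e3 q1706 L78696 q1974, e3 q1707 L76285 q1278, e3 q1708 L76287 q1279, e3 q1709 L76291 q1280, e3 q1710 L76300 q1415, e3 q1711 L76315 q1711, e3 q1712 L76322 q1468, e3 q1713 L77815 q1884, e3 q1714 L77912 q1894, e3 q1715 L76331 q1289, e3 q1716 L76346 q1716, e3 q1717 L78169 q1919, e3 q1718 L76362 q1492, e3 q1719 L77945 q1897, e3 q1720 L76371 q1295, e3 q1721 L78888 q1995, e3 q1722 L76388 q1343, e3 q1723 L76399 q1628, e3 q1724 L76408 q1461, e3 q1725 L78823 q1988, e3 q1726 L77856 q1888, e3 q1727 L78054 q1907, trivial⟩ (by decide +kernel)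

theorem ce_d_27 : ∀ r, r < 64 → sm gd (Qf (1728 + r)) = Qf (tab Gen.d (1728 + r)) :=
  edges_tab (sm gd) Qf (tab Gen.d) 1728 [(1728, 1303), (1729, 1364), (1730, 1865), (1731, 1862), (1732, 1739), (1733, 1313), (1734, 1316), (1735, 1787), (1736, 1379), (1737, 1926), (1738, 1323), (1739, 1732), (1740, 1326), (1741, 1340), (1742, 1358), (1743, 1533), (1744, 1336), (1745, 1779), (1746, 2001), (1747, 1765), (1748, 1338), (1749, 1355), (1750, 1645), (1751, 1675), (1752, 1345), (1753, 1785), (1754, 1820), (1755, 2007), (1756, 1984), (1757, 1352), (1758, 1815), (1759, 2002), (1760, 1360), (1761, 1689), (1762, 1809), (1763, 1380), (1764, 2010), (1765, 1747), (1766, 1362), (1767, 1997), (1768, 1998), (1769, 1365), (1770, 1550), (1771, 1393), (1772, 2012), (1773, 1368), (1774, 1371), (1775, 1816), (1776, 1848), (1777, 2000), (1778, 1489), (1779, 1745), (1780, 1394), (1781, 1488), (1782, 1395), (1783, 1607), (1784, 1683), (1785, 1753), (1786, 1684), (1787, 1735), (1788, 1478),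 (1789, 1861), (1790, 1933), (1791, 1975)]
    ⟨e3 q1728 L76431 q1303, e3 q1729 L76447 q1364, e3 q1730 L77654 q1865, e3 q1731 L77626 q1862, e3 q1732 L76544 q1739, e3 q1733 L76475 q1313, e3 q1734 L76487 q1316, e3 q1735 L76919 q1787, e3 q1736 L76515 q1379, e3 q1737 L78235 q1926, e3 q1738 L76527 q1323, e3 q1739 L76545 q1732, e3 q1740 L76554 q1326, e3 q1741 L76566 q1340, e3 q1742 L76576 q1358, e3 q1743 L76590 q1533, e3 q1744 L76593 q1336, e3 q1745 L76842 q1779, e3 q1746 L78969 q2001, e3 q1747 L76743 q1765, e3 q1748 L76611 q1338, e3 q1749 L76631 q1355, e3 q1750 L76643 q1645, e3 q1751 L76652 q1675, e3 q1752 L76654 q1345, e3 q1753 L76897 q1785, e3 q1754 L77202 q1820, e3 q1755 L79016 q2007, e3 q1756 L78792 q1984, e3 q1757 L76692 q1352, e3 q1758 L77148 q1815, e3 q1759 L78979 q2002, e3 q1760 L76703 q1360, e3 q1761 L76709 q1689, e3 q1762 L77088 q1809, e3 q1763 L76727 q1380, e3 q1764 L79046 q2010, e3 q1765 L76744 q1747, e3 q1766 L76746 q1362, e3 q1767 L78913 q1997, e3 q1768 L78931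 q1998, e3 q1769 L76771 q1365, e3 q1770 L76783 q1550, e3 q1771 L76788 q1393, e3 q1772 L79070 q2012, e3 q1773 L76797 q1368, e3 q1774 L76814 q1371, e3 q1775 L77152 q1816, e3 q1776 L77490 q1848, e3 q1777 L78954 q2000, e3 q1778 L76837 q1489, e3 q1779 L76841 q1745, e3 q1780 L76859 q1394, e3 q1781 L76870 q1488, e3 q1782 L76878 q1395, e3 q1783 L76885 q1607, e3 q1784 L76888 q1683, e3 q1785 L76896 q1753, e3 q1786 L76906 q1684, e3 q1787 L76918 q1735, e3 q1788 L76927 q1478, e3 q1789 L77612 q1861, e3 q1790 L78289 q1933, e3 q1791 L78710 q1975, trivial⟩ (by decide +kernel)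

theorem ce_d_28 : ∀ r, r < 64 → sm gd (Qf (1792 + r)) = Qf (tab Gen.d (1792 + r)) :=
  edges_tab (sm gd) Qf (tab Gen.d) 1792 [(1792, 1404), (1793, 1853), (1794, 1878), (1795, 2020), (1796, 1407), (1797, 1836), (1798, 1409), (1799, 1527), (1800, 1413), (1801, 1414), (1802, 1807), (1803, 1477), (1804, 1866), (1805, 1985), (1806, 1418), (1807, 1802), (1808, 1954), (1809, 1762), (1810, 1454), (1811, 1426), (1812, 1690), (1813, 1704), (1814, 1864), (1815, 1758), (1816, 1775), (1817, 1441), (1818, 1978), (1819, 2026), (1820, 1754), (1821, 1444), (1822, 1450), (1823, 1640), (1824, 1473), (1825, 1652), (1826, 1682), (1827, 1658), (1828, 1463), (1829, 1845), (1830, 1903), (1831, 1852), (1832, 1705), (1833, 1964), (1834, 2028), (1835, 1470), (1836, 1797), (1837, 2030), (1838, 2031), (1839, 1479), (1840, 1480), (1841, 1483), (1842, 1485), (1843, 2015), (1844, 1490), (1845, 1829), (1846, 1672), (1847, 1664), (1848, 1776), (1849, 1497), (1850, 1973), (1851, 1500), (1852, 1831),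 (1853, 1793), (1854, 1661), (1855, 1587)]
    ⟨e3 q1792 L76955 q1404, e3 q1793 L77536 q1853, e3 q1794 L77749 q1878, e3 q1795 L79157 q2020, e3 q1796 L76989 q1407, e3 q1797 L77351 q1836, e3 q1798 L77009 q1409, e3 q1799 L77023 q1527, e3 q1800 L77025 q1413, e3 q1801 L77029 q1414, e3 q1802 L77067 q1807, e3 q1803 L77047 q1477, e3 q1804 L77668 q1866, e3 q1805 L78799 q1985, e3 q1806 L77058 q1418, e3 q1807 L77068 q1802, e3 q1808 L78493 q1954, e3 q1809 L77087 q1762, e3 q1810 L77100 q1454, e3 q1811 L77103 q1426, e3 q1812 L77118 q1690, e3 q1813 L77127 q1704, e3 q1814 L77638 q1864, e3 q1815 L77147 q1758, e3 q1816 L77151 q1775, e3 q1817 L77171 q1441, e3 q1818 L78735 q1978, e3 q1819 L79217 q2026, e3 q1820 L77201 q1754, e3 q1821 L77204 q1444, e3 q1822 L77216 q1450, e3 q1823 L77233 q1640, e3 q1824 L77247 q1473, e3 q1825 L77251 q1652, e3 q1826 L77273 q1682, e3 q1827 L77284 q1658, e3 q1828 L77286 q1463, e3 q1829 L77446 q1845, e3 q1830 L78005 q1903, e3 q1831 L77531 q1852, e3 q1832 L77321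 q1705, e3 q1833 L78584 q1964, e3 q1834 L79243 q2028, e3 q1835 L77341 q1470, e3 q1836 L77350 q1797, e3 q1837 L79261 q2030, e3 q1838 L79271 q2031, e3 q1839 L77379 q1479, e3 q1840 L77387 q1480, e3 q1841 L77399 q1483, e3 q1842 L77412 q1485, e3 q1843 L79104 q2015, e3 q1844 L77430 q1490, e3 q1845 L77445 q1829, e3 q1846 L77459 q1672, e3 q1847 L77475 q1664, e3 q1848 L77489 q1776, e3 q1849 L77492 q1497, e3 q1850 L78682 q1973, e3 q1851 L77514 q1500, e3 q1852 L77532 q1831, e3 q1853 L77535 q1793, e3 q1854 L77555 q1661, e3 q1855 L77569 q1587, trivial⟩ (by decide +kernel)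

theorem ce_d_29 : ∀ r, r < 64 → sm gd (Qf (1856 + r)) = Qf (tab Gen.d (1856 + r)) :=
  edges_tab (sm gd) Qf (tab Gen.d) 1856 [(1856, 1508), (1857, 1509), (1858, 1946), (1859, 1583), (1860, 2022), (1861, 1789), (1862, 1731), (1863, 1514), (1864, 1814), (1865, 1730), (1866, 1804), (1867, 1528), (1868, 1870), (1869, 1688), (1870, 1868), (1871, 1885), (1872, 1881), (1873, 1548), (1874, 2040), (1875, 1540), (1876, 1699), (1877, 1889), (1878, 1794), (1879, 1543), (1880, 1938), (1881, 1872), (1882, 1886), (1883, 1547), (1884, 1713), (1885, 1871), (1886, 1882), (1887, 1911), (1888, 1726), (1889, 1877), (1890, 1966), (1891, 1555), (1892, 1929), (1893, 1965), (1894, 1714), (1895, 1614), (1896, 1580), (1897, 1719), (1898, 1935), (1899, 1568), (1900, 1603), (1901, 1566), (1902, 1663), (1903, 1830), (1904, 1994), (1905, 1573), (1906, 1571), (1907, 1727), (1908, 1993), (1909, 1572), (1910, 1934), (1911, 1887), (1912, 2013), (1913, 1581), (1914, 1582), (1915, 1605), (1916, 1621),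 (1917, 1634), (1918, 1593), (1919, 1717)]
    ⟨e3 q1856 L77572 q1508, e3 q1857 L77578 q1509, e3 q1858 L78423 q1946, e3 q1859 L77601 q1583, e3 q1860 L79179 q2022, e3 q1861 L77611 q1789, e3 q1862 L77625 q1731, e3 q1863 L77628 q1514, e3 q1864 L77637 q1814, e3 q1865 L77653 q1730, e3 q1866 L77667 q1804, e3 q1867 L77670 q1528, e3 q1868 L77701 q1870, e3 q1869 L77683 q1688, e3 q1870 L77700 q1868, e3 q1871 L77826 q1885, e3 q1872 L77782 q1881, e3 q1873 L77712 q1548, e3 q1874 L79375 q2040, e3 q1875 L77719 q1540, e3 q1876 L77734 q1699, e3 q1877 L77870 q1889, e3 q1878 L77748 q1794, e3 q1879 L77751 q1543, e3 q1880 L78343 q1938, e3 q1881 L77781 q1872, e3 q1882 L77836 q1886, e3 q1883 L77793 q1547, e3 q1884 L77816 q1713, e3 q1885 L77825 q1871, e3 q1886 L77835 q1882, e3 q1887 L78089 q1911, e3 q1888 L77855 q1726, e3 q1889 L77869 q1877, e3 q1890 L78601 q1966, e3 q1891 L77880 q1555, e3 q1892 L78261 q1929, e3 q1893 L78588 q1965, e3 q1894 L77911 q1714, e3 q1895 L77921 q1614, e3 q1896 L77933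 q1580, e3 q1897 L77946 q1719, e3 q1898 L78319 q1935, e3 q1899 L77957 q1568, e3 q1900 L77967 q1603, e3 q1901 L77980 q1566, e3 q1902 L77991 q1663, e3 q1903 L78006 q1830, e3 q1904 L78886 q1994, e3 q1905 L78027 q1573, e3 q1906 L78030 q1571, e3 q1907 L78053 q1727, e3 q1908 L78875 q1993, e3 q1909 L78066 q1572, e3 q1910 L78303 q1934, e3 q1911 L78090 q1887, e3 q1912 L79084 q2013, e3 q1913 L78102 q1581, e3 q1914 L78113 q1582, e3 q1915 L78131 q1605, e3 q1916 L78134 q1621, e3 q1917 L78146 q1634, e3 q1918 L78149 q1593, e3 q1919 L78168 q1717, trivial⟩ (by decide +kernel)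

theorem ce_d_30 : ∀ r, r < 64 → sm gd (Qf (1920 + r)) = Qf (tab Gen.d (1920 + r)) :=
  edges_tab (sm gd) Qf (tab Gen.d) 1920 [(1920, 1963), (1921, 1598), (1922, 1940), (1923, 2050), (1924, 2047), (1925, 2016), (1926, 1737), (1927, 2044), (1928, 1962), (1929, 1892), (1930, 1604), (1931, 1970), (1932, 1609), (1933, 1790), (1934, 1910), (1935, 1898), (1936, 2042), (1937, 1987), (1938, 1880), (1939, 1619), (1940, 1922), (1941, 1996), (1942, 1982), (1943, 2048), (1944, 1694), (1945, 1666), (1946, 1858), (1947, 1631), (1948, 2043), (1949, 1633), (1950, 2035), (1951, 1637), (1952, 1669), (1953, 1680), (1954, 1808), (1955, 2003), (1956, 1691), (1957, 1648), (1958, 2055), (1959, 2004), (1960, 1650), (1961, 1653), (1962, 1928), (1963, 1920), (1964, 1833), (1965, 1893), (1966, 1890), (1967, 2036), (1968, 1668), (1969, 1671), (1970, 1931), (1971, 2032), (1972, 2046), (1973, 1850), (1974, 1706), (1975, 1791), (1976, 2017), (1977, 2049), (1978, 1818), (1979, 1685), (1980, 1687),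 (1981, 2024), (1982, 1942), (1983, 1992)]
    ⟨e3 q1920 L78572 q1963, e3 q1921 L78183 q1598, e3 q1922 L78359 q1940, e3 q1923 L79504 q2050, e3 q1924 L79469 q2047, e3 q1925 L79108 q2016, e3 q1926 L78234 q1737, e3 q1927 L79430 q2044, e3 q1928 L78562 q1962, e3 q1929 L78260 q1892, e3 q1930 L78263 q1604, e3 q1931 L78648 q1970, e3 q1932 L78279 q1609, e3 q1933 L78288 q1790, e3 q1934 L78302 q1910, e3 q1935 L78318 q1898, e3 q1936 L79412 q2042, e3 q1937 L78819 q1987, e3 q1938 L78342 q1880, e3 q1939 L78345 q1619, e3 q1940 L78358 q1922, e3 q1941 L78905 q1996, e3 q1942 L78776 q1982, e3 q1943 L79489 q2048, e3 q1944 L78402 q1694, e3 q1945 L78406 q1666, e3 q1946 L78422 q1858, e3 q1947 L78425 q1631, e3 q1948 L79426 q2043, e3 q1949 L78438 q1633, e3 q1950 L79322 q2035, e3 q1951 L78458 q1637, e3 q1952 L78473 q1669, e3 q1953 L78477 q1680, e3 q1954 L78492 q1808, e3 q1955 L78993 q2003, e3 q1956 L78500 q1691, e3 q1957 L78517 q1648, e3 q1958 L79568 q2055, e3 q1959 L79005 q2004, e3 q1960 L78533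 q1650, e3 q1961 L78553 q1653, e3 q1962 L78561 q1928, e3 q1963 L78571 q1920, e3 q1964 L78583 q1833, e3 q1965 L78587 q1893, e3 q1966 L78600 q1890, e3 q1967 L79342 q2036, e3 q1968 L78613 q1668, e3 q1969 L78626 q1671, e3 q1970 L78647 q1931, e3 q1971 L79294 q2032, e3 q1972 L79465 q2046, e3 q1973 L78681 q1850, e3 q1974 L78695 q1706, e3 q1975 L78709 q1791, e3 q1976 L79116 q2017, e3 q1977 L79503 q2049, e3 q1978 L78736 q1818, e3 q1979 L78747 q1685, e3 q1980 L78750 q1687, e3 q1981 L79202 q2024, e3 q1982 L78775 q1942, e3 q1983 L78861 q1992, trivial⟩ (by decide +kernel)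

theorem ce_d_31 : ∀ r, r < 64 → sm gd (Qf (1984 + r)) = Qf (tab Gen.d (1984 + r)) :=
  edges_tab (sm gd) Qf (tab Gen.d) 1984 [(1984, 1756), (1985, 1805), (1986, 2038), (1987, 1937), (1988, 1725), (1989, 1702), (1990, 2045), (1991, 2037), (1992, 1983), (1993, 1908), (1994, 1904), (1995, 1721), (1996, 1941), (1997, 1767), (1998, 1768), (1999, 2014), (2000, 1777), (2001, 1746), (2002, 1759), (2003, 1955), (2004, 1959), (2005, 2018), (2006, 2025), (2007, 1755), (2008, 2056), (2009, 2011), (2010, 1764), (2011, 2009), (2012, 1772), (2013, 1912), (2014, 1999), (2015, 1843), (2016, 1925), (2017, 1976), (2018, 2005), (2019, 2039), (2020, 1795), (2021, 2052), (2022, 1860), (2023, 2053), (2024, 1981), (2025, 2006), (2026, 1819), (2027, 2034), (2028, 1834), (2029, 2033), (2030, 1837), (2031, 1838), (2032, 1971), (2033, 2029), (2034, 2027), (2035, 1950), (2036, 1967), (2037, 1991), (2038, 1986), (2039, 2019), (2040, 1874), (2041, 2051), (2042, 1936), (2043, 1948), (2044, 1927),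 (2045, 1990), (2046, 1972), (2047, 1924)]
    ⟨e3 q1984 L78791 q1756, e3 q1985 L78798 q1805, e3 q1986 L79362 q2038, e3 q1987 L78818 q1937, e3 q1988 L78822 q1725, e3 q1989 L78829 q1702, e3 q1990 L79452 q2045, e3 q1991 L79351 q2037, e3 q1992 L78860 q1983, e3 q1993 L78874 q1908, e3 q1994 L78887 q1904, e3 q1995 L78889 q1721, e3 q1996 L78904 q1941, e3 q1997 L78912 q1767, e3 q1998 L78930 q1768, e3 q1999 L79088 q2014, e3 q2000 L78955 q1777, e3 q2001 L78968 q1746, e3 q2002 L78978 q1759, e3 q2003 L78992 q1955, e3 q2004 L79004 q1959, e3 q2005 L79134 q2018, e3 q2006 L79216 q2025, e3 q2007 L79017 q1755, e3 q2008 L79590 q2056, e3 q2009 L79058 q2011, e3 q2010 L79045 q1764, e3 q2011 L79057 q2009, e3 q2012 L79069 q1772, e3 q2013 L79083 q1912, e3 q2014 L79087 q1999, e3 q2015 L79103 q1843, e3 q2016 L79107 q1925, e3 q2017 L79115 q1976, e3 q2018 L79133 q2005, e3 q2019 L79374 q2039, e3 q2020 L79158 q1795, e3 q2021 L79541 q2052, e3 q2022 L79180 q1860, e3 q2023 L79545 q2053, e3 q2024 L79201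 q1981, e3 q2025 L79215 q2006, e3 q2026 L79218 q1819, e3 q2027 L79312 q2034, e3 q2028 L79244 q1834, e3 q2029 L79308 q2033, e3 q2030 L79262 q1837, e3 q2031 L79272 q1838, e3 q2032 L79293 q1971, e3 q2033 L79307 q2029, e3 q2034 L79311 q2027, e3 q2035 L79321 q1950, e3 q2036 L79341 q1967, e3 q2037 L79352 q1991, e3 q2038 L79361 q1986, e3 q2039 L79373 q2019, e3 q2040 L79376 q1874, e3 q2041 L79527 q2051, e3 q2042 L79411 q1936, e3 q2043 L79425 q1948, e3 q2044 L79429 q1927, e3 q2045 L79451 q1990, e3 q2046 L79464 q1972, e3 q2047 L79468 q1924, trivial⟩ (by decide +kernel)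

theorem ce_d_32 : ∀ r, r < 10 → sm gd (Qf (2048 + r)) = Qf (tab Gen.d (2048 + r)) :=
  edges_tab (sm gd) Qf (tab Gen.d) 2048 [(2048, 1943), (2049, 1977), (2050, 1923), (2051, 2041), (2052, 2021), (2053, 2023), (2054, 2057), (2055, 1958), (2056, 2008), (2057, 2054)]
    ⟨e3 q2048 L79488 q1943, e3 q2049 L79502 q1977, e3 q2050 L79505 q1923, e3 q2051 L79526 q2041, e3 q2052 L79540 q2021, e3 q2053 L79544 q2023, e3 q2054 L79594 q2057, e3 q2055 L79569 q1958, e3 q2056 L79589 q2008, e3 q2057 L79593 q2054, trivial⟩ (by decide +kernel)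

theorem cl_d : ∀ i, i < 2058 → sm gd (Qf i) = Qf (tab Gen.d i) :=
  all_of_chunks (fun i => sm gd (Qf i) = Qf (tab Gen.d i)) 32 10
    ⟨ce_d_0, ce_d_1, ce_d_2, ce_d_3, ce_d_4, ce_d_5, ce_d_6, ce_d_7, ce_d_8, ce_d_9, ce_d_10, ce_d_11, ce_d_12, ce_d_13, ce_d_14, ce_d_15, ce_d_16, ce_d_17, ce_d_18, ce_d_19, ce_d_20, ce_d_21, ce_d_22, ce_d_23, ce_d_24, ce_d_25, ce_d_26, ce_d_27, ce_d_28, ce_d_29, ce_d_30, ce_d_31, trivial⟩
    ce_d_32

theorem ce_e_0 : ∀ r, r < 64 → sm ge (Qf (0 + r)) = Qf (tab Gen.e (0 + r)) :=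
  edges_tab (sm ge) Qf (tab Gen.e) 0 [(0, 0), (1, 1), (2, 2), (3, 3), (4, 4), (5, 10), (6, 13), (7, 7), (8, 16), (9, 20), (10, 5), (11, 22), (12, 25), (13, 6), (14, 27), (15, 30), (16, 8), (17, 32), (18, 33), (19, 37), (20, 9), (21, 39), (22, 11), (23, 41), (24, 44), (25, 12), (26, 48), (27, 14), (28, 51), (29, 54), (30, 15), (31, 58), (32, 17), (33, 18), (34, 64), (35, 62), (36, 66), (37, 19), (38, 68), (39, 21), (40, 40), (41, 23), (42, 73), (43, 71), (44, 24), (45, 78), (46, 79), (47, 77), (48, 26), (49, 87), (50, 50), (51, 28), (52, 93), (53, 91), (54, 29), (55, 98), (56, 99), (57, 97), (58, 31), (59, 105), (60, 60), (61, 109), (62, 35), (63, 113)]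
    ⟨e3 q0 L3 q0, e3 q1 L8 q1, e3 q2 L15 q2, e3 q3 L20 q3, e3 q4 L28 q4, e3 q5 L56 q10, e3 q6 L68 q13, e3 q7 L44 q7, e3 q8 L90 q16, e3 q9 L109 q20, e3 q10 L57 q5, e3 q11 L124 q22, e3 q12 L134 q25, e3 q13 L69 q6, e3 q14 L154 q27, e3 q15 L202 q30, e3 q16 L91 q8, e3 q17 L219 q32, e3 q18 L227 q33, e3 q19 L241 q37, e3 q20 L110 q9, e3 q21 L260 q39, e3 q22 L123 q11, e3 q23 L288 q41, e3 q24 L304 q44, e3 q25 L135 q12, e3 q26 L325 q48, e3 q27 L153 q14, e3 q28 L429 q51, e3 q29 L444 q54, e3 q30 L203 q15, e3 q31 L463 q58, e3 q32 L218 q17, e3 q33 L228 q18, e3 q34 L499 q64, e3 q35 L492 q62, e3 q36 L508 q66, e3 q37 L242 q19, e3 q38 L524 q68, e3 q39 L259 q21, e3 q40 L273 q40, e3 q41 L289 q23, e3 q42 L566 q73, e3 q43 L553 q71, e3 q44 L305 q24, e3 q45 L614 q78, e3 q46 L620 q79, e3 q47 L608 q77, e3 q48 L324 q26, e3 q49 L663 q87, e3 q50 L359 q50, e3 q51 L430 q28, e3 q52 L853 q93, e3 q53 L848 q91, e3 q54 L445 q29, e3 q55 L896 q98, e3 q56 L901 q99, e3 q57 L891 q97, e3 q58 L462 q31, e3 q59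 L935 q105, e3 q60 L474 q60, e3 q61 L954 q109, e3 q62 L491 q35, e3 q63 L979 q113, trivial⟩ (by decide +kernel)

theorem ce_e_1 : ∀ r, r < 64 → sm ge (Qf (64 + r)) = Qf (tab Gen.e (64 + r)) :=
  edges_tab (sm ge) Qf (tab Gen.e) 64 [(64, 34), (65, 114), (66, 36), (67, 69), (68, 38), (69, 67), (70, 119), (71, 43), (72, 123), (73, 42), (74, 126), (75, 127), (76, 132), (77, 47), (78, 45), (79, 46), (80, 138), (81, 82), (82, 81), (83, 134), (84, 135), (85, 88), (86, 145), (87, 49), (88, 85), (89, 89), (90, 151), (91, 53), (92, 156), (93, 52), (94, 159), (95, 160), (96, 164), (97, 57), (98, 55), (99, 56), (100, 101), (101, 100), (102, 166), (103, 167), (104, 106), (105, 59), (106, 104), (107, 107), (108, 176), (109, 61), (110, 115), (111, 179), (112, 181), (113, 63), (114, 65), (115, 110), (116, 116), (117, 117), (118, 187), (119, 70), (120, 190), (121, 191), (122, 133), (123, 72), (124, 196), (125, 197), (126, 74), (127, 75)]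
    ⟨e3 q64 L500 q34, e3 q65 L988 q114, e3 q66 L509 q36, e3 q67 L535 q69, e3 q68 L523 q38, e3 q69 L534 q67, e3 q70 L1024 q119, e3 q71 L552 q43, e3 q72 L2009 q123, e3 q73 L567 q42, e3 q74 L1079 q126, e3 q75 L1085 q127, e3 q76 L1114 q132, e3 q77 L607 q47, e3 q78 L613 q45, e3 q79 L619 q46, e3 q80 L1167 q138, e3 q81 L642 q82, e3 q82 L641 q81, e3 q83 L1148 q134, e3 q84 L1155 q135, e3 q85 L69839 q88, e3 q86 L1246 q145, e3 q87 L664 q49, e3 q88 L69838 q85, e3 q89 L687 q89, e3 q90 L1643 q151, e3 q91 L847 q53, e3 q92 L1676 q156, e3 q93 L854 q52, e3 q94 L1693 q159, e3 q95 L1699 q160, e3 q96 L1722 q164, e3 q97 L890 q57, e3 q98 L895 q55, e3 q99 L900 q56, e3 q100 L916 q101, e3 q101 L915 q100, e3 q102 L1794 q166, e3 q103 L1799 q167, e3 q104 L70347 q106, e3 q105 L936 q59, e3 q106 L70346 q104, e3 q107 L944 q107, e3 q108 L1929 q176, e3 q109 L955 q61, e3 q110 L998 q115, e3 q111 L1953 q179, e3 q112 L1967 q181, e3 q113 L980 q63, e3 q114 L987 q65, e3 q115 L997 q110, e3 q116 L1004 q116,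 e3 q117 L1010 q117, e3 q118 L1997 q187, e3 q119 L1025 q70, e3 q120 L2029 q190, e3 q121 L2037 q191, e3 q122 L70851 q133, e3 q123 L2008 q72, e3 q124 L2114 q196, e3 q125 L2121 q197, e3 q126 L1078 q74, e3 q127 L1084 q75, trivial⟩ (by decide +kernel)

theorem ce_e_2 : ∀ r, r < 64 → sm ge (Qf (128 + r)) = Qf (tab Gen.e (128 + r)) :=
  edges_tab (sm ge) Qf (tab Gen.e) 128 [(128, 205), (129, 130), (130, 129), (131, 209), (132, 76), (133, 122), (134, 83), (135, 84), (136, 215), (137, 137), (138, 80), (139, 147), (140, 142), (141, 219), (142, 140), (143, 146), (144, 224), (145, 86), (146, 143), (147, 139), (148, 148), (149, 229), (150, 231), (151, 90), (152, 235), (153, 236), (154, 165), (155, 241), (156, 92), (157, 245), (158, 246), (159, 94), (160, 95), (161, 162), (162, 161), (163, 255), (164, 96), (165, 154), (166, 102), (167, 103), (168, 225), (169, 169), (170, 172), (171, 259), (172, 170), (173, 262), (174, 177), (175, 266), (176, 108), (177, 174), (178, 272), (179, 111),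 (180, 278), (181, 112), (182, 282), (183, 283), (184, 281), (185, 185), (186, 186), (187, 118), (188, 291), (189, 292), (190, 120), (191, 121)]
    ⟨e3 q128 L2156 q205, e3 q129 L1109 q130, e3 q130 L1108 q129, e3 q131 L2194 q209, e3 q132 L1115 q76, e3 q133 L70850 q122, e3 q134 L1147 q83, e3 q135 L1154 q84, e3 q136 L2309 q215, e3 q137 L46685 q137, e3 q138 L1168 q80, e3 q139 L1272 q147, e3 q140 L71086 q142, e3 q141 L2390 q219, e3 q142 L71087 q140, e3 q143 L69876 q146, e3 q144 L2500 q224, e3 q145 L1247 q86, e3 q146 L69875 q143, e3 q147 L1271 q139, e3 q148 L1341 q148, e3 q149 L2696 q229, e3 q150 L53635 q231, e3 q151 L1644 q90, e3 q152 L3277 q235, e3 q153 L3285 q236, e3 q154 L70336 q165, e3 q155 L3368 q241, e3 q156 L1677 q92, e3 q157 L3381 q245, e3 q158 L3387 q246, e3 q159 L1692 q94, e3 q160 L1698 q95, e3 q161 L1717 q162, e3 q162 L1716 q161, e3 q163 L3453 q255, e3 q164 L1723 q96, e3 q165 L70337 q154, e3 q166 L1793 q102, e3 q167 L1798 q103, e3 q168 L69788 q225, e3 q169 L1806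 q169, e3 q170 L70315 q172, e3 q171 L3640 q259, e3 q172 L70314 q170, e3 q173 L3768 q262, e3 q174 L1948 q177, e3 q175 L3793 q266, e3 q176 L1930 q108, e3 q177 L1947 q174, e3 q178 L3819 q272, e3 q179 L1954 q111, e3 q180 L3847 q278, e3 q181 L1968 q112, e3 q182 L3866 q282, e3 q183 L3870 q283, e3 q184 L3862 q281, e3 q185 L1979 q185, e3 q186 L1987 q186, e3 q187 L1998 q118, e3 q188 L3910 q291, e3 q189 L3920 q292, e3 q190 L2028 q120, e3 q191 L2036 q121, trivial⟩ (by decide +kernel)

theorem ce_e_3 : ∀ r, r < 64 → sm ge (Qf (192 + r)) = Qf (tab Gen.e (192 + r)) :=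
  edges_tab (sm ge) Qf (tab Gen.e) 192 [(192, 211), (193, 194), (194, 193), (195, 210), (196, 124), (197, 125), (198, 306), (199, 201), (200, 310), (201, 199), (202, 314), (203, 203), (204, 318), (205, 128), (206, 300), (207, 323), (208, 325), (209, 131), (210, 195), (211, 192), (212, 226), (213, 213), (214, 335), (215, 136), (216, 336), (217, 217), (218, 230), (219, 141), (220, 228), (221, 223), (222, 257), (223, 221), (224, 144), (225, 168), (226, 212), (227, 345), (228, 220), (229, 149), (230, 218), (231, 150), (232, 351), (233, 349), (234, 350), (235, 152), (236, 153), (237, 238), (238, 237), (239, 256), (240, 362), (241, 155), (242, 366), (243, 367), (244, 365), (245, 157), (246, 158), (247, 378), (248, 250), (249, 380), (250, 248), (251, 342), (252, 252), (253, 359), (254, 384), (255, 163)]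
    ⟨e3 q192 L70842 q211, e3 q193 L2069 q194, e3 q194 L2068 q193, e3 q195 L66251 q210, e3 q196 L2113 q124, e3 q197 L2120 q125, e3 q198 L4109 q306, e3 q199 L2141 q201, e3 q200 L4120 q310, e3 q201 L2140 q199, e3 q202 L4131 q314, e3 q203 L71113 q203, e3 q204 L4161 q318, e3 q205 L2157 q128, e3 q206 L71183 q300, e3 q207 L4239 q323, e3 q208 L4255 q325, e3 q209 L2195 q131, e3 q210 L66250 q195, e3 q211 L70843 q192, e3 q212 L70778 q226, e3 q213 L46700 q213, e3 q214 L4464 q335, e3 q215 L2310 q136, e3 q216 L4480 q336, e3 q217 L69302 q217, e3 q218 L68288 q230, e3 q219 L2391 q141, e3 q220 L69358 q228, e3 q221 L2494 q223, e3 q222 L69791 q257, e3 q223 L2495 q221, e3 q224 L2501 q144, e3 q225 L69787 q168, e3 q226 L70777 q212, e3 q227 L5258 q345, e3 q228 L69357 q220, e3 q229 L2697 q149, e3 q230 L68289 q218, e3 q231 L53636 q150, e3 q232 L6483 q351, e3 q233 L53621 q349, e3 q234 L53606 q350, e3 q235 L3276 q152, e3 q236 L3284 q153, e3 q237 L3311 q238, e3 q238 L3310 q237, e3 q239 L66179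 q256, e3 q240 L6714 q362, e3 q241 L3369 q155, e3 q242 L6733 q366, e3 q243 L6737 q367, e3 q244 L6729 q365, e3 q245 L3380 q157, e3 q246 L3386 q158, e3 q247 L6772 q378, e3 q248 L3403 q250, e3 q249 L6776 q380, e3 q250 L3402 q248, e3 q251 L69763 q342, e3 q252 L3416 q252, e3 q253 L70407 q359, e3 q254 L6890 q384, e3 q255 L3454 q163, trivial⟩ (by decide +kernel)

theorem ce_e_4 : ∀ r, r < 64 → sm ge (Qf (256 + r)) = Qf (tab Gen.e (256 + r)) :=
  edges_tab (sm ge) Qf (tab Gen.e) 256 [(256, 239), (257, 222), (258, 263), (259, 171), (260, 261), (261, 260), (262, 173), (263, 258), (264, 392), (265, 396), (266, 175), (267, 400), (268, 401), (269, 399), (270, 409), (271, 413), (272, 178), (273, 417), (274, 418), (275, 416), (276, 426), (277, 429), (278, 180), (279, 433), (280, 434), (281, 184), (282, 182), (283, 183), (284, 285), (285, 284), (286, 439), (287, 440), (288, 441), (289, 289), (290, 290), (291, 188), (292, 189), (293, 457), (294, 296), (295, 461), (296, 294), (297, 331),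 (298, 298), (299, 330), (300, 206), (301, 321), (302, 471), (303, 475), (304, 478), (305, 482), (306, 198), (307, 484), (308, 488), (309, 492), (310, 200), (311, 494), (312, 498), (313, 502), (314, 202), (315, 504), (316, 316), (317, 509), (318, 204), (319, 468)]
    ⟨e3 q256 L66178 q239, e3 q257 L69790 q222, e3 q258 L70573 q263, e3 q259 L3641 q171, e3 q260 L70595 q261, e3 q261 L70596 q260, e3 q262 L3769 q173, e3 q263 L70574 q258, e3 q264 L7545 q392, e3 q265 L7563 q396, e3 q266 L3794 q175, e3 q267 L7592 q400, e3 q268 L7598 q401, e3 q269 L7586 q399, e3 q270 L7641 q409, e3 q271 L7661 q413, e3 q272 L3820 q178, e3 q273 L7686 q417, e3 q274 L7692 q418, e3 q275 L7680 q416, e3 q276 L7733 q426, e3 q277 L7745 q429, e3 q278 L3848 q180, e3 q279 L7770 q433, e3 q280 L7776 q434, e3 q281 L3861 q184, e3 q282 L3865 q182, e3 q283 L3869 q183, e3 q284 L3878 q285, e3 q285 L3877 q284, e3 q286 L7798 q439, e3 q287 L7804 q440, e3 q288 L7808 q441, e3 q289 L3889 q289, e3 q290 L3896 q290, e3 q291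 L3909 q188, e3 q292 L3919 q189, e3 q293 L7872 q457, e3 q294 L3946 q296, e3 q295 L7888 q461, e3 q296 L3945 q294, e3 q297 L43589 q331, e3 q298 L72209 q298, e3 q299 L66233 q330, e3 q300 L71182 q206, e3 q301 L4233 q321, e3 q302 L8064 q471, e3 q303 L8188 q475, e3 q304 L8202 q478, e3 q305 L8217 q482, e3 q306 L4110 q198, e3 q307 L8229 q484, e3 q308 L8246 q488, e3 q309 L8259 q492, e3 q310 L4121 q200, e3 q311 L8271 q494, e3 q312 L8288 q498, e3 q313 L8304 q502, e3 q314 L4132 q202, e3 q315 L8317 q504, e3 q316 L61098 q316, e3 q317 L8394 q509, e3 q318 L4162 q204, e3 q319 L50242 q468, trivial⟩ (by decide +kernel)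

theorem ce_e_5 : ∀ r, r < 64 → sm ge (Qf (320 + r)) = Qf (tab Gen.e (320 + r)) :=
  edges_tab (sm ge) Qf (tab Gen.e) 320 [(320, 347), (321, 301), (322, 518), (323, 207), (324, 523), (325, 208), (326, 527), (327, 528), (328, 526), (329, 536), (330, 299), (331, 297), (332, 343), (333, 337), (334, 542), (335, 214), (336, 216), (337, 333), (338, 338), (339, 346), (340, 340), (341, 358), (342, 251), (343, 332), (344, 549), (345, 227), (346, 339), (347, 320), (348, 552), (349, 233), (350, 234), (351, 232), (352, 557), (353, 558), (354, 564), (355, 357), (356, 566), (357, 355), (358, 341), (359, 253), (360, 568), (361, 572), (362, 240), (363, 576), (364, 577), (365, 244), (366, 242), (367, 243), (368, 588), (369, 371), (370, 592), (371, 369), (372, 582), (373, 583), (374, 584), (375, 604), (376, 606), (377, 609), (378, 247), (379, 612), (380, 249), (381, 547), (382, 382), (383, 390)]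
    ⟨e3 q320 L72255 q347, e3 q321 L4234 q301, e3 q322 L8556 q518, e3 q323 L4240 q207, e3 q324 L8602 q523, e3 q325 L4256 q208, e3 q326 L8621 q527, e3 q327 L8625 q528, e3 q328 L8617 q526, e3 q329 L8650 q536, e3 q330 L66234 q299, e3 q331 L43590 q297, e3 q332 L70665 q343, e3 q333 L4487 q337, e3 q334 L8997 q542, e3 q335 L4465 q214, e3 q336 L4479 q216, e3 q337 L4486 q333, e3 q338 L69258 q338, e3 q339 L50884 q346, e3 q340 L67742 q340, e3 q341 L70366 q358, e3 q342 L69764 q251, e3 q343 L70664 q332, e3 q344 L50923 q549, e3 q345 L5259 q227, e3 q346 L50885 q339, e3 q347 L72254 q320, e3 q348 L13050 q552, e3 q349 L53620 q233, e3 q350 L53607 q234, e3 q351 L6484 q232, e3 q352 L13105 q557, e3 q353 L13111 q558, e3 q354 L13166 q564, e3 q355 L6538 q357, e3 q356 L13174 q566, e3 q357 L6537 q355, e3 q358 L70367 q341, e3 q359 L70408 q253, e3 q360 L13282 q568, e3 q361 L13455 q572, e3 q362 L6715 q240, e3 q363 L13474 q576, e3 q364 L13480 q577, e3 q365 L6728 q244, e3 q366 L6732 q242, e3 q367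 L6736 q243, e3 q368 L13521 q588, e3 q369 L6753 q371, e3 q370 L13533 q592, e3 q371 L6752 q369, e3 q372 L13502 q582, e3 q373 L13508 q583, e3 q374 L13512 q584, e3 q375 L13588 q604, e3 q376 L13600 q606, e3 q377 L13612 q609, e3 q378 L6773 q247, e3 q379 L13620 q612, e3 q380 L6777 q249, e3 q381 L69136 q547, e3 q382 L6792 q382, e3 q383 L70655 q390, trivial⟩ (by decide +kernel)

theorem ce_e_6 : ∀ r, r < 64 → sm ge (Qf (384 + r)) = Qf (tab Gen.e (384 + r)) :=
  edges_tab (sm ge) Qf (tab Gen.e) 384 [(384, 254), (385, 615), (386, 616), (387, 614), (388, 620), (389, 389), (390, 383), (391, 625), (392, 264), (393, 627), (394, 628), (395, 631), (396, 265), (397, 634), (398, 635), (399, 269), (400, 267), (401, 268), (402, 404), (403, 646), (404, 402), (405, 639), (406, 640), (407, 641), (408, 657), (409, 270), (410, 659), (411, 663), (412, 665), (413, 271), (414, 668), (415, 669), (416, 275), (417, 273), (418, 274), (419, 420), (420, 419), (421, 672), (422, 673), (423, 674), (424,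 446), (425, 689), (426, 276), (427, 693), (428, 694), (429, 277), (430, 699), (431, 700), (432, 698), (433, 279), (434, 280), (435, 708), (436, 438), (437, 638), (438, 436), (439, 286), (440, 287), (441, 288), (442, 642), (443, 676), (444, 723), (445, 726), (446, 424), (447, 730)]
    ⟨e3 q384 L6891 q254, e3 q385 L13812 q615, e3 q386 L13817 q616, e3 q387 L13807 q614, e3 q388 L64340 q620, e3 q389 L49614 q389, e3 q390 L70656 q383, e3 q391 L14922 q625, e3 q392 L7546 q264, e3 q393 L14945 q627, e3 q394 L14951 q628, e3 q395 L14972 q631, e3 q396 L7564 q265, e3 q397 L15001 q634, e3 q398 L15009 q635, e3 q399 L7585 q269, e3 q400 L7591 q267, e3 q401 L7597 q268, e3 q402 L7616 q404, e3 q403 L15088 q646, e3 q404 L7615 q402, e3 q405 L15047 q639, e3 q406 L15059 q640, e3 q407 L15065 q641, e3 q408 L15155 q657, e3 q409 L7642 q270, e3 q410 L15174 q659, e3 q411 L15203 q663, e3 q412 L15221 q665, e3 q413 L7662 q271, e3 q414 L15234 q668, e3 q415 L15240 q669, e3 q416 L7679 q275, e3 q417 L7685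 q273, e3 q418 L7691 q274, e3 q419 L7704 q420, e3 q420 L7703 q419, e3 q421 L15272 q672, e3 q422 L15282 q673, e3 q423 L15290 q674, e3 q424 L7820 q446, e3 q425 L15373 q689, e3 q426 L7734 q276, e3 q427 L15394 q693, e3 q428 L15400 q694, e3 q429 L7746 q277, e3 q430 L15440 q699, e3 q431 L15448 q700, e3 q432 L15430 q698, e3 q433 L7769 q279, e3 q434 L7775 q280, e3 q435 L15489 q708, e3 q436 L7792 q438, e3 q437 L71831 q638, e3 q438 L7791 q436, e3 q439 L7797 q286, e3 q440 L7803 q287, e3 q441 L7807 q288, e3 q442 L15071 q642, e3 q443 L15300 q676, e3 q444 L15555 q723, e3 q445 L15563 q726, e3 q446 L7819 q424, e3 q447 L15593 q730, trivial⟩ (by decide +kernel)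

theorem ce_e_7 : ∀ r, r < 64 → sm ge (Qf (448 + r)) = Qf (tab Gen.e (448 + r)) :=
  edges_tab (sm ge) Qf (tab Gen.e) 448 [(448, 715), (449, 716), (450, 451), (451, 450), (452, 736), (453, 737), (454, 742), (455, 745), (456, 749), (457, 293), (458, 751), (459, 755), (460, 758), (461, 295), (462, 759), (463, 763), (464, 539), (465, 505), (466, 466), (467, 770), (468, 319), (469, 774), (470, 777), (471, 302), (472, 780), (473, 781), (474, 785), (475, 303), (476, 486), (477, 789), (478, 304), (479, 496), (480, 793), (481, 796), (482, 305), (483, 800), (484, 307), (485, 804), (486, 476), (487, 809), (488, 308), (489, 811), (490, 815), (491, 816), (492, 309), (493, 820), (494, 311), (495, 824), (496, 479), (497, 828), (498, 312), (499, 829), (500, 832), (501, 834), (502, 313), (503, 838), (504, 315), (505, 465), (506, 506), (507, 843), (508, 825), (509, 317), (510, 848), (511, 823)]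
    ⟨e3 q448 L15524 q715, e3 q449 L15532 q716, e3 q450 L7841 q451, e3 q451 L7840 q450, e3 q452 L15626 q736, e3 q453 L41505 q737, e3 q454 L15666 q742, e3 q455 L15688 q745, e3 q456 L15710 q749, e3 q457 L7873 q293, e3 q458 L15727 q751, e3 q459 L15750 q755, e3 q460 L15766 q758, e3 q461 L7889 q295, e3 q462 L15783 q759, e3 q463 L15808 q763, e3 q464 L70771 q539, e3 q465 L8327 q505, e3 q466 L61364 q466, e3 q467 L15890 q770, e3 q468 L50243 q319, e3 q469 L16072 q774, e3 q470 L16104 q777, e3 q471 L8065 q302, e3 q472 L16133 q780, e3 q473 L16139 q781, e3 q474 L16375 q785, e3 q475 L8189 q303, e3 q476 L8241 q486, e3 q477 L16392 q789, e3 q478 L8203 q304, e3 q479 L8283 q496, e3 q480 L16413 q793, e3 q481 L16431 q796, e3 q482 L8218 q305, e3 q483 L16444 q800, e3 q484 L8228 q307, e3 q485 L16464 q804, e3 q486 L8240 q476, e3 q487 L16486 q809, e3 q488 L8247 q308, e3 q489 L16502 q811, e3 q490 L16525 q815, e3 q491 L16543 q816, e3 q492 L8260 q309, e3 q493 L16556 q820, e3 q494 L8270 q311, e3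 q495 L16582 q824, e3 q496 L8282 q479, e3 q497 L16605 q828, e3 q498 L8289 q312, e3 q499 L16617 q829, e3 q500 L16632 q832, e3 q501 L16650 q834, e3 q502 L8305 q313, e3 q503 L16663 q838, e3 q504 L8316 q315, e3 q505 L8326 q465, e3 q506 L61362 q506, e3 q507 L16708 q843, e3 q508 L66036 q825, e3 q509 L8395 q317, e3 q510 L16795 q848, e3 q511 L66013 q823, trivial⟩ (by decide +kernel)

theorem ce_e_8 : ∀ r, r < 64 → sm ge (Qf (512 + r)) = Qf (tab Gen.e (512 + r)) :=
  edges_tab (sm ge) Qf (tab Gen.e) 512 [(512, 847), (513, 550), (514, 854), (515, 548), (516, 856), (517, 629), (518, 322), (519, 859), (520, 626), (521, 671), (522, 637), (523, 324), (524, 861), (525, 632), (526, 328), (527, 326), (528, 327), (529, 531), (530, 868), (531, 529), (532, 697), (533, 664), (534, 864), (535, 872), (536, 329), (537, 873), (538, 875), (539, 464), (540, 541), (541, 540), (542, 334), (543, 543), (544, 544), (545, 545), (546, 567), (547, 381), (548, 515), (549, 344), (550, 513), (551, 714),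 (552, 348), (553, 883), (554, 884), (555, 890), (556, 892), (557, 352), (558, 353), (559, 896), (560, 562), (561, 900), (562, 560), (563, 905), (564, 354), (565, 908), (566, 356), (567, 546), (568, 360), (569, 909), (570, 910), (571, 595), (572, 361), (573, 915), (574, 916), (575, 633)]
    ⟨e3 q512 L16791 q847, e3 q513 L67407 q550, e3 q514 L17052 q854, e3 q515 L50276 q548, e3 q516 L17104 q856, e3 q517 L71718 q629, e3 q518 L8557 q322, e3 q519 L17161 q859, e3 q520 L71729 q626, e3 q521 L71957 q671, e3 q522 L71875 q637, e3 q523 L8603 q324, e3 q524 L17245 q861, e3 q525 L71858 q632, e3 q526 L8616 q328, e3 q527 L8620 q326, e3 q528 L8624 q327, e3 q529 L8637 q531, e3 q530 L17294 q868, e3 q531 L8636 q529, e3 q532 L71954 q697, e3 q533 L71911 q664, e3 q534 L17283 q864, e3 q535 L17347 q872, e3 q536 L8651 q329, e3 q537 L17358 q873, e3 q538 L17377 q875, e3 q539 L70770 q464, e3 q540 L8991 q541, e3 q541 L8992 q540, e3 q542 L8998 q334, e3 q543 L49788 q543, e3 q544 L49630 q544, e3 q545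 L67758 q545, e3 q546 L68638 q567, e3 q547 L69135 q381, e3 q548 L50277 q515, e3 q549 L50924 q344, e3 q550 L67406 q513, e3 q551 L65666 q714, e3 q552 L13051 q348, e3 q553 L24809 q883, e3 q554 L24815 q884, e3 q555 L24844 q890, e3 q556 L24850 q892, e3 q557 L13104 q352, e3 q558 L13110 q353, e3 q559 L24880 q896, e3 q560 L13135 q562, e3 q561 L24900 q900, e3 q562 L13134 q560, e3 q563 L25004 q905, e3 q564 L13167 q354, e3 q565 L25018 q908, e3 q566 L13175 q356, e3 q567 L68637 q546, e3 q568 L13283 q360, e3 q569 L25200 q909, e3 q570 L25209 q910, e3 q571 L13544 q595, e3 q572 L13456 q361, e3 q573 L25640 q915, e3 q574 L25646 q916, e3 q575 L14993 q633, trivial⟩ (by decide +kernel)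

theorem ce_e_9 : ∀ r, r < 64 → sm ge (Qf (576 + r)) = Qf (tab Gen.e (576 + r)) :=
  edges_tab (sm ge) Qf (tab Gen.e) 576 [(576, 363), (577, 364), (578, 922), (579, 581), (580, 703), (581, 579), (582, 372), (583, 373), (584, 374), (585, 929), (586, 932), (587, 936), (588, 368), (589, 599), (590, 940), (591, 943), (592, 370), (593, 601), (594, 947), (595, 571), (596, 650), (597, 924), (598, 925), (599, 589), (600, 602), (601, 593), (602, 600), (603, 958), (604, 375), (605, 961), (606, 376), (607, 964), (608, 966), (609, 377), (610, 972), (611, 666), (612, 379), (613, 976), (614, 387), (615, 385), (616, 386), (617, 619), (618, 984), (619, 617), (620, 388), (621, 979), (622, 980), (623, 987), (624, 992), (625, 391), (626, 520), (627, 393), (628, 394), (629, 517), (630, 649), (631, 395), (632, 525), (633, 575), (634, 397), (635, 398), (636, 1004), (637, 522), (638, 437), (639, 405)]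
    ⟨e3 q576 L13473 q363, e3 q577 L13479 q364, e3 q578 L25683 q922, e3 q579 L13496 q581, e3 q580 L41613 q703, e3 q581 L13495 q579, e3 q582 L13501 q372, e3 q583 L13507 q373, e3 q584 L13511 q374, e3 q585 L25723 q929, e3 q586 L25731 q932, e3 q587 L25743 q936, e3 q588 L13522 q368, e3 q589 L13564 q599, e3 q590 L25769 q940, e3 q591 L25779 q943, e3 q592 L13534 q370, e3 q593 L13577 q601, e3 q594 L25799 q947, e3 q595 L13543 q571, e3 q596 L15115 q650, e3 q597 L25704 q924, e3 q598 L25712 q925, e3 q599 L13565 q589, e3 q600 L13581 q602, e3 q601 L13576 q593, e3 q602 L13580 q600, e3 q603 L25891 q958, e3 q604 L13589 q375, e3 q605 L25905 q961, e3 q606 L13601 q376, e3 q607 L25923 q964, e3 q608 L25935 q966, e3 q609 L13613 q377, e3 q610 L25955 q972, e3 q611 L73186 q666, e3 q612 L13621 q379, e3 q613 L26042 q976, e3 q614 L13806 q387, e3 q615 L13811 q385, e3 q616 L13816 q386, e3 q617 L13833 q619, e3 q618 L26402 q984, e3 q619 L13832 q617, e3 q620 L64339 q388, e3 q621 L26383 q979, e3 q622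 L26389 q980, e3 q623 L66098 q987, e3 q624 L27897 q992, e3 q625 L14923 q391, e3 q626 L71730 q520, e3 q627 L14944 q393, e3 q628 L14950 q394, e3 q629 L71717 q517, e3 q630 L15107 q649, e3 q631 L14973 q395, e3 q632 L71857 q525, e3 q633 L14992 q575, e3 q634 L15000 q397, e3 q635 L15008 q398, e3 q636 L28009 q1004, e3 q637 L71876 q522, e3 q638 L71832 q437, e3 q639 L15046 q405, trivial⟩ (by decide +kernel)

theorem ce_e_10 : ∀ r, r < 64 → sm ge (Qf (640 + r)) = Qf (tab Gen.e (640 + r)) :=
  edges_tab (sm ge) Qf (tab Gen.e) 640 [(640, 406), (641, 407), (642, 442), (643, 1014), (644, 1016), (645, 775), (646, 403), (647, 660), (648, 1021), (649, 630), (650, 596), (651, 1008), (652, 1009), (653, 654), (654, 653), (655, 782), (656, 1029), (657, 408), (658, 1031), (659, 410), (660, 647), (661, 679), (662, 1036), (663, 411), (664, 533), (665, 412), (666, 611), (667, 1040), (668, 414), (669, 415), (670, 1047), (671, 521), (672, 421), (673, 422), (674, 423), (675, 996), (676, 443), (677,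 1057), (678, 1060), (679, 661), (680, 1063), (681, 857), (682, 1050), (683, 684), (684, 683), (685, 688), (686, 728), (687, 729), (688, 685), (689, 425), (690, 1074), (691, 1075), (692, 1073), (693, 427), (694, 428), (695, 1082), (696, 862), (697, 532), (698, 432), (699, 430), (700, 431), (701, 1088), (702, 704), (703, 580)]
    ⟨e3 q640 L15058 q406, e3 q641 L15064 q407, e3 q642 L15070 q442, e3 q643 L28095 q1014, e3 q644 L28115 q1016, e3 q645 L71665 q775, e3 q646 L15089 q403, e3 q647 L15184 q660, e3 q648 L28141 q1021, e3 q649 L15106 q630, e3 q650 L15114 q596, e3 q651 L28048 q1008, e3 q652 L28058 q1009, e3 q653 L15142 q654, e3 q654 L15141 q653, e3 q655 L71764 q782, e3 q656 L28227 q1029, e3 q657 L15156 q408, e3 q658 L28258 q1031, e3 q659 L15173 q410, e3 q660 L15183 q647, e3 q661 L15314 q679, e3 q662 L28291 q1036, e3 q663 L15204 q411, e3 q664 L71910 q533, e3 q665 L15222 q412, e3 q666 L73187 q611, e3 q667 L28332 q1040, e3 q668 L15233 q414, e3 q669 L15239 q415, e3 q670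 L28375 q1047, e3 q671 L71958 q521, e3 q672 L15271 q421, e3 q673 L15281 q422, e3 q674 L15289 q423, e3 q675 L27930 q996, e3 q676 L15299 q443, e3 q677 L28437 q1057, e3 q678 L28451 q1060, e3 q679 L15313 q661, e3 q680 L28489 q1063, e3 q681 L71734 q857, e3 q682 L28396 q1050, e3 q683 L15354 q684, e3 q684 L15353 q683, e3 q685 L65616 q688, e3 q686 L15584 q728, e3 q687 L15592 q729, e3 q688 L65615 q685, e3 q689 L15374 q425, e3 q690 L28598 q1074, e3 q691 L28604 q1075, e3 q692 L28592 q1073, e3 q693 L15393 q427, e3 q694 L15399 q428, e3 q695 L28651 q1082, e3 q696 L41347 q862, e3 q697 L71953 q532, e3 q698 L15429 q432, e3 q699 L15439 q430, e3 q700 L15447 q431, e3 q701 L28700 q1088, e3 q702 L15476 q704, e3 q703 L41612 q580, trivial⟩ (by decide +kernel)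

theorem ce_e_11 : ∀ r, r < 64 → sm ge (Qf (704 + r)) = Qf (tab Gen.e (704 + r)) :=
  edges_tab (sm ge) Qf (tab Gen.e) 704 [(704, 702), (705, 1085), (706, 1092), (707, 1094), (708, 435), (709, 1095), (710, 1097), (711, 1006), (712, 1007), (713, 732), (714, 551), (715, 448), (716, 449), (717, 1010), (718, 1052), (719, 1012), (720, 1013), (721, 1055), (722, 1056), (723, 444), (724, 1108), (725, 1112), (726, 445), (727, 1114), (728, 686), (729, 687), (730, 447), (731, 1116), (732, 713), (733, 1118), (734, 1120), (735, 1123), (736, 452), (737, 453), (738, 1125), (739, 1124), (740, 1126), (741, 1130), (742, 454), (743, 753), (744, 1133), (745, 455), (746, 761), (747, 1136), (748, 1138), (749, 456), (750, 1142), (751, 458), (752, 1146), (753, 743), (754, 1150), (755, 459), (756, 1151), (757, 818), (758, 460), (759, 462), (760, 1155), (761, 746), (762, 1159), (763, 463), (764, 1160), (765, 830), (766, 1163), (767, 840)]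
    ⟨e3 q704 L15475 q702, e3 q705 L28677 q1085, e3 q706 L28754 q1092, e3 q707 L28771 q1094, e3 q708 L15490 q435, e3 q709 L28782 q1095, e3 q710 L28798 q1097, e3 q711 L71822 q1006, e3 q712 L41619 q1007, e3 q713 L15617 q732, e3 q714 L65667 q551, e3 q715 L15523 q448, e3 q716 L15531 q449, e3 q717 L28068 q1010, e3 q718 L28416 q1052, e3 q719 L28084 q1012, e3 q720 L28090 q1013, e3 q721 L28428 q1055, e3 q722 L28434 q1056, e3 q723 L15556 q444, e3 q724 L28925 q1108, e3 q725 L28940 q1112, e3 q726 L15564 q445, e3 q727 L28951 q1114, e3 q728 L15583 q686, e3 q729 L15591 q687, e3 q730 L15594 q447, e3 q731 L29039 q1116, e3 q732 L15616 q713, e3 q733 L29053 q1118, e3 q734 L29061 q1120, e3 q735 L29072 q1123, e3 q736 L15627 q452, e3 q737 L41506 q453, e3 q738 L29099 q1125, e3 q739 L41475 q1124, e3 q740 L41513 q1126, e3 q741 L29174 q1130, e3 q742 L15667 q454, e3 q743 L15743 q753, e3 q744 L29198 q1133, e3 q745 L15689 q455, e3 q746 L15801 q761, e3 q747 L29222 q1136, e3 q748 L29236 q1138, e3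 q749 L15711 q456, e3 q750 L29259 q1142, e3 q751 L15726 q458, e3 q752 L29292 q1146, e3 q753 L15742 q743, e3 q754 L29324 q1150, e3 q755 L15751 q459, e3 q756 L29339 q1151, e3 q757 L52929 q818, e3 q758 L15767 q460, e3 q759 L15782 q462, e3 q760 L29422 q1155, e3 q761 L15800 q746, e3 q762 L29466 q1159, e3 q763 L15809 q463, e3 q764 L29481 q1160, e3 q765 L16626 q830, e3 q766 L29498 q1163, e3 q767 L16675 q840, trivial⟩ (by decide +kernel)

theorem ce_e_12 : ∀ r, r < 64 → sm ge (Qf (768 + r)) = Qf (tab Gen.e (768 + r)) :=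
  edges_tab (sm ge) Qf (tab Gen.e) 768 [(768, 1168), (769, 1156), (770, 467), (771, 1171), (772, 1154), (773, 1173), (774, 469), (775, 645), (776, 1025), (777, 470), (778, 1023), (779, 999), (780, 472), (781, 473), (782, 655), (783, 791), (784, 1184), (785, 474), (786, 801), (787, 813), (788, 1190), (789, 477), (790, 821), (791, 783), (792, 1196), (793, 480), (794, 1199), (795, 1201), (796, 481), (797, 1204), (798, 1205), (799, 1203), (800, 483), (801, 786), (802, 1212), (803, 874), (804, 485), (805, 812), (806, 1216), (807, 911), (808, 1217), (809, 487), (810, 1218), (811, 489), (812, 805), (813, 787), (814, 1221), (815, 490), (816, 491), (817, 1225), (818, 757), (819, 1224), (820, 493), (821, 790), (822, 1231), (823, 511), (824, 495), (825, 508), (826, 1219), (827, 1236), (828, 497), (829, 499), (830, 765), (831, 1240)]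
    ⟨e3 q768 L29534 q1168, e3 q769 L64484 q1156, e3 q770 L15891 q467, e3 q771 L29609 q1171, e3 q772 L71461 q1154, e3 q773 L29894 q1173, e3 q774 L16073 q469, e3 q775 L71666 q645, e3 q776 L71636 q1025, e3 q777 L16105 q470, e3 q778 L71816 q1023, e3 q779 L71797 q999, e3 q780 L16132 q472, e3 q781 L16138 q473, e3 q782 L71763 q655, e3 q783 L16407 q791, e3 q784 L30651 q1184, e3 q785 L16376 q474, e3 q786 L72103 q801, e3 q787 L16519 q813, e3 q788 L30676 q1190, e3 q789 L16393 q477, e3 q790 L16566 q821, e3 q791 L16408 q783, e3 q792 L30707 q1196, e3 q793 L16414 q480, e3 q794 L30733 q1199, e3 q795 L30744 q1201, e3 q796 L16432 q481, e3 q797 L30763 q1204, e3 q798 L30767 q1205, e3 q799 L30759 q1203, e3 q800 L16443 q483, e3 q801 L72104 q786, e3 q802 L30806 q1212, e3 q803 L72069 q874, e3 q804 L16465 q485, e3 q805 L16511 q812, e3 q806 L30822 q1216, e3 q807 L25218 q911, e3 q808 L30839 q1217, e3 q809 L16487 q487, e3 q810 L30854 q1218, e3 q811 L16501 q489, e3 q812 L16510 q805, e3 q813 L16520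 q787, e3 q814 L30892 q1221, e3 q815 L16526 q490, e3 q816 L16544 q491, e3 q817 L30948 q1225, e3 q818 L52928 q757, e3 q819 L30944 q1224, e3 q820 L16555 q493, e3 q821 L16565 q790, e3 q822 L30991 q1231, e3 q823 L66014 q511, e3 q824 L16583 q495, e3 q825 L66035 q508, e3 q826 L30867 q1219, e3 q827 L31015 q1236, e3 q828 L16606 q497, e3 q829 L16616 q499, e3 q830 L16627 q765, e3 q831 L31045 q1240, trivial⟩ (by decide +kernel)

theorem ce_e_13 : ∀ r, r < 64 → sm ge (Qf (832 + r)) = Qf (tab Gen.e (832 + r)) :=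
  edges_tab (sm ge) Qf (tab Gen.e) 832 [(832, 500), (833, 1245), (834, 501), (835, 1249), (836, 1250), (837, 1248), (838, 503), (839, 918), (840, 767), (841, 1257), (842, 1262), (843, 507), (844, 1265), (845, 1266), (846, 1269), (847, 512), (848, 510), (849, 1147), (850, 1145), (851, 1271), (852, 1275), (853, 1278), (854, 514), (855, 1279), (856, 516), (857, 681), (858, 1281), (859, 519), (860, 1175), (861, 524), (862, 696), (863, 1284), (864, 534), (865, 1272), (866, 1290), (867, 1293), (868, 530), (869, 1296), (870, 871), (871, 870), (872, 535), (873, 537), (874, 803), (875, 538), (876, 1301), (877, 877), (878, 951), (879, 923), (880, 1304), (881, 1100), (882, 1101), (883, 553), (884, 554), (885, 897), (886, 888), (887, 901), (888, 886), (889, 1313), (890, 555), (891, 1316), (892, 556), (893, 1318), (894, 1321), (895, 1325)]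
    ⟨e3 q832 L16633 q500, e3 q833 L31087 q1245, e3 q834 L16651 q501, e3 q835 L31106 q1249, e3 q836 L31110 q1250, e3 q837 L31102 q1248, e3 q838 L16662 q503, e3 q839 L72608 q918, e3 q840 L16674 q767, e3 q841 L31163 q1257, e3 q842 L31205 q1262, e3 q843 L16709 q507, e3 q844 L31224 q1265, e3 q845 L31228 q1266, e3 q846 L31391 q1269, e3 q847 L16790 q512, e3 q848 L16794 q510, e3 q849 L51937 q1147, e3 q850 L66079 q1145, e3 q851 L31454 q1271, e3 q852 L32043 q1275, e3 q853 L32085 q1278, e3 q854 L17053 q514, e3 q855 L32104 q1279, e3 q856 L17105 q516, e3 q857 L71735 q681, e3 q858 L32267 q1281, e3 q859 L17160 q519, e3 q860 L30037 q1175, e3 q861 L17244 q524, e3 q862 L41346 q696, e3 q863 L73025 q1284, e3 q864 L17282 q534, e3 q865 L31458 q1272, e3 q866 L32581 q1290, e3 q867 L32589 q1293, e3 q868 L17295 q530, e3 q869 L32607 q1296, e3 q870 L52250 q871, e3 q871 L52251 q870, e3 q872 L17348 q535, e3 q873 L17357 q537, e3 q874 L72070 q803, e3 q875 L17378 q538, e3 q876 L32931 q1301, e3 q877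 L67533 q877, e3 q878 L72643 q951, e3 q879 L72826 q923, e3 q880 L37703 q1304, e3 q881 L65672 q1100, e3 q882 L53359 q1101, e3 q883 L24808 q553, e3 q884 L24814 q554, e3 q885 L65684 q897, e3 q886 L24839 q888, e3 q887 L65655 q901, e3 q888 L24838 q886, e3 q889 L73278 q1313, e3 q890 L24845 q555, e3 q891 L73302 q1316, e3 q892 L24851 q556, e3 q893 L73316 q1318, e3 q894 L73340 q1321, e3 q895 L73366 q1325, trivial⟩ (by decide +kernel)

theorem ce_e_14 : ∀ r, r < 64 → sm ge (Qf (896 + r)) = Qf (tab Gen.e (896 + r)) :=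
  edges_tab (sm ge) Qf (tab Gen.e) 896 [(896, 559), (897, 885), (898, 1328), (899, 1331), (900, 561), (901, 887), (902, 1335), (903, 1338), (904, 1339), (905, 563), (906, 1345), (907, 973), (908, 565), (909, 569), (910, 570), (911, 807), (912, 948), (913, 949), (914, 1000), (915, 573), (916, 574), (917, 1078), (918, 839), (919, 1002), (920, 1356), (921, 1358), (922, 578), (923, 879), (924, 597), (925, 598), (926, 938), (927, 945), (928, 1364), (929, 585), (930, 953), (931, 1058), (932, 586), (933, 955), (934, 1367), (935, 1369), (936, 587), (937, 952), (938, 926), (939, 1374), (940, 590), (941, 1149), (942, 1044), (943, 591), (944, 954), (945, 927), (946, 998), (947, 594), (948, 912), (949, 913), (950, 1380), (951, 878), (952, 937), (953, 930), (954, 944), (955, 933), (956, 962), (957, 1384), (958, 603), (959, 970)]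
    ⟨e3 q896 L24881 q559, e3 q897 L65685 q885, e3 q898 L73400 q1328, e3 q899 L73422 q1331, e3 q900 L24901 q561, e3 q901 L65656 q887, e3 q902 L73464 q1335, e3 q903 L73488 q1338, e3 q904 L73498 q1339, e3 q905 L25005 q563, e3 q906 L73538 q1345, e3 q907 L73201 q973, e3 q908 L25019 q565, e3 q909 L25199 q569, e3 q910 L25208 q570, e3 q911 L25217 q807, e3 q912 L25818 q948, e3 q913 L25826 q949, e3 q914 L27960 q1000, e3 q915 L25639 q573, e3 q916 L25645 q574, e3 q917 L72359 q1078, e3 q918 L72607 q839, e3 q919 L27988 q1002, e3 q920 L73625 q1356, e3 q921 L73633 q1358, e3 q922 L25684 q578, e3 q923 L72825 q879, e3 q924 L25703 q597, e3 q925 L25711 q598, e3 q926 L25756 q938, e3 q927 L25792 q945, e3 q928 L73664 q1364, e3 q929 L25724 q585, e3 q930 L25867 q953, e3 q931 L73157 q1058, e3 q932 L25732 q586, e3 q933 L25880 q955, e3 q934 L73681 q1367, e3 q935 L73692 q1369, e3 q936 L25744 q587, e3 q937 L25854 q952, e3 q938 L25755 q926, e3 q939 L73721 q1374, e3 q940 L25770 q590, e3 q941 L72941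 q1149, e3 q942 L73102 q1044, e3 q943 L25780 q591, e3 q944 L25872 q954, e3 q945 L25791 q927, e3 q946 L73159 q998, e3 q947 L25800 q594, e3 q948 L25817 q912, e3 q949 L25825 q913, e3 q950 L73765 q1380, e3 q951 L72642 q878, e3 q952 L25853 q937, e3 q953 L25868 q930, e3 q954 L25871 q944, e3 q955 L25879 q933, e3 q956 L25917 q962, e3 q957 L73794 q1384, e3 q958 L25892 q603, e3 q959 L25949 q970, trivial⟩ (by decide +kernel)

theorem ce_e_15 : ∀ r, r < 64 → sm ge (Qf (960 + r)) = Qf (tab Gen.e (960 + r)) :=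
  edges_tab (sm ge) Qf (tab Gen.e) 960 [(960, 1389), (961, 605), (962, 956), (963, 1394), (964, 607), (965, 1397), (966, 608), (967, 1111), (968, 1400), (969, 1399), (970, 959), (971, 1037), (972, 610), (973, 907), (974, 1041), (975, 1411), (976, 613), (977, 1413), (978, 1414), (979, 621), (980, 622), (981, 1048), (982, 1419), (983, 1420), (984, 618), (985, 990), (986, 1332), (987, 623), (988, 989), (989, 988), (990, 985), (991, 1241), (992, 624), (993, 1239), (994, 1423), (995, 1065), (996, 675), (997, 1011), (998, 946), (999, 779), (1000, 914), (1001, 1251), (1002, 919), (1003, 1431), (1004, 636), (1005, 1432), (1006, 711), (1007, 712), (1008, 651), (1009, 652), (1010, 717), (1011, 997), (1012, 719), (1013, 720), (1014, 643), (1015, 1435), (1016, 644), (1017, 1109), (1018, 1421), (1019, 1439), (1020, 1443), (1021, 648), (1022, 1445), (1023, 778)]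
    ⟨e3 q960 L73828 q1389, e3 q961 L25906 q605, e3 q962 L25918 q956, e3 q963 L73856 q1394, e3 q964 L25924 q607, e3 q965 L73872 q1397, e3 q966 L25936 q608, e3 q967 L73269 q1111, e3 q968 L73905 q1400, e3 q969 L73897 q1399, e3 q970 L25950 q959, e3 q971 L73209 q1037, e3 q972 L25956 q610, e3 q973 L73200 q907, e3 q974 L73162 q1041, e3 q975 L73968 q1411, e3 q976 L26043 q613, e3 q977 L73987 q1413, e3 q978 L73993 q1414, e3 q979 L26382 q621, e3 q980 L26388 q622, e3 q981 L72962 q1048, e3 q982 L74016 q1419, e3 q983 L74024 q1420, e3 q984 L26403 q618, e3 q985 L26474 q990, e3 q986 L73441 q1332, e3 q987 L66099 q623, e3 q988 L26439 q989, e3 q989 L26438 q988, e3 q990 L26473 q985, e3 q991 L73076 q1241, e3 q992 L27898 q624, e3 q993 L73039 q1239, e3 q994 L74063 q1423, e3 q995 L72799 q1065, e3 q996 L27929 q675, e3 q997 L28076 q1011, e3 q998 L73160 q946, e3 q999 L71798 q779, e3 q1000 L27959 q914, e3 q1001 L72583 q1251, e3 q1002 L27987 q919, e3 q1003 L74121 q1431, e3 q1004 L28010 q636, e3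 q1005 L74133 q1432, e3 q1006 L71821 q711, e3 q1007 L41618 q712, e3 q1008 L28047 q651, e3 q1009 L28057 q652, e3 q1010 L28067 q717, e3 q1011 L28075 q997, e3 q1012 L28083 q719, e3 q1013 L28089 q720, e3 q1014 L28096 q643, e3 q1015 L74176 q1435, e3 q1016 L28116 q644, e3 q1017 L28933 q1109, e3 q1018 L74043 q1421, e3 q1019 L74203 q1439, e3 q1020 L74229 q1443, e3 q1021 L28142 q648, e3 q1022 L74248 q1445, e3 q1023 L71815 q778, trivial⟩ (by decide +kernel)

theorem ce_e_16 : ∀ r, r < 64 → sm ge (Qf (1024 + r)) = Qf (tab Gen.e (1024 + r)) :=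
  edges_tab (sm ge) Qf (tab Gen.e) 1024 [(1024, 1447), (1025, 776), (1026, 1117), (1027, 1449), (1028, 1451), (1029, 656), (1030, 1452), (1031, 658), (1032, 1051), (1033, 1457), (1034, 1460), (1035, 1463), (1036, 662), (1037, 971), (1038, 1465), (1039, 1471), (1040, 667), (1041, 974), (1042, 1472), (1043, 1473), (1044, 942), (1045, 1455), (1046, 1479), (1047, 670), (1048, 981), (1049, 1481), (1050, 682), (1051, 1032), (1052, 718), (1053, 1426), (1054, 1427), (1055, 721), (1056, 722), (1057, 677), (1058, 931), (1059, 1386), (1060, 678), (1061, 1115), (1062, 1491), (1063, 680), (1064, 1493), (1065, 995), (1066, 1334), (1067, 1071), (1068, 1072), (1069, 1498), (1070, 1176), (1071, 1067), (1072, 1068), (1073, 692), (1074, 690), (1075, 691), (1076, 1503), (1077, 1079), (1078, 917), (1079, 1077), (1080, 1226), (1081, 1507), (1082, 695), (1083, 1302), (1084, 1283), (1085, 705), (1086, 1513), (1087, 1495)]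
    ⟨e3 q1024 L74263 q1447, e3 q1025 L71635 q776, e3 q1026 L73263 q1117, e3 q1027 L74279 q1449, e3 q1028 L74299 q1451, e3 q1029 L28228 q656, e3 q1030 L74314 q1452, e3 q1031 L28257 q658, e3 q1032 L28406 q1051, e3 q1033 L74352 q1457, e3 q1034 L74386 q1460, e3 q1035 L74406 q1463, e3 q1036 L28292 q662, e3 q1037 L73208 q971, e3 q1038 L74423 q1465, e3 q1039 L74454 q1471, e3 q1040 L28331 q667, e3 q1041 L73161 q974, e3 q1042 L74469 q1472, e3 q1043 L74477 q1473, e3 q1044 L73103 q942, e3 q1045 L74340 q1455, e3 q1046 L74509 q1479, e3 q1047 L28376 q670, e3 q1048 L72961 q981, e3 q1049 L74532 q1481, e3 q1050 L28395 q682, e3 q1051 L28405 q1032, e3 q1052 L28415 q718, e3 q1053 L74084 q1426, e3 q1054 L74090 q1427, e3 q1055 L28427 q721, e3 q1056 L28433 q722, e3 q1057 L28438 q677, e3 q1058 L73158 q931, e3 q1059 L73813 q1386, e3 q1060 L28452 q678, e3 q1061 L28959 q1115, e3 q1062 L74605 q1491, e3 q1063 L28490 q680, e3 q1064 L74626 q1493, e3 q1065 L72798 q995, e3 q1066 L73463 q1334, e3 q1067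 L72805 q1071, e3 q1068 L72813 q1072, e3 q1069 L74670 q1498, e3 q1070 L72354 q1176, e3 q1071 L72804 q1067, e3 q1072 L72814 q1068, e3 q1073 L28591 q692, e3 q1074 L28597 q690, e3 q1075 L28603 q691, e3 q1076 L74714 q1503, e3 q1077 L28628 q1079, e3 q1078 L72358 q917, e3 q1079 L28627 q1077, e3 q1080 L52888 q1226, e3 q1081 L74748 q1507, e3 q1082 L28652 q695, e3 q1083 L73142 q1302, e3 q1084 L72356 q1283, e3 q1085 L28676 q705, e3 q1086 L74788 q1513, e3 q1087 L74649 q1495, trivial⟩ (by decide +kernel)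

theorem ce_e_17 : ∀ r, r < 64 → sm ge (Qf (1088 + r)) = Qf (tab Gen.e (1088 + r)) :=
  edges_tab (sm ge) Qf (tab Gen.e) 1088 [(1088, 701), (1089, 1096), (1090, 1222), (1091, 1434), (1092, 706), (1093, 1516), (1094, 707), (1095, 709), (1096, 1089), (1097, 710), (1098, 1433), (1099, 1519), (1100, 881), (1101, 882), (1102, 1522), (1103, 1430), (1104, 1107), (1105, 1349), (1106, 1486), (1107, 1104), (1108, 724), (1109, 1017), (1110, 1527), (1111, 967), (1112, 725), (1113, 1529), (1114, 727), (1115, 1061), (1116, 731), (1117, 1026), (1118, 733), (1119, 1533), (1120, 734), (1121, 1534), (1122, 1536), (1123, 735), (1124, 739), (1125, 738), (1126, 740), (1127, 1298), (1128, 1134), (1129, 1541), (1130, 741), (1131, 1143), (1132, 1229), (1133, 744), (1134, 1128), (1135, 1547), (1136, 747), (1137, 1550), (1138, 748), (1139, 1552), (1140, 1553), (1141, 1551), (1142, 750), (1143, 1131), (1144, 1559), (1145, 850), (1146, 752), (1147, 849), (1148, 1560), (1149, 941), (1150, 754),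 (1151, 756)]
    ⟨e3 q1088 L28701 q701, e3 q1089 L28792 q1096, e3 q1090 L72745 q1222, e3 q1091 L74166 q1434, e3 q1092 L28755 q706, e3 q1093 L74808 q1516, e3 q1094 L28772 q707, e3 q1095 L28781 q709, e3 q1096 L28791 q1089, e3 q1097 L28799 q710, e3 q1098 L74152 q1433, e3 q1099 L74836 q1519, e3 q1100 L65673 q881, e3 q1101 L53360 q882, e3 q1102 L74864 q1522, e3 q1103 L74117 q1430, e3 q1104 L28907 q1107, e3 q1105 L73571 q1349, e3 q1106 L74572 q1486, e3 q1107 L28906 q1104, e3 q1108 L28924 q724, e3 q1109 L28932 q1017, e3 q1110 L74924 q1527, e3 q1111 L73268 q967, e3 q1112 L28941 q725, e3 q1113 L74943 q1529, e3 q1114 L28950 q727, e3 q1115 L28958 q1061, e3 q1116 L29040 q731, e3 q1117 L73262 q1026, e3 q1118 L29054 q733, e3 q1119 L74981 q1533, e3 q1120 L29062 q734, e3 q1121 L74991 q1534, e3 q1122 L75020 q1536, e3 q1123 L29073 q735, e3 q1124 L41474 q739, e3 q1125 L29098 q738, e3 q1126 L41514 q740, e3 q1127 L72696 q1298, e3 q1128 L29216 q1134, e3 q1129 L75045 q1541, e3 q1130 L29175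 q741, e3 q1131 L64170 q1143, e3 q1132 L73118 q1229, e3 q1133 L29199 q744, e3 q1134 L29217 q1128, e3 q1135 L75084 q1547, e3 q1136 L29223 q747, e3 q1137 L75109 q1550, e3 q1138 L29237 q748, e3 q1139 L75125 q1552, e3 q1140 L75135 q1553, e3 q1141 L75117 q1551, e3 q1142 L29258 q750, e3 q1143 L64169 q1131, e3 q1144 L75170 q1559, e3 q1145 L66078 q850, e3 q1146 L29293 q752, e3 q1147 L51936 q849, e3 q1148 L75180 q1560, e3 q1149 L72942 q941, e3 q1150 L29325 q754, e3 q1151 L29338 q756, trivial⟩ (by decide +kernel)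

theorem ce_e_18 : ∀ r, r < 64 → sm ge (Qf (1152 + r)) = Qf (tab Gen.e (1152 + r)) :=
  edges_tab (sm ge) Qf (tab Gen.e) 1152 [(1152, 1192), (1153, 1563), (1154, 772), (1155, 760), (1156, 769), (1157, 1561), (1158, 1567), (1159, 762), (1160, 764), (1161, 1517), (1162, 1571), (1163, 766), (1164, 1574), (1165, 1575), (1166, 1350), (1167, 1578), (1168, 768), (1169, 1581), (1170, 1582), (1171, 771), (1172, 1587), (1173, 773), (1174, 1280), (1175, 860), (1176, 1070), (1177, 1590), (1178, 1585), (1179, 1286), (1180, 1596), (1181, 1599), (1182, 1194), (1183, 1603), (1184, 784), (1185, 1605), (1186, 1606), (1187, 1211), (1188, 1487), (1189, 1613), (1190, 788), (1191, 1616), (1192, 1152), (1193, 1195), (1194, 1182), (1195, 1193), (1196, 792), (1197, 1621), (1198, 1620), (1199, 794), (1200, 1202), (1201, 795), (1202, 1200), (1203, 799), (1204, 797), (1205, 798), (1206, 1207), (1207, 1206), (1208, 1627), (1209, 1628), (1210, 1629), (1211, 1187), (1212, 802), (1213, 1299), (1214,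 1270), (1215, 1554)]
    ⟨e3 q1152 L72786 q1192, e3 q1153 L75204 q1563, e3 q1154 L71462 q772, e3 q1155 L29423 q760, e3 q1156 L64483 q769, e3 q1157 L75199 q1561, e3 q1158 L75236 q1567, e3 q1159 L29467 q762, e3 q1160 L29480 q764, e3 q1161 L74823 q1517, e3 q1162 L75266 q1571, e3 q1163 L29499 q766, e3 q1164 L75293 q1574, e3 q1165 L75303 q1575, e3 q1166 L73584 q1350, e3 q1167 L75318 q1578, e3 q1168 L29535 q768, e3 q1169 L75349 q1581, e3 q1170 L75357 q1582, e3 q1171 L29608 q771, e3 q1172 L75400 q1587, e3 q1173 L29895 q773, e3 q1174 L67182 q1280, e3 q1175 L30036 q860, e3 q1176 L72355 q1070, e3 q1177 L75442 q1590, e3 q1178 L75389 q1585, e3 q1179 L72796 q1286, e3 q1180 L75481 q1596, e3 q1181 L75501 q1599, e3 q1182 L30702 q1194, e3 q1183 L75525 q1603, e3 q1184 L30652 q784, e3 q1185 L75540 q1605, e3 q1186 L75544 q1606, e3 q1187 L73035 q1211, e3 q1188 L74584 q1487, e3 q1189 L75591 q1613, e3 q1190 L30677 q788, e3 q1191 L75616 q1616, e3 q1192 L72787 q1152, e3 q1193 L72898 q1195,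 e3 q1194 L30701 q1182, e3 q1195 L72897 q1193, e3 q1196 L30708 q792, e3 q1197 L75674 q1621, e3 q1198 L75664 q1620, e3 q1199 L30732 q794, e3 q1200 L72918 q1202, e3 q1201 L30745 q795, e3 q1202 L72917 q1200, e3 q1203 L30758 q799, e3 q1204 L30762 q797, e3 q1205 L30766 q798, e3 q1206 L30785 q1207, e3 q1207 L30784 q1206, e3 q1208 L75722 q1627, e3 q1209 L75726 q1628, e3 q1210 L75730 q1629, e3 q1211 L73034 q1187, e3 q1212 L30807 q802, e3 q1213 L73033 q1299, e3 q1214 L72910 q1270, e3 q1215 L75147 q1554, trivial⟩ (by decide +kernel)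

theorem ce_e_19 : ∀ r, r < 64 → sm ge (Qf (1216 + r)) = Qf (tab Gen.e (1216 + r)) :=
  edges_tab (sm ge) Qf (tab Gen.e) 1216 [(1216, 806), (1217, 808), (1218, 810), (1219, 826), (1220, 1643), (1221, 814), (1222, 1090), (1223, 1644), (1224, 819), (1225, 817), (1226, 1080), (1227, 1646), (1228, 1647), (1229, 1132), (1230, 1653), (1231, 822), (1232, 1564), (1233, 1641), (1234, 1640), (1235, 1660), (1236, 827), (1237, 1663), (1238, 1662), (1239, 993), (1240, 831), (1241, 991), (1242, 1665), (1243, 1668), (1244, 1670), (1245, 833), (1246, 1674), (1247, 1675), (1248, 837), (1249, 835), (1250, 836), (1251, 1001), (1252, 1678), (1253, 1499), (1254, 1679), (1255, 1353), (1256, 1684), (1257, 841), (1258, 1687), (1259, 1688), (1260, 1691), (1261, 1649), (1262, 842), (1263, 1608), (1264, 1636), (1265, 844), (1266, 845), (1267, 1268), (1268, 1267), (1269, 846), (1270, 1214), (1271, 851), (1272, 865), (1273, 1626), (1274, 1702), (1275, 852), (1276, 1704), (1277, 1705), (1278, 853),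 (1279, 855)]
    ⟨e3 q1216 L30823 q806, e3 q1217 L30840 q808, e3 q1218 L30853 q810, e3 q1219 L30866 q826, e3 q1220 L75809 q1643, e3 q1221 L30893 q814, e3 q1222 L72744 q1090, e3 q1223 L75831 q1644, e3 q1224 L30943 q819, e3 q1225 L30947 q817, e3 q1226 L52889 q1080, e3 q1227 L75843 q1646, e3 q1228 L75853 q1647, e3 q1229 L73117 q1132, e3 q1230 L75885 q1653, e3 q1231 L30992 q822, e3 q1232 L75221 q1564, e3 q1233 L75798 q1641, e3 q1234 L75791 q1640, e3 q1235 L75926 q1660, e3 q1236 L31016 q827, e3 q1237 L75961 q1663, e3 q1238 L75949 q1662, e3 q1239 L73038 q993, e3 q1240 L31046 q831, e3 q1241 L73077 q991, e3 q1242 L75981 q1665, e3 q1243 L75990 q1668, e3 q1244 L76008 q1670, e3 q1245 L31088 q833, e3 q1246 L76045 q1674, e3 q1247 L76053 q1675, e3 q1248 L31101 q837, e3 q1249 L31105 q835, e3 q1250 L31109 q836, e3 q1251 L72584 q1001, e3 q1252 L76063 q1678, e3 q1253 L74683 q1499, e3 q1254 L76073 q1679, e3 q1255 L73610 q1353, e3 q1256 L76108 q1684, e3 q1257 L31164 q841, e3 q1258 L76137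 q1687, e3 q1259 L76145 q1688, e3 q1260 L76170 q1691, e3 q1261 L75861 q1649, e3 q1262 L31206 q842, e3 q1263 L75555 q1608, e3 q1264 L75764 q1636, e3 q1265 L31223 q844, e3 q1266 L31227 q845, e3 q1267 L31240 q1268, e3 q1268 L31239 q1267, e3 q1269 L31392 q846, e3 q1270 L72909 q1214, e3 q1271 L31453 q851, e3 q1272 L31457 q865, e3 q1273 L75714 q1626, e3 q1274 L76233 q1702, e3 q1275 L32044 q852, e3 q1276 L76256 q1704, e3 q1277 L76268 q1705, e3 q1278 L32086 q853, e3 q1279 L32103 q855, trivial⟩ (by decide +kernel)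

theorem ce_e_20 : ∀ r, r < 64 → sm ge (Qf (1280 + r)) = Qf (tab Gen.e (1280 + r)) :=
  edges_tab (sm ge) Qf (tab Gen.e) 1280 [(1280, 1174), (1281, 858), (1282, 1520), (1283, 1084), (1284, 863), (1285, 1524), (1286, 1179), (1287, 1699), (1288, 1700), (1289, 1716), (1290, 866), (1291, 1718), (1292, 1669), (1293, 867), (1294, 1664), (1295, 1719), (1296, 869), (1297, 1722), (1298, 1127), (1299, 1213), (1300, 1726), (1301, 876), (1302, 1083), (1303, 1305), (1304, 880), (1305, 1303), (1306, 1730), (1307, 1327), (1308, 1333), (1309, 1326), (1310, 1319), (1311, 1322), (1312, 1336), (1313, 889), (1314, 1343), (1315, 1408), (1316, 891), (1317, 1736), (1318, 893), (1319, 1310), (1320, 1458), (1321, 894), (1322, 1311), (1323, 1739), (1324, 1740), (1325, 895), (1326, 1309), (1327, 1307), (1328, 898), (1329, 1569), (1330, 1422), (1331, 899), (1332, 986), (1333, 1308), (1334, 1066), (1335, 902), (1336, 1312), (1337, 1745), (1338, 903), (1339, 904), (1340, 1442), (1341, 1749), (1342,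 1382), (1343, 1314)]
    ⟨e3 q1280 L67183 q1174, e3 q1281 L32268 q858, e3 q1282 L74849 q1520, e3 q1283 L72357 q1084, e3 q1284 L73024 q863, e3 q1285 L74891 q1524, e3 q1286 L72797 q1179, e3 q1287 L76212 q1699, e3 q1288 L76220 q1700, e3 q1289 L76337 q1716, e3 q1290 L32582 q866, e3 q1291 L76359 q1718, e3 q1292 L76005 q1669, e3 q1293 L32590 q867, e3 q1294 L75971 q1664, e3 q1295 L76368 q1719, e3 q1296 L32608 q869, e3 q1297 L76385 q1722, e3 q1298 L72695 q1127, e3 q1299 L73032 q1213, e3 q1300 L76412 q1726, e3 q1301 L32932 q876, e3 q1302 L73141 q1083, e3 q1303 L73094 q1305, e3 q1304 L37704 q880, e3 q1305 L73095 q1303, e3 q1306 L76448 q1730, e3 q1307 L73395 q1327, e3 q1308 L73451 q1333, e3 q1309 L73385 q1326, e3 q1310 L73331 q1319, e3 q1311 L73353 q1322, e3 q1312 L73482 q1336, e3 q1313 L73279 q889, e3 q1314 L73530 q1343, e3 q1315 L73957 q1408, e3 q1316 L73303 q891, e3 q1317 L76504 q1736, e3 q1318 L73317 q893, e3 q1319 L73330 q1310, e3 q1320 L74375 q1458, e3 q1321 L73341 q894,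 e3 q1322 L73352 q1311, e3 q1323 L76532 q1739, e3 q1324 L76546 q1740, e3 q1325 L73367 q895, e3 q1326 L73384 q1309, e3 q1327 L73394 q1307, e3 q1328 L73401 q898, e3 q1329 L75255 q1569, e3 q1330 L74055 q1422, e3 q1331 L73423 q899, e3 q1332 L73440 q986, e3 q1333 L73450 q1308, e3 q1334 L73462 q1066, e3 q1335 L73465 q902, e3 q1336 L73483 q1312, e3 q1337 L76598 q1745, e3 q1338 L73489 q903, e3 q1339 L73499 q904, e3 q1340 L74227 q1442, e3 q1341 L76628 q1749, e3 q1342 L73783 q1382, e3 q1343 L73531 q1314, trivial⟩ (by decide +kernel)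

theorem ce_e_21 : ∀ r, r < 64 → sm ge (Qf (1344 + r)) = Qf (tab Gen.e (1344 + r)) :=
  edges_tab (sm ge) Qf (tab Gen.e) 1344 [(1344, 1405), (1345, 906), (1346, 1390), (1347, 1437), (1348, 1416), (1349, 1105), (1350, 1166), (1351, 1651), (1352, 1504), (1353, 1255), (1354, 1525), (1355, 1760), (1356, 920), (1357, 1762), (1358, 921), (1359, 1763), (1360, 1372), (1361, 1378), (1362, 1767), (1363, 1768), (1364, 928), (1365, 1381), (1366, 1769), (1367, 934), (1368, 1415), (1369, 935), (1370, 1412), (1371, 1774), (1372, 1360), (1373, 1775), (1374, 939), (1375, 1469), (1376, 1475), (1377, 1477), (1378, 1361), (1379, 1778), (1380, 950), (1381, 1365), (1382, 1342), (1383, 1781), (1384, 957), (1385, 1731), (1386, 1059), (1387, 1724), (1388, 1785), (1389, 960), (1390, 1346), (1391, 1482), (1392, 1488), (1393, 1526), (1394, 963), (1395, 1789), (1396, 1780), (1397, 965), (1398, 1535), (1399, 969), (1400, 968), (1401, 1402), (1402, 1401), (1403, 1461), (1404, 1464), (1405, 1344),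 (1406, 1466), (1407, 1474)]
    ⟨e3 q1344 L73933 q1405, e3 q1345 L73539 q906, e3 q1346 L73836 q1390, e3 q1347 L74190 q1437, e3 q1348 L74007 q1416, e3 q1349 L73570 q1105, e3 q1350 L73583 q1166, e3 q1351 L75877 q1651, e3 q1352 L74727 q1504, e3 q1353 L73609 q1255, e3 q1354 L74907 q1525, e3 q1355 L76699 q1760, e3 q1356 L73626 q920, e3 q1357 L76713 q1762, e3 q1358 L73634 q921, e3 q1359 L76717 q1763, e3 q1360 L73709 q1372, e3 q1361 L73756 q1378, e3 q1362 L76753 q1767, e3 q1363 L76762 q1768, e3 q1364 L73665 q928, e3 q1365 L73772 q1381, e3 q1366 L76777 q1769, e3 q1367 L73682 q934, e3 q1368 L74001 q1415, e3 q1369 L73693 q935, e3 q1370 L73979 q1412, e3 q1371 L76811 q1774, e3 q1372 L73708 q1360, e3 q1373 L76816 q1775, e3 q1374 L73722 q939, e3 q1375 L74447 q1469, e3 q1376 L74493 q1475, e3 q1377 L74504 q1477, e3 q1378 L73755 q1361, e3 q1379 L76833 q1778, e3 q1380 L73766 q950, e3 q1381 L73771 q1365, e3 q1382 L73782 q1342, e3 q1383 L76860 q1781, e3 q1384 L73795 q957, e3 q1385 L76463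 q1731, e3 q1386 L73812 q1059, e3 q1387 L76407 q1724, e3 q1388 L76890 q1785, e3 q1389 L73829 q960, e3 q1390 L73837 q1346, e3 q1391 L74546 q1482, e3 q1392 L74590 q1488, e3 q1393 L74920 q1526, e3 q1394 L73857 q963, e3 q1395 L76933 q1789, e3 q1396 L76857 q1780, e3 q1397 L73873 q965, e3 q1398 L75005 q1535, e3 q1399 L73896 q969, e3 q1400 L73904 q968, e3 q1401 L73917 q1402, e3 q1402 L73916 q1401, e3 q1403 L74399 q1461, e3 q1404 L74417 q1464, e3 q1405 L73932 q1344, e3 q1406 L74431 q1466, e3 q1407 L74481 q1474, trivial⟩ (by decide +kernel)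

theorem ce_e_22 : ∀ r, r < 64 → sm ge (Qf (1408 + r)) = Qf (tab Gen.e (1408 + r)) :=
  edges_tab (sm ge) Qf (tab Gen.e) 1408 [(1408, 1315), (1409, 1797), (1410, 1796), (1411, 975), (1412, 1370), (1413, 977), (1414, 978), (1415, 1368), (1416, 1348), (1417, 1480), (1418, 1807), (1419, 982), (1420, 983), (1421, 1018), (1422, 1330), (1423, 994), (1424, 1494), (1425, 1734), (1426, 1053), (1427, 1054), (1428, 1576), (1429, 1506), (1430, 1103), (1431, 1003), (1432, 1005), (1433, 1098), (1434, 1091), (1435, 1015), (1436, 1808), (1437, 1347), (1438, 1733), (1439, 1019), (1440, 1446), (1441, 1818), (1442, 1340), (1443, 1020), (1444, 1820), (1445, 1022), (1446, 1440), (1447, 1024), (1448, 1532), (1449, 1027), (1450, 1823), (1451, 1028), (1452, 1030), (1453, 1523), (1454, 1824), (1455, 1045), (1456, 1483), (1457, 1033), (1458, 1320), (1459, 1825), (1460, 1034), (1461, 1403), (1462, 1827), (1463, 1035), (1464, 1404), (1465, 1038), (1466, 1406), (1467, 1829), (1468, 1830), (1469,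 1375), (1470, 1638), (1471, 1039)]
    ⟨e3 q1408 L73956 q1315, e3 q1409 L77004 q1797, e3 q1410 L76993 q1796, e3 q1411 L73969 q975, e3 q1412 L73978 q1370, e3 q1413 L73986 q977, e3 q1414 L73992 q978, e3 q1415 L74000 q1368, e3 q1416 L74006 q1348, e3 q1417 L74522 q1480, e3 q1418 L77059 q1807, e3 q1419 L74017 q982, e3 q1420 L74025 q983, e3 q1421 L74042 q1018, e3 q1422 L74054 q1330, e3 q1423 L74062 q994, e3 q1424 L74636 q1494, e3 q1425 L76493 q1734, e3 q1426 L74083 q1053, e3 q1427 L74089 q1054, e3 q1428 L75311 q1576, e3 q1429 L74745 q1506, e3 q1430 L74118 q1103, e3 q1431 L74122 q1003, e3 q1432 L74134 q1005, e3 q1433 L74151 q1098, e3 q1434 L74165 q1091, e3 q1435 L74175 q1015, e3 q1436 L77074 q1808, e3 q1437 L74189 q1347, e3 q1438 L76479 q1733, e3 q1439 L74204 q1019, e3 q1440 L74260 q1446, e3 q1441 L77173 q1818, e3 q1442 L74228 q1340, e3 q1443 L74230 q1020, e3 q1444 L77198 q1820, e3 q1445 L74247 q1022, e3 q1446 L74259 q1440, e3 q1447 L74264 q1024, e3 q1448 L74969 q1532, e3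 q1449 L74280 q1027, e3 q1450 L77221 q1823, e3 q1451 L74300 q1028, e3 q1452 L74313 q1030, e3 q1453 L74885 q1523, e3 q1454 L77244 q1824, e3 q1455 L74339 q1045, e3 q1456 L74554 q1483, e3 q1457 L74353 q1033, e3 q1458 L74374 q1320, e3 q1459 L77259 q1825, e3 q1460 L74387 q1034, e3 q1461 L74398 q1403, e3 q1462 L77275 q1827, e3 q1463 L74407 q1035, e3 q1464 L74416 q1404, e3 q1465 L74422 q1038, e3 q1466 L74430 q1406, e3 q1467 L77297 q1829, e3 q1468 L77305 q1830, e3 q1469 L74446 q1375, e3 q1470 L75781 q1638, e3 q1471 L74455 q1039, trivial⟩ (by decide +kernel)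

theorem ce_e_23 : ∀ r, r < 64 → sm ge (Qf (1472 + r)) = Qf (tab Gen.e (1472 + r)) :=
  edges_tab (sm ge) Qf (tab Gen.e) 1472 [(1472, 1042), (1473, 1043), (1474, 1407), (1475, 1376), (1476, 1810), (1477, 1377), (1478, 1837), (1479, 1046), (1480, 1417), (1481, 1049), (1482, 1391), (1483, 1456), (1484, 1756), (1485, 1812), (1486, 1106), (1487, 1188), (1488, 1392), (1489, 1531), (1490, 1845), (1491, 1062), (1492, 1847), (1493, 1064), (1494, 1424), (1495, 1087), (1496, 1743), (1497, 1703), (1498, 1069), (1499, 1253), (1500, 1589), (1501, 1617), (1502, 1854), (1503, 1076), (1504, 1352), (1505, 1855), (1506, 1429), (1507, 1081), (1508, 1727), (1509, 1710), (1510, 1859), (1511, 1611), (1512, 1862), (1513, 1086), (1514, 1848), (1515, 1803), (1516, 1093), (1517, 1161), (1518, 1750), (1519, 1099), (1520, 1282), (1521, 1865), (1522, 1102), (1523, 1453), (1524, 1285), (1525, 1354), (1526, 1393), (1527, 1110), (1528, 1866), (1529, 1113), (1530, 1840), (1531, 1489), (1532, 1448),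 (1533, 1119), (1534, 1121), (1535, 1398)]
    ⟨e3 q1472 L74468 q1042, e3 q1473 L74476 q1043, e3 q1474 L74480 q1407, e3 q1475 L74492 q1376, e3 q1476 L77097 q1810, e3 q1477 L74503 q1377, e3 q1478 L77360 q1837, e3 q1479 L74510 q1046, e3 q1480 L74521 q1417, e3 q1481 L74531 q1049, e3 q1482 L74545 q1391, e3 q1483 L74553 q1456, e3 q1484 L76684 q1756, e3 q1485 L77114 q1812, e3 q1486 L74571 q1106, e3 q1487 L74583 q1188, e3 q1488 L74589 q1392, e3 q1489 L74957 q1531, e3 q1490 L77437 q1845, e3 q1491 L74606 q1062, e3 q1492 L77472 q1847, e3 q1493 L74625 q1064, e3 q1494 L74635 q1424, e3 q1495 L74648 q1087, e3 q1496 L76583 q1743, e3 q1497 L76254 q1703, e3 q1498 L74671 q1069, e3 q1499 L74682 q1253, e3 q1500 L75427 q1589, e3 q1501 L75624 q1617, e3 q1502 L77545 q1854, e3 q1503 L74715 q1076, e3 q1504 L74726 q1352, e3 q1505 L77557 q1855, e3 q1506 L74744 q1429, e3 q1507 L74749 q1081, e3 q1508 L76427 q1727, e3 q1509 L76303 q1710, e3 q1510 L77593 q1859, e3 q1511 L75582 q1611, e3 q1512 L77615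 q1862, e3 q1513 L74789 q1086, e3 q1514 L77486 q1848, e3 q1515 L77044 q1803, e3 q1516 L74809 q1093, e3 q1517 L74822 q1161, e3 q1518 L76640 q1750, e3 q1519 L74837 q1099, e3 q1520 L74848 q1282, e3 q1521 L77641 q1865, e3 q1522 L74865 q1102, e3 q1523 L74884 q1453, e3 q1524 L74890 q1285, e3 q1525 L74906 q1354, e3 q1526 L74921 q1393, e3 q1527 L74925 q1110, e3 q1528 L77664 q1866, e3 q1529 L74942 q1113, e3 q1530 L77391 q1840, e3 q1531 L74956 q1489, e3 q1532 L74968 q1448, e3 q1533 L74980 q1119, e3 q1534 L74990 q1121, e3 q1535 L75004 q1398, trivial⟩ (by decide +kernel)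

theorem ce_e_24 : ∀ r, r < 64 → sm ge (Qf (1536 + r)) = Qf (tab Gen.e (1536 + r)) :=
  edges_tab (sm ge) Qf (tab Gen.e) 1536 [(1536, 1122), (1537, 1538), (1538, 1537), (1539, 1872), (1540, 1546), (1541, 1129), (1542, 1876), (1543, 1877), (1544, 1558), (1545, 1881), (1546, 1540), (1547, 1135), (1548, 1884), (1549, 1883), (1550, 1137), (1551, 1141), (1552, 1139), (1553, 1140), (1554, 1215), (1555, 1888), (1556, 1835), (1557, 1889), (1558, 1544), (1559, 1144), (1560, 1148), (1561, 1157), (1562, 1615), (1563, 1153), (1564, 1232), (1565, 1625), (1566, 1897), (1567, 1158), (1568, 1902), (1569, 1329), (1570, 1904), (1571, 1162), (1572, 1907), (1573, 1908), (1574, 1164), (1575, 1165), (1576, 1428), (1577, 1910), (1578, 1167), (1579, 1879), (1580, 1896), (1581, 1169), (1582, 1170), (1583, 1584), (1584, 1583), (1585, 1178), (1586, 1588), (1587, 1172), (1588, 1586), (1589, 1500), (1590, 1177), (1591, 1915), (1592, 1752), (1593, 1711), (1594, 1712), (1595, 1920), (1596, 1180),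 (1597, 1903), (1598, 1922), (1599, 1181)]
    ⟨e3 q1536 L75019 q1122, e3 q1537 L75033 q1538, e3 q1538 L75032 q1537, e3 q1539 L77704 q1872, e3 q1540 L75079 q1546, e3 q1541 L75046 q1129, e3 q1542 L77733 q1876, e3 q1543 L77741 q1877, e3 q1544 L75169 q1558, e3 q1545 L77770 q1881, e3 q1546 L75078 q1540, e3 q1547 L75085 q1135, e3 q1548 L77812 q1884, e3 q1549 L77799 q1883, e3 q1550 L75108 q1137, e3 q1551 L75116 q1141, e3 q1552 L75124 q1139, e3 q1553 L75134 q1140, e3 q1554 L75146 q1215, e3 q1555 L77852 q1888, e3 q1556 L77345 q1835, e3 q1557 L77868 q1889, e3 q1558 L75168 q1544, e3 q1559 L75171 q1144, e3 q1560 L75181 q1148, e3 q1561 L75198 q1157, e3 q1562 L75608 q1615, e3 q1563 L75205 q1153, e3 q1564 L75220 q1232, e3 q1565 L75704 q1625, e3 q1566 L77940 q1897, e3 q1567 L75237 q1158, e3 q1568 L77988 q1902, e3 q1569 L75254 q1329, e3 q1570 L78007 q1904, e3 q1571 L75267 q1162, e3 q1572 L78050 q1907, e3 q1573 L78062 q1908, e3 q1574 L75292 q1164, e3 q1575 L75302 q1165, e3 q1576 L75310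 q1428, e3 q1577 L78082 q1910, e3 q1578 L75319 q1167, e3 q1579 L77758 q1879, e3 q1580 L77930 q1896, e3 q1581 L75348 q1169, e3 q1582 L75356 q1170, e3 q1583 L75377 q1584, e3 q1584 L75376 q1583, e3 q1585 L75388 q1178, e3 q1586 L75419 q1588, e3 q1587 L75401 q1172, e3 q1588 L75418 q1586, e3 q1589 L75426 q1500, e3 q1590 L75443 q1177, e3 q1591 L78127 q1915, e3 q1592 L76660 q1752, e3 q1593 L76311 q1711, e3 q1594 L76321 q1712, e3 q1595 L78170 q1920, e3 q1596 L75482 q1180, e3 q1597 L78002 q1903, e3 q1598 L78194 q1922, e3 q1599 L75502 q1181, trivial⟩ (by decide +kernel)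

theorem ce_e_25 : ∀ r, r < 64 → sm ge (Qf (1600 + r)) = Qf (tab Gen.e (1600 + r)) :=
  edges_tab (sm ge) Qf (tab Gen.e) 1600 [(1600, 1924), (1601, 1624), (1602, 1927), (1603, 1183), (1604, 1929), (1605, 1185), (1606, 1186), (1607, 1609), (1608, 1263), (1609, 1607), (1610, 1839), (1611, 1511), (1612, 1935), (1613, 1189), (1614, 1937), (1615, 1562), (1616, 1191), (1617, 1501), (1618, 1619), (1619, 1618), (1620, 1198), (1621, 1197), (1622, 1940), (1623, 1941), (1624, 1601), (1625, 1565), (1626, 1273), (1627, 1208), (1628, 1209), (1629, 1210), (1630, 1723), (1631, 1945), (1632, 1642), (1633, 1946), (1634, 1635), (1635, 1634), (1636, 1264), (1637, 1882), (1638, 1470), (1639, 1656), (1640, 1234), (1641, 1233), (1642, 1632), (1643, 1220), (1644, 1223), (1645, 1954), (1646, 1227), (1647, 1228), (1648, 1956), (1649, 1261), (1650, 1932), (1651, 1351), (1652, 1961), (1653, 1230), (1654, 1844), (1655, 1899), (1656, 1639), (1657, 1673), (1658, 1828), (1659, 1822), (1660, 1235),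 (1661, 1792), (1662, 1238), (1663, 1237)]
    ⟨e3 q1600 L78213 q1924, e3 q1601 L75700 q1624, e3 q1602 L78236 q1927, e3 q1603 L75526 q1183, e3 q1604 L78257 q1929, e3 q1605 L75539 q1185, e3 q1606 L75543 q1186, e3 q1607 L75562 q1609, e3 q1608 L75556 q1263, e3 q1609 L75561 q1607, e3 q1610 L77381 q1839, e3 q1611 L75581 q1511, e3 q1612 L78310 q1935, e3 q1613 L75592 q1189, e3 q1614 L78331 q1937, e3 q1615 L75607 q1562, e3 q1616 L75615 q1191, e3 q1617 L75623 q1501, e3 q1618 L75642 q1619, e3 q1619 L75641 q1618, e3 q1620 L75663 q1198, e3 q1621 L75673 q1197, e3 q1622 L78355 q1940, e3 q1623 L78369 q1941, e3 q1624 L75699 q1601, e3 q1625 L75703 q1565, e3 q1626 L75713 q1273, e3 q1627 L75721 q1208, e3 q1628 L75725 q1209, e3 q1629 L75729 q1210, e3 q1630 L76395 q1723, e3 q1631 L78409 q1945, e3 q1632 L75822 q1642, e3 q1633 L78421 q1946, e3 q1634 L75756 q1635, e3 q1635 L75755 q1634, e3 q1636 L75763 q1264, e3 q1637 L77791 q1882, e3 q1638 L75780 q1470, e3 q1639 L75910 q1656, e3 q1640 L75790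 q1234, e3 q1641 L75797 q1233, e3 q1642 L75823 q1632, e3 q1643 L75810 q1220, e3 q1644 L75830 q1223, e3 q1645 L78489 q1954, e3 q1646 L75842 q1227, e3 q1647 L75852 q1228, e3 q1648 L78503 q1956, e3 q1649 L75860 q1261, e3 q1650 L78284 q1932, e3 q1651 L75876 q1351, e3 q1652 L78542 q1961, e3 q1653 L75886 q1230, e3 q1654 L77436 q1844, e3 q1655 L77956 q1899, e3 q1656 L75909 q1639, e3 q1657 L76031 q1673, e3 q1658 L77292 q1828, e3 q1659 L77235 q1822, e3 q1660 L75927 q1235, e3 q1661 L76958 q1792, e3 q1662 L75948 q1238, e3 q1663 L75960 q1237, trivial⟩ (by decide +kernel)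

theorem ce_e_26 : ∀ r, r < 64 → sm ge (Qf (1664 + r)) = Qf (tab Gen.e (1664 + r)) :=
  edges_tab (sm ge) Qf (tab Gen.e) 1664 [(1664, 1294), (1665, 1242), (1666, 1680), (1667, 1893), (1668, 1243), (1669, 1292), (1670, 1244), (1671, 1949), (1672, 1890), (1673, 1657), (1674, 1246), (1675, 1247), (1676, 1973), (1677, 1853), (1678, 1252), (1679, 1254), (1680, 1666), (1681, 1850), (1682, 1974), (1683, 1976), (1684, 1256), (1685, 1979), (1686, 1741), (1687, 1258), (1688, 1259), (1689, 1690), (1690, 1689), (1691, 1260), (1692, 1957), (1693, 1921), (1694, 1944), (1695, 1959), (1696, 1913), (1697, 1914), (1698, 1851), (1699, 1287), (1700, 1288), (1701, 1891), (1702, 1274), (1703, 1497), (1704, 1276), (1705, 1277), (1706, 1975), (1707, 1832), (1708, 1708), (1709, 1709), (1710, 1509), (1711, 1593), (1712, 1594), (1713, 1986), (1714, 1987), (1715, 1715), (1716, 1289), (1717, 1992), (1718, 1291), (1719, 1295), (1720, 1901), (1721, 1993), (1722, 1297), (1723, 1630), (1724, 1387),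 (1725, 1846), (1726, 1300), (1727, 1508)]
    ⟨e3 q1664 L75970 q1294, e3 q1665 L75980 q1242, e3 q1666 L76081 q1680, e3 q1667 L77904 q1893, e3 q1668 L75991 q1243, e3 q1669 L76004 q1292, e3 q1670 L76009 q1244, e3 q1671 L78445 q1949, e3 q1672 L77874 q1890, e3 q1673 L76030 q1657, e3 q1674 L76044 q1246, e3 q1675 L76052 q1247, e3 q1676 L78669 q1973, e3 q1677 L77543 q1853, e3 q1678 L76062 q1252, e3 q1679 L76072 q1254, e3 q1680 L76080 q1666, e3 q1681 L77510 q1850, e3 q1682 L78692 q1974, e3 q1683 L78718 q1976, e3 q1684 L76109 q1256, e3 q1685 L78744 q1979, e3 q1686 L76563 q1741, e3 q1687 L76136 q1258, e3 q1688 L76144 q1259, e3 q1689 L76163 q1690, e3 q1690 L76162 q1689, e3 q1691 L76171 q1260, e3 q1692 L78511 q1957, e3 q1693 L78192 q1921, e3 q1694 L78399 q1944, e3 q1695 L78529 q1959, e3 q1696 L78108 q1913, e3 q1697 L78119 q1914, e3 q1698 L77520 q1851, e3 q1699 L76211 q1287, e3 q1700 L76219 q1288, e3 q1701 L77884 q1891, e3 q1702 L76234 q1274, e3 q1703 L76255 q1497, e3 q1704 L76257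 q1276, e3 q1705 L76269 q1277, e3 q1706 L78706 q1975, e3 q1707 L77319 q1832, e3 q1708 L76288 q1708, e3 q1709 L76294 q1709, e3 q1710 L76302 q1509, e3 q1711 L76310 q1593, e3 q1712 L76320 q1594, e3 q1713 L78803 q1986, e3 q1714 L78815 q1987, e3 q1715 L76336 q1715, e3 q1716 L76338 q1289, e3 q1717 L78857 q1992, e3 q1718 L76358 q1291, e3 q1719 L76369 q1295, e3 q1720 L77972 q1901, e3 q1721 L78871 q1993, e3 q1722 L76384 q1297, e3 q1723 L76394 q1630, e3 q1724 L76406 q1387, e3 q1725 L77458 q1846, e3 q1726 L76413 q1300, e3 q1727 L76426 q1508, trivial⟩ (by decide +kernel)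

theorem ce_e_27 : ∀ r, r < 64 → sm ge (Qf (1728 + r)) = Qf (tab Gen.e (1728 + r)) :=
  edges_tab (sm ge) Qf (tab Gen.e) 1728 [(1728, 1728), (1729, 1998), (1730, 1306), (1731, 1385), (1732, 1737), (1733, 1438), (1734, 1425), (1735, 2000), (1736, 1317), (1737, 1732), (1738, 1926), (1739, 1323), (1740, 1324), (1741, 1686), (1742, 1809), (1743, 1496), (1744, 1816), (1745, 1337), (1746, 1817), (1747, 2002), (1748, 1779), (1749, 1341), (1750, 1518), (1751, 1793), (1752, 1592), (1753, 1786), (1754, 1815), (1755, 1802), (1756, 1484), (1757, 1984), (1758, 1821), (1759, 2010), (1760, 1355), (1761, 1842), (1762, 1357), (1763, 1359), (1764, 1765), (1765, 1764), (1766, 2011), (1767, 1362), (1768, 1363), (1769, 1366), (1770, 1875), (1771, 1799), (1772, 2012), (1773, 1857), (1774, 1371), (1775, 1373), (1776, 1833), (1777, 2015), (1778, 1379), (1779, 1748), (1780, 1396), (1781, 1383), (1782, 1999), (1783, 1960), (1784, 2018), (1785, 1388), (1786, 1753), (1787, 1843), (1788, 1790),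 (1789, 1395), (1790, 1788), (1791, 1826)]
    ⟨e3 q1728 L76435 q1728, e3 q1729 L78920 q1998, e3 q1730 L76449 q1306, e3 q1731 L76462 q1385, e3 q1732 L76522 q1737, e3 q1733 L76478 q1438, e3 q1734 L76492 q1425, e3 q1735 L78942 q2000, e3 q1736 L76505 q1317, e3 q1737 L76523 q1732, e3 q1738 L78231 q1926, e3 q1739 L76533 q1323, e3 q1740 L76547 q1324, e3 q1741 L76562 q1686, e3 q1742 L77086 q1809, e3 q1743 L76582 q1496, e3 q1744 L77154 q1816, e3 q1745 L76599 q1337, e3 q1746 L77169 q1817, e3 q1747 L78975 q2002, e3 q1748 L76844 q1779, e3 q1749 L76627 q1341, e3 q1750 L76639 q1518, e3 q1751 L76975 q1793, e3 q1752 L76659 q1592, e3 q1753 L76905 q1786, e3 q1754 L77144 q1815, e3 q1755 L77036 q1802, e3 q1756 L76683 q1484, e3 q1757 L78788 q1984, e3 q1758 L77208 q1821, e3 q1759 L79037 q2010, e3 q1760 L76700 q1355, e3 q1761 L77414 q1842, e3 q1762 L76714 q1357, e3 q1763 L76718 q1359, e3 q1764 L76741 q1765, e3 q1765 L76742 q1764, e3 q1766 L79047 q2011, e3 q1767 L76754 q1362, e3 q1768 L76763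 q1363, e3 q1769 L76776 q1366, e3 q1770 L77725 q1875, e3 q1771 L77019 q1799, e3 q1772 L79066 q2012, e3 q1773 L77584 q1857, e3 q1774 L76810 q1371, e3 q1775 L76817 q1373, e3 q1776 L77329 q1833, e3 q1777 L79095 q2015, e3 q1778 L76834 q1379, e3 q1779 L76843 q1748, e3 q1780 L76856 q1396, e3 q1781 L76861 q1383, e3 q1782 L78935 q1999, e3 q1783 L78537 q1960, e3 q1784 L79125 q2018, e3 q1785 L76891 q1388, e3 q1786 L76904 q1753, e3 q1787 L77428 q1843, e3 q1788 L76945 q1790, e3 q1789 L76932 q1395, e3 q1790 L76944 q1788, e3 q1791 L77272 q1826, trivial⟩ (by decide +kernel)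

theorem ce_e_28 : ∀ r, r < 64 → sm ge (Qf (1792 + r)) = Qf (tab Gen.e (1792 + r)) :=
  edges_tab (sm ge) Qf (tab Gen.e) 1792 [(1792, 1661), (1793, 1751), (1794, 1831), (1795, 1836), (1796, 1410), (1797, 1409), (1798, 2020), (1799, 1771), (1800, 1980), (1801, 1869), (1802, 1755), (1803, 1515), (1804, 1838), (1805, 2022), (1806, 2007), (1807, 1418), (1808, 1436), (1809, 1742), (1810, 1476), (1811, 1841), (1812, 1485), (1813, 1849), (1814, 2023), (1815, 1754), (1816, 1744), (1817, 1746), (1818, 1441), (1819, 2025), (1820, 1444), (1821, 1758), (1822, 1659), (1823, 1450), (1824, 1454), (1825, 1459), (1826, 1791), (1827, 1462), (1828, 1658), (1829, 1467), (1830, 1468), (1831, 1794), (1832, 1707), (1833, 1776), (1834, 1951), (1835, 1556), (1836, 1795), (1837, 1478), (1838, 1804), (1839, 1610), (1840, 1530), (1841, 1811), (1842, 1761), (1843, 1787), (1844, 1654), (1845, 1490), (1846, 1725), (1847, 1492), (1848, 1514), (1849, 1813), (1850, 1681), (1851, 1698), (1852, 1938),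 (1853, 1677), (1854, 1502), (1855, 1505)]
    ⟨e3 q1792 L76959 q1661, e3 q1793 L76974 q1751, e3 q1794 L77309 q1831, e3 q1795 L77353 q1836, e3 q1796 L76992 q1410, e3 q1797 L77005 q1409, e3 q1798 L79150 q2020, e3 q1799 L77018 q1771, e3 q1800 L78756 q1980, e3 q1801 L77681 q1869, e3 q1802 L77035 q1755, e3 q1803 L77043 q1515, e3 q1804 L77377 q1838, e3 q1805 L79167 q2022, e3 q1806 L79021 q2007, e3 q1807 L77060 q1418, e3 q1808 L77073 q1436, e3 q1809 L77085 q1742, e3 q1810 L77096 q1476, e3 q1811 L77405 q1841, e3 q1812 L77113 q1485, e3 q1813 L77498 q1849, e3 q1814 L79184 q2023, e3 q1815 L77143 q1754, e3 q1816 L77153 q1744, e3 q1817 L77170 q1746, e3 q1818 L77174 q1441, e3 q1819 L79212 q2025, e3 q1820 L77197 q1444, e3 q1821 L77207 q1758, e3 q1822 L77236 q1659, e3 q1823 L77222 q1450, e3 q1824 L77243 q1454, e3 q1825 L77260 q1459, e3 q1826 L77271 q1791, e3 q1827 L77276 q1462, e3 q1828 L77291 q1658, e3 q1829 L77296 q1467, e3 q1830 L77304 q1468, e3 q1831 L77308 q1794, e3 q1832 L77318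 q1707, e3 q1833 L77328 q1776, e3 q1834 L78465 q1951, e3 q1835 L77344 q1556, e3 q1836 L77352 q1795, e3 q1837 L77361 q1478, e3 q1838 L77376 q1804, e3 q1839 L77380 q1610, e3 q1840 L77390 q1530, e3 q1841 L77404 q1811, e3 q1842 L77413 q1761, e3 q1843 L77427 q1787, e3 q1844 L77435 q1654, e3 q1845 L77438 q1490, e3 q1846 L77457 q1725, e3 q1847 L77471 q1492, e3 q1848 L77485 q1514, e3 q1849 L77497 q1813, e3 q1850 L77509 q1681, e3 q1851 L77519 q1698, e3 q1852 L78339 q1938, e3 q1853 L77544 q1677, e3 q1854 L77546 q1502, e3 q1855 L77558 q1505, trivial⟩ (by decide +kernel)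

theorem ce_e_29 : ∀ r, r < 64 → sm ge (Qf (1856 + r)) = Qf (tab Gen.e (1856 + r)) :=
  edges_tab (sm ge) Qf (tab Gen.e) 1856 [(1856, 1909), (1857, 1773), (1858, 1969), (1859, 1510), (1860, 1972), (1861, 2014), (1862, 1512), (1863, 1964), (1864, 2003), (1865, 1521), (1866, 1528), (1867, 2031), (1868, 1870), (1869, 1801), (1870, 1868), (1871, 1887), (1872, 1539), (1873, 2038), (1874, 1885), (1875, 1770), (1876, 1542), (1877, 1543), (1878, 1880), (1879, 1579), (1880, 1878), (1881, 1545), (1882, 1637), (1883, 1549), (1884, 1548), (1885, 1874), (1886, 2028), (1887, 1871), (1888, 1555), (1889, 1557), (1890, 1672), (1891, 1701), (1892, 2029), (1893, 1667), (1894, 1895), (1895, 1894), (1896, 1580), (1897, 1566), (1898, 1934), (1899, 1655), (1900, 1906), (1901, 1720), (1902, 1568), (1903, 1597), (1904, 1570), (1905, 1995), (1906, 1900), (1907, 1572), (1908, 1573), (1909, 1856), (1910, 1577), (1911, 2040), (1912, 2013), (1913, 1696), (1914, 1697), (1915, 1591), (1916, 2047),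 (1917, 2004), (1918, 1918), (1919, 1990)]
    ⟨e3 q1856 L78072 q1909, e3 q1857 L77583 q1773, e3 q1858 L78630 q1969, e3 q1859 L77594 q1510, e3 q1860 L78667 q1972, e3 q1861 L79093 q2014, e3 q1862 L77616 q1512, e3 q1863 L78580 q1964, e3 q1864 L78989 q2003, e3 q1865 L77642 q1521, e3 q1866 L77663 q1528, e3 q1867 L79278 q2031, e3 q1868 L77697 q1870, e3 q1869 L77680 q1801, e3 q1870 L77696 q1868, e3 q1871 L77846 q1887, e3 q1872 L77705 q1539, e3 q1873 L79360 q2038, e3 q1874 L77822 q1885, e3 q1875 L77724 q1770, e3 q1876 L77732 q1542, e3 q1877 L77740 q1543, e3 q1878 L77767 q1880, e3 q1879 L77759 q1579, e3 q1880 L77766 q1878, e3 q1881 L77771 q1545, e3 q1882 L77790 q1637, e3 q1883 L77798 q1549, e3 q1884 L77811 q1548, e3 q1885 L77821 q1874, e3 q1886 L79248 q2028, e3 q1887 L77845 q1871, e3 q1888 L77851 q1555, e3 q1889 L77867 q1557, e3 q1890 L77873 q1672, e3 q1891 L77883 q1701, e3 q1892 L79256 q2029, e3 q1893 L77903 q1667, e3 q1894 L77918 q1895, e3 q1895 L77917 q1894, e3 q1896 L77929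 q1580, e3 q1897 L77939 q1566, e3 q1898 L78308 q1934, e3 q1899 L77955 q1655, e3 q1900 L78034 q1906, e3 q1901 L77971 q1720, e3 q1902 L77987 q1568, e3 q1903 L78001 q1597, e3 q1904 L78008 q1570, e3 q1905 L78895 q1995, e3 q1906 L78033 q1900, e3 q1907 L78049 q1572, e3 q1908 L78061 q1573, e3 q1909 L78071 q1856, e3 q1910 L78081 q1577, e3 q1911 L79382 q2040, e3 q1912 L79080 q2013, e3 q1913 L78107 q1696, e3 q1914 L78118 q1697, e3 q1915 L78126 q1591, e3 q1916 L79471 q2047, e3 q1917 L78999 q2004, e3 q1918 L78153 q1918, e3 q1919 L78844 q1990, trivial⟩ (by decide +kernel)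

theorem ce_e_30 : ∀ r, r < 64 → sm ge (Qf (1920 + r)) = Qf (tab Gen.e (1920 + r)) :=
  edges_tab (sm ge) Qf (tab Gen.e) 1920 [(1920, 1595), (1921, 1693), (1922, 1598), (1923, 1925), (1924, 1600), (1925, 1923), (1926, 1738), (1927, 1602), (1928, 1931), (1929, 1604), (1930, 2033), (1931, 1928), (1932, 1650), (1933, 2030), (1934, 1898), (1935, 1612), (1936, 2052), (1937, 1614), (1938, 1852), (1939, 1996), (1940, 1622), (1941, 1623), (1942, 1943), (1943, 1942), (1944, 1694), (1945, 1631), (1946, 1633), (1947, 1953), (1948, 1950), (1949, 1671), (1950, 1948), (1951, 1834), (1952, 1963), (1953, 1947), (1954, 1645), (1955, 2053), (1956, 1648), (1957, 1692), (1958, 2050), (1959, 1695), (1960, 1783), (1961, 1652), (1962, 2032), (1963, 1952), (1964, 1863), (1965, 1968), (1966, 1988), (1967, 2043), (1968, 1965), (1969, 1858), (1970, 1971), (1971, 1970), (1972, 1860), (1973, 1676), (1974, 1682), (1975, 1706), (1976, 1683), (1977, 2049), (1978, 2001), (1979, 1685), (1980, 1800),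 (1981, 2026), (1982, 2054), (1983, 2045)]
    ⟨e3 q1920 L78171 q1595, e3 q1921 L78193 q1693, e3 q1922 L78195 q1598, e3 q1923 L78223 q1925, e3 q1924 L78212 q1600, e3 q1925 L78222 q1923, e3 q1926 L78230 q1738, e3 q1927 L78237 q1602, e3 q1928 L78275 q1931, e3 q1929 L78256 q1604, e3 q1930 L79300 q2033, e3 q1931 L78274 q1928, e3 q1932 L78285 q1650, e3 q1933 L79266 q2030, e3 q1934 L78309 q1898, e3 q1935 L78311 q1612, e3 q1936 L79537 q2052, e3 q1937 L78330 q1614, e3 q1938 L78338 q1852, e3 q1939 L78907 q1996, e3 q1940 L78354 q1622, e3 q1941 L78368 q1623, e3 q1942 L78389 q1943, e3 q1943 L78388 q1942, e3 q1944 L78398 q1694, e3 q1945 L78408 q1631, e3 q1946 L78420 q1633, e3 q1947 L78480 q1953, e3 q1948 L78454 q1950, e3 q1949 L78446 q1671, e3 q1950 L78453 q1948, e3 q1951 L78466 q1834, e3 q1952 L78570 q1963, e3 q1953 L78479 q1947, e3 q1954 L78488 q1645, e3 q1955 L79547 q2053, e3 q1956 L78502 q1648, e3 q1957 L78510 q1692, e3 q1958 L79514 q2050, e3 q1959 L78528 q1695, e3 q1960 L78536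 q1783, e3 q1961 L78543 q1652, e3 q1962 L79292 q2032, e3 q1963 L78569 q1952, e3 q1964 L78579 q1863, e3 q1965 L78619 q1968, e3 q1966 L78825 q1988, e3 q1967 L79422 q2043, e3 q1968 L78618 q1965, e3 q1969 L78629 q1858, e3 q1970 L78656 q1971, e3 q1971 L78655 q1970, e3 q1972 L78668 q1860, e3 q1973 L78670 q1676, e3 q1974 L78691 q1682, e3 q1975 L78705 q1706, e3 q1976 L78717 q1683, e3 q1977 L79495 q2049, e3 q1978 L78965 q2001, e3 q1979 L78743 q1685, e3 q1980 L78755 q1800, e3 q1981 L79224 q2026, e3 q1982 L79565 q2054, e3 q1983 L79446 q2045, trivial⟩ (by decide +kernel)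

theorem ce_e_31 : ∀ r, r < 64 → sm ge (Qf (1984 + r)) = Qf (tab Gen.e (1984 + r)) :=
  edges_tab (sm ge) Qf (tab Gen.e) 1984 [(1984, 1757), (1985, 2046), (1986, 1713), (1987, 1714), (1988, 1966), (1989, 1989), (1990, 1919), (1991, 2021), (1992, 1717), (1993, 1721), (1994, 2044), (1995, 1905), (1996, 1939), (1997, 2009), (1998, 1729), (1999, 1782), (2000, 1735), (2001, 1978), (2002, 1747), (2003, 1864), (2004, 1917), (2005, 2017), (2006, 2024), (2007, 1806), (2008, 2056), (2009, 1997), (2010, 1759), (2011, 1766), (2012, 1772), (2013, 1912), (2014, 1861), (2015, 1777), (2016, 2055), (2017, 2005), (2018, 1784), (2019, 2027), (2020, 1798), (2021, 1991), (2022, 1805), (2023, 1814), (2024, 2006), (2025, 1819), (2026, 1981), (2027, 2019), (2028, 1886), (2029, 1892), (2030, 1933), (2031, 1867), (2032, 1962), (2033, 1930), (2034, 2051), (2035, 2036), (2036, 2035), (2037, 2042), (2038, 1873), (2039, 2041), (2040, 1911), (2041, 2039), (2042, 2037), (2043, 1967), (2044, 1994),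 (2045, 1983), (2046, 1985), (2047, 1916)]
    ⟨e3 q1984 L78787 q1757, e3 q1985 L79461 q2046, e3 q1986 L78802 q1713, e3 q1987 L78814 q1714, e3 q1988 L78824 q1966, e3 q1989 L78833 q1989, e3 q1990 L78843 q1919, e3 q1991 L79162 q2021, e3 q1992 L78856 q1717, e3 q1993 L78870 q1721, e3 q1994 L79432 q2044, e3 q1995 L78894 q1905, e3 q1996 L78906 q1939, e3 q1997 L79035 q2009, e3 q1998 L78921 q1729, e3 q1999 L78934 q1782, e3 q2000 L78943 q1735, e3 q2001 L78964 q1978, e3 q2002 L78974 q1747, e3 q2003 L78988 q1864, e3 q2004 L78998 q1917, e3 q2005 L79123 q2017, e3 q2006 L79198 q2024, e3 q2007 L79020 q1806, e3 q2008 L79586 q2056, e3 q2009 L79036 q1997, e3 q2010 L79038 q1759, e3 q2011 L79048 q1766, e3 q2012 L79065 q1772, e3 q2013 L79079 q1912, e3 q2014 L79094 q1861, e3 q2015 L79096 q1777, e3 q2016 L79573 q2055, e3 q2017 L79124 q2005, e3 q2018 L79126 q1784, e3 q2019 L79234 q2027, e3 q2020 L79149 q1798, e3 q2021 L79161 q1991, e3 q2022 L79168 q1805, e3 q2023 L79183 q1814, e3 q2024 L79197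 q2006, e3 q2025 L79211 q1819, e3 q2026 L79223 q1981, e3 q2027 L79233 q2019, e3 q2028 L79247 q1886, e3 q2029 L79255 q1892, e3 q2030 L79265 q1933, e3 q2031 L79277 q1867, e3 q2032 L79291 q1962, e3 q2033 L79299 q1930, e3 q2034 L79525 q2051, e3 q2035 L79334 q2036, e3 q2036 L79333 q2035, e3 q2037 L79408 q2042, e3 q2038 L79359 q1873, e3 q2039 L79396 q2041, e3 q2040 L79381 q1911, e3 q2041 L79395 q2039, e3 q2042 L79407 q2037, e3 q2043 L79421 q1967, e3 q2044 L79431 q1994, e3 q2045 L79445 q1983, e3 q2046 L79460 q1985, e3 q2047 L79470 q1916, trivial⟩ (by decide +kernel)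

theorem ce_e_32 : ∀ r, r < 10 → sm ge (Qf (2048 + r)) = Qf (tab Gen.e (2048 + r)) :=
  edges_tab (sm ge) Qf (tab Gen.e) 2048 [(2048, 2057), (2049, 1977), (2050, 1958), (2051, 2034), (2052, 1936), (2053, 1955), (2054, 1982), (2055, 2016), (2056, 2008), (2057, 2048)]
    ⟨e3 q2048 L79596 q2057, e3 q2049 L79494 q1977, e3 q2050 L79515 q1958, e3 q2051 L79524 q2034, e3 q2052 L79536 q1936, e3 q2053 L79546 q1955, e3 q2054 L79564 q1982, e3 q2055 L79572 q2016, e3 q2056 L79585 q2008, e3 q2057 L79595 q2048, trivial⟩ (by decide +kernel)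

theorem cl_e : ∀ i, i < 2058 → sm ge (Qf i) = Qf (tab Gen.e i) :=
  all_of_chunks (fun i => sm ge (Qf i) = Qf (tab Gen.e i)) 32 10
    ⟨ce_e_0, ce_e_1, ce_e_2, ce_e_3, ce_e_4, ce_e_5, ce_e_6, ce_e_7, ce_e_8, ce_e_9, ce_e_10, ce_e_11, ce_e_12, ce_e_13, ce_e_14, ce_e_15, ce_e_16, ce_e_17, ce_e_18, ce_e_19, ce_e_20, ce_e_21, ce_e_22, ce_e_23, ce_e_24, ce_e_25, ce_e_26, ce_e_27, ce_e_28, ce_e_29, ce_e_30, ce_e_31, trivial⟩
    ce_e_32

theorem ce_f_0 : ∀ r, r < 64 → sm gf (Qf (0 + r)) = Qf (tab Gen.f (0 + r)) :=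
  edges_tab (sm gf) Qf (tab Gen.f) 0 [(0, 0), (1, 1), (2, 2), (3, 3), (4, 4), (5, 11), (6, 14), (7, 7), (8, 17), (9, 21), (10, 22), (11, 5), (12, 26), (13, 27), (14, 6), (15, 31), (16, 32), (17, 8), (18, 35), (19, 38), (20, 39), (21, 9), (22, 10), (23, 43), (24, 45), (25, 48), (26, 12), (27, 13), (28, 53), (29, 55), (30, 58), (31, 15), (32, 16), (33, 62), (34, 61), (35, 18), (36, 67), (37, 68), (38, 19), (39, 20), (40, 40), (41, 71), (42, 74), (43, 23), (44, 78), (45, 24), (46, 82), (47, 83), (48, 25), (49, 80), (50, 50), (51, 91), (52, 94), (53, 28), (54, 98), (55, 29), (56, 101), (57, 102), (58, 30), (59, 86), (60, 60), (61, 34), (62, 33), (63, 108)]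
    ⟨e3 q0 L4 q0, e3 q1 L9 q1, e3 q2 L16 q2, e3 q3 L21 q3, e3 q4 L29 q4, e3 q5 L61 q11, e3 q6 L73 q14, e3 q7 L45 q7, e3 q8 L97 q17, e3 q9 L115 q21, e3 q10 L120 q22, e3 q11 L62 q5, e3 q12 L139 q26, e3 q13 L149 q27, e3 q14 L74 q6, e3 q15 L208 q31, e3 q16 L213 q32, e3 q17 L98 q8, e3 q18 L233 q35, e3 q19 L244 q38, e3 q20 L254 q39, e3 q21 L116 q9, e3 q22 L121 q10, e3 q23 L294 q43, e3 q24 L308 q45, e3 q25 L319 q48, e3 q26 L140 q12, e3 q27 L150 q13, e3 q28 L435 q53, e3 q29 L447 q55, e3 q30 L457 q58, e3 q31 L209 q15, e3 q32 L214 q16, e3 q33 L485 q62, e3 q34 L483 q61, e3 q35 L234 q18, e3 q36 L515 q67, e3 q37 L525 q68, e3 q38 L245 q19, e3 q39 L255 q20, e3 q40 L274 q40, e3 q41 L545 q71, e3 q42 L570 q74, e3 q43 L295 q23, e3 q44 L609 q78, e3 q45 L309 q24, e3 q46 L637 q82, e3 q47 L648 q83, e3 q48 L320 q25, e3 q49 L625 q80, e3 q50 L360 q50, e3 q51 L839 q91, e3 q52 L857 q94, e3 q53 L436 q28, e3 q54 L892 q98, e3 q55 L448 q29, e3 q56 L912 q101, e3 q57 L922 q102, e3 q58 L458 q30, e3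 q59 L69818 q86, e3 q60 L475 q60, e3 q61 L484 q34, e3 q62 L486 q33, e3 q63 L953 q108, trivial⟩ (by decide +kernel)

theorem ce_f_1 : ∀ r, r < 64 → sm gf (Qf (64 + r)) = Qf (tab Gen.f (64 + r)) :=
  edges_tab (sm gf) Qf (tab Gen.f) 64 [(64, 109), (65, 115), (66, 69), (67, 36), (68, 37), (69, 66), (70, 120), (71, 41), (72, 124), (73, 126), (74, 42), (75, 130), (76, 128), (77, 134), (78, 44), (79, 81), (80, 49), (81, 79), (82, 46), (83, 47), (84, 142), (85, 139), (86, 59), (87, 138), (88, 147), (89, 89), (90, 152), (91, 51), (92, 157), (93, 159), (94, 52), (95, 162), (96, 144), (97, 166), (98, 54), (99, 100), (100, 99), (101, 56), (102, 57), (103, 172), (104, 146), (105, 145), (106, 143), (107, 107), (108, 63), (109, 64), (110, 114), (111, 174), (112, 182), (113, 176), (114, 110), (115, 65), (116, 116), (117, 117), (118, 188), (119, 190), (120, 70), (121, 194), (122, 192), (123, 196), (124, 72), (125, 201), (126, 73), (127, 129)]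
    ⟨e3 q64 L961 q109, e3 q65 L991 q115, e3 q66 L536 q69, e3 q67 L516 q36, e3 q68 L526 q37, e3 q69 L537 q66, e3 q70 L1032 q120, e3 q71 L546 q41, e3 q72 L1064 q124, e3 q73 L1074 q126, e3 q74 L571 q42, e3 q75 L1104 q130, e3 q76 L1091 q128, e3 q77 L1142 q134, e3 q78 L610 q44, e3 q79 L630 q81, e3 q80 L624 q49, e3 q81 L631 q79, e3 q82 L638 q46, e3 q83 L649 q47, e3 q84 L1209 q142, e3 q85 L45619 q139, e3 q86 L69819 q59, e3 q87 L1171 q138, e3 q88 L1268 q147, e3 q89 L688 q89, e3 q90 L1651 q152, e3 q91 L840 q51, e3 q92 L1680 q157, e3 q93 L1688 q159, e3 q94 L858 q52, e3 q95 L1712 q162, e3 q96 L69003 q144, e3 q97 L1790 q166, e3 q98 L893 q54, e3 q99 L910 q100, e3 q100 L911 q99, e3 q101 L913 q56, e3 q102 L923 q57, e3 q103 L1873 q172, e3 q104 L69692 q146, e3 q105 L69864 q145, e3 q106 L69831 q143, e3 q107 L945 q107, e3 q108 L952 q63, e3 q109 L960 q64, e3 q110 L990 q114, e3 q111 L1922 q174, e3 q112 L1969 q182, e3 q113 L1936 q176, e3 q114 L989 q110, e3 q115 L992 q65, e3 q116 L1005 q116,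 e3 q117 L1011 q117, e3 q118 L2010 q188, e3 q119 L2022 q190, e3 q120 L1033 q70, e3 q121 L2062 q194, e3 q122 L2045 q192, e3 q123 L2108 q196, e3 q124 L1065 q72, e3 q125 L2135 q201, e3 q126 L1075 q73, e3 q127 L1096 q129, trivial⟩ (by decide +kernel)

theorem ce_f_2 : ∀ r, r < 64 → sm gf (Qf (128 + r)) = Qf (tab Gen.f (128 + r)) :=
  edges_tab (sm gf) Qf (tab Gen.f) 128 [(128, 76), (129, 127), (130, 75), (131, 204), (132, 205), (133, 211), (134, 77), (135, 140), (136, 212), (137, 213), (138, 87), (139, 85), (140, 135), (141, 141), (142, 84), (143, 106), (144, 96), (145, 105), (146, 104), (147, 88), (148, 148), (149, 229), (150, 233), (151, 235), (152, 90), (153, 238), (154, 223), (155, 242), (156, 245), (157, 92), (158, 250), (159, 93), (160, 161), (161, 160), (162, 95), (163, 207), (164, 224), (165, 221), (166, 97), (167, 170), (168, 257), (169, 217), (170, 167), (171, 171), (172, 103), (173, 262), (174, 111), (175, 267), (176, 113), (177, 179), (178, 273), (179, 177),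 (180, 279), (181, 282), (182, 112), (183, 285), (184, 287), (185, 185), (186, 186), (187, 291), (188, 118), (189, 296), (190, 119), (191, 193)]
    ⟨e3 q128 L1090 q76, e3 q129 L1097 q127, e3 q130 L1105 q75, e3 q131 L2155 q204, e3 q132 L2161 q205, e3 q133 L2216 q211, e3 q134 L1143 q77, e3 q135 L71097 q140, e3 q136 L2300 q212, e3 q137 L48585 q213, e3 q138 L1170 q87, e3 q139 L45618 q85, e3 q140 L71098 q135, e3 q141 L46644 q141, e3 q142 L1210 q84, e3 q143 L69832 q106, e3 q144 L69004 q96, e3 q145 L69863 q105, e3 q146 L69693 q104, e3 q147 L1269 q88, e3 q148 L1342 q148, e3 q149 L10083 q229, e3 q150 L3258 q233, e3 q151 L3270 q235, e3 q152 L1652 q90, e3 q153 L3304 q238, e3 q154 L69711 q223, e3 q155 L3370 q242, e3 q156 L3376 q245, e3 q157 L1681 q92, e3 q158 L3398 q250, e3 q159 L1689 q93, e3 q160 L1710 q161, e3 q161 L1711 q160, e3 q162 L1713 q95, e3 q163 L68941 q207, e3 q164 L68999 q224, e3 q165 L69804 q221, e3 q166 L1791 q97, e3 q167 L44549 q170, e3 q168 L3581 q257, e3 q169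 L70307 q217, e3 q170 L44550 q167, e3 q171 L1838 q171, e3 q172 L1874 q103, e3 q173 L67853 q262, e3 q174 L1921 q111, e3 q175 L3797 q267, e3 q176 L1935 q113, e3 q177 L1962 q179, e3 q178 L3823 q273, e3 q179 L1961 q177, e3 q180 L3851 q279, e3 q181 L3863 q282, e3 q182 L1970 q112, e3 q183 L3875 q285, e3 q184 L3883 q287, e3 q185 L1980 q185, e3 q186 L1988 q186, e3 q187 L3901 q291, e3 q188 L2011 q118, e3 q189 L3937 q296, e3 q190 L2023 q119, e3 q191 L2052 q193, trivial⟩ (by decide +kernel)

theorem ce_f_3 : ∀ r, r < 64 → sm gf (Qf (192 + r)) = Qf (tab Gen.f (192 + r)) :=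
  edges_tab (sm gf) Qf (tab Gen.f) 192 [(192, 122), (193, 191), (194, 121), (195, 299), (196, 123), (197, 199), (198, 303), (199, 197), (200, 311), (201, 125), (202, 297), (203, 298), (204, 131), (205, 132), (206, 206), (207, 163), (208, 326), (209, 318), (210, 330), (211, 133), (212, 136), (213, 137), (214, 332), (215, 226), (216, 337), (217, 169), (218, 218), (219, 219), (220, 228), (221, 165), (222, 225), (223, 154), (224, 164), (225, 222), (226, 215), (227, 345), (228, 220), (229, 149), (230, 230), (231, 349), (232, 352), (233, 150), (234, 357), (235, 151), (236, 237), (237, 236), (238, 153), (239, 321), (240, 363), (241, 366), (242, 155), (243, 371), (244, 373), (245, 156), (246, 248), (247, 368), (248, 246), (249, 376), (250, 158), (251, 358), (252, 338), (253, 253), (254, 385), (255, 323)]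
    ⟨e3 q192 L2044 q122, e3 q193 L2053 q191, e3 q194 L2063 q121, e3 q195 L3970 q299, e3 q196 L2109 q123, e3 q197 L2130 q199, e3 q198 L4101 q303, e3 q199 L2131 q197, e3 q200 L4123 q311, e3 q201 L2136 q125, e3 q202 L3956 q297, e3 q203 L71125 q298, e3 q204 L2154 q131, e3 q205 L2160 q132, e3 q206 L71075 q206, e3 q207 L68942 q163, e3 q208 L4257 q326, e3 q209 L4166 q318, e3 q210 L4273 q330, e3 q211 L2217 q133, e3 q212 L2299 q136, e3 q213 L48586 q137, e3 q214 L4433 q332, e3 q215 L70780 q226, e3 q216 L4483 q337, e3 q217 L70306 q169, e3 q218 L69318 q218, e3 q219 L71038 q219, e3 q220 L71050 q228, e3 q221 L69803 q165, e3 q222 L2650 q225, e3 q223 L69712 q154, e3 q224 L68998 q164, e3 q225 L2649 q222, e3 q226 L70779 q215, e3 q227 L10088 q345, e3 q228 L71049 q220, e3 q229 L10084 q149, e3 q230 L10080 q230, e3 q231 L6471 q349, e3 q232 L6487 q352, e3 q233 L3259 q150, e3 q234 L6531 q357, e3 q235 L3271 q151, e3 q236 L3302 q237, e3 q237 L3303 q236, e3 q238 L3305 q153, e3 q239 L68972 q321,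 e3 q240 L6718 q363, e3 q241 L6730 q366, e3 q242 L3371 q155, e3 q243 L6750 q371, e3 q244 L6758 q373, e3 q245 L3377 q156, e3 q246 L3394 q248, e3 q247 L6741 q368, e3 q248 L3395 q246, e3 q249 L6769 q376, e3 q250 L3399 q158, e3 q251 L6550 q358, e3 q252 L46770 q338, e3 q253 L3445 q253, e3 q254 L6893 q385, e3 q255 L69010 q323, trivial⟩ (by decide +kernel)

theorem ce_f_4 : ∀ r, r < 64 → sm gf (Qf (256 + r)) = Qf (tab Gen.f (256 + r)) :=
  edges_tab (sm gf) Qf (tab Gen.f) 256 [(256, 301), (257, 168), (258, 258), (259, 259), (260, 261), (261, 260), (262, 173), (263, 263), (264, 393), (265, 397), (266, 400), (267, 175), (268, 404), (269, 406), (270, 410), (271, 414), (272, 417), (273, 178), (274, 420), (275, 422), (276, 427), (277, 430), (278, 433), (279, 180), (280, 438), (281, 440), (282, 181), (283, 284), (284, 283), (285, 183), (286, 448), (287, 184), (288, 451), (289, 289), (290, 290), (291, 187), (292, 294), (293, 454), (294, 292), (295, 462), (296, 189), (297, 202), (298,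 203), (299, 195), (300, 300), (301, 256), (302, 472), (303, 198), (304, 479), (305, 474), (306, 475), (307, 486), (308, 489), (309, 493), (310, 494), (311, 200), (312, 495), (313, 464), (314, 331), (315, 505), (316, 466), (317, 510), (318, 209), (319, 319)]
    ⟨e3 q256 L71576 q301, e3 q257 L3580 q168, e3 q258 L3639 q258, e3 q259 L3643 q259, e3 q260 L55809 q261, e3 q261 L55808 q260, e3 q262 L67852 q173, e3 q263 L49401 q263, e3 q264 L7549 q393, e3 q265 L7569 q397, e3 q266 L7587 q400, e3 q267 L3798 q175, e3 q268 L7611 q404, e3 q269 L7623 q406, e3 q270 L7649 q410, e3 q271 L7665 q414, e3 q272 L7681 q417, e3 q273 L3824 q178, e3 q274 L7699 q420, e3 q275 L7711 q422, e3 q276 L7737 q427, e3 q277 L7751 q430, e3 q278 L7765 q433, e3 q279 L3852 q180, e3 q280 L7787 q438, e3 q281 L7801 q440, e3 q282 L3864 q181, e3 q283 L3873 q284, e3 q284 L3874 q283, e3 q285 L3876 q183, e3 q286 L7826 q448, e3 q287 L3884 q184, e3 q288 L7838 q451, e3 q289 L3890 q289, e3 q290 L3897 q290, e3 q291 L3902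 q187, e3 q292 L3931 q294, e3 q293 L7859 q454, e3 q294 L3932 q292, e3 q295 L7892 q462, e3 q296 L3938 q189, e3 q297 L3955 q202, e3 q298 L71126 q203, e3 q299 L3969 q195, e3 q300 L43270 q300, e3 q301 L71577 q256, e3 q302 L8068 q472, e3 q303 L4100 q198, e3 q304 L8209 q479, e3 q305 L8187 q474, e3 q306 L8192 q475, e3 q307 L8237 q486, e3 q308 L8249 q489, e3 q309 L8263 q493, e3 q310 L8267 q494, e3 q311 L4124 q200, e3 q312 L8278 q495, e3 q313 L7907 q464, e3 q314 L70786 q331, e3 q315 L8320 q505, e3 q316 L61341 q466, e3 q317 L8396 q510, e3 q318 L4165 q209, e3 q319 L67268 q319, trivial⟩ (by decide +kernel)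

theorem ce_f_5 : ∀ r, r < 64 → sm gf (Qf (320 + r)) = Qf (tab Gen.f (320 + r)) :=
  edges_tab (sm gf) Qf (tab Gen.f) 320 [(320, 347), (321, 239), (322, 519), (323, 255), (324, 524), (325, 527), (326, 208), (327, 531), (328, 533), (329, 537), (330, 210), (331, 314), (332, 214), (333, 336), (334, 540), (335, 343), (336, 333), (337, 216), (338, 252), (339, 339), (340, 545), (341, 342), (342, 341), (343, 335), (344, 549), (345, 227), (346, 346), (347, 320), (348, 553), (349, 231), (350, 355), (351, 557), (352, 232), (353, 562), (354, 559), (355, 350), (356, 556), (357, 234), (358, 251), (359, 359), (360, 569), (361, 573), (362, 576), (363, 240), (364, 581), (365, 583), (366, 241), (367, 369), (368, 247), (369, 367), (370, 593), (371, 243), (372, 597), (373, 244), (374, 602), (375, 599), (376, 249), (377, 587), (378, 588), (379, 605), (380, 606), (381, 567), (382, 506), (383, 390)]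
    ⟨e3 q320 L71064 q347, e3 q321 L68971 q239, e3 q322 L8560 q519, e3 q323 L69011 q255, e3 q324 L8606 q524, e3 q325 L8618 q527, e3 q326 L4258 q208, e3 q327 L8634 q531, e3 q328 L8642 q533, e3 q329 L8652 q537, e3 q330 L4274 q210, e3 q331 L70787 q314, e3 q332 L4432 q214, e3 q333 L4482 q336, e3 q334 L8955 q540, e3 q335 L70667 q343, e3 q336 L4481 q333, e3 q337 L4484 q216, e3 q338 L46769 q252, e3 q339 L67281 q339, e3 q340 L9462 q545, e3 q341 L4907 q342, e3 q342 L4906 q341, e3 q343 L70666 q335, e3 q344 L50925 q549, e3 q345 L10087 q227, e3 q346 L10090 q346, e3 q347 L71065 q320, e3 q348 L13054 q553, e3 q349 L6472 q231, e3 q350 L53433 q355, e3 q351 L13100 q557, e3 q352 L6488 q232, e3 q353 L13130 q562, e3 q354 L13117 q559, e3 q355 L53432 q350, e3 q356 L53598 q556, e3 q357 L6532 q234, e3 q358 L6549 q251, e3 q359 L6594 q359, e3 q360 L13287 q569, e3 q361 L13459 q573, e3 q362 L13469 q576, e3 q363 L6719 q240, e3 q364 L13491 q581, e3 q365 L13505 q583, e3 q366 L6731 q241, e3 q367 L6744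 q369, e3 q368 L6740 q247, e3 q369 L6745 q367, e3 q370 L13537 q593, e3 q371 L6751 q243, e3 q372 L13550 q597, e3 q373 L6759 q244, e3 q374 L13578 q602, e3 q375 L13561 q599, e3 q376 L6768 q249, e3 q377 L13520 q587, e3 q378 L13524 q588, e3 q379 L13599 q605, e3 q380 L13603 q606, e3 q381 L13183 q567, e3 q382 L69289 q506, e3 q383 L70647 q390, trivial⟩ (by decide +kernel)

theorem ce_f_6 : ∀ r, r < 64 → sm gf (Qf (384 + r)) = Qf (tab Gen.f (384 + r)) :=
  edges_tab (sm gf) Qf (tab Gen.f) 384 [(384, 615), (385, 254), (386, 619), (387, 621), (388, 623), (389, 544), (390, 383), (391, 626), (392, 627), (393, 264), (394, 517), (395, 632), (396, 634), (397, 265), (398, 522), (399, 640), (400, 266), (401, 402), (402, 401), (403, 647), (404, 268), (405, 651), (406, 269), (407, 654), (408, 658), (409, 659), (410, 270), (411, 534), (412, 656), (413, 668), (414, 271), (415, 671), (416, 673), (417, 272), (418, 419), (419, 418), (420, 274), (421, 681), (422, 275), (423, 684), (424, 686),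 (425, 690), (426, 693), (427, 276), (428, 697), (429, 699), (430, 277), (431, 704), (432, 705), (433, 278), (434, 436), (435, 701), (436, 434), (437, 712), (438, 280), (439, 715), (440, 281), (441, 450), (442, 717), (443, 722), (444, 724), (445, 678), (446, 728), (447, 490)]
    ⟨e3 q384 L13808 q615, e3 q385 L6894 q254, e3 q386 L13829 q619, e3 q387 L13838 q621, e3 q388 L13848 q623, e3 q389 L19005 q544, e3 q390 L70648 q383, e3 q391 L14926 q626, e3 q392 L14940 q627, e3 q393 L7550 q264, e3 q394 L53063 q517, e3 q395 L14976 q632, e3 q396 L14994 q634, e3 q397 L7570 q265, e3 q398 L71878 q522, e3 q399 L15054 q640, e3 q400 L7588 q266, e3 q401 L7603 q402, e3 q402 L7604 q401, e3 q403 L15096 q647, e3 q404 L7612 q268, e3 q405 L15117 q651, e3 q406 L7624 q269, e3 q407 L15135 q654, e3 q408 L15161 q658, e3 q409 L15167 q659, e3 q410 L7650 q270, e3 q411 L71967 q534, e3 q412 L51853 q656, e3 q413 L15229 q668, e3 q414 L7666 q271, e3 q415 L15259 q671, e3 q416 L15275 q673, e3 q417 L7682 q272,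 e3 q418 L7697 q419, e3 q419 L7698 q418, e3 q420 L7700 q274, e3 q421 L15323 q681, e3 q422 L7712 q275, e3 q423 L15345 q684, e3 q424 L15361 q686, e3 q425 L15377 q690, e3 q426 L15389 q693, e3 q427 L7738 q276, e3 q428 L15417 q697, e3 q429 L15433 q699, e3 q430 L7752 q277, e3 q431 L15469 q704, e3 q432 L15479 q705, e3 q433 L7766 q278, e3 q434 L7783 q436, e3 q435 L15454 q701, e3 q436 L7784 q434, e3 q437 L15499 q712, e3 q438 L7788 q280, e3 q439 L15517 q715, e3 q440 L7802 q281, e3 q441 L7836 q450, e3 q442 L15540 q717, e3 q443 L15551 q722, e3 q444 L15557 q724, e3 q445 L15310 q678, e3 q446 L15577 q728, e3 q447 L52793 q490, trivial⟩ (by decide +kernel)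

theorem ce_f_7 : ∀ r, r < 64 → sm gf (Qf (448 + r)) = Qf (tab Gen.f (448 + r)) :=
  edges_tab (sm gf) Qf (tab Gen.f) 448 [(448, 286), (449, 732), (450, 441), (451, 288), (452, 737), (453, 736), (454, 293), (455, 746), (456, 741), (457, 742), (458, 753), (459, 756), (460, 692), (461, 759), (462, 295), (463, 760), (464, 313), (465, 504), (466, 316), (467, 771), (468, 468), (469, 775), (470, 778), (471, 780), (472, 302), (473, 655), (474, 305), (475, 306), (476, 484), (477, 790), (478, 496), (479, 304), (480, 783), (481, 797), (482, 785), (483, 801), (484, 476), (485, 805), (486, 307), (487, 810), (488, 811), (489, 308), (490, 447), (491, 817), (492, 820), (493, 309), (494, 310), (495, 312), (496, 478), (497, 823), (498, 824), (499, 508), (500, 765), (501, 835), (502, 539), (503, 840), (504, 465), (505, 315), (506, 382), (507, 844), (508, 499), (509, 848), (510, 317), (511, 828)]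
    ⟨e3 q448 L7827 q286, e3 q449 L15612 q732, e3 q450 L7837 q441, e3 q451 L7839 q288, e3 q452 L15630 q737, e3 q453 L41507 q736, e3 q454 L7858 q293, e3 q455 L15698 q746, e3 q456 L15665 q741, e3 q457 L15673 q742, e3 q458 L15736 q753, e3 q459 L15754 q756, e3 q460 L52806 q692, e3 q461 L15778 q759, e3 q462 L7893 q295, e3 q463 L15793 q760, e3 q464 L7906 q313, e3 q465 L8319 q504, e3 q466 L61342 q316, e3 q467 L15894 q771, e3 q468 L71071 q468, e3 q469 L16076 q775, e3 q470 L16110 q778, e3 q471 L16128 q780, e3 q472 L8069 q302, e3 q473 L71685 q655, e3 q474 L8186 q305, e3 q475 L8191 q306, e3 q476 L8231 q484, e3 q477 L16398 q790, e3 q478 L8284 q496, e3 q479 L8210 q304, e3 q480 L16371 q783, e3 q481 L16433 q797, e3 q482 L16380 q785, e3 q483 L72075 q801, e3 q484 L8230 q476, e3 q485 L16469 q805, e3 q486 L8238 q307, e3 q487 L16490 q810, e3 q488 L16498 q811, e3 q489 L8250 q308, e3 q490 L52794 q447, e3 q491 L16545 q817, e3 q492 L16551 q820, e3 q493 L8264 q309, e3 q494 L8268 q310, e3 q495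 L8277 q312, e3 q496 L8285 q478, e3 q497 L16575 q823, e3 q498 L16588 q824, e3 q499 L65945 q508, e3 q500 L15827 q765, e3 q501 L16652 q835, e3 q502 L70773 q539, e3 q503 L16668 q840, e3 q504 L8318 q465, e3 q505 L8321 q315, e3 q506 L69290 q382, e3 q507 L16710 q844, e3 q508 L65946 q499, e3 q509 L16792 q848, e3 q510 L8397 q317, e3 q511 L66015 q828, trivial⟩ (by decide +kernel)

theorem ce_f_8 : ∀ r, r < 64 → sm gf (Qf (512 + r)) = Qf (tab Gen.f (512 + r)) :=
  edges_tab (sm gf) Qf (tab Gen.f) 512 [(512, 850), (513, 513), (514, 855), (515, 548), (516, 682), (517, 394), (518, 859), (519, 322), (520, 625), (521, 669), (522, 398), (523, 861), (524, 324), (525, 631), (526, 664), (527, 325), (528, 529), (529, 528), (530, 661), (531, 327), (532, 694), (533, 328), (534, 411), (535, 729), (536, 873), (537, 329), (538, 874), (539, 502), (540, 334), (541, 542), (542, 541), (543, 877), (544, 389), (545, 340), (546, 547), (547, 546), (548, 515), (549, 344), (550, 550), (551, 881), (552,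 883), (553, 348), (554, 888), (555, 885), (556, 356), (557, 351), (558, 560), (559, 354), (560, 558), (561, 901), (562, 353), (563, 895), (564, 896), (565, 891), (566, 892), (567, 381), (568, 909), (569, 360), (570, 807), (571, 912), (572, 915), (573, 361), (574, 918), (575, 919)]
    ⟨e3 q512 L16816 q850, e3 q513 L50049 q513, e3 q514 L17054 q855, e3 q515 L71047 q548, e3 q516 L42350 q682, e3 q517 L53064 q394, e3 q518 L17156 q859, e3 q519 L8561 q322, e3 q520 L71731 q625, e3 q521 L71959 q669, e3 q522 L71877 q398, e3 q523 L17240 q861, e3 q524 L8607 q324, e3 q525 L41772 q631, e3 q526 L71938 q664, e3 q527 L8619 q325, e3 q528 L8628 q529, e3 q529 L8629 q528, e3 q530 L71989 q661, e3 q531 L8635 q327, e3 q532 L71947 q694, e3 q533 L8643 q328, e3 q534 L71968 q411, e3 q535 L52861 q729, e3 q536 L17355 q873, e3 q537 L8653 q329, e3 q538 L17364 q874, e3 q539 L70772 q502, e3 q540 L8954 q334, e3 q541 L9004 q542, e3 q542 L9003 q541, e3 q543 L18905 q877, e3 q544 L19004 q389, e3 q545 L9463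 q340, e3 q546 L10011 q547, e3 q547 L10010 q546, e3 q548 L71046 q515, e3 q549 L50926 q344, e3 q550 L10746 q550, e3 q551 L24796 q881, e3 q552 L24804 q883, e3 q553 L13055 q348, e3 q554 L24834 q888, e3 q555 L24821 q885, e3 q556 L53599 q356, e3 q557 L13101 q351, e3 q558 L13122 q560, e3 q559 L13116 q354, e3 q560 L13123 q558, e3 q561 L24906 q901, e3 q562 L13131 q353, e3 q563 L24879 q895, e3 q564 L24885 q896, e3 q565 L53596 q891, e3 q566 L53517 q892, e3 q567 L13182 q381, e3 q568 L25192 q909, e3 q569 L13288 q360, e3 q570 L16483 q807, e3 q571 L25623 q912, e3 q572 L25635 q915, e3 q573 L13460 q361, e3 q574 L25661 q918, e3 q575 L25669 q919, trivial⟩ (by decide +kernel)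

theorem ce_f_9 : ∀ r, r < 64 → sm gf (Qf (576 + r)) = Qf (tab Gen.f (576 + r)) :=
  edges_tab (sm gf) Qf (tab Gen.f) 576 [(576, 362), (577, 579), (578, 636), (579, 577), (580, 719), (581, 364), (582, 924), (583, 365), (584, 600), (585, 926), (586, 933), (587, 377), (588, 378), (589, 604), (590, 930), (591, 944), (592, 601), (593, 370), (594, 945), (595, 948), (596, 787), (597, 372), (598, 878), (599, 375), (600, 584), (601, 592), (602, 374), (603, 952), (604, 589), (605, 379), (606, 380), (607, 934), (608, 967), (609, 936), (610, 959), (611, 973), (612, 961), (613, 977), (614, 979), (615, 384), (616, 617), (617, 616), (618, 985), (619, 386), (620, 987), (621, 387), (622, 989), (623, 388), (624, 993), (625, 520), (626, 391), (627, 392), (628, 629), (629, 628), (630, 999), (631, 525), (632, 395), (633, 1002), (634, 396), (635, 637), (636, 578), (637, 635), (638, 1007), (639, 1008)]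
    ⟨e3 q576 L13470 q362, e3 q577 L13487 q579, e3 q578 L15015 q636, e3 q579 L13488 q577, e3 q580 L72482 q719, e3 q581 L13492 q364, e3 q582 L25697 q924, e3 q583 L13506 q365, e3 q584 L13568 q600, e3 q585 L25716 q926, e3 q586 L25735 q933, e3 q587 L13519 q377, e3 q588 L13523 q378, e3 q589 L13591 q604, e3 q590 L25762 q930, e3 q591 L25785 q944, e3 q592 L13575 q601, e3 q593 L13538 q370, e3 q594 L25794 q945, e3 q595 L25811 q948, e3 q596 L52702 q787, e3 q597 L13551 q372, e3 q598 L72629 q878, e3 q599 L13560 q375, e3 q600 L13569 q584, e3 q601 L13574 q592, e3 q602 L13579 q374, e3 q603 L25856 q952, e3 q604 L13590 q589, e3 q605 L13598 q379, e3 q606 L13602 q380, e3 q607 L25740 q934, e3 q608 L25937 q967, e3 q609 L25748 q936, e3 q610 L25902 q959, e3 q611 L25965 q973, e3 q612 L25910 q961, e3 q613 L26045 q977, e3 q614 L26378 q979, e3 q615 L13809 q384, e3 q616 L13823 q617, e3 q617 L13824 q616, e3 q618 L26406 q985, e3 q619 L13830 q386, e3 q620 L26410 q987, e3 q621 L13839 q387, e3 q622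 L26434 q989, e3 q623 L13849 q388, e3 q624 L27899 q993, e3 q625 L71732 q520, e3 q626 L14927 q391, e3 q627 L14941 q392, e3 q628 L14956 q629, e3 q629 L14957 q628, e3 q630 L27945 q999, e3 q631 L41773 q525, e3 q632 L14977 q395, e3 q633 L27983 q1002, e3 q634 L14995 q396, e3 q635 L15022 q637, e3 q636 L15014 q578, e3 q637 L15023 q635, e3 q638 L28035 q1007, e3 q639 L28039 q1008, trivial⟩ (by decide +kernel)

theorem ce_f_10 : ∀ r, r < 64 → sm gf (Qf (640 + r)) = Qf (tab Gen.f (640 + r)) :=
  edges_tab (sm gf) Qf (tab Gen.f) 640 [(640, 399), (641, 653), (642, 1010), (643, 1015), (644, 1017), (645, 774), (646, 660), (647, 403), (648, 1019), (649, 779), (650, 813), (651, 405), (652, 1025), (653, 641), (654, 407), (655, 473), (656, 412), (657, 1031), (658, 408), (659, 409), (660, 646), (661, 530), (662, 1028), (663, 864), (664, 526), (665, 1029), (666, 907), (667, 1043), (668, 413), (669, 521), (670, 1048), (671, 415), (672, 857), (673, 416), (674, 683), (675, 1051), (676, 1056),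 (677, 1058), (678, 445), (679, 868), (680, 1064), (681, 421), (682, 516), (683, 674), (684, 423), (685, 1067), (686, 424), (687, 872), (688, 1071), (689, 1074), (690, 425), (691, 1079), (692, 460), (693, 426), (694, 532), (695, 1076), (696, 1070), (697, 428), (698, 1085), (699, 429), (700, 702), (701, 435), (702, 700), (703, 1012)]
    ⟨e3 q640 L15055 q399, e3 q641 L15133 q653, e3 q642 L28070 q1010, e3 q643 L28105 q1015, e3 q644 L28121 q1017, e3 q645 L71667 q774, e3 q646 L15185 q660, e3 q647 L15097 q403, e3 q648 L28136 q1019, e3 q649 L71808 q779, e3 q650 L52833 q813, e3 q651 L15118 q405, e3 q652 L28197 q1025, e3 q653 L15134 q641, e3 q654 L15136 q407, e3 q655 L71686 q473, e3 q656 L51854 q412, e3 q657 L28249 q1031, e3 q658 L15162 q408, e3 q659 L15168 q409, e3 q660 L15186 q646, e3 q661 L71990 q530, e3 q662 L51852 q1028, e3 q663 L71974 q864, e3 q664 L71939 q526, e3 q665 L51848 q1029, e3 q666 L73205 q907, e3 q667 L28361 q1043, e3 q668 L15230 q413, e3 q669 L71960 q521, e3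 q670 L28377 q1048, e3 q671 L15260 q415, e3 q672 L71689 q857, e3 q673 L15276 q416, e3 q674 L15343 q683, e3 q675 L28408 q1051, e3 q676 L28429 q1056, e3 q677 L28441 q1058, e3 q678 L15309 q445, e3 q679 L52122 q868, e3 q680 L28493 q1064, e3 q681 L15324 q421, e3 q682 L42351 q516, e3 q683 L15344 q674, e3 q684 L15346 q423, e3 q685 L28529 q1067, e3 q686 L15362 q424, e3 q687 L52159 q872, e3 q688 L28575 q1071, e3 q689 L28593 q1074, e3 q690 L15378 q425, e3 q691 L28623 q1079, e3 q692 L52805 q460, e3 q693 L15390 q426, e3 q694 L71948 q532, e3 q695 L28610 q1076, e3 q696 L28547 q1070, e3 q697 L15418 q428, e3 q698 L28670 q1085, e3 q699 L15434 q429, e3 q700 L15461 q702, e3 q701 L15453 q435, e3 q702 L15462 q700, e3 q703 L72489 q1012, trivial⟩ (by decide +kernel)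

theorem ce_f_11 : ∀ r, r < 64 → sm gf (Qf (704 + r)) = Qf (tab Gen.f (704 + r)) :=
  edges_tab (sm gf) Qf (tab Gen.f) 704 [(704, 431), (705, 432), (706, 1090), (707, 1087), (708, 1088), (709, 1096), (710, 1005), (711, 720), (712, 437), (713, 716), (714, 1100), (715, 439), (716, 713), (717, 442), (718, 1104), (719, 580), (720, 711), (721, 1024), (722, 443), (723, 1108), (724, 444), (725, 1059), (726, 1060), (727, 1115), (728, 446), (729, 535), (730, 815), (731, 814), (732, 449), (733, 1119), (734, 965), (735, 1124), (736, 453), (737, 452), (738, 740), (739, 1123), (740, 738), (741, 456), (742, 457), (743, 751), (744, 914), (745, 761), (746, 455), (747, 1128), (748, 1139), (749, 1130), (750, 1143), (751, 743), (752, 1147), (753, 458), (754, 851), (755, 1151), (756, 459), (757, 1080), (758, 1073), (759, 461), (760, 463), (761, 745), (762, 1154), (763, 1155), (764, 769), (765, 500), (766, 1164), (767, 838)]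
    ⟨e3 q704 L15470 q431, e3 q705 L15480 q432, e3 q706 L28737 q1090, e3 q707 L28699 q1087, e3 q708 L28705 q1088, e3 q709 L28789 q1096, e3 q710 L41526 q1005, e3 q711 L72458 q720, e3 q712 L15500 q437, e3 q713 L15534 q716, e3 q714 L28836 q1100, e3 q715 L15518 q439, e3 q716 L15533 q713, e3 q717 L15539 q442, e3 q718 L28874 q1104, e3 q719 L72483 q580, e3 q720 L72459 q711, e3 q721 L72705 q1024, e3 q722 L15552 q443, e3 q723 L28922 q1108, e3 q724 L15558 q444, e3 q725 L28450 q1059, e3 q726 L28456 q1060, e3 q727 L28954 q1115, e3 q728 L15578 q446, e3 q729 L52862 q535, e3 q730 L52713 q815, e3 q731 L52720 q814, e3 q732 L15613 q449, e3 q733 L29055 q1119, e3 q734 L52542 q965, e3 q735 L29078 q1124, e3 q736 L41508 q453, e3 q737 L15631 q452, e3 q738 L41516 q740, e3 q739 L41427 q1123, e3 q740 L41515 q738, e3 q741 L15664 q456, e3 q742 L15672 q457, e3 q743 L15729 q751, e3 q744 L52827 q914, e3 q745 L15802 q761, e3 q746 L15699 q455, e3 q747 L29167 q1128, e3 q748 L29240 q1139, e3 q749 L29181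 q1130, e3 q750 L64178 q1143, e3 q751 L15728 q743, e3 q752 L29302 q1147, e3 q753 L15737 q458, e3 q754 L51910 q851, e3 q755 L29334 q1151, e3 q756 L15755 q459, e3 q757 L52904 q1080, e3 q758 L52777 q1073, e3 q759 L15779 q461, e3 q760 L15792 q463, e3 q761 L15803 q745, e3 q762 L29415 q1154, e3 q763 L29431 q1155, e3 q764 L64477 q769, e3 q765 L15826 q500, e3 q766 L29502 q1164, e3 q767 L16665 q838, trivial⟩ (by decide +kernel)

theorem ce_f_12 : ∀ r, r < 64 → sm gf (Qf (768 + r)) = Qf (tab Gen.f (768 + r)) :=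
  edges_tab (sm gf) Qf (tab Gen.f) 768 [(768, 1169), (769, 764), (770, 1171), (771, 467), (772, 1159), (773, 1174), (774, 645), (775, 469), (776, 1009), (777, 1023), (778, 470), (779, 649), (780, 471), (781, 782), (782, 781), (783, 480), (784, 1185), (785, 482), (786, 800), (787, 596), (788, 1191), (789, 821), (790, 477), (791, 793), (792, 1197), (793, 791), (794, 1194), (795, 1144), (796, 1204), (797, 481), (798, 1207), (799, 1209), (800, 786), (801, 483), (802, 846), (803, 875), (804, 812), (805, 485), (806, 1214), (807, 570), (808, 1149), (809, 1218), (810, 487), (811, 488), (812, 804), (813, 650), (814, 731), (815, 730), (816, 1225), (817, 491), (818, 1226), (819, 1228), (820, 492), (821, 789), (822, 826), (823, 497), (824, 498), (825, 829), (826, 822), (827, 1237), (828, 511), (829, 825), (830, 832), (831, 1241)]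
    ⟨e3 q768 L29538 q1169, e3 q769 L64478 q764, e3 q770 L29604 q1171, e3 q771 L15895 q467, e3 q772 L71463 q1159, e3 q773 L29898 q1174, e3 q774 L71668 q645, e3 q775 L16077 q469, e3 q776 L42066 q1009, e3 q777 L71818 q1023, e3 q778 L16111 q470, e3 q779 L71809 q649, e3 q780 L16129 q471, e3 q781 L16144 q782, e3 q782 L16145 q781, e3 q783 L16370 q480, e3 q784 L30653 q1185, e3 q785 L16379 q482, e3 q786 L16446 q800, e3 q787 L52703 q596, e3 q788 L30678 q1191, e3 q789 L16567 q821, e3 q790 L16399 q477, e3 q791 L16421 q793, e3 q792 L30711 q1197, e3 q793 L16420 q791, e3 q794 L30704 q1194, e3 q795 L64525 q1144, e3 q796 L30760 q1204, e3 q797 L16434 q481, e3 q798 L30782 q1207, e3 q799 L30790 q1209, e3 q800 L16445 q786, e3 q801 L72076 q483, e3 q802 L64516 q846, e3 q803 L72071 q875, e3 q804 L16512 q812, e3 q805 L16470 q485, e3 q806 L30817 q1214, e3 q807 L16482 q570, e3 q808 L72690 q1149, e3 q809 L30847 q1218, e3 q810 L16491 q487, e3 q811 L16499 q488, e3 q812 L16513 q804, e3 q813 L52834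 q650, e3 q814 L52721 q731, e3 q815 L52712 q730, e3 q816 L30945 q1225, e3 q817 L16546 q491, e3 q818 L30967 q1226, e3 q819 L30975 q1228, e3 q820 L16552 q492, e3 q821 L16568 q789, e3 q822 L16602 q826, e3 q823 L16574 q497, e3 q824 L16587 q498, e3 q825 L16618 q829, e3 q826 L16601 q822, e3 q827 L31017 q1237, e3 q828 L66016 q511, e3 q829 L16619 q825, e3 q830 L16641 q832, e3 q831 L31049 q1241, trivial⟩ (by decide +kernel)

theorem ce_f_13 : ∀ r, r < 64 → sm gf (Qf (832 + r)) = Qf (tab Gen.f (832 + r)) :=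
  edges_tab (sm gf) Qf (tab Gen.f) 832 [(832, 830), (833, 1246), (834, 1249), (835, 501), (836, 1001), (837, 1253), (838, 767), (839, 916), (840, 503), (841, 1258), (842, 1263), (843, 1265), (844, 507), (845, 1268), (846, 802), (847, 1145), (848, 509), (849, 1146), (850, 512), (851, 754), (852, 1274), (853, 1276), (854, 1279), (855, 514), (856, 1050), (857, 672), (858, 1027), (859, 518), (860, 870), (861, 523), (862, 1176), (863, 1285), (864, 663), (865, 1039), (866, 1291), (867, 1294), (868, 679), (869, 1034), (870, 860), (871, 1175), (872, 687), (873, 536), (874, 538), (875, 803), (876, 1302), (877, 543), (878, 598), (879, 882), (880, 1305), (881, 551), (882, 879), (883, 552), (884, 886), (885, 555), (886, 884), (887, 900), (888, 554), (889, 1309), (890, 897), (891, 565), (892, 566), (893, 1307), (894, 1322), (895, 563)]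
    ⟨e3 q832 L16640 q830, e3 q833 L31091 q1246, e3 q834 L31103 q1249, e3 q835 L16653 q501, e3 q836 L72586 q1001, e3 q837 L31127 q1253, e3 q838 L16664 q767, e3 q839 L72606 q916, e3 q840 L16669 q503, e3 q841 L31167 q1258, e3 q842 L31209 q1263, e3 q843 L31221 q1265, e3 q844 L16711 q507, e3 q845 L31237 q1268, e3 q846 L64517 q802, e3 q847 L66081 q1145, e3 q848 L16793 q509, e3 q849 L66091 q1146, e3 q850 L16817 q512, e3 q851 L51909 q754, e3 q852 L72980 q1274, e3 q853 L73136 q1276, e3 q854 L32101 q1279, e3 q855 L17055 q514, e3 q856 L71722 q1050, e3 q857 L71690 q672, e3 q858 L53084 q1027, e3 q859 L17157 q518, e3 q860 L32778 q870, e3 q861 L17241 q523, e3 q862 L30059 q1176, e3 q863 L32547 q1285, e3 q864 L71973 q663, e3 q865 L71659 q1039, e3 q866 L32585 q1291, e3 q867 L32591 q1294, e3 q868 L52121 q679, e3 q869 L52950 q1034, e3 q870 L32777 q860, e3 q871 L52248 q1175, e3 q872 L52160 q687, e3 q873 L17356 q536, e3 q874 L17363 q538, e3 q875 L72072 q803, e3 q876 L32933 q1302, e3 q877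 L18906 q543, e3 q878 L72628 q598, e3 q879 L72618 q882, e3 q880 L37706 q1305, e3 q881 L24797 q551, e3 q882 L72617 q879, e3 q883 L24805 q552, e3 q884 L24826 q886, e3 q885 L24820 q555, e3 q886 L24827 q884, e3 q887 L65657 q900, e3 q888 L24835 q554, e3 q889 L73243 q1309, e3 q890 L65808 q897, e3 q891 L53595 q565, e3 q892 L53518 q566, e3 q893 L73229 q1307, e3 q894 L73348 q1322, e3 q895 L24878 q563, trivial⟩ (by decide +kernel)

theorem ce_f_14 : ∀ r, r < 64 → sm gf (Qf (896 + r)) = Qf (tab Gen.f (896 + r)) :=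
  edges_tab (sm gf) Qf (tab Gen.f) 896 [(896, 564), (897, 890), (898, 1319), (899, 1332), (900, 887), (901, 561), (902, 1333), (903, 1323), (904, 1340), (905, 1325), (906, 1314), (907, 666), (908, 1316), (909, 568), (910, 911), (911, 910), (912, 571), (913, 1350), (914, 744), (915, 572), (916, 839), (917, 1105), (918, 574), (919, 575), (920, 1354), (921, 983), (922, 1004), (923, 1101), (924, 582), (925, 951), (926, 585), (927, 947), (928, 1360), (929, 938), (930, 590), (931, 1057), (932, 955), (933, 586), (934, 607), (935, 1370), (936, 609), (937, 958), (938, 929), (939, 1342), (940, 953), (941, 1217), (942, 1377), (943, 954), (944, 591), (945, 594), (946, 1378), (947, 927), (948, 595), (949, 1166), (950, 1188), (951, 925), (952, 603), (953, 940), (954, 943), (955, 932), (956, 1381), (957, 969), (958, 937), (959, 610)]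
    ⟨e3 q896 L24884 q564, e3 q897 L65809 q890, e3 q898 L73332 q1319, e3 q899 L73434 q1332, e3 q900 L65658 q887, e3 q901 L24907 q561, e3 q902 L73453 q1333, e3 q903 L73361 q1323, e3 q904 L73504 q1340, e3 q905 L73373 q1325, e3 q906 L73289 q1314, e3 q907 L73204 q666, e3 q908 L73309 q1316, e3 q909 L25193 q568, e3 q910 L25219 q911, e3 q911 L25220 q910, e3 q912 L25624 q571, e3 q913 L73576 q1350, e3 q914 L52826 q744, e3 q915 L25636 q572, e3 q916 L72605 q839, e3 q917 L73027 q1105, e3 q918 L25662 q574, e3 q919 L25670 q575, e3 q920 L73622 q1354, e3 q921 L72391 q983, e3 q922 L28014 q1004, e3 q923 L72428 q1101, e3 q924 L25698 q582, e3 q925 L25839 q951, e3 q926 L25715 q585, e3 q927 L25802 q947, e3 q928 L73648 q1360, e3 q929 L25758 q938, e3 q930 L25761 q590, e3 q931 L73153 q1057, e3 q932 L25882 q955, e3 q933 L25736 q586, e3 q934 L25739 q607, e3 q935 L73696 q1370, e3 q936 L25747 q609, e3 q937 L25896 q958, e3 q938 L25757 q929, e3 q939 L73521 q1342, e3 q940 L25864 q953, e3 q941 L73105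 q1217, e3 q942 L73739 q1377, e3 q943 L25874 q954, e3 q944 L25786 q591, e3 q945 L25793 q594, e3 q946 L73758 q1378, e3 q947 L25801 q927, e3 q948 L25812 q595, e3 q949 L72762 q1166, e3 q950 L72715 q1188, e3 q951 L25840 q925, e3 q952 L25855 q603, e3 q953 L25863 q940, e3 q954 L25873 q943, e3 q955 L25881 q932, e3 q956 L73774 q1381, e3 q957 L25944 q969, e3 q958 L25895 q937, e3 q959 L25901 q610, trivial⟩ (by decide +kernel)

theorem ce_f_15 : ∀ r, r < 64 → sm gf (Qf (960 + r)) = Qf (tab Gen.f (960 + r)) :=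
  edges_tab (sm gf) Qf (tab Gen.f) 960 [(960, 1390), (961, 612), (962, 1365), (963, 1393), (964, 1367), (965, 734), (966, 1111), (967, 608), (968, 1402), (969, 957), (970, 972), (971, 1405), (972, 970), (973, 611), (974, 1408), (975, 1371), (976, 1413), (977, 613), (978, 1415), (979, 614), (980, 988), (981, 1047), (982, 1357), (983, 921), (984, 990), (985, 618), (986, 1331), (987, 620), (988, 980), (989, 622), (990, 984), (991, 1240), (992, 1239), (993, 624), (994, 1049), (995, 1424), (996, 1032), (997, 1091), (998, 1361), (999, 630), (1000, 1133), (1001, 836), (1002, 633), (1003, 1430), (1004, 922), (1005, 710), (1006, 1013), (1007, 638), (1008, 639), (1009, 776), (1010, 642), (1011, 1434), (1012, 703), (1013, 1006), (1014, 1435), (1015, 643), (1016, 1109), (1017, 644), (1018, 1437), (1019, 648), (1020, 1438), (1021, 1439), (1022, 1446), (1023, 777)]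
    ⟨e3 q960 L73830 q1390, e3 q961 L25909 q612, e3 q962 L73672 q1365, e3 q963 L73854 q1393, e3 q964 L73687 q1367, e3 q965 L52541 q734, e3 q966 L73270 q1111, e3 q967 L25938 q608, e3 q968 L73914 q1402, e3 q969 L25943 q957, e3 q970 L25962 q972, e3 q971 L73928 q1405, e3 q972 L25961 q970, e3 q973 L25966 q611, e3 q974 L73950 q1408, e3 q975 L73704 q1371, e3 q976 L73984 q1413, e3 q977 L26046 q613, e3 q978 L73996 q1415, e3 q979 L26379 q614, e3 q980 L26428 q988, e3 q981 L73098 q1047, e3 q982 L73632 q1357, e3 q983 L72390 q921, e3 q984 L26475 q990, e3 q985 L26407 q618, e3 q986 L73431 q1331, e3 q987 L26411 q620, e3 q988 L26429 q980, e3 q989 L26435 q622, e3 q990 L26476 q984, e3 q991 L73079 q1240, e3 q992 L73040 q1239, e3 q993 L27900 q624, e3 q994 L72517 q1049, e3 q995 L74071 q1424, e3 q996 L28268 q1032, e3 q997 L72516 q1091, e3 q998 L73652 q1361, e3 q999 L27946 q630, e3 q1000 L52839 q1133, e3 q1001 L72585 q836, e3 q1002 L27984 q633, e3 q1003 L74114 q1430, e3 q1004 L28013 q922, e3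 q1005 L41525 q710, e3 q1006 L72476 q1013, e3 q1007 L28036 q638, e3 q1008 L28040 q639, e3 q1009 L42067 q776, e3 q1010 L28069 q642, e3 q1011 L74159 q1434, e3 q1012 L72488 q703, e3 q1013 L72477 q1006, e3 q1014 L74167 q1435, e3 q1015 L28106 q643, e3 q1016 L28934 q1109, e3 q1017 L28122 q644, e3 q1018 L74183 q1437, e3 q1019 L28135 q648, e3 q1020 L74200 q1438, e3 q1021 L74208 q1439, e3 q1022 L74253 q1446, e3 q1023 L71817 q777, trivial⟩ (by decide +kernel)

theorem ce_f_16 : ∀ r, r < 64 → sm gf (Qf (1024 + r)) = Qf (tab Gen.f (1024 + r)) :=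
  edges_tab (sm gf) Qf (tab Gen.f) 1024 [(1024, 721), (1025, 652), (1026, 1448), (1027, 858), (1028, 662), (1029, 665), (1030, 1454), (1031, 657), (1032, 996), (1033, 1458), (1034, 869), (1035, 1450), (1036, 1451), (1037, 1344), (1038, 1468), (1039, 865), (1040, 1473), (1041, 1315), (1042, 1161), (1043, 667), (1044, 1477), (1045, 1476), (1046, 1480), (1047, 981), (1048, 670), (1049, 994), (1050, 856), (1051, 675), (1052, 1107), (1053, 1483), (1054, 1098), (1055, 1447), (1056, 676), (1057, 931), (1058, 677), (1059, 725), (1060, 726), (1061, 1114), (1062, 1492), (1063, 1493), (1064, 680), (1065, 1494), (1066, 1496), (1067, 685), (1068, 1353), (1069, 1254), (1070, 696), (1071, 688), (1072, 1255), (1073, 758), (1074, 689), (1075, 1077), (1076, 695), (1077, 1075), (1078, 1349), (1079, 691), (1080, 757), (1081, 1502), (1082, 1503), (1083, 1301), (1084, 1500), (1085, 698), (1086, 1511), (1087, 707)]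
    ⟨e3 q1024 L72704 q721, e3 q1025 L28198 q652, e3 q1026 L74273 q1448, e3 q1027 L53083 q858, e3 q1028 L51851 q662, e3 q1029 L51847 q665, e3 q1030 L74327 q1454, e3 q1031 L28250 q657, e3 q1032 L28267 q996, e3 q1033 L74366 q1458, e3 q1034 L52949 q869, e3 q1035 L74296 q1450, e3 q1036 L74306 q1451, e3 q1037 L73536 q1344, e3 q1038 L74436 q1468, e3 q1039 L71658 q865, e3 q1040 L74474 q1473, e3 q1041 L73299 q1315, e3 q1042 L73747 q1161, e3 q1043 L28362 q667, e3 q1044 L74501 q1477, e3 q1045 L74499 q1476, e3 q1046 L74517 q1480, e3 q1047 L73099 q981, e3 q1048 L28378 q670, e3 q1049 L72518 q994, e3 q1050 L71723 q856, e3 q1051 L28407 q675, e3 q1052 L28908 q1107, e3 q1053 L74556 q1483, e3 q1054 L73046 q1098, e3 q1055 L74270 q1447, e3 q1056 L28430 q676, e3 q1057 L73154 q931, e3 q1058 L28442 q677, e3 q1059 L28449 q725, e3 q1060 L28455 q726, e3 q1061 L28953 q1114, e3 q1062 L74613 q1492, e3 q1063 L74619 q1493, e3 q1064 L28494 q680, e3 q1065 L74638 q1494, e3 q1066 L74654 q1496, e3 q1067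 L28530 q685, e3 q1068 L73612 q1353, e3 q1069 L73146 q1254, e3 q1070 L28548 q696, e3 q1071 L28576 q688, e3 q1072 L72856 q1255, e3 q1073 L52776 q758, e3 q1074 L28594 q689, e3 q1075 L28615 q1077, e3 q1076 L28609 q695, e3 q1077 L28616 q1075, e3 q1078 L73574 q1349, e3 q1079 L28624 q691, e3 q1080 L52905 q757, e3 q1081 L74711 q1502, e3 q1082 L74719 q1503, e3 q1083 L73140 q1301, e3 q1084 L74693 q1500, e3 q1085 L28671 q698, e3 q1086 L74777 q1511, e3 q1087 L28698 q707, trivial⟩ (by decide +kernel)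

theorem ce_f_17 : ∀ r, r < 64 → sm gf (Qf (1088 + r)) = Qf (tab Gen.f (1088 + r)) :=
  edges_tab (sm gf) Qf (tab Gen.f) 1088 [(1088, 708), (1089, 1095), (1090, 706), (1091, 997), (1092, 1222), (1093, 1514), (1094, 1495), (1095, 1089), (1096, 709), (1097, 1432), (1098, 1054), (1099, 1520), (1100, 714), (1101, 923), (1102, 1521), (1103, 1431), (1104, 718), (1105, 917), (1106, 1177), (1107, 1052), (1108, 723), (1109, 1016), (1110, 1488), (1111, 966), (1112, 1386), (1113, 1531), (1114, 1061), (1115, 727), (1116, 1221), (1117, 1532), (1118, 1533), (1119, 733), (1120, 1397), (1121, 1535), (1122, 1298), (1123, 739), (1124, 735), (1125, 1126), (1126, 1125), (1127, 1536), (1128, 747), (1129, 1542), (1130, 749), (1131, 1142), (1132, 1351), (1133, 1000), (1134, 1136), (1135, 1548), (1136, 1134), (1137, 1546), (1138, 1552), (1139, 748), (1140, 1554), (1141, 1556), (1142, 1131), (1143, 750), (1144, 795), (1145, 847), (1146, 849), (1147, 752), (1148, 1200), (1149, 808), (1150,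 1271), (1151, 755)]
    ⟨e3 q1088 L28704 q708, e3 q1089 L28784 q1095, e3 q1090 L28736 q706, e3 q1091 L72515 q997, e3 q1092 L72746 q1222, e3 q1093 L74799 q1514, e3 q1094 L74650 q1495, e3 q1095 L28783 q1089, e3 q1096 L28790 q709, e3 q1097 L74142 q1432, e3 q1098 L73047 q1054, e3 q1099 L74844 q1520, e3 q1100 L28837 q714, e3 q1101 L72427 q923, e3 q1102 L74861 q1521, e3 q1103 L74130 q1431, e3 q1104 L28875 q718, e3 q1105 L73026 q917, e3 q1106 L72731 q1177, e3 q1107 L28909 q1052, e3 q1108 L28923 q723, e3 q1109 L28935 q1016, e3 q1110 L74592 q1488, e3 q1111 L73271 q966, e3 q1112 L73816 q1386, e3 q1113 L74950 q1531, e3 q1114 L28952 q1061, e3 q1115 L28955 q727, e3 q1116 L72741 q1221, e3 q1117 L74962 q1532, e3 q1118 L74974 q1533, e3 q1119 L29056 q733, e3 q1120 L73881 q1397, e3 q1121 L74996 q1535, e3 q1122 L72694 q1298, e3 q1123 L41426 q739, e3 q1124 L29079 q735, e3 q1125 L29107 q1126, e3 q1126 L29108 q1125, e3 q1127 L75014 q1536, e3 q1128 L29166 q747, e3 q1129 L75049 q1542, e3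 q1130 L29180 q749, e3 q1131 L29261 q1142, e3 q1132 L73596 q1351, e3 q1133 L52840 q1000, e3 q1134 L29231 q1136, e3 q1135 L75089 q1548, e3 q1136 L29230 q1134, e3 q1137 L75081 q1546, e3 q1138 L75118 q1552, e3 q1139 L29241 q748, e3 q1140 L75140 q1554, e3 q1141 L75154 q1556, e3 q1142 L29260 q1131, e3 q1143 L64179 q750, e3 q1144 L64524 q795, e3 q1145 L66080 q847, e3 q1146 L66090 q849, e3 q1147 L29303 q752, e3 q1148 L72904 q1200, e3 q1149 L72689 q808, e3 q1150 L51890 q1271, e3 q1151 L29335 q755, trivial⟩ (by decide +kernel)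

theorem ce_f_18 : ∀ r, r < 64 → sm gf (Qf (1152 + r)) = Qf (tab Gen.f (1152 + r)) :=
  edges_tab (sm gf) Qf (tab Gen.f) 1152 [(1152, 1501), (1153, 1157), (1154, 762), (1155, 763), (1156, 1160), (1157, 1153), (1158, 1568), (1159, 772), (1160, 1156), (1161, 1042), (1162, 1572), (1163, 1574), (1164, 766), (1165, 1428), (1166, 949), (1167, 1579), (1168, 1581), (1169, 768), (1170, 1584), (1171, 770), (1172, 1588), (1173, 1280), (1174, 773), (1175, 871), (1176, 862), (1177, 1106), (1178, 1299), (1179, 1594), (1180, 1597), (1181, 1600), (1182, 1199), (1183, 1604), (1184, 1605), (1185, 784), (1186, 1609), (1187, 1264), (1188, 950), (1189, 1614), (1190, 1616), (1191, 788), (1192, 1617), (1193, 1618), (1194, 794), (1195, 1619), (1196, 1621), (1197, 792), (1198, 1623), (1199, 1182), (1200, 1148), (1201, 1559), (1202, 1560), (1203, 1628), (1204, 796), (1205, 1206), (1206, 1205), (1207, 798), (1208, 1633), (1209, 799), (1210, 1635), (1211, 1636), (1212, 1269), (1213, 1585), (1214,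 806), (1215, 1553)]
    ⟨e3 q1152 L74705 q1501, e3 q1153 L29451 q1157, e3 q1154 L29414 q762, e3 q1155 L29430 q763, e3 q1156 L29482 q1160, e3 q1157 L29450 q1153, e3 q1158 L75244 q1568, e3 q1159 L71464 q772, e3 q1160 L29483 q1156, e3 q1161 L73748 q1042, e3 q1162 L75272 q1572, e3 q1163 L75286 q1574, e3 q1164 L29503 q766, e3 q1165 L74100 q1428, e3 q1166 L72763 q949, e3 q1167 L75324 q1579, e3 q1168 L75342 q1581, e3 q1169 L29539 q768, e3 q1170 L75368 q1584, e3 q1171 L29605 q770, e3 q1172 L75410 q1588, e3 q1173 L67186 q1280, e3 q1174 L29899 q773, e3 q1175 L52249 q871, e3 q1176 L30058 q862, e3 q1177 L72732 q1106, e3 q1178 L72792 q1299, e3 q1179 L75467 q1594, e3 q1180 L75491 q1597, e3 q1181 L75507 q1600, e3 q1182 L30734 q1199, e3 q1183 L75529 q1604, e3 q1184 L75537 q1605, e3 q1185 L30654 q784, e3 q1186 L75559 q1609, e3 q1187 L72875 q1264, e3 q1188 L72714 q950, e3 q1189 L75599 q1614, e3 q1190 L75611 q1616, e3 q1191 L30679 q788, e3 q1192 L75619 q1617, e3 q1193 L75629 q1618, e3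 q1194 L30703 q794, e3 q1195 L75635 q1619, e3 q1196 L75665 q1621, e3 q1197 L30712 q792, e3 q1198 L75685 q1623, e3 q1199 L30735 q1182, e3 q1200 L72903 q1148, e3 q1201 L75177 q1559, e3 q1202 L75189 q1560, e3 q1203 L75723 q1628, e3 q1204 L30761 q796, e3 q1205 L30770 q1206, e3 q1206 L30771 q1205, e3 q1207 L30783 q798, e3 q1208 L75745 q1633, e3 q1209 L30791 q799, e3 q1210 L75753 q1635, e3 q1211 L75759 q1636, e3 q1212 L72906 q1269, e3 q1213 L75391 q1585, e3 q1214 L30816 q806, e3 q1215 L75137 q1553, trivial⟩ (by decide +kernel)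

theorem ce_f_19 : ∀ r, r < 64 → sm gf (Qf (1216 + r)) = Qf (tab Gen.f (1216 + r)) :=
  edges_tab (sm gf) Qf (tab Gen.f) 1216 [(1216, 1270), (1217, 941), (1218, 809), (1219, 1231), (1220, 1641), (1221, 1116), (1222, 1092), (1223, 1306), (1224, 1647), (1225, 816), (1226, 818), (1227, 1650), (1228, 819), (1229, 1651), (1230, 1234), (1231, 1219), (1232, 1655), (1233, 1643), (1234, 1230), (1235, 1661), (1236, 1663), (1237, 827), (1238, 1569), (1239, 992), (1240, 991), (1241, 831), (1242, 1453), (1243, 1669), (1244, 1671), (1245, 1674), (1246, 833), (1247, 1429), (1248, 1499), (1249, 834), (1250, 1251), (1251, 1250), (1252, 1681), (1253, 837), (1254, 1069), (1255, 1072), (1256, 1685), (1257, 1687), (1258, 841), (1259, 1690), (1260, 1693), (1261, 1695), (1262, 1608), (1263, 842), (1264, 1187), (1265, 843), (1266, 1267), (1267, 1266), (1268, 845), (1269, 1212), (1270, 1216), (1271, 1150), (1272, 1471), (1273, 1625), (1274, 852), (1275, 1702), (1276, 853), (1277, 1706), (1278,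 1704), (1279, 854)]
    ⟨e3 q1216 L72522 q1270, e3 q1217 L73104 q941, e3 q1218 L30848 q809, e3 q1219 L30995 q1231, e3 q1220 L75800 q1641, e3 q1221 L72740 q1116, e3 q1222 L72747 q1092, e3 q1223 L73219 q1306, e3 q1224 L75848 q1647, e3 q1225 L30946 q816, e3 q1226 L30968 q818, e3 q1227 L75866 q1650, e3 q1228 L30976 q819, e3 q1229 L75870 q1651, e3 q1230 L31010 q1234, e3 q1231 L30994 q1219, e3 q1232 L75897 q1655, e3 q1233 L75815 q1643, e3 q1234 L31009 q1230, e3 q1235 L75934 q1661, e3 q1236 L75956 q1663, e3 q1237 L31018 q827, e3 q1238 L75257 q1569, e3 q1239 L73041 q992, e3 q1240 L73078 q991, e3 q1241 L31050 q831, e3 q1242 L74323 q1453, e3 q1243 L75998 q1669, e3 q1244 L76016 q1671, e3 q1245 L76038 q1674, e3 q1246 L31092 q833, e3 q1247 L74104 q1429, e3 q1248 L74684 q1499, e3 q1249 L31104 q834, e3 q1250 L31113 q1251, e3 q1251 L31114 q1250, e3 q1252 L76088 q1681, e3 q1253 L31128 q837, e3 q1254 L73145 q1069, e3 q1255 L72857 q1072, e3 q1256 L76114 q1685, e3 q1257 L76130 q1687,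 e3 q1258 L31168 q841, e3 q1259 L76156 q1690, e3 q1260 L76176 q1693, e3 q1261 L76190 q1695, e3 q1262 L75557 q1608, e3 q1263 L31210 q842, e3 q1264 L72874 q1187, e3 q1265 L31222 q843, e3 q1266 L31235 q1267, e3 q1267 L31236 q1266, e3 q1268 L31238 q845, e3 q1269 L72905 q1212, e3 q1270 L72521 q1216, e3 q1271 L51891 q1150, e3 q1272 L74461 q1471, e3 q1273 L75706 q1625, e3 q1274 L72979 q852, e3 q1275 L76241 q1702, e3 q1276 L73135 q853, e3 q1277 L76276 q1706, e3 q1278 L76265 q1704, e3 q1279 L32102 q854, trivial⟩ (by decide +kernel)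

theorem ce_f_20 : ∀ r, r < 64 → sm gf (Qf (1280 + r)) = Qf (tab Gen.f (1280 + r)) :=
  edges_tab (sm gf) Qf (tab Gen.f) 1280 [(1280, 1173), (1281, 1449), (1282, 1519), (1283, 1589), (1284, 1524), (1285, 863), (1286, 1712), (1287, 1470), (1288, 1406), (1289, 1717), (1290, 1718), (1291, 866), (1292, 1668), (1293, 1664), (1294, 867), (1295, 1459), (1296, 1460), (1297, 1403), (1298, 1122), (1299, 1178), (1300, 1727), (1301, 1083), (1302, 876), (1303, 1304), (1304, 1303), (1305, 880), (1306, 1223), (1307, 893), (1308, 1335), (1309, 889), (1310, 1328), (1311, 1321), (1312, 1732), (1313, 1326), (1314, 906), (1315, 1041), (1316, 908), (1317, 1731), (1318, 1327), (1319, 898), (1320, 1457), (1321, 1311), (1322, 894), (1323, 903), (1324, 1741), (1325, 905), (1326, 1313), (1327, 1318), (1328, 1310), (1329, 1662), (1330, 1742), (1331, 986), (1332, 899), (1333, 902), (1334, 1743), (1335, 1308), (1336, 1737), (1337, 1746), (1338, 1739), (1339, 1442), (1340, 904), (1341, 1750), (1342,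 939), (1343, 1345)]
    ⟨e3 q1280 L67187 q1173, e3 q1281 L74288 q1449, e3 q1282 L74843 q1519, e3 q1283 L75429 q1589, e3 q1284 L74893 q1524, e3 q1285 L32548 q863, e3 q1286 L76316 q1712, e3 q1287 L74453 q1470, e3 q1288 L73947 q1406, e3 q1289 L76347 q1717, e3 q1290 L76352 q1718, e3 q1291 L32586 q866, e3 q1292 L75997 q1668, e3 q1293 L75972 q1664, e3 q1294 L32592 q867, e3 q1295 L74383 q1459, e3 q1296 L74391 q1460, e3 q1297 L73938 q1403, e3 q1298 L72693 q1122, e3 q1299 L72793 q1178, e3 q1300 L76420 q1727, e3 q1301 L73139 q1083, e3 q1302 L32934 q876, e3 q1303 L73092 q1304, e3 q1304 L73093 q1303, e3 q1305 L37707 q880, e3 q1306 L73218 q1223, e3 q1307 L73228 q893, e3 q1308 L73473 q1335, e3 q1309 L73242 q889, e3 q1310 L73407 q1328, e3 q1311 L73346 q1321, e3 q1312 L76471 q1732, e3 q1313 L73386 q1326, e3 q1314 L73288 q906, e3 q1315 L73298 q1041, e3 q1316 L73308 q908, e3 q1317 L76465 q1731, e3 q1318 L73397 q1327, e3 q1319 L73333 q898, e3 q1320 L74364 q1457, e3 q1321 L73347 q1311,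 e3 q1322 L73349 q894, e3 q1323 L73360 q903, e3 q1324 L76556 q1741, e3 q1325 L73372 q905, e3 q1326 L73387 q1313, e3 q1327 L73396 q1318, e3 q1328 L73406 q1310, e3 q1329 L75954 q1662, e3 q1330 L76568 q1742, e3 q1331 L73430 q986, e3 q1332 L73435 q899, e3 q1333 L73452 q902, e3 q1334 L76585 q1743, e3 q1335 L73472 q1308, e3 q1336 L76519 q1737, e3 q1337 L76602 q1746, e3 q1338 L76541 q1739, e3 q1339 L74226 q1442, e3 q1340 L73505 q904, e3 q1341 L76633 q1750, e3 q1342 L73520 q939, e3 q1343 L73547 q1345, trivial⟩ (by decide +kernel)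

theorem ce_f_21 : ∀ r, r < 64 → sm gf (Qf (1344 + r)) = Qf (tab Gen.f (1344 + r)) :=
  edges_tab (sm gf) Qf (tab Gen.f) 1344 [(1344, 1037), (1345, 1343), (1346, 1389), (1347, 1421), (1348, 1515), (1349, 1078), (1350, 913), (1351, 1132), (1352, 1484), (1353, 1068), (1354, 920), (1355, 1758), (1356, 1525), (1357, 982), (1358, 1420), (1359, 1376), (1360, 928), (1361, 998), (1362, 1764), (1363, 1444), (1364, 1372), (1365, 962), (1366, 1771), (1367, 964), (1368, 1414), (1369, 1412), (1370, 935), (1371, 975), (1372, 1364), (1373, 1748), (1374, 1382), (1375, 1776), (1376, 1359), (1377, 942), (1378, 946), (1379, 1610), (1380, 1487), (1381, 956), (1382, 1374), (1383, 1396), (1384, 1399), (1385, 1736), (1386, 1112), (1387, 1592), (1388, 1786), (1389, 1346), (1390, 960), (1391, 1425), (1392, 1527), (1393, 963), (1394, 1526), (1395, 1790), (1396, 1383), (1397, 1120), (1398, 1534), (1399, 1384), (1400, 1401), (1401, 1400), (1402, 968), (1403, 1297), (1404, 1793), (1405, 971),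 (1406, 1288), (1407, 1796)]
    ⟨e3 q1344 L73537 q1037, e3 q1345 L73546 q1343, e3 q1346 L73841 q1389, e3 q1347 L74045 q1421, e3 q1348 L74805 q1515, e3 q1349 L73575 q1078, e3 q1350 L73577 q913, e3 q1351 L73595 q1132, e3 q1352 L74562 q1484, e3 q1353 L73611 q1068, e3 q1354 L73621 q920, e3 q1355 L76696 q1758, e3 q1356 L74909 q1525, e3 q1357 L73631 q982, e3 q1358 L74033 q1420, e3 q1359 L73737 q1376, e3 q1360 L73647 q928, e3 q1361 L73651 q998, e3 q1362 L76732 q1764, e3 q1363 L74242 q1444, e3 q1364 L73711 q1372, e3 q1365 L73671 q962, e3 q1366 L76784 q1771, e3 q1367 L73686 q964, e3 q1368 L73995 q1414, e3 q1369 L73980 q1412, e3 q1370 L73697 q935, e3 q1371 L73705 q975, e3 q1372 L73710 q1364, e3 q1373 L76617 q1748, e3 q1374 L73785 q1382, e3 q1375 L76825 q1776, e3 q1376 L73738 q1359, e3 q1377 L73740 q942, e3 q1378 L73757 q946, e3 q1379 L75568 q1610, e3 q1380 L74585 q1487, e3 q1381 L73773 q956, e3 q1382 L73784 q1374, e3 q1383 L73871 q1396, e3 q1384 L73899 q1399, e3 q1385 L76511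 q1736, e3 q1386 L73817 q1112, e3 q1387 L75459 q1592, e3 q1388 L76898 q1786, e3 q1389 L73840 q1346, e3 q1390 L73831 q960, e3 q1391 L74080 q1425, e3 q1392 L74933 q1527, e3 q1393 L73855 q963, e3 q1394 L74917 q1526, e3 q1395 L76936 q1790, e3 q1396 L73870 q1383, e3 q1397 L73880 q1120, e3 q1398 L74993 q1534, e3 q1399 L73898 q1384, e3 q1400 L73910 q1401, e3 q1401 L73911 q1400, e3 q1402 L73915 q968, e3 q1403 L73939 q1297, e3 q1404 L76966 q1793, e3 q1405 L73929 q971, e3 q1406 L73946 q1288, e3 q1407 L76996 q1796, trivial⟩ (by decide +kernel)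

theorem ce_f_22 : ∀ r, r < 64 → sm gf (Qf (1408 + r)) = Qf (tab Gen.f (1408 + r)) :=
  edges_tab (sm gf) Qf (tab Gen.f) 1408 [(1408, 974), (1409, 1772), (1410, 1474), (1411, 1774), (1412, 1369), (1413, 976), (1414, 1368), (1415, 978), (1416, 1803), (1417, 1479), (1418, 1761), (1419, 1762), (1420, 1358), (1421, 1347), (1422, 1809), (1423, 1481), (1424, 995), (1425, 1391), (1426, 1456), (1427, 1433), (1428, 1165), (1429, 1247), (1430, 1003), (1431, 1103), (1432, 1097), (1433, 1427), (1434, 1011), (1435, 1014), (1436, 1815), (1437, 1018), (1438, 1020), (1439, 1021), (1440, 1445), (1441, 1816), (1442, 1339), (1443, 1733), (1444, 1363), (1445, 1440), (1446, 1022), (1447, 1055), (1448, 1026), (1449, 1281), (1450, 1035), (1451, 1036), (1452, 1824), (1453, 1242), (1454, 1030), (1455, 1810), (1456, 1426), (1457, 1320), (1458, 1033), (1459, 1295), (1460, 1296), (1461, 1722), (1462, 1566), (1463, 1823), (1464, 1751), (1465, 1830), (1466, 1700), (1467, 1570), (1468, 1038), (1469,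 1833), (1470, 1287), (1471, 1272)]
    ⟨e3 q1408 L73951 q974, e3 q1409 L76794 q1772, e3 q1410 L74483 q1474, e3 q1411 L76812 q1774, e3 q1412 L73981 q1369, e3 q1413 L73985 q976, e3 q1414 L73994 q1368, e3 q1415 L73997 q978, e3 q1416 L77039 q1803, e3 q1417 L74516 q1479, e3 q1418 L76708 q1761, e3 q1419 L76716 q1762, e3 q1420 L74032 q1358, e3 q1421 L74044 q1347, e3 q1422 L77079 q1809, e3 q1423 L74528 q1481, e3 q1424 L74070 q995, e3 q1425 L74079 q1391, e3 q1426 L74349 q1456, e3 q1427 L74154 q1433, e3 q1428 L74099 q1165, e3 q1429 L74103 q1247, e3 q1430 L74113 q1003, e3 q1431 L74129 q1103, e3 q1432 L74141 q1097, e3 q1433 L74153 q1427, e3 q1434 L74160 q1011, e3 q1435 L74168 q1014, e3 q1436 L77137 q1815, e3 q1437 L74184 q1018, e3 q1438 L74199 q1020, e3 q1439 L74207 q1021, e3 q1440 L74250 q1445, e3 q1441 L77156 q1816, e3 q1442 L74225 q1339, e3 q1443 L76484 q1733, e3 q1444 L74241 q1363, e3 q1445 L74249 q1440, e3 q1446 L74254 q1022, e3 q1447 L74269 q1055, e3 q1448 L74274 q1026,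 e3 q1449 L74287 q1281, e3 q1450 L74295 q1035, e3 q1451 L74305 q1036, e3 q1452 L77237 q1824, e3 q1453 L74324 q1242, e3 q1454 L74328 q1030, e3 q1455 L77098 q1810, e3 q1456 L74348 q1426, e3 q1457 L74365 q1320, e3 q1458 L74367 q1033, e3 q1459 L74382 q1295, e3 q1460 L74390 q1296, e3 q1461 L76386 q1722, e3 q1462 L75235 q1566, e3 q1463 L77230 q1823, e3 q1464 L76648 q1751, e3 q1465 L77300 q1830, e3 q1466 L76221 q1700, e3 q1467 L75264 q1570, e3 q1468 L74437 q1038, e3 q1469 L77322 q1833, e3 q1470 L74452 q1287, e3 q1471 L74460 q1272, trivial⟩ (by decide +kernel)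

theorem ce_f_23 : ∀ r, r < 64 → sm gf (Qf (1472 + r)) = Qf (tab Gen.f (1472 + r)) :=
  edges_tab (sm gf) Qf (tab Gen.f) 1472 [(1472, 1517), (1473, 1040), (1474, 1410), (1475, 1763), (1476, 1045), (1477, 1044), (1478, 1838), (1479, 1417), (1480, 1046), (1481, 1423), (1482, 1734), (1483, 1053), (1484, 1352), (1485, 1509), (1486, 1590), (1487, 1380), (1488, 1110), (1489, 1529), (1490, 1846), (1491, 1847), (1492, 1062), (1493, 1063), (1494, 1065), (1495, 1094), (1496, 1066), (1497, 1682), (1498, 1679), (1499, 1248), (1500, 1084), (1501, 1152), (1502, 1081), (1503, 1082), (1504, 1756), (1505, 1853), (1506, 1675), (1507, 1854), (1508, 1726), (1509, 1485), (1510, 1860), (1511, 1086), (1512, 1840), (1513, 1611), (1514, 1093), (1515, 1348), (1516, 1848), (1517, 1472), (1518, 1749), (1519, 1282), (1520, 1099), (1521, 1102), (1522, 1865), (1523, 1665), (1524, 1284), (1525, 1356), (1526, 1394), (1527, 1392), (1528, 1787), (1529, 1489), (1530, 1862), (1531, 1113), (1532, 1117),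 (1533, 1118), (1534, 1398), (1535, 1121)]
    ⟨e3 q1472 L74825 q1517, e3 q1473 L74475 q1040, e3 q1474 L74482 q1410, e3 q1475 L76724 q1763, e3 q1476 L74498 q1045, e3 q1477 L74502 q1044, e3 q1478 L77368 q1838, e3 q1479 L74515 q1417, e3 q1480 L74518 q1046, e3 q1481 L74527 q1423, e3 q1482 L76495 q1734, e3 q1483 L74555 q1053, e3 q1484 L74561 q1352, e3 q1485 L74761 q1509, e3 q1486 L75437 q1590, e3 q1487 L74586 q1380, e3 q1488 L74591 q1110, e3 q1489 L74945 q1529, e3 q1490 L77449 q1846, e3 q1491 L77463 q1847, e3 q1492 L74614 q1062, e3 q1493 L74620 q1063, e3 q1494 L74637 q1065, e3 q1495 L74651 q1094, e3 q1496 L74655 q1066, e3 q1497 L76102 q1682, e3 q1498 L76074 q1679, e3 q1499 L74685 q1248, e3 q1500 L74692 q1084, e3 q1501 L74704 q1152, e3 q1502 L74710 q1081, e3 q1503 L74718 q1082, e3 q1504 L76686 q1756, e3 q1505 L77538 q1853, e3 q1506 L76054 q1675, e3 q1507 L77552 q1854, e3 q1508 L76419 q1726, e3 q1509 L74760 q1485, e3 q1510 L77603 q1860, e3 q1511 L74776 q1086, e3 q1512 L77393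 q1840, e3 q1513 L75583 q1611, e3 q1514 L74798 q1093, e3 q1515 L74804 q1348, e3 q1516 L77487 q1848, e3 q1517 L74824 q1472, e3 q1518 L76630 q1749, e3 q1519 L74842 q1282, e3 q1520 L74845 q1099, e3 q1521 L74860 q1102, e3 q1522 L77650 q1865, e3 q1523 L75983 q1665, e3 q1524 L74892 q1284, e3 q1525 L74908 q1356, e3 q1526 L74916 q1394, e3 q1527 L74932 q1392, e3 q1528 L76917 q1787, e3 q1529 L74944 q1489, e3 q1530 L77622 q1862, e3 q1531 L74951 q1113, e3 q1532 L74963 q1117, e3 q1533 L74975 q1118, e3 q1534 L74992 q1398, e3 q1535 L74997 q1121, trivial⟩ (by decide +kernel)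

theorem ce_f_24 : ∀ r, r < 64 → sm gf (Qf (1536 + r)) = Qf (tab Gen.f (1536 + r)) :=
  edges_tab (sm gf) Qf (tab Gen.f) 1536 [(1536, 1127), (1537, 1868), (1538, 1870), (1539, 1873), (1540, 1550), (1541, 1876), (1542, 1129), (1543, 1880), (1544, 1580), (1545, 1882), (1546, 1137), (1547, 1884), (1548, 1135), (1549, 1886), (1550, 1540), (1551, 1835), (1552, 1138), (1553, 1215), (1554, 1140), (1555, 1892), (1556, 1141), (1557, 1895), (1558, 1896), (1559, 1201), (1560, 1202), (1561, 1563), (1562, 1852), (1563, 1561), (1564, 1899), (1565, 1626), (1566, 1462), (1567, 1902), (1568, 1158), (1569, 1238), (1570, 1467), (1571, 1907), (1572, 1162), (1573, 1813), (1574, 1163), (1575, 1576), (1576, 1575), (1577, 1911), (1578, 1879), (1579, 1167), (1580, 1544), (1581, 1168), (1582, 1583), (1583, 1582), (1584, 1170), (1585, 1213), (1586, 1587), (1587, 1586), (1588, 1172), (1589, 1283), (1590, 1486), (1591, 1723), (1592, 1387), (1593, 1919), (1594, 1179), (1595, 1680), (1596, 1903),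 (1597, 1180), (1598, 1923), (1599, 1924)]
    ⟨e3 q1536 L75013 q1127, e3 q1537 L77673 q1868, e3 q1538 L77689 q1870, e3 q1539 L77708 q1873, e3 q1540 L75110 q1550, e3 q1541 L77728 q1876, e3 q1542 L75050 q1129, e3 q1543 L77762 q1880, e3 q1544 L75340 q1580, e3 q1545 L77783 q1882, e3 q1546 L75080 q1137, e3 q1547 L77804 q1884, e3 q1548 L75090 q1135, e3 q1549 L77829 q1886, e3 q1550 L75111 q1540, e3 q1551 L77347 q1835, e3 q1552 L75119 q1138, e3 q1553 L75136 q1215, e3 q1554 L75141 q1140, e3 q1555 L77889 q1892, e3 q1556 L75155 q1141, e3 q1557 L77913 q1895, e3 q1558 L77923 q1896, e3 q1559 L75176 q1201, e3 q1560 L75188 q1202, e3 q1561 L75211 q1563, e3 q1562 L77528 q1852, e3 q1563 L75210 q1561, e3 q1564 L77949 q1899, e3 q1565 L75716 q1626, e3 q1566 L75234 q1462, e3 q1567 L77981 q1902, e3 q1568 L75245 q1158, e3 q1569 L75256 q1238, e3 q1570 L75265 q1467, e3 q1571 L78041 q1907, e3 q1572 L75273 q1162, e3 q1573 L77124 q1813, e3 q1574 L75287 q1163, e3 q1575 L75312 q1576, e3 q1576 L75313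 q1575, e3 q1577 L78083 q1911, e3 q1578 L77760 q1879, e3 q1579 L75325 q1167, e3 q1580 L75341 q1544, e3 q1581 L75343 q1168, e3 q1582 L75366 q1583, e3 q1583 L75367 q1582, e3 q1584 L75369 q1170, e3 q1585 L75390 q1213, e3 q1586 L75409 q1587, e3 q1587 L75408 q1586, e3 q1588 L75411 q1172, e3 q1589 L75428 q1283, e3 q1590 L75436 q1486, e3 q1591 L76397 q1723, e3 q1592 L75458 q1387, e3 q1593 L78159 q1919, e3 q1594 L75468 q1179, e3 q1595 L76086 q1680, e3 q1596 L78003 q1903, e3 q1597 L75492 q1180, e3 q1598 L78202 q1923, e3 q1599 L78208 q1924, trivial⟩ (by decide +kernel)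

theorem ce_f_25 : ∀ r, r < 64 → sm gf (Qf (1600 + r)) = Qf (tab Gen.f (1600 + r)) :=
  edges_tab (sm gf) Qf (tab Gen.f) 1600 [(1600, 1181), (1601, 1694), (1602, 1928), (1603, 1929), (1604, 1183), (1605, 1184), (1606, 1607), (1607, 1606), (1608, 1262), (1609, 1186), (1610, 1379), (1611, 1513), (1612, 1936), (1613, 1937), (1614, 1189), (1615, 1938), (1616, 1190), (1617, 1192), (1618, 1193), (1619, 1195), (1620, 1941), (1621, 1196), (1622, 1942), (1623, 1198), (1624, 1944), (1625, 1273), (1626, 1565), (1627, 1946), (1628, 1203), (1629, 1634), (1630, 1915), (1631, 1948), (1632, 1657), (1633, 1208), (1634, 1629), (1635, 1210), (1636, 1211), (1637, 1881), (1638, 1699), (1639, 1863), (1640, 1653), (1641, 1220), (1642, 1673), (1643, 1233), (1644, 1730), (1645, 1729), (1646, 1932), (1647, 1224), (1648, 1958), (1649, 1959), (1650, 1227), (1651, 1229), (1652, 1658), (1653, 1640), (1654, 1962), (1655, 1232), (1656, 1964), (1657, 1632), (1658, 1652), (1659, 1720), (1660, 1792),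 (1661, 1235), (1662, 1329), (1663, 1236)]
    ⟨e3 q1600 L75508 q1181, e3 q1601 L76188 q1694, e3 q1602 L78246 q1928, e3 q1603 L78252 q1929, e3 q1604 L75530 q1183, e3 q1605 L75538 q1184, e3 q1606 L75547 q1607, e3 q1607 L75548 q1606, e3 q1608 L75558 q1262, e3 q1609 L75560 q1186, e3 q1610 L75567 q1379, e3 q1611 L75584 q1513, e3 q1612 L78320 q1936, e3 q1613 L78326 q1937, e3 q1614 L75600 q1189, e3 q1615 L78332 q1938, e3 q1616 L75612 q1190, e3 q1617 L75620 q1192, e3 q1618 L75630 q1193, e3 q1619 L75636 q1195, e3 q1620 L78362 q1941, e3 q1621 L75666 q1196, e3 q1622 L78370 q1942, e3 q1623 L75686 q1198, e3 q1624 L78392 q1944, e3 q1625 L75705 q1273, e3 q1626 L75715 q1565, e3 q1627 L78416 q1946, e3 q1628 L75724 q1203, e3 q1629 L75751 q1634, e3 q1630 L78129 q1915, e3 q1631 L78429 q1948, e3 q1632 L75916 q1657, e3 q1633 L75746 q1208, e3 q1634 L75752 q1629, e3 q1635 L75754 q1210, e3 q1636 L75760 q1211, e3 q1637 L77780 q1881, e3 q1638 L76214 q1699, e3 q1639 L77632 q1863, e3 q1640 L75890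 q1653, e3 q1641 L75799 q1220, e3 q1642 L76032 q1673, e3 q1643 L75814 q1233, e3 q1644 L76455 q1730, e3 q1645 L76443 q1729, e3 q1646 L78281 q1932, e3 q1647 L75849 q1224, e3 q1648 L78518 q1958, e3 q1649 L78522 q1959, e3 q1650 L75867 q1227, e3 q1651 L75871 q1229, e3 q1652 L75922 q1658, e3 q1653 L75889 q1640, e3 q1654 L78555 q1962, e3 q1655 L75898 q1232, e3 q1656 L78573 q1964, e3 q1657 L75915 q1632, e3 q1658 L75921 q1652, e3 q1659 L76373 q1720, e3 q1660 L76960 q1792, e3 q1661 L75935 q1235, e3 q1662 L75955 q1329, e3 q1663 L75957 q1236, trivial⟩ (by decide +kernel)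

theorem ce_f_26 : ∀ r, r < 64 → sm gf (Qf (1664 + r)) = Qf (tab Gen.f (1664 + r)) :=
  edges_tab (sm gf) Qf (tab Gen.f) 1664 [(1664, 1293), (1665, 1523), (1666, 1920), (1667, 1967), (1668, 1292), (1669, 1243), (1670, 1949), (1671, 1244), (1672, 1971), (1673, 1642), (1674, 1245), (1675, 1506), (1676, 1969), (1677, 1855), (1678, 1850), (1679, 1498), (1680, 1595), (1681, 1252), (1682, 1497), (1683, 1977), (1684, 1979), (1685, 1256), (1686, 1740), (1687, 1257), (1688, 1689), (1689, 1688), (1690, 1259), (1691, 1921), (1692, 1982), (1693, 1260), (1694, 1601), (1695, 1261), (1696, 1696), (1697, 1985), (1698, 1805), (1699, 1638), (1700, 1466), (1701, 1906), (1702, 1275), (1703, 1974), (1704, 1278), (1705, 1975), (1706, 1277), (1707, 1905), (1708, 1709), (1709, 1708), (1710, 1812), (1711, 1990), (1712, 1286), (1713, 1834), (1714, 1794), (1715, 1918), (1716, 1992), (1717, 1289), (1718, 1290), (1719, 1825), (1720, 1659), (1721, 1791), (1722, 1461), (1723, 1591), (1724, 1752),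 (1725, 1845), (1726, 1508), (1727, 1300)]
    ⟨e3 q1664 L75973 q1293, e3 q1665 L75982 q1523, e3 q1666 L78179 q1920, e3 q1667 L78602 q1967, e3 q1668 L75996 q1292, e3 q1669 L75999 q1243, e3 q1670 L78442 q1949, e3 q1671 L76017 q1244, e3 q1672 L78649 q1971, e3 q1673 L76033 q1642, e3 q1674 L76039 q1245, e3 q1675 L76055 q1506, e3 q1676 L78632 q1969, e3 q1677 L77566 q1855, e3 q1678 L77511 q1850, e3 q1679 L76075 q1498, e3 q1680 L76087 q1595, e3 q1681 L76089 q1252, e3 q1682 L76103 q1497, e3 q1683 L78719 q1977, e3 q1684 L78737 q1979, e3 q1685 L76115 q1256, e3 q1686 L76553 q1740, e3 q1687 L76131 q1257, e3 q1688 L76154 q1689, e3 q1689 L76155 q1688, e3 q1690 L76157 q1259, e3 q1691 L78190 q1921, e3 q1692 L78767 q1982, e3 q1693 L76177 q1260, e3 q1694 L76189 q1601, e3 q1695 L76191 q1261, e3 q1696 L76202 q1696, e3 q1697 L78793 q1985, e3 q1698 L77056 q1805, e3 q1699 L76213 q1638, e3 q1700 L76222 q1466, e3 q1701 L78037 q1906, e3 q1702 L76240 q1275, e3 q1703 L78693 q1974, e3 q1704 L76264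 q1278, e3 q1705 L78707 q1975, e3 q1706 L76277 q1277, e3 q1707 L78025 q1905, e3 q1708 L76296 q1709, e3 q1709 L76295 q1708, e3 q1710 L77115 q1812, e3 q1711 L78838 q1990, e3 q1712 L76317 q1286, e3 q1713 L77335 q1834, e3 q1714 L76983 q1794, e3 q1715 L78157 q1918, e3 q1716 L78849 q1992, e3 q1717 L76348 q1289, e3 q1718 L76353 q1290, e3 q1719 L77254 q1825, e3 q1720 L76372 q1659, e3 q1721 L76953 q1791, e3 q1722 L76387 q1461, e3 q1723 L76396 q1591, e3 q1724 L76662 q1752, e3 q1725 L77447 q1845, e3 q1726 L76418 q1508, e3 q1727 L76421 q1300, trivial⟩ (by decide +kernel)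

theorem ce_f_27 : ∀ r, r < 64 → sm gf (Qf (1728 + r)) = Qf (tab Gen.f (1728 + r)) :=
  edges_tab (sm gf) Qf (tab Gen.f) 1728 [(1728, 1989), (1729, 1645), (1730, 1644), (1731, 1317), (1732, 1312), (1733, 1443), (1734, 1482), (1735, 1999), (1736, 1385), (1737, 1336), (1738, 2001), (1739, 1338), (1740, 1686), (1741, 1324), (1742, 1330), (1743, 1334), (1744, 1818), (1745, 1817), (1746, 1337), (1747, 2003), (1748, 1373), (1749, 1518), (1750, 1341), (1751, 1464), (1752, 1724), (1753, 1785), (1754, 1808), (1755, 1773), (1756, 1504), (1757, 1984), (1758, 1355), (1759, 1981), (1760, 1821), (1761, 1418), (1762, 1419), (1763, 1475), (1764, 1362), (1765, 1767), (1766, 1819), (1767, 1765), (1768, 1820), (1769, 1799), (1770, 2013), (1771, 1366), (1772, 1409), (1773, 1755), (1774, 1411), (1775, 1779), (1776, 1375), (1777, 1933), (1778, 1839), (1779, 1775), (1780, 1781), (1781, 1780), (1782, 2000), (1783, 1917), (1784, 2017), (1785, 1753), (1786, 1388), (1787, 1528), (1788, 1789),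 (1789, 1788), (1790, 1395), (1791, 1721)]
    ⟨e3 q1728 L78835 q1989, e3 q1729 L76442 q1645, e3 q1730 L76454 q1644, e3 q1731 L76464 q1317, e3 q1732 L76470 q1312, e3 q1733 L76485 q1443, e3 q1734 L76494 q1482, e3 q1735 L78937 q1999, e3 q1736 L76510 q1385, e3 q1737 L76518 q1336, e3 q1738 L78956 q2001, e3 q1739 L76540 q1338, e3 q1740 L76552 q1686, e3 q1741 L76557 q1324, e3 q1742 L76569 q1330, e3 q1743 L76584 q1334, e3 q1744 L77182 q1818, e3 q1745 L77166 q1817, e3 q1746 L76603 q1337, e3 q1747 L78980 q2003, e3 q1748 L76616 q1373, e3 q1749 L76629 q1518, e3 q1750 L76634 q1341, e3 q1751 L76647 q1464, e3 q1752 L76661 q1724, e3 q1753 L76894 q1785, e3 q1754 L77076 q1808, e3 q1755 L76804 q1773, e3 q1756 L76685 q1504, e3 q1757 L78789 q1984, e3 q1758 L76695 q1355, e3 q1759 L78765 q1981, e3 q1760 L77210 q1821, e3 q1761 L76707 q1418, e3 q1762 L76715 q1419, e3 q1763 L76723 q1475, e3 q1764 L76731 q1362, e3 q1765 L76761 q1767, e3 q1766 L77190 q1819, e3 q1767 L76760 q1765, e3 q1768 L77199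 q1820, e3 q1769 L77020 q1799, e3 q1770 L79071 q2013, e3 q1771 L76785 q1366, e3 q1772 L76795 q1409, e3 q1773 L76805 q1755, e3 q1774 L76813 q1411, e3 q1775 L76846 q1779, e3 q1776 L76826 q1375, e3 q1777 L78291 q1933, e3 q1778 L77383 q1839, e3 q1779 L76845 q1775, e3 q1780 L76869 q1781, e3 q1781 L76868 q1780, e3 q1782 L78951 q2000, e3 q1783 L78145 q1917, e3 q1784 L79121 q2017, e3 q1785 L76895 q1753, e3 q1786 L76899 q1388, e3 q1787 L76916 q1528, e3 q1788 L76935 q1789, e3 q1789 L76934 q1788, e3 q1790 L76937 q1395, e3 q1791 L76952 q1721, trivial⟩ (by decide +kernel)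

theorem ce_f_28 : ∀ r, r < 64 → sm gf (Qf (1792 + r)) = Qf (tab Gen.f (1792 + r)) :=
  edges_tab (sm gf) Qf (tab Gen.f) 1792 [(1792, 1660), (1793, 1404), (1794, 1714), (1795, 2020), (1796, 1407), (1797, 2012), (1798, 1836), (1799, 1769), (1800, 1800), (1801, 2007), (1802, 1857), (1803, 1416), (1804, 1837), (1805, 1698), (1806, 1869), (1807, 1842), (1808, 1754), (1809, 1422), (1810, 1455), (1811, 1841), (1812, 1710), (1813, 1573), (1814, 2024), (1815, 1436), (1816, 1441), (1817, 1745), (1818, 1744), (1819, 1766), (1820, 1768), (1821, 1760), (1822, 1901), (1823, 1463), (1824, 1452), (1825, 1719), (1826, 1993), (1827, 1897), (1828, 1961), (1829, 1904), (1830, 1465), (1831, 1987), (1832, 1995), (1833, 1469), (1834, 1713), (1835, 1551), (1836, 1798), (1837, 1804), (1838, 1478), (1839, 1778), (1840, 1512), (1841, 1811), (1842, 1807), (1843, 1866), (1844, 2032), (1845, 1725), (1846, 1490), (1847, 1491), (1848, 1516), (1849, 1908), (1850, 1678), (1851, 2022), (1852, 1562),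 (1853, 1505), (1854, 1507), (1855, 1677)]
    ⟨e3 q1792 L76961 q1660, e3 q1793 L76967 q1404, e3 q1794 L76982 q1714, e3 q1795 L79155 q2020, e3 q1796 L76997 q1407, e3 q1797 L79067 q2012, e3 q1798 L77355 q1836, e3 q1799 L77021 q1769, e3 q1800 L77026 q1800, e3 q1801 L79023 q2007, e3 q1802 L77586 q1857, e3 q1803 L77040 q1416, e3 q1804 L77367 q1837, e3 q1805 L77055 q1698, e3 q1806 L77686 q1869, e3 q1807 L77417 q1842, e3 q1808 L77075 q1754, e3 q1809 L77080 q1422, e3 q1810 L77099 q1455, e3 q1811 L77407 q1841, e3 q1812 L77116 q1710, e3 q1813 L77123 q1573, e3 q1814 L79189 q2024, e3 q1815 L77138 q1436, e3 q1816 L77155 q1441, e3 q1817 L77165 q1745, e3 q1818 L77181 q1744, e3 q1819 L77189 q1766, e3 q1820 L77200 q1768, e3 q1821 L77209 q1760, e3 q1822 L77974 q1901, e3 q1823 L77229 q1463, e3 q1824 L77238 q1452, e3 q1825 L77253 q1719, e3 q1826 L78872 q1993, e3 q1827 L77942 q1897, e3 q1828 L78550 q1961, e3 q1829 L78016 q1904, e3 q1830 L77301 q1465, e3 q1831 L78816 q1987, e3 q1832 L78897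 q1995, e3 q1833 L77323 q1469, e3 q1834 L77334 q1713, e3 q1835 L77346 q1551, e3 q1836 L77354 q1798, e3 q1837 L77366 q1804, e3 q1838 L77369 q1478, e3 q1839 L77382 q1778, e3 q1840 L77392 q1512, e3 q1841 L77406 q1811, e3 q1842 L77418 q1807, e3 q1843 L77665 q1866, e3 q1844 L79285 q2032, e3 q1845 L77448 q1725, e3 q1846 L77450 q1490, e3 q1847 L77464 q1491, e3 q1848 L77488 q1516, e3 q1849 L78063 q1908, e3 q1850 L77512 q1678, e3 q1851 L79176 q2022, e3 q1852 L77527 q1562, e3 q1853 L77537 q1505, e3 q1854 L77551 q1507, e3 q1855 L77565 q1677, trivial⟩ (by decide +kernel)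

theorem ce_f_29 : ∀ r, r < 64 → sm gf (Qf (1856 + r)) = Qf (tab Gen.f (1856 + r)) :=
  edges_tab (sm gf) Qf (tab Gen.f) 1856 [(1856, 2033), (1857, 1802), (1858, 1973), (1859, 1972), (1860, 1510), (1861, 2031), (1862, 1530), (1863, 1639), (1864, 2002), (1865, 1522), (1866, 1843), (1867, 2014), (1868, 1537), (1869, 1806), (1870, 1538), (1871, 2037), (1872, 2038), (1873, 1539), (1874, 2041), (1875, 1912), (1876, 1541), (1877, 1878), (1878, 1877), (1879, 1578), (1880, 1543), (1881, 1637), (1882, 1545), (1883, 2028), (1884, 1547), (1885, 2039), (1886, 1549), (1887, 2042), (1888, 2029), (1889, 1894), (1890, 1970), (1891, 1900), (1892, 1555), (1893, 2043), (1894, 1889), (1895, 1557), (1896, 1558), (1897, 1827), (1898, 2034), (1899, 1564), (1900, 1891), (1901, 1822), (1902, 1567), (1903, 1596), (1904, 1829), (1905, 1707), (1906, 1701), (1907, 1571), (1908, 1849), (1909, 1930), (1910, 2040), (1911, 1577), (1912, 1875), (1913, 1913), (1914, 2046), (1915, 1630), (1916, 1996),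 (1917, 1783), (1918, 1715), (1919, 1593)]
    ⟨e3 q1856 L79302 q2033, e3 q1857 L77585 q1802, e3 q1858 L78678 q1973, e3 q1859 L78664 q1972, e3 q1860 L77604 q1510, e3 q1861 L79280 q2031, e3 q1862 L77621 q1530, e3 q1863 L77631 q1639, e3 q1864 L78977 q2002, e3 q1865 L77649 q1522, e3 q1866 L77666 q1843, e3 q1867 L79090 q2014, e3 q1868 L77674 q1537, e3 q1869 L77685 q1806, e3 q1870 L77690 q1538, e3 q1871 L79343 q2037, e3 q1872 L79353 q2038, e3 q1873 L77709 q1539, e3 q1874 L79389 q2041, e3 q1875 L78099 q1912, e3 q1876 L77729 q1541, e3 q1877 L77746 q1878, e3 q1878 L77747 q1877, e3 q1879 L77761 q1578, e3 q1880 L77763 q1543, e3 q1881 L77779 q1637, e3 q1882 L77784 q1545, e3 q1883 L79250 q2028, e3 q1884 L77805 q1547, e3 q1885 L79371 q2039, e3 q1886 L77830 q1549, e3 q1887 L79399 q2042, e3 q1888 L79258 q2029, e3 q1889 L77909 q1894, e3 q1890 L78645 q1970, e3 q1891 L77964 q1900, e3 q1892 L77890 q1555, e3 q1893 L79413 q2043, e3 q1894 L77910 q1889, e3 q1895 L77914 q1557, e3 q1896 L77924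 q1558, e3 q1897 L77941 q1827, e3 q1898 L79314 q2034, e3 q1899 L77950 q1564, e3 q1900 L77963 q1891, e3 q1901 L77973 q1822, e3 q1902 L77982 q1567, e3 q1903 L78004 q1596, e3 q1904 L78015 q1829, e3 q1905 L78026 q1707, e3 q1906 L78038 q1701, e3 q1907 L78042 q1571, e3 q1908 L78064 q1849, e3 q1909 L78265 q1930, e3 q1910 L79387 q2040, e3 q1911 L78084 q1577, e3 q1912 L78100 q1875, e3 q1913 L78109 q1913, e3 q1914 L79453 q2046, e3 q1915 L78128 q1630, e3 q1916 L78909 q1996, e3 q1917 L78144 q1783, e3 q1918 L78158 q1715, e3 q1919 L78160 q1593, trivial⟩ (by decide +kernel)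

theorem ce_f_30 : ∀ r, r < 64 → sm gf (Qf (1920 + r)) = Qf (tab Gen.f (1920 + r)) :=
  edges_tab (sm gf) Qf (tab Gen.f) 1920 [(1920, 1666), (1921, 1691), (1922, 1925), (1923, 1598), (1924, 1599), (1925, 1922), (1926, 1978), (1927, 1931), (1928, 1602), (1929, 1603), (1930, 1909), (1931, 1927), (1932, 1646), (1933, 1777), (1934, 2051), (1935, 2052), (1936, 1612), (1937, 1613), (1938, 1615), (1939, 2047), (1940, 1943), (1941, 1620), (1942, 1622), (1943, 1940), (1944, 1624), (1945, 1950), (1946, 1627), (1947, 1965), (1948, 1631), (1949, 1670), (1950, 1945), (1951, 1986), (1952, 2036), (1953, 1968), (1954, 1998), (1955, 1997), (1956, 2050), (1957, 2054), (1958, 1648), (1959, 1649), (1960, 2004), (1961, 1828), (1962, 1654), (1963, 2035), (1964, 1656), (1965, 1947), (1966, 2044), (1967, 1667), (1968, 1953), (1969, 1676), (1970, 1890), (1971, 1672), (1972, 1859), (1973, 1858), (1974, 1703), (1975, 1705), (1976, 2049), (1977, 1683), (1978, 1926), (1979, 1684), (1980, 1980),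 (1981, 1759), (1982, 1692), (1983, 1983)]
    ⟨e3 q1920 L78178 q1666, e3 q1921 L78191 q1691, e3 q1922 L78224 q1925, e3 q1923 L78203 q1598, e3 q1924 L78209 q1599, e3 q1925 L78225 q1922, e3 q1926 L78733 q1978, e3 q1927 L78276 q1931, e3 q1928 L78247 q1602, e3 q1929 L78253 q1603, e3 q1930 L78264 q1909, e3 q1931 L78277 q1927, e3 q1932 L78280 q1646, e3 q1933 L78290 q1777, e3 q1934 L79516 q2051, e3 q1935 L79528 q2052, e3 q1936 L78321 q1612, e3 q1937 L78327 q1613, e3 q1938 L78333 q1615, e3 q1939 L79473 q2047, e3 q1940 L78390 q1943, e3 q1941 L78363 q1620, e3 q1942 L78371 q1622, e3 q1943 L78391 q1940, e3 q1944 L78393 q1624, e3 q1945 L78455 q1950, e3 q1946 L78417 q1627, e3 q1947 L78590 q1965, e3 q1948 L78430 q1631, e3 q1949 L78441 q1670, e3 q1950 L78456 q1945, e3 q1951 L78805 q1986, e3 q1952 L79336 q2036, e3 q1953 L78621 q1968, e3 q1954 L78927 q1998, e3 q1955 L78915 q1997, e3 q1956 L79511 q2050, e3 q1957 L79556 q2054, e3 q1958 L78519 q1648, e3 q1959 L78523 q1649, e3 q1960 L79001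 q2004, e3 q1961 L78549 q1828, e3 q1962 L78556 q1654, e3 q1963 L79324 q2035, e3 q1964 L78574 q1656, e3 q1965 L78589 q1947, e3 q1966 L79434 q2044, e3 q1967 L78603 q1667, e3 q1968 L78620 q1953, e3 q1969 L78631 q1676, e3 q1970 L78646 q1890, e3 q1971 L78650 q1672, e3 q1972 L78663 q1859, e3 q1973 L78677 q1858, e3 q1974 L78694 q1703, e3 q1975 L78708 q1705, e3 q1976 L79497 q2049, e3 q1977 L78720 q1683, e3 q1978 L78734 q1926, e3 q1979 L78738 q1684, e3 q1980 L78757 q1980, e3 q1981 L78766 q1759, e3 q1982 L78768 q1692, e3 q1983 L78779 q1983, trivial⟩ (by decide +kernel)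

theorem ce_f_31 : ∀ r, r < 64 → sm gf (Qf (1984 + r)) = Qf (tab Gen.f (1984 + r)) :=
  edges_tab (sm gf) Qf (tab Gen.f) 1984 [(1984, 1757), (1985, 1697), (1986, 1951), (1987, 1831), (1988, 1994), (1989, 1728), (1990, 1711), (1991, 2019), (1992, 1716), (1993, 1826), (1994, 1988), (1995, 1832), (1996, 1916), (1997, 1955), (1998, 1954), (1999, 1735), (2000, 1782), (2001, 1738), (2002, 1864), (2003, 1747), (2004, 1960), (2005, 2018), (2006, 2023), (2007, 1801), (2008, 2056), (2009, 2053), (2010, 2026), (2011, 2025), (2012, 1797), (2013, 1770), (2014, 1867), (2015, 2030), (2016, 2048), (2017, 1784), (2018, 2005), (2019, 1991), (2020, 1795), (2021, 2027), (2022, 1851), (2023, 2006), (2024, 1814), (2025, 2011), (2026, 2010), (2027, 2021), (2028, 1883), (2029, 1888), (2030, 2015), (2031, 1861), (2032, 1844), (2033, 1856), (2034, 1898), (2035, 1963), (2036, 1952), (2037, 1871), (2038, 1872), (2039, 1885), (2040, 1910), (2041, 1874), (2042, 1887), (2043, 1893), (2044, 1966),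 (2045, 2045), (2046, 1914), (2047, 1939)]
    ⟨e3 q1984 L78790 q1757, e3 q1985 L78794 q1697, e3 q1986 L78804 q1951, e3 q1987 L78817 q1831, e3 q1988 L78884 q1994, e3 q1989 L78834 q1728, e3 q1990 L78839 q1711, e3 q1991 L79138 q2019, e3 q1992 L78850 q1716, e3 q1993 L78873 q1826, e3 q1994 L78885 q1988, e3 q1995 L78896 q1832, e3 q1996 L78908 q1916, e3 q1997 L78914 q1955, e3 q1998 L78926 q1954, e3 q1999 L78936 q1735, e3 q2000 L78950 q1782, e3 q2001 L78957 q1738, e3 q2002 L78976 q1864, e3 q2003 L78981 q1747, e3 q2004 L79000 q1960, e3 q2005 L79132 q2018, e3 q2006 L79186 q2023, e3 q2007 L79022 q1801, e3 q2008 L79587 q2056, e3 q2009 L79549 q2053, e3 q2010 L79226 q2026, e3 q2011 L79213 q2025, e3 q2012 L79068 q1797, e3 q2013 L79072 q1770, e3 q2014 L79089 q1867, e3 q2015 L79268 q2030, e3 q2016 L79487 q2048, e3 q2017 L79122 q1784, e3 q2018 L79131 q2005, e3 q2019 L79137 q1991, e3 q2020 L79156 q1795, e3 q2021 L79236 q2027, e3 q2022 L79175 q1851, e3 q2023 L79185 q2006, e3 q2024 L79190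 q1814, e3 q2025 L79214 q2011, e3 q2026 L79225 q2010, e3 q2027 L79235 q2021, e3 q2028 L79249 q1883, e3 q2029 L79257 q1888, e3 q2030 L79267 q2015, e3 q2031 L79279 q1861, e3 q2032 L79286 q1844, e3 q2033 L79301 q1856, e3 q2034 L79313 q1898, e3 q2035 L79323 q1963, e3 q2036 L79335 q1952, e3 q2037 L79344 q1871, e3 q2038 L79354 q1872, e3 q2039 L79372 q1885, e3 q2040 L79388 q1910, e3 q2041 L79390 q1874, e3 q2042 L79400 q1887, e3 q2043 L79414 q1893, e3 q2044 L79433 q1966, e3 q2045 L79447 q2045, e3 q2046 L79454 q1914, e3 q2047 L79472 q1939, trivial⟩ (by decide +kernel)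

theorem ce_f_32 : ∀ r, r < 10 → sm gf (Qf (2048 + r)) = Qf (tab Gen.f (2048 + r)) :=
  edges_tab (sm gf) Qf (tab Gen.f) 2048 [(2048, 2016), (2049, 1976), (2050, 1956), (2051, 1934), (2052, 1935), (2053, 2009), (2054, 1957), (2055, 2057), (2056, 2008), (2057, 2055)]
    ⟨e3 q2048 L79486 q2016, e3 q2049 L79496 q1976, e3 q2050 L79510 q1956, e3 q2051 L79517 q1934, e3 q2052 L79529 q1935, e3 q2053 L79548 q2009, e3 q2054 L79557 q1957, e3 q2055 L79598 q2057, e3 q2056 L79588 q2008, e3 q2057 L79597 q2055, trivial⟩ (by decide +kernel)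

theorem cl_f : ∀ i, i < 2058 → sm gf (Qf i) = Qf (tab Gen.f i) :=
  all_of_chunks (fun i => sm gf (Qf i) = Qf (tab Gen.f i)) 32 10
    ⟨ce_f_0, ce_f_1, ce_f_2, ce_f_3, ce_f_4, ce_f_5, ce_f_6, ce_f_7, ce_f_8, ce_f_9, ce_f_10, ce_f_11, ce_f_12, ce_f_13, ce_f_14, ce_f_15, ce_f_16, ce_f_17, ce_f_18, ce_f_19, ce_f_20, ce_f_21, ce_f_22, ce_f_23, ce_f_24, ce_f_25, ce_f_26, ce_f_27, ce_f_28, ce_f_29, ce_f_30, ce_f_31, trivial⟩
    ce_f_32

theorem ce_g_0 : ∀ r, r < 64 → sm gg (Qf (0 + r)) = Qf (tab Gen.g (0 + r)) :=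
  edges_tab (sm gg) Qf (tab Gen.g) 0 [(0, 2), (1, 4), (2, 0), (3, 7), (4, 1), (5, 5), (6, 6), (7, 3), (8, 8), (9, 9), (10, 10), (11, 22), (12, 12), (13, 13), (14, 27), (15, 15), (16, 16), (17, 32), (18, 18), (19, 36), (20, 20), (21, 39), (22, 11), (23, 23), (24, 46), (25, 25), (26, 48), (27, 14), (28, 28), (29, 56), (30, 30), (31, 58), (32, 17), (33, 33), (34, 65), (35, 62), (36, 19), (37, 66), (38, 69), (39, 21), (40, 40), (41, 41), (42, 75), (43, 71), (44, 79), (45, 81), (46, 24), (47, 84), (48, 26), (49, 88), (50, 50), (51, 51), (52, 95), (53, 91), (54, 99), (55, 100), (56, 29), (57, 103), (58, 31), (59, 106), (60, 60), (61, 110), (62, 35), (63, 111)]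
    ⟨e3 q0 L11 q2, e3 q1 L23 q4, e3 q2 L12 q0, e3 q3 L38 q7, e3 q4 L24 q1, e3 q5 L33 q5, e3 q6 L69506 q6, e3 q7 L39 q3, e3 q8 L51 q8, e3 q9 L55 q9, e3 q10 L59 q10, e3 q11 L126 q22, e3 q12 L46363 q12, e3 q13 L46326 q13, e3 q14 L46345 q27, e3 q15 L89 q15, e3 q16 L95 q16, e3 q17 L221 q32, e3 q18 L105 q18, e3 q19 L282 q36, e3 q20 L114 q20, e3 q21 L262 q39, e3 q22 L125 q11, e3 q23 L72167 q23, e3 q24 L312 q46, e3 q25 L70869 q25, e3 q26 L70863 q48, e3 q27 L46346 q14, e3 q28 L196 q28, e3 q29 L450 q56, e3 q30 L207 q30, e3 q31 L465 q58, e3 q32 L220 q17, e3 q33 L224 q33, e3 q34 L503 q65, e3 q35 L494 q62, e3 q36 L281 q19, e3 q37 L514 q66, e3 q38 L529 q69, e3 q39 L261 q21, e3 q40 L275 q40, e3 q41 L43442 q41, e3 q42 L574 q75, e3 q43 L70866 q71, e3 q44 L615 q79, e3 q45 L626 q81, e3 q46 L313 q24, e3 q47 L651 q84, e3 q48 L70862 q26, e3 q49 L666 q88, e3 q50 L48385 q50, e3 q51 L426 q51, e3 q52 L861 q95, e3 q53 L850 q91, e3 q54 L897 q99, e3 q55 L907 q100, e3 q56 L451 q29, e3 q57 L925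 q103, e3 q58 L464 q31, e3 q59 L938 q106, e3 q60 L476 q60, e3 q61 L964 q110, e3 q62 L493 q35, e3 q63 L975 q111, trivial⟩ (by decide +kernel)

theorem ce_g_1 : ∀ r, r < 64 → sm gg (Qf (64 + r)) = Qf (tab Gen.g (64 + r)) :=
  edges_tab (sm gg) Qf (tab Gen.g) 64 [(64, 114), (65, 34), (66, 37), (67, 68), (68, 67), (69, 38), (70, 121), (71, 43), (72, 125), (73, 127), (74, 129), (75, 42), (76, 133), (77, 135), (78, 82), (79, 44), (80, 139), (81, 45), (82, 78), (83, 140), (84, 47), (85, 87), (86, 146), (87, 85), (88, 49), (89, 89), (90, 153), (91, 53), (92, 158), (93, 160), (94, 161), (95, 52), (96, 165), (97, 167), (98, 101), (99, 54), (100, 55), (101, 98), (102, 170), (103, 57), (104, 105), (105, 104), (106, 59), (107, 107), (108, 177), (109, 115), (110, 61), (111, 63), (112, 183), (113, 179), (114, 64), (115, 109), (116, 117), (117, 116), (118, 189), (119, 191), (120, 193), (121, 70), (122, 132), (123, 197), (124, 199), (125, 72), (126, 130), (127, 73)]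
    ⟨e3 q64 L983 q114, e3 q65 L504 q34, e3 q66 L513 q37, e3 q67 L527 q68, e3 q68 L528 q67, e3 q69 L530 q38, e3 q70 L1038 q121, e3 q71 L70867 q43, e3 q72 L1069 q125, e3 q73 L1080 q127, e3 q74 L1092 q129, e3 q75 L575 q42, e3 q76 L1118 q133, e3 q77 L1149 q135, e3 q78 L644 q82, e3 q79 L616 q44, e3 q80 L1172 q139, e3 q81 L627 q45, e3 q82 L643 q78, e3 q83 L72225 q140, e3 q84 L652 q47, e3 q85 L45604 q87, e3 q86 L1251 q146, e3 q87 L45605 q85, e3 q88 L667 q49, e3 q89 L48395 q89, e3 q90 L1657 q153, e3 q91 L849 q53, e3 q92 L1684 q158, e3 q93 L1694 q160, e3 q94 L1706 q161, e3 q95 L862 q52, e3 q96 L1726 q165, e3 q97 L1795 q167, e3 q98 L918 q101, e3 q99 L898 q54, e3 q100 L908 q55, e3 q101 L917 q98, e3 q102 L44535 q170, e3 q103 L926 q57, e3 q104 L44488 q105, e3 q105 L44489 q104, e3 q106 L939 q59, e3 q107 L946 q107, e3 q108 L1939 q177, e3 q109 L1000 q115, e3 q110 L965 q61, e3 q111 L976 q63, e3 q112 L1971 q183, e3 q113 L1964 q179, e3 q114 L984 q64, e3 q115 L999 q109, e3 q116 L1013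 q117, e3 q117 L1012 q116, e3 q118 L2016 q189, e3 q119 L2030 q191, e3 q120 L2046 q193, e3 q121 L1039 q70, e3 q122 L69871 q132, e3 q123 L2115 q197, e3 q124 L2125 q199, e3 q125 L1070 q72, e3 q126 L1111 q130, e3 q127 L1081 q73, trivial⟩ (by decide +kernel)

theorem ce_g_2 : ∀ r, r < 64 → sm gg (Qf (128 + r)) = Qf (tab Gen.g (128 + r)) :=
  edges_tab (sm gg) Qf (tab Gen.g) 128 [(128, 192), (129, 74), (130, 126), (131, 210), (132, 122), (133, 76), (134, 142), (135, 77), (136, 216), (137, 213), (138, 147), (139, 80), (140, 83), (141, 220), (142, 134), (143, 145), (144, 223), (145, 143), (146, 86), (147, 138), (148, 148), (149, 230), (150, 234), (151, 236), (152, 237), (153, 90), (154, 164), (155, 243), (156, 246), (157, 248), (158, 92), (159, 162), (160, 93), (161, 94), (162, 159), (163, 256), (164, 154), (165, 96), (166, 172), (167, 97), (168, 214), (169, 217), (170, 102), (171, 260), (172, 166), (173, 263), (174, 176), (175, 268), (176, 174), (177, 108), (178, 274), (179,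 113), (180, 280), (181, 283), (182, 284), (183, 112), (184, 288), (185, 186), (186, 185), (187, 292), (188, 294), (189, 118), (190, 194), (191, 119)]
    ⟨e3 q128 L70845 q192, e3 q129 L1093 q74, e3 q130 L1110 q126, e3 q131 L2198 q210, e3 q132 L69870 q122, e3 q133 L1119 q76, e3 q134 L1217 q142, e3 q135 L1150 q77, e3 q136 L2314 q216, e3 q137 L2305 q213, e3 q138 L1274 q147, e3 q139 L1173 q80, e3 q140 L72226 q83, e3 q141 L2395 q220, e3 q142 L1216 q134, e3 q143 L69888 q145, e3 q144 L68984 q223, e3 q145 L69887 q143, e3 q146 L1252 q86, e3 q147 L1273 q138, e3 q148 L68358 q148, e3 q149 L2704 q230, e3 q150 L3264 q234, e3 q151 L3278 q236, e3 q152 L3296 q237, e3 q153 L1658 q90, e3 q154 L70358 q164, e3 q155 L3372 q243, e3 q156 L3382 q246, e3 q157 L3390 q248, e3 q158 L1685 q92, e3 q159 L1719 q162, e3 q160 L1695 q93, e3 q161 L1707 q94, e3 q162 L1718 q159, e3 q163 L3457 q256, e3 q164 L70357 q154, e3 q165 L1727 q96, e3 q166 L1879 q172, e3 q167 L1796 q97, e3 q168 L70545 q214, e3 q169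 L70299 q217, e3 q170 L44534 q102, e3 q171 L3646 q260, e3 q172 L1878 q166, e3 q173 L3778 q263, e3 q174 L1937 q176, e3 q175 L3803 q268, e3 q176 L1938 q174, e3 q177 L1940 q108, e3 q178 L3827 q274, e3 q179 L1963 q113, e3 q180 L3855 q280, e3 q181 L3867 q283, e3 q182 L3871 q284, e3 q183 L1972 q112, e3 q184 L3885 q288, e3 q185 L1990 q186, e3 q186 L1989 q185, e3 q187 L3911 q292, e3 q188 L3925 q294, e3 q189 L2017 q118, e3 q190 L2071 q194, e3 q191 L2031 q119, trivial⟩ (by decide +kernel)

theorem ce_g_3 : ∀ r, r < 64 → sm gg (Qf (192 + r)) = Qf (tab Gen.g (192 + r)) :=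
  edges_tab (sm gg) Qf (tab Gen.g) 192 [(192, 128), (193, 120), (194, 190), (195, 209), (196, 201), (197, 123), (198, 307), (199, 124), (200, 304), (201, 196), (202, 315), (203, 298), (204, 299), (205, 211), (206, 320), (207, 321), (208, 327), (209, 195), (210, 131), (211, 205), (212, 333), (213, 137), (214, 168), (215, 336), (216, 136), (217, 169), (218, 229), (219, 228), (220, 141), (221, 224), (222, 332), (223, 144), (224, 221), (225, 335), (226, 337), (227, 346), (228, 219), (229, 218), (230, 149), (231, 350), (232, 353), (233, 355), (234, 150), (235, 238), (236, 151), (237, 152), (238, 235), (239, 255), (240, 364), (241, 367), (242, 369), (243, 155), (244, 374), (245, 250), (246, 156), (247, 375), (248, 157), (249, 370), (250, 245), (251, 334), (252, 338), (253, 383), (254, 386), (255, 239)]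
    ⟨e3 q192 L70844 q128, e3 q193 L2047 q120, e3 q194 L2070 q190, e3 q195 L51625 q209, e3 q196 L2143 q201, e3 q197 L2116 q123, e3 q198 L4112 q307, e3 q199 L2126 q124, e3 q200 L4106 q304, e3 q201 L2142 q196, e3 q202 L4137 q315, e3 q203 L3964 q298, e3 q204 L66243 q299, e3 q205 L2223 q211, e3 q206 L4221 q320, e3 q207 L71499 q321, e3 q208 L4259 q327, e3 q209 L51624 q195, e3 q210 L2199 q131, e3 q211 L2222 q205, e3 q212 L4441 q333, e3 q213 L2304 q137, e3 q214 L70546 q168, e3 q215 L4476 q336, e3 q216 L2315 q136, e3 q217 L70298 q169, e3 q218 L68303 q229, e3 q219 L69363 q228, e3 q220 L2396 q141, e3 q221 L68670 q224, e3 q222 L48940 q332, e3 q223 L68985 q144, e3 q224 L68671 q221, e3 q225 L69618 q335, e3 q226 L70802 q337, e3 q227 L5270 q346, e3 q228 L69362 q219, e3 q229 L68302 q218, e3 q230 L2705 q149, e3 q231 L6477 q350, e3 q232 L6491 q353, e3 q233 L6519 q355, e3 q234 L3265 q150, e3 q235 L3313 q238, e3 q236 L3279 q151, e3 q237 L3297 q152, e3 q238 L3312 q235, e3 q239 L51715 q255,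 e3 q240 L6722 q364, e3 q241 L6734 q367, e3 q242 L6742 q369, e3 q243 L3373 q155, e3 q244 L6760 q374, e3 q245 L3405 q250, e3 q246 L3383 q156, e3 q247 L6765 q375, e3 q248 L3391 q157, e3 q249 L6749 q370, e3 q250 L3404 q245, e3 q251 L70626 q334, e3 q252 L69256 q338, e3 q253 L6860 q383, e3 q254 L6896 q386, e3 q255 L51716 q239, trivial⟩ (by decide +kernel)

theorem ce_g_4 : ∀ r, r < 64 → sm gg (Qf (256 + r)) = Qf (tab Gen.g (256 + r)) :=
  edges_tab (sm gg) Qf (tab Gen.g) 256 [(256, 163), (257, 343), (258, 262), (259, 261), (260, 171), (261, 259), (262, 258), (263, 173), (264, 394), (265, 398), (266, 401), (267, 402), (268, 175), (269, 407), (270, 403), (271, 415), (272, 418), (273, 419), (274, 178), (275, 423), (276, 428), (277, 431), (278, 434), (279, 436), (280, 180), (281, 441), (282, 285), (283, 181), (284, 182), (285, 282), (286, 449), (287, 450), (288, 184), (289, 290), (290, 289), (291, 296), (292, 187), (293, 458), (294, 188), (295, 455), (296, 291), (297, 465),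 (298, 203), (299, 204), (300, 347), (301, 323), (302, 473), (303, 476), (304, 200), (305, 483), (306, 484), (307, 198), (308, 485), (309, 477), (310, 478), (311, 496), (312, 499), (313, 503), (314, 504), (315, 202), (316, 466), (317, 511), (318, 330), (319, 515)]
    ⟨e3 q256 L3458 q163, e3 q257 L69173 q343, e3 q258 L70575 q262, e3 q259 L70637 q261, e3 q260 L3647 q171, e3 q261 L70638 q259, e3 q262 L70576 q258, e3 q263 L3779 q173, e3 q264 L7555 q394, e3 q265 L7575 q398, e3 q266 L7593 q401, e3 q267 L7599 q402, e3 q268 L3804 q175, e3 q269 L7629 q407, e3 q270 L7610 q403, e3 q271 L7669 q415, e3 q272 L7687 q418, e3 q273 L7693 q419, e3 q274 L3828 q178, e3 q275 L7719 q423, e3 q276 L7741 q428, e3 q277 L7757 q431, e3 q278 L7771 q434, e3 q279 L7779 q436, e3 q280 L3856 q180, e3 q281 L7805 q441, e3 q282 L3880 q285, e3 q283 L3868 q181, e3 q284 L3872 q182, e3 q285 L3879 q282, e3 q286 L7830 q449, e3 q287 L7834 q450, e3 q288 L3886 q184, e3 q289 L3899 q290, e3 q290 L3898 q289, e3 q291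 L3948 q296, e3 q292 L3912 q187, e3 q293 L7876 q458, e3 q294 L3926 q188, e3 q295 L7867 q455, e3 q296 L3947 q291, e3 q297 L7918 q465, e3 q298 L3963 q203, e3 q299 L66244 q204, e3 q300 L72267 q347, e3 q301 L66255 q323, e3 q302 L8072 q473, e3 q303 L8195 q476, e3 q304 L4105 q200, e3 q305 L8221 q483, e3 q306 L8225 q484, e3 q307 L4113 q198, e3 q308 L8236 q485, e3 q309 L8201 q477, e3 q310 L8206 q478, e3 q311 L8279 q496, e3 q312 L8293 q499, e3 q313 L8308 q503, e3 q314 L8312 q504, e3 q315 L4138 q202, e3 q316 L7929 q466, e3 q317 L8400 q511, e3 q318 L4280 q330, e3 q319 L8518 q515, trivial⟩ (by decide +kernel)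

theorem ce_g_5 : ∀ r, r < 64 → sm gg (Qf (320 + r)) = Qf (tab Gen.g (320 + r)) :=
  edges_tab (sm gg) Qf (tab Gen.g) 320 [(320, 206), (321, 207), (322, 520), (323, 301), (324, 525), (325, 528), (326, 529), (327, 208), (328, 534), (329, 530), (330, 318), (331, 505), (332, 222), (333, 212), (334, 251), (335, 225), (336, 215), (337, 226), (338, 252), (339, 345), (340, 340), (341, 540), (342, 542), (343, 257), (344, 550), (345, 339), (346, 227), (347, 300), (348, 554), (349, 357), (350, 231), (351, 558), (352, 560), (353, 232), (354, 555), (355, 233), (356, 561), (357, 349), (358, 541), (359, 390), (360, 570), (361, 574), (362, 577), (363, 579), (364, 240), (365, 584), (366, 371), (367, 241), (368, 589), (369, 242), (370, 249), (371, 366), (372, 598), (373, 600), (374, 244), (375, 247), (376, 601), (377, 603), (378, 604), (379, 591), (380, 592), (381, 500), (382, 506), (383, 253)]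
    ⟨e3 q320 L4222 q206, e3 q321 L71500 q207, e3 q322 L8564 q520, e3 q323 L66256 q301, e3 q324 L8610 q525, e3 q325 L8622 q528, e3 q326 L8626 q529, e3 q327 L4260 q208, e3 q328 L8644 q534, e3 q329 L8633 q530, e3 q330 L4279 q318, e3 q331 L43576 q505, e3 q332 L48941 q222, e3 q333 L4442 q212, e3 q334 L70627 q251, e3 q335 L69617 q225, e3 q336 L4477 q215, e3 q337 L70801 q226, e3 q338 L69255 q252, e3 q339 L67431 q345, e3 q340 L67791 q340, e3 q341 L70615 q540, e3 q342 L68705 q542, e3 q343 L69172 q257, e3 q344 L10741 q550, e3 q345 L67430 q339, e3 q346 L5271 q227, e3 q347 L72268 q300, e3 q348 L13058 q554, e3 q349 L53622 q357, e3 q350 L6478 q231, e3 q351 L13106 q558, e3 q352 L13118 q560, e3 q353 L6492 q232, e3 q354 L65823 q555, e3 q355 L6520 q233, e3 q356 L13129 q561, e3 q357 L53623 q349, e3 q358 L69215 q541, e3 q359 L46911 q390, e3 q360 L13292 q570, e3 q361 L13463 q574, e3 q362 L13475 q577, e3 q363 L13483 q579, e3 q364 L6723 q240, e3 q365 L13509 q584, e3 q366 L6755 q371, e3 q367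 L6735 q241, e3 q368 L13525 q589, e3 q369 L6743 q242, e3 q370 L6748 q249, e3 q371 L6754 q366, e3 q372 L13554 q598, e3 q373 L13566 q600, e3 q374 L6761 q244, e3 q375 L6764 q247, e3 q376 L13573 q601, e3 q377 L13587 q603, e3 q378 L13593 q604, e3 q379 L13532 q591, e3 q380 L13536 q592, e3 q381 L57383 q500, e3 q382 L69237 q506, e3 q383 L6861 q253, trivial⟩ (by decide +kernel)

theorem ce_g_6 : ∀ r, r < 64 → sm gg (Qf (384 + r)) = Qf (tab Gen.g (384 + r)) :=
  edges_tab (sm gg) Qf (tab Gen.g) 384 [(384, 616), (385, 617), (386, 254), (387, 622), (388, 618), (389, 389), (390, 359), (391, 519), (392, 628), (393, 629), (394, 264), (395, 524), (396, 635), (397, 637), (398, 265), (399, 641), (400, 404), (401, 266), (402, 267), (403, 270), (404, 400), (405, 652), (406, 653), (407, 269), (408, 645), (409, 646), (410, 660), (411, 664), (412, 666), (413, 669), (414, 521), (415, 271), (416, 674), (417, 420), (418, 272), (419, 273), (420, 417), (421, 682), (422, 683), (423, 275), (424,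 687), (425, 691), (426, 694), (427, 532), (428, 276), (429, 700), (430, 702), (431, 277), (432, 633), (433, 438), (434, 278), (435, 709), (436, 279), (437, 703), (438, 433), (439, 716), (440, 451), (441, 281), (442, 720), (443, 718), (444, 644), (445, 727), (446, 729), (447, 650)]
    ⟨e3 q384 L13813 q616, e3 q385 L13818 q617, e3 q386 L6897 q254, e3 q387 L13840 q622, e3 q388 L13828 q618, e3 q389 L49461 q389, e3 q390 L46910 q359, e3 q391 L71772 q519, e3 q392 L14946 q628, e3 q393 L14952 q629, e3 q394 L7556 q264, e3 q395 L71845 q524, e3 q396 L15002 q635, e3 q397 L15016 q637, e3 q398 L7576 q265, e3 q399 L15060 q641, e3 q400 L7618 q404, e3 q401 L7594 q266, e3 q402 L7600 q267, e3 q403 L7609 q270, e3 q404 L7617 q400, e3 q405 L15123 q652, e3 q406 L15129 q653, e3 q407 L7630 q269, e3 q408 L15087 q645, e3 q409 L15095 q646, e3 q410 L15177 q660, e3 q411 L15215 q664, e3 q412 L15225 q666, e3 q413 L15235 q669, e3 q414 L71985 q521, e3 q415 L7670 q271, e3 q416 L15283 q674, e3 q417 L7706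 q420, e3 q418 L7688 q272, e3 q419 L7694 q273, e3 q420 L7705 q417, e3 q421 L15329 q682, e3 q422 L15337 q683, e3 q423 L7720 q275, e3 q424 L15365 q687, e3 q425 L15381 q691, e3 q426 L15395 q694, e3 q427 L71980 q532, e3 q428 L7742 q276, e3 q429 L15441 q700, e3 q430 L15455 q702, e3 q431 L7758 q277, e3 q432 L41720 q633, e3 q433 L7794 q438, e3 q434 L7772 q278, e3 q435 L15491 q709, e3 q436 L7780 q279, e3 q437 L15468 q703, e3 q438 L7793 q433, e3 q439 L15525 q716, e3 q440 L7843 q451, e3 q441 L7806 q281, e3 q442 L15547 q720, e3 q443 L15544 q718, e3 q444 L15081 q644, e3 q445 L15567 q727, e3 q446 L15585 q729, e3 q447 L41723 q650, trivial⟩ (by decide +kernel)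

theorem ce_g_7 : ∀ r, r < 64 → sm gg (Qf (448 + r)) = Qf (tab Gen.g (448 + r)) :=
  edges_tab (sm gg) Qf (tab Gen.g) 448 [(448, 713), (449, 286), (450, 287), (451, 440), (452, 738), (453, 740), (454, 743), (455, 295), (456, 750), (457, 751), (458, 293), (459, 752), (460, 744), (461, 745), (462, 761), (463, 764), (464, 767), (465, 297), (466, 316), (467, 772), (468, 548), (469, 658), (470, 779), (471, 781), (472, 782), (473, 302), (474, 786), (475, 486), (476, 303), (477, 309), (478, 310), (479, 494), (480, 794), (481, 798), (482, 800), (483, 305), (484, 306), (485, 308), (486, 475), (487, 803), (488, 804), (489, 812), (490, 787), (491, 818), (492, 789), (493, 821), (494, 479), (495, 825), (496, 311), (497, 510), (498, 829), (499, 312), (500, 381), (501, 836), (502, 838), (503, 313), (504, 314), (505, 331), (506, 382), (507, 845), (508, 824), (509, 823), (510, 497), (511, 317)]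
    ⟨e3 q448 L15505 q713, e3 q449 L7831 q286, e3 q450 L7835 q287, e3 q451 L7842 q440, e3 q452 L15634 q738, e3 q453 L15653 q740, e3 q454 L15676 q743, e3 q455 L7866 q295, e3 q456 L15716 q750, e3 q457 L15722 q751, e3 q458 L7877 q293, e3 q459 L15735 q752, e3 q460 L15687 q744, e3 q461 L15695 q745, e3 q462 L15794 q761, e3 q463 L15816 q764, e3 q464 L15842 q767, e3 q465 L7919 q297, e3 q466 L7928 q316, e3 q467 L15900 q772, e3 q468 L67309 q548, e3 q469 L71622 q658, e3 q470 L16116 q779, e3 q471 L16134 q781, e3 q472 L16140 q782, e3 q473 L8073 q302, e3 q474 L16381 q786, e3 q475 L8243 q486, e3 q476 L8196 q303, e3 q477 L8200 q309, e3 q478 L8205 q310, e3 q479 L8272 q494, e3 q480 L16422 q794, e3 q481 L16435 q798, e3 q482 L16439 q800, e3 q483 L8222 q305, e3 q484 L8226 q306, e3 q485 L8235 q308, e3 q486 L8242 q475, e3 q487 L16463 q803, e3 q488 L16468 q804, e3 q489 L16505 q812, e3 q490 L16388 q787, e3 q491 L16547 q818, e3 q492 L16397 q789, e3 q493 L16561 q821, e3 q494 L8273 q479, e3 q495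 L16591 q825, e3 q496 L8280 q311, e3 q497 L52021 q510, e3 q498 L16613 q829, e3 q499 L8294 q312, e3 q500 L57384 q381, e3 q501 L16654 q836, e3 q502 L16658 q838, e3 q503 L8309 q313, e3 q504 L8313 q314, e3 q505 L43577 q331, e3 q506 L69238 q382, e3 q507 L16712 q845, e3 q508 L64504 q824, e3 q509 L51987 q823, e3 q510 L52020 q497, e3 q511 L8401 q317, trivial⟩ (by decide +kernel)

theorem ce_g_8 : ∀ r, r < 64 → sm gg (Qf (512 + r)) = Qf (tab Gen.g (512 + r)) :=
  edges_tab (sm gg) Qf (tab Gen.g) 512 [(512, 851), (513, 549), (514, 773), (515, 319), (516, 857), (517, 627), (518, 626), (519, 391), (520, 322), (521, 414), (522, 634), (523, 632), (524, 395), (525, 324), (526, 864), (527, 531), (528, 325), (529, 326), (530, 329), (531, 527), (532, 427), (533, 663), (534, 328), (535, 686), (536, 868), (537, 679), (538, 810), (539, 840), (540, 341), (541, 358), (542, 342), (543, 543), (544, 544), (545, 545), (546, 765), (547, 832), (548, 468), (549, 513), (550, 344), (551, 882), (552,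 884), (553, 886), (554, 348), (555, 354), (556, 887), (557, 562), (558, 351), (559, 897), (560, 352), (561, 356), (562, 557), (563, 889), (564, 890), (565, 899), (566, 900), (567, 830), (568, 910), (569, 911), (570, 360), (571, 913), (572, 916), (573, 839), (574, 361), (575, 698)]
    ⟨e3 q512 L16820 q851, e3 q513 L50948 q549, e3 q514 L67192 q773, e3 q515 L8519 q319, e3 q516 L17118 q857, e3 q517 L53052 q627, e3 q518 L41884 q626, e3 q519 L71771 q391, e3 q520 L8565 q322, e3 q521 L71986 q414, e3 q522 L71879 q634, e3 q523 L71884 q632, e3 q524 L71846 q395, e3 q525 L8611 q324, e3 q526 L17280 q864, e3 q527 L8639 q531, e3 q528 L8623 q325, e3 q529 L8627 q326, e3 q530 L8632 q329, e3 q531 L8638 q527, e3 q532 L71981 q427, e3 q533 L41300 q663, e3 q534 L8645 q328, e3 q535 L52877 q686, e3 q536 L17297 q868, e3 q537 L71932 q679, e3 q538 L72051 q810, e3 q539 L70796 q840, e3 q540 L70616 q341, e3 q541 L69216 q358, e3 q542 L68706 q342, e3 q543 L49708 q543, e3 q544 L49631 q544, e3 q545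 L67830 q545, e3 q546 L57250 q765, e3 q547 L70723 q832, e3 q548 L67308 q468, e3 q549 L50947 q513, e3 q550 L10742 q344, e3 q551 L24800 q882, e3 q552 L24810 q884, e3 q553 L24822 q886, e3 q554 L13059 q348, e3 q555 L65822 q354, e3 q556 L24833 q887, e3 q557 L13137 q562, e3 q558 L13107 q351, e3 q559 L24886 q897, e3 q560 L13119 q352, e3 q561 L13128 q356, e3 q562 L13136 q557, e3 q563 L65787 q889, e3 q564 L65811 q890, e3 q565 L24899 q899, e3 q566 L24905 q900, e3 q567 L70620 q830, e3 q568 L25203 q910, e3 q569 L25210 q911, e3 q570 L13293 q360, e3 q571 L25627 q913, e3 q572 L25641 q916, e3 q573 L72573 q839, e3 q574 L13464 q361, e3 q575 L41719 q698, trivial⟩ (by decide +kernel)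

theorem ce_g_9 : ∀ r, r < 64 → sm gg (Qf (576 + r)) = Qf (tab Gen.g (576 + r)) :=
  edges_tab (sm gg) Qf (tab Gen.g) 576 [(576, 581), (577, 362), (578, 831), (579, 363), (580, 638), (581, 576), (582, 925), (583, 602), (584, 365), (585, 930), (586, 927), (587, 937), (588, 599), (589, 368), (590, 938), (591, 379), (592, 380), (593, 606), (594, 933), (595, 949), (596, 730), (597, 951), (598, 372), (599, 588), (600, 373), (601, 376), (602, 583), (603, 377), (604, 378), (605, 954), (606, 593), (607, 956), (608, 968), (609, 958), (610, 941), (611, 665), (612, 943), (613, 978), (614, 980), (615, 619), (616, 384), (617, 385), (618, 388), (619, 615), (620, 984), (621, 988), (622, 387), (623, 990), (624, 983), (625, 859), (626, 518), (627, 517), (628, 392), (629, 393), (630, 778), (631, 861), (632, 523), (633, 432), (634, 522), (635, 396), (636, 991), (637, 397), (638, 580), (639, 1009)]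
    ⟨e3 q576 L13498 q581, e3 q577 L13476 q362, e3 q578 L72598 q831, e3 q579 L13484 q363, e3 q580 L15029 q638, e3 q581 L13497 q576, e3 q582 L25705 q925, e3 q583 L13583 q602, e3 q584 L13510 q365, e3 q585 L25727 q930, e3 q586 L25720 q927, e3 q587 L25749 q937, e3 q588 L13562 q599, e3 q589 L13526 q368, e3 q590 L25760 q938, e3 q591 L13531 q379, e3 q592 L13535 q380, e3 q593 L13605 q606, e3 q594 L25765 q933, e3 q595 L25819 q949, e3 q596 L41679 q730, e3 q597 L25835 q951, e3 q598 L13555 q372, e3 q599 L13563 q588, e3 q600 L13567 q373, e3 q601 L13572 q376, e3 q602 L13582 q583, e3 q603 L13586 q377, e3 q604 L13592 q378, e3 q605 L25876 q954, e3 q606 L13604 q593, e3 q607 L25888 q956, e3 q608 L25939 q968, e3 q609 L25898 q958, e3 q610 L25776 q941, e3 q611 L73195 q665, e3 q612 L25784 q943, e3 q613 L26047 q978, e3 q614 L26384 q980, e3 q615 L13835 q619, e3 q616 L13814 q384, e3 q617 L13819 q385, e3 q618 L13827 q388, e3 q619 L13834 q615, e3 q620 L64390 q984, e3 q621 L26426 q988, e3 q622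 L13841 q387, e3 q623 L26471 q990, e3 q624 L72393 q983, e3 q625 L41914 q859, e3 q626 L41885 q518, e3 q627 L53051 q517, e3 q628 L14947 q392, e3 q629 L14953 q393, e3 q630 L42046 q778, e3 q631 L41757 q861, e3 q632 L71885 q523, e3 q633 L41721 q432, e3 q634 L71880 q522, e3 q635 L15003 q396, e3 q636 L41503 q991, e3 q637 L15017 q397, e3 q638 L15028 q580, e3 q639 L28049 q1009, trivial⟩ (by decide +kernel)

theorem ce_g_10 : ∀ r, r < 64 → sm gg (Qf (640 + r)) = Qf (tab Gen.g (640 + r)) :=
  edges_tab (sm gg) Qf (tab Gen.g) 640 [(640, 654), (641, 399), (642, 1013), (643, 1011), (644, 444), (645, 408), (646, 409), (647, 659), (648, 1022), (649, 1023), (650, 447), (651, 776), (652, 405), (653, 406), (654, 640), (655, 780), (656, 973), (657, 775), (658, 469), (659, 647), (660, 410), (661, 873), (662, 1037), (663, 533), (664, 411), (665, 611), (666, 412), (667, 1044), (668, 671), (669, 413), (670, 1041), (671, 668), (672, 1050), (673, 684), (674, 416), (675, 1054), (676, 1052), (677,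 998), (678, 1061), (679, 537), (680, 707), (681, 856), (682, 421), (683, 422), (684, 673), (685, 1068), (686, 535), (687, 424), (688, 1072), (689, 1075), (690, 1077), (691, 425), (692, 1000), (693, 697), (694, 426), (695, 1083), (696, 1078), (697, 693), (698, 575), (699, 704), (700, 429), (701, 1089), (702, 430), (703, 437)]
    ⟨e3 q640 L15144 q654, e3 q641 L15061 q399, e3 q642 L28085 q1013, e3 q643 L28078 q1011, e3 q644 L15080 q444, e3 q645 L15086 q408, e3 q646 L15094 q409, e3 q647 L15175 q659, e3 q648 L28147 q1022, e3 q649 L28161 q1023, e3 q650 L41724 q447, e3 q651 L42073 q776, e3 q652 L15124 q405, e3 q653 L15130 q406, e3 q654 L15143 q640, e3 q655 L41958 q780, e3 q656 L73203 q973, e3 q657 L42145 q775, e3 q658 L71623 q469, e3 q659 L15176 q647, e3 q660 L15178 q410, e3 q661 L52947 q873, e3 q662 L28299 q1037, e3 q663 L41299 q533, e3 q664 L15216 q411, e3 q665 L73194 q611, e3 q666 L15226 q412, e3 q667 L28363 q1044, e3 q668 L15266 q671, e3 q669 L15236 q413, e3 q670 L28352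 q1041, e3 q671 L15265 q668, e3 q672 L28387 q1050, e3 q673 L15356 q684, e3 q674 L15284 q416, e3 q675 L28421 q1054, e3 q676 L28418 q1052, e3 q677 L27940 q998, e3 q678 L28459 q1061, e3 q679 L71933 q537, e3 q680 L41493 q707, e3 q681 L71736 q856, e3 q682 L15330 q421, e3 q683 L15338 q422, e3 q684 L15355 q673, e3 q685 L28533 q1068, e3 q686 L52876 q535, e3 q687 L15366 q424, e3 q688 L28581 q1072, e3 q689 L28599 q1075, e3 q690 L28611 q1077, e3 q691 L15382 q425, e3 q692 L41689 q1000, e3 q693 L15424 q697, e3 q694 L15396 q426, e3 q695 L28655 q1083, e3 q696 L28622 q1078, e3 q697 L15423 q693, e3 q698 L41718 q575, e3 q699 L15478 q704, e3 q700 L15442 q429, e3 q701 L28706 q1089, e3 q702 L15456 q430, e3 q703 L15467 q437, trivial⟩ (by decide +kernel)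

theorem ce_g_11 : ∀ r, r < 64 → sm gg (Qf (704 + r)) = Qf (tab Gen.g (704 + r)) :=
  edges_tab (sm gg) Qf (tab Gen.g) 704 [(704, 699), (705, 919), (706, 731), (707, 680), (708, 1095), (709, 435), (710, 739), (711, 1010), (712, 719), (713, 448), (714, 1101), (715, 732), (716, 439), (717, 1006), (718, 443), (719, 712), (720, 442), (721, 1103), (722, 1107), (723, 1016), (724, 1109), (725, 1113), (726, 1114), (727, 445), (728, 872), (729, 446), (730, 596), (731, 706), (732, 715), (733, 1026), (734, 1121), (735, 1005), (736, 1125), (737, 1126), (738, 452), (739, 710), (740, 453), (741, 1131), (742, 753), (743, 454), (744, 460), (745, 461), (746, 759), (747, 1137), (748, 1140), (749, 1142), (750, 456), (751, 457), (752, 459), (753, 742), (754, 1145), (755, 1146), (756, 849), (757, 816), (758, 1133), (759, 746), (760, 1156), (761, 462), (762, 771), (763, 1160), (764, 463), (765, 546), (766, 1165), (767, 464)]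
    ⟨e3 q704 L15477 q699, e3 q705 L41712 q919, e3 q706 L15609 q731, e3 q707 L41492 q680, e3 q708 L28779 q1095, e3 q709 L15492 q435, e3 q710 L41420 q739, e3 q711 L72469 q1010, e3 q712 L72447 q719, e3 q713 L15506 q448, e3 q714 L28846 q1101, e3 q715 L15619 q732, e3 q716 L15526 q439, e3 q717 L72479 q1006, e3 q718 L15543 q443, e3 q719 L72448 q712, e3 q720 L15548 q442, e3 q721 L28873 q1103, e3 q722 L28902 q1107, e3 q723 L28120 q1016, e3 q724 L28928 q1109, e3 q725 L28944 q1113, e3 q726 L28948 q1114, e3 q727 L15568 q445, e3 q728 L52152 q872, e3 q729 L15586 q446, e3 q730 L41678 q596, e3 q731 L15608 q706, e3 q732 L15618 q715, e3 q733 L28214 q1026, e3 q734 L29065 q1121, e3 q735 L41528 q1005, e3 q736 L29095 q1125, e3 q737 L29100 q1126, e3 q738 L15635 q452, e3 q739 L41419 q710, e3 q740 L15654 q453, e3 q741 L29182 q1131, e3 q742 L15745 q753, e3 q743 L15677 q454, e3 q744 L15686 q460, e3 q745 L15694 q461, e3 q746 L15784 q759, e3 q747 L29232 q1137, e3 q748 L29244 q1140, e3 q749 L29252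 q1142, e3 q750 L15717 q456, e3 q751 L15723 q457, e3 q752 L15734 q459, e3 q753 L15744 q742, e3 q754 L29285 q1145, e3 q755 L29299 q1146, e3 q756 L51930 q849, e3 q757 L52915 q816, e3 q758 L29205 q1133, e3 q759 L15785 q746, e3 q760 L29434 q1156, e3 q761 L15795 q462, e3 q762 L71496 q771, e3 q763 L29474 q1160, e3 q764 L15817 q463, e3 q765 L57251 q546, e3 q766 L29508 q1165, e3 q767 L15843 q464, trivial⟩ (by decide +kernel)

theorem ce_g_12 : ∀ r, r < 64 → sm gg (Qf (768 + r)) = Qf (tab Gen.g (768 + r)) :=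
  edges_tab (sm gg) Qf (tab Gen.g) 768 [(768, 1170), (769, 1155), (770, 1154), (771, 762), (772, 467), (773, 514), (774, 1031), (775, 657), (776, 651), (777, 999), (778, 630), (779, 470), (780, 655), (781, 471), (782, 472), (783, 1182), (784, 1186), (785, 801), (786, 474), (787, 490), (788, 1192), (789, 492), (790, 820), (791, 1194), (792, 1193), (793, 1199), (794, 480), (795, 1202), (796, 1205), (797, 1206), (798, 481), (799, 1210), (800, 482), (801, 785), (802, 806), (803, 487), (804, 488), (805, 811), (806, 802), (807, 909), (808, 959), (809, 874), (810, 538), (811, 805), (812, 489), (813, 815), (814, 1222), (815, 813), (816, 757), (817, 1080), (818, 491), (819, 1229), (820, 790), (821, 493), (822, 1220), (823, 509), (824, 508), (825, 495), (826, 1233), (827, 867), (828, 848), (829, 498), (830, 567), (831, 578)]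
    ⟨e3 q768 L29542 q1170, e3 q769 L64267 q1155, e3 q770 L71483 q1154, e3 q771 L71495 q762, e3 q772 L15901 q467, e3 q773 L67193 q514, e3 q774 L71644 q1031, e3 q775 L42144 q657, e3 q776 L42074 q651, e3 q777 L42026 q999, e3 q778 L42045 q630, e3 q779 L16117 q470, e3 q780 L41957 q655, e3 q781 L16135 q471, e3 q782 L16141 q472, e3 q783 L30642 q1182, e3 q784 L30657 q1186, e3 q785 L64738 q801, e3 q786 L16382 q474, e3 q787 L16387 q490, e3 q788 L30680 q1192, e3 q789 L16396 q492, e3 q790 L16557 q820, e3 q791 L30694 q1194, e3 q792 L64656 q1193, e3 q793 L30725 q1199, e3 q794 L16423 q480, e3 q795 L30752 q1202, e3 q796 L30764 q1205, e3 q797 L30768 q1206, e3 q798 L16436 q481, e3 q799 L30792 q1210, e3 q800 L16440 q482, e3 q801 L64737 q785, e3 q802 L16476 q806, e3 q803 L16462 q487, e3 q804 L16467 q488, e3 q805 L16503 q811, e3 q806 L16475 q802, e3 q807 L25202 q909, e3 q808 L73110 q959, e3 q809 L41141 q874, e3 q810 L72050 q538, e3 q811 L16504 q805, e3 q812 L16506 q489, e3 q813 L16533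 q815, e3 q814 L30900 q1222, e3 q815 L16532 q813, e3 q816 L52914 q757, e3 q817 L52893 q1080, e3 q818 L16548 q491, e3 q819 L30977 q1229, e3 q820 L16558 q790, e3 q821 L16562 q493, e3 q822 L30872 q1220, e3 q823 L51986 q509, e3 q824 L64505 q508, e3 q825 L16592 q495, e3 q826 L31006 q1233, e3 q827 L66002 q867, e3 q828 L66029 q848, e3 q829 L16614 q498, e3 q830 L70621 q567, e3 q831 L72597 q578, trivial⟩ (by decide +kernel)

theorem ce_g_13 : ∀ r, r < 64 → sm gg (Qf (832 + r)) = Qf (tab Gen.g (832 + r)) :=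
  edges_tab (sm gg) Qf (tab Gen.g) 832 [(832, 547), (833, 1247), (834, 1250), (835, 1251), (836, 501), (837, 1254), (838, 502), (839, 573), (840, 539), (841, 1259), (842, 1264), (843, 1266), (844, 1267), (845, 507), (846, 1270), (847, 1271), (848, 828), (849, 756), (850, 1150), (851, 512), (852, 880), (853, 1172), (854, 1173), (855, 1280), (856, 681), (857, 516), (858, 1282), (859, 625), (860, 1122), (861, 631), (862, 917), (863, 1177), (864, 526), (865, 1288), (866, 1286), (867, 827), (868, 536), (869, 1297), (870, 1127), (871, 1298), (872, 728), (873, 661), (874, 809), (875, 1218), (876, 1076), (877, 877), (878, 924), (879, 1100), (880, 852), (881, 923), (882, 551), (883, 888), (884, 552), (885, 896), (886, 553), (887, 556), (888, 883), (889, 563), (890, 564), (891, 986), (892, 901), (893, 1319), (894, 1308), (895, 1326)]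
    ⟨e3 q832 L70724 q547, e3 q833 L31095 q1247, e3 q834 L31107 q1250, e3 q835 L31111 q1251, e3 q836 L16655 q501, e3 q837 L31129 q1254, e3 q838 L16659 q502, e3 q839 L72574 q573, e3 q840 L70795 q539, e3 q841 L31171 q1259, e3 q842 L31213 q1264, e3 q843 L31225 q1266, e3 q844 L31233 q1267, e3 q845 L16713 q507, e3 q846 L31403 q1270, e3 q847 L31451 q1271, e3 q848 L66028 q828, e3 q849 L51929 q756, e3 q850 L51893 q1150, e3 q851 L16821 q512, e3 q852 L50786 q880, e3 q853 L67191 q1172, e3 q854 L67189 q1173, e3 q855 L32109 q1280, e3 q856 L71737 q681, e3 q857 L17119 q516, e3 q858 L32271 q1282, e3 q859 L41915 q625, e3 q860 L72420 q1122, e3 q861 L41758 q631, e3 q862 L71830 q917, e3 q863 L30073 q1177, e3 q864 L17281 q526, e3 q865 L32577 q1288, e3 q866 L32574 q1286, e3 q867 L66001 q827, e3 q868 L17296 q536, e3 q869 L32611 q1297, e3 q870 L72364 q1127, e3 q871 L32733 q1298, e3 q872 L52151 q728, e3 q873 L52948 q661, e3 q874 L41142 q809, e3 q875 L72013 q1218, e3 q876 L73003 q1076, e3 q877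 L67534 q877, e3 q878 L72637 q924, e3 q879 L72639 q1100, e3 q880 L50787 q852, e3 q881 L72832 q923, e3 q882 L24801 q551, e3 q883 L24841 q888, e3 q884 L24811 q552, e3 q885 L65687 q896, e3 q886 L24823 q553, e3 q887 L24832 q556, e3 q888 L24840 q883, e3 q889 L65788 q563, e3 q890 L65810 q564, e3 q891 L73123 q986, e3 q892 L53509 q901, e3 q893 L73324 q1319, e3 q894 L73237 q1308, e3 q895 L73378 q1326, trivial⟩ (by decide +kernel)

theorem ce_g_14 : ∀ r, r < 64 → sm gg (Qf (896 + r)) = Qf (tab Gen.g (896 + r)) :=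
  edges_tab (sm gg) Qf (tab Gen.g) 896 [(896, 885), (897, 559), (898, 1327), (899, 565), (900, 566), (901, 892), (902, 1322), (903, 1312), (904, 1341), (905, 1313), (906, 1329), (907, 1029), (908, 1331), (909, 807), (910, 568), (911, 569), (912, 1166), (913, 571), (914, 1073), (915, 918), (916, 572), (917, 862), (918, 915), (919, 705), (920, 1306), (921, 1239), (922, 1240), (923, 881), (924, 878), (925, 582), (926, 940), (927, 586), (928, 1342), (929, 953), (930, 585), (931, 1361), (932, 945), (933, 594), (934, 1365), (935, 1371), (936, 952), (937, 587), (938, 590), (939, 1372), (940, 926), (941, 610), (942, 1040), (943, 612), (944, 961), (945, 932), (946, 1057), (947, 955), (948, 1350), (949, 595), (950, 1086), (951, 597), (952, 936), (953, 929), (954, 605), (955, 947), (956, 607), (957, 1385), (958, 609), (959, 808)]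
    ⟨e3 q896 L65688 q885, e3 q897 L24887 q559, e3 q898 L73399 q1327, e3 q899 L24898 q565, e3 q900 L24904 q566, e3 q901 L53510 q892, e3 q902 L73356 q1322, e3 q903 L73275 q1312, e3 q904 L73510 q1341, e3 q905 L73285 q1313, e3 q906 L73413 q1329, e3 q907 L73206 q1029, e3 q908 L73429 q1331, e3 q909 L25201 q807, e3 q910 L25204 q568, e3 q911 L25211 q569, e3 q912 L72995 q1166, e3 q913 L25628 q571, e3 q914 L52828 q1073, e3 q915 L25668 q918, e3 q916 L25642 q572, e3 q917 L71829 q862, e3 q918 L25667 q915, e3 q919 L41711 q705, e3 q920 L73221 q1306, e3 q921 L72855 q1239, e3 q922 L73072 q1240, e3 q923 L72831 q881, e3 q924 L72636 q878, e3 q925 L25706 q582, e3 q926 L25772 q940, e3 q927 L25719 q586, e3 q928 L73524 q1342, e3 q929 L25866 q953, e3 q930 L25728 q585, e3 q931 L73654 q1361, e3 q932 L25796 q945, e3 q933 L25766 q594, e3 q934 L73676 q1365, e3 q935 L73700 q1371, e3 q936 L25858 q952, e3 q937 L25750 q587, e3 q938 L25759 q590, e3 q939 L73713 q1372, e3 q940 L25771 q926, e3 q941 L25775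 q610, e3 q942 L73164 q1040, e3 q943 L25783 q612, e3 q944 L25912 q961, e3 q945 L25795 q932, e3 q946 L73155 q1057, e3 q947 L25884 q955, e3 q948 L73586 q1350, e3 q949 L25820 q595, e3 q950 L73122 q1086, e3 q951 L25836 q597, e3 q952 L25857 q936, e3 q953 L25865 q929, e3 q954 L25875 q605, e3 q955 L25883 q947, e3 q956 L25887 q607, e3 q957 L73802 q1385, e3 q958 L25897 q609, e3 q959 L73109 q808, trivial⟩ (by decide +kernel)

theorem ce_g_15 : ∀ r, r < 64 → sm gg (Qf (960 + r)) = Qf (tab Gen.g (960 + r)) :=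
  edges_tab (sm gg) Qf (tab Gen.g) 960 [(960, 1347), (961, 944), (962, 964), (963, 1395), (964, 962), (965, 1398), (966, 1400), (967, 1401), (968, 608), (969, 1317), (970, 1217), (971, 1036), (972, 1149), (973, 656), (974, 1047), (975, 1412), (976, 1414), (977, 1368), (978, 613), (979, 989), (980, 614), (981, 1315), (982, 1416), (983, 624), (984, 620), (985, 987), (986, 891), (987, 985), (988, 621), (989, 979), (990, 623), (991, 636), (992, 1420), (993, 1358), (994, 1425), (995, 1045), (996, 1427), (997, 1014), (998, 677), (999, 777), (1000, 692), (1001, 1249), (1002, 1085), (1003, 1024), (1004, 1241), (1005, 735), (1006, 717), (1007, 1012), (1008, 1025), (1009, 639), (1010, 711), (1011, 643), (1012, 1007), (1013, 642), (1014, 997), (1015, 1091), (1016, 723), (1017, 1108), (1018, 1390), (1019, 1440), (1020, 1444), (1021, 1445), (1022, 648), (1023, 649)]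
    ⟨e3 q960 L73559 q1347, e3 q961 L25911 q944, e3 q962 L25930 q964, e3 q963 L73860 q1395, e3 q964 L25929 q962, e3 q965 L73884 q1398, e3 q966 L73902 q1400, e3 q967 L73906 q1401, e3 q968 L25940 q608, e3 q969 L73315 q1317, e3 q970 L73113 q1217, e3 q971 L73210 q1036, e3 q972 L73112 q1149, e3 q973 L73202 q656, e3 q974 L73100 q1047, e3 q975 L73974 q1412, e3 q976 L73988 q1414, e3 q977 L73691 q1368, e3 q978 L26048 q613, e3 q979 L26441 q989, e3 q980 L26385 q614, e3 q981 L73301 q1315, e3 q982 L74009 q1416, e3 q983 L72392 q624, e3 q984 L64389 q620, e3 q985 L64351 q987, e3 q986 L73124 q891, e3 q987 L64350 q985, e3 q988 L26427 q621, e3 q989 L26440 q979, e3 q990 L26472 q623, e3 q991 L41502 q636, e3 q992 L74035 q1420, e3 q993 L73638 q1358, e3 q994 L74073 q1425, e3 q995 L28368 q1045, e3 q996 L74085 q1427, e3 q997 L28102 q1014, e3 q998 L27939 q677, e3 q999 L42025 q777, e3 q1000 L41688 q692, e3 q1001 L72587 q1249, e3 q1002 L41708 q1085, e3 q1003 L28192 q1024, e3 q1004 L73074 q1241,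 e3 q1005 L41527 q735, e3 q1006 L72478 q717, e3 q1007 L72491 q1012, e3 q1008 L28208 q1025, e3 q1009 L28050 q639, e3 q1010 L72468 q711, e3 q1011 L28077 q643, e3 q1012 L72490 q1007, e3 q1013 L28086 q642, e3 q1014 L28101 q997, e3 q1015 L72509 q1091, e3 q1016 L28119 q723, e3 q1017 L28926 q1108, e3 q1018 L73838 q1390, e3 q1019 L74209 q1440, e3 q1020 L74235 q1444, e3 q1021 L74243 q1445, e3 q1022 L28148 q648, e3 q1023 L28162 q649, trivial⟩ (by decide +kernel)

theorem ce_g_16 : ∀ r, r < 64 → sm gg (Qf (1024 + r)) = Qf (tab Gen.g (1024 + r)) :=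
  edges_tab (sm gg) Qf (tab Gen.g) 1024 [(1024, 1003), (1025, 1008), (1026, 733), (1027, 1099), (1028, 1405), (1029, 907), (1030, 1422), (1031, 774), (1032, 1098), (1033, 1066), (1034, 1461), (1035, 1464), (1036, 971), (1037, 662), (1038, 1469), (1039, 1466), (1040, 942), (1041, 670), (1042, 1475), (1043, 1377), (1044, 667), (1045, 995), (1046, 1474), (1047, 974), (1048, 1408), (1049, 1482), (1050, 672), (1051, 1433), (1052, 676), (1053, 1485), (1054, 675), (1055, 1430), (1056, 1104), (1057, 946), (1058, 1378), (1059, 1489), (1060, 1115), (1061, 678), (1062, 1093), (1063, 1094), (1064, 1495), (1065, 1455), (1066, 1033), (1067, 1255), (1068, 685), (1069, 1499), (1070, 1105), (1071, 1353), (1072, 688), (1073, 914), (1074, 1079), (1075, 689), (1076, 876), (1077, 690), (1078, 696), (1079, 1074), (1080, 817), (1081, 1508), (1082, 1302), (1083, 695), (1084, 1504), (1085, 1002), (1086, 950), (1087, 1493)]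
    ⟨e3 q1024 L28191 q1003, e3 q1025 L28207 q1008, e3 q1026 L28213 q733, e3 q1027 L73051 q1099, e3 q1028 L73934 q1405, e3 q1029 L73207 q907, e3 q1030 L74057 q1422, e3 q1031 L71645 q774, e3 q1032 L73049 q1098, e3 q1033 L28512 q1066, e3 q1034 L74394 q1461, e3 q1035 L74412 q1464, e3 q1036 L73211 q971, e3 q1037 L28300 q662, e3 q1038 L74440 q1469, e3 q1039 L74433 q1466, e3 q1040 L73163 q942, e3 q1041 L28351 q670, e3 q1042 L74488 q1475, e3 q1043 L73743 q1377, e3 q1044 L28364 q667, e3 q1045 L28367 q995, e3 q1046 L74485 q1474, e3 q1047 L73101 q974, e3 q1048 L73959 q1408, e3 q1049 L74537 q1482, e3 q1050 L28388 q672, e3 q1051 L74156 q1433, e3 q1052 L28417 q676, e3 q1053 L74565 q1485, e3 q1054 L28422 q675, e3 q1055 L74119 q1430, e3 q1056 L28877 q1104, e3 q1057 L73156 q946, e3 q1058 L73760 q1378, e3 q1059 L74597 q1489, e3 q1060 L28961 q1115, e3 q1061 L28460 q678, e3 q1062 L72376 q1093, e3 q1063 L72377 q1094, e3 q1064 L74642 q1495, e3 q1065 L74342 q1455, e3 q1066 L28511 q1033,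 e3 q1067 L72937 q1255, e3 q1068 L28534 q685, e3 q1069 L74678 q1499, e3 q1070 L72493 q1105, e3 q1071 L73614 q1353, e3 q1072 L28582 q688, e3 q1073 L52829 q914, e3 q1074 L28630 q1079, e3 q1075 L28600 q689, e3 q1076 L73002 q876, e3 q1077 L28612 q690, e3 q1078 L28621 q696, e3 q1079 L28629 q1074, e3 q1080 L52892 q817, e3 q1081 L74752 q1508, e3 q1082 L73144 q1302, e3 q1083 L28656 q695, e3 q1084 L74729 q1504, e3 q1085 L41709 q1002, e3 q1086 L73121 q950, e3 q1087 L74627 q1493, trivial⟩ (by decide +kernel)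

theorem ce_g_17 : ∀ r, r < 64 → sm gg (Qf (1088 + r)) = Qf (tab Gen.g (1088 + r)) :=
  edges_tab (sm gg) Qf (tab Gen.g) 1088 [(1088, 1096), (1089, 701), (1090, 1221), (1091, 1015), (1092, 1116), (1093, 1062), (1094, 1063), (1095, 708), (1096, 1088), (1097, 1124), (1098, 1032), (1099, 1027), (1100, 879), (1101, 714), (1102, 1523), (1103, 721), (1104, 1056), (1105, 1070), (1106, 1524), (1107, 722), (1108, 1017), (1109, 724), (1110, 1528), (1111, 1402), (1112, 1529), (1113, 725), (1114, 726), (1115, 1060), (1116, 1092), (1117, 1118), (1118, 1117), (1119, 1532), (1120, 1534), (1121, 734), (1122, 860), (1123, 1432), (1124, 1097), (1125, 736), (1126, 737), (1127, 870), (1128, 1540), (1129, 1543), (1130, 1143), (1131, 741), (1132, 1224), (1133, 758), (1134, 1546), (1135, 1545), (1136, 1550), (1137, 747), (1138, 1553), (1139, 1215), (1140, 748), (1141, 1557), (1142, 749), (1143, 1130), (1144, 1148), (1145, 754), (1146, 755), (1147, 1151), (1148, 1144), (1149, 972), (1150,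 850), (1151, 1147)]
    ⟨e3 q1088 L28794 q1096, e3 q1089 L28707 q701, e3 q1090 L72742 q1221, e3 q1091 L72510 q1015, e3 q1092 L29042 q1116, e3 q1093 L72375 q1062, e3 q1094 L72378 q1063, e3 q1095 L28780 q708, e3 q1096 L28793 q1088, e3 q1097 L29085 q1124, e3 q1098 L73048 q1032, e3 q1099 L73050 q1027, e3 q1100 L72638 q879, e3 q1101 L28847 q714, e3 q1102 L74876 q1523, e3 q1103 L28872 q721, e3 q1104 L28876 q1056, e3 q1105 L72492 q1070, e3 q1106 L74895 q1524, e3 q1107 L28903 q722, e3 q1108 L28927 q1017, e3 q1109 L28929 q724, e3 q1110 L74934 q1528, e3 q1111 L73919 q1402, e3 q1112 L74938 q1529, e3 q1113 L28945 q725, e3 q1114 L28949 q726, e3 q1115 L28960 q1060, e3 q1116 L29041 q1092, e3 q1117 L73265 q1118, e3 q1118 L73264 q1117, e3 q1119 L74970 q1532, e3 q1120 L74984 q1534, e3 q1121 L29066 q734, e3 q1122 L72419 q860, e3 q1123 L74144 q1432, e3 q1124 L29084 q1097, e3 q1125 L29096 q736, e3 q1126 L29101 q737, e3 q1127 L72363 q870, e3 q1128 L75039 q1540, e3 q1129 L75055 q1543, e3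 q1130 L64175 q1143, e3 q1131 L29183 q741, e3 q1132 L72778 q1224, e3 q1133 L29204 q758, e3 q1134 L75072 q1546, e3 q1135 L75070 q1545, e3 q1136 L75100 q1550, e3 q1137 L29233 q747, e3 q1138 L75128 q1553, e3 q1139 L64520 q1215, e3 q1140 L29245 q748, e3 q1141 L75160 q1557, e3 q1142 L29253 q749, e3 q1143 L64174 q1130, e3 q1144 L29319 q1148, e3 q1145 L29284 q754, e3 q1146 L29298 q755, e3 q1147 L29341 q1151, e3 q1148 L29318 q1144, e3 q1149 L73111 q972, e3 q1150 L51892 q850, e3 q1151 L29340 q1147, trivial⟩ (by decide +kernel)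

theorem ce_g_18 : ∀ r, r < 64 → sm gg (Qf (1152 + r)) = Qf (tab Gen.g (1152 + r)) :=
  edges_tab (sm gg) Qf (tab Gen.g) 1152 [(1152, 1190), (1153, 1273), (1154, 770), (1155, 769), (1156, 760), (1157, 1565), (1158, 1180), (1159, 1171), (1160, 763), (1161, 1359), (1162, 1573), (1163, 1575), (1164, 1576), (1165, 766), (1166, 912), (1167, 1580), (1168, 1582), (1169, 1583), (1170, 768), (1171, 1159), (1172, 853), (1173, 854), (1174, 1279), (1175, 1536), (1176, 1349), (1177, 863), (1178, 1592), (1179, 1290), (1180, 1158), (1181, 1598), (1182, 783), (1183, 1602), (1184, 1606), (1185, 1607), (1186, 784), (1187, 1608), (1188, 1611), (1189, 1615), (1190, 1152), (1191, 1501), (1192, 788), (1193, 792), (1194, 791), (1195, 1196), (1196, 1195), (1197, 1619), (1198, 1622), (1199, 793), (1200, 1201), (1201, 1200), (1202, 795), (1203, 1629), (1204, 1207), (1205, 796), (1206, 797), (1207, 1204), (1208, 1631), (1209, 1634), (1210, 799), (1211, 1263), (1212, 1216), (1213, 1387), (1214,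 1269), (1215, 1139)]
    ⟨e3 q1152 L73120 q1190, e3 q1153 L72691 q1273, e3 q1154 L71484 q770, e3 q1155 L64266 q769, e3 q1156 L29435 q760, e3 q1157 L75229 q1565, e3 q1158 L72963 q1180, e3 q1159 L64304 q1171, e3 q1160 L29475 q763, e3 q1161 L73644 q1359, e3 q1162 L75280 q1573, e3 q1163 L75298 q1575, e3 q1164 L75304 q1576, e3 q1165 L29509 q766, e3 q1166 L72994 q912, e3 q1167 L75334 q1580, e3 q1168 L75350 q1582, e3 q1169 L75358 q1583, e3 q1170 L29543 q768, e3 q1171 L64303 q1159, e3 q1172 L67190 q853, e3 q1173 L67188 q854, e3 q1174 L67184 q1279, e3 q1175 L75016 q1536, e3 q1176 L73573 q1349, e3 q1177 L30072 q863, e3 q1178 L75452 q1592, e3 q1179 L72794 q1290, e3 q1180 L72964 q1158, e3 q1181 L75650 q1598, e3 q1182 L30643 q783, e3 q1183 L75656 q1602, e3 q1184 L75541 q1606, e3 q1185 L75545 q1607, e3 q1186 L30658 q784, e3 q1187 L75552 q1608, e3 q1188 L75573 q1611, e3 q1189 L75603 q1615, e3 q1190 L73119 q1152, e3 q1191 L74707 q1501, e3 q1192 L30681 q788, e3 q1193 L64655 q792, e3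 q1194 L30695 q791, e3 q1195 L72929 q1196, e3 q1196 L72930 q1195, e3 q1197 L75643 q1619, e3 q1198 L75681 q1622, e3 q1199 L30726 q793, e3 q1200 L72915 q1201, e3 q1201 L72916 q1200, e3 q1202 L30753 q795, e3 q1203 L75727 q1629, e3 q1204 L30787 q1207, e3 q1205 L30765 q796, e3 q1206 L30769 q797, e3 q1207 L30786 q1204, e3 q1208 L75741 q1631, e3 q1209 L75749 q1634, e3 q1210 L30793 q799, e3 q1211 L73128 q1263, e3 q1212 L30826 q1216, e3 q1213 L73823 q1387, e3 q1214 L72907 q1269, e3 q1215 L64521 q1139, trivial⟩ (by decide +kernel)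

theorem ce_g_19 : ∀ r, r < 64 → sm gg (Qf (1216 + r)) = Qf (tab Gen.g (1216 + r)) :=
  edges_tab (sm gg) Qf (tab Gen.g) 1216 [(1216, 1212), (1217, 970), (1218, 875), (1219, 1641), (1220, 822), (1221, 1090), (1222, 814), (1223, 1525), (1224, 1132), (1225, 1226), (1226, 1225), (1227, 1649), (1228, 1351), (1229, 819), (1230, 1642), (1231, 1643), (1232, 1656), (1233, 826), (1234, 1657), (1235, 1292), (1236, 1293), (1237, 1664), (1238, 1314), (1239, 921), (1240, 922), (1241, 1004), (1242, 1521), (1243, 1661), (1244, 1672), (1245, 1675), (1246, 1506), (1247, 833), (1248, 1679), (1249, 1001), (1250, 834), (1251, 835), (1252, 1682), (1253, 1498), (1254, 837), (1255, 1067), (1256, 1686), (1257, 1688), (1258, 1689), (1259, 841), (1260, 1694), (1261, 1646), (1262, 1636), (1263, 1211), (1264, 842), (1265, 1268), (1266, 843), (1267, 844), (1268, 1265), (1269, 1214), (1270, 846), (1271, 847), (1272, 1700), (1273, 1153), (1274, 1303), (1275, 1304), (1276, 1586), (1277, 1595), (1278,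 1587), (1279, 1174)]
    ⟨e3 q1216 L30825 q1212, e3 q1217 L73114 q970, e3 q1218 L72014 q875, e3 q1219 L75792 q1641, e3 q1220 L30871 q822, e3 q1221 L72743 q1090, e3 q1222 L30901 q814, e3 q1223 L74911 q1525, e3 q1224 L72779 q1132, e3 q1225 L30972 q1226, e3 q1226 L30971 q1225, e3 q1227 L75864 q1649, e3 q1228 L73597 q1351, e3 q1229 L30978 q819, e3 q1230 L75806 q1642, e3 q1231 L75817 q1643, e3 q1232 L75903 q1656, e3 q1233 L31005 q826, e3 q1234 L75918 q1657, e3 q1235 L72965 q1292, e3 q1236 L72967 q1293, e3 q1237 L75964 q1664, e3 q1238 L73291 q1314, e3 q1239 L72854 q921, e3 q1240 L73073 q922, e3 q1241 L73075 q1004, e3 q1242 L74863 q1521, e3 q1243 L75940 q1661, e3 q1244 L76022 q1672, e3 q1245 L76048 q1675, e3 q1246 L74747 q1506, e3 q1247 L31096 q833, e3 q1248 L76068 q1679, e3 q1249 L72588 q1001, e3 q1250 L31108 q834, e3 q1251 L31112 q835, e3 q1252 L76096 q1682, e3 q1253 L74674 q1498, e3 q1254 L31130 q837, e3 q1255 L72938 q1067, e3 q1256 L76122 q1686, e3 q1257 L76138 q1688,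 e3 q1258 L76146 q1689, e3 q1259 L31172 q841, e3 q1260 L76184 q1694, e3 q1261 L75845 q1646, e3 q1262 L75766 q1636, e3 q1263 L73127 q1211, e3 q1264 L31214 q842, e3 q1265 L31242 q1268, e3 q1266 L31226 q843, e3 q1267 L31234 q844, e3 q1268 L31241 q1265, e3 q1269 L72908 q1214, e3 q1270 L31404 q846, e3 q1271 L31452 q847, e3 q1272 L76215 q1700, e3 q1273 L72692 q1153, e3 q1274 L72668 q1303, e3 q1275 L72670 q1304, e3 q1276 L75397 q1586, e3 q1277 L75478 q1595, e3 q1278 L75407 q1587, e3 q1279 L67185 q1174, trivial⟩ (by decide +kernel)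

theorem ce_g_20 : ∀ r, r < 64 → sm gg (Qf (1280 + r)) = Qf (tab Gen.g (1280 + r)) :=
  edges_tab (sm gg) Qf (tab Gen.g) 1280 [(1280, 855), (1281, 1520), (1282, 858), (1283, 1352), (1284, 1590), (1285, 1486), (1286, 866), (1287, 1714), (1288, 865), (1289, 1711), (1290, 1179), (1291, 1594), (1292, 1235), (1293, 1236), (1294, 1663), (1295, 1721), (1296, 1722), (1297, 869), (1298, 871), (1299, 1724), (1300, 1502), (1301, 1503), (1302, 1082), (1303, 1274), (1304, 1275), (1305, 1702), (1306, 920), (1307, 1328), (1308, 894), (1309, 1325), (1310, 1318), (1311, 1335), (1312, 903), (1313, 905), (1314, 1238), (1315, 981), (1316, 1332), (1317, 969), (1318, 1310), (1319, 893), (1320, 1496), (1321, 1333), (1322, 902), (1323, 1737), (1324, 1685), (1325, 1309), (1326, 895), (1327, 898), (1328, 1307), (1329, 906), (1330, 1452), (1331, 908), (1332, 1316), (1333, 1321), (1334, 1457), (1335, 1311), (1336, 1338), (1337, 1747), (1338, 1336), (1339, 1749), (1340, 1518), (1341, 904), (1342,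 928), (1343, 1662)]
    ⟨e3 q1280 L32110 q855, e3 q1281 L74851 q1520, e3 q1282 L32272 q858, e3 q1283 L73602 q1352, e3 q1284 L75439 q1590, e3 q1285 L74574 q1486, e3 q1286 L32573 q866, e3 q1287 L76326 q1714, e3 q1288 L32578 q865, e3 q1289 L76313 q1711, e3 q1290 L72795 q1179, e3 q1291 L75471 q1594, e3 q1292 L72966 q1235, e3 q1293 L72968 q1236, e3 q1294 L75962 q1663, e3 q1295 L76376 q1721, e3 q1296 L76380 q1722, e3 q1297 L32612 q869, e3 q1298 L32734 q871, e3 q1299 L76400 q1724, e3 q1300 L74713 q1502, e3 q1301 L74721 q1503, e3 q1302 L73143 q1082, e3 q1303 L72667 q1274, e3 q1304 L72669 q1275, e3 q1305 L76243 q1702, e3 q1306 L73220 q920, e3 q1307 L73409 q1328, e3 q1308 L73236 q894, e3 q1309 L73374 q1325, e3 q1310 L73322 q1318, e3 q1311 L73475 q1335, e3 q1312 L73274 q903, e3 q1313 L73284 q905, e3 q1314 L73290 q1238, e3 q1315 L73300 q981, e3 q1316 L73443 q1332, e3 q1317 L73314 q969, e3 q1318 L73323 q1310, e3 q1319 L73325 q893, e3 q1320 L74663 q1496, e3 q1321 L73455 q1333, e3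 q1322 L73357 q902, e3 q1323 L76525 q1737, e3 q1324 L76120 q1685, e3 q1325 L73375 q1309, e3 q1326 L73379 q895, e3 q1327 L73398 q898, e3 q1328 L73408 q1307, e3 q1329 L73412 q906, e3 q1330 L74316 q1452, e3 q1331 L73428 q908, e3 q1332 L73442 q1316, e3 q1333 L73454 q1321, e3 q1334 L74361 q1457, e3 q1335 L73474 q1311, e3 q1336 L73497 q1338, e3 q1337 L76606 q1747, e3 q1338 L73496 q1336, e3 q1339 L76621 q1749, e3 q1340 L74833 q1518, e3 q1341 L73511 q904, e3 q1342 L73525 q928, e3 q1343 L75952 q1662, trivial⟩ (by decide +kernel)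

theorem ce_g_21 : ∀ r, r < 64 → sm gg (Qf (1344 + r)) = Qf (tab Gen.g (1344 + r)) :=
  edges_tab (sm gg) Qf (tab Gen.g) 1344 [(1344, 1451), (1345, 1569), (1346, 1421), (1347, 960), (1348, 1419), (1349, 1176), (1350, 948), (1351, 1228), (1352, 1283), (1353, 1071), (1354, 1644), (1355, 1729), (1356, 1730), (1357, 1515), (1358, 993), (1359, 1161), (1360, 1374), (1361, 931), (1362, 1748), (1363, 1733), (1364, 1382), (1365, 934), (1366, 1772), (1367, 1381), (1368, 977), (1369, 1774), (1370, 1411), (1371, 935), (1372, 939), (1373, 1765), (1374, 1360), (1375, 1465), (1376, 1472), (1377, 1043), (1378, 1058), (1379, 1512), (1380, 1513), (1381, 1367), (1382, 1364), (1383, 1782), (1384, 1731), (1385, 957), (1386, 1531), (1387, 1213), (1388, 1754), (1389, 1437), (1390, 1018), (1391, 1481), (1392, 1787), (1393, 1788), (1394, 1789), (1395, 963), (1396, 1735), (1397, 1535), (1398, 965), (1399, 1736), (1400, 966), (1401, 967), (1402, 1111), (1403, 1460), (1404, 1463), (1405, 1028),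 (1406, 1471), (1407, 1479)]
    ⟨e3 q1344 L74308 q1451, e3 q1345 L75258 q1569, e3 q1346 L74047 q1421, e3 q1347 L73558 q960, e3 q1348 L74021 q1419, e3 q1349 L73572 q1176, e3 q1350 L73585 q948, e3 q1351 L73598 q1228, e3 q1352 L73601 q1283, e3 q1353 L73613 q1071, e3 q1354 L75833 q1644, e3 q1355 L76445 q1729, e3 q1356 L76457 q1730, e3 q1357 L74807 q1515, e3 q1358 L73637 q993, e3 q1359 L73643 q1161, e3 q1360 L73726 q1374, e3 q1361 L73653 q931, e3 q1362 L76619 q1748, e3 q1363 L76481 q1733, e3 q1364 L73787 q1382, e3 q1365 L73675 q934, e3 q1366 L76790 q1772, e3 q1367 L73776 q1381, e3 q1368 L73690 q977, e3 q1369 L76806 q1774, e3 q1370 L73972 q1411, e3 q1371 L73701 q935, e3 q1372 L73712 q939, e3 q1373 L76738 q1765, e3 q1374 L73725 q1360, e3 q1375 L74425 q1465, e3 q1376 L74471 q1472, e3 q1377 L73744 q1043, e3 q1378 L73759 q1058, e3 q1379 L74785 q1512, e3 q1380 L74793 q1513, e3 q1381 L73775 q1367, e3 q1382 L73786 q1364, e3 q1383 L76872 q1782, e3 q1384 L76467 q1731, e3 q1385 L73803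 q957, e3 q1386 L74959 q1531, e3 q1387 L73822 q1213, e3 q1388 L76674 q1754, e3 q1389 L74192 q1437, e3 q1390 L73839 q1018, e3 q1391 L74536 q1481, e3 q1392 L76910 q1787, e3 q1393 L76920 q1788, e3 q1394 L76928 q1789, e3 q1395 L73861 q963, e3 q1396 L76503 q1735, e3 q1397 L75007 q1535, e3 q1398 L73885 q965, e3 q1399 L76513 q1736, e3 q1400 L73903 q966, e3 q1401 L73907 q967, e3 q1402 L73918 q1111, e3 q1403 L74392 q1460, e3 q1404 L74410 q1463, e3 q1405 L73935 q1028, e3 q1406 L74463 q1471, e3 q1407 L74514 q1479, trivial⟩ (by decide +kernel)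

theorem ce_g_22 : ∀ r, r < 64 → sm gg (Qf (1408 + r)) = Qf (tab Gen.g (1408 + r)) :=
  edges_tab (sm gg) Qf (tab Gen.g) 1408 [(1408, 1048), (1409, 1799), (1410, 1417), (1411, 1370), (1412, 975), (1413, 1415), (1414, 976), (1415, 1413), (1416, 982), (1417, 1410), (1418, 1802), (1419, 1348), (1420, 992), (1421, 1346), (1422, 1030), (1423, 1734), (1424, 1810), (1425, 994), (1426, 1812), (1427, 996), (1428, 1574), (1429, 1674), (1430, 1055), (1431, 1447), (1432, 1123), (1433, 1051), (1434, 1435), (1435, 1434), (1436, 1786), (1437, 1389), (1438, 1768), (1439, 1446), (1440, 1019), (1441, 1819), (1442, 1750), (1443, 1820), (1444, 1020), (1445, 1021), (1446, 1439), (1447, 1431), (1448, 1533), (1449, 1519), (1450, 1793), (1451, 1344), (1452, 1330), (1453, 1522), (1454, 1742), (1455, 1065), (1456, 1509), (1457, 1334), (1458, 1743), (1459, 1826), (1460, 1403), (1461, 1034), (1462, 1701), (1463, 1404), (1464, 1035), (1465, 1375), (1466, 1039), (1467, 1832), (1468, 1776), (1469,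 1038), (1470, 1831), (1471, 1406)]
    ⟨e3 q1408 L73958 q1048, e3 q1409 L77012 q1799, e3 q1410 L74013 q1417, e3 q1411 L73973 q1370, e3 q1412 L73975 q975, e3 q1413 L74003 q1415, e3 q1414 L73989 q976, e3 q1415 L74002 q1413, e3 q1416 L74008 q982, e3 q1417 L74012 q1410, e3 q1418 L77038 q1802, e3 q1419 L74020 q1348, e3 q1420 L74034 q992, e3 q1421 L74046 q1346, e3 q1422 L74056 q1030, e3 q1423 L76497 q1734, e3 q1424 L77089 q1810, e3 q1425 L74074 q994, e3 q1426 L77105 q1812, e3 q1427 L74086 q996, e3 q1428 L75295 q1574, e3 q1429 L76047 q1674, e3 q1430 L74120 q1055, e3 q1431 L74272 q1447, e3 q1432 L74143 q1123, e3 q1433 L74155 q1051, e3 q1434 L74178 q1435, e3 q1435 L74177 q1434, e3 q1436 L76908 q1786, e3 q1437 L74191 q1389, e3 q1438 L76769 q1768, e3 q1439 L74262 q1446, e3 q1440 L74210 q1019, e3 q1441 L77183 q1819, e3 q1442 L76642 q1750, e3 q1443 L77191 q1820, e3 q1444 L74236 q1020, e3 q1445 L74244 q1021, e3 q1446 L74261 q1439, e3 q1447 L74271 q1431, e3 q1448 L74983 q1533, e3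 q1449 L74841 q1519, e3 q1450 L76976 q1793, e3 q1451 L74307 q1344, e3 q1452 L74315 q1330, e3 q1453 L74872 q1522, e3 q1454 L76574 q1742, e3 q1455 L74341 q1065, e3 q1456 L74763 q1509, e3 q1457 L74360 q1334, e3 q1458 L76587 q1743, e3 q1459 L77263 q1826, e3 q1460 L74393 q1403, e3 q1461 L74395 q1034, e3 q1462 L76230 q1701, e3 q1463 L74411 q1404, e3 q1464 L74413 q1035, e3 q1465 L74424 q1375, e3 q1466 L74432 q1039, e3 q1467 L77312 q1832, e3 q1468 L76829 q1776, e3 q1469 L74441 q1038, e3 q1470 L77311 q1831, e3 q1471 L74462 q1406, trivial⟩ (by decide +kernel)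

theorem ce_g_23 : ∀ r, r < 64 → sm gg (Qf (1472 + r)) = Qf (tab Gen.g (1472 + r)) :=
  edges_tab (sm gg) Qf (tab Gen.g) 1472 [(1472, 1376), (1473, 1477), (1474, 1046), (1475, 1042), (1476, 1494), (1477, 1473), (1478, 1836), (1479, 1407), (1480, 1796), (1481, 1391), (1482, 1049), (1483, 1710), (1484, 1500), (1485, 1053), (1486, 1285), (1487, 1511), (1488, 1843), (1489, 1059), (1490, 1505), (1491, 1516), (1492, 1848), (1493, 1087), (1494, 1476), (1495, 1064), (1496, 1320), (1497, 1850), (1498, 1253), (1499, 1069), (1500, 1484), (1501, 1191), (1502, 1300), (1503, 1301), (1504, 1084), (1505, 1490), (1506, 1246), (1507, 1727), (1508, 1081), (1509, 1456), (1510, 1851), (1511, 1487), (1512, 1379), (1513, 1380), (1514, 1847), (1515, 1357), (1516, 1491), (1517, 1763), (1518, 1340), (1519, 1449), (1520, 1281), (1521, 1242), (1522, 1453), (1523, 1102), (1524, 1106), (1525, 1223), (1526, 1790), (1527, 1866), (1528, 1110), (1529, 1112), (1530, 1610), (1531, 1386), (1532, 1119),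 (1533, 1448), (1534, 1120), (1535, 1397)]
    ⟨e3 q1472 L74470 q1376, e3 q1473 L74506 q1477, e3 q1474 L74484 q1046, e3 q1475 L74489 q1042, e3 q1476 L74640 q1494, e3 q1477 L74505 q1473, e3 q1478 L77357 q1836, e3 q1479 L74513 q1407, e3 q1480 L76998 q1796, e3 q1481 L74535 q1391, e3 q1482 L74538 q1049, e3 q1483 L76305 q1710, e3 q1484 L74695 q1500, e3 q1485 L74566 q1053, e3 q1486 L74573 q1285, e3 q1487 L74779 q1511, e3 q1488 L77419 q1843, e3 q1489 L74598 q1059, e3 q1490 L74738 q1505, e3 q1491 L74815 q1516, e3 q1492 L77477 q1848, e3 q1493 L74628 q1087, e3 q1494 L74641 q1476, e3 q1495 L74643 q1064, e3 q1496 L74662 q1320, e3 q1497 L77503 q1850, e3 q1498 L74675 q1253, e3 q1499 L74679 q1069, e3 q1500 L74694 q1484, e3 q1501 L74706 q1191, e3 q1502 L74712 q1300, e3 q1503 L74720 q1301, e3 q1504 L74728 q1084, e3 q1505 L74739 q1490, e3 q1506 L74746 q1246, e3 q1507 L76429 q1727, e3 q1508 L74753 q1081, e3 q1509 L74762 q1456, e3 q1510 L77522 q1851, e3 q1511 L74778 q1487, e3 q1512 L74784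 q1379, e3 q1513 L74792 q1380, e3 q1514 L77473 q1847, e3 q1515 L74806 q1357, e3 q1516 L74814 q1491, e3 q1517 L76726 q1763, e3 q1518 L74832 q1340, e3 q1519 L74840 q1449, e3 q1520 L74850 q1281, e3 q1521 L74862 q1242, e3 q1522 L74873 q1453, e3 q1523 L74877 q1102, e3 q1524 L74894 q1106, e3 q1525 L74910 q1223, e3 q1526 L76947 q1790, e3 q1527 L77655 q1866, e3 q1528 L74935 q1110, e3 q1529 L74939 q1112, e3 q1530 L75571 q1610, e3 q1531 L74958 q1386, e3 q1532 L74971 q1119, e3 q1533 L74982 q1448, e3 q1534 L74985 q1120, e3 q1535 L75006 q1397, trivial⟩ (by decide +kernel)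

theorem ce_g_24 : ∀ r, r < 64 → sm gg (Qf (1536 + r)) = Qf (tab Gen.g (1536 + r)) :=
  edges_tab (sm gg) Qf (tab Gen.g) 1536 [(1536, 1175), (1537, 1537), (1538, 1538), (1539, 1874), (1540, 1128), (1541, 1877), (1542, 1878), (1543, 1129), (1544, 1879), (1545, 1135), (1546, 1134), (1547, 1881), (1548, 1637), (1549, 1887), (1550, 1136), (1551, 1889), (1552, 1554), (1553, 1138), (1554, 1552), (1555, 1893), (1556, 1894), (1557, 1141), (1558, 1579), (1559, 1560), (1560, 1559), (1561, 1625), (1562, 1613), (1563, 1626), (1564, 1639), (1565, 1157), (1566, 1900), (1567, 1596), (1568, 1903), (1569, 1345), (1570, 1905), (1571, 1908), (1572, 1849), (1573, 1162), (1574, 1428), (1575, 1163), (1576, 1164), (1577, 1912), (1578, 1896), (1579, 1558), (1580, 1167), (1581, 1584), (1582, 1168), (1583, 1169), (1584, 1581), (1585, 1752), (1586, 1276), (1587, 1278), (1588, 1704), (1589, 1756), (1590, 1284), (1591, 1917), (1592, 1178), (1593, 1716), (1594, 1291), (1595, 1277), (1596, 1567),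 (1597, 1902), (1598, 1181), (1599, 1922)]
    ⟨e3 q1536 L75015 q1175, e3 q1537 L75026 q1537, e3 q1538 L75034 q1538, e3 q1539 L77714 q1874, e3 q1540 L75040 q1128, e3 q1541 L77736 q1877, e3 q1542 L77742 q1878, e3 q1543 L75056 q1129, e3 q1544 L77755 q1879, e3 q1545 L75071 q1135, e3 q1546 L75073 q1134, e3 q1547 L77778 q1881, e3 q1548 L75772 q1637, e3 q1549 L77837 q1887, e3 q1550 L75101 q1136, e3 q1551 L77859 q1889, e3 q1552 L75149 q1554, e3 q1553 L75129 q1138, e3 q1554 L75148 q1552, e3 q1555 L77895 q1893, e3 q1556 L77905 q1894, e3 q1557 L75161 q1141, e3 q1558 L75332 q1579, e3 q1559 L75191 q1560, e3 q1560 L75190 q1559, e3 q1561 L75708 q1625, e3 q1562 L75595 q1613, e3 q1563 L75718 q1626, e3 q1564 L75787 q1639, e3 q1565 L75228 q1157, e3 q1566 L77966 q1900, e3 q1567 L75488 q1596, e3 q1568 L77993 q1903, e3 q1569 L75259 q1345, e3 q1570 L78017 q1905, e3 q1571 L78055 q1908, e3 q1572 L77501 q1849, e3 q1573 L75281 q1162, e3 q1574 L75294 q1428, e3 q1575 L75299 q1163, e3 q1576 L75305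 q1164, e3 q1577 L78093 q1912, e3 q1578 L77932 q1896, e3 q1579 L75333 q1558, e3 q1580 L75335 q1167, e3 q1581 L75379 q1584, e3 q1582 L75351 q1168, e3 q1583 L75359 q1169, e3 q1584 L75378 q1581, e3 q1585 L76664 q1752, e3 q1586 L75396 q1276, e3 q1587 L75406 q1278, e3 q1588 L76267 q1704, e3 q1589 L76688 q1756, e3 q1590 L75438 q1284, e3 q1591 L78138 q1917, e3 q1592 L75453 q1178, e3 q1593 L76345 q1716, e3 q1594 L75472 q1291, e3 q1595 L75477 q1277, e3 q1596 L75487 q1567, e3 q1597 L77989 q1902, e3 q1598 L75649 q1181, e3 q1599 L78201 q1922, trivial⟩ (by decide +kernel)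

theorem ce_g_25 : ∀ r, r < 64 → sm gg (Qf (1600 + r)) = Qf (tab Gen.g (1600 + r)) :=
  edges_tab (sm gg) Qf (tab Gen.g) 1600 [(1600, 1925), (1601, 1921), (1602, 1183), (1603, 1927), (1604, 1931), (1605, 1609), (1606, 1184), (1607, 1185), (1608, 1187), (1609, 1605), (1610, 1530), (1611, 1188), (1612, 1934), (1613, 1562), (1614, 1852), (1615, 1189), (1616, 1617), (1617, 1616), (1618, 1621), (1619, 1197), (1620, 1940), (1621, 1618), (1622, 1198), (1623, 1943), (1624, 1693), (1625, 1561), (1626, 1563), (1627, 1945), (1628, 1635), (1629, 1203), (1630, 1783), (1631, 1208), (1632, 1653), (1633, 1950), (1634, 1209), (1635, 1628), (1636, 1262), (1637, 1548), (1638, 1794), (1639, 1564), (1640, 1673), (1641, 1219), (1642, 1230), (1643, 1231), (1644, 1354), (1645, 1821), (1646, 1261), (1647, 1651), (1648, 1957), (1649, 1227), (1650, 1695), (1651, 1647), (1652, 1953), (1653, 1632), (1654, 1963), (1655, 1863), (1656, 1232), (1657, 1234), (1658, 1965), (1659, 1966), (1660, 1669),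 (1661, 1243), (1662, 1343), (1663, 1294)]
    ⟨e3 q1600 L78216 q1925, e3 q1601 L78189 q1921, e3 q1602 L75655 q1183, e3 q1603 L78245 q1927, e3 q1604 L78268 q1931, e3 q1605 L75564 q1609, e3 q1606 L75542 q1184, e3 q1607 L75546 q1185, e3 q1608 L75551 q1187, e3 q1609 L75563 q1605, e3 q1610 L75572 q1530, e3 q1611 L75574 q1188, e3 q1612 L78306 q1934, e3 q1613 L75596 q1562, e3 q1614 L77530 q1852, e3 q1615 L75604 q1189, e3 q1616 L75626 q1617, e3 q1617 L75625 q1616, e3 q1618 L75676 q1621, e3 q1619 L75644 q1197, e3 q1620 L78360 q1940, e3 q1621 L75675 q1618, e3 q1622 L75682 q1198, e3 q1623 L78380 q1943, e3 q1624 L76182 q1693, e3 q1625 L75707 q1561, e3 q1626 L75717 q1563, e3 q1627 L78414 q1945, e3 q1628 L75758 q1635, e3 q1629 L75728 q1203, e3 q1630 L76883 q1783, e3 q1631 L75742 q1208, e3 q1632 L75892 q1653, e3 q1633 L78447 q1950, e3 q1634 L75750 q1209, e3 q1635 L75757 q1628, e3 q1636 L75765 q1262, e3 q1637 L75771 q1548, e3 q1638 L76985 q1794, e3 q1639 L75786 q1564, e3 q1640 L76036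 q1673, e3 q1641 L75793 q1219, e3 q1642 L75805 q1230, e3 q1643 L75816 q1231, e3 q1644 L75832 q1354, e3 q1645 L77212 q1821, e3 q1646 L75844 q1261, e3 q1647 L75879 q1651, e3 q1648 L78514 q1957, e3 q1649 L75865 q1227, e3 q1650 L76196 q1695, e3 q1651 L75878 q1647, e3 q1652 L78482 q1953, e3 q1653 L75891 q1632, e3 q1654 L78563 q1963, e3 q1655 L77634 q1863, e3 q1656 L75904 q1232, e3 q1657 L75917 q1234, e3 q1658 L78592 q1965, e3 q1659 L78596 q1966, e3 q1660 L76007 q1669, e3 q1661 L75941 q1243, e3 q1662 L75953 q1343, e3 q1663 L75963 q1294, trivial⟩ (by decide +kernel)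

theorem ce_g_26 : ∀ r, r < 64 → sm gg (Qf (1664 + r)) = Qf (tab Gen.g (1664 + r)) :=
  edges_tab (sm gg) Qf (tab Gen.g) 1664 [(1664, 1237), (1665, 1865), (1666, 1706), (1667, 1888), (1668, 1792), (1669, 1660), (1670, 1890), (1671, 1970), (1672, 1244), (1673, 1640), (1674, 1429), (1675, 1245), (1676, 1856), (1677, 1846), (1678, 1974), (1679, 1248), (1680, 1975), (1681, 1703), (1682, 1252), (1683, 1978), (1684, 1741), (1685, 1324), (1686, 1256), (1687, 1690), (1688, 1257), (1689, 1258), (1690, 1687), (1691, 1944), (1692, 1956), (1693, 1624), (1694, 1260), (1695, 1650), (1696, 1984), (1697, 1697), (1698, 1859), (1699, 1987), (1700, 1272), (1701, 1462), (1702, 1305), (1703, 1681), (1704, 1588), (1705, 1920), (1706, 1666), (1707, 1829), (1708, 1708), (1709, 1709), (1710, 1483), (1711, 1289), (1712, 1718), (1713, 1991), (1714, 1287), (1715, 1715), (1716, 1593), (1717, 1919), (1718, 1712), (1719, 1993), (1720, 1994), (1721, 1295), (1722, 1296), (1723, 1960), (1724, 1299),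 (1725, 1853), (1726, 1854), (1727, 1507)]
    ⟨e3 q1664 L75965 q1237, e3 q1665 L77652 q1865, e3 q1666 L76283 q1706, e3 q1667 L77857 q1888, e3 q1668 L76962 q1792, e3 q1669 L76006 q1660, e3 q1670 L77877 q1890, e3 q1671 L78637 q1970, e3 q1672 L76023 q1244, e3 q1673 L76037 q1640, e3 q1674 L76046 q1429, e3 q1675 L76049 q1245, e3 q1676 L77576 q1856, e3 q1677 L77461 q1846, e3 q1678 L78683 q1974, e3 q1679 L76069 q1248, e3 q1680 L78697 q1975, e3 q1681 L76251 q1703, e3 q1682 L76097 q1252, e3 q1683 L78727 q1978, e3 q1684 L76565 q1741, e3 q1685 L76121 q1324, e3 q1686 L76123 q1256, e3 q1687 L76165 q1690, e3 q1688 L76139 q1257, e3 q1689 L76147 q1258, e3 q1690 L76164 q1687, e3 q1691 L78401 q1944, e3 q1692 L78505 q1956, e3 q1693 L76183 q1624, e3 q1694 L76185 q1260, e3 q1695 L76197 q1650, e3 q1696 L78781 q1984, e3 q1697 L76205 q1697, e3 q1698 L77600 q1859, e3 q1699 L78810 q1987, e3 q1700 L76216 q1272, e3 q1701 L76229 q1462, e3 q1702 L76242 q1305, e3 q1703 L76250 q1681, e3 q1704 L76266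 q1588, e3 q1705 L78181 q1920, e3 q1706 L76282 q1666, e3 q1707 L77299 q1829, e3 q1708 L76289 q1708, e3 q1709 L76297 q1709, e3 q1710 L76304 q1483, e3 q1711 L76312 q1289, e3 q1712 L76361 q1718, e3 q1713 L78845 q1991, e3 q1714 L76327 q1287, e3 q1715 L76333 q1715, e3 q1716 L76344 q1593, e3 q1717 L78166 q1919, e3 q1718 L76360 q1712, e3 q1719 L78862 q1993, e3 q1720 L78876 q1994, e3 q1721 L76377 q1295, e3 q1722 L76381 q1296, e3 q1723 L78539 q1960, e3 q1724 L76401 q1299, e3 q1725 L77540 q1853, e3 q1726 L77554 q1854, e3 q1727 L76428 q1507, trivial⟩ (by decide +kernel)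

theorem ce_g_27 : ∀ r, r < 64 → sm gg (Qf (1728 + r)) = Qf (tab Gen.g (1728 + r)) :=
  edges_tab (sm gg) Qf (tab Gen.g) 1728 [(1728, 1728), (1729, 1355), (1730, 1356), (1731, 1384), (1732, 1739), (1733, 1363), (1734, 1423), (1735, 1396), (1736, 1399), (1737, 1323), (1738, 1977), (1739, 1732), (1740, 1979), (1741, 1684), (1742, 1454), (1743, 1458), (1744, 1766), (1745, 2002), (1746, 1864), (1747, 1337), (1748, 1362), (1749, 1339), (1750, 1442), (1751, 1823), (1752, 1585), (1753, 1808), (1754, 1388), (1755, 1807), (1756, 1589), (1757, 1913), (1758, 1954), (1759, 1997), (1760, 1998), (1761, 1773), (1762, 1803), (1763, 1517), (1764, 1775), (1765, 1373), (1766, 1744), (1767, 1779), (1768, 1438), (1769, 2012), (1770, 1911), (1771, 1797), (1772, 1366), (1773, 1761), (1774, 1369), (1775, 1764), (1776, 1468), (1777, 1861), (1778, 1862), (1779, 1767), (1780, 2000), (1781, 1999), (1782, 1383), (1783, 1630), (1784, 2006), (1785, 1815), (1786, 1436), (1787, 1392), (1788, 1393),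 (1789, 1394), (1790, 1526), (1791, 1825)]
    ⟨e3 q1728 L76436 q1728, e3 q1729 L76444 q1355, e3 q1730 L76456 q1356, e3 q1731 L76466 q1384, e3 q1732 L76543 q1739, e3 q1733 L76480 q1363, e3 q1734 L76496 q1423, e3 q1735 L76502 q1396, e3 q1736 L76512 q1399, e3 q1737 L76524 q1323, e3 q1738 L78725 q1977, e3 q1739 L76542 q1732, e3 q1740 L78746 q1979, e3 q1741 L76564 q1684, e3 q1742 L76575 q1454, e3 q1743 L76586 q1458, e3 q1744 L76752 q1766, e3 q1745 L78970 q2002, e3 q1746 L77640 q1864, e3 q1747 L76607 q1337, e3 q1748 L76620 q1362, e3 q1749 L76622 q1339, e3 q1750 L76641 q1442, e3 q1751 L77232 q1823, e3 q1752 L76663 q1585, e3 q1753 L77078 q1808, e3 q1754 L76673 q1388, e3 q1755 L77066 q1807, e3 q1756 L76687 q1589, e3 q1757 L78111 q1913, e3 q1758 L78491 q1954, e3 q1759 L78917 q1997, e3 q1760 L78929 q1998, e3 q1761 L76801 q1773, e3 q1762 L77046 q1803, e3 q1763 L76725 q1517, e3 q1764 L76822 q1775, e3 q1765 L76737 q1373, e3 q1766 L76751 q1744, e3 q1767 L76848 q1779, e3 q1768 L76768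 q1438, e3 q1769 L79059 q2012, e3 q1770 L78091 q1911, e3 q1771 L77006 q1797, e3 q1772 L76791 q1366, e3 q1773 L76800 q1761, e3 q1774 L76807 q1369, e3 q1775 L76821 q1764, e3 q1776 L76830 q1468, e3 q1777 L77614 q1861, e3 q1778 L77624 q1862, e3 q1779 L76847 q1767, e3 q1780 L78953 q2000, e3 q1781 L78939 q1999, e3 q1782 L76873 q1383, e3 q1783 L76882 q1630, e3 q1784 L79011 q2006, e3 q1785 L77146 q1815, e3 q1786 L76909 q1436, e3 q1787 L76911 q1392, e3 q1788 L76921 q1393, e3 q1789 L76929 q1394, e3 q1790 L76946 q1526, e3 q1791 L77262 q1825, trivial⟩ (by decide +kernel)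

theorem ce_g_28 : ∀ r, r < 64 → sm gg (Qf (1792 + r)) = Qf (tab Gen.g (1792 + r)) :=
  edges_tab (sm gg) Qf (tab Gen.g) 1792 [(1792, 1668), (1793, 1450), (1794, 1638), (1795, 1837), (1796, 1480), (1797, 1771), (1798, 1804), (1799, 1409), (1800, 1841), (1801, 1801), (1802, 1418), (1803, 1762), (1804, 1798), (1805, 1860), (1806, 2007), (1807, 1755), (1808, 1753), (1809, 1824), (1810, 1424), (1811, 1980), (1812, 1426), (1813, 1907), (1814, 2017), (1815, 1785), (1816, 2011), (1817, 2003), (1818, 2025), (1819, 1441), (1820, 1443), (1821, 1645), (1822, 1988), (1823, 1751), (1824, 1809), (1825, 1791), (1826, 1459), (1827, 1891), (1828, 1968), (1829, 1707), (1830, 1833), (1831, 1470), (1832, 1467), (1833, 1830), (1834, 2027), (1835, 1895), (1836, 1478), (1837, 1795), (1838, 2020), (1839, 1840), (1840, 1839), (1841, 1800), (1842, 1857), (1843, 1488), (1844, 1952), (1845, 1855), (1846, 1677), (1847, 1514), (1848, 1492), (1849, 1572), (1850, 1497), (1851, 1510), (1852, 1614),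 (1853, 1725), (1854, 1726), (1855, 1845)]
    ⟨e3 q1792 L76963 q1668, e3 q1793 L76977 q1450, e3 q1794 L76984 q1638, e3 q1795 L77365 q1837, e3 q1796 L76999 q1480, e3 q1797 L77007 q1771, e3 q1798 L77052 q1804, e3 q1799 L77013 q1409, e3 q1800 L77409 q1841, e3 q1801 L77030 q1801, e3 q1802 L77037 q1418, e3 q1803 L77045 q1762, e3 q1804 L77051 q1798, e3 q1805 L77607 q1860, e3 q1806 L79025 q2007, e3 q1807 L77065 q1755, e3 q1808 L77077 q1753, e3 q1809 L77246 q1824, e3 q1810 L77090 q1424, e3 q1811 L78759 q1980, e3 q1812 L77106 q1426, e3 q1813 L78052 q1907, e3 q1814 L79118 q2017, e3 q1815 L77145 q1785, e3 q1816 L79056 q2011, e3 q1817 L78991 q2003, e3 q1818 L79203 q2025, e3 q1819 L77184 q1441, e3 q1820 L77192 q1443, e3 q1821 L77211 q1645, e3 q1822 L78827 q1988, e3 q1823 L77231 q1751, e3 q1824 L77245 q1809, e3 q1825 L77261 q1791, e3 q1826 L77264 q1459, e3 q1827 L77887 q1891, e3 q1828 L78623 q1968, e3 q1829 L77298 q1707, e3 q1830 L77331 q1833, e3 q1831 L77310 q1470, e3 q1832 L77313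 q1467, e3 q1833 L77330 q1830, e3 q1834 L79238 q2027, e3 q1835 L77920 q1895, e3 q1836 L77356 q1478, e3 q1837 L77364 q1795, e3 q1838 L79152 q2020, e3 q1839 L77395 q1840, e3 q1840 L77394 q1839, e3 q1841 L77408 q1800, e3 q1842 L77588 q1857, e3 q1843 L77420 q1488, e3 q1844 L78470 q1952, e3 q1845 L77568 q1855, e3 q1846 L77462 q1677, e3 q1847 L77474 q1514, e3 q1848 L77478 q1492, e3 q1849 L77502 q1572, e3 q1850 L77504 q1497, e3 q1851 L77521 q1510, e3 q1852 L77529 q1614, e3 q1853 L77539 q1725, e3 q1854 L77553 q1726, e3 q1855 L77567 q1845, trivial⟩ (by decide +kernel)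

theorem ce_g_29 : ∀ r, r < 64 → sm gg (Qf (1856 + r)) = Qf (tab Gen.g (1856 + r)) :=
  edges_tab (sm gg) Qf (tab Gen.g) 1856 [(1856, 1676), (1857, 1842), (1858, 2033), (1859, 1698), (1860, 1805), (1861, 1777), (1862, 1778), (1863, 1655), (1864, 1746), (1865, 1665), (1866, 1527), (1867, 1933), (1868, 1870), (1869, 1869), (1870, 1868), (1871, 1883), (1872, 1885), (1873, 2039), (1874, 1539), (1875, 2040), (1876, 1880), (1877, 1541), (1878, 1542), (1879, 1544), (1880, 1876), (1881, 1547), (1882, 1884), (1883, 1871), (1884, 1882), (1885, 1872), (1886, 2037), (1887, 1549), (1888, 1667), (1889, 1551), (1890, 1670), (1891, 1827), (1892, 1967), (1893, 1555), (1894, 1556), (1895, 1835), (1896, 1578), (1897, 1906), (1898, 1935), (1899, 1964), (1900, 1566), (1901, 2044), (1902, 1597), (1903, 1568), (1904, 1995), (1905, 1570), (1906, 1897), (1907, 1813), (1908, 1571), (1909, 1973), (1910, 2013), (1911, 1770), (1912, 1577), (1913, 1757), (1914, 1914), (1915, 2004), (1916, 2048),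 (1917, 1591), (1918, 1918), (1919, 1717)]
    ⟨e3 q1856 L77575 q1676, e3 q1857 L77587 q1842, e3 q1858 L79304 q2033, e3 q1859 L77599 q1698, e3 q1860 L77608 q1805, e3 q1861 L77613 q1777, e3 q1862 L77623 q1778, e3 q1863 L77633 q1655, e3 q1864 L77639 q1746, e3 q1865 L77651 q1665, e3 q1866 L77656 q1527, e3 q1867 L78293 q1933, e3 q1868 L77699 q1870, e3 q1869 L77682 q1869, e3 q1870 L77698 q1868, e3 q1871 L77803 q1883, e3 q1872 L77827 q1885, e3 q1873 L79363 q2039, e3 q1874 L77715 q1539, e3 q1875 L79384 q2040, e3 q1876 L77769 q1880, e3 q1877 L77737 q1541, e3 q1878 L77743 q1542, e3 q1879 L77754 q1544, e3 q1880 L77768 q1876, e3 q1881 L77777 q1547, e3 q1882 L77814 q1884, e3 q1883 L77802 q1871, e3 q1884 L77813 q1882, e3 q1885 L77828 q1872, e3 q1886 L79350 q2037, e3 q1887 L77838 q1549, e3 q1888 L77858 q1667, e3 q1889 L77860 q1551, e3 q1890 L77878 q1670, e3 q1891 L77888 q1827, e3 q1892 L78610 q1967, e3 q1893 L77896 q1555, e3 q1894 L77906 q1556, e3 q1895 L77919 q1835, e3 q1896 L77931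 q1578, e3 q1897 L78039 q1906, e3 q1898 L78317 q1935, e3 q1899 L78582 q1964, e3 q1900 L77965 q1566, e3 q1901 L79436 q2044, e3 q1902 L77990 q1597, e3 q1903 L77994 q1568, e3 q1904 L78899 q1995, e3 q1905 L78018 q1570, e3 q1906 L78040 q1897, e3 q1907 L78051 q1813, e3 q1908 L78056 q1571, e3 q1909 L78680 q1973, e3 q1910 L79082 q2013, e3 q1911 L78092 q1770, e3 q1912 L78094 q1577, e3 q1913 L78110 q1757, e3 q1914 L78120 q1914, e3 q1915 L79003 q2004, e3 q1916 L79478 q2048, e3 q1917 L78139 q1591, e3 q1918 L78154 q1918, e3 q1919 L78167 q1717, trivial⟩ (by decide +kernel)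

theorem ce_g_30 : ∀ r, r < 64 → sm gg (Qf (1920 + r)) = Qf (tab Gen.g (1920 + r)) :=
  edges_tab (sm gg) Qf (tab Gen.g) 1920 [(1920, 1705), (1921, 1601), (1922, 1599), (1923, 1924), (1924, 1923), (1925, 1600), (1926, 2049), (1927, 1603), (1928, 1929), (1929, 1928), (1930, 1969), (1931, 1604), (1932, 1959), (1933, 1867), (1934, 1612), (1935, 1898), (1936, 2034), (1937, 1938), (1938, 1937), (1939, 2016), (1940, 1620), (1941, 1942), (1942, 1941), (1943, 1623), (1944, 1691), (1945, 1627), (1946, 1948), (1947, 1961), (1948, 1946), (1949, 1971), (1950, 1633), (1951, 2019), (1952, 1844), (1953, 1652), (1954, 1758), (1955, 2026), (1956, 1692), (1957, 1648), (1958, 1982), (1959, 1932), (1960, 1723), (1961, 1947), (1962, 2036), (1963, 1654), (1964, 1899), (1965, 1658), (1966, 1659), (1967, 1892), (1968, 1828), (1969, 1930), (1970, 1671), (1971, 1949), (1972, 2022), (1973, 1909), (1974, 1678), (1975, 1680), (1976, 2001), (1977, 1738), (1978, 1683), (1979, 1740), (1980, 1811),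 (1981, 2053), (1982, 1958), (1983, 2056)]
    ⟨e3 q1920 L78180 q1705, e3 q1921 L78188 q1601, e3 q1922 L78200 q1599, e3 q1923 L78214 q1924, e3 q1924 L78215 q1923, e3 q1925 L78217 q1600, e3 q1926 L79499 q2049, e3 q1927 L78244 q1603, e3 q1928 L78258 q1929, e3 q1929 L78259 q1928, e3 q1930 L78635 q1969, e3 q1931 L78269 q1604, e3 q1932 L78531 q1959, e3 q1933 L78292 q1867, e3 q1934 L78307 q1612, e3 q1935 L78316 q1898, e3 q1936 L79316 q2034, e3 q1937 L78341 q1938, e3 q1938 L78340 q1937, e3 q1939 L79110 q2016, e3 q1940 L78361 q1620, e3 q1941 L78379 q1942, e3 q1942 L78378 q1941, e3 q1943 L78381 q1623, e3 q1944 L78400 q1691, e3 q1945 L78415 q1627, e3 q1946 L78436 q1948, e3 q1947 L78552 q1961, e3 q1948 L78435 q1946, e3 q1949 L78658 q1971, e3 q1950 L78448 q1633, e3 q1951 L79140 q2019, e3 q1952 L78469 q1844, e3 q1953 L78481 q1652, e3 q1954 L78490 q1758, e3 q1955 L79228 q2026, e3 q1956 L78504 q1692, e3 q1957 L78515 q1648, e3 q1958 L78773 q1982, e3 q1959 L78530 q1932, e3 q1960 L78538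 q1723, e3 q1961 L78551 q1947, e3 q1962 L79338 q2036, e3 q1963 L78564 q1654, e3 q1964 L78581 q1899, e3 q1965 L78591 q1658, e3 q1966 L78597 q1659, e3 q1967 L78611 q1892, e3 q1968 L78622 q1828, e3 q1969 L78636 q1930, e3 q1970 L78638 q1671, e3 q1971 L78657 q1949, e3 q1972 L79178 q2022, e3 q1973 L78679 q1909, e3 q1974 L78684 q1678, e3 q1975 L78698 q1680, e3 q1976 L78967 q2001, e3 q1977 L78726 q1738, e3 q1978 L78728 q1683, e3 q1979 L78745 q1740, e3 q1980 L78758 q1811, e3 q1981 L79551 q2053, e3 q1982 L78774 q1958, e3 q1983 L79578 q2056, trivial⟩ (by decide +kernel)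

theorem ce_g_31 : ∀ r, r < 64 → sm gg (Qf (1984 + r)) = Qf (tab Gen.g (1984 + r)) :=
  edges_tab (sm gg) Qf (tab Gen.g) 1984 [(1984, 1696), (1985, 2046), (1986, 2021), (1987, 1699), (1988, 1822), (1989, 1989), (1990, 1992), (1991, 1713), (1992, 1990), (1993, 1719), (1994, 1720), (1995, 1904), (1996, 2055), (1997, 1759), (1998, 1760), (1999, 1781), (2000, 1780), (2001, 1976), (2002, 1745), (2003, 1817), (2004, 1915), (2005, 2023), (2006, 1784), (2007, 1806), (2008, 2045), (2009, 2010), (2010, 2009), (2011, 1816), (2012, 1769), (2013, 1910), (2014, 2015), (2015, 2014), (2016, 1939), (2017, 1814), (2018, 2024), (2019, 1951), (2020, 1838), (2021, 1986), (2022, 1972), (2023, 2005), (2024, 2018), (2025, 1818), (2026, 1955), (2027, 1834), (2028, 2042), (2029, 2043), (2030, 2031), (2031, 2030), (2032, 2035), (2033, 1858), (2034, 1936), (2035, 2032), (2036, 1962), (2037, 1886), (2038, 2041), (2039, 1873), (2040, 1875), (2041, 2038), (2042, 2028), (2043, 2029), (2044, 1901),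 (2045, 2008), (2046, 1985), (2047, 2057)]
    ⟨e3 q1984 L78782 q1696, e3 q1985 L79463 q2046, e3 q1986 L79164 q2021, e3 q1987 L78811 q1699, e3 q1988 L78826 q1822, e3 q1989 L78836 q1989, e3 q1990 L78859 q1992, e3 q1991 L78846 q1713, e3 q1992 L78858 q1990, e3 q1993 L78863 q1719, e3 q1994 L78877 q1720, e3 q1995 L78898 q1904, e3 q1996 L79575 q2055, e3 q1997 L78916 q1759, e3 q1998 L78928 q1760, e3 q1999 L78938 q1781, e3 q2000 L78952 q1780, e3 q2001 L78966 q1976, e3 q2002 L78971 q1745, e3 q2003 L78990 q1817, e3 q2004 L79002 q1915, e3 q2005 L79188 q2023, e3 q2006 L79010 q1784, e3 q2007 L79024 q1806, e3 q2008 L79449 q2045, e3 q2009 L79044 q2010, e3 q2010 L79043 q2009, e3 q2011 L79055 q1816, e3 q2012 L79060 q1769, e3 q2013 L79081 q1910, e3 q2014 L79102 q2015, e3 q2015 L79101 q2014, e3 q2016 L79109 q1939, e3 q2017 L79117 q1814, e3 q2018 L79200 q2024, e3 q2019 L79139 q1951, e3 q2020 L79151 q1838, e3 q2021 L79163 q1986, e3 q2022 L79177 q1972, e3 q2023 L79187 q2005, e3 q2024 L79199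 q2018, e3 q2025 L79204 q1818, e3 q2026 L79227 q1955, e3 q2027 L79237 q1834, e3 q2028 L79410 q2042, e3 q2029 L79424 q2043, e3 q2030 L79282 q2031, e3 q2031 L79281 q2030, e3 q2032 L79326 q2035, e3 q2033 L79303 q1858, e3 q2034 L79315 q1936, e3 q2035 L79325 q2032, e3 q2036 L79337 q1962, e3 q2037 L79349 q1886, e3 q2038 L79398 q2041, e3 q2039 L79364 q1873, e3 q2040 L79383 q1875, e3 q2041 L79397 q2038, e3 q2042 L79409 q2028, e3 q2043 L79423 q2029, e3 q2044 L79435 q1901, e3 q2045 L79448 q2008, e3 q2046 L79462 q1985, e3 q2047 L79600 q2057, trivial⟩ (by decide +kernel)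

theorem ce_g_32 : ∀ r, r < 10 → sm gg (Qf (2048 + r)) = Qf (tab Gen.g (2048 + r)) :=
  edges_tab (sm gg) Qf (tab Gen.g) 2048 [(2048, 1916), (2049, 1926), (2050, 2054), (2051, 2052), (2052, 2051), (2053, 1981), (2054, 2050), (2055, 1996), (2056, 1983), (2057, 2047)]
    ⟨e3 q2048 L79479 q1916, e3 q2049 L79498 q1926, e3 q2050 L79567 q2054, e3 q2051 L79539 q2052, e3 q2052 L79538 q2051, e3 q2053 L79550 q1981, e3 q2054 L79566 q2050, e3 q2055 L79574 q1996, e3 q2056 L79579 q1983, e3 q2057 L79599 q2047, trivial⟩ (by decide +kernel)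

theorem cl_g : ∀ i, i < 2058 → sm gg (Qf i) = Qf (tab Gen.g i) :=
  all_of_chunks (fun i => sm gg (Qf i) = Qf (tab Gen.g i)) 32 10
    ⟨ce_g_0, ce_g_1, ce_g_2, ce_g_3, ce_g_4, ce_g_5, ce_g_6, ce_g_7, ce_g_8, ce_g_9, ce_g_10, ce_g_11, ce_g_12, ce_g_13, ce_g_14, ce_g_15, ce_g_16, ce_g_17, ce_g_18, ce_g_19, ce_g_20, ce_g_21, ce_g_22, ce_g_23, ce_g_24, ce_g_25, ce_g_26, ce_g_27, ce_g_28, ce_g_29, ce_g_30, ce_g_31, trivial⟩
    ce_g_32

theorem hcl : ∀ gg i, i < 2058 → gen gg • Qf i = Qf (tab gg i) := by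
  intro gg i hi
  cases gg
  · exact (sm_def _ _).symm.trans (cl_a i hi)
  · exact (sm_def _ _).symm.trans (cl_b i hi)
  · exact (sm_def _ _).symm.trans (cl_c i hi)
  · exact (sm_def _ _).symm.trans (cl_d i hi)
  · exact (sm_def _ _).symm.trans (cl_e i hi)
  · exact (sm_def _ _).symm.trans (cl_f i hi)
  · exact (sm_def _ _).symm.trans (cl_g i hi)

theorem tab_ok : ∀ g : Gen, allLt 2058 (fun i => decide (tab g i < 2058) && (tab g (tab g i) == i)) = true := by
  intro g
  cases g <;> decide +kernel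

theorem ht : IsInv tab 2058 := by
  constructor
  · intro g i hi
    have h := allLt_spec (tab_ok g) i hi
    rw [Bool.and_eq_true] at h
    exact of_decide_eq_true h.1
  · intro g i hi
    have h := allLt_spec (tab_ok g) i hi
    rw [Bool.and_eq_true] at h
    exact beq_iff_eq.mp h.2

theorem par_ok : allLt 2058 (fun i => i == 0 || (decide (lk PAR 12 i < i) && (tab (genOf (lk PGN 3 i)) (lk PAR 12 i) == i))) = true := by
  decide +kernel

theorem hpar : ∀ i, 0 < i → i < 2058 → ∃ j g, j < i ∧ tab g j = i := by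
  intro i h0 hi
  have h := allLt_spec par_ok i hi
  rw [Bool.or_eq_true, Bool.and_eq_true] at h
  rcases h with h | h
  · exact absurd (beq_iff_eq.mp h) (by omega)
  · exact ⟨_, _, of_decide_eq_true h.1, beq_iff_eq.mp h.2⟩

theorem coxP (x y : Gen) : (permOf ht x * permOf ht y) ^ coxLabel edges x y = 1 := by
  rw [pow_eq_prod]
  apply prod_eq_one
  cases x <;> cases y <;> decide +kernel

theorem relsP : ∀ r ∈ rels, FreeGroup.lift (permOf ht) r = 1 := by
  intro r hr
  rcases hr with ⟨x, -, y, -, rfl⟩ | hr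
  · rw [map_pow, map_mul, FreeGroup.lift_apply_of, FreeGroup.lift_apply_of]
    exact coxP x y
  · have hr' : r ∈ extra := hr
    simp only [extra, List.mem_cons, List.not_mem_nil, or_false] at hr'
    rcases hr' with rfl | rfl | rfl | rfl
    · simp only [map_mul, map_pow, map_inv, FreeGroup.lift_apply_of, pow_succ, pow_zero, one_mul, mul_inv_rev,
        permOf_inv, mul_assoc]
      have h := prod_eq_one ht [Gen.e, Gen.g, Gen.f, Gen.g, Gen.f] (by decide +kernel)
      simpa only [List.map_cons, List.map_nil, List.prod_cons, List.prod_nil, mul_one] using h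
    · simp only [map_mul, map_pow, map_inv, FreeGroup.lift_apply_of, pow_succ, pow_zero, one_mul, mul_inv_rev,
        permOf_inv, mul_assoc]
      have h := prod_eq_one ht [Gen.e, Gen.c, Gen.b, Gen.a, Gen.c, Gen.b, Gen.a, Gen.c, Gen.b, Gen.a] (by decide +kernel)
      simpa only [List.map_cons, List.map_nil, List.prod_cons, List.prod_nil, mul_one] using h
    · simp only [map_mul, map_pow, map_inv, FreeGroup.lift_apply_of, pow_succ, pow_zero, one_mul, mul_inv_rev,
        permOf_inv, mul_assoc]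
      have h := prod_eq_one ht [Gen.a, Gen.d, Gen.c, Gen.d, Gen.c, Gen.d, Gen.c, Gen.d, Gen.c, Gen.d, Gen.c] (by decide +kernel)
      simpa only [List.map_cons, List.map_nil, List.prod_cons, List.prod_nil, mul_one] using h
    · simp only [map_mul, map_pow, map_inv, FreeGroup.lift_apply_of, pow_succ, pow_zero, one_mul, mul_inv_rev,
        permOf_inv, mul_assoc]
      have h := prod_eq_one ht [Gen.c, Gen.d, Gen.f, Gen.g, Gen.c, Gen.d, Gen.f, Gen.g, Gen.c, Gen.d, Gen.f, Gen.g, Gen.c, Gen.d, Gen.f, Gen.g] (by decide +kernel)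
      simpa only [List.map_cons, List.map_nil, List.prod_cons, List.prod_nil, mul_one] using h

/-- The permutation representation on the cosets. -/
def phi : Grp →* Equiv.Perm (Fin 2058) := PresentedGroup.toGroup relsP

theorem phi_gen (x : Gen) : phi (gen x) = permOf ht x := PresentedGroup.toGroup.of relsP

theorem phi_mk_of (x : Gen) : phi (PresentedGroup.mk rels (FreeGroup.of x)) = permOf ht x := phi_gen x

theorem hH : ∀ h ∈ H, phi h ⟨0, by norm_num⟩ = ⟨0, by norm_num⟩ := by
  have hle : H ≤ (MulAction.stabilizer (Equiv.Perm (Fin 2058)) (⟨0, by norm_num⟩ : Fin 2058)).comap phi := by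
    rw [H, Subgroup.map_le_iff_le_comap, Subgroup.closure_le]
    intro s hs
    simp only [Set.mem_insert_iff, Set.mem_singleton_iff] at hs
    rcases hs with rfl | rfl | rfl | rfl | rfl | rfl | rfl
    · show phi (PresentedGroup.mk rels (a)) ⟨0, _⟩ = ⟨0, _⟩
      simp only [map_mul, map_pow, phi_mk_of, pow_succ, pow_zero, one_mul, mul_assoc]
      have h := prod_apply_mk ht [Gen.a] 0 0 (by norm_num) (by norm_num) (by decide +kernel)
      simpa only [List.map_cons, List.map_nil, List.prod_cons, List.prod_nil, mul_one] using h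
    · show phi (PresentedGroup.mk rels (c)) ⟨0, _⟩ = ⟨0, _⟩
      simp only [map_mul, map_pow, phi_mk_of, pow_succ, pow_zero, one_mul, mul_assoc]
      have h := prod_apply_mk ht [Gen.c] 0 0 (by norm_num) (by norm_num) (by decide +kernel)
      simpa only [List.map_cons, List.map_nil, List.prod_cons, List.prod_nil, mul_one] using h
    · show phi (PresentedGroup.mk rels (d)) ⟨0, _⟩ = ⟨0, _⟩
      simp only [map_mul, map_pow, phi_mk_of, pow_succ, pow_zero, one_mul, mul_assoc]
      have h := prod_apply_mk ht [Gen.d] 0 0 (by norm_num) (by norm_num) (by decide +kernel)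
      simpa only [List.map_cons, List.map_nil, List.prod_cons, List.prod_nil, mul_one] using h
    · show phi (PresentedGroup.mk rels (e)) ⟨0, _⟩ = ⟨0, _⟩
      simp only [map_mul, map_pow, phi_mk_of, pow_succ, pow_zero, one_mul, mul_assoc]
      have h := prod_apply_mk ht [Gen.e] 0 0 (by norm_num) (by norm_num) (by decide +kernel)
      simpa only [List.map_cons, List.map_nil, List.prod_cons, List.prod_nil, mul_one] using h
    · show phi (PresentedGroup.mk rels (f)) ⟨0, _⟩ = ⟨0, _⟩
      simp only [map_mul, map_pow, phi_mk_of, pow_succ, pow_zero, one_mul, mul_assoc]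
      have h := prod_apply_mk ht [Gen.f] 0 0 (by norm_num) (by norm_num) (by decide +kernel)
      simpa only [List.map_cons, List.map_nil, List.prod_cons, List.prod_nil, mul_one] using h
    · show phi (PresentedGroup.mk rels ((a * b) ^ 2)) ⟨0, _⟩ = ⟨0, _⟩
      simp only [map_mul, map_pow, phi_mk_of, pow_succ, pow_zero, one_mul, mul_assoc]
      have h := prod_apply_mk ht [Gen.a, Gen.b, Gen.a, Gen.b] 0 0 (by norm_num) (by norm_num) (by decide +kernel)
      simpa only [List.map_cons, List.map_nil, List.prod_cons, List.prod_nil, mul_one] using h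
    · show phi (PresentedGroup.mk rels ((b * c * d * e) ^ 7)) ⟨0, _⟩ = ⟨0, _⟩
      simp only [map_mul, map_pow, phi_mk_of, pow_succ, pow_zero, one_mul, mul_assoc]
      have h := prod_apply_mk ht [Gen.b, Gen.c, Gen.d, Gen.e, Gen.b, Gen.c, Gen.d, Gen.e, Gen.b, Gen.c, Gen.d, Gen.e, Gen.b, Gen.c, Gen.d, Gen.e, Gen.b, Gen.c, Gen.d, Gen.e, Gen.b, Gen.c, Gen.d, Gen.e, Gen.b, Gen.c, Gen.d, Gen.e] 0 0 (by norm_num) (by norm_num) (by decide +kernel)
      simpa only [List.map_cons, List.map_nil, List.prod_cons, List.prod_nil, mul_one] using h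
  intro h hh
  exact hle hh

theorem hgen : Subgroup.closure (Set.range gen) = ⊤ := PresentedGroup.closure_range_of rels

theorem h0 : Qf 0 = ((1 : Grp) : Q) := rfl

theorem hphi : ∀ g (i : Fin 2058), ((phi (gen g) i : Fin 2058) : ℕ) = tab g i := by
  intro g i
  rw [phi_gen]
  rfl

/-- The index of the subgroup. -/
theorem index_H : H.index = 2058 :=
  (index_eq hgen (by norm_num) h0 ht hcl phi hH hphi hpar).1

theorem psi_bij : Function.Bijective (psi H (by norm_num) phi hH) :=
  (index_eq hgen (by norm_num) h0 ht hcl phi hH hphi hpar).2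

end Cfsg.Agent.Helper28.HeA
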