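import Mathlib
import Cfsg.Prelude.Def_Sporadic_a
import Cfsg.Agent.Helper28.Octads
import Cfsg.Agent.Helper12.GolayStab2

/-!
The action of `M24` on binary words: coset leaders modulo the code moved by stabilizers of
code words.
-/

set_option autoImplicit false

namespace Cfsg.Agent.Helper28.M24Act

open Cfsg Cfsg.Agent.Helper28.Code Cfsg.Agent.Helper28.Leech Cfsg.Agent.Helper28.Octads
open scoped Pointwise

/-- the permutation action on words, on supports -/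
theorem perm_ofSet (σ : Equiv.Perm GolayPt) (s : Finset GolayPt) :
    (fun p => ofSet s (σ.symm p)) = ofSet (σ • s) := by
  funext p
  simp only [ofSet]
  have h : σ.symm p ∈ s ↔ p ∈ σ • s := by
    rw [Finset.mem_smul_finset]
    constructor
    · intro h; exact ⟨σ.symm p, h, by simp⟩
    · rintro ⟨y, hy, rfl⟩; simpa using hy
  simp only [h]

theorem mem_dod (d : Finset GolayPt) : d ∈ dodecads ↔ ofSet d ∈ golayCode ∧ d.card = 12 := by
  unfold dodecads wordsOfWeight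
  rw [Set.mem_ofPred_eq, mem_supports_iff]

/-- elements of `M24` preserve the code -/
theorem act_mem {σ : Equiv.Perm GolayPt} (hσ : σ ∈ M24) {c : GolayPt → ZMod 2}
    (hc : c ∈ golayCode) : (fun p => c (σ.symm p)) ∈ golayCode := by
  have h1 : support₂ c ∈ supports (golayCode : Set (GolayPt → ZMod 2)) := by
    rw [mem_supports_iff, ofSet_supp]; exact hc
  have h2 := (Cfsg.Agent.Helper12.smul_mem_supports hσ).mpr h1
  rw [mem_supports_iff, ← perm_ofSet, ofSet_supp] at h2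
  exact h2

/-- a set of at most four points moved (but not off itself when it has four points) is moved
to another coset of the code -/
theorem move_not_mem {L : Finset GolayPt} (hL : L.card ≤ 4) (σ : Equiv.Perm GolayPt)
    (hne : σ • L ≠ L) (h4 : L.card = 4 → ¬ Disjoint (σ • L) L) :
    ofSet (σ • L) + ofSet L ∉ golayCode := by
  intro hmem
  rw [← ofSet_symmDiff] at hmem
  have h1 := weights _ hmem
  have h2 := card_symmDiff (σ • L) L
  have h3 : (σ • L).card = L.card := Finset.card_smul_finset σ L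
  have h5 : (symmDiff (σ • L) L).card ≠ 0 := by
    intro h
    rw [Finset.card_eq_zero] at h
    exact hne (symmDiff_eq_bot.mp h)
  have h6 : (symmDiff (σ • L) L).card = 8 := by omega
  have h7 : L.card = 4 := by omega
  have h8 : (σ • L ∩ L).card = 0 := by omega
  apply h4 h7
  rw [Finset.disjoint_iff_inter_eq_empty, ← Finset.card_eq_zero]; exact h8

/-- every word outside the code is congruent to a nonzero word of weight at most four -/
theorem exists_leader (w : GolayPt → ZMod 2) (hw : w ∉ golayCode) :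
    ∃ L : Finset GolayPt, ofSet L - w ∈ golayCode ∧ 1 ≤ L.card ∧ L.card ≤ 4 := by
  have h := coset_leaders card_pts golayCode Cfsg.Agent.Helper3.golayCode_finrank golay_H2 w
  have h' : ∃ u : GolayPt → ZMod 2, u - w ∈ golayCode ∧ hammingNorm u ≤ 4 := by
    rcases h with ⟨u, hu, huniq⟩ | ⟨F, hF6, hF4, hFmem⟩
    · exact ⟨u, (huniq u).mpr rfl⟩
    · have hne : F.Nonempty := by rw [← Finset.card_pos]; omega
      obtain ⟨u, hu⟩ := hne
      exact ⟨u, (hFmem u).mpr hu⟩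
  obtain ⟨u, hu, hu4⟩ := h'
  refine ⟨support₂ u, by rw [ofSet_supp]; exact hu, ?_, by rw [← norm_eq]; exact hu4⟩
  rw [Nat.one_le_iff_ne_zero]
  intro h0
  rw [Finset.card_eq_zero] at h0
  have hu0 : u = 0 := by rw [← ofSet_supp u, h0, ofSet_empty]
  rw [hu0, zero_sub] at hu
  exact hw (by simpa using golayCode.neg_mem hu)

/-- the leader can be chosen to meet a given nonempty set when it has four points -/
theorem exists_leader_meet (w : GolayPt → ZMod 2) (hw : w ∉ golayCode) (U : Finset GolayPt)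
    (hU : U.Nonempty) :
    ∃ L : Finset GolayPt, ofSet L - w ∈ golayCode ∧ 1 ≤ L.card ∧ L.card ≤ 4 ∧
      (L.card = 4 → (L ∩ U).Nonempty) := by
  obtain ⟨L, hL, h1, h4⟩ := exists_leader w hw
  by_cases hc : L.card = 4
  · obtain ⟨p, hp⟩ := hU
    obtain ⟨F, hF6, hLF, hF4, hFd, hFC, hFm, hFcov⟩ := gsextet L hc
    obtain ⟨s, hs, hps⟩ := hFcov p
    refine ⟨s, ?_, by rw [hF4 s hs]; norm_num, by rw [hF4 s hs],
      fun _ => ⟨p, Finset.mem_inter.mpr ⟨hps, hp⟩⟩⟩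
    have h := golayCode.add_mem (hFC s hs L hLF) hL
    have e : ofSet s + ofSet L + (ofSet L - w) = ofSet s - w := by
      rw [sub_eq_add, sub_eq_add, add_assoc, ← add_assoc (ofSet L), add_self, zero_add]
    rwa [e] at h
  · exact ⟨L, hL, h1, h4, fun h => absurd h hc⟩

/-- transitivity properties of the stabilizer of a set of points -/
structure Trans (U : Finset GolayPt) : Prop where
  t1 : ∀ p q, p ∈ U → q ∈ U → ∃ σ ∈ M24, σ • U = U ∧ σ p = q
  t1' : ∀ p q, p ∉ U → q ∉ U → ∃ σ ∈ M24, σ • U = U ∧ σ p = q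
  t2 : ∀ p p' q, p ∈ U → p' ∈ U → q ∈ U → p' ≠ p → q ≠ p →
    ∃ σ ∈ M24, σ • U = U ∧ σ p = p ∧ σ p' = q
  t2' : ∀ p p' q, p ∈ U → p' ∉ U → q ∉ U → ∃ σ ∈ M24, σ • U = U ∧ σ p = p ∧ σ p' = q

theorem exists_move {U : Finset GolayPt} (hT : Trans U) (hU : 5 ≤ U.card)
    (hUc : U = Finset.univ ∨ 5 ≤ Uᶜ.card) {L : Finset GolayPt} (h1 : 1 ≤ L.card)
    (h4 : L.card ≤ 4) (hm : L.card = 4 → (L ∩ U).Nonempty) :
    ∃ σ ∈ M24, σ • U = U ∧ ofSet (σ • L) + ofSet L ∉ golayCode := by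
  have hq : ∃ q ∈ U, q ∉ L := Finset.exists_mem_notMem_of_card_lt_card (by omega)
  have hq' : ∀ p, p ∉ U → ∃ q ∈ Uᶜ, q ∉ L := by
    intro p hp
    rcases hUc with h | h
    · rw [h] at hp; exact absurd (Finset.mem_univ p) hp
    · exact Finset.exists_mem_notMem_of_card_lt_card (by omega)
  have smul_mem : ∀ (σ : Equiv.Perm GolayPt) (x : GolayPt), x ∈ L → σ x ∈ σ • L :=
    fun σ x hx => Finset.smul_mem_smul_finset hx
  by_cases hc : L.card = 4
  · obtain ⟨p, hp⟩ := hm hc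
    rw [Finset.mem_inter] at hp
    have hex : ∃ p' ∈ L, p' ≠ p := by
      have hne : (L.erase p).Nonempty := by
        rw [← Finset.card_pos, Finset.card_erase_of_mem hp.1]; omega
      obtain ⟨p', hp'⟩ := hne
      exact ⟨p', Finset.mem_of_mem_erase hp', Finset.ne_of_mem_erase hp'⟩
    obtain ⟨p', hp'L, hp'p⟩ := hex
    have key : ∃ σ ∈ M24, σ • U = U ∧ σ p = p ∧ σ p' ∉ L := by
      by_cases hp'U : p' ∈ U
      · obtain ⟨q, hqU, hqL⟩ := hq
        obtain ⟨σ, hσ, hσU, hσp, hσp'⟩ := hT.t2 p p' q hp.2 hp'U hqU hp'p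
          (by rintro rfl; exact hqL hp.1)
        exact ⟨σ, hσ, hσU, hσp, by rw [hσp']; exact hqL⟩
      · obtain ⟨q, hqU, hqL⟩ := hq' p' hp'U
        obtain ⟨σ, hσ, hσU, hσp, hσp'⟩ := hT.t2' p p' q hp.2 hp'U (Finset.mem_compl.mp hqU)
        exact ⟨σ, hσ, hσU, hσp, by rw [hσp']; exact hqL⟩
    obtain ⟨σ, hσ, hσU, hσp, hσp'⟩ := key
    refine ⟨σ, hσ, hσU, move_not_mem h4 σ ?_ ?_⟩
    · intro h; apply hσp'; rw [← h]; exact smul_mem σ p' hp'L
    · intro _ hd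
      have h := smul_mem σ p hp.1
      rw [hσp] at h
      exact Finset.disjoint_left.mp hd h hp.1
  · have hne : L.Nonempty := by rw [← Finset.card_pos]; omega
    have key : ∃ σ ∈ M24, σ • U = U ∧ ∃ p ∈ L, σ p ∉ L := by
      by_cases hLU : (L ∩ U).Nonempty
      · obtain ⟨p, hp⟩ := hLU
        rw [Finset.mem_inter] at hp
        obtain ⟨q, hqU, hqL⟩ := hq
        obtain ⟨σ, hσ, hσU, hσp⟩ := hT.t1 p q hp.2 hqU
        exact ⟨σ, hσ, hσU, p, hp.1, by rw [hσp]; exact hqL⟩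
      · obtain ⟨p, hp⟩ := hne
        have hpU : p ∉ U := fun h => hLU ⟨p, Finset.mem_inter.mpr ⟨hp, h⟩⟩
        obtain ⟨q, hqU, hqL⟩ := hq' p hpU
        obtain ⟨σ, hσ, hσU, hσp⟩ := hT.t1' p q hpU (Finset.mem_compl.mp hqU)
        exact ⟨σ, hσ, hσU, p, hp, by rw [hσp]; exact hqL⟩
    obtain ⟨σ, hσ, hσU, p, hpL, hσp⟩ := key
    refine ⟨σ, hσ, hσU, move_not_mem h4 σ ?_ (fun h => absurd h hc)⟩
    intro h; apply hσp; rw [← h]; exact smul_mem σ p hpL

theorem conj_aux {B o : Finset GolayPt} {g1 g2 : Equiv.Perm GolayPt} (hg1 : g1 ∈ M24)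
    (hg2 : g2 ∈ M24) (e1 : g1 • B = o) (e2 : g2 • B = o) :
    g2 * g1⁻¹ ∈ M24 ∧ (g2 * g1⁻¹) • o = o ∧ ∀ x, (g2 * g1⁻¹) (g1 x) = g2 x := by
  refine ⟨mul_mem hg2 (inv_mem hg1), ?_, fun x => by simp⟩
  conv_lhs => rw [← e1]
  rw [mul_smul, inv_smul_smul, e2]

theorem trans_univ : Trans (Finset.univ : Finset GolayPt) where
  t1 p q _ _ := by
    obtain ⟨g, hg, h⟩ := Cfsg.Agent.Helper12.M24_trans_pt p q
    exact ⟨g, hg, Finset.smul_finset_univ, h⟩
  t1' p q hp _ := absurd (Finset.mem_univ p) hp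
  t2 p p' q _ _ _ hp' hq := by
    obtain ⟨g, hg, h1, h2⟩ := Cfsg.Agent.Helper12.M24_trans2' (p := p) (q := p') (p' := p)
      (q' := q) (Ne.symm hp') (Ne.symm hq)
    exact ⟨g, hg, Finset.smul_finset_univ, h1, h2⟩
  t2' p p' q _ hp' _ := absurd (Finset.mem_univ p') hp'

theorem trans_octad {o : Finset GolayPt} (ho : o ∈ octads) : Trans o where
  t1 p q hp hq := by
    obtain ⟨g1, hg1, e1, f1⟩ := Cfsg.Agent.Helper12.exists_M24_octad_pt_in ho hp
    obtain ⟨g2, hg2, e2, f2⟩ := Cfsg.Agent.Helper12.exists_M24_octad_pt_in ho hq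
    obtain ⟨h1, h2, h3⟩ := conj_aux hg1 hg2 e1 e2
    exact ⟨_, h1, h2, by rw [← f1, h3, f2]⟩
  t1' p q hp hq := by
    obtain ⟨g1, hg1, e1, f1⟩ := Cfsg.Agent.Helper12.exists_M24_octad_pt_out ho hp
    obtain ⟨g2, hg2, e2, f2⟩ := Cfsg.Agent.Helper12.exists_M24_octad_pt_out ho hq
    obtain ⟨h1, h2, h3⟩ := conj_aux hg1 hg2 e1 e2
    exact ⟨_, h1, h2, by rw [← f1, h3, f2]⟩
  t2 p p' q hp hp' hq hne hne' := by
    obtain ⟨g1, hg1, e1, f1, k1⟩ := Cfsg.Agent.Helper12.exists_M24_octad_2in ho hp hp' (Ne.symm hne)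
    obtain ⟨g2, hg2, e2, f2, k2⟩ := Cfsg.Agent.Helper12.exists_M24_octad_2in ho hp hq (Ne.symm hne')
    obtain ⟨h1, h2, h3⟩ := conj_aux hg1 hg2 e1 e2
    exact ⟨_, h1, h2, by rw [← f1, h3, f2, f1], by rw [← k1, h3, k2]⟩
  t2' p p' q hp hp' hq := by
    obtain ⟨g1, hg1, e1, f1, k1⟩ := Cfsg.Agent.Helper12.exists_M24_octad_in_out ho hp hp'
    obtain ⟨g2, hg2, e2, f2, k2⟩ := Cfsg.Agent.Helper12.exists_M24_octad_in_out ho hp hq
    obtain ⟨h1, h2, h3⟩ := conj_aux hg1 hg2 e1 e2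
    exact ⟨_, h1, h2, by rw [← f1, h3, f2, f1], by rw [← k1, h3, k2]⟩

theorem trans_dodecad {o : Finset GolayPt} (ho : o ∈ dodecads) : Trans o where
  t1 p q hp hq := by
    obtain ⟨g1, hg1, e1, f1⟩ := Cfsg.Agent.Helper12.exists_M24_dodecad_pt_in ho hp
    obtain ⟨g2, hg2, e2, f2⟩ := Cfsg.Agent.Helper12.exists_M24_dodecad_pt_in ho hq
    obtain ⟨h1, h2, h3⟩ := conj_aux hg1 hg2 e1 e2
    exact ⟨_, h1, h2, by rw [← f1, h3, f2]⟩
  t1' p q hp hq := by
    obtain ⟨g1, hg1, e1, f1⟩ := Cfsg.Agent.Helper12.exists_M24_dodecad_pt_out ho hp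
    obtain ⟨g2, hg2, e2, f2⟩ := Cfsg.Agent.Helper12.exists_M24_dodecad_pt_out ho hq
    obtain ⟨h1, h2, h3⟩ := conj_aux hg1 hg2 e1 e2
    exact ⟨_, h1, h2, by rw [← f1, h3, f2]⟩
  t2 p p' q hp hp' hq hne hne' := by
    obtain ⟨g1, hg1, e1, f1, k1⟩ :=
      Cfsg.Agent.Helper12.exists_M24_dodecad_2in ho hp hp' (Ne.symm hne)
    obtain ⟨g2, hg2, e2, f2, k2⟩ :=
      Cfsg.Agent.Helper12.exists_M24_dodecad_2in ho hp hq (Ne.symm hne')
    obtain ⟨h1, h2, h3⟩ := conj_aux hg1 hg2 e1 e2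
    exact ⟨_, h1, h2, by rw [← f1, h3, f2, f1], by rw [← k1, h3, k2]⟩
  t2' p p' q hp hp' hq := by
    obtain ⟨g1, hg1, e1, f1, k1⟩ := Cfsg.Agent.Helper12.exists_M24_dodecad_in_out ho hp hp'
    obtain ⟨g2, hg2, e2, f2, k2⟩ := Cfsg.Agent.Helper12.exists_M24_dodecad_in_out ho hp hq
    obtain ⟨h1, h2, h3⟩ := conj_aux hg1 hg2 e1 e2
    exact ⟨_, h1, h2, by rw [← f1, h3, f2, f1], by rw [← k1, h3, k2]⟩

/-- The stabilizer in `M24` of a code word fixes no nonzero coset of the code: for a word `w`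
outside the code there is an element fixing the support data `U` and moving `w` off its
coset. -/
theorem exists_move_word {U : Finset GolayPt} (hT : Trans U) (hU : 5 ≤ U.card)
    (hUc : U = Finset.univ ∨ 5 ≤ Uᶜ.card) (w : GolayPt → ZMod 2) (hw : w ∉ golayCode) :
    ∃ σ ∈ M24, σ • U = U ∧ (fun p => w (σ.symm p)) - w ∉ golayCode := by
  obtain ⟨L, hL, h1, h4, hm⟩ := exists_leader_meet w hw U (by rw [← Finset.card_pos]; omega)
  obtain ⟨σ, hσ, hσU, hσL⟩ := exists_move hT hU hUc h1 h4 hm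
  refine ⟨σ, hσ, hσU, fun hmem => hσL ?_⟩
  have hc := act_mem hσ hL
  have h := golayCode.add_mem (golayCode.add_mem hmem hc) hL
  convert h using 1
  rw [← perm_ofSet]
  funext p
  simp only [Pi.add_apply, Pi.sub_apply]
  have h2 : ∀ a b x y : ZMod 2, a + b = x - y + (a - x) + (b - y) := by decide
  exact h2 _ _ _ _

end Cfsg.Agent.Helper28.M24Act
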