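import Mathlib
import Cfsg.Prelude.Def_SporadicCombinatorics
import Cfsg.Agent.Helper12.GolayMore
import Cfsg.Agent.Helper3.M24Chain
import Cfsg.Agent.Helper28.CentB
import Cfsg.Agent.Helper28.Norm7Data

/-!
The normalizer and the centralizer of a subgroup of order 7 of the group of the length-24 code:
orders 126 and 42, a non-commuting pair in the centralizer, an invariant trio.
-/

set_option autoImplicit false

namespace Cfsg.Agent.Helper28.Norm7

open Cfsg Cfsg.Agent.Helper12 Cfsg.Agent.Helper28.Coset Cfsg.Agent.Helper28.Ord3Data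
  Cfsg.Agent.Helper28.InvClass Cfsg.Agent.Helper28.Ord3
  Cfsg.Agent.Helper28.Ord3Inv Cfsg.Agent.Helper28.Sext Cfsg.Agent.Helper28.Trio
  Cfsg.Agent.Helper28.SxData Cfsg.Agent.Helper28.Norm7Data Cfsg.Agent.Helper28.CentB
  Cfsg.Agent.Helper28.InvFix
open scoped Pointwise

/-- iterating a table -/
def iterT (P i x : ℕ) : ℕ := Nat.rec x (fun _ r => get24 P r) i

theorem pow_pt (P Q : ℕ) (h : permOK P Q = true) (i : ℕ) {x : ℕ} (hx : x < 24) :
    (mkPerm P Q h ^ i) (pt x) = pt (iterT P i x) ∧ iterT P i x < 24 := by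
  induction i with
  | zero => exact ⟨rfl, hx⟩
  | succ i ih =>
    rw [pow_succ', Equiv.Perm.mul_apply, ih.1, mkPerm_pt _ _ _ ih.2]
    exact ⟨rfl, (permOK_spec h ih.2).1⟩

theorem z_ok : permOK Z7 Z7i = true := by decide +kernel
theorem z_m24 : m24OK Z7 = true := by decide +kernel

/-- the standard element of order 7 -/
def zP : Equiv.Perm GolayPt := mkPerm Z7 Z7i z_ok

theorem zP_mem : zP ∈ M24 := mkPerm_mem_M24 _ _ _ z_m24

theorem zP_pt {i : ℕ} (hi : i < 24) : zP (pt i) = pt (get24 Z7 i) := mkPerm_pt _ _ _ hi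

theorem zpow_pt (i : ℕ) {x : ℕ} (hx : x < 24) :
    (zP ^ i) (pt x) = pt (iterT Z7 i x) ∧ iterT Z7 i x < 24 := pow_pt _ _ _ i hx

/-- the standard element of order 7 as an element of the group -/
def z : ↥M24 := ⟨zP, zP_mem⟩

theorem k_z7 : allB 24 (fun x => Nat.beq (iterT Z7 7 x) x) = true := by decide +kernel

theorem zP_pow7 : zP ^ 7 = 1 := by
  apply perm_ext
  intro i hi
  rw [(zpow_pt 7 hi).1, Nat.eq_of_beq_eq_true (allB_spec k_z7 i hi)]
  rfl

theorem k_cyc : ∀ i, i < 7 → 0 < i → iterT Z7 i 23 ≠ 23 := by decide +kernel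

theorem zP_ne : zP ≠ 1 := by
  intro h
  have h1 := (zpow_pt 1 (by norm_num : 23 < 24)).1
  rw [pow_one, h] at h1
  exact k_cyc 1 (by norm_num) (by norm_num)
    (pt_inj (zpow_pt 1 (by norm_num : 23 < 24)).2 (by norm_num : 23 < 24) h1.symm)

theorem coe_pow (i : ℕ) : ((z ^ i : ↥M24) : Equiv.Perm GolayPt) = zP ^ i := rfl

theorem z_order : orderOf z = 7 := by
  have : Fact (Nat.Prime 7) := ⟨by norm_num⟩
  apply orderOf_eq_prime
  · apply Subtype.ext
    exact zP_pow7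
  · intro h
    exact zP_ne (congrArg Subtype.val h)

/-- the subgroup of order 7 -/
def S0 : Subgroup ↥M24 := Subgroup.zpowers z

theorem card_S0 : Nat.card S0 = 7 := by
  rw [S0, Nat.card_zpowers, z_order]

theorem mem_S0 {w : ↥M24} (hw : w ∈ S0) : ∃ i, i < 7 ∧ w = z ^ i := by
  rw [S0, ← mem_powers_iff_mem_zpowers, Submonoid.mem_powers_iff] at hw
  obtain ⟨n, rfl⟩ := hw
  refine ⟨n % 7, Nat.mod_lt _ (by norm_num), ?_⟩
  rw [← z_order, pow_mod_orderOf]

/-- the normalizer and the centralizer -/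
def N0 : Subgroup ↥M24 := Subgroup.normalizer (S0 : Set ↥M24)
def C0 : Subgroup ↥M24 := Subgroup.centralizer (S0 : Set ↥M24)

theorem mem_C0 {c : ↥M24} :
    c ∈ C0 ↔ (c : Equiv.Perm GolayPt) * zP = zP * (c : Equiv.Perm GolayPt) := by
  rw [C0, Subgroup.mem_centralizer_iff]
  constructor
  · intro h
    have := h z (Subgroup.mem_zpowers z)
    exact (congrArg Subtype.val this).symm
  · intro h w hw
    have hc : Commute z c := by
      apply Subtype.ext
      exact h.symm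
    obtain ⟨k, rfl⟩ := Subgroup.mem_zpowers_iff.1 hw
    exact (hc.zpow_left k).eq

theorem norm_of_conj {n : ↥M24} {i : ℕ} (hi0 : 0 < i) (hi : i < 7)
    (h : (n : Equiv.Perm GolayPt) * zP = zP ^ i * (n : Equiv.Perm GolayPt)) : n ∈ N0 := by
  have h' : n * z * n⁻¹ = z ^ i := by
    rw [mul_inv_eq_iff_eq_mul]
    apply Subtype.ext
    exact h
  rw [N0, Subgroup.mem_normalizer_iff_map_conj_eq]
  have h1 : S0.map (MulAut.conj n).toMonoidHom = Subgroup.zpowers (n * z * n⁻¹) := by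
    rw [S0, MonoidHom.map_zpowers]
    rfl
  have hle : Subgroup.zpowers (z ^ i) ≤ S0 :=
    Subgroup.zpowers_le.2 (pow_mem (Subgroup.mem_zpowers z) i)
  have hco : (orderOf z).Coprime i := by
    rw [z_order]
    exact (Nat.Prime.coprime_iff_not_dvd (by norm_num : Nat.Prime 7)).2
      (Nat.not_dvd_of_pos_of_lt hi0 hi)
  have h2 : Subgroup.zpowers (z ^ i) = S0 := by
    apply Subgroup.eq_of_le_of_card_ge hle
    rw [card_S0, Nat.card_zpowers, hco.orderOf_pow, z_order]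
  exact h1.trans (by rw [h', h2])

theorem conj_of_norm {n : ↥M24} (hn : n ∈ N0) :
    ∃ i, 0 < i ∧ i < 7 ∧ (n : Equiv.Perm GolayPt) * zP = zP ^ i * (n : Equiv.Perm GolayPt) := by
  have h1 : n * z * n⁻¹ ∈ S0 := (Subgroup.mem_normalizer_iff.1 hn z).1 (Subgroup.mem_zpowers z)
  obtain ⟨i, hi, e⟩ := mem_S0 h1
  refine ⟨i, ?_, hi, ?_⟩
  · by_contra h0
    have hi0 : i = 0 := by omega
    rw [hi0, pow_zero, mul_inv_eq_one] at e
    have : z = 1 := by
      have h2 : n * z = n * 1 := by rw [e, mul_one]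
      exact mul_left_cancel h2
    exact zP_ne (congrArg Subtype.val this)
  · rw [mul_inv_eq_iff_eq_mul] at e
    exact congrArg Subtype.val e

theorem C0_le_N0 : C0 ≤ N0 := Subgroup.centralizer_le_normalizer _

/-! ## Tables -/

/-- the table conjugates `Z` to its `i`-th power -/
def conjIT (P Z i : ℕ) : Bool :=
  allB 24 (fun j => Nat.beq (get24 P (get24 Z j)) (iterT Z i (get24 P j)))

theorem conj_iff (GS QS ng : ℕ) (h : sysOK GS QS ng = true) {a : ℕ} (ha : a < ng) (i : ℕ) :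
    genOf GS QS ng h a * zP = zP ^ i * genOf GS QS ng h a ↔ conjIT (sub GS a) Z7 i = true := by
  constructor
  · intro hc
    apply allB_of
    intro j hj
    rw [Nat.beq_eq]
    have p1 := (permOK_spec z_ok hj).1
    have p2 := genOf_pt GS QS ng h ha p1
    have p3 := genOf_pt GS QS ng h ha hj
    have p4 := zpow_pt i p3.2
    have h4 := congrArg (fun f : Equiv.Perm GolayPt => f (pt j)) hc
    simp only [Equiv.Perm.mul_apply] at h4
    rw [zP_pt hj, p2.1, p3.1, p4.1] at h4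
    exact pt_inj p2.2 p4.2 h4
  · intro hc
    apply perm_ext
    intro j hj
    have p1 := (permOK_spec z_ok hj).1
    have p2 := genOf_pt GS QS ng h ha p1
    have p3 := genOf_pt GS QS ng h ha hj
    have p4 := zpow_pt i p3.2
    rw [Equiv.Perm.mul_apply, Equiv.Perm.mul_apply, zP_pt hj, p2.1, p3.1, p4.1,
      Nat.eq_of_beq_eq_true (allB_spec hc j hj)]

theorem n_sys : sysOK NG NQ 26 = true := by decide +kernel
theorem n_m24 : sysM24 NG 26 = true := by decide +kernel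

/-- the listed elements of the normalizer -/
def el (a : ℕ) : ↥M24 := ⟨genOf NG NQ 26 n_sys a, genOf_mem_M24 NG NQ 26 n_sys n_m24 a⟩

/-- the elements of the stabilizer of the five base points -/
def el0 (a : ℕ) : ↥M24 := ⟨genOf CG0 CQ0 48 c0_sys a, genOf_mem_M24 CG0 CQ0 48 c0_sys c0_m24 a⟩

/-- the mask of the fixed points of `zP` -/
def FZ : ℕ := 0x100120

theorem k_FZ : allB 24 (fun i => bif tb FZ i then Nat.beq (get24 Z7 i) i
    else (Nat.blt (get24 Z7 i) i || Nat.blt i (get24 Z7 i))) = true := by decide +kernel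

theorem zP_fix : (Finset.univ.filter fun p => zP p = p) = ofMask FZ :=
  fix_of_table _ _ _ _ k_FZ

theorem mem_FZ {q : GolayPt} : q ∈ ofMask FZ ↔ zP q = q := by
  rw [← zP_fix, Finset.mem_filter]
  simp

theorem k_n : allB 24 (fun q => bif tb FZ q then true else
    (conjIT (sub NG q) Z7 1 && Nat.beq (get24 (sub NG q) 23) q)) = true := by decide +kernel
theorem k_n2 : (conjIT (sub NG 24) Z7 2 && Nat.beq (get24 (sub NG 24) 23) 23 &&
    Nat.beq (get24 (sub NG 24) 0) 1) = true := by decide +kernel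
theorem k_n4 : (conjIT (sub NG 25) Z7 4 && Nat.beq (get24 (sub NG 25) 23) 23 &&
    Nat.beq (get24 (sub NG 25) 0) 3) = true := by decide +kernel

theorem el_C0 {a : ℕ} (ha : a < 26) (hc : conjIT (sub NG a) Z7 1 = true) : el a ∈ C0 := by
  rw [mem_C0]
  have := (conj_iff NG NQ 26 n_sys ha 1).2 hc
  rwa [pow_one] at this

/-- a generic form of the orbit-stabilizer theorem for subgroups of the group -/
theorem card_orbit_mul (K : Subgroup ↥M24) (p : GolayPt) (O : Finset GolayPt)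
    (hO : ∀ q, q ∈ O ↔ ∃ c ∈ K, (c : Equiv.Perm GolayPt) p = q) :
    Nat.card K = O.card * Nat.card ↥(K ⊓ MulAction.stabilizer ↥M24 p) := by
  have h1 := Subgroup.card_mul_index (MulAction.stabilizer ↥K p)
  have h2 : (MulAction.stabilizer ↥K p).index = O.card := by
    have : MulAction.orbit ↥K p = ↑O := by
      ext q
      rw [Finset.mem_coe, hO, MulAction.mem_orbit_iff]
      constructor
      · rintro ⟨c, rfl⟩; exact ⟨c.1, c.2, rfl⟩
      · rintro ⟨c, hc, rfl⟩; exact ⟨⟨c, hc⟩, rfl⟩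
    rw [MulAction.index_stabilizer, this, Set.ncard_coe_finset]
  have h3 : Nat.card (MulAction.stabilizer ↥K p) =
      Nat.card ↥(K ⊓ MulAction.stabilizer ↥M24 p) := by
    apply Nat.card_congr
    exact { toFun := fun x => ⟨x.1.1, ⟨x.1.2, x.2⟩⟩
            invFun := fun y => ⟨⟨y.1, y.2.1⟩, y.2.2⟩
            left_inv := fun _ => rfl
            right_inv := fun _ => rfl }
  rw [← h1, h2, h3, mul_comm]

theorem mem_st {c : ↥M24} {p : GolayPt} :
    c ∈ MulAction.stabilizer ↥M24 p ↔ (c : Equiv.Perm GolayPt) p = p := Iff.rfl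

/-! ## The orbit of the point 23 -/

theorem not_fix_of_norm {c : ↥M24} (hc : c ∈ N0) :
    (c : Equiv.Perm GolayPt) (pt 23) ∉ ofMask FZ := by
  intro hq
  rw [mem_FZ] at hq
  obtain ⟨i, hi0, hi, e⟩ := conj_of_norm (inv_mem hc)
  have h1 := congrArg (fun f : Equiv.Perm GolayPt => f ((c : Equiv.Perm GolayPt) (pt 23))) e
  simp only [Equiv.Perm.mul_apply] at h1
  rw [hq] at h1
  have h2 : ((c⁻¹ : ↥M24) : Equiv.Perm GolayPt) ((c : Equiv.Perm GolayPt) (pt 23)) = pt 23 := by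
    show (c : Equiv.Perm GolayPt)⁻¹ ((c : Equiv.Perm GolayPt) (pt 23)) = pt 23
    simp
  rw [h2, (zpow_pt i (by norm_num : 23 < 24)).1] at h1
  exact k_cyc i hi hi0 (pt_inj (zpow_pt i (by norm_num : 23 < 24)).2 (by norm_num) h1.symm)

theorem orb_el (q : GolayPt) (hq : q ∉ ofMask FZ) :
    el (idx q) ∈ C0 ∧ (el (idx q) : Equiv.Perm GolayPt) (pt 23) = q := by
  have hi := idx_lt q
  have h1 := allB_spec k_n (idx q) hi
  have h2 : tb FZ (idx q) = false := by
    rw [mem_ofMask, ← tb_eq] at hq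
    simpa using hq
  rw [h2, cond_false, Bool.and_eq_true, Nat.beq_eq] at h1
  refine ⟨el_C0 (by omega) h1.1, ?_⟩
  show genOf NG NQ 26 n_sys (idx q) (pt 23) = q
  rw [(genOf_pt NG NQ 26 n_sys (by omega : idx q < 26) (by norm_num : 23 < 24)).1, h1.2, pt_idx]

theorem orbN (q : GolayPt) : q ∈ (Finset.univ \ ofMask FZ : Finset GolayPt) ↔
    ∃ c ∈ N0, (c : Equiv.Perm GolayPt) (pt 23) = q := by
  rw [Finset.mem_sdiff]
  constructor
  · rintro ⟨-, hq⟩
    exact ⟨el (idx q), C0_le_N0 (orb_el q hq).1, (orb_el q hq).2⟩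
  · rintro ⟨c, hc, rfl⟩
    exact ⟨Finset.mem_univ _, not_fix_of_norm hc⟩

theorem orbC (q : GolayPt) : q ∈ (Finset.univ \ ofMask FZ : Finset GolayPt) ↔
    ∃ c ∈ C0, (c : Equiv.Perm GolayPt) (pt 23) = q := by
  rw [Finset.mem_sdiff]
  constructor
  · rintro ⟨-, hq⟩
    exact ⟨el (idx q), (orb_el q hq).1, (orb_el q hq).2⟩
  · rintro ⟨c, hc, rfl⟩
    exact ⟨Finset.mem_univ _, not_fix_of_norm (C0_le_N0 hc)⟩

/-! ## The stabilizer of the point 23 in the normalizer -/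

theorem k_zb : get24 Z7 23 = 0 ∧ get24 Z7 0 = 1 ∧ get24 Z7 1 = 2 ∧ get24 Z7 2 = 3 := by
  decide +kernel

theorem step {c : Equiv.Perm GolayPt} {i : ℕ} (hc : c * zP = zP ^ i * c) {x y : ℕ} (hx : x < 24)
    (hy : y < 24) (h : c (pt x) = pt y) : c (pt (get24 Z7 x)) = pt (iterT Z7 i y) := by
  have h1 := congrArg (fun f : Equiv.Perm GolayPt => f (pt x)) hc
  simp only [Equiv.Perm.mul_apply] at h1
  rw [zP_pt hx, h, (zpow_pt i hy).1] at h1
  exact h1

theorem imgs {c : Equiv.Perm GolayPt} {i t1 t2 t3 t4 : ℕ} (hc : c * zP = zP ^ i * c)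
    (h23 : c (pt 23) = pt 23) (e1 : iterT Z7 i 23 = t1) (e2 : iterT Z7 i t1 = t2)
    (e3 : iterT Z7 i t2 = t3) (e4 : iterT Z7 i t3 = t4) :
    c (pt 0) = pt t1 ∧ c (pt 1) = pt t2 ∧ c (pt 2) = pt t3 ∧ c (pt 3) = pt t4 := by
  have b1 : t1 < 24 := by rw [← e1]; exact (zpow_pt i (by norm_num : 23 < 24)).2
  have b2 : t2 < 24 := by rw [← e2]; exact (zpow_pt i b1).2
  have b3 : t3 < 24 := by rw [← e3]; exact (zpow_pt i b2).2
  have s1 := step hc (by norm_num : 23 < 24) (by norm_num : 23 < 24) h23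
  rw [k_zb.1, e1] at s1
  have s2 := step hc (by norm_num : 0 < 24) b1 s1
  rw [k_zb.2.1, e2] at s2
  have s3 := step hc (by norm_num : 1 < 24) b2 s2
  rw [k_zb.2.2.1, e3] at s3
  have s4 := step hc (by norm_num : 2 < 24) b3 s3
  rw [k_zb.2.2.2, e4] at s4
  exact ⟨s1, s2, s3, s4⟩

theorem no_conj (TG TQ : ℕ) (h : sysOK TG TQ 48 = true) (hm : sysM24 TG 48 = true)
    (i t1 t2 t3 t4 : ℕ) (hb : baseOK TG 23 t1 t2 t3 t4 = true) (hk : keysOK TG = true)
    (hn : allB 48 (fun a => !(conjIT (sub TG a) Z7 i)) = true)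
    {c : Equiv.Perm GolayPt} (hcM : c ∈ M24) (hc : c * zP = zP ^ i * c) (h23 : c (pt 23) = pt 23)
    (e1 : iterT Z7 i 23 = t1) (e2 : iterT Z7 i t1 = t2) (e3 : iterT Z7 i t2 = t3)
    (e4 : iterT Z7 i t3 = t4) : False := by
  obtain ⟨i1, i2, i3, i4⟩ := imgs hc h23 e1 e2 e3 e4
  obtain ⟨a, ha, e⟩ := coset_enum TG TQ h hm 23 t1 t2 t3 t4 hb hk hcM h23 i1 i2 i3 i4
  rw [e] at hc
  have h1 := (conj_iff TG TQ 48 h ha i).1 hc
  have h2 := allB_spec hn a ha
  rw [h1] at h2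
  exact absurd h2 (by decide)

theorem t3_sys : sysOK TG3 TQ3 48 = true := by decide +kernel
theorem t3_m24 : sysM24 TG3 48 = true := by decide +kernel
theorem t3_base : baseOK TG3 23 2 14 1 17 = true := by decide +kernel
theorem t3_keys : keysOK TG3 = true := by decide +kernel
theorem t3_no : allB 48 (fun a => !(conjIT (sub TG3 a) Z7 3)) = true := by decide +kernel
theorem t3_it : iterT Z7 3 23 = 2 ∧ iterT Z7 3 2 = 14 ∧ iterT Z7 3 14 = 1 ∧ iterT Z7 3 1 = 17 := by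
  decide +kernel

theorem t5_sys : sysOK TG5 TQ5 48 = true := by decide +kernel
theorem t5_m24 : sysM24 TG5 48 = true := by decide +kernel
theorem t5_base : baseOK TG5 23 17 2 0 14 = true := by decide +kernel
theorem t5_keys : keysOK TG5 = true := by decide +kernel
theorem t5_no : allB 48 (fun a => !(conjIT (sub TG5 a) Z7 5)) = true := by decide +kernel
theorem t5_it : iterT Z7 5 23 = 17 ∧ iterT Z7 5 17 = 2 ∧ iterT Z7 5 2 = 0 ∧ iterT Z7 5 0 = 14 := by
  decide +kernel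

theorem t6_sys : sysOK TG6 TQ6 48 = true := by decide +kernel
theorem t6_m24 : sysM24 TG6 48 = true := by decide +kernel
theorem t6_base : baseOK TG6 23 14 17 3 2 = true := by decide +kernel
theorem t6_keys : keysOK TG6 = true := by decide +kernel
theorem t6_no : allB 48 (fun a => !(conjIT (sub TG6 a) Z7 6)) = true := by decide +kernel
theorem t6_it : iterT Z7 6 23 = 14 ∧ iterT Z7 6 14 = 17 ∧ iterT Z7 6 17 = 3 ∧ iterT Z7 6 3 = 2 := by
  decide +kernel

theorem k_it : iterT Z7 1 23 = 0 ∧ iterT Z7 2 23 = 1 ∧ iterT Z7 4 23 = 3 := by decide +kernel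
theorem k_it1 : iterT Z7 1 0 = 1 ∧ iterT Z7 1 1 = 2 ∧ iterT Z7 1 2 = 3 := by decide +kernel

/-- the exponent of an element of the normalizer fixing the point 23 is 1, 2 or 4 -/
theorem exp_cases {c : ↥M24} (hc : c ∈ N0) (h23 : (c : Equiv.Perm GolayPt) (pt 23) = pt 23) :
    ((c : Equiv.Perm GolayPt) * zP = zP ^ 1 * (c : Equiv.Perm GolayPt) ∧
      (c : Equiv.Perm GolayPt) (pt 0) = pt 0) ∨
    ((c : Equiv.Perm GolayPt) * zP = zP ^ 2 * (c : Equiv.Perm GolayPt) ∧
      (c : Equiv.Perm GolayPt) (pt 0) = pt 1) ∨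
    ((c : Equiv.Perm GolayPt) * zP = zP ^ 4 * (c : Equiv.Perm GolayPt) ∧
      (c : Equiv.Perm GolayPt) (pt 0) = pt 3) := by
  obtain ⟨i, hi0, hi, e⟩ := conj_of_norm hc
  have s1 := step e (by norm_num : 23 < 24) (by norm_num : 23 < 24) h23
  rw [k_zb.1] at s1
  interval_cases i
  · left; rw [k_it.1] at s1; exact ⟨e, s1⟩
  · right; left; rw [k_it.2.1] at s1; exact ⟨e, s1⟩
  · exact (no_conj TG3 TQ3 t3_sys t3_m24 3 2 14 1 17 t3_base t3_keys t3_no c.2 e h23 t3_it.1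
      t3_it.2.1 t3_it.2.2.1 t3_it.2.2.2).elim
  · right; right; rw [k_it.2.2] at s1; exact ⟨e, s1⟩
  · exact (no_conj TG5 TQ5 t5_sys t5_m24 5 17 2 0 14 t5_base t5_keys t5_no c.2 e h23 t5_it.1
      t5_it.2.1 t5_it.2.2.1 t5_it.2.2.2).elim
  · exact (no_conj TG6 TQ6 t6_sys t6_m24 6 14 17 3 2 t6_base t6_keys t6_no c.2 e h23 t6_it.1
      t6_it.2.1 t6_it.2.2.1 t6_it.2.2.2).elim

theorem orbN1 (q : GolayPt) : q ∈ ofMask 11 ↔
    ∃ c ∈ N0 ⊓ MulAction.stabilizer ↥M24 (pt 23), (c : Equiv.Perm GolayPt) (pt 0) = q := by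
  constructor
  · intro hq
    rw [mem_ofMask] at hq
    have hi := idx_lt q
    have hcases : ∀ i, i < 24 → (11 : ℕ).testBit i = true → i = 0 ∨ i = 1 ∨ i = 3 := by decide
    have hp := pt_idx q
    rcases hcases _ hi hq with e | e | e
    · rw [e] at hp
      exact ⟨1, one_mem _, hp⟩
    · rw [e] at hp
      have h1 := k_n2
      rw [Bool.and_eq_true, Bool.and_eq_true, Nat.beq_eq, Nat.beq_eq] at h1
      obtain ⟨⟨h1, h2⟩, h3⟩ := h1
      refine ⟨el 24, Subgroup.mem_inf.2 ⟨norm_of_conj (by norm_num) (by norm_num)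
        ((conj_iff NG NQ 26 n_sys (by norm_num) 2).2 h1), ?_⟩, ?_⟩
      · rw [mem_st]
        show genOf NG NQ 26 n_sys 24 (pt 23) = pt 23
        rw [(genOf_pt NG NQ 26 n_sys (by norm_num : 24 < 26) (by norm_num : 23 < 24)).1, h2]
      · show genOf NG NQ 26 n_sys 24 (pt 0) = q
        rw [(genOf_pt NG NQ 26 n_sys (by norm_num : 24 < 26) (by norm_num : 0 < 24)).1, h3, hp]
    · rw [e] at hp
      have h1 := k_n4
      rw [Bool.and_eq_true, Bool.and_eq_true, Nat.beq_eq, Nat.beq_eq] at h1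
      obtain ⟨⟨h1, h2⟩, h3⟩ := h1
      refine ⟨el 25, Subgroup.mem_inf.2 ⟨norm_of_conj (by norm_num) (by norm_num)
        ((conj_iff NG NQ 26 n_sys (by norm_num) 4).2 h1), ?_⟩, ?_⟩
      · rw [mem_st]
        show genOf NG NQ 26 n_sys 25 (pt 23) = pt 23
        rw [(genOf_pt NG NQ 26 n_sys (by norm_num : 25 < 26) (by norm_num : 23 < 24)).1, h2]
      · show genOf NG NQ 26 n_sys 25 (pt 0) = q
        rw [(genOf_pt NG NQ 26 n_sys (by norm_num : 25 < 26) (by norm_num : 0 < 24)).1, h3, hp]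
  · rintro ⟨c, hc, rfl⟩
    obtain ⟨hN, h23⟩ := Subgroup.mem_inf.1 hc
    rw [mem_st] at h23
    rcases exp_cases hN h23 with ⟨-, h⟩ | ⟨-, h⟩ | ⟨-, h⟩ <;>
      (rw [h, pt_mem_ofMask (by norm_num)]; decide +kernel)

theorem el0_inj : ∀ a b, a < 48 → b < 48 → el0 a = el0 b → a = b := fun a b ha hb e =>
  genOf_inj CG0 CQ0 c0_sys c0_keys a b ha hb (congrArg Subtype.val e)

theorem el0_base {a : ℕ} (ha : a < 48) : (el0 a : Equiv.Perm GolayPt) (pt 23) = pt 23 ∧
    (el0 a : Equiv.Perm GolayPt) (pt 0) = pt 0 := by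
  have h1 := allB_spec c0_base a ha
  simp only [Bool.and_eq_true, Nat.beq_eq] at h1
  obtain ⟨⟨⟨⟨a0, a1⟩, a2⟩, a3⟩, a4⟩ := h1
  constructor
  · show genOf CG0 CQ0 48 c0_sys a (pt 23) = pt 23
    rw [(genOf_pt CG0 CQ0 48 c0_sys ha (by norm_num)).1, a0]
  · show genOf CG0 CQ0 48 c0_sys a (pt 0) = pt 0
    rw [(genOf_pt CG0 CQ0 48 c0_sys ha (by norm_num)).1, a1]

/-- an element commuting with `zP` and fixing the point 23 is in the list -/
theorem comm_enum {c : ↥M24} (hc : (c : Equiv.Perm GolayPt) * zP = zP ^ 1 * (c : Equiv.Perm GolayPt))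
    (h23 : (c : Equiv.Perm GolayPt) (pt 23) = pt 23) :
    ∃ a, a < 48 ∧ conjIT (sub CG0 a) Z7 1 = true ∧ c = el0 a := by
  obtain ⟨i1, i2, i3, i4⟩ := imgs hc h23 k_it.1 k_it1.1 k_it1.2.1 k_it1.2.2
  obtain ⟨a, ha, e⟩ := coset_enum CG0 CQ0 c0_sys c0_m24 23 0 1 2 3 c0_base c0_keys c.2 h23 i1 i2
    i3 i4
  refine ⟨a, ha, ?_, Subtype.ext e⟩
  rw [e] at hc
  exact (conj_iff CG0 CQ0 48 c0_sys ha 1).1 hc

theorem k_cnt7 : cntB 48 (fun a => conjIT (sub CG0 a) Z7 1) = 2 := by decide +kernel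

theorem card_N2 : Nat.card ↥((N0 ⊓ MulAction.stabilizer ↥M24 (pt 23)) ⊓
    MulAction.stabilizer ↥M24 (pt 0)) = 2 := by
  have h1 : Nat.card ↥((N0 ⊓ MulAction.stabilizer ↥M24 (pt 23)) ⊓
      MulAction.stabilizer ↥M24 (pt 0)) = (((N0 ⊓ MulAction.stabilizer ↥M24 (pt 23)) ⊓
      MulAction.stabilizer ↥M24 (pt 0) : Subgroup ↥M24) : Set ↥M24).ncard := by
    rw [← Nat.card_coe_set_eq]; rfl
  rw [h1, ← k_cnt7]
  apply ncard_eq_cnt el0 48 el0_inj
  intro s
  rw [SetLike.mem_coe]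
  constructor
  · intro hs
    obtain ⟨hs1, h0⟩ := Subgroup.mem_inf.1 hs
    obtain ⟨hN, h23⟩ := Subgroup.mem_inf.1 hs1
    rw [mem_st] at h0 h23
    rcases exp_cases hN h23 with ⟨e, -⟩ | ⟨-, h⟩ | ⟨-, h⟩
    · exact comm_enum e h23
    · rw [h0] at h
      exact absurd (pt_inj (by norm_num : 0 < 24) (by norm_num : 1 < 24) h) (by norm_num)
    · rw [h0] at h
      exact absurd (pt_inj (by norm_num : 0 < 24) (by norm_num : 3 < 24) h) (by norm_num)
  · rintro ⟨a, ha, hf, rfl⟩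
    have hb := el0_base ha
    refine Subgroup.mem_inf.2 ⟨Subgroup.mem_inf.2 ⟨norm_of_conj (by norm_num) (by norm_num)
      ((conj_iff CG0 CQ0 48 c0_sys ha 1).2 hf), ?_⟩, ?_⟩
    · rw [mem_st]; exact hb.1
    · rw [mem_st]; exact hb.2

theorem card_C1 : Nat.card ↥(C0 ⊓ MulAction.stabilizer ↥M24 (pt 23)) = 2 := by
  have h1 : Nat.card ↥(C0 ⊓ MulAction.stabilizer ↥M24 (pt 23)) =
      ((C0 ⊓ MulAction.stabilizer ↥M24 (pt 23) : Subgroup ↥M24) : Set ↥M24).ncard := by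
    rw [← Nat.card_coe_set_eq]; rfl
  rw [h1, ← k_cnt7]
  apply ncard_eq_cnt el0 48 el0_inj
  intro s
  rw [SetLike.mem_coe]
  constructor
  · intro hs
    obtain ⟨hC, h23⟩ := Subgroup.mem_inf.1 hs
    rw [mem_st] at h23
    rw [mem_C0] at hC
    exact comm_enum (by rw [pow_one]; exact hC) h23
  · rintro ⟨a, ha, hf, rfl⟩
    have hb := el0_base ha
    refine Subgroup.mem_inf.2 ⟨?_, ?_⟩
    · rw [mem_C0]
      have := (conj_iff CG0 CQ0 48 c0_sys ha 1).2 hf
      rwa [pow_one] at this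
    · rw [mem_st]; exact hb.1

theorem card_moved : (Finset.univ \ ofMask FZ : Finset GolayPt).card = 21 := by
  rw [← Finset.compl_eq_univ_sdiff, Finset.card_compl, Leech.card_pts, card_ofMask]
  decide +kernel

theorem card_N0 : Nat.card ↥N0 = 126 := by
  have e1 := card_orbit_mul N0 (pt 23) _ orbN
  have e2 := card_orbit_mul (N0 ⊓ MulAction.stabilizer ↥M24 (pt 23)) (pt 0) _ orbN1
  have c2 : (ofMask 11).card = 3 := by rw [card_ofMask]; decide +kernel
  rw [card_moved] at e1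
  rw [c2, card_N2] at e2
  rw [e1, e2]

theorem card_C0 : Nat.card ↥C0 = 42 := by
  have e1 := card_orbit_mul C0 (pt 23) _ orbC
  rw [card_moved, card_C1] at e1
  rw [e1]

/-! ## A non-commuting pair in the centralizer -/

theorem k_nc : conjIT (sub NG 0) Z7 1 = true ∧ conjIT (sub NG 4) Z7 1 = true ∧
    get24 (sub NG 0) (get24 (sub NG 4) 0) ≠ get24 (sub NG 4) (get24 (sub NG 0) 0) := by
  decide +kernel

theorem C0_noncomm : ∃ x ∈ C0, ∃ y ∈ C0, x * y ≠ y * x := by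
  refine ⟨el 0, el_C0 (by norm_num) k_nc.1, el 4, el_C0 (by norm_num) k_nc.2.1, ?_⟩
  intro h
  have h1 := congrArg (fun f : ↥M24 => (f : Equiv.Perm GolayPt) (pt 0)) h
  have a4 := genOf_pt NG NQ 26 n_sys (by norm_num : 4 < 26) (by norm_num : 0 < 24)
  have a0 := genOf_pt NG NQ 26 n_sys (by norm_num : 0 < 26) (by norm_num : 0 < 24)
  have b0 := genOf_pt NG NQ 26 n_sys (by norm_num : 0 < 26) a4.2
  have b4 := genOf_pt NG NQ 26 n_sys (by norm_num : 4 < 26) a0.2
  have h2 : genOf NG NQ 26 n_sys 0 (genOf NG NQ 26 n_sys 4 (pt 0)) =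
      genOf NG NQ 26 n_sys 4 (genOf NG NQ 26 n_sys 0 (pt 0)) := h1
  rw [a4.1, b0.1, a0.1, b4.1] at h2
  exact k_nc.2.2 (pt_inj b0.2 b4.2 h2)

/-! ## The invariant trio -/

theorem trFix_of (P Q : ℕ) (h : permOK P Q = true) {k : ℕ}
    (hfix : mkPerm P Q h • tr k = tr k) : trFix P k = true := by
  have key : ∀ j, j < 3 → anyB 3 (fun i => Nat.beq (trm k i) (permMask P (trm k j))) = true := by
    intro j hj
    have h1 : mkPerm P Q h • ofMask (trm k j) ∈ mkPerm P Q h • tr k :=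
      Finset.smul_mem_smul_finset (mem_tr hj)
    rw [hfix, smul_ofMask, tr, mem_fam] at h1
    obtain ⟨i, hi, e⟩ := h1
    rw [anyB_iff]
    refine ⟨i, hi, ?_⟩
    rw [Nat.beq_eq]
    exact (ofMask_inj (permMask_lt h _) (trm_lt _ _) e).symm
  rw [trFix, Bool.and_eq_true]
  exact ⟨key 0 (by norm_num), key 1 (by norm_num)⟩

theorem tr_fix_of (P Q : ℕ) (h : permOK P Q = true) (hm : m24OK P = true) {k : ℕ} (hk : k < 3795)
    (hf : trFix P k = true) : mkPerm P Q h • tr k = tr k := by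
  have hg : mkPerm P Q h ∈ M24 := mkPerm_mem_M24 _ _ _ hm
  rw [trFix, Bool.and_eq_true, anyB_iff, anyB_iff] at hf
  obtain ⟨⟨i, hi, hi'⟩, ⟨j, hj, hj'⟩⟩ := hf
  rw [Nat.beq_eq] at hi' hj'
  apply trio_unique (smul_trio hg (tr_mem hk)) (tr_mem hk)
    (o := mkPerm P Q h • ofMask (trm k 0)) (o' := mkPerm P Q h • ofMask (trm k 1))
  · exact Finset.smul_mem_smul_finset (mem_tr (by norm_num))
  · exact Finset.smul_mem_smul_finset (mem_tr (by norm_num))
  · rw [smul_ofMask, ← hi']; exact mem_tr hi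
  · rw [smul_ofMask, ← hj']; exact mem_tr hj
  · intro e
    exact tr_ne hk (i := 0) (j := 1) (by norm_num) (by norm_num) (by norm_num)
      (MulAction.injective _ e)

theorem k_tr7 : trFix Z7 2775 = true := by decide +kernel
theorem k_tr7_unique : allB 3795 (fun k => bif trFix Z7 k then Nat.beq k 2775 else true) = true := by
  decide +kernel

theorem zP_tr : zP • tr 2775 = tr 2775 := tr_fix_of Z7 Z7i z_ok z_m24 (by norm_num) k_tr7

theorem zpow_tr (i : ℕ) : (zP ^ i) • tr 2775 = tr 2775 := by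
  induction i with
  | zero => rw [pow_zero, one_smul]
  | succ i ih => rw [pow_succ, mul_smul, zP_tr, ih]

theorem N0_trio {n : ↥M24} (hn : n ∈ N0) : (n : Equiv.Perm GolayPt) • tr 2775 = tr 2775 := by
  obtain ⟨k', hk', e⟩ := (mem_trios_iff _).1 (smul_trio n.2 (tr_mem (by norm_num : 2775 < 3795)))
  obtain ⟨i, -, -, ei⟩ := conj_of_norm (inv_mem hn)
  have ei' : (n : Equiv.Perm GolayPt)⁻¹ * zP = zP ^ i * (n : Equiv.Perm GolayPt)⁻¹ := ei
  have hz : zP = (n : Equiv.Perm GolayPt) * zP ^ i * (n : Equiv.Perm GolayPt)⁻¹ := by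
    calc zP = (n : Equiv.Perm GolayPt) * ((n : Equiv.Perm GolayPt)⁻¹ * zP) := by group
      _ = (n : Equiv.Perm GolayPt) * (zP ^ i * (n : Equiv.Perm GolayPt)⁻¹) := by rw [ei']
      _ = (n : Equiv.Perm GolayPt) * zP ^ i * (n : Equiv.Perm GolayPt)⁻¹ := by group
  have h1 : zP • tr k' = tr k' := by
    rw [← e]
    conv_lhs => rw [hz]
    rw [← mul_smul, inv_mul_cancel_right, mul_smul, zpow_tr]
  have h2 := trFix_of Z7 Z7i z_ok h1
  have h3 := allB_spec k_tr7_unique k' hk'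
  rw [h2, cond_true, Nat.beq_eq] at h3
  rw [e, h3]

/-! ## Subgroups of order 7 are conjugate -/

theorem sylow_of_card (H : Subgroup ↥M24) (hH : Nat.card H = 7) :
    ∃ P : Sylow 7 ↥M24, (P : Subgroup ↥M24) = H := by
  have : Fact (Nat.Prime 7) := ⟨by norm_num⟩
  have hp : IsPGroup 7 H := IsPGroup.of_card (n := 1) (by rw [hH]; norm_num)
  obtain ⟨P, hP⟩ := hp.exists_le_sylow
  refine ⟨P, ?_⟩
  obtain ⟨m, hm⟩ := IsPGroup.iff_card.1 P.isPGroup'
  have hdvd : Nat.card (P : Subgroup ↥M24) ∣ 244823040 := by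
    rw [← Cfsg.Agent.Helper3.M24_card]
    exact Subgroup.card_subgroup_dvd_card _
  have h7 : 7 ∣ Nat.card (P : Subgroup ↥M24) := by
    have h := Subgroup.card_dvd_of_le hP
    rw [hH] at h
    exact h
  have hm1 : m = 1 := by
    rcases Nat.lt_or_ge m 1 with h | h
    · have : m = 0 := by omega
      rw [hm, this, pow_zero] at h7
      exact absurd h7 (by norm_num)
    · rcases Nat.lt_or_ge 1 m with h' | h'
      · exfalso
        have h49 : 7 ^ 2 ∣ 7 ^ m := pow_dvd_pow 7 h'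
        rw [← hm] at h49
        have := dvd_trans h49 hdvd
        norm_num at this
      · omega
  symm
  apply Subgroup.eq_of_le_of_card_ge hP
  rw [hm, hm1, hH]; norm_num

theorem conj_S0 (S : Subgroup ↥M24) (hS : Nat.card S = 7) :
    ∃ k : ↥M24, S = S0.map (MulAut.conj k).toMonoidHom := by
  have : Fact (Nat.Prime 7) := ⟨by norm_num⟩
  obtain ⟨P, hP⟩ := sylow_of_card S hS
  obtain ⟨P0, hP0⟩ := sylow_of_card S0 card_S0
  obtain ⟨k, hk⟩ := MulAction.exists_smul_eq ↥M24 P0 P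
  refine ⟨k, ?_⟩
  rw [← hP, ← hk, ← hP0]
  rfl

/-- the statement for every subgroup of order 7 -/
theorem main (S : Subgroup ↥M24) (hS : Nat.card S = 7) :
    Nat.card ↥(Subgroup.normalizer (S : Set ↥M24)) = 126 ∧
    Nat.card ↥(Subgroup.centralizer (S : Set ↥M24)) = 42 ∧
    (∃ x ∈ Subgroup.centralizer (S : Set ↥M24), ∃ y ∈ Subgroup.centralizer (S : Set ↥M24),
      x * y ≠ y * x) ∧
    ∃ T ∈ trios, ∀ n ∈ Subgroup.normalizer (S : Set ↥M24),
      ((n : ↥M24) : Equiv.Perm GolayPt) • T = T := by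
  obtain ⟨k, rfl⟩ := conj_S0 S hS
  have hinj : Function.Injective (MulAut.conj k).toMonoidHom := (MulAut.conj k).injective
  have hN : Subgroup.normalizer ((S0.map (MulAut.conj k).toMonoidHom : Subgroup ↥M24) : Set ↥M24)
      = N0.map (MulAut.conj k).toMonoidHom :=
    (Subgroup.map_equiv_normalizer_eq S0 (MulAut.conj k)).symm
  have hC : Subgroup.centralizer ((S0.map (MulAut.conj k).toMonoidHom : Subgroup ↥M24) : Set ↥M24)
      = C0.map (MulAut.conj k).toMonoidHom := by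
    ext x
    rw [Subgroup.mem_centralizer_iff, Subgroup.mem_map]
    constructor
    · intro h
      refine ⟨k⁻¹ * x * k, ?_, ?_⟩
      · rw [C0, Subgroup.mem_centralizer_iff]
        intro w hw
        have h1 := h (k * w * k⁻¹) (Subgroup.mem_map.2 ⟨w, hw, rfl⟩)
        calc w * (k⁻¹ * x * k) = k⁻¹ * (k * w * k⁻¹ * x) * k := by group
          _ = k⁻¹ * (x * (k * w * k⁻¹)) * k := by rw [h1]
          _ = k⁻¹ * x * k * w := by group
      · show k * (k⁻¹ * x * k) * k⁻¹ = x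
        group
    · rintro ⟨c, hc, rfl⟩ w hw
      obtain ⟨w0, hw0, rfl⟩ := Subgroup.mem_map.1 hw
      rw [C0, Subgroup.mem_centralizer_iff] at hc
      have h1 := hc w0 hw0
      show k * w0 * k⁻¹ * (k * c * k⁻¹) = k * c * k⁻¹ * (k * w0 * k⁻¹)
      calc k * w0 * k⁻¹ * (k * c * k⁻¹) = k * (w0 * c) * k⁻¹ := by group
        _ = k * (c * w0) * k⁻¹ := by rw [h1]
        _ = k * c * k⁻¹ * (k * w0 * k⁻¹) := by group
  rw [hN, hC]
  refine ⟨?_, ?_, ?_, ?_⟩
  · rw [Subgroup.card_map_of_injective hinj]; exact card_N0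
  · rw [Subgroup.card_map_of_injective hinj]; exact card_C0
  · obtain ⟨x, hx, y, hy, hne⟩ := C0_noncomm
    refine ⟨k * x * k⁻¹, Subgroup.mem_map.2 ⟨x, hx, rfl⟩, k * y * k⁻¹,
      Subgroup.mem_map.2 ⟨y, hy, rfl⟩, ?_⟩
    intro h
    apply hne
    have h1 : k * (x * y) * k⁻¹ = k * (y * x) * k⁻¹ := by
      calc k * (x * y) * k⁻¹ = k * x * k⁻¹ * (k * y * k⁻¹) := by group
        _ = k * y * k⁻¹ * (k * x * k⁻¹) := h
        _ = k * (y * x) * k⁻¹ := by group
    exact mul_left_cancel (mul_right_cancel h1)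
  · refine ⟨(k : Equiv.Perm GolayPt) • tr 2775, smul_trio k.2 (tr_mem (by norm_num)), ?_⟩
    intro n hn
    obtain ⟨n0, hn0, rfl⟩ := Subgroup.mem_map.1 hn
    have h1 := N0_trio hn0
    show ((k : Equiv.Perm GolayPt) * (n0 : Equiv.Perm GolayPt) * (k : Equiv.Perm GolayPt)⁻¹) •
      (k : Equiv.Perm GolayPt) • tr 2775 = (k : Equiv.Perm GolayPt) • tr 2775
    rw [← mul_smul, inv_mul_cancel_right, mul_smul, h1]

end Cfsg.Agent.Helper28.Norm7
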