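import Mathlib
import Cfsg.Agent.Helper12.GolayMore
import Cfsg.Agent.Helper28.Ord3Inv
import Cfsg.Agent.Helper28.M24Act

/-!
Fixed points of elements of prime order of the group of the length-24 code off an invariant
dodecad.
-/

set_option autoImplicit false

namespace Cfsg.Agent.Helper28.PrimeFix

open Cfsg Cfsg.Agent.Helper12 Cfsg.Agent.Helper28.Coset Cfsg.Agent.Helper28.Ord3Data
  Cfsg.Agent.Helper28.InvClass Cfsg.Agent.Helper28.Ord3
  Cfsg.Agent.Helper28.Ord3Fix Cfsg.Agent.Helper28.ClassTools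
open scoped Pointwise

/-- a permutation of prime order `p` of a set of size prime to `p` has a fixed point -/
theorem exists_fixed_of_prime {x : Equiv.Perm GolayPt} {p : ℕ} (hp : p.Prime) (hx : x ^ p = 1)
    (A : Finset GolayPt) (hA : ∀ q, q ∈ A ↔ x q ∈ A) (hc : ¬ p ∣ A.card) : ∃ q ∈ A, x q = q := by
  have : Fact p.Prime := ⟨hp⟩
  have hσ : (x.subtypePerm (p := fun q => q ∈ A) (fun q => (hA q).symm)) ^ p ^ 1 = 1 := by
    rw [pow_one]
    apply Equiv.ext
    intro a
    apply Subtype.ext
    have h := congrArg (fun f : Equiv.Perm GolayPt => f a.1) hx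
    rw [Equiv.Perm.subtypePerm_pow]
    exact h
  obtain ⟨a, ha⟩ := Equiv.Perm.exists_fixed_point_of_prime (p := p) (n := 1)
    (by rwa [Fintype.card_coe]) hσ
  exact ⟨a.1, a.2, congrArg Subtype.val ha⟩

/-- no octad lies in a dodecad -/
theorem octad_not_subset {o d : Finset GolayPt} (ho : o ∈ octads) (hd : d ∈ dodecads) :
    ¬ o ⊆ d := by
  intro hsub
  obtain ⟨ho1, ho8⟩ := (Octads.mem_oct o).1 ho
  obtain ⟨hd1, hd12⟩ := (Cfsg.Agent.Helper28.M24Act.mem_dod d).1 hd
  have h1 := Octads.card_symmDiff o d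
  rw [Finset.inter_eq_left.2 hsub, ho8, hd12] at h1
  rcases Octads.weights _ (Octads.symmDiff_mem ho1 hd1) with h | h | h | h | h <;> omega

/-- an involution with a fixed point has a fixed point off any dodecad -/
theorem ord2_fix_outside {g : Equiv.Perm GolayPt} (hg : g ∈ M24) (h2 : orderOf g = 2)
    (hf : ¬ ∀ p, g p ≠ p) {d : Finset GolayPt} (hd : d ∈ dodecads) : ∃ x, x ∉ d ∧ g x = x := by
  obtain ⟨k, hk, e⟩ := conj_gA hg h2 hf
  have h1 : (Finset.univ.filter fun p => g p = p) ∈ octads := by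
    have h3 := gA_fix_mem
    rw [← e, fix_conj, smul_mem_octads hk] at h3
    exact h3
  have h4 := octad_not_subset h1 hd
  rw [Finset.not_subset] at h4
  obtain ⟨x, hx, hxd⟩ := h4
  rw [Finset.mem_filter] at hx
  exact ⟨x, hxd, hx.2⟩

/-- every dodecad invariant under `hA` misses a fixed point of `hA` -/
def dodOK : Bool := allB 2576 (fun l =>
  bif Nat.beq (permMask JA (get24 DA l)) (get24 DA l) then
    anyB 24 (fun i => tb FJ i && !(tb (get24 DA l) i)) else true)

theorem k_dodOK : dodOK = true := by decide +kernel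

theorem hA_dod {d : Finset GolayPt} (hd : d ∈ dodecads) (hfix : hA • d = d) :
    ∃ y, y ∉ d ∧ hA y = y := by
  obtain ⟨l, hl, rfl⟩ := (mem_dodecads_iff d).1 hd
  have h1 := allB_spec k_dodOK l hl
  have h2 : permMask JA (get24 DA l) = get24 DA l := by
    have h3 : hA • ofMask (get24 DA l) = ofMask (permMask JA (get24 DA l)) := smul_ofMask _ _ _ _
    rw [hfix] at h3
    exact (ofMask_inj (get24_lt _ _) (permMask_lt hA_ok _) h3).symm
  rw [h2, Nat.beq_refl, cond_true, anyB_iff] at h1
  obtain ⟨i, hi, h5⟩ := h1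
  rw [Bool.and_eq_true, Bool.not_eq_true'] at h5
  refine ⟨pt i, ?_, ?_⟩
  · rw [pt_mem_ofMask hi, h5.2]; simp
  · have h6 : pt i ∈ (Finset.univ.filter fun p => hA p = p) := by
      rw [hA_fix, pt_mem_ofMask hi]; exact h5.1
    rw [Finset.mem_filter] at h6
    exact h6.2

/-- an element of order 3 with a fixed point has a fixed point off any invariant dodecad -/
theorem ord3_fix_outside {g : Equiv.Perm GolayPt} (hg : g ∈ M24) (h3 : orderOf g = 3)
    (hf : ¬ ∀ p, g p ≠ p) {d : Finset GolayPt} (hd : d ∈ dodecads) (hgd : g • d = d) :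
    ∃ x, x ∉ d ∧ g x = x := by
  obtain ⟨k, hk, e⟩ := conj_hA hg h3 hf
  have h1 : hA • (k • d) = k • d := by
    rw [← e, mul_smul, mul_smul, inv_smul_smul, hgd]
  obtain ⟨y, hy, hy'⟩ := hA_dod ((smul_mem_dodecads hk).2 hd) h1
  refine ⟨k⁻¹ y, ?_, ?_⟩
  · intro h
    apply hy
    have : k • (k⁻¹ y) ∈ k • d := Finset.smul_mem_smul_finset h
    simpa using this
  · rw [← e] at hy'
    exact (conj_fix_iff k g y).1 hy'

/-- an element of prime order fixing a point and a dodecad has a fixed point off the dodecad -/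
theorem prime_fix_outside {g : Equiv.Perm GolayPt} (hg : g ∈ M24) (hp : (orderOf g).Prime)
    {d : Finset GolayPt} (hd : d ∈ dodecads) (hgd : g • d = d) (hf : ¬ ∀ p, g p ≠ p) :
    ∃ x, x ∉ d ∧ g x = x := by
  by_cases h12 : orderOf g ∣ 12
  · have h23 : orderOf g = 2 ∨ orderOf g = 3 := by
      have h4 : orderOf g ∣ 2 ^ 2 * 3 := h12
      rcases (Nat.Prime.dvd_mul hp).1 h4 with h | h
      · left
        exact (Nat.prime_dvd_prime_iff_eq hp Nat.prime_two).1 (hp.dvd_of_dvd_pow h)
      · right
        exact (Nat.prime_dvd_prime_iff_eq hp Nat.prime_three).1 h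
    rcases h23 with h | h
    · exact ord2_fix_outside hg h hf hd
    · exact ord3_fix_outside hg h hf hd hgd
  · have hc : (Finset.univ \ d).card = 12 := by
      rw [← Finset.compl_eq_univ_sdiff, Finset.card_compl, Leech.card_pts,
        ((Cfsg.Agent.Helper28.M24Act.mem_dod d).1 hd).2]
    obtain ⟨q, hq, hq'⟩ := exists_fixed_of_prime hp (pow_orderOf_eq_one g) (Finset.univ \ d)
      (by
        intro q
        simp only [Finset.mem_sdiff, Finset.mem_univ, true_and]
        constructor
        · intro h h'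
          apply h
          rw [← hgd] at h'
          obtain ⟨r, hr, e⟩ := Finset.mem_smul_finset.1 h'
          rw [Equiv.Perm.smul_def] at e
          rw [← g.injective e]; exact hr
        · intro h h'
          apply h
          rw [← hgd]
          exact Finset.smul_mem_smul_finset h')
      (by rw [hc]; exact h12)
    rw [Finset.mem_sdiff] at hq
    exact ⟨q, hq.2, hq'⟩

end Cfsg.Agent.Helper28.PrimeFix
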