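import Mathlib

set_option autoImplicit false

namespace Cfsg.Agent.S4016P

/-- Arithmetic core of the counting step. -/
theorem h28_count_arith {p a d : ℕ} (hp : p.Prime) (ha : 2 ≤ a) (hd : d ∣ p - 1)
    (hmod : (a * d) % p = 1) (hub : p * (a - 1) + 1 ≤ a * d) : a = p - 1 ∧ d = p - 1 := by
  have hp2 : 2 ≤ p := hp.two_le
  have hdle : d ≤ p - 1 := Nat.le_of_dvd (by omega) hd
  have hdpos : 0 < d := Nat.pos_of_dvd_of_pos hd (by omega)
  obtain ⟨m, hm⟩ : ∃ m, a * d = p * m + 1 := ⟨a * d / p, by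
    have := Nat.div_add_mod (a * d) p
    omega⟩
  have h1 : a - 1 ≤ m := by
    have : p * (a - 1) ≤ p * m := by omega
    exact Nat.le_of_mul_le_mul_left this (by omega)
  have h2 : m < a := by
    by_contra hcon'
    have hcon : a ≤ m := Nat.le_of_not_lt hcon'
    have h3 : p * a ≤ p * m := Nat.mul_le_mul_left p hcon
    have h4 : a * d ≤ a * (p - 1) := Nat.mul_le_mul_left a hdle
    have h5 : a * (p - 1) ≤ a * p := Nat.mul_le_mul_left a (by omega)
    have h6 : a * p = p * a := Nat.mul_comm a p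
    omega
  have hm' : m = a - 1 := by omega
  subst hm'
  obtain ⟨e, he⟩ : ∃ e, p = d + e := ⟨p - d, by omega⟩
  have he1 : 1 ≤ e := by omega
  obtain ⟨b, rfl⟩ : ∃ b, a = b + 1 := ⟨a - 1, by omega⟩
  simp only [Nat.add_sub_cancel] at hm h1 h2
  have hde : d = e * b + 1 := by
    subst he
    have e1 : (b + 1) * d = b * d + d := by ring
    have e2 : (d + e) * b = b * d + e * b := by ring
    omega
  have hb1 : 1 ≤ b := by omega
  have hdiv : d ∣ e - 1 := by
    have h7 : p - 1 = d + (e - 1) := by omega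
    rw [h7] at hd
    exact (Nat.dvd_add_right (dvd_refl d)).mp hd
  have hlt : e - 1 < d := by
    have : e ≤ e * b := Nat.le_mul_of_pos_right e (by omega)
    omega
  have he0 : e - 1 = 0 := Nat.eq_zero_of_dvd_of_lt hdiv hlt
  have he' : e = 1 := by omega
  subst he'
  constructor <;> omega

/-- The counting step: an abelian group `L` with a nontrivial subgroup `L0` of index dividing `p - 1`,
cyclic quotient `L / L0`, order `≡ 1 (mod p)` and at least `p` pairwise trivially intersecting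
subgroups of the order of `L0` is the four-group, with `p = 3`. -/
theorem count_partition {L : Type*} [Group L] [Finite L] (hcomm : ∀ a b : L, a * b = b * a)
    {p : ℕ} [hp : Fact p.Prime] (L0 : Subgroup L) (hL0 : L0 ≠ ⊥) (hidx : L0.index ∣ p - 1)
    (hmod : Nat.card L % p = 1) {C : Type*} [CommGroup C] [IsCyclic C] (φ : L →* C)
    (hker : ∀ x : L, φ x = 1 ↔ x ∈ L0) {ι : Type*} [Finite ι] (hι : p ≤ Nat.card ι)
    (A : ι → Subgroup L) (hA : ∀ i, Nat.card (A i) = Nat.card L0)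
    (hdisj : ∀ i j, i ≠ j → A i ⊓ A j = ⊥) :
    p = 3 ∧ Nat.card L = 4 ∧ Nat.card L0 = 2 := by
  classical
  have : Fintype L := Fintype.ofFinite L
  obtain ⟨a, ha_def⟩ : ∃ a, a = Nat.card L0 := ⟨_, rfl⟩
  obtain ⟨d, hd_def⟩ : ∃ d, d = L0.index := ⟨_, rfl⟩
  have hcard : Nat.card L = a * d := by
    rw [ha_def, hd_def]; exact (Subgroup.card_mul_index L0).symm
  have ha2 : 2 ≤ a := by
    have : 1 < Nat.card L0 := L0.one_lt_card_iff_ne_bot.mpr hL0
    omega
  obtain ⟨e⟩ : Nonempty (Fin p ↪ ι) := by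
    have : Fintype ι := Fintype.ofFinite ι
    rw [Nat.card_eq_fintype_card] at hι
    exact Function.Embedding.nonempty_of_card_le (by simpa using hι)
  have hdisj' : ∀ i j : Fin p, i ≠ j → A (e i) ⊓ A (e j) = ⊥ :=
    fun i j hij => hdisj _ _ (fun h => hij (e.injective h))
  obtain ⟨T, hT⟩ : ∃ T : Fin p → Finset L,
      T = fun i => (Finset.univ.filter (fun x => x ∈ A (e i))).erase 1 := ⟨_, rfl⟩
  have hTmem : ∀ i x, x ∈ T i ↔ x ≠ 1 ∧ x ∈ A (e i) := by
    intro i x
    simp [hT]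
  have hTcard : ∀ i, (T i).card = a - 1 := by
    intro i
    have h1 : (1 : L) ∈ Finset.univ.filter (fun x => x ∈ A (e i)) := by simp
    rw [hT]
    simp only
    rw [Finset.card_erase_of_mem h1]
    congr 1
    rw [ha_def, ← hA (e i), Nat.card_eq_fintype_card, Fintype.card_subtype]
  have hTdisj : ∀ i j, i ≠ j → Disjoint (T i) (T j) := by
    intro i j hij
    rw [Finset.disjoint_left]
    intro x hxi hxj
    rw [hTmem] at hxi hxj
    have : x ∈ A (e i) ⊓ A (e j) := Subgroup.mem_inf.mpr ⟨hxi.2, hxj.2⟩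
    rw [hdisj' i j hij] at this
    exact hxi.1 (Subgroup.mem_bot.mp this)
  have hUsub : (Finset.univ.biUnion T) ⊆ (Finset.univ : Finset L).erase 1 := by
    intro x hx
    rw [Finset.mem_biUnion] at hx
    obtain ⟨i, -, hx1⟩ := hx
    rw [hTmem] at hx1
    simp [hx1.1]
  have hUcard : (Finset.univ.biUnion T).card = p * (a - 1) := by
    rw [Finset.card_biUnion (fun i _ j _ hij => hTdisj i j hij)]
    simp [hTcard]
  have hLcard : ((Finset.univ : Finset L).erase 1).card = a * d - 1 := by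
    rw [Finset.card_erase_of_mem (Finset.mem_univ _), Finset.card_univ, ← Nat.card_eq_fintype_card,
      hcard]
  have hpos : 0 < a * d := by rw [← hcard]; exact Nat.card_pos
  have hub : p * (a - 1) + 1 ≤ a * d := by
    have := Finset.card_le_card hUsub
    rw [hUcard, hLcard] at this
    omega
  obtain ⟨hap, hdp⟩ := h28_count_arith hp.out ha2 (hd_def ▸ hidx) (by rw [← hcard]; exact hmod) hub
  have hp3 : 3 ≤ p := by omega
  -- the `A (e i)` cover the nonidentity elements
  have hUeq : Finset.univ.biUnion T = (Finset.univ : Finset L).erase 1 := by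
    apply Finset.eq_of_subset_of_card_le hUsub
    rw [hUcard, hLcard, hap, hdp]
    obtain ⟨c, rfl⟩ : ∃ c, p = c + 3 := ⟨p - 3, by omega⟩
    have h1 : c + 3 - 1 = c + 2 := by omega
    have h2 : c + 2 - 1 = c + 1 := by omega
    rw [h1, h2]
    have e1 : (c + 2) * (c + 2) = (c + 3) * (c + 1) + 1 := by ring
    omega
  have hcover : ∀ x : L, x ≠ 1 → ∃ i : Fin p, x ∈ A (e i) := by
    intro x hx
    have : x ∈ Finset.univ.biUnion T := by rw [hUeq]; simp [hx]
    rw [Finset.mem_biUnion] at this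
    obtain ⟨i, -, hi⟩ := this
    exact ⟨i, ((hTmem i x).mp hi).2⟩
  have hkey : ∀ i j : Fin p, i ≠ j → ∀ x y : L, x ∈ A (e i) → y ∈ A (e j) → x ≠ 1 → y ≠ 1 →
      orderOf y ∣ orderOf x := by
    intro i j hij x y hx hy hx1 hy1
    have hxy1 : x * y ≠ 1 := by
      intro h
      have hyx : y = x⁻¹ := (inv_eq_of_mul_eq_one_right h).symm
      have : y ∈ A (e i) ⊓ A (e j) :=
        Subgroup.mem_inf.mpr ⟨by rw [hyx]; exact inv_mem hx, hy⟩
      rw [hdisj' i j hij] at this
      exact hy1 (Subgroup.mem_bot.mp this)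
    obtain ⟨k, hk⟩ := hcover (x * y) hxy1
    by_cases hkj : k = j
    · subst hkj
      have h1 : x ∈ A (e k) := by
        have h2 : x = (x * y) * y⁻¹ := by group
        rw [h2]; exact mul_mem hk (inv_mem hy)
      have h3 : x ∈ A (e i) ⊓ A (e k) := Subgroup.mem_inf.mpr ⟨hx, h1⟩
      rw [hdisj' i k hij] at h3
      exact absurd (Subgroup.mem_bot.mp h3) hx1
    · have h3 : (x * y) ^ orderOf x = y ^ orderOf x := by
        rw [(show Commute x y from hcomm x y).mul_pow, pow_orderOf_eq_one, one_mul]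
      have h4 : y ^ orderOf x ∈ A (e k) ⊓ A (e j) :=
        Subgroup.mem_inf.mpr ⟨by rw [← h3]; exact pow_mem hk _, pow_mem hy _⟩
      rw [hdisj' k j hkj] at h4
      exact orderOf_dvd_of_pow_eq_one (Subgroup.mem_bot.mp h4)
  have hne : ∀ i : Fin p, ∃ z ∈ A (e i), z ≠ 1 := by
    intro i
    have h1 : A (e i) ≠ ⊥ := by
      rw [← (A (e i)).one_lt_card_iff_ne_bot, hA, ← ha_def]; omega
    obtain ⟨⟨z, hz⟩, hz1⟩ := (Subgroup.ne_bot_iff_exists_ne_one).mp h1
    exact ⟨z, hz, fun h => hz1 (Subtype.ext h)⟩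
  have : Nontrivial (Fin p) := Fin.nontrivial_iff_two_le.mpr hp.out.two_le
  have hsame : ∀ x y : L, x ≠ 1 → y ≠ 1 → orderOf x = orderOf y := by
    intro x y hx1 hy1
    obtain ⟨i, hi⟩ := hcover x hx1
    obtain ⟨j, hj⟩ := hcover y hy1
    by_cases hij : i = j
    · subst hij
      obtain ⟨l, hl⟩ := exists_ne i
      obtain ⟨z, hz, hz1⟩ := hne l
      have h1 := Nat.dvd_antisymm (hkey i l (Ne.symm hl) x z hi hz hx1 hz1)
        (hkey l i hl z x hz hi hz1 hx1)
      have h2 := Nat.dvd_antisymm (hkey i l (Ne.symm hl) y z hj hz hy1 hz1)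
        (hkey l i hl z y hz hj hz1 hy1)
      rw [← h1, ← h2]
    · exact Nat.dvd_antisymm (hkey j i (Ne.symm hij) y x hj hi hy1 hx1)
        (hkey i j hij x y hi hj hx1 hy1)
  obtain ⟨x0, -, hx0⟩ := hne ⟨0, hp.out.pos⟩
  obtain ⟨q, hq_def⟩ : ∃ q, q = orderOf x0 := ⟨_, rfl⟩
  have hq1 : q ≠ 1 := fun h => hx0 (orderOf_eq_one_iff.mp (hq_def ▸ h))
  have hqpos : 0 < q := hq_def ▸ orderOf_pos x0
  have hqprime : q.Prime := by
    have hq'p : q.minFac.Prime := Nat.minFac_prime hq1
    have hq'd : q.minFac ∣ q := Nat.minFac_dvd q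
    have hdivpos : q / q.minFac ≠ 0 :=
      (Nat.div_pos (Nat.le_of_dvd hqpos hq'd) hq'p.pos).ne'
    have hy : orderOf (x0 ^ (q / q.minFac)) = q.minFac := by
      rw [orderOf_pow_of_dvd hdivpos (hq_def ▸ Nat.div_dvd_of_dvd hq'd), ← hq_def,
        Nat.div_div_self hq'd hqpos.ne']
    have hy1 : x0 ^ (q / q.minFac) ≠ 1 := by
      intro h
      rw [h, orderOf_one] at hy
      exact hq'p.one_lt.ne hy
    have h5 := hsame (x0 ^ (q / q.minFac)) x0 hy1 hx0
    rw [hy, ← hq_def] at h5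
    rw [← h5]; exact hq'p
  -- q ≤ p - 1
  have hqle : q ≤ p - 1 := by
    have h1 : q ∣ Nat.card L := hq_def ▸ orderOf_dvd_natCard x0
    rw [hcard, hap, hdp] at h1
    rcases (Nat.Prime.dvd_mul hqprime).mp h1 with h | h <;> exact Nat.le_of_dvd (by omega) h
  -- p - 1 ≤ q from the cyclic quotient
  obtain ⟨⟨c, hc⟩, hgen⟩ := IsCyclic.exists_generator (α := φ.range)
  obtain ⟨x, rfl⟩ := hc
  have hox : orderOf x ≤ q := by
    by_cases hx1 : x = 1
    · rw [hx1, orderOf_one]; exact hqpos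
    · rw [hq_def, hsame x x0 hx1 hx0]
  have hsurj : Function.Surjective
      (fun kz : Fin (orderOf x) × L0 => x ^ (kz.1 : ℕ) * (kz.2 : L)) := by
    intro z
    have hz := hgen ⟨φ z, ⟨z, rfl⟩⟩
    rw [Subgroup.mem_zpowers_iff] at hz
    obtain ⟨k, hk⟩ := hz
    have hk' : φ (x ^ k) = φ z := by
      have := congrArg Subtype.val hk
      simpa using this
    have hmem : (x ^ k)⁻¹ * z ∈ L0 := by
      rw [← hker, map_mul, map_inv, hk', inv_mul_cancel]
    have hopos : 0 < orderOf x := orderOf_pos x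
    have h1 := Int.emod_nonneg k (by exact_mod_cast hopos.ne' : (orderOf x : ℤ) ≠ 0)
    have h2 := Int.emod_lt_of_pos k (by exact_mod_cast hopos : (0 : ℤ) < orderOf x)
    refine ⟨(⟨(k % (orderOf x : ℤ)).toNat, by omega⟩, ⟨(x ^ k)⁻¹ * z, hmem⟩), ?_⟩
    have h3 : x ^ (k % (orderOf x : ℤ)).toNat = x ^ k := by
      rw [← zpow_natCast, Int.toNat_of_nonneg h1, zpow_mod_orderOf]
    simp only
    rw [h3]; group
  have hle : Nat.card L ≤ orderOf x * a := by
    have h1 := Nat.card_le_card_of_surjective _ hsurj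
    rw [Nat.card_prod] at h1
    simpa [ha_def] using h1
  have hpq : p - 1 ≤ q := by
    rw [hcard, hap, hdp] at hle
    have h1 : (p - 1) * (p - 1) ≤ q * (p - 1) := le_trans hle (Nat.mul_le_mul_right _ hox)
    exact Nat.le_of_mul_le_mul_right h1 (by omega)
  have hq : q = p - 1 := le_antisymm hqle hpq
  have hpodd : Odd p := by
    rcases hp.out.eq_two_or_odd' with h | h
    · omega
    · exact h
  have hq2 : q = 2 := by
    rcases hqprime.eq_two_or_odd' with h | h
    · exact h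
    · obtain ⟨u, hu⟩ := hpodd
      obtain ⟨v, hv⟩ := h
      omega
  have hp3' : p = 3 := by omega
  refine ⟨hp3', ?_, ?_⟩
  · rw [hcard, hap, hdp, hp3']
  · rw [← ha_def, hap, hp3']

end Cfsg.Agent.S4016P
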