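import Mathlib
import Cfsg.Prelude.Def_Transfer
import Cfsg.Agent.Helper1.Hall
import Cfsg.Agent.Helper1.NC
import Cfsg.Agent.Helper23.S4016C
import Cfsg.Agent.Lead.S4016D
import Cfsg.Agent.Helper12.S4016B
import Cfsg.Agent.Helper12.S4016C
import Cfsg.Agent.Helper2.S4016G

set_option autoImplicit false

namespace Cfsg.Agent.S4016P

/-- order of the normaliser in terms of a complement -/
theorem h28_card_norm {G : Type*} [Group G] [Finite G] {p : ℕ} [Fact p.Prime]
    (P : Sylow p G) (L : Subgroup G)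
    (hPL : (P : Subgroup G) ⊓ L = ⊥)
    (hsup : (P : Subgroup G) ⊔ L = Subgroup.normalizer ((P : Subgroup G) : Set G)) :
    Nat.card (Subgroup.normalizer ((P : Subgroup G) : Set G)) = Nat.card P * Nat.card L := by
  have h1 := h2_relIndex_compl (P : Subgroup G) L _ le_rfl hPL hsup
  have h2 := Subgroup.relIndex_mul_relIndex ⊥ (P : Subgroup G) _ bot_le Subgroup.le_normalizer
  rw [Subgroup.relIndex_bot_left, Subgroup.relIndex_bot_left, h1] at h2
  exact h2.symm

/-- order of the centraliser in terms of a complement -/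
theorem h28_card_cent {G : Type*} [Group G] [Finite G] {p : ℕ} [Fact p.Prime]
    (P : Sylow p G) (hcomm : ∀ a ∈ (P : Subgroup G), ∀ b ∈ (P : Subgroup G), a * b = b * a)
    (L : Subgroup G)
    (hPL : (P : Subgroup G) ⊓ L = ⊥)
    (hsup : (P : Subgroup G) ⊔ L = Subgroup.normalizer ((P : Subgroup G) : Set G)) :
    Nat.card (Subgroup.centralizer ((P : Subgroup G) : Set G)) =
      Nat.card P * Nat.card ↥(L ⊓ Subgroup.centralizer ((P : Subgroup G) : Set G)) := by
  set C : Subgroup G := Subgroup.centralizer ((P : Subgroup G) : Set G) with hC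
  have hPC : (P : Subgroup G) ≤ C := by
    intro a ha
    rw [hC, Subgroup.mem_centralizer_iff]
    intro b hb
    exact hcomm b hb a ha
  have hCN : C ≤ Subgroup.normalizer ((P : Subgroup G) : Set G) :=
    Subgroup.centralizer_le_normalizer _
  have hLN : L ≤ Subgroup.normalizer ((P : Subgroup G) : Set G) := hsup ▸ le_sup_right
  have hPL' : (P : Subgroup G) ⊓ (L ⊓ C) = ⊥ := by
    rw [← inf_assoc, hPL, bot_inf_eq]
  have hsup' : (P : Subgroup G) ⊔ (L ⊓ C) = C := by
    apply le_antisymm (sup_le hPC inf_le_right)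
    intro c hc
    have hcN : c ∈ (P : Subgroup G) ⊔ L := hsup ▸ hCN hc
    have h1 : c ∈ ((↑((P : Subgroup G) ⊔ L) : Set G)) := hcN
    rw [Subgroup.coe_mul_of_right_le_normalizer_left (P : Subgroup G) L hLN] at h1
    obtain ⟨u, hu, l, hl, rfl⟩ := h1
    have hlC : l ∈ C := by
      have h2 : l = u⁻¹ * (u * l) := by group
      rw [h2]
      exact C.mul_mem (C.inv_mem (hPC hu)) hc
    exact Subgroup.mul_mem _ (Subgroup.mem_sup_left hu)
      (Subgroup.mem_sup_right (Subgroup.mem_inf.mpr ⟨hl, hlC⟩))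
  have h1 := h2_relIndex_compl (P : Subgroup G) (L ⊓ C) C hCN hPL' hsup'
  have h2 := Subgroup.relIndex_mul_relIndex ⊥ (P : Subgroup G) C bot_le hPC
  rw [Subgroup.relIndex_bot_left, Subgroup.relIndex_bot_left, h1] at h2
  exact h2.symm

/-- choice of a complement `L` of `P` in `N(P)` containing a Sylow `q`-subgroup of `G`
for a prime `q` dividing `|C_L(P)|` -/
theorem h28_exists_compl {G : Type*} [Group G] [Finite G] {p : ℕ} [Fact p.Prime]
    [IsSimpleGroup G]
    (hna : ∃ a b : G, a * b ≠ b * a) (P : Sylow p G) (hcyc : IsCyclic P)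
    (hP1 : (P : Subgroup G) ≠ ⊥)
    (hab : ∀ H : Subgroup G, ¬ p ∣ Nat.card H → IsMulCommutative H)
    (hmin : ∀ H : Subgroup G, H ≠ ⊤ → ∀ P1 : Sylow p H,
      Cfsg.HasNormalPComplement p H ∨ (P1 : Subgroup H).Normal)
    (hT : ∀ (q : ℕ) [Fact q.Prime] (Q : Sylow q G), IsMulCommutative Q → ∀ y ∈ Q,
      (∀ n ∈ Subgroup.normalizer ((Q : Subgroup G) : Set G), n * y = y * n) → y = 1) :
    ∃ (L : Subgroup G) (q : ℕ) (_ : Fact q.Prime) (Q : Sylow q G) (x : G),
      (P : Subgroup G) ⊓ L = ⊥ ∧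
      (P : Subgroup G) ⊔ L = Subgroup.normalizer ((P : Subgroup G) : Set G) ∧
      ¬ p ∣ Nat.card L ∧
      (∀ a ∈ L, ∀ b ∈ L, a * b = b * a) ∧ Nat.card L % p = 1 ∧
      Nat.card L ∣ (p - 1) * Nat.card ↥(L ⊓ Subgroup.centralizer ((P : Subgroup G) : Set G)) ∧
      ¬ L ≤ Subgroup.centralizer ((P : Subgroup G) : Set G) ∧
      q ≠ p ∧ q ∣ Nat.card ↥(L ⊓ Subgroup.centralizer ((P : Subgroup G) : Set G)) ∧
      (Q : Subgroup G) ≤ L ∧ x ∈ (Q : Subgroup G) ∧ x ≠ 1 ∧
      Subgroup.centralizer ({x} : Set G) = Subgroup.normalizer ((P : Subgroup G) : Set G) := by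
  classical
  have hp : p.Prime := Fact.out
  have hPcomm : ∀ a ∈ (P : Subgroup G), ∀ b ∈ (P : Subgroup G), a * b = b * a := cyc_comm hcyc
  have hPC : (P : Subgroup G) ≤ Subgroup.centralizer ((P : Subgroup G) : Set G) := by
    intro a ha
    rw [Subgroup.mem_centralizer_iff]
    intro b hb
    exact hPcomm b hb a ha
  obtain ⟨L, hLN, hcop, hsup⟩ := Cfsg.Agent.Helper1.exists_complement_in_normalizer P
  have hPL : (P : Subgroup G) ⊓ L = ⊥ := (Subgroup.disjoint_of_coprime_natCard hcop.symm).eq_bot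
  have hcardN := h28_card_norm P L hPL hsup
  have hcardC := h28_card_cent P hPcomm L hPL hsup
  have hpP : p ∣ Nat.card (P : Subgroup G) := by
    obtain ⟨k, hk⟩ := P.2.exists_card_eq
    rcases Nat.eq_zero_or_pos k with h0 | h0
    · exfalso
      apply hP1
      rw [h0, pow_zero] at hk
      exact Subgroup.card_eq_one.mp hk
    · rw [hk]
      exact dvd_pow_self p h0.ne'
  have hpL : ¬ p ∣ Nat.card L := by
    intro h
    have h1 := Nat.dvd_gcd h hpP
    rw [Nat.Coprime] at hcop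
    rw [hcop] at h1
    exact hp.one_lt.ne' (Nat.dvd_one.mp h1)
  have hLcomm : ∀ a ∈ L, ∀ b ∈ L, a * b = b * a := by
    intro a ha b hb
    have h := (hab L hpL).is_comm.comm ⟨a, ha⟩ ⟨b, hb⟩
    exact congrArg Subtype.val h
  have hQ : ∀ (q : ℕ) [Fact q.Prime], q ≠ p → ∀ Q : Sylow q G, Nat.card Q % p = 1 :=
    fun q _ hqp Q => sylow_q_mod hna hab hmin hT hqp Q
  have hmod : Nat.card L % p = 1 := h2_compl_card_mod P hQ L hPL hsup
  have hdvd : Nat.card L ∣
      (p - 1) * Nat.card ↥(L ⊓ Subgroup.centralizer ((P : Subgroup G) : Set G)) := by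
    have h := card_norm_dvd P hcyc
    rw [hcardN, hcardC] at h
    have e : (p - 1) * (Nat.card P *
        Nat.card ↥(L ⊓ Subgroup.centralizer ((P : Subgroup G) : Set G))) =
        Nat.card P * ((p - 1) *
        Nat.card ↥(L ⊓ Subgroup.centralizer ((P : Subgroup G) : Set G))) := by ring
    rw [e] at h
    exact Nat.dvd_of_mul_dvd_mul_left Nat.card_pos h
  have hne : ¬ L ≤ Subgroup.centralizer ((P : Subgroup G) : Set G) := by
    intro h
    apply not_norm_le_cent hna P hcyc hP1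
    rw [← hsup]
    exact sup_le hPC h
  have hL0 : L ⊓ Subgroup.centralizer ((P : Subgroup G) : Set G) ≠ ⊥ :=
    h2_L0_ne_bot P hQ L hPL hsup hdvd hne
  have hcard1 : Nat.card ↥(L ⊓ Subgroup.centralizer ((P : Subgroup G) : Set G)) ≠ 1 := by
    intro h
    exact hL0 (Subgroup.card_eq_one.mp h)
  obtain ⟨q, hq, hqd⟩ := Nat.exists_prime_and_dvd hcard1
  haveI hqF : Fact q.Prime := ⟨hq⟩
  obtain ⟨x0, hx0⟩ := exists_prime_orderOf_dvd_card'
    (G := ↥(L ⊓ Subgroup.centralizer ((P : Subgroup G) : Set G))) q hqd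
  have hxL : (x0 : G) ∈ L := (Subgroup.mem_inf.mp x0.2).1
  have hxC : (x0 : G) ∈ Subgroup.centralizer ((P : Subgroup G) : Set G) :=
    (Subgroup.mem_inf.mp x0.2).2
  have hxo : orderOf (x0 : G) = q := by
    rw [Subgroup.orderOf_coe]
    exact hx0
  have hqL : q ∣ Nat.card L := hqd.trans (Subgroup.card_dvd_of_le inf_le_left)
  have hqp : q ≠ p := by
    rintro rfl
    exact hpL hqL
  have hx1 : (x0 : G) ≠ 1 := by
    intro h
    rw [h, orderOf_one] at hxo
    exact hq.one_lt.ne hxo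
  have hxcop : (orderOf (x0 : G)).Coprime p := by
    rw [hxo]
    exact (Nat.coprime_primes hq hp).mpr hqp
  have hxcent := pprime_cent_central P hcyc hab hxC hxcop
  have hCx := cent_eq_norm hna P hcyc hP1 hmin (x0 : G) hx1 hxcent
  -- a Sylow `q`-subgroup of `L` containing `x`
  have hZ : IsPGroup q (Subgroup.zpowers (⟨(x0 : G), hxL⟩ : L)) := by
    apply IsPGroup.of_card (n := 1)
    rw [Nat.card_zpowers, Subgroup.orderOf_mk, hxo, pow_one]
  obtain ⟨S, hS⟩ := hZ.exists_le_sylow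
  have hS'p : IsPGroup q ((S : Subgroup L).map L.subtype) := S.2.map L.subtype
  obtain ⟨Q, hQ'⟩ := hS'p.exists_le_sylow
  have hxQ : (x0 : G) ∈ (Q : Subgroup G) :=
    hQ' ⟨⟨(x0 : G), hxL⟩, hS (Subgroup.mem_zpowers _), rfl⟩
  have hQp : ¬ p ∣ Nat.card (Q : Subgroup G) := by
    obtain ⟨k, hk⟩ := Q.2.exists_card_eq
    rw [hk]
    intro hdvd
    have := (Nat.prime_dvd_prime_iff_eq hp hq).mp (hp.dvd_of_dvd_pow hdvd)
    exact hqp this.symm
  have hQcomm : IsMulCommutative (Q : Subgroup G) := hab _ hQp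
  have hQN : (Q : Subgroup G) ≤ Subgroup.normalizer ((P : Subgroup G) : Set G) := by
    intro y hy
    rw [← hCx, Subgroup.mem_centralizer_iff]
    intro z hz
    rw [Set.mem_singleton_iff] at hz
    rw [hz]
    have h := hQcomm.is_comm.comm ⟨(x0 : G), hxQ⟩ ⟨y, hy⟩
    exact congrArg Subtype.val h
  have hQL : Nat.card (Q : Subgroup G) ∣ Nat.card L := by
    have h1 : Nat.card (Q : Subgroup G) ∣
        Nat.card (Subgroup.normalizer ((P : Subgroup G) : Set G)) := Subgroup.card_dvd_of_le hQN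
    rw [hcardN] at h1
    have h2 : (Nat.card (Q : Subgroup G)).Coprime (Nat.card P) := by
      obtain ⟨k, hk⟩ := Q.2.exists_card_eq
      obtain ⟨j, hj⟩ := P.2.exists_card_eq
      rw [hk, hj]
      exact Nat.Coprime.pow _ _ ((Nat.coprime_primes hq hp).mpr hqp)
    exact h2.dvd_of_dvd_mul_left h1
  have hScard : Nat.card ((S : Subgroup L).map L.subtype) = q ^ (Nat.card L).factorization q := by
    rw [Subgroup.card_map_of_injective (Subgroup.subtype_injective _)]
    exact S.card_eq_multiplicity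
  have hQS : Nat.card (Q : Subgroup G) ≤ Nat.card ((S : Subgroup L).map L.subtype) := by
    obtain ⟨k, hk⟩ := Q.2.exists_card_eq
    rw [hScard]
    rw [hk] at hQL ⊢
    exact Nat.pow_le_pow_right hq.pos
      ((hq.pow_dvd_iff_le_factorization Nat.card_pos.ne').mp hQL)
  have hQeq : (S : Subgroup L).map L.subtype = (Q : Subgroup G) :=
    Subgroup.eq_of_le_of_card_ge hQ' hQS
  have hQleL : (Q : Subgroup G) ≤ L := by
    rw [← hQeq]
    exact Subgroup.map_subtype_le _
  exact ⟨L, q, hqF, Q, (x0 : G), hPL, hsup, hpL, hLcomm, hmod, hdvd, hne, hqp, hqd, hQleL,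
    hxQ, hx1, hCx⟩

/-- Piece (7): the structure of `N(Q)` and the family for the counting. -/
theorem h28_struct {G : Type*} [Group G] [Finite G] {p : ℕ} [Fact p.Prime] [IsSimpleGroup G]
    (hna : ∃ a b : G, a * b ≠ b * a) (P : Sylow p G) (hcyc : IsCyclic P)
    (hP1 : (P : Subgroup G) ≠ ⊥)
    (hab : ∀ H : Subgroup G, ¬ p ∣ Nat.card H → IsMulCommutative H)
    (hmin : ∀ H : Subgroup G, H ≠ ⊤ → ∀ P1 : Sylow p H,
      Cfsg.HasNormalPComplement p H ∨ (P1 : Subgroup H).Normal)
    (hT : ∀ (q : ℕ) [Fact q.Prime] (Q : Sylow q G), IsMulCommutative Q → ∀ y ∈ Q,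
      (∀ n ∈ Subgroup.normalizer ((Q : Subgroup G) : Set G), n * y = y * n) → y = 1) :
    ∃ (L P1 : Subgroup G) (q : ℕ) (_ : Fact q.Prime) (Q : Sylow q G),
      (P : Subgroup G) ⊓ L = ⊥ ∧
      (P : Subgroup G) ⊔ L = Subgroup.normalizer ((P : Subgroup G) : Set G) ∧
      (∀ a ∈ L, ∀ b ∈ L, a * b = b * a) ∧ Nat.card L % p = 1 ∧
      Nat.card L ∣ (p - 1) * Nat.card ↥(L ⊓ Subgroup.centralizer ((P : Subgroup G) : Set G)) ∧
      ¬ L ≤ Subgroup.centralizer ((P : Subgroup G) : Set G) ∧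
      q ∣ Nat.card ↥(L ⊓ Subgroup.centralizer ((P : Subgroup G) : Set G)) ∧
      (Q : Subgroup G) ≤ L ∧ p ≤ Nat.card P1 ∧
      (∀ u ∈ P1, ∀ x ∈ L, u * x * u⁻¹ ∈ L) ∧
      (∀ u ∈ P1, u ≠ 1 → ∀ x ∈ L ⊓ Subgroup.centralizer ((P : Subgroup G) : Set G),
        u * x * u⁻¹ ∈ L ⊓ Subgroup.centralizer ((P : Subgroup G) : Set G) → x = 1) := by
  classical
  have hp : p.Prime := Fact.out
  obtain ⟨L, q, hqF, Q, x, hPL, hsup, hpL, hLcomm, hmod, hdvd, hne, hqp, hqd, hQL, hxQ, hx1,
    hCx⟩ := h28_exists_compl hna P hcyc hP1 hab hmin hT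
  have hq : q.Prime := hqF.out
  have hcardN := h28_card_norm P L hPL hsup
  have hLN : L ≤ Subgroup.normalizer ((P : Subgroup G) : Set G) := hsup ▸ le_sup_right
  have hQ1 : (Q : Subgroup G) ≠ ⊥ := by
    intro h
    rw [h, Subgroup.mem_bot] at hxQ
    exact hx1 hxQ
  have hQp : ¬ p ∣ Nat.card (Q : Subgroup G) := by
    obtain ⟨k, hk⟩ := Q.2.exists_card_eq
    rw [hk]
    intro hdvd
    have := (Nat.prime_dvd_prime_iff_eq hp hq).mp (hp.dvd_of_dvd_pow hdvd)
    exact hqp this.symm
  have hQcomm : IsMulCommutative (Q : Subgroup G) := hab _ hQp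
  have hMtop : Subgroup.normalizer ((Q : Subgroup G) : Set G) ≠ ⊤ := by
    intro htop
    have hn : (Q : Subgroup G).Normal := Subgroup.normalizer_eq_top_iff.mp htop
    rcases hn.eq_bot_or_eq_top with h | h
    · exact hQ1 h
    · obtain ⟨a, b, hab'⟩ := hna
      apply hab'
      have ha : a ∈ (Q : Subgroup G) := h ▸ Subgroup.mem_top a
      have hb : b ∈ (Q : Subgroup G) := h ▸ Subgroup.mem_top b
      exact congrArg Subtype.val (hQcomm.is_comm.comm ⟨a, ha⟩ ⟨b, hb⟩)
  have hQM : (Q : Subgroup G) ≤ Subgroup.normalizer ((Q : Subgroup G) : Set G) :=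
    Subgroup.le_normalizer
  have hMmem : ∀ m ∈ Subgroup.normalizer ((Q : Subgroup G) : Set G), ∀ y ∈ (Q : Subgroup G),
      m * y * m⁻¹ ∈ (Q : Subgroup G) := by
    intro m hm y hy
    exact (Subgroup.mem_normalizer_iff.mp hm y).mp hy
  -- fixed points of a complemented Sylow `p`-subgroup of `N(Q)` on `Q` are trivial
  have hfix : ∀ (R : Sylow p (Subgroup.normalizer ((Q : Subgroup G) : Set G)))
      (H : Subgroup (Subgroup.normalizer ((Q : Subgroup G) : Set G))),
      H.IsComplement' (R : Subgroup (Subgroup.normalizer ((Q : Subgroup G) : Set G))) →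
      ∀ y ∈ (Q : Subgroup G),
      (∀ r ∈ (R : Subgroup (Subgroup.normalizer ((Q : Subgroup G) : Set G))),
        (r : G) * y = y * r) → y = 1 := by
    intro R H hc y hy hyR
    exact hT q Q hQcomm y hy (comm_norm_of_comm_sylow hab hqp Q R H hc hy hyR)
  -- `N(Q)` has a normal `p`-complement
  have hnpc : Cfsg.HasNormalPComplement p (Subgroup.normalizer ((Q : Subgroup G) : Set G)) := by
    obtain ⟨R0⟩ : Nonempty (Sylow p (Subgroup.normalizer ((Q : Subgroup G) : Set G))) :=
      inferInstance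
    rcases hmin _ hMtop R0 with h | hn
    · exact h
    · exfalso
      haveI := hn
      obtain ⟨H, hH⟩ := Subgroup.exists_right_complement'_of_coprime R0.card_coprime_index
      apply hx1
      apply hfix R0 H hH.symm x hxQ
      intro r hr
      have hc1 : (r : G) * x * (r : G)⁻¹ * x⁻¹ ∈ (Q : Subgroup G) :=
        Subgroup.mul_mem _ (hMmem r r.2 x hxQ) (Subgroup.inv_mem _ hxQ)
      have hc2 : r * ⟨x, hQM hxQ⟩ * r⁻¹ * (⟨x, hQM hxQ⟩ :
          Subgroup.normalizer ((Q : Subgroup G) : Set G))⁻¹ ∈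
          (R0 : Subgroup (Subgroup.normalizer ((Q : Subgroup G) : Set G))) := by
        have h1 : (⟨x, hQM hxQ⟩ : Subgroup.normalizer ((Q : Subgroup G) : Set G)) * r⁻¹ *
            (⟨x, hQM hxQ⟩ : Subgroup.normalizer ((Q : Subgroup G) : Set G))⁻¹ ∈
            (R0 : Subgroup (Subgroup.normalizer ((Q : Subgroup G) : Set G))) :=
          hn.conj_mem _ (Subgroup.inv_mem _ hr) _
        have h2 : r * ⟨x, hQM hxQ⟩ * r⁻¹ * (⟨x, hQM hxQ⟩ :
            Subgroup.normalizer ((Q : Subgroup G) : Set G))⁻¹ =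
            r * ((⟨x, hQM hxQ⟩ : Subgroup.normalizer ((Q : Subgroup G) : Set G)) * r⁻¹ *
            (⟨x, hQM hxQ⟩ : Subgroup.normalizer ((Q : Subgroup G) : Set G))⁻¹) := by group
        rw [h2]
        exact Subgroup.mul_mem _ hr h1
      obtain ⟨k, hk⟩ := Q.2 ⟨_, hc1⟩
      obtain ⟨j, hj⟩ := R0.2 ⟨_, hc2⟩
      have e1 : ((r : G) * x * (r : G)⁻¹ * x⁻¹) ^ q ^ k = 1 := by
        have := congrArg Subtype.val hk
        simpa using this
      have e2 : ((r : G) * x * (r : G)⁻¹ * x⁻¹) ^ p ^ j = 1 := by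
        have := congrArg Subtype.val (congrArg Subtype.val hj)
        simpa using this
      have d1 := orderOf_dvd_of_pow_eq_one e1
      have d2 := orderOf_dvd_of_pow_eq_one e2
      have hcop : (q ^ k).Coprime (p ^ j) :=
        Nat.Coprime.pow _ _ ((Nat.coprime_primes hq hp).mpr hqp)
      have d3 : orderOf ((r : G) * x * (r : G)⁻¹ * x⁻¹) = 1 :=
        Nat.eq_one_of_dvd_coprimes hcop d1 d2
      have e3 : (r : G) * x * (r : G)⁻¹ * x⁻¹ = 1 := orderOf_eq_one_iff.mp d3
      calc (r : G) * x = ((r : G) * x * (r : G)⁻¹ * x⁻¹) * (x * r) := by group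
        _ = x * r := by rw [e3, one_mul]
  obtain ⟨R, K, hKn, hKc⟩ := hnpc
  obtain ⟨K2, hK2n, hK2cop, hK2all⟩ :=
    lead_npc_data (p := p) (H := Subgroup.normalizer ((Q : Subgroup G) : Set G))
      ⟨R, K, hKn, hKc⟩
  have hK'p : ¬ p ∣ Nat.card
      (K2.map (Subgroup.normalizer ((Q : Subgroup G) : Set G)).subtype) := by
    rw [Subgroup.card_map_of_injective (Subgroup.subtype_injective _)]
    intro h
    have h1 := Nat.dvd_gcd h (dvd_refl p)
    rw [Nat.Coprime] at hK2cop
    rw [hK2cop] at h1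
    exact hp.one_lt.ne' (Nat.dvd_one.mp h1)
  have hK'comm := hab _ hK'p
  have hLM : L ≤ Subgroup.normalizer ((Q : Subgroup G) : Set G) := by
    intro l hl
    apply Subgroup.centralizer_le_normalizer
    rw [Subgroup.mem_centralizer_iff]
    intro z hz
    exact hLcomm z (hQL hz) l hl
  have hcopL : ∀ l ∈ L, (orderOf l).Coprime p := by
    intro l hl
    have h1 : orderOf l ∣ Nat.card L := by
      have := orderOf_dvd_natCard (⟨l, hl⟩ : L)
      rwa [Subgroup.orderOf_mk] at this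
    exact Nat.Coprime.coprime_dvd_left h1 ((Nat.Prime.coprime_iff_not_dvd hp).mpr hpL).symm
  have hLK : L ≤ K2.map (Subgroup.normalizer ((Q : Subgroup G) : Set G)).subtype := by
    intro l hl
    have hlo : (orderOf (⟨l, hLM hl⟩ :
        Subgroup.normalizer ((Q : Subgroup G) : Set G))).Coprime p := by
      rw [Subgroup.orderOf_mk]
      exact hcopL l hl
    exact ⟨⟨l, hLM hl⟩, hK2all _ hlo, rfl⟩
  have hK'N : K2.map (Subgroup.normalizer ((Q : Subgroup G) : Set G)).subtype ≤
      Subgroup.normalizer ((P : Subgroup G) : Set G) := by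
    intro k hk
    rw [← hCx, Subgroup.mem_centralizer_iff]
    intro z hz
    rw [Set.mem_singleton_iff] at hz
    rw [hz]
    have h := hK'comm.is_comm.comm ⟨x, hLK (hQL hxQ)⟩ ⟨k, hk⟩
    exact congrArg Subtype.val h
  have hK'L : K2.map (Subgroup.normalizer ((Q : Subgroup G) : Set G)).subtype = L := by
    have h1 : Nat.card (K2.map (Subgroup.normalizer ((Q : Subgroup G) : Set G)).subtype) ∣
        Nat.card (Subgroup.normalizer ((P : Subgroup G) : Set G)) :=
      Subgroup.card_dvd_of_le hK'N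
    rw [hcardN] at h1
    have h2 : (Nat.card (K2.map
        (Subgroup.normalizer ((Q : Subgroup G) : Set G)).subtype)).Coprime (Nat.card P) := by
      obtain ⟨j, hj⟩ := P.2.exists_card_eq
      rw [hj]
      exact Nat.Coprime.pow_right _ ((Nat.Prime.coprime_iff_not_dvd hp).mpr hK'p).symm
    have h3 := h2.dvd_of_dvd_mul_left h1
    exact (Subgroup.eq_of_le_of_card_ge hLK (Nat.le_of_dvd Nat.card_pos h3)).symm
  have hMnormL : ∀ m ∈ Subgroup.normalizer ((Q : Subgroup G) : Set G), ∀ l ∈ L,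
      m * l * m⁻¹ ∈ L := by
    intro m hm l hl
    rw [← hK'L] at hl ⊢
    obtain ⟨l', hl', rfl⟩ := hl
    exact ⟨⟨m, hm⟩ * l' * ⟨m, hm⟩⁻¹, hK2n.conj_mem l' hl' ⟨m, hm⟩, rfl⟩
  have hP1p : IsPGroup p ((R : Subgroup (Subgroup.normalizer ((Q : Subgroup G) : Set G))).map
      (Subgroup.normalizer ((Q : Subgroup G) : Set G)).subtype) := R.2.map _
  have hP1card : p ≤ Nat.card
      ((R : Subgroup (Subgroup.normalizer ((Q : Subgroup G) : Set G))).map
      (Subgroup.normalizer ((Q : Subgroup G) : Set G)).subtype) := by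
    rw [Subgroup.card_map_of_injective (Subgroup.subtype_injective _)]
    obtain ⟨k, hk⟩ := R.2.exists_card_eq
    rcases Nat.eq_zero_or_pos k with h0 | h0
    · exfalso
      rw [h0, pow_zero] at hk
      have hRbot : (R : Subgroup (Subgroup.normalizer ((Q : Subgroup G) : Set G))) = ⊥ :=
        Subgroup.card_eq_one.mp hk
      apply hx1
      apply hfix R K hKc x hxQ
      intro r hr
      rw [hRbot, Subgroup.mem_bot] at hr
      rw [hr]
      simp
    · rw [hk]
      calc p = p ^ 1 := (pow_one p).symm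
        _ ≤ p ^ k := Nat.pow_le_pow_right hp.pos h0
  refine ⟨L, (R : Subgroup (Subgroup.normalizer ((Q : Subgroup G) : Set G))).map
      (Subgroup.normalizer ((Q : Subgroup G) : Set G)).subtype, q, hqF, Q, hPL, hsup, hLcomm,
      hmod, hdvd, hne, hqd, hQL, hP1card, ?_, ?_⟩
  · intro u hu l hl
    exact hMnormL u (Subgroup.map_subtype_le _ hu) l hl
  · intro u hu hu1 y hy hy'
    by_contra hy1
    have hyL := (Subgroup.mem_inf.mp hy).1
    have hyC := (Subgroup.mem_inf.mp hy).2
    have hy'L := (Subgroup.mem_inf.mp hy').1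
    have hy'C := (Subgroup.mem_inf.mp hy').2
    have hy'1 : u * y * u⁻¹ ≠ 1 := by
      intro h
      apply hy1
      have e : y = u⁻¹ * (u * y * u⁻¹) * u := by group
      rw [e, h]
      group
    have hCy := cent_eq_norm hna P hcyc hP1 hmin y hy1
      (pprime_cent_central P hcyc hab hyC (hcopL y hyL))
    have hCy' := cent_eq_norm hna P hcyc hP1 hmin (u * y * u⁻¹) hy'1
      (pprime_cent_central P hcyc hab hy'C (hcopL _ hy'L))
    have huNN : u ∈ Subgroup.normalizer
        ((Subgroup.normalizer ((P : Subgroup G) : Set G) : Subgroup G) : Set G) := by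
      rw [Subgroup.mem_normalizer_iff]
      intro n
      constructor
      · intro hn
        rw [← hCy'] 
        rw [← hCy] at hn
        rw [Subgroup.mem_centralizer_iff] at hn ⊢
        intro z hz
        rw [Set.mem_singleton_iff] at hz
        have h1 := hn y (Set.mem_singleton y)
        rw [hz]
        calc u * y * u⁻¹ * (u * n * u⁻¹) = u * (y * n) * u⁻¹ := by group
          _ = u * (n * y) * u⁻¹ := by rw [h1]
          _ = u * n * u⁻¹ * (u * y * u⁻¹) := by group
      · intro hn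
        rw [← hCy]
        rw [← hCy'] at hn
        rw [Subgroup.mem_centralizer_iff] at hn ⊢
        intro z hz
        rw [Set.mem_singleton_iff] at hz
        have h1 := hn (u * y * u⁻¹) (Set.mem_singleton _)
        rw [hz]
        calc y * n = u⁻¹ * ((u * y * u⁻¹) * (u * n * u⁻¹)) * u := by group
          _ = u⁻¹ * ((u * n * u⁻¹) * (u * y * u⁻¹)) * u := by rw [h1]
          _ = n * y := by group
    have huN : u ∈ Subgroup.normalizer ((P : Subgroup G) : Set G) := by
      have h' : Subgroup.normalizer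
          ((Subgroup.normalizer ((P : Subgroup G) : Set G) : Subgroup G) : Set G) =
          Subgroup.normalizer ((P : Subgroup G) : Set G) := Sylow.normalizer_normalizer P
      rw [h'] at huNN
      exact huNN
    have huP : u ∈ (P : Subgroup G) := by
      obtain ⟨k, hk⟩ := hP1p ⟨u, hu⟩
      have hk' : u ^ p ^ k = 1 := by
        have := congrArg Subtype.val hk
        simpa using this
      exact Cfsg.Agent.Helper1.mem_sylow_of_mem_normalizer_of_pow_eq_one P u huN k hk'
    obtain ⟨P', hP'⟩ := hP1p.exists_le_sylow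
    obtain ⟨g, rfl⟩ := MulAction.exists_smul_eq G P P'
    have hcyc' : IsCyclic (g • P : Sylow p G) := by
      haveI := hcyc
      exact isCyclic_of_surjective (P.equivSMul g) (P.equivSMul g).surjective
    have huP' : u ∈ ((g • P : Sylow p G) : Subgroup G) := hP' hu
    have hP'1 : ((g • P : Sylow p G) : Subgroup G) ≠ ⊥ := by
      intro h
      rw [h, Subgroup.mem_bot] at huP'
      exact hu1 huP'
    have hU1 : Subgroup.zpowers u ≠ ⊥ := by
      intro h
      apply hu1
      have h1 := Subgroup.mem_zpowers u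
      rw [h, Subgroup.mem_bot] at h1
      exact h1
    have e1 := norm_sub_eq hna P hcyc hP1 hmin (Subgroup.zpowers u)
      (by rw [Subgroup.zpowers_le]; exact huP) hU1
    have e2 := norm_sub_eq hna (g • P : Sylow p G) hcyc' hP'1 hmin (Subgroup.zpowers u)
      (by rw [Subgroup.zpowers_le]; exact huP') hU1
    have e3 : Subgroup.normalizer (((g • P : Sylow p G) : Subgroup G) : Set G) =
        Subgroup.normalizer ((P : Subgroup G) : Set G) := e2.symm.trans e1
    have hP'P : ((g • P : Sylow p G) : Subgroup G) ≤ (P : Subgroup G) := by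
      intro v hv
      have hvN : v ∈ Subgroup.normalizer ((P : Subgroup G) : Set G) := by
        rw [← e3]
        exact Subgroup.le_normalizer hv
      obtain ⟨k, hk⟩ := (g • P : Sylow p G).2 ⟨v, hv⟩
      have hk' : v ^ p ^ k = 1 := by
        have := congrArg Subtype.val hk
        simpa using this
      exact Cfsg.Agent.Helper1.mem_sylow_of_mem_normalizer_of_pow_eq_one P v hvN k hk'
    apply hx1
    apply hfix R K hKc x hxQ
    intro r hr
    have hrP : (r : G) ∈ (P : Subgroup G) := hP'P (hP' ⟨r, hr, rfl⟩)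
    have hxL : x ∈ L := hQL hxQ
    have c1 : (r : G) * x * (r : G)⁻¹ * x⁻¹ ∈ L :=
      L.mul_mem (hMnormL r r.2 x hxL) (L.inv_mem hxL)
    have c2 : (r : G) * x * (r : G)⁻¹ * x⁻¹ ∈ (P : Subgroup G) := by
      have h1 : x * (r : G)⁻¹ * x⁻¹ ∈ (P : Subgroup G) :=
        (Subgroup.mem_normalizer_iff.mp (hLN hxL) _).mp (Subgroup.inv_mem _ hrP)
      have h2 : (r : G) * x * (r : G)⁻¹ * x⁻¹ = (r : G) * (x * (r : G)⁻¹ * x⁻¹) := by group
      rw [h2]
      exact Subgroup.mul_mem _ hrP h1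
    have c3 : (r : G) * x * (r : G)⁻¹ * x⁻¹ ∈ (P : Subgroup G) ⊓ L :=
      Subgroup.mem_inf.mpr ⟨c2, c1⟩
    rw [hPL, Subgroup.mem_bot] at c3
    calc (r : G) * x = ((r : G) * x * (r : G)⁻¹ * x⁻¹) * (x * r) := by group
      _ = x * r := by rw [c3, one_mul]

end Cfsg.Agent.S4016P
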