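import Mathlib

/-!
# The presentation `⟨x, y, z | x³, y⁵, z², [z, x], [z, y], (xy)² z⁻¹⟩` of `SL(2, 5)` (helper28)

A coset enumeration over the trivial subgroup, written out: 120 words `W i` and the 360 edges
`W i * g = W j` of the Cayley graph (119 of them hold by definition, the other 241 are deduced one at a
time from the relators).
-/

set_option autoImplicit false

namespace Cfsg.Agent.Helper28.Sl25Pres

/-- The relators. -/
def rels : Set (FreeGroup (Fin 3)) :=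
  {FreeGroup.of (0 : Fin 3) ^ 3, FreeGroup.of (1 : Fin 3) ^ 5, FreeGroup.of (2 : Fin 3) ^ 2,
    (FreeGroup.of (2 : Fin 3))⁻¹ * FreeGroup.of 0 * FreeGroup.of 2 * (FreeGroup.of (0 : Fin 3))⁻¹,
    (FreeGroup.of (2 : Fin 3))⁻¹ * FreeGroup.of 1 * FreeGroup.of 2 * (FreeGroup.of (1 : Fin 3))⁻¹,
    (FreeGroup.of (0 : Fin 3) * FreeGroup.of 1) ^ 2 * (FreeGroup.of (2 : Fin 3))⁻¹}

/-- The presented group. -/
abbrev P : Type := PresentedGroup rels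

/-- First generator. -/
def x : P := PresentedGroup.of 0
/-- Second generator. -/
def y : P := PresentedGroup.of 1
/-- Third generator. -/
def z : P := PresentedGroup.of 2

theorem x3 : x ^ 3 = 1 := by
  have h := PresentedGroup.one_of_mem (rels := rels) (x := FreeGroup.of (0 : Fin 3) ^ 3) (by simp [rels])
  rwa [map_pow] at h

theorem y5 : y ^ 5 = 1 := by
  have h := PresentedGroup.one_of_mem (rels := rels) (x := FreeGroup.of (1 : Fin 3) ^ 5) (by simp [rels])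
  rwa [map_pow] at h

theorem z2 : z ^ 2 = 1 := by
  have h := PresentedGroup.one_of_mem (rels := rels) (x := FreeGroup.of (2 : Fin 3) ^ 2) (by simp [rels])
  rwa [map_pow] at h

theorem czx : z⁻¹ * x * z * x⁻¹ = 1 := by
  have h := PresentedGroup.one_of_mem (rels := rels)
    (x := (FreeGroup.of (2 : Fin 3))⁻¹ * FreeGroup.of 0 * FreeGroup.of 2 * (FreeGroup.of (0 : Fin 3))⁻¹)
    (by simp [rels])
  rwa [map_mul, map_mul, map_mul, map_inv, map_inv] at h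

theorem czy : z⁻¹ * y * z * y⁻¹ = 1 := by
  have h := PresentedGroup.one_of_mem (rels := rels)
    (x := (FreeGroup.of (2 : Fin 3))⁻¹ * FreeGroup.of 1 * FreeGroup.of 2 * (FreeGroup.of (1 : Fin 3))⁻¹)
    (by simp [rels])
  rwa [map_mul, map_mul, map_mul, map_inv, map_inv] at h

theorem pz : (x * y) ^ 2 * z⁻¹ = 1 := by
  have h := PresentedGroup.one_of_mem (rels := rels)
    (x := (FreeGroup.of (0 : Fin 3) * FreeGroup.of 1) ^ 2 * (FreeGroup.of (2 : Fin 3))⁻¹) (by simp [rels])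
  rwa [map_mul, map_pow, map_mul, map_inv] at h

theorem rot {a b : P} (h : a * b = 1) : b * a = 1 := by
  have h2 : a = b⁻¹ := eq_inv_of_mul_eq_one_left h
  rw [h2, mul_inv_cancel]

theorem rel_rx_0 : x * (x * x) = 1 := by
  have h := x3
  simpa only [pow_succ, pow_zero, one_mul, mul_assoc] using h

theorem rel_ry_0 : y * (y * (y * (y * y))) = 1 := by
  have h := y5
  simpa only [pow_succ, pow_zero, one_mul, mul_assoc] using h

theorem rel_rz_0 : z * z = 1 := by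
  have h := z2
  simpa only [pow_succ, pow_zero, one_mul, mul_assoc] using h

theorem x_inv : x⁻¹ = x * x := inv_eq_of_mul_eq_one_right rel_rx_0

theorem y_inv : y⁻¹ = y * (y * (y * y)) := inv_eq_of_mul_eq_one_right rel_ry_0

theorem z_inv : z⁻¹ = z := inv_eq_of_mul_eq_one_right rel_rz_0

theorem rel_rp_0 : x * (y * (x * (y * z))) = 1 := by
  have h := pz
  rw [z_inv] at h
  simpa only [pow_succ, pow_zero, one_mul, mul_assoc] using h

theorem rel_rcx_0 : z * (x * (z * (x * x))) = 1 := by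
  have h := czx
  rw [z_inv, x_inv] at h
  simpa only [mul_assoc] using h

theorem rel_rcy_0 : z * (y * (z * (y * (y * (y * y))))) = 1 := by
  have h := czy
  rw [z_inv, y_inv] at h
  simpa only [mul_assoc] using h

theorem d_rx_0 {u0 u1 u2 : P} (e1 : u0 * x = u1) (e2 : u1 * x = u2) : u2 * x = u0 := by
  subst e1; subst e2
  simp only [mul_assoc]
  rw [rel_rx_0, mul_one]

theorem d_ry_0 {u0 u1 u2 u3 u4 : P} (e1 : u0 * y = u1) (e2 : u1 * y = u2) (e3 : u2 * y = u3) (e4 : u3 * y = u4) : u4 * y = u0 := by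
  subst e1; subst e2; subst e3; subst e4
  simp only [mul_assoc]
  rw [rel_ry_0, mul_one]

theorem d_rz_0 {u0 u1 : P} (e1 : u0 * z = u1) : u1 * z = u0 := by
  subst e1
  simp only [mul_assoc]
  rw [rel_rz_0, mul_one]

theorem d_rp_0 {u0 u1 u2 u3 u4 : P} (e1 : u0 * x = u1) (e2 : u1 * y = u2) (e3 : u2 * x = u3) (e4 : u3 * y = u4) : u4 * z = u0 := by
  subst e1; subst e2; subst e3; subst e4
  simp only [mul_assoc]
  rw [rel_rp_0, mul_one]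

theorem rel_rp_1 : y * (x * (y * (z * (x)))) = 1 := by
  have h := rot rel_rp_0
  simpa only [mul_assoc] using h

theorem d_rp_1 {u0 u1 u2 u3 u4 : P} (e1 : u0 * y = u1) (e2 : u1 * x = u2) (e3 : u2 * y = u3) (e4 : u3 * z = u4) : u4 * x = u0 := by
  subst e1; subst e2; subst e3; subst e4
  simp only [mul_assoc]
  rw [rel_rp_1, mul_one]

theorem rel_rp_2 : x * (y * (z * (x * (y)))) = 1 := by
  have h := rot rel_rp_1
  simpa only [mul_assoc] using h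

theorem d_rp_2 {u0 u1 u2 u3 u4 : P} (e1 : u0 * x = u1) (e2 : u1 * y = u2) (e3 : u2 * z = u3) (e4 : u3 * x = u4) : u4 * y = u0 := by
  subst e1; subst e2; subst e3; subst e4
  simp only [mul_assoc]
  rw [rel_rp_2, mul_one]

theorem rel_rp_3 : y * (z * (x * (y * (x)))) = 1 := by
  have h := rot rel_rp_2
  simpa only [mul_assoc] using h

theorem d_rp_3 {u0 u1 u2 u3 u4 : P} (e1 : u0 * y = u1) (e2 : u1 * z = u2) (e3 : u2 * x = u3) (e4 : u3 * y = u4) : u4 * x = u0 := by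
  subst e1; subst e2; subst e3; subst e4
  simp only [mul_assoc]
  rw [rel_rp_3, mul_one]

theorem rel_rp_4 : z * (x * (y * (x * (y)))) = 1 := by
  have h := rot rel_rp_3
  simpa only [mul_assoc] using h

theorem d_rp_4 {u0 u1 u2 u3 u4 : P} (e1 : u0 * z = u1) (e2 : u1 * x = u2) (e3 : u2 * y = u3) (e4 : u3 * x = u4) : u4 * y = u0 := by
  subst e1; subst e2; subst e3; subst e4
  simp only [mul_assoc]
  rw [rel_rp_4, mul_one]

theorem d_rcx_0 {u0 u1 u2 u3 u4 : P} (e1 : u0 * z = u1) (e2 : u1 * x = u2) (e3 : u2 * z = u3) (e4 : u3 * x = u4) : u4 * x = u0 := by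
  subst e1; subst e2; subst e3; subst e4
  simp only [mul_assoc]
  rw [rel_rcx_0, mul_one]

theorem rel_rcx_1 : x * (z * (x * (x * (z)))) = 1 := by
  have h := rot rel_rcx_0
  simpa only [mul_assoc] using h

theorem d_rcx_1 {u0 u1 u2 u3 u4 : P} (e1 : u0 * x = u1) (e2 : u1 * z = u2) (e3 : u2 * x = u3) (e4 : u3 * x = u4) : u4 * z = u0 := by
  subst e1; subst e2; subst e3; subst e4
  simp only [mul_assoc]
  rw [rel_rcx_1, mul_one]

theorem rel_rcx_2 : z * (x * (x * (z * (x)))) = 1 := by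
  have h := rot rel_rcx_1
  simpa only [mul_assoc] using h

theorem d_rcx_2 {u0 u1 u2 u3 u4 : P} (e1 : u0 * z = u1) (e2 : u1 * x = u2) (e3 : u2 * x = u3) (e4 : u3 * z = u4) : u4 * x = u0 := by
  subst e1; subst e2; subst e3; subst e4
  simp only [mul_assoc]
  rw [rel_rcx_2, mul_one]

theorem rel_rcx_3 : x * (x * (z * (x * (z)))) = 1 := by
  have h := rot rel_rcx_2
  simpa only [mul_assoc] using h

theorem d_rcx_3 {u0 u1 u2 u3 u4 : P} (e1 : u0 * x = u1) (e2 : u1 * x = u2) (e3 : u2 * z = u3) (e4 : u3 * x = u4) : u4 * z = u0 := by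
  subst e1; subst e2; subst e3; subst e4
  simp only [mul_assoc]
  rw [rel_rcx_3, mul_one]

theorem rel_rcx_4 : x * (z * (x * (z * (x)))) = 1 := by
  have h := rot rel_rcx_3
  simpa only [mul_assoc] using h

theorem d_rcx_4 {u0 u1 u2 u3 u4 : P} (e1 : u0 * x = u1) (e2 : u1 * z = u2) (e3 : u2 * x = u3) (e4 : u3 * z = u4) : u4 * x = u0 := by
  subst e1; subst e2; subst e3; subst e4
  simp only [mul_assoc]
  rw [rel_rcx_4, mul_one]

theorem d_rcy_0 {u0 u1 u2 u3 u4 u5 u6 : P} (e1 : u0 * z = u1) (e2 : u1 * y = u2) (e3 : u2 * z = u3) (e4 : u3 * y = u4) (e5 : u4 * y = u5) (e6 : u5 * y = u6) : u6 * y = u0 := by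
  subst e1; subst e2; subst e3; subst e4; subst e5; subst e6
  simp only [mul_assoc]
  rw [rel_rcy_0, mul_one]

theorem rel_rcy_1 : y * (z * (y * (y * (y * (y * (z)))))) = 1 := by
  have h := rot rel_rcy_0
  simpa only [mul_assoc] using h

theorem d_rcy_1 {u0 u1 u2 u3 u4 u5 u6 : P} (e1 : u0 * y = u1) (e2 : u1 * z = u2) (e3 : u2 * y = u3) (e4 : u3 * y = u4) (e5 : u4 * y = u5) (e6 : u5 * y = u6) : u6 * z = u0 := by
  subst e1; subst e2; subst e3; subst e4; subst e5; subst e6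
  simp only [mul_assoc]
  rw [rel_rcy_1, mul_one]

theorem rel_rcy_2 : z * (y * (y * (y * (y * (z * (y)))))) = 1 := by
  have h := rot rel_rcy_1
  simpa only [mul_assoc] using h

theorem d_rcy_2 {u0 u1 u2 u3 u4 u5 u6 : P} (e1 : u0 * z = u1) (e2 : u1 * y = u2) (e3 : u2 * y = u3) (e4 : u3 * y = u4) (e5 : u4 * y = u5) (e6 : u5 * z = u6) : u6 * y = u0 := by
  subst e1; subst e2; subst e3; subst e4; subst e5; subst e6
  simp only [mul_assoc]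
  rw [rel_rcy_2, mul_one]

theorem rel_rcy_3 : y * (y * (y * (y * (z * (y * (z)))))) = 1 := by
  have h := rot rel_rcy_2
  simpa only [mul_assoc] using h

theorem d_rcy_3 {u0 u1 u2 u3 u4 u5 u6 : P} (e1 : u0 * y = u1) (e2 : u1 * y = u2) (e3 : u2 * y = u3) (e4 : u3 * y = u4) (e5 : u4 * z = u5) (e6 : u5 * y = u6) : u6 * z = u0 := by
  subst e1; subst e2; subst e3; subst e4; subst e5; subst e6
  simp only [mul_assoc]
  rw [rel_rcy_3, mul_one]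

theorem rel_rcy_4 : y * (y * (y * (z * (y * (z * (y)))))) = 1 := by
  have h := rot rel_rcy_3
  simpa only [mul_assoc] using h

theorem d_rcy_4 {u0 u1 u2 u3 u4 u5 u6 : P} (e1 : u0 * y = u1) (e2 : u1 * y = u2) (e3 : u2 * y = u3) (e4 : u3 * z = u4) (e5 : u4 * y = u5) (e6 : u5 * z = u6) : u6 * y = u0 := by
  subst e1; subst e2; subst e3; subst e4; subst e5; subst e6
  simp only [mul_assoc]
  rw [rel_rcy_4, mul_one]

theorem rel_rcy_5 : y * (y * (z * (y * (z * (y * (y)))))) = 1 := by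
  have h := rot rel_rcy_4
  simpa only [mul_assoc] using h

theorem d_rcy_5 {u0 u1 u2 u3 u4 u5 u6 : P} (e1 : u0 * y = u1) (e2 : u1 * y = u2) (e3 : u2 * z = u3) (e4 : u3 * y = u4) (e5 : u4 * z = u5) (e6 : u5 * y = u6) : u6 * y = u0 := by
  subst e1; subst e2; subst e3; subst e4; subst e5; subst e6
  simp only [mul_assoc]
  rw [rel_rcy_5, mul_one]

theorem rel_rcy_6 : y * (z * (y * (z * (y * (y * (y)))))) = 1 := by
  have h := rot rel_rcy_5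
  simpa only [mul_assoc] using h

theorem d_rcy_6 {u0 u1 u2 u3 u4 u5 u6 : P} (e1 : u0 * y = u1) (e2 : u1 * z = u2) (e3 : u2 * y = u3) (e4 : u3 * z = u4) (e5 : u4 * y = u5) (e6 : u5 * y = u6) : u6 * y = u0 := by
  subst e1; subst e2; subst e3; subst e4; subst e5; subst e6
  simp only [mul_assoc]
  rw [rel_rcy_6, mul_one]

/-- Names of the generators. -/
inductive G3 : Type
  | gx | gy | gz
  deriving DecidableEq

/-- The generator with a given name. -/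
def gen : G3 → P
  | .gx => x
  | .gy => y
  | .gz => z

/-- The value of a word. -/
def ev (l : List G3) : P := l.foldl (fun acc c => acc * gen c) 1

/-- The 120 words. -/
def paths : List (List G3) :=
  [[],
   [.gx],
   [.gy],
   [.gz],
   [.gx, .gx],
   [.gx, .gy],
   [.gx, .gz],
   [.gy, .gx],
   [.gy, .gy],
   [.gy, .gz],
   [.gx, .gx, .gy],
   [.gx, .gx, .gz],
   [.gx, .gy, .gx],
   [.gx, .gy, .gy],
   [.gx, .gy, .gz],
   [.gy, .gx, .gx],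
   [.gy, .gx, .gz],
   [.gy, .gy, .gx],
   [.gy, .gy, .gy],
   [.gy, .gy, .gz],
   [.gx, .gx, .gy, .gx],
   [.gx, .gx, .gy, .gy],
   [.gx, .gx, .gy, .gz],
   [.gx, .gy, .gx, .gx],
   [.gx, .gy, .gx, .gz],
   [.gx, .gy, .gy, .gx],
   [.gx, .gy, .gy, .gy],
   [.gx, .gy, .gy, .gz],
   [.gy, .gx, .gx, .gy],
   [.gy, .gx, .gx, .gz],
   [.gy, .gy, .gx, .gx],
   [.gy, .gy, .gx, .gz],
   [.gy, .gy, .gy, .gx],
   [.gy, .gy, .gy, .gz],
   [.gx, .gx, .gy, .gx, .gx],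
   [.gx, .gx, .gy, .gx, .gz],
   [.gx, .gx, .gy, .gy, .gx],
   [.gx, .gx, .gy, .gy, .gy],
   [.gx, .gx, .gy, .gy, .gz],
   [.gx, .gy, .gx, .gx, .gy],
   [.gx, .gy, .gx, .gx, .gz],
   [.gx, .gy, .gy, .gx, .gx],
   [.gx, .gy, .gy, .gx, .gz],
   [.gx, .gy, .gy, .gy, .gx],
   [.gx, .gy, .gy, .gy, .gz],
   [.gy, .gx, .gx, .gy, .gy],
   [.gy, .gx, .gx, .gy, .gz],
   [.gy, .gy, .gx, .gx, .gy],
   [.gy, .gy, .gx, .gx, .gz],
   [.gy, .gy, .gy, .gx, .gz],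
   [.gx, .gx, .gy, .gx, .gx, .gy],
   [.gx, .gx, .gy, .gx, .gx, .gz],
   [.gx, .gx, .gy, .gy, .gx, .gx],
   [.gx, .gx, .gy, .gy, .gx, .gz],
   [.gx, .gx, .gy, .gy, .gy, .gx],
   [.gx, .gx, .gy, .gy, .gy, .gz],
   [.gx, .gy, .gx, .gx, .gy, .gy],
   [.gx, .gy, .gx, .gx, .gy, .gz],
   [.gx, .gy, .gy, .gx, .gx, .gy],
   [.gx, .gy, .gy, .gx, .gx, .gz],
   [.gx, .gy, .gy, .gy, .gx, .gz],
   [.gy, .gx, .gx, .gy, .gy, .gx],
   [.gy, .gx, .gx, .gy, .gy, .gy],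
   [.gy, .gx, .gx, .gy, .gy, .gz],
   [.gy, .gy, .gx, .gx, .gy, .gy],
   [.gy, .gy, .gx, .gx, .gy, .gz],
   [.gx, .gx, .gy, .gx, .gx, .gy, .gy],
   [.gx, .gx, .gy, .gx, .gx, .gy, .gz],
   [.gx, .gx, .gy, .gy, .gx, .gx, .gy],
   [.gx, .gx, .gy, .gy, .gx, .gx, .gz],
   [.gx, .gx, .gy, .gy, .gy, .gx, .gz],
   [.gx, .gy, .gx, .gx, .gy, .gy, .gx],
   [.gx, .gy, .gx, .gx, .gy, .gy, .gy],
   [.gx, .gy, .gx, .gx, .gy, .gy, .gz],
   [.gx, .gy, .gy, .gx, .gx, .gy, .gy],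
   [.gx, .gy, .gy, .gx, .gx, .gy, .gz],
   [.gy, .gx, .gx, .gy, .gy, .gx, .gx],
   [.gy, .gx, .gx, .gy, .gy, .gx, .gz],
   [.gy, .gx, .gx, .gy, .gy, .gy, .gx],
   [.gy, .gx, .gx, .gy, .gy, .gy, .gz],
   [.gy, .gy, .gx, .gx, .gy, .gy, .gx],
   [.gy, .gy, .gx, .gx, .gy, .gy, .gz],
   [.gx, .gx, .gy, .gx, .gx, .gy, .gy, .gx],
   [.gx, .gx, .gy, .gx, .gx, .gy, .gy, .gy],
   [.gx, .gx, .gy, .gx, .gx, .gy, .gy, .gz],
   [.gx, .gx, .gy, .gy, .gx, .gx, .gy, .gy],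
   [.gx, .gx, .gy, .gy, .gx, .gx, .gy, .gz],
   [.gx, .gy, .gx, .gx, .gy, .gy, .gx, .gx],
   [.gx, .gy, .gx, .gx, .gy, .gy, .gx, .gz],
   [.gx, .gy, .gx, .gx, .gy, .gy, .gy, .gx],
   [.gx, .gy, .gx, .gx, .gy, .gy, .gy, .gz],
   [.gx, .gy, .gy, .gx, .gx, .gy, .gy, .gx],
   [.gx, .gy, .gy, .gx, .gx, .gy, .gy, .gz],
   [.gy, .gx, .gx, .gy, .gy, .gx, .gx, .gy],
   [.gy, .gx, .gx, .gy, .gy, .gx, .gx, .gz],
   [.gy, .gx, .gx, .gy, .gy, .gy, .gx, .gz],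
   [.gy, .gy, .gx, .gx, .gy, .gy, .gx, .gx],
   [.gy, .gy, .gx, .gx, .gy, .gy, .gx, .gz],
   [.gx, .gx, .gy, .gx, .gx, .gy, .gy, .gx, .gx],
   [.gx, .gx, .gy, .gx, .gx, .gy, .gy, .gx, .gz],
   [.gx, .gx, .gy, .gx, .gx, .gy, .gy, .gy, .gx],
   [.gx, .gx, .gy, .gx, .gx, .gy, .gy, .gy, .gz],
   [.gx, .gx, .gy, .gy, .gx, .gx, .gy, .gy, .gx],
   [.gx, .gx, .gy, .gy, .gx, .gx, .gy, .gy, .gz],
   [.gx, .gy, .gx, .gx, .gy, .gy, .gx, .gx, .gy],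
   [.gx, .gy, .gx, .gx, .gy, .gy, .gx, .gx, .gz],
   [.gx, .gy, .gx, .gx, .gy, .gy, .gy, .gx, .gz],
   [.gx, .gy, .gy, .gx, .gx, .gy, .gy, .gx, .gx],
   [.gx, .gy, .gy, .gx, .gx, .gy, .gy, .gx, .gz],
   [.gy, .gx, .gx, .gy, .gy, .gx, .gx, .gy, .gy],
   [.gy, .gx, .gx, .gy, .gy, .gx, .gx, .gy, .gz],
   [.gy, .gy, .gx, .gx, .gy, .gy, .gx, .gx, .gy],
   [.gx, .gx, .gy, .gx, .gx, .gy, .gy, .gx, .gx, .gy],
   [.gx, .gx, .gy, .gx, .gx, .gy, .gy, .gx, .gx, .gz],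
   [.gx, .gx, .gy, .gx, .gx, .gy, .gy, .gy, .gx, .gz],
   [.gx, .gx, .gy, .gy, .gx, .gx, .gy, .gy, .gx, .gz],
   [.gx, .gy, .gx, .gx, .gy, .gy, .gx, .gx, .gy, .gy],
   [.gx, .gy, .gy, .gx, .gx, .gy, .gy, .gx, .gx, .gy],
   [.gy, .gx, .gx, .gy, .gy, .gx, .gx, .gy, .gy, .gx],
   [.gy, .gx, .gx, .gy, .gy, .gx, .gx, .gy, .gy, .gz]]

/-- The 120 elements. -/
def W (i : ℕ) : P := ev (paths.getD i [])

theorem ex_0 : W 0 * x = W 1 := rfl
theorem ey_0 : W 0 * y = W 2 := rfl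
theorem ez_0 : W 0 * z = W 3 := rfl
theorem ez_3 : W 3 * z = W 0 := d_rz_0 ez_0
theorem ex_1 : W 1 * x = W 4 := rfl
theorem ex_4 : W 4 * x = W 0 := d_rx_0 ex_0 ex_1
theorem ey_1 : W 1 * y = W 5 := rfl
theorem ez_1 : W 1 * z = W 6 := rfl
theorem ez_6 : W 6 * z = W 1 := d_rz_0 ez_1
theorem ex_3 : W 3 * x = W 6 := d_rcx_2 ez_6 ex_1 ex_4 ez_0
theorem ex_2 : W 2 * x = W 7 := rfl
theorem ey_2 : W 2 * y = W 8 := rfl
theorem ez_2 : W 2 * z = W 9 := rfl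
theorem ez_9 : W 9 * z = W 2 := d_rz_0 ez_2
theorem ey_4 : W 4 * y = W 10 := rfl
theorem ez_4 : W 4 * z = W 11 := rfl
theorem ex_11 : W 11 * x = W 3 := d_rcx_2 ez_3 ex_0 ex_1 ez_4
theorem ez_11 : W 11 * z = W 4 := d_rz_0 ez_4
theorem ex_6 : W 6 * x = W 11 := d_rx_0 ex_11 ex_3
theorem ey_7 : W 7 * y = W 11 := d_rp_4 ez_11 ex_4 ey_0 ex_2
theorem ey_3 : W 3 * y = W 9 := d_rp_4 ez_9 ex_2 ey_7 ex_11
theorem ex_5 : W 5 * x = W 12 := rfl
theorem ey_12 : W 12 * y = W 3 := d_rp_4 ez_3 ex_0 ey_1 ex_5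
theorem ey_5 : W 5 * y = W 13 := rfl
theorem ez_5 : W 5 * z = W 14 := rfl
theorem ez_14 : W 14 * z = W 5 := d_rz_0 ez_5
theorem ey_6 : W 6 * y = W 14 := d_rp_4 ez_14 ex_5 ey_12 ex_3
theorem ex_7 : W 7 * x = W 15 := rfl
theorem ex_15 : W 15 * x = W 2 := d_rx_0 ex_2 ex_7
theorem ez_7 : W 7 * z = W 16 := rfl
theorem ez_16 : W 16 * z = W 7 := d_rz_0 ez_7
theorem ex_9 : W 9 * x = W 16 := d_rcx_2 ez_16 ex_7 ex_15 ez_2
theorem ey_16 : W 16 * y = W 4 := d_rp_2 ex_4 ey_0 ez_2 ex_9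
theorem ex_8 : W 8 * x = W 17 := rfl
theorem ey_8 : W 8 * y = W 18 := rfl
theorem ez_8 : W 8 * z = W 19 := rfl
theorem ez_19 : W 19 * z = W 8 := d_rz_0 ez_8
theorem ex_10 : W 10 * x = W 20 := rfl
theorem ey_20 : W 20 * y = W 6 := d_rp_4 ez_6 ex_1 ey_4 ex_10
theorem ey_10 : W 10 * y = W 21 := rfl
theorem ez_10 : W 10 * z = W 22 := rfl
theorem ez_22 : W 22 * z = W 10 := d_rz_0 ez_10
theorem ey_11 : W 11 * y = W 22 := d_rp_4 ez_22 ex_10 ey_20 ex_6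
theorem ex_12 : W 12 * x = W 23 := rfl
theorem ex_23 : W 23 * x = W 5 := d_rx_0 ex_5 ex_12
theorem ez_12 : W 12 * z = W 24 := rfl
theorem ez_24 : W 24 * z = W 12 := d_rz_0 ez_12
theorem ex_14 : W 14 * x = W 24 := d_rcx_2 ez_24 ex_12 ex_23 ez_5
theorem ey_24 : W 24 * y = W 0 := d_rp_2 ex_0 ey_1 ez_5 ex_14
theorem ey_18 : W 18 * y = W 24 := d_ry_0 ey_24 ey_0 ey_2 ey_8
theorem ey_9 : W 9 * y = W 19 := d_rcy_2 ez_19 ey_8 ey_18 ey_24 ey_0 ez_2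
theorem ex_13 : W 13 * x = W 25 := rfl
theorem ey_13 : W 13 * y = W 26 := rfl
theorem ez_13 : W 13 * z = W 27 := rfl
theorem ez_27 : W 27 * z = W 13 := d_rz_0 ez_13
theorem ey_15 : W 15 * y = W 28 := rfl
theorem ez_15 : W 15 * z = W 29 := rfl
theorem ex_29 : W 29 * x = W 9 := d_rcx_2 ez_9 ex_2 ex_7 ez_15
theorem ez_29 : W 29 * z = W 15 := d_rz_0 ez_15
theorem ex_16 : W 16 * x = W 29 := d_rx_0 ex_29 ex_9
theorem ey_17 : W 17 * y = W 29 := d_rp_2 ex_29 ey_9 ez_19 ex_8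
theorem ex_17 : W 17 * x = W 30 := rfl
theorem ex_30 : W 30 * x = W 8 := d_rx_0 ex_8 ex_17
theorem ez_17 : W 17 * z = W 31 := rfl
theorem ez_31 : W 31 * z = W 17 := d_rz_0 ez_17
theorem ex_19 : W 19 * x = W 31 := d_rcx_2 ez_31 ex_17 ex_30 ez_8
theorem ey_31 : W 31 * y = W 15 := d_rp_2 ex_15 ey_2 ez_8 ex_19
theorem ex_18 : W 18 * x = W 32 := rfl
theorem ez_18 : W 18 * z = W 33 := rfl
theorem ey_33 : W 33 * y = W 12 := d_rcy_2 ez_12 ey_24 ey_0 ey_2 ey_8 ez_18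
theorem ez_33 : W 33 * z = W 18 := d_rz_0 ez_18
theorem ey_19 : W 19 * y = W 33 := d_ry_0 ey_33 ey_12 ey_3 ey_9
theorem ex_20 : W 20 * x = W 34 := rfl
theorem ex_34 : W 34 * x = W 10 := d_rx_0 ex_10 ex_20
theorem ez_20 : W 20 * z = W 35 := rfl
theorem ez_35 : W 35 * z = W 20 := d_rz_0 ez_20
theorem ex_22 : W 22 * x = W 35 := d_rcx_2 ez_35 ex_20 ex_34 ez_10
theorem ey_35 : W 35 * y = W 1 := d_rp_2 ex_1 ey_4 ez_10 ex_22
theorem ey_26 : W 26 * y = W 35 := d_ry_0 ey_35 ey_1 ey_5 ey_13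
theorem ey_14 : W 14 * y = W 27 := d_rcy_2 ez_27 ey_13 ey_26 ey_35 ey_1 ez_5
theorem ex_21 : W 21 * x = W 36 := rfl
theorem ey_21 : W 21 * y = W 37 := rfl
theorem ey_37 : W 37 * y = W 16 := d_ry_0 ey_16 ey_4 ey_10 ey_21
theorem ex_28 : W 28 * x = W 37 := d_rp_3 ey_37 ez_16 ex_7 ey_15
theorem ez_21 : W 21 * z = W 38 := rfl
theorem ez_38 : W 38 * z = W 21 := d_rz_0 ez_21
theorem ey_22 : W 22 * y = W 38 := d_rcy_2 ez_38 ey_21 ey_37 ey_16 ey_4 ez_10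
theorem ey_23 : W 23 * y = W 39 := rfl
theorem ex_39 : W 39 * x = W 18 := d_rp_3 ey_18 ez_24 ex_12 ey_23
theorem ex_32 : W 32 * x = W 39 := d_rx_0 ex_39 ex_18
theorem ez_23 : W 23 * z = W 40 := rfl
theorem ex_40 : W 40 * x = W 14 := d_rcx_2 ez_14 ex_5 ex_12 ez_23
theorem ez_40 : W 40 * z = W 23 := d_rz_0 ez_23
theorem ex_24 : W 24 * x = W 40 := d_rx_0 ex_40 ex_14
theorem ey_25 : W 25 * y = W 40 := d_rp_2 ex_40 ey_14 ez_27 ex_13
theorem ex_25 : W 25 * x = W 41 := rfl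
theorem ex_41 : W 41 * x = W 13 := d_rx_0 ex_13 ex_25
theorem ez_25 : W 25 * z = W 42 := rfl
theorem ez_42 : W 42 * z = W 25 := d_rz_0 ez_25
theorem ex_27 : W 27 * x = W 42 := d_rcx_2 ez_42 ex_25 ex_41 ez_13
theorem ey_42 : W 42 * y = W 23 := d_rp_2 ex_23 ey_5 ez_13 ex_27
theorem ex_26 : W 26 * x = W 43 := rfl
theorem ez_26 : W 26 * z = W 44 := rfl
theorem ey_44 : W 44 * y = W 20 := d_rcy_2 ez_20 ey_35 ey_1 ey_5 ey_13 ez_26
theorem ez_44 : W 44 * z = W 26 := d_rz_0 ez_26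
theorem ey_27 : W 27 * y = W 44 := d_ry_0 ey_44 ey_20 ey_6 ey_14
theorem ey_28 : W 28 * y = W 45 := rfl
theorem ez_28 : W 28 * z = W 46 := rfl
theorem ez_46 : W 46 * z = W 28 := d_rz_0 ez_28
theorem ey_29 : W 29 * y = W 46 := d_rp_4 ez_46 ex_28 ey_37 ex_16
theorem ey_30 : W 30 * y = W 47 := rfl
theorem ez_30 : W 30 * z = W 48 := rfl
theorem ex_48 : W 48 * x = W 19 := d_rcx_2 ez_19 ex_8 ex_17 ez_30
theorem ez_48 : W 48 * z = W 30 := d_rz_0 ez_30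
theorem ex_31 : W 31 * x = W 48 := d_rx_0 ex_48 ex_19
theorem ey_32 : W 32 * y = W 48 := d_rp_2 ex_48 ey_19 ez_33 ex_18
theorem ez_32 : W 32 * z = W 49 := rfl
theorem ez_49 : W 49 * z = W 32 := d_rz_0 ez_32
theorem ex_33 : W 33 * x = W 49 := d_rcx_2 ez_49 ex_32 ex_39 ez_18
theorem ey_49 : W 49 * y = W 30 := d_rp_2 ex_30 ey_8 ez_18 ex_33
theorem ey_34 : W 34 * y = W 50 := rfl
theorem ex_50 : W 50 * x = W 26 := d_rp_3 ey_26 ez_35 ex_20 ey_34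
theorem ex_43 : W 43 * x = W 50 := d_rx_0 ex_50 ex_26
theorem ez_34 : W 34 * z = W 51 := rfl
theorem ex_51 : W 51 * x = W 22 := d_rcx_2 ez_22 ex_10 ex_20 ez_34
theorem ez_51 : W 51 * z = W 34 := d_rz_0 ez_34
theorem ex_35 : W 35 * x = W 51 := d_rx_0 ex_51 ex_22
theorem ey_36 : W 36 * y = W 51 := d_rp_2 ex_51 ey_22 ez_38 ex_21
theorem ex_36 : W 36 * x = W 52 := rfl
theorem ex_52 : W 52 * x = W 21 := d_rx_0 ex_21 ex_36
theorem ez_36 : W 36 * z = W 53 := rfl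
theorem ez_53 : W 53 * z = W 36 := d_rz_0 ez_36
theorem ex_38 : W 38 * x = W 53 := d_rcx_2 ez_53 ex_36 ex_52 ez_21
theorem ey_53 : W 53 * y = W 34 := d_rp_2 ex_34 ey_10 ez_21 ex_38
theorem ex_37 : W 37 * x = W 54 := rfl
theorem ex_54 : W 54 * x = W 28 := d_rx_0 ex_28 ex_37
theorem ez_37 : W 37 * z = W 55 := rfl
theorem ey_55 : W 55 * y = W 7 := d_rcy_2 ez_7 ey_16 ey_4 ey_10 ey_21 ez_37
theorem ez_55 : W 55 * z = W 37 := d_rz_0 ez_37
theorem ey_38 : W 38 * y = W 55 := d_ry_0 ey_55 ey_7 ey_11 ey_22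
theorem ex_46 : W 46 * x = W 55 := d_rp_1 ey_55 ex_7 ey_15 ez_28
theorem ey_39 : W 39 * y = W 56 := rfl
theorem ez_39 : W 39 * z = W 57 := rfl
theorem ex_57 : W 57 * x = W 33 := d_rp_1 ey_33 ex_12 ey_23 ez_39
theorem ez_57 : W 57 * z = W 39 := d_rz_0 ez_39
theorem ex_49 : W 49 * x = W 57 := d_rx_0 ex_57 ex_33
theorem ey_40 : W 40 * y = W 57 := d_rp_2 ex_57 ey_33 ez_12 ex_24
theorem ey_41 : W 41 * y = W 58 := rfl
theorem ez_41 : W 41 * z = W 59 := rfl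
theorem ex_59 : W 59 * x = W 27 := d_rcx_2 ez_27 ex_13 ex_25 ez_41
theorem ez_59 : W 59 * z = W 41 := d_rz_0 ez_41
theorem ex_42 : W 42 * x = W 59 := d_rx_0 ex_59 ex_27
theorem ey_43 : W 43 * y = W 59 := d_rp_2 ex_59 ey_27 ez_44 ex_26
theorem ez_43 : W 43 * z = W 60 := rfl
theorem ez_60 : W 60 * z = W 43 := d_rz_0 ez_43
theorem ex_44 : W 44 * x = W 60 := d_rcx_2 ez_60 ex_43 ex_50 ez_26
theorem ey_60 : W 60 * y = W 41 := d_rp_2 ex_41 ey_13 ez_26 ex_44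
theorem ex_45 : W 45 * x = W 61 := rfl
theorem ey_45 : W 45 * y = W 62 := rfl
theorem ey_62 : W 62 * y = W 31 := d_ry_0 ey_31 ey_15 ey_28 ey_45
theorem ex_47 : W 47 * x = W 62 := d_rp_3 ey_62 ez_31 ex_17 ey_30
theorem ez_45 : W 45 * z = W 63 := rfl
theorem ez_63 : W 63 * z = W 45 := d_rz_0 ez_45
theorem ey_46 : W 46 * y = W 63 := d_rcy_2 ez_63 ey_45 ey_62 ey_31 ey_15 ez_28
theorem ey_47 : W 47 * y = W 64 := rfl
theorem ez_47 : W 47 * z = W 65 := rfl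
theorem ez_65 : W 65 * z = W 47 := d_rz_0 ez_47
theorem ey_48 : W 48 * y = W 65 := d_rp_4 ez_65 ex_47 ey_62 ex_31
theorem ey_50 : W 50 * y = W 66 := rfl
theorem ez_50 : W 50 * z = W 67 := rfl
theorem ex_67 : W 67 * x = W 44 := d_rp_1 ey_44 ex_20 ey_34 ez_50
theorem ez_67 : W 67 * z = W 50 := d_rz_0 ez_50
theorem ex_60 : W 60 * x = W 67 := d_rx_0 ex_67 ex_44
theorem ey_51 : W 51 * y = W 67 := d_rp_2 ex_67 ey_44 ez_20 ex_35
theorem ey_52 : W 52 * y = W 68 := rfl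
theorem ez_52 : W 52 * z = W 69 := rfl
theorem ex_69 : W 69 * x = W 38 := d_rcx_2 ez_38 ex_21 ex_36 ez_52
theorem ez_69 : W 69 * z = W 52 := d_rz_0 ez_52
theorem ex_53 : W 53 * x = W 69 := d_rx_0 ex_69 ex_38
theorem ey_54 : W 54 * y = W 69 := d_rp_2 ex_69 ey_38 ez_55 ex_37
theorem ez_54 : W 54 * z = W 70 := rfl
theorem ex_70 : W 70 * x = W 46 := d_rcx_2 ez_46 ex_28 ex_37 ez_54
theorem ez_70 : W 70 * z = W 54 := d_rz_0 ez_54
theorem ex_55 : W 55 * x = W 70 := d_rx_0 ex_70 ex_46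
theorem ey_70 : W 70 * y = W 52 := d_rp_2 ex_52 ey_21 ez_37 ex_55
theorem ey_61 : W 61 * y = W 70 := d_rp_2 ex_70 ey_46 ez_63 ex_45
theorem ex_56 : W 56 * x = W 71 := rfl
theorem ey_71 : W 71 * y = W 49 := d_rp_4 ez_49 ex_32 ey_39 ex_56
theorem ey_64 : W 64 * y = W 71 := d_ry_0 ey_71 ey_49 ey_30 ey_47
theorem ey_56 : W 56 * y = W 72 := rfl
theorem ey_72 : W 72 * y = W 42 := d_ry_0 ey_42 ey_23 ey_39 ey_56
theorem ex_58 : W 58 * x = W 72 := d_rp_3 ey_72 ez_42 ex_25 ey_41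
theorem ez_56 : W 56 * z = W 73 := rfl
theorem ez_73 : W 73 * z = W 56 := d_rz_0 ez_56
theorem ey_57 : W 57 * y = W 73 := d_rp_4 ez_73 ex_56 ey_71 ex_49
theorem ey_58 : W 58 * y = W 74 := rfl
theorem ez_58 : W 58 * z = W 75 := rfl
theorem ez_75 : W 75 * z = W 58 := d_rz_0 ez_58
theorem ey_59 : W 59 * y = W 75 := d_rp_4 ez_75 ex_58 ey_72 ex_42
theorem ex_61 : W 61 * x = W 76 := rfl
theorem ex_76 : W 76 * x = W 45 := d_rx_0 ex_45 ex_61
theorem ez_61 : W 61 * z = W 77 := rfl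
theorem ez_77 : W 77 * z = W 61 := d_rz_0 ez_61
theorem ex_63 : W 63 * x = W 77 := d_rcx_2 ez_77 ex_61 ex_76 ez_45
theorem ey_77 : W 77 * y = W 54 := d_rp_2 ex_54 ey_28 ez_45 ex_63
theorem ex_62 : W 62 * x = W 78 := rfl
theorem ex_78 : W 78 * x = W 47 := d_rx_0 ex_47 ex_62
theorem ez_62 : W 62 * z = W 79 := rfl
theorem ey_79 : W 79 * y = W 17 := d_rcy_2 ez_17 ey_31 ey_15 ey_28 ey_45 ez_62
theorem ez_79 : W 79 * z = W 62 := d_rz_0 ez_62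
theorem ey_63 : W 63 * y = W 79 := d_ry_0 ey_79 ey_17 ey_29 ey_46
theorem ex_65 : W 65 * x = W 79 := d_rp_1 ey_79 ex_17 ey_30 ez_47
theorem ex_64 : W 64 * x = W 80 := rfl
theorem ez_64 : W 64 * z = W 81 := rfl
theorem ez_81 : W 81 * z = W 64 := d_rz_0 ez_64
theorem ey_65 : W 65 * y = W 81 := d_rcy_2 ez_81 ey_64 ey_71 ey_49 ey_30 ez_47
theorem ex_66 : W 66 * x = W 82 := rfl
theorem ey_82 : W 82 * y = W 60 := d_rp_4 ez_60 ex_43 ey_50 ex_66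
theorem ey_74 : W 74 * y = W 82 := d_ry_0 ey_82 ey_60 ey_41 ey_58
theorem ey_66 : W 66 * y = W 83 := rfl
theorem ey_83 : W 83 * y = W 53 := d_ry_0 ey_53 ey_34 ey_50 ey_66
theorem ex_68 : W 68 * x = W 83 := d_rp_3 ey_83 ez_53 ex_36 ey_52
theorem ez_66 : W 66 * z = W 84 := rfl
theorem ez_84 : W 84 * z = W 66 := d_rz_0 ez_66
theorem ey_67 : W 67 * y = W 84 := d_rp_4 ez_84 ex_66 ey_82 ex_60
theorem ey_68 : W 68 * y = W 85 := rfl
theorem ey_85 : W 85 * y = W 61 := d_ry_0 ey_61 ey_70 ey_52 ey_68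
theorem ez_68 : W 68 * z = W 86 := rfl
theorem ez_86 : W 86 * z = W 68 := d_rz_0 ez_68
theorem ey_69 : W 69 * y = W 86 := d_rp_4 ez_86 ex_68 ey_83 ex_53
theorem ex_71 : W 71 * x = W 87 := rfl
theorem ex_87 : W 87 * x = W 56 := d_rx_0 ex_56 ex_71
theorem ez_71 : W 71 * z = W 88 := rfl
theorem ey_88 : W 88 * y = W 32 := d_rcy_2 ez_32 ey_49 ey_30 ey_47 ey_64 ez_71
theorem ez_88 : W 88 * z = W 71 := d_rz_0 ez_71
theorem ey_81 : W 81 * y = W 88 := d_ry_0 ey_88 ey_32 ey_48 ey_65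
theorem ex_73 : W 73 * x = W 88 := d_rp_1 ey_88 ex_32 ey_39 ez_56
theorem ex_72 : W 72 * x = W 89 := rfl
theorem ex_89 : W 89 * x = W 58 := d_rx_0 ex_58 ex_72
theorem ez_72 : W 72 * z = W 90 := rfl
theorem ey_90 : W 90 * y = W 25 := d_rcy_2 ez_25 ey_42 ey_23 ey_39 ey_56 ez_72
theorem ez_90 : W 90 * z = W 72 := d_rz_0 ez_72
theorem ey_73 : W 73 * y = W 90 := d_ry_0 ey_90 ey_25 ey_40 ey_57
theorem ex_75 : W 75 * x = W 90 := d_rp_1 ey_90 ex_25 ey_41 ez_58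
theorem ex_74 : W 74 * x = W 91 := rfl
theorem ez_74 : W 74 * z = W 92 := rfl
theorem ez_92 : W 92 * z = W 74 := d_rz_0 ez_74
theorem ey_75 : W 75 * y = W 92 := d_rcy_2 ez_92 ey_74 ey_82 ey_60 ey_41 ez_58
theorem ey_76 : W 76 * y = W 93 := rfl
theorem ez_76 : W 76 * z = W 94 := rfl
theorem ex_94 : W 94 * x = W 63 := d_rcx_2 ez_63 ex_45 ex_61 ez_76
theorem ez_94 : W 94 * z = W 76 := d_rz_0 ez_76
theorem ex_77 : W 77 * x = W 94 := d_rx_0 ex_94 ex_63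
theorem ey_78 : W 78 * y = W 94 := d_rp_2 ex_94 ey_63 ez_79 ex_62
theorem ez_78 : W 78 * z = W 95 := rfl
theorem ex_95 : W 95 * x = W 65 := d_rcx_2 ez_65 ex_47 ex_62 ez_78
theorem ez_95 : W 95 * z = W 78 := d_rz_0 ez_78
theorem ex_79 : W 79 * x = W 95 := d_rx_0 ex_95 ex_65
theorem ey_95 : W 95 * y = W 76 := d_rp_2 ex_76 ey_45 ez_62 ex_79
theorem ey_80 : W 80 * y = W 95 := d_rp_2 ex_95 ey_65 ez_81 ex_64
theorem ex_80 : W 80 * x = W 96 := rfl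
theorem ex_96 : W 96 * x = W 64 := d_rx_0 ex_64 ex_80
theorem ez_80 : W 80 * z = W 97 := rfl
theorem ez_97 : W 97 * z = W 80 := d_rz_0 ez_80
theorem ex_81 : W 81 * x = W 97 := d_rcx_2 ez_97 ex_80 ex_96 ez_64
theorem ey_97 : W 97 * y = W 78 := d_rp_2 ex_78 ey_47 ez_64 ex_81
theorem ex_82 : W 82 * x = W 98 := rfl
theorem ex_98 : W 98 * x = W 66 := d_rx_0 ex_66 ex_82
theorem ez_82 : W 82 * z = W 99 := rfl
theorem ey_99 : W 99 * y = W 43 := d_rcy_2 ez_43 ey_60 ey_41 ey_58 ey_74 ez_82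
theorem ez_99 : W 99 * z = W 82 := d_rz_0 ez_82
theorem ey_92 : W 92 * y = W 99 := d_ry_0 ey_99 ey_43 ey_59 ey_75
theorem ex_84 : W 84 * x = W 99 := d_rp_1 ey_99 ex_43 ey_50 ez_66
theorem ex_83 : W 83 * x = W 100 := rfl
theorem ex_100 : W 100 * x = W 68 := d_rx_0 ex_68 ex_83
theorem ez_83 : W 83 * z = W 101 := rfl
theorem ey_101 : W 101 * y = W 36 := d_rcy_2 ez_36 ey_53 ey_34 ey_50 ey_66 ez_83
theorem ez_101 : W 101 * z = W 83 := d_rz_0 ez_83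
theorem ey_84 : W 84 * y = W 101 := d_ry_0 ey_101 ey_36 ey_51 ey_67
theorem ex_86 : W 86 * x = W 101 := d_rp_1 ey_101 ex_36 ey_52 ez_68
theorem ex_85 : W 85 * x = W 102 := rfl
theorem ez_85 : W 85 * z = W 103 := rfl
theorem ey_103 : W 103 * y = W 77 := d_rcy_2 ez_77 ey_61 ey_70 ey_52 ey_68 ez_85
theorem ez_103 : W 103 * z = W 85 := d_rz_0 ez_85
theorem ey_86 : W 86 * y = W 103 := d_ry_0 ey_103 ey_77 ey_54 ey_69
theorem ex_93 : W 93 * x = W 103 := d_rp_3 ey_103 ez_77 ex_61 ey_76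
theorem ey_87 : W 87 * y = W 104 := rfl
theorem ex_104 : W 104 * x = W 81 := d_rp_3 ey_81 ez_88 ex_71 ey_87
theorem ez_104 : W 104 * z = W 96 := d_rp_0 ex_96 ey_64 ex_71 ey_87
theorem ex_97 : W 97 * x = W 104 := d_rx_0 ex_104 ex_81
theorem ez_96 : W 96 * z = W 104 := d_rz_0 ez_104
theorem ez_87 : W 87 * z = W 105 := rfl
theorem ex_105 : W 105 * x = W 73 := d_rcx_2 ez_73 ex_56 ex_71 ez_87
theorem ez_105 : W 105 * z = W 87 := d_rz_0 ez_87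
theorem ex_88 : W 88 * x = W 105 := d_rx_0 ex_105 ex_73
theorem ey_105 : W 105 * y = W 96 := d_rp_2 ex_96 ey_64 ez_71 ex_88
theorem ey_89 : W 89 * y = W 105 := d_rp_2 ex_105 ey_73 ez_90 ex_72
theorem ez_89 : W 89 * z = W 106 := rfl
theorem ex_106 : W 106 * x = W 75 := d_rcx_2 ez_75 ex_58 ex_72 ez_89
theorem ez_106 : W 106 * z = W 89 := d_rz_0 ez_89
theorem ex_90 : W 90 * x = W 106 := d_rx_0 ex_106 ex_75
theorem ey_106 : W 106 * y = W 87 := d_rp_2 ex_87 ey_56 ez_72 ex_90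
theorem ey_91 : W 91 * y = W 106 := d_rp_2 ex_106 ey_75 ez_92 ex_74
theorem ex_91 : W 91 * x = W 107 := rfl
theorem ex_107 : W 107 * x = W 74 := d_rx_0 ex_74 ex_91
theorem ez_91 : W 91 * z = W 108 := rfl
theorem ez_108 : W 108 * z = W 91 := d_rz_0 ez_91
theorem ex_92 : W 92 * x = W 108 := d_rcx_2 ez_108 ex_91 ex_107 ez_74
theorem ey_108 : W 108 * y = W 89 := d_rp_2 ex_89 ey_58 ez_74 ex_92
theorem ey_93 : W 93 * y = W 109 := rfl
theorem ey_109 : W 109 * y = W 80 := d_ry_0 ey_80 ey_95 ey_76 ey_93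
theorem ez_93 : W 93 * z = W 110 := rfl
theorem ex_110 : W 110 * x = W 85 := d_rp_1 ey_85 ex_61 ey_76 ez_93
theorem ez_110 : W 110 * z = W 93 := d_rz_0 ez_93
theorem ex_102 : W 102 * x = W 110 := d_rx_0 ex_110 ex_85
theorem ey_94 : W 94 * y = W 110 := d_rp_2 ex_110 ey_85 ez_61 ex_77
theorem ey_96 : W 96 * y = W 111 := rfl
theorem ey_111 : W 111 * y = W 108 := d_ry_0 ey_108 ey_89 ey_105 ey_96
theorem ey_98 : W 98 * y = W 112 := rfl
theorem ex_112 : W 112 * x = W 92 := d_rp_3 ey_92 ez_99 ex_82 ey_98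
theorem ez_112 : W 112 * z = W 107 := d_rp_0 ex_107 ey_74 ex_82 ey_98
theorem ex_108 : W 108 * x = W 112 := d_rx_0 ex_112 ex_92
theorem ez_107 : W 107 * z = W 112 := d_rz_0 ez_112
theorem ez_98 : W 98 * z = W 113 := rfl
theorem ex_113 : W 113 * x = W 84 := d_rcx_2 ez_84 ex_66 ex_82 ez_98
theorem ez_113 : W 113 * z = W 98 := d_rz_0 ez_98
theorem ex_99 : W 99 * x = W 113 := d_rx_0 ex_113 ex_84
theorem ey_113 : W 113 * y = W 107 := d_rp_2 ex_107 ey_74 ez_82 ex_99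
theorem ey_100 : W 100 * y = W 113 := d_rp_2 ex_113 ey_84 ez_101 ex_83
theorem ez_100 : W 100 * z = W 114 := rfl
theorem ex_114 : W 114 * x = W 86 := d_rcx_2 ez_86 ex_68 ex_83 ez_100
theorem ez_114 : W 114 * z = W 100 := d_rz_0 ez_100
theorem ex_101 : W 101 * x = W 114 := d_rx_0 ex_114 ex_86
theorem ey_114 : W 114 * y = W 98 := d_rp_2 ex_98 ey_66 ez_83 ex_101
theorem ey_102 : W 102 * y = W 114 := d_rp_2 ex_114 ey_86 ez_103 ex_85
theorem ez_102 : W 102 * z = W 115 := rfl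
theorem ex_115 : W 115 * x = W 93 := d_rcx_2 ez_93 ex_110 ex_85 ez_102
theorem ez_115 : W 115 * z = W 102 := d_rz_0 ez_102
theorem ex_103 : W 103 * x = W 115 := d_rx_0 ex_115 ex_93
theorem ey_115 : W 115 * y = W 100 := d_rp_2 ex_100 ey_68 ez_85 ex_103
theorem ey_104 : W 104 * y = W 116 := rfl
theorem ey_116 : W 116 * y = W 91 := d_ry_0 ey_91 ey_106 ey_87 ey_104
theorem ex_116 : W 116 * x = W 109 := d_rp_3 ey_109 ez_80 ex_97 ey_104
theorem ez_116 : W 116 * z = W 111 := d_rcy_1 ey_111 ez_108 ey_91 ey_106 ey_87 ey_104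
theorem ez_111 : W 111 * z = W 116 := d_rz_0 ez_116
theorem ey_107 : W 107 * y = W 117 := rfl
theorem ex_117 : W 117 * x = W 111 := d_rp_3 ey_111 ez_108 ex_91 ey_107
theorem ey_117 : W 117 * y = W 115 := d_ry_0 ey_115 ey_100 ey_113 ey_107
theorem ex_109 : W 109 * x = W 118 := rfl
theorem ey_118 : W 118 * y = W 102 := d_rp_4 ez_102 ex_115 ey_93 ex_109
theorem ex_118 : W 118 * x = W 116 := d_rx_0 ex_116 ex_109
theorem ez_118 : W 118 * z = W 117 := d_rcx_1 ex_117 ez_111 ex_116 ex_109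
theorem ey_112 : W 112 * y = W 118 := d_ry_0 ey_118 ey_102 ey_114 ey_98
theorem ez_117 : W 117 * z = W 118 := d_rz_0 ez_118
theorem ez_109 : W 109 * z = W 119 := rfl
theorem ey_119 : W 119 * y = W 97 := d_rcy_2 ez_97 ey_80 ey_95 ey_76 ey_93 ez_109
theorem ez_119 : W 119 * z = W 109 := d_rz_0 ez_109
theorem ex_119 : W 119 * x = W 117 := d_rp_1 ey_117 ex_115 ey_93 ez_109
theorem ex_111 : W 111 * x = W 119 := d_rx_0 ex_119 ex_117
theorem ey_110 : W 110 * y = W 119 := d_ry_0 ey_119 ey_97 ey_78 ey_94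

theorem closed_x (i : ℕ) (hi : i < 120) : ∃ j, j < 120 ∧ W i * x = W j := by
  interval_cases i
  · exact ⟨1, by norm_num, ex_0⟩
  · exact ⟨4, by norm_num, ex_1⟩
  · exact ⟨7, by norm_num, ex_2⟩
  · exact ⟨6, by norm_num, ex_3⟩
  · exact ⟨0, by norm_num, ex_4⟩
  · exact ⟨12, by norm_num, ex_5⟩
  · exact ⟨11, by norm_num, ex_6⟩
  · exact ⟨15, by norm_num, ex_7⟩
  · exact ⟨17, by norm_num, ex_8⟩
  · exact ⟨16, by norm_num, ex_9⟩
  · exact ⟨20, by norm_num, ex_10⟩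
  · exact ⟨3, by norm_num, ex_11⟩
  · exact ⟨23, by norm_num, ex_12⟩
  · exact ⟨25, by norm_num, ex_13⟩
  · exact ⟨24, by norm_num, ex_14⟩
  · exact ⟨2, by norm_num, ex_15⟩
  · exact ⟨29, by norm_num, ex_16⟩
  · exact ⟨30, by norm_num, ex_17⟩
  · exact ⟨32, by norm_num, ex_18⟩
  · exact ⟨31, by norm_num, ex_19⟩
  · exact ⟨34, by norm_num, ex_20⟩
  · exact ⟨36, by norm_num, ex_21⟩
  · exact ⟨35, by norm_num, ex_22⟩
  · exact ⟨5, by norm_num, ex_23⟩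
  · exact ⟨40, by norm_num, ex_24⟩
  · exact ⟨41, by norm_num, ex_25⟩
  · exact ⟨43, by norm_num, ex_26⟩
  · exact ⟨42, by norm_num, ex_27⟩
  · exact ⟨37, by norm_num, ex_28⟩
  · exact ⟨9, by norm_num, ex_29⟩
  · exact ⟨8, by norm_num, ex_30⟩
  · exact ⟨48, by norm_num, ex_31⟩
  · exact ⟨39, by norm_num, ex_32⟩
  · exact ⟨49, by norm_num, ex_33⟩
  · exact ⟨10, by norm_num, ex_34⟩
  · exact ⟨51, by norm_num, ex_35⟩
  · exact ⟨52, by norm_num, ex_36⟩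
  · exact ⟨54, by norm_num, ex_37⟩
  · exact ⟨53, by norm_num, ex_38⟩
  · exact ⟨18, by norm_num, ex_39⟩
  · exact ⟨14, by norm_num, ex_40⟩
  · exact ⟨13, by norm_num, ex_41⟩
  · exact ⟨59, by norm_num, ex_42⟩
  · exact ⟨50, by norm_num, ex_43⟩
  · exact ⟨60, by norm_num, ex_44⟩
  · exact ⟨61, by norm_num, ex_45⟩
  · exact ⟨55, by norm_num, ex_46⟩
  · exact ⟨62, by norm_num, ex_47⟩
  · exact ⟨19, by norm_num, ex_48⟩
  · exact ⟨57, by norm_num, ex_49⟩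
  · exact ⟨26, by norm_num, ex_50⟩
  · exact ⟨22, by norm_num, ex_51⟩
  · exact ⟨21, by norm_num, ex_52⟩
  · exact ⟨69, by norm_num, ex_53⟩
  · exact ⟨28, by norm_num, ex_54⟩
  · exact ⟨70, by norm_num, ex_55⟩
  · exact ⟨71, by norm_num, ex_56⟩
  · exact ⟨33, by norm_num, ex_57⟩
  · exact ⟨72, by norm_num, ex_58⟩
  · exact ⟨27, by norm_num, ex_59⟩
  · exact ⟨67, by norm_num, ex_60⟩
  · exact ⟨76, by norm_num, ex_61⟩
  · exact ⟨78, by norm_num, ex_62⟩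
  · exact ⟨77, by norm_num, ex_63⟩
  · exact ⟨80, by norm_num, ex_64⟩
  · exact ⟨79, by norm_num, ex_65⟩
  · exact ⟨82, by norm_num, ex_66⟩
  · exact ⟨44, by norm_num, ex_67⟩
  · exact ⟨83, by norm_num, ex_68⟩
  · exact ⟨38, by norm_num, ex_69⟩
  · exact ⟨46, by norm_num, ex_70⟩
  · exact ⟨87, by norm_num, ex_71⟩
  · exact ⟨89, by norm_num, ex_72⟩
  · exact ⟨88, by norm_num, ex_73⟩
  · exact ⟨91, by norm_num, ex_74⟩
  · exact ⟨90, by norm_num, ex_75⟩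
  · exact ⟨45, by norm_num, ex_76⟩
  · exact ⟨94, by norm_num, ex_77⟩
  · exact ⟨47, by norm_num, ex_78⟩
  · exact ⟨95, by norm_num, ex_79⟩
  · exact ⟨96, by norm_num, ex_80⟩
  · exact ⟨97, by norm_num, ex_81⟩
  · exact ⟨98, by norm_num, ex_82⟩
  · exact ⟨100, by norm_num, ex_83⟩
  · exact ⟨99, by norm_num, ex_84⟩
  · exact ⟨102, by norm_num, ex_85⟩
  · exact ⟨101, by norm_num, ex_86⟩
  · exact ⟨56, by norm_num, ex_87⟩
  · exact ⟨105, by norm_num, ex_88⟩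
  · exact ⟨58, by norm_num, ex_89⟩
  · exact ⟨106, by norm_num, ex_90⟩
  · exact ⟨107, by norm_num, ex_91⟩
  · exact ⟨108, by norm_num, ex_92⟩
  · exact ⟨103, by norm_num, ex_93⟩
  · exact ⟨63, by norm_num, ex_94⟩
  · exact ⟨65, by norm_num, ex_95⟩
  · exact ⟨64, by norm_num, ex_96⟩
  · exact ⟨104, by norm_num, ex_97⟩
  · exact ⟨66, by norm_num, ex_98⟩
  · exact ⟨113, by norm_num, ex_99⟩
  · exact ⟨68, by norm_num, ex_100⟩
  · exact ⟨114, by norm_num, ex_101⟩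
  · exact ⟨110, by norm_num, ex_102⟩
  · exact ⟨115, by norm_num, ex_103⟩
  · exact ⟨81, by norm_num, ex_104⟩
  · exact ⟨73, by norm_num, ex_105⟩
  · exact ⟨75, by norm_num, ex_106⟩
  · exact ⟨74, by norm_num, ex_107⟩
  · exact ⟨112, by norm_num, ex_108⟩
  · exact ⟨118, by norm_num, ex_109⟩
  · exact ⟨85, by norm_num, ex_110⟩
  · exact ⟨119, by norm_num, ex_111⟩
  · exact ⟨92, by norm_num, ex_112⟩
  · exact ⟨84, by norm_num, ex_113⟩
  · exact ⟨86, by norm_num, ex_114⟩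
  · exact ⟨93, by norm_num, ex_115⟩
  · exact ⟨109, by norm_num, ex_116⟩
  · exact ⟨111, by norm_num, ex_117⟩
  · exact ⟨116, by norm_num, ex_118⟩
  · exact ⟨117, by norm_num, ex_119⟩

theorem closed_y (i : ℕ) (hi : i < 120) : ∃ j, j < 120 ∧ W i * y = W j := by
  interval_cases i
  · exact ⟨2, by norm_num, ey_0⟩
  · exact ⟨5, by norm_num, ey_1⟩
  · exact ⟨8, by norm_num, ey_2⟩
  · exact ⟨9, by norm_num, ey_3⟩
  · exact ⟨10, by norm_num, ey_4⟩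
  · exact ⟨13, by norm_num, ey_5⟩
  · exact ⟨14, by norm_num, ey_6⟩
  · exact ⟨11, by norm_num, ey_7⟩
  · exact ⟨18, by norm_num, ey_8⟩
  · exact ⟨19, by norm_num, ey_9⟩
  · exact ⟨21, by norm_num, ey_10⟩
  · exact ⟨22, by norm_num, ey_11⟩
  · exact ⟨3, by norm_num, ey_12⟩
  · exact ⟨26, by norm_num, ey_13⟩
  · exact ⟨27, by norm_num, ey_14⟩
  · exact ⟨28, by norm_num, ey_15⟩
  · exact ⟨4, by norm_num, ey_16⟩
  · exact ⟨29, by norm_num, ey_17⟩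
  · exact ⟨24, by norm_num, ey_18⟩
  · exact ⟨33, by norm_num, ey_19⟩
  · exact ⟨6, by norm_num, ey_20⟩
  · exact ⟨37, by norm_num, ey_21⟩
  · exact ⟨38, by norm_num, ey_22⟩
  · exact ⟨39, by norm_num, ey_23⟩
  · exact ⟨0, by norm_num, ey_24⟩
  · exact ⟨40, by norm_num, ey_25⟩
  · exact ⟨35, by norm_num, ey_26⟩
  · exact ⟨44, by norm_num, ey_27⟩
  · exact ⟨45, by norm_num, ey_28⟩
  · exact ⟨46, by norm_num, ey_29⟩
  · exact ⟨47, by norm_num, ey_30⟩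
  · exact ⟨15, by norm_num, ey_31⟩
  · exact ⟨48, by norm_num, ey_32⟩
  · exact ⟨12, by norm_num, ey_33⟩
  · exact ⟨50, by norm_num, ey_34⟩
  · exact ⟨1, by norm_num, ey_35⟩
  · exact ⟨51, by norm_num, ey_36⟩
  · exact ⟨16, by norm_num, ey_37⟩
  · exact ⟨55, by norm_num, ey_38⟩
  · exact ⟨56, by norm_num, ey_39⟩
  · exact ⟨57, by norm_num, ey_40⟩
  · exact ⟨58, by norm_num, ey_41⟩
  · exact ⟨23, by norm_num, ey_42⟩
  · exact ⟨59, by norm_num, ey_43⟩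
  · exact ⟨20, by norm_num, ey_44⟩
  · exact ⟨62, by norm_num, ey_45⟩
  · exact ⟨63, by norm_num, ey_46⟩
  · exact ⟨64, by norm_num, ey_47⟩
  · exact ⟨65, by norm_num, ey_48⟩
  · exact ⟨30, by norm_num, ey_49⟩
  · exact ⟨66, by norm_num, ey_50⟩
  · exact ⟨67, by norm_num, ey_51⟩
  · exact ⟨68, by norm_num, ey_52⟩
  · exact ⟨34, by norm_num, ey_53⟩
  · exact ⟨69, by norm_num, ey_54⟩
  · exact ⟨7, by norm_num, ey_55⟩
  · exact ⟨72, by norm_num, ey_56⟩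
  · exact ⟨73, by norm_num, ey_57⟩
  · exact ⟨74, by norm_num, ey_58⟩
  · exact ⟨75, by norm_num, ey_59⟩
  · exact ⟨41, by norm_num, ey_60⟩
  · exact ⟨70, by norm_num, ey_61⟩
  · exact ⟨31, by norm_num, ey_62⟩
  · exact ⟨79, by norm_num, ey_63⟩
  · exact ⟨71, by norm_num, ey_64⟩
  · exact ⟨81, by norm_num, ey_65⟩
  · exact ⟨83, by norm_num, ey_66⟩
  · exact ⟨84, by norm_num, ey_67⟩
  · exact ⟨85, by norm_num, ey_68⟩
  · exact ⟨86, by norm_num, ey_69⟩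
  · exact ⟨52, by norm_num, ey_70⟩
  · exact ⟨49, by norm_num, ey_71⟩
  · exact ⟨42, by norm_num, ey_72⟩
  · exact ⟨90, by norm_num, ey_73⟩
  · exact ⟨82, by norm_num, ey_74⟩
  · exact ⟨92, by norm_num, ey_75⟩
  · exact ⟨93, by norm_num, ey_76⟩
  · exact ⟨54, by norm_num, ey_77⟩
  · exact ⟨94, by norm_num, ey_78⟩
  · exact ⟨17, by norm_num, ey_79⟩
  · exact ⟨95, by norm_num, ey_80⟩
  · exact ⟨88, by norm_num, ey_81⟩
  · exact ⟨60, by norm_num, ey_82⟩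
  · exact ⟨53, by norm_num, ey_83⟩
  · exact ⟨101, by norm_num, ey_84⟩
  · exact ⟨61, by norm_num, ey_85⟩
  · exact ⟨103, by norm_num, ey_86⟩
  · exact ⟨104, by norm_num, ey_87⟩
  · exact ⟨32, by norm_num, ey_88⟩
  · exact ⟨105, by norm_num, ey_89⟩
  · exact ⟨25, by norm_num, ey_90⟩
  · exact ⟨106, by norm_num, ey_91⟩
  · exact ⟨99, by norm_num, ey_92⟩
  · exact ⟨109, by norm_num, ey_93⟩
  · exact ⟨110, by norm_num, ey_94⟩
  · exact ⟨76, by norm_num, ey_95⟩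
  · exact ⟨111, by norm_num, ey_96⟩
  · exact ⟨78, by norm_num, ey_97⟩
  · exact ⟨112, by norm_num, ey_98⟩
  · exact ⟨43, by norm_num, ey_99⟩
  · exact ⟨113, by norm_num, ey_100⟩
  · exact ⟨36, by norm_num, ey_101⟩
  · exact ⟨114, by norm_num, ey_102⟩
  · exact ⟨77, by norm_num, ey_103⟩
  · exact ⟨116, by norm_num, ey_104⟩
  · exact ⟨96, by norm_num, ey_105⟩
  · exact ⟨87, by norm_num, ey_106⟩
  · exact ⟨117, by norm_num, ey_107⟩
  · exact ⟨89, by norm_num, ey_108⟩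
  · exact ⟨80, by norm_num, ey_109⟩
  · exact ⟨119, by norm_num, ey_110⟩
  · exact ⟨108, by norm_num, ey_111⟩
  · exact ⟨118, by norm_num, ey_112⟩
  · exact ⟨107, by norm_num, ey_113⟩
  · exact ⟨98, by norm_num, ey_114⟩
  · exact ⟨100, by norm_num, ey_115⟩
  · exact ⟨91, by norm_num, ey_116⟩
  · exact ⟨115, by norm_num, ey_117⟩
  · exact ⟨102, by norm_num, ey_118⟩
  · exact ⟨97, by norm_num, ey_119⟩

theorem closed_z (i : ℕ) (hi : i < 120) : ∃ j, j < 120 ∧ W i * z = W j := by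
  interval_cases i
  · exact ⟨3, by norm_num, ez_0⟩
  · exact ⟨6, by norm_num, ez_1⟩
  · exact ⟨9, by norm_num, ez_2⟩
  · exact ⟨0, by norm_num, ez_3⟩
  · exact ⟨11, by norm_num, ez_4⟩
  · exact ⟨14, by norm_num, ez_5⟩
  · exact ⟨1, by norm_num, ez_6⟩
  · exact ⟨16, by norm_num, ez_7⟩
  · exact ⟨19, by norm_num, ez_8⟩
  · exact ⟨2, by norm_num, ez_9⟩
  · exact ⟨22, by norm_num, ez_10⟩
  · exact ⟨4, by norm_num, ez_11⟩
  · exact ⟨24, by norm_num, ez_12⟩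
  · exact ⟨27, by norm_num, ez_13⟩
  · exact ⟨5, by norm_num, ez_14⟩
  · exact ⟨29, by norm_num, ez_15⟩
  · exact ⟨7, by norm_num, ez_16⟩
  · exact ⟨31, by norm_num, ez_17⟩
  · exact ⟨33, by norm_num, ez_18⟩
  · exact ⟨8, by norm_num, ez_19⟩
  · exact ⟨35, by norm_num, ez_20⟩
  · exact ⟨38, by norm_num, ez_21⟩
  · exact ⟨10, by norm_num, ez_22⟩
  · exact ⟨40, by norm_num, ez_23⟩
  · exact ⟨12, by norm_num, ez_24⟩
  · exact ⟨42, by norm_num, ez_25⟩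
  · exact ⟨44, by norm_num, ez_26⟩
  · exact ⟨13, by norm_num, ez_27⟩
  · exact ⟨46, by norm_num, ez_28⟩
  · exact ⟨15, by norm_num, ez_29⟩
  · exact ⟨48, by norm_num, ez_30⟩
  · exact ⟨17, by norm_num, ez_31⟩
  · exact ⟨49, by norm_num, ez_32⟩
  · exact ⟨18, by norm_num, ez_33⟩
  · exact ⟨51, by norm_num, ez_34⟩
  · exact ⟨20, by norm_num, ez_35⟩
  · exact ⟨53, by norm_num, ez_36⟩
  · exact ⟨55, by norm_num, ez_37⟩
  · exact ⟨21, by norm_num, ez_38⟩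
  · exact ⟨57, by norm_num, ez_39⟩
  · exact ⟨23, by norm_num, ez_40⟩
  · exact ⟨59, by norm_num, ez_41⟩
  · exact ⟨25, by norm_num, ez_42⟩
  · exact ⟨60, by norm_num, ez_43⟩
  · exact ⟨26, by norm_num, ez_44⟩
  · exact ⟨63, by norm_num, ez_45⟩
  · exact ⟨28, by norm_num, ez_46⟩
  · exact ⟨65, by norm_num, ez_47⟩
  · exact ⟨30, by norm_num, ez_48⟩
  · exact ⟨32, by norm_num, ez_49⟩
  · exact ⟨67, by norm_num, ez_50⟩
  · exact ⟨34, by norm_num, ez_51⟩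
  · exact ⟨69, by norm_num, ez_52⟩
  · exact ⟨36, by norm_num, ez_53⟩
  · exact ⟨70, by norm_num, ez_54⟩
  · exact ⟨37, by norm_num, ez_55⟩
  · exact ⟨73, by norm_num, ez_56⟩
  · exact ⟨39, by norm_num, ez_57⟩
  · exact ⟨75, by norm_num, ez_58⟩
  · exact ⟨41, by norm_num, ez_59⟩
  · exact ⟨43, by norm_num, ez_60⟩
  · exact ⟨77, by norm_num, ez_61⟩
  · exact ⟨79, by norm_num, ez_62⟩
  · exact ⟨45, by norm_num, ez_63⟩
  · exact ⟨81, by norm_num, ez_64⟩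
  · exact ⟨47, by norm_num, ez_65⟩
  · exact ⟨84, by norm_num, ez_66⟩
  · exact ⟨50, by norm_num, ez_67⟩
  · exact ⟨86, by norm_num, ez_68⟩
  · exact ⟨52, by norm_num, ez_69⟩
  · exact ⟨54, by norm_num, ez_70⟩
  · exact ⟨88, by norm_num, ez_71⟩
  · exact ⟨90, by norm_num, ez_72⟩
  · exact ⟨56, by norm_num, ez_73⟩
  · exact ⟨92, by norm_num, ez_74⟩
  · exact ⟨58, by norm_num, ez_75⟩
  · exact ⟨94, by norm_num, ez_76⟩
  · exact ⟨61, by norm_num, ez_77⟩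
  · exact ⟨95, by norm_num, ez_78⟩
  · exact ⟨62, by norm_num, ez_79⟩
  · exact ⟨97, by norm_num, ez_80⟩
  · exact ⟨64, by norm_num, ez_81⟩
  · exact ⟨99, by norm_num, ez_82⟩
  · exact ⟨101, by norm_num, ez_83⟩
  · exact ⟨66, by norm_num, ez_84⟩
  · exact ⟨103, by norm_num, ez_85⟩
  · exact ⟨68, by norm_num, ez_86⟩
  · exact ⟨105, by norm_num, ez_87⟩
  · exact ⟨71, by norm_num, ez_88⟩
  · exact ⟨106, by norm_num, ez_89⟩
  · exact ⟨72, by norm_num, ez_90⟩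
  · exact ⟨108, by norm_num, ez_91⟩
  · exact ⟨74, by norm_num, ez_92⟩
  · exact ⟨110, by norm_num, ez_93⟩
  · exact ⟨76, by norm_num, ez_94⟩
  · exact ⟨78, by norm_num, ez_95⟩
  · exact ⟨104, by norm_num, ez_96⟩
  · exact ⟨80, by norm_num, ez_97⟩
  · exact ⟨113, by norm_num, ez_98⟩
  · exact ⟨82, by norm_num, ez_99⟩
  · exact ⟨114, by norm_num, ez_100⟩
  · exact ⟨83, by norm_num, ez_101⟩
  · exact ⟨115, by norm_num, ez_102⟩
  · exact ⟨85, by norm_num, ez_103⟩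
  · exact ⟨96, by norm_num, ez_104⟩
  · exact ⟨87, by norm_num, ez_105⟩
  · exact ⟨89, by norm_num, ez_106⟩
  · exact ⟨112, by norm_num, ez_107⟩
  · exact ⟨91, by norm_num, ez_108⟩
  · exact ⟨119, by norm_num, ez_109⟩
  · exact ⟨93, by norm_num, ez_110⟩
  · exact ⟨116, by norm_num, ez_111⟩
  · exact ⟨107, by norm_num, ez_112⟩
  · exact ⟨98, by norm_num, ez_113⟩
  · exact ⟨100, by norm_num, ez_114⟩
  · exact ⟨102, by norm_num, ez_115⟩
  · exact ⟨111, by norm_num, ez_116⟩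
  · exact ⟨118, by norm_num, ez_117⟩
  · exact ⟨117, by norm_num, ez_118⟩
  · exact ⟨109, by norm_num, ez_119⟩

/-- The codes of the images of the 120 words in `SL(2, 5)`. -/
def codes : List ℕ :=
  [126, 545, 131, 504, 109, 45, 230, 541, 136, 524, 604, 46, 509, 170, 105, 108, 239, 537, 141, 519, 355, 499, 151, 226, 146, 409, 295, 605, 623, 47, 107, 243, 533, 514, 571, 420, 464, 369, 281, 106, 529, 201, 371, 309, 480, 488, 157, 617, 48, 247, 176, 209, 597, 316, 568, 411, 611, 49, 581, 554, 471, 452, 353, 292, 477, 163, 431, 579, 332, 183, 212, 362, 491, 169, 336, 199, 590, 303, 560, 402, 465, 278, 91, 61, 349, 92, 448, 557, 418, 458, 289, 62, 444, 340, 185, 215, 588, 310, 258, 64, 387, 94, 253, 63, 192, 223, 322, 382, 93, 90, 435, 328, 273, 397, 268, 377, 427, 392, 263, 60]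

end Cfsg.Agent.Helper28.Sl25Pres
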