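import Cfsg.Agent.Helper28.CosetTable
import Cfsg.Prelude.Def_Spor_Suz

/-!
# The Suzuki group presentation, cosets of the subgroup generated by a, …, f: relators as statements about cosets (helper28)

Generated. The generators act on the cosets of the subgroup; every relator, read at a coset, is a closed
path, and the lemmas here turn "all edges of the path but one are known" into the last edge, and "all
edges are known" into an equality of cosets.
-/

set_option autoImplicit false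
set_option maxRecDepth 100000
set_option linter.unusedSimpArgs false

noncomputable section

namespace Cfsg.Agent.Helper28.SuzA

open Cfsg.Spor Cfsg.Spor.Suz Cfsg.Agent.Helper28.CosetTable

/-- The relators. -/
abbrev rels : Set (FreeGroup Gen) := coxRelators edges ∪ {r | r ∈ extra}

/-- The presented group. -/
abbrev Grp : Type := PresentedGroup rels

/-- The image of a generator. -/
def gen (x : Gen) : Grp := PresentedGroup.of x

theorem mk_of (x : Gen) : PresentedGroup.mk rels (FreeGroup.of x) = gen x := rfl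

/-- The subgroup. -/
def H : Subgroup Grp := (Subgroup.closure ({a, b, c, d, e, f} : Set (FreeGroup Gen))).map (PresentedGroup.mk rels)

/-- The cosets. -/
abbrev Q : Type := Grp ⧸ H

theorem nodes (x : Gen) : x ∈ coxNodes edges := by cases x <;> decide

theorem cox (x y : Gen) : (gen x * gen y) ^ coxLabel edges x y = 1 := by
  have h := PresentedGroup.one_of_mem (rels := rels) (x := (FreeGroup.of x * FreeGroup.of y) ^ coxLabel edges x y)
    (Or.inl ⟨x, nodes x, y, nodes y, rfl⟩)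
  rw [map_pow, map_mul] at h
  exact h

theorem sq (x : Gen) : gen x * gen x = 1 := by
  have h := cox x x
  have e : coxLabel edges x x = 1 := by simp [coxLabel]
  rw [e, pow_one] at h
  exact h

theorem inv_gen (x : Gen) : (gen x)⁻¹ = gen x := inv_eq_of_mul_eq_one_left (sq x)

theorem extra_one (r : FreeGroup Gen) (hr : r ∈ extra) : PresentedGroup.mk rels r = 1 :=
  PresentedGroup.one_of_mem (Or.inr hr)

/-- The coset of the identity. -/
def N0 : Q := ((1 : Grp) : Q)

theorem smul_N0 (h : Grp) (hh : h ∈ H) : h • N0 = N0 := by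
  show ((h * 1 : Grp) : Q) = ((1 : Grp) : Q)
  rw [QuotientGroup.eq]
  simpa using H.inv_mem hh

/-- The action on cosets, as a plain function. -/
def sm (g : Grp) (q : Q) : Q := g • q

/-- The generator a. -/
abbrev ga : Grp := gen Gen.a
/-- The generator b. -/
abbrev gb : Grp := gen Gen.b
/-- The generator c. -/
abbrev gc : Grp := gen Gen.c
/-- The generator d. -/
abbrev gd : Grp := gen Gen.d
/-- The generator e. -/
abbrev ge : Grp := gen Gen.e
/-- The generator f. -/
abbrev gf : Grp := gen Gen.f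
/-- The generator g. -/
abbrev gg : Grp := gen Gen.g

theorem flp_a {x y : Q} (h : sm ga x = y) : sm ga y = x := flp (sq Gen.a) h
theorem flp_b {x y : Q} (h : sm gb x = y) : sm gb y = x := flp (sq Gen.b) h
theorem flp_c {x y : Q} (h : sm gc x = y) : sm gc y = x := flp (sq Gen.c) h
theorem flp_d {x y : Q} (h : sm gd x = y) : sm gd y = x := flp (sq Gen.d) h
theorem flp_e {x y : Q} (h : sm ge x = y) : sm ge y = x := flp (sq Gen.e) h
theorem flp_f {x y : Q} (h : sm gf x = y) : sm gf y = x := flp (sq Gen.f) h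
theorem flp_g {x y : Q} (h : sm gg x = y) : sm gg y = x := flp (sq Gen.g) h

theorem relG_7 : ga * gb * ga * gb * ga * gb * ga * gb * ga * gb = 1 := by
  have h := cox Gen.a Gen.b
  have e : coxLabel edges Gen.a Gen.b = 5 := by decide
  rw [e] at h
  simp only [pow_succ, pow_zero, one_mul, ← mul_assoc] at h
  exact h

theorem rel_7 (q : Q) : ga • gb • ga • gb • ga • gb • ga • gb • ga • gb • q = q := by
  have h := congrArg (· • q) relG_7
  simp only [mul_smul, one_smul] at h
  exact h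

theorem relG_8 : ga * gc * ga * gc = 1 := by
  have h := cox Gen.a Gen.c
  have e : coxLabel edges Gen.a Gen.c = 2 := by decide
  rw [e] at h
  simp only [pow_succ, pow_zero, one_mul, ← mul_assoc] at h
  exact h

theorem rel_8 (q : Q) : ga • gc • ga • gc • q = q := by
  have h := congrArg (· • q) relG_8
  simp only [mul_smul, one_smul] at h
  exact h

theorem relG_9 : ga * gd * ga * gd = 1 := by
  have h := cox Gen.a Gen.d
  have e : coxLabel edges Gen.a Gen.d = 2 := by decide
  rw [e] at h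
  simp only [pow_succ, pow_zero, one_mul, ← mul_assoc] at h
  exact h

theorem rel_9 (q : Q) : ga • gd • ga • gd • q = q := by
  have h := congrArg (· • q) relG_9
  simp only [mul_smul, one_smul] at h
  exact h

theorem relG_10 : ga * ge * ga * ge = 1 := by
  have h := cox Gen.a Gen.e
  have e : coxLabel edges Gen.a Gen.e = 2 := by decide
  rw [e] at h
  simp only [pow_succ, pow_zero, one_mul, ← mul_assoc] at h
  exact h

theorem rel_10 (q : Q) : ga • ge • ga • ge • q = q := by
  have h := congrArg (· • q) relG_10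
  simp only [mul_smul, one_smul] at h
  exact h

theorem relG_11 : ga * gf * ga * gf = 1 := by
  have h := cox Gen.a Gen.f
  have e : coxLabel edges Gen.a Gen.f = 2 := by decide
  rw [e] at h
  simp only [pow_succ, pow_zero, one_mul, ← mul_assoc] at h
  exact h

theorem rel_11 (q : Q) : ga • gf • ga • gf • q = q := by
  have h := congrArg (· • q) relG_11
  simp only [mul_smul, one_smul] at h
  exact h

theorem relG_12 : ga * gg * ga * gg = 1 := by
  have h := cox Gen.a Gen.g
  have e : coxLabel edges Gen.a Gen.g = 2 := by decide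
  rw [e] at h
  simp only [pow_succ, pow_zero, one_mul, ← mul_assoc] at h
  exact h

theorem rel_12 (q : Q) : ga • gg • ga • gg • q = q := by
  have h := congrArg (· • q) relG_12
  simp only [mul_smul, one_smul] at h
  exact h

theorem relG_13 : gb * gc * gb * gc * gb * gc = 1 := by
  have h := cox Gen.b Gen.c
  have e : coxLabel edges Gen.b Gen.c = 3 := by decide
  rw [e] at h
  simp only [pow_succ, pow_zero, one_mul, ← mul_assoc] at h
  exact h

theorem rel_13 (q : Q) : gb • gc • gb • gc • gb • gc • q = q := by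
  have h := congrArg (· • q) relG_13
  simp only [mul_smul, one_smul] at h
  exact h

theorem relG_14 : gb * gd * gb * gd = 1 := by
  have h := cox Gen.b Gen.d
  have e : coxLabel edges Gen.b Gen.d = 2 := by decide
  rw [e] at h
  simp only [pow_succ, pow_zero, one_mul, ← mul_assoc] at h
  exact h

theorem rel_14 (q : Q) : gb • gd • gb • gd • q = q := by
  have h := congrArg (· • q) relG_14
  simp only [mul_smul, one_smul] at h
  exact h

theorem relG_15 : gb * ge * gb * ge = 1 := by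
  have h := cox Gen.b Gen.e
  have e : coxLabel edges Gen.b Gen.e = 2 := by decide
  rw [e] at h
  simp only [pow_succ, pow_zero, one_mul, ← mul_assoc] at h
  exact h

theorem rel_15 (q : Q) : gb • ge • gb • ge • q = q := by
  have h := congrArg (· • q) relG_15
  simp only [mul_smul, one_smul] at h
  exact h

theorem relG_16 : gb * gf * gb * gf * gb * gf = 1 := by
  have h := cox Gen.b Gen.f
  have e : coxLabel edges Gen.b Gen.f = 3 := by decide
  rw [e] at h
  simp only [pow_succ, pow_zero, one_mul, ← mul_assoc] at h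
  exact h

theorem rel_16 (q : Q) : gb • gf • gb • gf • gb • gf • q = q := by
  have h := congrArg (· • q) relG_16
  simp only [mul_smul, one_smul] at h
  exact h

theorem relG_17 : gb * gg * gb * gg * gb * gg = 1 := by
  have h := cox Gen.b Gen.g
  have e : coxLabel edges Gen.b Gen.g = 3 := by decide
  rw [e] at h
  simp only [pow_succ, pow_zero, one_mul, ← mul_assoc] at h
  exact h

theorem rel_17 (q : Q) : gb • gg • gb • gg • gb • gg • q = q := by
  have h := congrArg (· • q) relG_17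
  simp only [mul_smul, one_smul] at h
  exact h

theorem relG_19 : gc * ge * gc * ge = 1 := by
  have h := cox Gen.c Gen.e
  have e : coxLabel edges Gen.c Gen.e = 2 := by decide
  rw [e] at h
  simp only [pow_succ, pow_zero, one_mul, ← mul_assoc] at h
  exact h

theorem rel_19 (q : Q) : gc • ge • gc • ge • q = q := by
  have h := congrArg (· • q) relG_19
  simp only [mul_smul, one_smul] at h
  exact h

theorem relG_20 : gc * gf * gc * gf = 1 := by
  have h := cox Gen.c Gen.f
  have e : coxLabel edges Gen.c Gen.f = 2 := by decide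
  rw [e] at h
  simp only [pow_succ, pow_zero, one_mul, ← mul_assoc] at h
  exact h

theorem rel_20 (q : Q) : gc • gf • gc • gf • q = q := by
  have h := congrArg (· • q) relG_20
  simp only [mul_smul, one_smul] at h
  exact h

theorem relG_21 : gc * gg * gc * gg = 1 := by
  have h := cox Gen.c Gen.g
  have e : coxLabel edges Gen.c Gen.g = 2 := by decide
  rw [e] at h
  simp only [pow_succ, pow_zero, one_mul, ← mul_assoc] at h
  exact h

theorem rel_21 (q : Q) : gc • gg • gc • gg • q = q := by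
  have h := congrArg (· • q) relG_21
  simp only [mul_smul, one_smul] at h
  exact h

theorem relG_22 : gd * ge * gd * ge * gd * ge = 1 := by
  have h := cox Gen.d Gen.e
  have e : coxLabel edges Gen.d Gen.e = 3 := by decide
  rw [e] at h
  simp only [pow_succ, pow_zero, one_mul, ← mul_assoc] at h
  exact h

theorem rel_22 (q : Q) : gd • ge • gd • ge • gd • ge • q = q := by
  have h := congrArg (· • q) relG_22
  simp only [mul_smul, one_smul] at h
  exact h

theorem relG_23 : gd * gf * gd * gf = 1 := by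
  have h := cox Gen.d Gen.f
  have e : coxLabel edges Gen.d Gen.f = 2 := by decide
  rw [e] at h
  simp only [pow_succ, pow_zero, one_mul, ← mul_assoc] at h
  exact h

theorem rel_23 (q : Q) : gd • gf • gd • gf • q = q := by
  have h := congrArg (· • q) relG_23
  simp only [mul_smul, one_smul] at h
  exact h

theorem relG_24 : gd * gg * gd * gg = 1 := by
  have h := cox Gen.d Gen.g
  have e : coxLabel edges Gen.d Gen.g = 2 := by decide
  rw [e] at h
  simp only [pow_succ, pow_zero, one_mul, ← mul_assoc] at h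
  exact h

theorem rel_24 (q : Q) : gd • gg • gd • gg • q = q := by
  have h := congrArg (· • q) relG_24
  simp only [mul_smul, one_smul] at h
  exact h

theorem relG_25 : ge * gf * ge * gf = 1 := by
  have h := cox Gen.e Gen.f
  have e : coxLabel edges Gen.e Gen.f = 2 := by decide
  rw [e] at h
  simp only [pow_succ, pow_zero, one_mul, ← mul_assoc] at h
  exact h

theorem rel_25 (q : Q) : ge • gf • ge • gf • q = q := by
  have h := congrArg (· • q) relG_25
  simp only [mul_smul, one_smul] at h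
  exact h

theorem relG_26 : ge * gg * ge * gg = 1 := by
  have h := cox Gen.e Gen.g
  have e : coxLabel edges Gen.e Gen.g = 2 := by decide
  rw [e] at h
  simp only [pow_succ, pow_zero, one_mul, ← mul_assoc] at h
  exact h

theorem rel_26 (q : Q) : ge • gg • ge • gg • q = q := by
  have h := congrArg (· • q) relG_26
  simp only [mul_smul, one_smul] at h
  exact h

theorem relG_27 : gf * gg * gf * gg * gf * gg * gf * gg = 1 := by
  have h := cox Gen.f Gen.g
  have e : coxLabel edges Gen.f Gen.g = 4 := by decide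
  rw [e] at h
  simp only [pow_succ, pow_zero, one_mul, ← mul_assoc] at h
  exact h

theorem rel_27 (q : Q) : gf • gg • gf • gg • gf • gg • gf • gg • q = q := by
  have h := congrArg (· • q) relG_27
  simp only [mul_smul, one_smul] at h
  exact h

theorem relG_28 : ga * gd * gc * gd * gc * gd * gc * gd * gc = 1 := by
  have h := extra_one (a * ((c * d) ^ 4)⁻¹) (by simp [extra])
  simp only [map_mul, map_pow, map_inv, mk_of, pow_succ, pow_zero, one_mul, mul_inv_rev, inv_gen, ← mul_assoc] at h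
  exact h

theorem rel_28 (q : Q) : ga • gd • gc • gd • gc • gd • gc • gd • gc • q = q := by
  have h := congrArg (· • q) relG_28
  simp only [mul_smul, one_smul] at h
  exact h

theorem relG_29 : ga * gg * gf * gg * gf = 1 := by
  have h := extra_one (a * ((f * g) ^ 2)⁻¹) (by simp [extra])
  simp only [map_mul, map_pow, map_inv, mk_of, pow_succ, pow_zero, one_mul, mul_inv_rev, inv_gen, ← mul_assoc] at h
  exact h

theorem rel_29 (q : Q) : ga • gg • gf • gg • gf • q = q := by
  have h := congrArg (· • q) relG_29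
  simp only [mul_smul, one_smul] at h
  exact h

theorem relG_30 : ga * gb * gc * gf * ga * gb * gc * gf * ga * gb * gc * gf * ga * gb * gc * gf * ga * gb * gc * gf = 1 := by
  have h := extra_one ((a * b * c * f) ^ 5) (by simp [extra])
  simp only [map_mul, map_pow, map_inv, mk_of, pow_succ, pow_zero, one_mul, mul_inv_rev, inv_gen, ← mul_assoc] at h
  exact h

theorem rel_30 (q : Q) : ga • gb • gc • gf • ga • gb • gc • gf • ga • gb • gc • gf • ga • gb • gc • gf • ga • gb • gc • gf • q = q := by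
  have h := congrArg (· • q) relG_30
  simp only [mul_smul, one_smul] at h
  exact h

theorem relG_31 : gb * gf * gg * gb * gf * gg * gb * gf * gg * gb * gf * gg * gb * gf * gg = 1 := by
  have h := extra_one ((b * f * g) ^ 5) (by simp [extra])
  simp only [map_mul, map_pow, map_inv, mk_of, pow_succ, pow_zero, one_mul, mul_inv_rev, inv_gen, ← mul_assoc] at h
  exact h

theorem rel_31 (q : Q) : gb • gf • gg • gb • gf • gg • gb • gf • gg • gb • gf • gg • gb • gf • gg • q = q := by
  have h := congrArg (· • q) relG_31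
  simp only [mul_smul, one_smul] at h
  exact h

theorem relG_32 : gb * gc * gd * gc * gd * gb * gc * gd * gc * gd * gb * gc * gd * gc * gd * gb * gc * gd * gc * gd * gb * gc * gd * gc * gd * ge * gb * gc * gd * gc * gd * gb * gc * gd * gc * gd * gb * gc * gd * gc * gd * gb * gc * gd * gc * gd * gb * gc * gd * gc * gd * ge * gb * gc * gd * gc * gd * gb * gc * gd * gc * gd * gb * gc * gd * gc * gd * gb * gc * gd * gc * gd * gb * gc * gd * gc * gd * ge = 1 := by
  have h := extra_one (((b * c * d * c * d) ^ 5 * e) ^ 3) (by simp [extra])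
  simp only [map_mul, map_pow, map_inv, mk_of, pow_succ, pow_zero, one_mul, mul_inv_rev, inv_gen, ← mul_assoc] at h
  exact h

theorem rel_32 (q : Q) : gb • gc • gd • gc • gd • gb • gc • gd • gc • gd • gb • gc • gd • gc • gd • gb • gc • gd • gc • gd • gb • gc • gd • gc • gd • ge • gb • gc • gd • gc • gd • gb • gc • gd • gc • gd • gb • gc • gd • gc • gd • gb • gc • gd • gc • gd • gb • gc • gd • gc • gd • ge • gb • gc • gd • gc • gd • gb • gc • gd • gc • gd • gb • gc • gd • gc • gd • gb • gc • gd • gc • gd • gb • gc • gd • gc • gd • ge • q = q := by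
  have h := congrArg (· • q) relG_32
  simp only [mul_smul, one_smul] at h
  exact h

theorem rot_7_0 (X : Q) : ga • gb • ga • gb • ga • gb • ga • gb • ga • gb • X = X := by
  exact rel_7 X

theorem rot_7_1 (X : Q) : gb • ga • gb • ga • gb • ga • gb • ga • gb • ga • X = X := by
  exact smul_left_cancel ga (smul_left_cancel gb (smul_left_cancel ga (smul_left_cancel gb (smul_left_cancel ga (smul_left_cancel gb (smul_left_cancel ga (smul_left_cancel gb (smul_left_cancel ga (rel_7 (ga • gb • ga • gb • ga • gb • ga • gb • ga • X))))))))))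

theorem rot_7_2 (X : Q) : ga • gb • ga • gb • ga • gb • ga • gb • ga • gb • X = X := by
  exact smul_left_cancel gb (smul_left_cancel ga (smul_left_cancel gb (smul_left_cancel ga (smul_left_cancel gb (smul_left_cancel ga (smul_left_cancel gb (smul_left_cancel ga (rel_7 (ga • gb • ga • gb • ga • gb • ga • gb • X)))))))))

theorem rot_7_3 (X : Q) : gb • ga • gb • ga • gb • ga • gb • ga • gb • ga • X = X := by
  exact smul_left_cancel ga (smul_left_cancel gb (smul_left_cancel ga (smul_left_cancel gb (smul_left_cancel ga (smul_left_cancel gb (smul_left_cancel ga (rel_7 (ga • gb • ga • gb • ga • gb • ga • X))))))))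

theorem rot_7_4 (X : Q) : ga • gb • ga • gb • ga • gb • ga • gb • ga • gb • X = X := by
  exact smul_left_cancel gb (smul_left_cancel ga (smul_left_cancel gb (smul_left_cancel ga (smul_left_cancel gb (smul_left_cancel ga (rel_7 (ga • gb • ga • gb • ga • gb • X)))))))

theorem rot_7_5 (X : Q) : gb • ga • gb • ga • gb • ga • gb • ga • gb • ga • X = X := by
  exact smul_left_cancel ga (smul_left_cancel gb (smul_left_cancel ga (smul_left_cancel gb (smul_left_cancel ga (rel_7 (ga • gb • ga • gb • ga • X))))))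

theorem rot_7_6 (X : Q) : ga • gb • ga • gb • ga • gb • ga • gb • ga • gb • X = X := by
  exact smul_left_cancel gb (smul_left_cancel ga (smul_left_cancel gb (smul_left_cancel ga (rel_7 (ga • gb • ga • gb • X)))))

theorem rot_7_7 (X : Q) : gb • ga • gb • ga • gb • ga • gb • ga • gb • ga • X = X := by
  exact smul_left_cancel ga (smul_left_cancel gb (smul_left_cancel ga (rel_7 (ga • gb • ga • X))))

theorem rot_7_8 (X : Q) : ga • gb • ga • gb • ga • gb • ga • gb • ga • gb • X = X := by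
  exact smul_left_cancel gb (smul_left_cancel ga (rel_7 (ga • gb • X)))

theorem rot_7_9 (X : Q) : gb • ga • gb • ga • gb • ga • gb • ga • gb • ga • X = X := by
  exact smul_left_cancel ga (rel_7 (ga • X))

theorem rot_8_0 (X : Q) : ga • gc • ga • gc • X = X := by
  exact rel_8 X

theorem rot_8_1 (X : Q) : gc • ga • gc • ga • X = X := by
  exact smul_left_cancel ga (smul_left_cancel gc (smul_left_cancel ga (rel_8 (ga • gc • ga • X))))

theorem rot_8_2 (X : Q) : ga • gc • ga • gc • X = X := by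
  exact smul_left_cancel gc (smul_left_cancel ga (rel_8 (ga • gc • X)))

theorem rot_8_3 (X : Q) : gc • ga • gc • ga • X = X := by
  exact smul_left_cancel ga (rel_8 (ga • X))

theorem rot_9_0 (X : Q) : ga • gd • ga • gd • X = X := by
  exact rel_9 X

theorem rot_9_1 (X : Q) : gd • ga • gd • ga • X = X := by
  exact smul_left_cancel ga (smul_left_cancel gd (smul_left_cancel ga (rel_9 (ga • gd • ga • X))))

theorem rot_9_2 (X : Q) : ga • gd • ga • gd • X = X := by
  exact smul_left_cancel gd (smul_left_cancel ga (rel_9 (ga • gd • X)))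

theorem rot_9_3 (X : Q) : gd • ga • gd • ga • X = X := by
  exact smul_left_cancel ga (rel_9 (ga • X))

theorem rot_10_0 (X : Q) : ga • ge • ga • ge • X = X := by
  exact rel_10 X

theorem rot_10_1 (X : Q) : ge • ga • ge • ga • X = X := by
  exact smul_left_cancel ga (smul_left_cancel ge (smul_left_cancel ga (rel_10 (ga • ge • ga • X))))

theorem rot_10_2 (X : Q) : ga • ge • ga • ge • X = X := by
  exact smul_left_cancel ge (smul_left_cancel ga (rel_10 (ga • ge • X)))

theorem rot_10_3 (X : Q) : ge • ga • ge • ga • X = X := by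
  exact smul_left_cancel ga (rel_10 (ga • X))

theorem rot_11_0 (X : Q) : ga • gf • ga • gf • X = X := by
  exact rel_11 X

theorem rot_11_1 (X : Q) : gf • ga • gf • ga • X = X := by
  exact smul_left_cancel ga (smul_left_cancel gf (smul_left_cancel ga (rel_11 (ga • gf • ga • X))))

theorem rot_11_2 (X : Q) : ga • gf • ga • gf • X = X := by
  exact smul_left_cancel gf (smul_left_cancel ga (rel_11 (ga • gf • X)))

theorem rot_11_3 (X : Q) : gf • ga • gf • ga • X = X := by
  exact smul_left_cancel ga (rel_11 (ga • X))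

theorem rot_12_0 (X : Q) : ga • gg • ga • gg • X = X := by
  exact rel_12 X

theorem rot_12_1 (X : Q) : gg • ga • gg • ga • X = X := by
  exact smul_left_cancel ga (smul_left_cancel gg (smul_left_cancel ga (rel_12 (ga • gg • ga • X))))

theorem rot_12_2 (X : Q) : ga • gg • ga • gg • X = X := by
  exact smul_left_cancel gg (smul_left_cancel ga (rel_12 (ga • gg • X)))

theorem rot_12_3 (X : Q) : gg • ga • gg • ga • X = X := by
  exact smul_left_cancel ga (rel_12 (ga • X))

theorem rot_13_0 (X : Q) : gb • gc • gb • gc • gb • gc • X = X := by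
  exact rel_13 X

theorem rot_13_1 (X : Q) : gc • gb • gc • gb • gc • gb • X = X := by
  exact smul_left_cancel gb (smul_left_cancel gc (smul_left_cancel gb (smul_left_cancel gc (smul_left_cancel gb (rel_13 (gb • gc • gb • gc • gb • X))))))

theorem rot_13_2 (X : Q) : gb • gc • gb • gc • gb • gc • X = X := by
  exact smul_left_cancel gc (smul_left_cancel gb (smul_left_cancel gc (smul_left_cancel gb (rel_13 (gb • gc • gb • gc • X)))))

theorem rot_13_3 (X : Q) : gc • gb • gc • gb • gc • gb • X = X := by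
  exact smul_left_cancel gb (smul_left_cancel gc (smul_left_cancel gb (rel_13 (gb • gc • gb • X))))

theorem rot_13_4 (X : Q) : gb • gc • gb • gc • gb • gc • X = X := by
  exact smul_left_cancel gc (smul_left_cancel gb (rel_13 (gb • gc • X)))

theorem rot_13_5 (X : Q) : gc • gb • gc • gb • gc • gb • X = X := by
  exact smul_left_cancel gb (rel_13 (gb • X))

theorem rot_14_0 (X : Q) : gb • gd • gb • gd • X = X := by
  exact rel_14 X

theorem rot_14_1 (X : Q) : gd • gb • gd • gb • X = X := by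
  exact smul_left_cancel gb (smul_left_cancel gd (smul_left_cancel gb (rel_14 (gb • gd • gb • X))))

theorem rot_14_2 (X : Q) : gb • gd • gb • gd • X = X := by
  exact smul_left_cancel gd (smul_left_cancel gb (rel_14 (gb • gd • X)))

theorem rot_14_3 (X : Q) : gd • gb • gd • gb • X = X := by
  exact smul_left_cancel gb (rel_14 (gb • X))

theorem rot_15_0 (X : Q) : gb • ge • gb • ge • X = X := by
  exact rel_15 X

theorem rot_15_1 (X : Q) : ge • gb • ge • gb • X = X := by
  exact smul_left_cancel gb (smul_left_cancel ge (smul_left_cancel gb (rel_15 (gb • ge • gb • X))))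

theorem rot_15_2 (X : Q) : gb • ge • gb • ge • X = X := by
  exact smul_left_cancel ge (smul_left_cancel gb (rel_15 (gb • ge • X)))

theorem rot_15_3 (X : Q) : ge • gb • ge • gb • X = X := by
  exact smul_left_cancel gb (rel_15 (gb • X))

theorem rot_16_0 (X : Q) : gb • gf • gb • gf • gb • gf • X = X := by
  exact rel_16 X

theorem rot_16_1 (X : Q) : gf • gb • gf • gb • gf • gb • X = X := by
  exact smul_left_cancel gb (smul_left_cancel gf (smul_left_cancel gb (smul_left_cancel gf (smul_left_cancel gb (rel_16 (gb • gf • gb • gf • gb • X))))))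

theorem rot_16_2 (X : Q) : gb • gf • gb • gf • gb • gf • X = X := by
  exact smul_left_cancel gf (smul_left_cancel gb (smul_left_cancel gf (smul_left_cancel gb (rel_16 (gb • gf • gb • gf • X)))))

theorem rot_16_3 (X : Q) : gf • gb • gf • gb • gf • gb • X = X := by
  exact smul_left_cancel gb (smul_left_cancel gf (smul_left_cancel gb (rel_16 (gb • gf • gb • X))))

theorem rot_16_4 (X : Q) : gb • gf • gb • gf • gb • gf • X = X := by
  exact smul_left_cancel gf (smul_left_cancel gb (rel_16 (gb • gf • X)))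

theorem rot_16_5 (X : Q) : gf • gb • gf • gb • gf • gb • X = X := by
  exact smul_left_cancel gb (rel_16 (gb • X))

theorem rot_17_0 (X : Q) : gb • gg • gb • gg • gb • gg • X = X := by
  exact rel_17 X

theorem rot_17_1 (X : Q) : gg • gb • gg • gb • gg • gb • X = X := by
  exact smul_left_cancel gb (smul_left_cancel gg (smul_left_cancel gb (smul_left_cancel gg (smul_left_cancel gb (rel_17 (gb • gg • gb • gg • gb • X))))))

theorem rot_17_2 (X : Q) : gb • gg • gb • gg • gb • gg • X = X := by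
  exact smul_left_cancel gg (smul_left_cancel gb (smul_left_cancel gg (smul_left_cancel gb (rel_17 (gb • gg • gb • gg • X)))))

theorem rot_17_3 (X : Q) : gg • gb • gg • gb • gg • gb • X = X := by
  exact smul_left_cancel gb (smul_left_cancel gg (smul_left_cancel gb (rel_17 (gb • gg • gb • X))))

theorem rot_17_4 (X : Q) : gb • gg • gb • gg • gb • gg • X = X := by
  exact smul_left_cancel gg (smul_left_cancel gb (rel_17 (gb • gg • X)))

theorem rot_17_5 (X : Q) : gg • gb • gg • gb • gg • gb • X = X := by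
  exact smul_left_cancel gb (rel_17 (gb • X))

theorem rot_19_0 (X : Q) : gc • ge • gc • ge • X = X := by
  exact rel_19 X

theorem rot_19_1 (X : Q) : ge • gc • ge • gc • X = X := by
  exact smul_left_cancel gc (smul_left_cancel ge (smul_left_cancel gc (rel_19 (gc • ge • gc • X))))

theorem rot_19_2 (X : Q) : gc • ge • gc • ge • X = X := by
  exact smul_left_cancel ge (smul_left_cancel gc (rel_19 (gc • ge • X)))

theorem rot_19_3 (X : Q) : ge • gc • ge • gc • X = X := by
  exact smul_left_cancel gc (rel_19 (gc • X))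

theorem rot_20_0 (X : Q) : gc • gf • gc • gf • X = X := by
  exact rel_20 X

theorem rot_20_1 (X : Q) : gf • gc • gf • gc • X = X := by
  exact smul_left_cancel gc (smul_left_cancel gf (smul_left_cancel gc (rel_20 (gc • gf • gc • X))))

theorem rot_20_2 (X : Q) : gc • gf • gc • gf • X = X := by
  exact smul_left_cancel gf (smul_left_cancel gc (rel_20 (gc • gf • X)))

theorem rot_20_3 (X : Q) : gf • gc • gf • gc • X = X := by
  exact smul_left_cancel gc (rel_20 (gc • X))

theorem rot_21_0 (X : Q) : gc • gg • gc • gg • X = X := by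
  exact rel_21 X

theorem rot_21_1 (X : Q) : gg • gc • gg • gc • X = X := by
  exact smul_left_cancel gc (smul_left_cancel gg (smul_left_cancel gc (rel_21 (gc • gg • gc • X))))

theorem rot_21_2 (X : Q) : gc • gg • gc • gg • X = X := by
  exact smul_left_cancel gg (smul_left_cancel gc (rel_21 (gc • gg • X)))

theorem rot_21_3 (X : Q) : gg • gc • gg • gc • X = X := by
  exact smul_left_cancel gc (rel_21 (gc • X))

theorem rot_22_0 (X : Q) : gd • ge • gd • ge • gd • ge • X = X := by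
  exact rel_22 X

theorem rot_22_2 (X : Q) : gd • ge • gd • ge • gd • ge • X = X := by
  exact smul_left_cancel ge (smul_left_cancel gd (smul_left_cancel ge (smul_left_cancel gd (rel_22 (gd • ge • gd • ge • X)))))

theorem rot_22_3 (X : Q) : ge • gd • ge • gd • ge • gd • X = X := by
  exact smul_left_cancel gd (smul_left_cancel ge (smul_left_cancel gd (rel_22 (gd • ge • gd • X))))

theorem rot_22_5 (X : Q) : ge • gd • ge • gd • ge • gd • X = X := by
  exact smul_left_cancel gd (rel_22 (gd • X))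

theorem rot_23_0 (X : Q) : gd • gf • gd • gf • X = X := by
  exact rel_23 X

theorem rot_23_1 (X : Q) : gf • gd • gf • gd • X = X := by
  exact smul_left_cancel gd (smul_left_cancel gf (smul_left_cancel gd (rel_23 (gd • gf • gd • X))))

theorem rot_23_2 (X : Q) : gd • gf • gd • gf • X = X := by
  exact smul_left_cancel gf (smul_left_cancel gd (rel_23 (gd • gf • X)))

theorem rot_23_3 (X : Q) : gf • gd • gf • gd • X = X := by
  exact smul_left_cancel gd (rel_23 (gd • X))

theorem rot_24_0 (X : Q) : gd • gg • gd • gg • X = X := by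
  exact rel_24 X

theorem rot_24_1 (X : Q) : gg • gd • gg • gd • X = X := by
  exact smul_left_cancel gd (smul_left_cancel gg (smul_left_cancel gd (rel_24 (gd • gg • gd • X))))

theorem rot_24_2 (X : Q) : gd • gg • gd • gg • X = X := by
  exact smul_left_cancel gg (smul_left_cancel gd (rel_24 (gd • gg • X)))

theorem rot_24_3 (X : Q) : gg • gd • gg • gd • X = X := by
  exact smul_left_cancel gd (rel_24 (gd • X))

theorem rot_25_0 (X : Q) : ge • gf • ge • gf • X = X := by
  exact rel_25 X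

theorem rot_25_1 (X : Q) : gf • ge • gf • ge • X = X := by
  exact smul_left_cancel ge (smul_left_cancel gf (smul_left_cancel ge (rel_25 (ge • gf • ge • X))))

theorem rot_25_2 (X : Q) : ge • gf • ge • gf • X = X := by
  exact smul_left_cancel gf (smul_left_cancel ge (rel_25 (ge • gf • X)))

theorem rot_25_3 (X : Q) : gf • ge • gf • ge • X = X := by
  exact smul_left_cancel ge (rel_25 (ge • X))

theorem rot_26_0 (X : Q) : ge • gg • ge • gg • X = X := by
  exact rel_26 X

theorem rot_26_1 (X : Q) : gg • ge • gg • ge • X = X := by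
  exact smul_left_cancel ge (smul_left_cancel gg (smul_left_cancel ge (rel_26 (ge • gg • ge • X))))

theorem rot_26_2 (X : Q) : ge • gg • ge • gg • X = X := by
  exact smul_left_cancel gg (smul_left_cancel ge (rel_26 (ge • gg • X)))

theorem rot_26_3 (X : Q) : gg • ge • gg • ge • X = X := by
  exact smul_left_cancel ge (rel_26 (ge • X))

theorem rot_27_6 (X : Q) : gf • gg • gf • gg • gf • gg • gf • gg • X = X := by
  exact smul_left_cancel gg (smul_left_cancel gf (rel_27 (gf • gg • X)))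

theorem rot_28_0 (X : Q) : ga • gd • gc • gd • gc • gd • gc • gd • gc • X = X := by
  exact rel_28 X

theorem rot_28_1 (X : Q) : gc • ga • gd • gc • gd • gc • gd • gc • gd • X = X := by
  exact smul_left_cancel gd (smul_left_cancel gc (smul_left_cancel gd (smul_left_cancel gc (smul_left_cancel gd (smul_left_cancel gc (smul_left_cancel gd (smul_left_cancel ga (rel_28 (ga • gd • gc • gd • gc • gd • gc • gd • X)))))))))

theorem rot_28_2 (X : Q) : gd • gc • ga • gd • gc • gd • gc • gd • gc • X = X := by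
  exact smul_left_cancel gc (smul_left_cancel gd (smul_left_cancel gc (smul_left_cancel gd (smul_left_cancel gc (smul_left_cancel gd (smul_left_cancel ga (rel_28 (ga • gd • gc • gd • gc • gd • gc • X))))))))

theorem rot_28_4 (X : Q) : gd • gc • gd • gc • ga • gd • gc • gd • gc • X = X := by
  exact smul_left_cancel gc (smul_left_cancel gd (smul_left_cancel gc (smul_left_cancel gd (smul_left_cancel ga (rel_28 (ga • gd • gc • gd • gc • X))))))

theorem rot_28_5 (X : Q) : gc • gd • gc • gd • gc • ga • gd • gc • gd • X = X := by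
  exact smul_left_cancel gd (smul_left_cancel gc (smul_left_cancel gd (smul_left_cancel ga (rel_28 (ga • gd • gc • gd • X)))))

theorem rot_28_7 (X : Q) : gc • gd • gc • gd • gc • gd • gc • ga • gd • X = X := by
  exact smul_left_cancel gd (smul_left_cancel ga (rel_28 (ga • gd • X)))

theorem rot_28_8 (X : Q) : gd • gc • gd • gc • gd • gc • gd • gc • ga • X = X := by
  exact smul_left_cancel ga (rel_28 (ga • X))

theorem rot_29_0 (X : Q) : ga • gg • gf • gg • gf • X = X := by
  exact rel_29 X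

theorem rot_29_1 (X : Q) : gf • ga • gg • gf • gg • X = X := by
  exact smul_left_cancel gg (smul_left_cancel gf (smul_left_cancel gg (smul_left_cancel ga (rel_29 (ga • gg • gf • gg • X)))))

theorem rot_29_2 (X : Q) : gg • gf • ga • gg • gf • X = X := by
  exact smul_left_cancel gf (smul_left_cancel gg (smul_left_cancel ga (rel_29 (ga • gg • gf • X))))

theorem rot_29_3 (X : Q) : gf • gg • gf • ga • gg • X = X := by
  exact smul_left_cancel gg (smul_left_cancel ga (rel_29 (ga • gg • X)))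

theorem rot_29_4 (X : Q) : gg • gf • gg • gf • ga • X = X := by
  exact smul_left_cancel ga (rel_29 (ga • X))

theorem rot_30_0 (X : Q) : ga • gb • gc • gf • ga • gb • gc • gf • ga • gb • gc • gf • ga • gb • gc • gf • ga • gb • gc • gf • X = X := by
  exact rel_30 X

theorem rot_30_1 (X : Q) : gf • ga • gb • gc • gf • ga • gb • gc • gf • ga • gb • gc • gf • ga • gb • gc • gf • ga • gb • gc • X = X := by
  exact smul_left_cancel gc (smul_left_cancel gb (smul_left_cancel ga (smul_left_cancel gf (smul_left_cancel gc (smul_left_cancel gb (smul_left_cancel ga (smul_left_cancel gf (smul_left_cancel gc (smul_left_cancel gb (smul_left_cancel ga (smul_left_cancel gf (smul_left_cancel gc (smul_left_cancel gb (smul_left_cancel ga (smul_left_cancel gf (smul_left_cancel gc (smul_left_cancel gb (smul_left_cancel ga (rel_30 (ga • gb • gc • gf • ga • gb • gc • gf • ga • gb • gc • gf • ga • gb • gc • gf • ga • gb • gc • X))))))))))))))))))))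

theorem rot_30_2 (X : Q) : gc • gf • ga • gb • gc • gf • ga • gb • gc • gf • ga • gb • gc • gf • ga • gb • gc • gf • ga • gb • X = X := by
  exact smul_left_cancel gb (smul_left_cancel ga (smul_left_cancel gf (smul_left_cancel gc (smul_left_cancel gb (smul_left_cancel ga (smul_left_cancel gf (smul_left_cancel gc (smul_left_cancel gb (smul_left_cancel ga (smul_left_cancel gf (smul_left_cancel gc (smul_left_cancel gb (smul_left_cancel ga (smul_left_cancel gf (smul_left_cancel gc (smul_left_cancel gb (smul_left_cancel ga (rel_30 (ga • gb • gc • gf • ga • gb • gc • gf • ga • gb • gc • gf • ga • gb • gc • gf • ga • gb • X)))))))))))))))))))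

theorem rot_30_3 (X : Q) : gb • gc • gf • ga • gb • gc • gf • ga • gb • gc • gf • ga • gb • gc • gf • ga • gb • gc • gf • ga • X = X := by
  exact smul_left_cancel ga (smul_left_cancel gf (smul_left_cancel gc (smul_left_cancel gb (smul_left_cancel ga (smul_left_cancel gf (smul_left_cancel gc (smul_left_cancel gb (smul_left_cancel ga (smul_left_cancel gf (smul_left_cancel gc (smul_left_cancel gb (smul_left_cancel ga (smul_left_cancel gf (smul_left_cancel gc (smul_left_cancel gb (smul_left_cancel ga (rel_30 (ga • gb • gc • gf • ga • gb • gc • gf • ga • gb • gc • gf • ga • gb • gc • gf • ga • X))))))))))))))))))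

theorem rot_30_4 (X : Q) : ga • gb • gc • gf • ga • gb • gc • gf • ga • gb • gc • gf • ga • gb • gc • gf • ga • gb • gc • gf • X = X := by
  exact smul_left_cancel gf (smul_left_cancel gc (smul_left_cancel gb (smul_left_cancel ga (smul_left_cancel gf (smul_left_cancel gc (smul_left_cancel gb (smul_left_cancel ga (smul_left_cancel gf (smul_left_cancel gc (smul_left_cancel gb (smul_left_cancel ga (smul_left_cancel gf (smul_left_cancel gc (smul_left_cancel gb (smul_left_cancel ga (rel_30 (ga • gb • gc • gf • ga • gb • gc • gf • ga • gb • gc • gf • ga • gb • gc • gf • X)))))))))))))))))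

theorem rot_30_5 (X : Q) : gf • ga • gb • gc • gf • ga • gb • gc • gf • ga • gb • gc • gf • ga • gb • gc • gf • ga • gb • gc • X = X := by
  exact smul_left_cancel gc (smul_left_cancel gb (smul_left_cancel ga (smul_left_cancel gf (smul_left_cancel gc (smul_left_cancel gb (smul_left_cancel ga (smul_left_cancel gf (smul_left_cancel gc (smul_left_cancel gb (smul_left_cancel ga (smul_left_cancel gf (smul_left_cancel gc (smul_left_cancel gb (smul_left_cancel ga (rel_30 (ga • gb • gc • gf • ga • gb • gc • gf • ga • gb • gc • gf • ga • gb • gc • X))))))))))))))))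

theorem rot_30_6 (X : Q) : gc • gf • ga • gb • gc • gf • ga • gb • gc • gf • ga • gb • gc • gf • ga • gb • gc • gf • ga • gb • X = X := by
  exact smul_left_cancel gb (smul_left_cancel ga (smul_left_cancel gf (smul_left_cancel gc (smul_left_cancel gb (smul_left_cancel ga (smul_left_cancel gf (smul_left_cancel gc (smul_left_cancel gb (smul_left_cancel ga (smul_left_cancel gf (smul_left_cancel gc (smul_left_cancel gb (smul_left_cancel ga (rel_30 (ga • gb • gc • gf • ga • gb • gc • gf • ga • gb • gc • gf • ga • gb • X)))))))))))))))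

theorem rot_30_7 (X : Q) : gb • gc • gf • ga • gb • gc • gf • ga • gb • gc • gf • ga • gb • gc • gf • ga • gb • gc • gf • ga • X = X := by
  exact smul_left_cancel ga (smul_left_cancel gf (smul_left_cancel gc (smul_left_cancel gb (smul_left_cancel ga (smul_left_cancel gf (smul_left_cancel gc (smul_left_cancel gb (smul_left_cancel ga (smul_left_cancel gf (smul_left_cancel gc (smul_left_cancel gb (smul_left_cancel ga (rel_30 (ga • gb • gc • gf • ga • gb • gc • gf • ga • gb • gc • gf • ga • X))))))))))))))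

theorem rot_30_8 (X : Q) : ga • gb • gc • gf • ga • gb • gc • gf • ga • gb • gc • gf • ga • gb • gc • gf • ga • gb • gc • gf • X = X := by
  exact smul_left_cancel gf (smul_left_cancel gc (smul_left_cancel gb (smul_left_cancel ga (smul_left_cancel gf (smul_left_cancel gc (smul_left_cancel gb (smul_left_cancel ga (smul_left_cancel gf (smul_left_cancel gc (smul_left_cancel gb (smul_left_cancel ga (rel_30 (ga • gb • gc • gf • ga • gb • gc • gf • ga • gb • gc • gf • X)))))))))))))

theorem rot_30_9 (X : Q) : gf • ga • gb • gc • gf • ga • gb • gc • gf • ga • gb • gc • gf • ga • gb • gc • gf • ga • gb • gc • X = X := by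
  exact smul_left_cancel gc (smul_left_cancel gb (smul_left_cancel ga (smul_left_cancel gf (smul_left_cancel gc (smul_left_cancel gb (smul_left_cancel ga (smul_left_cancel gf (smul_left_cancel gc (smul_left_cancel gb (smul_left_cancel ga (rel_30 (ga • gb • gc • gf • ga • gb • gc • gf • ga • gb • gc • X))))))))))))

theorem rot_30_11 (X : Q) : gb • gc • gf • ga • gb • gc • gf • ga • gb • gc • gf • ga • gb • gc • gf • ga • gb • gc • gf • ga • X = X := by
  exact smul_left_cancel ga (smul_left_cancel gf (smul_left_cancel gc (smul_left_cancel gb (smul_left_cancel ga (smul_left_cancel gf (smul_left_cancel gc (smul_left_cancel gb (smul_left_cancel ga (rel_30 (ga • gb • gc • gf • ga • gb • gc • gf • ga • X))))))))))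

theorem rot_30_12 (X : Q) : ga • gb • gc • gf • ga • gb • gc • gf • ga • gb • gc • gf • ga • gb • gc • gf • ga • gb • gc • gf • X = X := by
  exact smul_left_cancel gf (smul_left_cancel gc (smul_left_cancel gb (smul_left_cancel ga (smul_left_cancel gf (smul_left_cancel gc (smul_left_cancel gb (smul_left_cancel ga (rel_30 (ga • gb • gc • gf • ga • gb • gc • gf • X)))))))))

theorem rot_30_17 (X : Q) : gf • ga • gb • gc • gf • ga • gb • gc • gf • ga • gb • gc • gf • ga • gb • gc • gf • ga • gb • gc • X = X := by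
  exact smul_left_cancel gc (smul_left_cancel gb (smul_left_cancel ga (rel_30 (ga • gb • gc • X))))

theorem rot_30_18 (X : Q) : gc • gf • ga • gb • gc • gf • ga • gb • gc • gf • ga • gb • gc • gf • ga • gb • gc • gf • ga • gb • X = X := by
  exact smul_left_cancel gb (smul_left_cancel ga (rel_30 (ga • gb • X)))

theorem rot_31_0 (X : Q) : gb • gf • gg • gb • gf • gg • gb • gf • gg • gb • gf • gg • gb • gf • gg • X = X := by
  exact rel_31 X

theorem rot_31_1 (X : Q) : gg • gb • gf • gg • gb • gf • gg • gb • gf • gg • gb • gf • gg • gb • gf • X = X := by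
  exact smul_left_cancel gf (smul_left_cancel gb (smul_left_cancel gg (smul_left_cancel gf (smul_left_cancel gb (smul_left_cancel gg (smul_left_cancel gf (smul_left_cancel gb (smul_left_cancel gg (smul_left_cancel gf (smul_left_cancel gb (smul_left_cancel gg (smul_left_cancel gf (smul_left_cancel gb (rel_31 (gb • gf • gg • gb • gf • gg • gb • gf • gg • gb • gf • gg • gb • gf • X)))))))))))))))

theorem rot_31_2 (X : Q) : gf • gg • gb • gf • gg • gb • gf • gg • gb • gf • gg • gb • gf • gg • gb • X = X := by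
  exact smul_left_cancel gb (smul_left_cancel gg (smul_left_cancel gf (smul_left_cancel gb (smul_left_cancel gg (smul_left_cancel gf (smul_left_cancel gb (smul_left_cancel gg (smul_left_cancel gf (smul_left_cancel gb (smul_left_cancel gg (smul_left_cancel gf (smul_left_cancel gb (rel_31 (gb • gf • gg • gb • gf • gg • gb • gf • gg • gb • gf • gg • gb • X))))))))))))))

theorem rot_31_3 (X : Q) : gb • gf • gg • gb • gf • gg • gb • gf • gg • gb • gf • gg • gb • gf • gg • X = X := by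
  exact smul_left_cancel gg (smul_left_cancel gf (smul_left_cancel gb (smul_left_cancel gg (smul_left_cancel gf (smul_left_cancel gb (smul_left_cancel gg (smul_left_cancel gf (smul_left_cancel gb (smul_left_cancel gg (smul_left_cancel gf (smul_left_cancel gb (rel_31 (gb • gf • gg • gb • gf • gg • gb • gf • gg • gb • gf • gg • X)))))))))))))

theorem rot_31_4 (X : Q) : gg • gb • gf • gg • gb • gf • gg • gb • gf • gg • gb • gf • gg • gb • gf • X = X := by
  exact smul_left_cancel gf (smul_left_cancel gb (smul_left_cancel gg (smul_left_cancel gf (smul_left_cancel gb (smul_left_cancel gg (smul_left_cancel gf (smul_left_cancel gb (smul_left_cancel gg (smul_left_cancel gf (smul_left_cancel gb (rel_31 (gb • gf • gg • gb • gf • gg • gb • gf • gg • gb • gf • X))))))))))))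

theorem rot_31_5 (X : Q) : gf • gg • gb • gf • gg • gb • gf • gg • gb • gf • gg • gb • gf • gg • gb • X = X := by
  exact smul_left_cancel gb (smul_left_cancel gg (smul_left_cancel gf (smul_left_cancel gb (smul_left_cancel gg (smul_left_cancel gf (smul_left_cancel gb (smul_left_cancel gg (smul_left_cancel gf (smul_left_cancel gb (rel_31 (gb • gf • gg • gb • gf • gg • gb • gf • gg • gb • X)))))))))))

theorem rot_31_6 (X : Q) : gb • gf • gg • gb • gf • gg • gb • gf • gg • gb • gf • gg • gb • gf • gg • X = X := by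
  exact smul_left_cancel gg (smul_left_cancel gf (smul_left_cancel gb (smul_left_cancel gg (smul_left_cancel gf (smul_left_cancel gb (smul_left_cancel gg (smul_left_cancel gf (smul_left_cancel gb (rel_31 (gb • gf • gg • gb • gf • gg • gb • gf • gg • X))))))))))

theorem rot_31_7 (X : Q) : gg • gb • gf • gg • gb • gf • gg • gb • gf • gg • gb • gf • gg • gb • gf • X = X := by
  exact smul_left_cancel gf (smul_left_cancel gb (smul_left_cancel gg (smul_left_cancel gf (smul_left_cancel gb (smul_left_cancel gg (smul_left_cancel gf (smul_left_cancel gb (rel_31 (gb • gf • gg • gb • gf • gg • gb • gf • X)))))))))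

theorem rot_31_8 (X : Q) : gf • gg • gb • gf • gg • gb • gf • gg • gb • gf • gg • gb • gf • gg • gb • X = X := by
  exact smul_left_cancel gb (smul_left_cancel gg (smul_left_cancel gf (smul_left_cancel gb (smul_left_cancel gg (smul_left_cancel gf (smul_left_cancel gb (rel_31 (gb • gf • gg • gb • gf • gg • gb • X))))))))

theorem rot_31_9 (X : Q) : gb • gf • gg • gb • gf • gg • gb • gf • gg • gb • gf • gg • gb • gf • gg • X = X := by
  exact smul_left_cancel gg (smul_left_cancel gf (smul_left_cancel gb (smul_left_cancel gg (smul_left_cancel gf (smul_left_cancel gb (rel_31 (gb • gf • gg • gb • gf • gg • X)))))))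

theorem rot_31_10 (X : Q) : gg • gb • gf • gg • gb • gf • gg • gb • gf • gg • gb • gf • gg • gb • gf • X = X := by
  exact smul_left_cancel gf (smul_left_cancel gb (smul_left_cancel gg (smul_left_cancel gf (smul_left_cancel gb (rel_31 (gb • gf • gg • gb • gf • X))))))

theorem rot_31_12 (X : Q) : gb • gf • gg • gb • gf • gg • gb • gf • gg • gb • gf • gg • gb • gf • gg • X = X := by
  exact smul_left_cancel gg (smul_left_cancel gf (smul_left_cancel gb (rel_31 (gb • gf • gg • X))))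

theorem rot_31_13 (X : Q) : gg • gb • gf • gg • gb • gf • gg • gb • gf • gg • gb • gf • gg • gb • gf • X = X := by
  exact smul_left_cancel gf (smul_left_cancel gb (rel_31 (gb • gf • X)))

theorem rot_31_14 (X : Q) : gf • gg • gb • gf • gg • gb • gf • gg • gb • gf • gg • gb • gf • gg • gb • X = X := by
  exact smul_left_cancel gb (rel_31 (gb • X))

theorem rot_32_0 (X : Q) : gb • gc • gd • gc • gd • gb • gc • gd • gc • gd • gb • gc • gd • gc • gd • gb • gc • gd • gc • gd • gb • gc • gd • gc • gd • ge • gb • gc • gd • gc • gd • gb • gc • gd • gc • gd • gb • gc • gd • gc • gd • gb • gc • gd • gc • gd • gb • gc • gd • gc • gd • ge • gb • gc • gd • gc • gd • gb • gc • gd • gc • gd • gb • gc • gd • gc • gd • gb • gc • gd • gc • gd • gb • gc • gd • gc • gd • ge • X = X := by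
  exact rel_32 X

theorem rot_32_1 (X : Q) : ge • gb • gc • gd • gc • gd • gb • gc • gd • gc • gd • gb • gc • gd • gc • gd • gb • gc • gd • gc • gd • gb • gc • gd • gc • gd • ge • gb • gc • gd • gc • gd • gb • gc • gd • gc • gd • gb • gc • gd • gc • gd • gb • gc • gd • gc • gd • gb • gc • gd • gc • gd • ge • gb • gc • gd • gc • gd • gb • gc • gd • gc • gd • gb • gc • gd • gc • gd • gb • gc • gd • gc • gd • gb • gc • gd • gc • gd • X = X := by
  exact smul_left_cancel gd (smul_left_cancel gc (smul_left_cancel gd (smul_left_cancel gc (smul_left_cancel gb (smul_left_cancel gd (smul_left_cancel gc (smul_left_cancel gd (smul_left_cancel gc (smul_left_cancel gb (smul_left_cancel gd (smul_left_cancel gc (smul_left_cancel gd (smul_left_cancel gc (smul_left_cancel gb (smul_left_cancel gd (smul_left_cancel gc (smul_left_cancel gd (smul_left_cancel gc (smul_left_cancel gb (smul_left_cancel gd (smul_left_cancel gc (smul_left_cancel gd (smul_left_cancel gc (smul_left_cancel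 gb (smul_left_cancel ge (smul_left_cancel gd (smul_left_cancel gc (smul_left_cancel gd (smul_left_cancel gc (smul_left_cancel gb (smul_left_cancel gd (smul_left_cancel gc (smul_left_cancel gd (smul_left_cancel gc (smul_left_cancel gb (smul_left_cancel gd (smul_left_cancel gc (smul_left_cancel gd (smul_left_cancel gc (smul_left_cancel gb (smul_left_cancel gd (smul_left_cancel gc (smul_left_cancel gd (smul_left_cancel gc (smul_left_cancel gb (smul_left_cancel gd (smul_left_cancel gc (smul_left_cancel gd (smul_left_cancel gc (smul_left_cancel gb (smul_left_cancel ge (smul_left_cancel gd (smul_left_cancel gc (smul_left_cancel gd (smul_left_cancel gc (smul_left_cancel gb (smul_left_cancel gd (smul_left_cancel gc (smul_left_cancel gd (smul_left_cancel gc (smul_left_cancel gb (smul_left_cancel gd (smul_left_cancel gc (smul_left_cancel gd (smul_left_cancel gc (smul_left_cancel gb (smul_left_cancel gd (smul_left_cancel gc (smul_left_cancel gd (smul_left_cancel gc (smul_left_cancel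 gb (smul_left_cancel gd (smul_left_cancel gc (smul_left_cancel gd (smul_left_cancel gc (smul_left_cancel gb (rel_32 (gb • gc • gd • gc • gd • gb • gc • gd • gc • gd • gb • gc • gd • gc • gd • gb • gc • gd • gc • gd • gb • gc • gd • gc • gd • ge • gb • gc • gd • gc • gd • gb • gc • gd • gc • gd • gb • gc • gd • gc • gd • gb • gc • gd • gc • gd • gb • gc • gd • gc • gd • ge • gb • gc • gd • gc • gd • gb • gc • gd • gc • gd • gb • gc • gd • gc • gd • gb • gc • gd • gc • gd • gb • gc • gd • gc • gd • X))))))))))))))))))))))))))))))))))))))))))))))))))))))))))))))))))))))))))))))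

theorem rot_32_2 (X : Q) : gd • ge • gb • gc • gd • gc • gd • gb • gc • gd • gc • gd • gb • gc • gd • gc • gd • gb • gc • gd • gc • gd • gb • gc • gd • gc • gd • ge • gb • gc • gd • gc • gd • gb • gc • gd • gc • gd • gb • gc • gd • gc • gd • gb • gc • gd • gc • gd • gb • gc • gd • gc • gd • ge • gb • gc • gd • gc • gd • gb • gc • gd • gc • gd • gb • gc • gd • gc • gd • gb • gc • gd • gc • gd • gb • gc • gd • gc • X = X := by
  exact smul_left_cancel gc (smul_left_cancel gd (smul_left_cancel gc (smul_left_cancel gb (smul_left_cancel gd (smul_left_cancel gc (smul_left_cancel gd (smul_left_cancel gc (smul_left_cancel gb (smul_left_cancel gd (smul_left_cancel gc (smul_left_cancel gd (smul_left_cancel gc (smul_left_cancel gb (smul_left_cancel gd (smul_left_cancel gc (smul_left_cancel gd (smul_left_cancel gc (smul_left_cancel gb (smul_left_cancel gd (smul_left_cancel gc (smul_left_cancel gd (smul_left_cancel gc (smul_left_cancel gb (smul_left_cancel ge (smul_left_cancel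 gd (smul_left_cancel gc (smul_left_cancel gd (smul_left_cancel gc (smul_left_cancel gb (smul_left_cancel gd (smul_left_cancel gc (smul_left_cancel gd (smul_left_cancel gc (smul_left_cancel gb (smul_left_cancel gd (smul_left_cancel gc (smul_left_cancel gd (smul_left_cancel gc (smul_left_cancel gb (smul_left_cancel gd (smul_left_cancel gc (smul_left_cancel gd (smul_left_cancel gc (smul_left_cancel gb (smul_left_cancel gd (smul_left_cancel gc (smul_left_cancel gd (smul_left_cancel gc (smul_left_cancel gb (smul_left_cancel ge (smul_left_cancel gd (smul_left_cancel gc (smul_left_cancel gd (smul_left_cancel gc (smul_left_cancel gb (smul_left_cancel gd (smul_left_cancel gc (smul_left_cancel gd (smul_left_cancel gc (smul_left_cancel gb (smul_left_cancel gd (smul_left_cancel gc (smul_left_cancel gd (smul_left_cancel gc (smul_left_cancel gb (smul_left_cancel gd (smul_left_cancel gc (smul_left_cancel gd (smul_left_cancel gc (smul_left_cancel gb (smul_left_cancel gd (smul_left_cancel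 gc (smul_left_cancel gd (smul_left_cancel gc (smul_left_cancel gb (rel_32 (gb • gc • gd • gc • gd • gb • gc • gd • gc • gd • gb • gc • gd • gc • gd • gb • gc • gd • gc • gd • gb • gc • gd • gc • gd • ge • gb • gc • gd • gc • gd • gb • gc • gd • gc • gd • gb • gc • gd • gc • gd • gb • gc • gd • gc • gd • gb • gc • gd • gc • gd • ge • gb • gc • gd • gc • gd • gb • gc • gd • gc • gd • gb • gc • gd • gc • gd • gb • gc • gd • gc • gd • gb • gc • gd • gc • X)))))))))))))))))))))))))))))))))))))))))))))))))))))))))))))))))))))))))))))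

theorem rot_32_8 (X : Q) : gc • gd • gb • gc • gd • gc • gd • ge • gb • gc • gd • gc • gd • gb • gc • gd • gc • gd • gb • gc • gd • gc • gd • gb • gc • gd • gc • gd • gb • gc • gd • gc • gd • ge • gb • gc • gd • gc • gd • gb • gc • gd • gc • gd • gb • gc • gd • gc • gd • gb • gc • gd • gc • gd • gb • gc • gd • gc • gd • ge • gb • gc • gd • gc • gd • gb • gc • gd • gc • gd • gb • gc • gd • gc • gd • gb • gc • gd • X = X := by
  exact smul_left_cancel gd (smul_left_cancel gc (smul_left_cancel gb (smul_left_cancel gd (smul_left_cancel gc (smul_left_cancel gd (smul_left_cancel gc (smul_left_cancel gb (smul_left_cancel gd (smul_left_cancel gc (smul_left_cancel gd (smul_left_cancel gc (smul_left_cancel gb (smul_left_cancel gd (smul_left_cancel gc (smul_left_cancel gd (smul_left_cancel gc (smul_left_cancel gb (smul_left_cancel ge (smul_left_cancel gd (smul_left_cancel gc (smul_left_cancel gd (smul_left_cancel gc (smul_left_cancel gb (smul_left_cancel gd (smul_left_cancel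 gc (smul_left_cancel gd (smul_left_cancel gc (smul_left_cancel gb (smul_left_cancel gd (smul_left_cancel gc (smul_left_cancel gd (smul_left_cancel gc (smul_left_cancel gb (smul_left_cancel gd (smul_left_cancel gc (smul_left_cancel gd (smul_left_cancel gc (smul_left_cancel gb (smul_left_cancel gd (smul_left_cancel gc (smul_left_cancel gd (smul_left_cancel gc (smul_left_cancel gb (smul_left_cancel ge (smul_left_cancel gd (smul_left_cancel gc (smul_left_cancel gd (smul_left_cancel gc (smul_left_cancel gb (smul_left_cancel gd (smul_left_cancel gc (smul_left_cancel gd (smul_left_cancel gc (smul_left_cancel gb (smul_left_cancel gd (smul_left_cancel gc (smul_left_cancel gd (smul_left_cancel gc (smul_left_cancel gb (smul_left_cancel gd (smul_left_cancel gc (smul_left_cancel gd (smul_left_cancel gc (smul_left_cancel gb (smul_left_cancel gd (smul_left_cancel gc (smul_left_cancel gd (smul_left_cancel gc (smul_left_cancel gb (rel_32 (gb • gc • gd • gc • gd • gb • gc •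 gd • gc • gd • gb • gc • gd • gc • gd • gb • gc • gd • gc • gd • gb • gc • gd • gc • gd • ge • gb • gc • gd • gc • gd • gb • gc • gd • gc • gd • gb • gc • gd • gc • gd • gb • gc • gd • gc • gd • gb • gc • gd • gc • gd • ge • gb • gc • gd • gc • gd • gb • gc • gd • gc • gd • gb • gc • gd • gc • gd • gb • gc • gd • X)))))))))))))))))))))))))))))))))))))))))))))))))))))))))))))))))))))))

theorem rot_32_18 (X : Q) : gc • gd • gb • gc • gd • gc • gd • gb • gc • gd • gc • gd • gb • gc • gd • gc • gd • ge • gb • gc • gd • gc • gd • gb • gc • gd • gc • gd • gb • gc • gd • gc • gd • gb • gc • gd • gc • gd • gb • gc • gd • gc • gd • ge • gb • gc • gd • gc • gd • gb • gc • gd • gc • gd • gb • gc • gd • gc • gd • gb • gc • gd • gc • gd • gb • gc • gd • gc • gd • ge • gb • gc • gd • gc • gd • gb • gc • gd • X = X := by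
  exact smul_left_cancel gd (smul_left_cancel gc (smul_left_cancel gb (smul_left_cancel gd (smul_left_cancel gc (smul_left_cancel gd (smul_left_cancel gc (smul_left_cancel gb (smul_left_cancel ge (smul_left_cancel gd (smul_left_cancel gc (smul_left_cancel gd (smul_left_cancel gc (smul_left_cancel gb (smul_left_cancel gd (smul_left_cancel gc (smul_left_cancel gd (smul_left_cancel gc (smul_left_cancel gb (smul_left_cancel gd (smul_left_cancel gc (smul_left_cancel gd (smul_left_cancel gc (smul_left_cancel gb (smul_left_cancel gd (smul_left_cancel gc (smul_left_cancel gd (smul_left_cancel gc (smul_left_cancel gb (smul_left_cancel gd (smul_left_cancel gc (smul_left_cancel gd (smul_left_cancel gc (smul_left_cancel gb (smul_left_cancel ge (smul_left_cancel gd (smul_left_cancel gc (smul_left_cancel gd (smul_left_cancel gc (smul_left_cancel gb (smul_left_cancel gd (smul_left_cancel gc (smul_left_cancel gd (smul_left_cancel gc (smul_left_cancel gb (smul_left_cancel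 gd (smul_left_cancel gc (smul_left_cancel gd (smul_left_cancel gc (smul_left_cancel gb (smul_left_cancel gd (smul_left_cancel gc (smul_left_cancel gd (smul_left_cancel gc (smul_left_cancel gb (smul_left_cancel gd (smul_left_cancel gc (smul_left_cancel gd (smul_left_cancel gc (smul_left_cancel gb (rel_32 (gb • gc • gd • gc • gd • gb • gc • gd • gc • gd • gb • gc • gd • gc • gd • gb • gc • gd • gc • gd • gb • gc • gd • gc • gd • ge • gb • gc • gd • gc • gd • gb • gc • gd • gc • gd • gb • gc • gd • gc • gd • gb • gc • gd • gc • gd • gb • gc • gd • gc • gd • ge • gb • gc • gd • gc • gd • gb • gc • gd • X)))))))))))))))))))))))))))))))))))))))))))))))))))))))))))))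

theorem rot_32_20 (X : Q) : gc • gd • gc • gd • gb • gc • gd • gc • gd • gb • gc • gd • gc • gd • gb • gc • gd • gc • gd • ge • gb • gc • gd • gc • gd • gb • gc • gd • gc • gd • gb • gc • gd • gc • gd • gb • gc • gd • gc • gd • gb • gc • gd • gc • gd • ge • gb • gc • gd • gc • gd • gb • gc • gd • gc • gd • gb • gc • gd • gc • gd • gb • gc • gd • gc • gd • gb • gc • gd • gc • gd • ge • gb • gc • gd • gc • gd • gb • X = X := by
  exact smul_left_cancel gb (smul_left_cancel gd (smul_left_cancel gc (smul_left_cancel gd (smul_left_cancel gc (smul_left_cancel gb (smul_left_cancel ge (smul_left_cancel gd (smul_left_cancel gc (smul_left_cancel gd (smul_left_cancel gc (smul_left_cancel gb (smul_left_cancel gd (smul_left_cancel gc (smul_left_cancel gd (smul_left_cancel gc (smul_left_cancel gb (smul_left_cancel gd (smul_left_cancel gc (smul_left_cancel gd (smul_left_cancel gc (smul_left_cancel gb (smul_left_cancel gd (smul_left_cancel gc (smul_left_cancel gd (smul_left_cancel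 gc (smul_left_cancel gb (smul_left_cancel gd (smul_left_cancel gc (smul_left_cancel gd (smul_left_cancel gc (smul_left_cancel gb (smul_left_cancel ge (smul_left_cancel gd (smul_left_cancel gc (smul_left_cancel gd (smul_left_cancel gc (smul_left_cancel gb (smul_left_cancel gd (smul_left_cancel gc (smul_left_cancel gd (smul_left_cancel gc (smul_left_cancel gb (smul_left_cancel gd (smul_left_cancel gc (smul_left_cancel gd (smul_left_cancel gc (smul_left_cancel gb (smul_left_cancel gd (smul_left_cancel gc (smul_left_cancel gd (smul_left_cancel gc (smul_left_cancel gb (smul_left_cancel gd (smul_left_cancel gc (smul_left_cancel gd (smul_left_cancel gc (smul_left_cancel gb (rel_32 (gb • gc • gd • gc • gd • gb • gc • gd • gc • gd • gb • gc • gd • gc • gd • gb • gc • gd • gc • gd • gb • gc • gd • gc • gd • ge • gb • gc • gd • gc • gd • gb • gc • gd • gc • gd • gb • gc • gd • gc • gd • gb • gc • gd • gc • gd • gb • gc • gd • gc • gd • ge • gb • gc • gd • gc • gd • gb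 • X)))))))))))))))))))))))))))))))))))))))))))))))))))))))))))

theorem rot_32_32 (X : Q) : gb • gc • gd • gc • gd • ge • gb • gc • gd • gc • gd • gb • gc • gd • gc • gd • gb • gc • gd • gc • gd • gb • gc • gd • gc • gd • gb • gc • gd • gc • gd • ge • gb • gc • gd • gc • gd • gb • gc • gd • gc • gd • gb • gc • gd • gc • gd • gb • gc • gd • gc • gd • gb • gc • gd • gc • gd • ge • gb • gc • gd • gc • gd • gb • gc • gd • gc • gd • gb • gc • gd • gc • gd • gb • gc • gd • gc • gd • X = X := by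
  exact smul_left_cancel gd (smul_left_cancel gc (smul_left_cancel gd (smul_left_cancel gc (smul_left_cancel gb (smul_left_cancel gd (smul_left_cancel gc (smul_left_cancel gd (smul_left_cancel gc (smul_left_cancel gb (smul_left_cancel gd (smul_left_cancel gc (smul_left_cancel gd (smul_left_cancel gc (smul_left_cancel gb (smul_left_cancel gd (smul_left_cancel gc (smul_left_cancel gd (smul_left_cancel gc (smul_left_cancel gb (smul_left_cancel ge (smul_left_cancel gd (smul_left_cancel gc (smul_left_cancel gd (smul_left_cancel gc (smul_left_cancel gb (smul_left_cancel gd (smul_left_cancel gc (smul_left_cancel gd (smul_left_cancel gc (smul_left_cancel gb (smul_left_cancel gd (smul_left_cancel gc (smul_left_cancel gd (smul_left_cancel gc (smul_left_cancel gb (smul_left_cancel gd (smul_left_cancel gc (smul_left_cancel gd (smul_left_cancel gc (smul_left_cancel gb (smul_left_cancel gd (smul_left_cancel gc (smul_left_cancel gd (smul_left_cancel gc (smul_left_cancel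 gb (rel_32 (gb • gc • gd • gc • gd • gb • gc • gd • gc • gd • gb • gc • gd • gc • gd • gb • gc • gd • gc • gd • gb • gc • gd • gc • gd • ge • gb • gc • gd • gc • gd • gb • gc • gd • gc • gd • gb • gc • gd • gc • gd • gb • gc • gd • gc • gd • X)))))))))))))))))))))))))))))))))))))))))))))))

theorem rot_32_38 (X : Q) : gd • gb • gc • gd • gc • gd • gb • gc • gd • gc • gd • ge • gb • gc • gd • gc • gd • gb • gc • gd • gc • gd • gb • gc • gd • gc • gd • gb • gc • gd • gc • gd • gb • gc • gd • gc • gd • ge • gb • gc • gd • gc • gd • gb • gc • gd • gc • gd • gb • gc • gd • gc • gd • gb • gc • gd • gc • gd • gb • gc • gd • gc • gd • ge • gb • gc • gd • gc • gd • gb • gc • gd • gc • gd • gb • gc • gd • gc • X = X := by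
  exact smul_left_cancel gc (smul_left_cancel gd (smul_left_cancel gc (smul_left_cancel gb (smul_left_cancel gd (smul_left_cancel gc (smul_left_cancel gd (smul_left_cancel gc (smul_left_cancel gb (smul_left_cancel gd (smul_left_cancel gc (smul_left_cancel gd (smul_left_cancel gc (smul_left_cancel gb (smul_left_cancel ge (smul_left_cancel gd (smul_left_cancel gc (smul_left_cancel gd (smul_left_cancel gc (smul_left_cancel gb (smul_left_cancel gd (smul_left_cancel gc (smul_left_cancel gd (smul_left_cancel gc (smul_left_cancel gb (smul_left_cancel gd (smul_left_cancel gc (smul_left_cancel gd (smul_left_cancel gc (smul_left_cancel gb (smul_left_cancel gd (smul_left_cancel gc (smul_left_cancel gd (smul_left_cancel gc (smul_left_cancel gb (smul_left_cancel gd (smul_left_cancel gc (smul_left_cancel gd (smul_left_cancel gc (smul_left_cancel gb (rel_32 (gb • gc • gd • gc • gd • gb • gc • gd • gc • gd • gb • gc • gd • gc • gd • gb • gc • gd • gc • gd • gb • gc • gd •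 gc • gd • ge • gb • gc • gd • gc • gd • gb • gc • gd • gc • gd • gb • gc • gd • gc • X)))))))))))))))))))))))))))))))))))))))))

theorem rot_32_39 (X : Q) : gc • gd • gb • gc • gd • gc • gd • gb • gc • gd • gc • gd • ge • gb • gc • gd • gc • gd • gb • gc • gd • gc • gd • gb • gc • gd • gc • gd • gb • gc • gd • gc • gd • gb • gc • gd • gc • gd • ge • gb • gc • gd • gc • gd • gb • gc • gd • gc • gd • gb • gc • gd • gc • gd • gb • gc • gd • gc • gd • gb • gc • gd • gc • gd • ge • gb • gc • gd • gc • gd • gb • gc • gd • gc • gd • gb • gc • gd • X = X := by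
  exact smul_left_cancel gd (smul_left_cancel gc (smul_left_cancel gb (smul_left_cancel gd (smul_left_cancel gc (smul_left_cancel gd (smul_left_cancel gc (smul_left_cancel gb (smul_left_cancel gd (smul_left_cancel gc (smul_left_cancel gd (smul_left_cancel gc (smul_left_cancel gb (smul_left_cancel ge (smul_left_cancel gd (smul_left_cancel gc (smul_left_cancel gd (smul_left_cancel gc (smul_left_cancel gb (smul_left_cancel gd (smul_left_cancel gc (smul_left_cancel gd (smul_left_cancel gc (smul_left_cancel gb (smul_left_cancel gd (smul_left_cancel gc (smul_left_cancel gd (smul_left_cancel gc (smul_left_cancel gb (smul_left_cancel gd (smul_left_cancel gc (smul_left_cancel gd (smul_left_cancel gc (smul_left_cancel gb (smul_left_cancel gd (smul_left_cancel gc (smul_left_cancel gd (smul_left_cancel gc (smul_left_cancel gb (rel_32 (gb • gc • gd • gc • gd • gb • gc • gd • gc • gd • gb • gc • gd • gc • gd • gb • gc • gd • gc • gd • gb • gc • gd • gc • gd • ge • gb •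 gc • gd • gc • gd • gb • gc • gd • gc • gd • gb • gc • gd • X))))))))))))))))))))))))))))))))))))))))

theorem rot_32_45 (X : Q) : gd • gc • gd • gb • gc • gd • gc • gd • gb • gc • gd • gc • gd • gb • gc • gd • gc • gd • ge • gb • gc • gd • gc • gd • gb • gc • gd • gc • gd • gb • gc • gd • gc • gd • gb • gc • gd • gc • gd • gb • gc • gd • gc • gd • ge • gb • gc • gd • gc • gd • gb • gc • gd • gc • gd • gb • gc • gd • gc • gd • gb • gc • gd • gc • gd • gb • gc • gd • gc • gd • ge • gb • gc • gd • gc • gd • gb • gc • X = X := by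
  exact smul_left_cancel gc (smul_left_cancel gb (smul_left_cancel gd (smul_left_cancel gc (smul_left_cancel gd (smul_left_cancel gc (smul_left_cancel gb (smul_left_cancel ge (smul_left_cancel gd (smul_left_cancel gc (smul_left_cancel gd (smul_left_cancel gc (smul_left_cancel gb (smul_left_cancel gd (smul_left_cancel gc (smul_left_cancel gd (smul_left_cancel gc (smul_left_cancel gb (smul_left_cancel gd (smul_left_cancel gc (smul_left_cancel gd (smul_left_cancel gc (smul_left_cancel gb (smul_left_cancel gd (smul_left_cancel gc (smul_left_cancel gd (smul_left_cancel gc (smul_left_cancel gb (smul_left_cancel gd (smul_left_cancel gc (smul_left_cancel gd (smul_left_cancel gc (smul_left_cancel gb (rel_32 (gb • gc • gd • gc • gd • gb • gc • gd • gc • gd • gb • gc • gd • gc • gd • gb • gc • gd • gc • gd • gb • gc • gd • gc • gd • ge • gb • gc • gd • gc • gd • gb • gc • X))))))))))))))))))))))))))))))))))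

theorem rot_32_48 (X : Q) : gd • gb • gc • gd • gc • gd • gb • gc • gd • gc • gd • gb • gc • gd • gc • gd • gb • gc • gd • gc • gd • ge • gb • gc • gd • gc • gd • gb • gc • gd • gc • gd • gb • gc • gd • gc • gd • gb • gc • gd • gc • gd • gb • gc • gd • gc • gd • ge • gb • gc • gd • gc • gd • gb • gc • gd • gc • gd • gb • gc • gd • gc • gd • gb • gc • gd • gc • gd • gb • gc • gd • gc • gd • ge • gb • gc • gd • gc • X = X := by
  exact smul_left_cancel gc (smul_left_cancel gd (smul_left_cancel gc (smul_left_cancel gb (smul_left_cancel ge (smul_left_cancel gd (smul_left_cancel gc (smul_left_cancel gd (smul_left_cancel gc (smul_left_cancel gb (smul_left_cancel gd (smul_left_cancel gc (smul_left_cancel gd (smul_left_cancel gc (smul_left_cancel gb (smul_left_cancel gd (smul_left_cancel gc (smul_left_cancel gd (smul_left_cancel gc (smul_left_cancel gb (smul_left_cancel gd (smul_left_cancel gc (smul_left_cancel gd (smul_left_cancel gc (smul_left_cancel gb (smul_left_cancel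 gd (smul_left_cancel gc (smul_left_cancel gd (smul_left_cancel gc (smul_left_cancel gb (rel_32 (gb • gc • gd • gc • gd • gb • gc • gd • gc • gd • gb • gc • gd • gc • gd • gb • gc • gd • gc • gd • gb • gc • gd • gc • gd • ge • gb • gc • gd • gc • X)))))))))))))))))))))))))))))))

theorem rot_32_50 (X : Q) : gd • gc • gd • gb • gc • gd • gc • gd • gb • gc • gd • gc • gd • gb • gc • gd • gc • gd • gb • gc • gd • gc • gd • ge • gb • gc • gd • gc • gd • gb • gc • gd • gc • gd • gb • gc • gd • gc • gd • gb • gc • gd • gc • gd • gb • gc • gd • gc • gd • ge • gb • gc • gd • gc • gd • gb • gc • gd • gc • gd • gb • gc • gd • gc • gd • gb • gc • gd • gc • gd • gb • gc • gd • gc • gd • ge • gb • gc • X = X := by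
  exact smul_left_cancel gc (smul_left_cancel gb (smul_left_cancel ge (smul_left_cancel gd (smul_left_cancel gc (smul_left_cancel gd (smul_left_cancel gc (smul_left_cancel gb (smul_left_cancel gd (smul_left_cancel gc (smul_left_cancel gd (smul_left_cancel gc (smul_left_cancel gb (smul_left_cancel gd (smul_left_cancel gc (smul_left_cancel gd (smul_left_cancel gc (smul_left_cancel gb (smul_left_cancel gd (smul_left_cancel gc (smul_left_cancel gd (smul_left_cancel gc (smul_left_cancel gb (smul_left_cancel gd (smul_left_cancel gc (smul_left_cancel gd (smul_left_cancel gc (smul_left_cancel gb (rel_32 (gb • gc • gd • gc • gd • gb • gc • gd • gc • gd • gb • gc • gd • gc • gd • gb • gc • gd • gc • gd • gb • gc • gd • gc • gd • ge • gb • gc • X)))))))))))))))))))))))))))))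

theorem rot_32_51 (X : Q) : gc • gd • gc • gd • gb • gc • gd • gc • gd • gb • gc • gd • gc • gd • gb • gc • gd • gc • gd • gb • gc • gd • gc • gd • ge • gb • gc • gd • gc • gd • gb • gc • gd • gc • gd • gb • gc • gd • gc • gd • gb • gc • gd • gc • gd • gb • gc • gd • gc • gd • ge • gb • gc • gd • gc • gd • gb • gc • gd • gc • gd • gb • gc • gd • gc • gd • gb • gc • gd • gc • gd • gb • gc • gd • gc • gd • ge • gb • X = X := by
  exact smul_left_cancel gb (smul_left_cancel ge (smul_left_cancel gd (smul_left_cancel gc (smul_left_cancel gd (smul_left_cancel gc (smul_left_cancel gb (smul_left_cancel gd (smul_left_cancel gc (smul_left_cancel gd (smul_left_cancel gc (smul_left_cancel gb (smul_left_cancel gd (smul_left_cancel gc (smul_left_cancel gd (smul_left_cancel gc (smul_left_cancel gb (smul_left_cancel gd (smul_left_cancel gc (smul_left_cancel gd (smul_left_cancel gc (smul_left_cancel gb (smul_left_cancel gd (smul_left_cancel gc (smul_left_cancel gd (smul_left_cancel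 gc (smul_left_cancel gb (rel_32 (gb • gc • gd • gc • gd • gb • gc • gd • gc • gd • gb • gc • gd • gc • gd • gb • gc • gd • gc • gd • gb • gc • gd • gc • gd • ge • gb • X))))))))))))))))))))))))))))

theorem rot_32_53 (X : Q) : ge • gb • gc • gd • gc • gd • gb • gc • gd • gc • gd • gb • gc • gd • gc • gd • gb • gc • gd • gc • gd • gb • gc • gd • gc • gd • ge • gb • gc • gd • gc • gd • gb • gc • gd • gc • gd • gb • gc • gd • gc • gd • gb • gc • gd • gc • gd • gb • gc • gd • gc • gd • ge • gb • gc • gd • gc • gd • gb • gc • gd • gc • gd • gb • gc • gd • gc • gd • gb • gc • gd • gc • gd • gb • gc • gd • gc • gd • X = X := by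
  exact smul_left_cancel gd (smul_left_cancel gc (smul_left_cancel gd (smul_left_cancel gc (smul_left_cancel gb (smul_left_cancel gd (smul_left_cancel gc (smul_left_cancel gd (smul_left_cancel gc (smul_left_cancel gb (smul_left_cancel gd (smul_left_cancel gc (smul_left_cancel gd (smul_left_cancel gc (smul_left_cancel gb (smul_left_cancel gd (smul_left_cancel gc (smul_left_cancel gd (smul_left_cancel gc (smul_left_cancel gb (smul_left_cancel gd (smul_left_cancel gc (smul_left_cancel gd (smul_left_cancel gc (smul_left_cancel gb (rel_32 (gb • gc • gd • gc • gd • gb • gc • gd • gc • gd • gb • gc • gd • gc • gd • gb • gc • gd • gc • gd • gb • gc • gd • gc • gd • X))))))))))))))))))))))))))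

theorem rot_32_56 (X : Q) : gd • gc • gd • ge • gb • gc • gd • gc • gd • gb • gc • gd • gc • gd • gb • gc • gd • gc • gd • gb • gc • gd • gc • gd • gb • gc • gd • gc • gd • ge • gb • gc • gd • gc • gd • gb • gc • gd • gc • gd • gb • gc • gd • gc • gd • gb • gc • gd • gc • gd • gb • gc • gd • gc • gd • ge • gb • gc • gd • gc • gd • gb • gc • gd • gc • gd • gb • gc • gd • gc • gd • gb • gc • gd • gc • gd • gb • gc • X = X := by
  exact smul_left_cancel gc (smul_left_cancel gb (smul_left_cancel gd (smul_left_cancel gc (smul_left_cancel gd (smul_left_cancel gc (smul_left_cancel gb (smul_left_cancel gd (smul_left_cancel gc (smul_left_cancel gd (smul_left_cancel gc (smul_left_cancel gb (smul_left_cancel gd (smul_left_cancel gc (smul_left_cancel gd (smul_left_cancel gc (smul_left_cancel gb (smul_left_cancel gd (smul_left_cancel gc (smul_left_cancel gd (smul_left_cancel gc (smul_left_cancel gb (rel_32 (gb • gc • gd • gc • gd • gb • gc • gd • gc • gd • gb • gc • gd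 • gc • gd • gb • gc • gd • gc • gd • gb • gc • X)))))))))))))))))))))))

theorem rot_32_58 (X : Q) : gb • gc • gd • gc • gd • ge • gb • gc • gd • gc • gd • gb • gc • gd • gc • gd • gb • gc • gd • gc • gd • gb • gc • gd • gc • gd • gb • gc • gd • gc • gd • ge • gb • gc • gd • gc • gd • gb • gc • gd • gc • gd • gb • gc • gd • gc • gd • gb • gc • gd • gc • gd • gb • gc • gd • gc • gd • ge • gb • gc • gd • gc • gd • gb • gc • gd • gc • gd • gb • gc • gd • gc • gd • gb • gc • gd • gc • gd • X = X := by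
  exact smul_left_cancel gd (smul_left_cancel gc (smul_left_cancel gd (smul_left_cancel gc (smul_left_cancel gb (smul_left_cancel gd (smul_left_cancel gc (smul_left_cancel gd (smul_left_cancel gc (smul_left_cancel gb (smul_left_cancel gd (smul_left_cancel gc (smul_left_cancel gd (smul_left_cancel gc (smul_left_cancel gb (smul_left_cancel gd (smul_left_cancel gc (smul_left_cancel gd (smul_left_cancel gc (smul_left_cancel gb (rel_32 (gb • gc • gd • gc • gd • gb • gc • gd • gc • gd • gb • gc • gd • gc • gd • gb • gc • gd • gc • gd • X)))))))))))))))))))))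

theorem coi_7_2 {X z1 z2 z3 z4 z5 z6 z7 z8 z9 z10 : Q} (e0 : sm gb X = z1) (e1 : sm ga z1 = z2) (e2 : sm gb z2 = z3) (e3 : sm ga z3 = z4) (e4 : sm gb z4 = z5) (e5 : sm ga z5 = z6) (e6 : sm gb z6 = z7) (e7 : sm ga z7 = z8) (e8 : sm gb z8 = z9) (e9 : sm ga z9 = z10) : z10 = X := by
  subst e0
  subst e1
  subst e2
  subst e3
  subst e4
  subst e5
  subst e6
  subst e7
  subst e8
  subst e9
  exact rot_7_2 X

theorem coi_7_5 {X z1 z2 z3 z4 z5 z6 z7 z8 z9 z10 : Q} (e0 : sm ga X = z1) (e1 : sm gb z1 = z2) (e2 : sm ga z2 = z3) (e3 : sm gb z3 = z4) (e4 : sm ga z4 = z5) (e5 : sm gb z5 = z6) (e6 : sm ga z6 = z7) (e7 : sm gb z7 = z8) (e8 : sm ga z8 = z9) (e9 : sm gb z9 = z10) : z10 = X := by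
  subst e0
  subst e1
  subst e2
  subst e3
  subst e4
  subst e5
  subst e6
  subst e7
  subst e8
  subst e9
  exact rot_7_5 X

theorem coi_7_6 {X z1 z2 z3 z4 z5 z6 z7 z8 z9 z10 : Q} (e0 : sm gb X = z1) (e1 : sm ga z1 = z2) (e2 : sm gb z2 = z3) (e3 : sm ga z3 = z4) (e4 : sm gb z4 = z5) (e5 : sm ga z5 = z6) (e6 : sm gb z6 = z7) (e7 : sm ga z7 = z8) (e8 : sm gb z8 = z9) (e9 : sm ga z9 = z10) : z10 = X := by
  subst e0
  subst e1
  subst e2
  subst e3
  subst e4
  subst e5
  subst e6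
  subst e7
  subst e8
  subst e9
  exact rot_7_6 X

theorem coi_7_8 {X z1 z2 z3 z4 z5 z6 z7 z8 z9 z10 : Q} (e0 : sm gb X = z1) (e1 : sm ga z1 = z2) (e2 : sm gb z2 = z3) (e3 : sm ga z3 = z4) (e4 : sm gb z4 = z5) (e5 : sm ga z5 = z6) (e6 : sm gb z6 = z7) (e7 : sm ga z7 = z8) (e8 : sm gb z8 = z9) (e9 : sm ga z9 = z10) : z10 = X := by
  subst e0
  subst e1
  subst e2
  subst e3
  subst e4
  subst e5
  subst e6
  subst e7
  subst e8
  subst e9
  exact rot_7_8 X

theorem coi_8_2 {X z1 z2 z3 z4 : Q} (e0 : sm gc X = z1) (e1 : sm ga z1 = z2) (e2 : sm gc z2 = z3) (e3 : sm ga z3 = z4) : z4 = X := by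
  subst e0
  subst e1
  subst e2
  subst e3
  exact rot_8_2 X

theorem coi_8_3 {X z1 z2 z3 z4 : Q} (e0 : sm ga X = z1) (e1 : sm gc z1 = z2) (e2 : sm ga z2 = z3) (e3 : sm gc z3 = z4) : z4 = X := by
  subst e0
  subst e1
  subst e2
  subst e3
  exact rot_8_3 X

theorem coi_12_0 {X z1 z2 z3 z4 : Q} (e0 : sm gg X = z1) (e1 : sm ga z1 = z2) (e2 : sm gg z2 = z3) (e3 : sm ga z3 = z4) : z4 = X := by
  subst e0
  subst e1
  subst e2
  subst e3
  exact rot_12_0 X

theorem coi_12_3 {X z1 z2 z3 z4 : Q} (e0 : sm ga X = z1) (e1 : sm gg z1 = z2) (e2 : sm ga z2 = z3) (e3 : sm gg z3 = z4) : z4 = X := by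
  subst e0
  subst e1
  subst e2
  subst e3
  exact rot_12_3 X

theorem coi_13_2 {X z1 z2 z3 z4 z5 z6 : Q} (e0 : sm gc X = z1) (e1 : sm gb z1 = z2) (e2 : sm gc z2 = z3) (e3 : sm gb z3 = z4) (e4 : sm gc z4 = z5) (e5 : sm gb z5 = z6) : z6 = X := by
  subst e0
  subst e1
  subst e2
  subst e3
  subst e4
  subst e5
  exact rot_13_2 X

theorem coi_13_3 {X z1 z2 z3 z4 z5 z6 : Q} (e0 : sm gb X = z1) (e1 : sm gc z1 = z2) (e2 : sm gb z2 = z3) (e3 : sm gc z3 = z4) (e4 : sm gb z4 = z5) (e5 : sm gc z5 = z6) : z6 = X := by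
  subst e0
  subst e1
  subst e2
  subst e3
  subst e4
  subst e5
  exact rot_13_3 X

theorem coi_13_4 {X z1 z2 z3 z4 z5 z6 : Q} (e0 : sm gc X = z1) (e1 : sm gb z1 = z2) (e2 : sm gc z2 = z3) (e3 : sm gb z3 = z4) (e4 : sm gc z4 = z5) (e5 : sm gb z5 = z6) : z6 = X := by
  subst e0
  subst e1
  subst e2
  subst e3
  subst e4
  subst e5
  exact rot_13_4 X

theorem coi_13_5 {X z1 z2 z3 z4 z5 z6 : Q} (e0 : sm gb X = z1) (e1 : sm gc z1 = z2) (e2 : sm gb z2 = z3) (e3 : sm gc z3 = z4) (e4 : sm gb z4 = z5) (e5 : sm gc z5 = z6) : z6 = X := by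
  subst e0
  subst e1
  subst e2
  subst e3
  subst e4
  subst e5
  exact rot_13_5 X

theorem coi_14_3 {X z1 z2 z3 z4 : Q} (e0 : sm gb X = z1) (e1 : sm gd z1 = z2) (e2 : sm gb z2 = z3) (e3 : sm gd z3 = z4) : z4 = X := by
  subst e0
  subst e1
  subst e2
  subst e3
  exact rot_14_3 X

theorem coi_15_1 {X z1 z2 z3 z4 : Q} (e0 : sm gb X = z1) (e1 : sm ge z1 = z2) (e2 : sm gb z2 = z3) (e3 : sm ge z3 = z4) : z4 = X := by
  subst e0
  subst e1
  subst e2
  subst e3
  exact rot_15_1 X

theorem coi_16_4 {X z1 z2 z3 z4 z5 z6 : Q} (e0 : sm gf X = z1) (e1 : sm gb z1 = z2) (e2 : sm gf z2 = z3) (e3 : sm gb z3 = z4) (e4 : sm gf z4 = z5) (e5 : sm gb z5 = z6) : z6 = X := by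
  subst e0
  subst e1
  subst e2
  subst e3
  subst e4
  subst e5
  exact rot_16_4 X

theorem coi_17_3 {X z1 z2 z3 z4 z5 z6 : Q} (e0 : sm gb X = z1) (e1 : sm gg z1 = z2) (e2 : sm gb z2 = z3) (e3 : sm gg z3 = z4) (e4 : sm gb z4 = z5) (e5 : sm gg z5 = z6) : z6 = X := by
  subst e0
  subst e1
  subst e2
  subst e3
  subst e4
  subst e5
  exact rot_17_3 X

theorem coi_17_5 {X z1 z2 z3 z4 z5 z6 : Q} (e0 : sm gb X = z1) (e1 : sm gg z1 = z2) (e2 : sm gb z2 = z3) (e3 : sm gg z3 = z4) (e4 : sm gb z4 = z5) (e5 : sm gg z5 = z6) : z6 = X := by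
  subst e0
  subst e1
  subst e2
  subst e3
  subst e4
  subst e5
  exact rot_17_5 X

theorem coi_19_3 {X z1 z2 z3 z4 : Q} (e0 : sm gc X = z1) (e1 : sm ge z1 = z2) (e2 : sm gc z2 = z3) (e3 : sm ge z3 = z4) : z4 = X := by
  subst e0
  subst e1
  subst e2
  subst e3
  exact rot_19_3 X

theorem coi_20_0 {X z1 z2 z3 z4 : Q} (e0 : sm gf X = z1) (e1 : sm gc z1 = z2) (e2 : sm gf z2 = z3) (e3 : sm gc z3 = z4) : z4 = X := by
  subst e0
  subst e1
  subst e2
  subst e3
  exact rot_20_0 X

theorem coi_20_2 {X z1 z2 z3 z4 : Q} (e0 : sm gf X = z1) (e1 : sm gc z1 = z2) (e2 : sm gf z2 = z3) (e3 : sm gc z3 = z4) : z4 = X := by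
  subst e0
  subst e1
  subst e2
  subst e3
  exact rot_20_2 X

theorem coi_20_3 {X z1 z2 z3 z4 : Q} (e0 : sm gc X = z1) (e1 : sm gf z1 = z2) (e2 : sm gc z2 = z3) (e3 : sm gf z3 = z4) : z4 = X := by
  subst e0
  subst e1
  subst e2
  subst e3
  exact rot_20_3 X

theorem coi_21_2 {X z1 z2 z3 z4 : Q} (e0 : sm gg X = z1) (e1 : sm gc z1 = z2) (e2 : sm gg z2 = z3) (e3 : sm gc z3 = z4) : z4 = X := by
  subst e0
  subst e1
  subst e2
  subst e3
  exact rot_21_2 X

theorem coi_22_5 {X z1 z2 z3 z4 z5 z6 : Q} (e0 : sm gd X = z1) (e1 : sm ge z1 = z2) (e2 : sm gd z2 = z3) (e3 : sm ge z3 = z4) (e4 : sm gd z4 = z5) (e5 : sm ge z5 = z6) : z6 = X := by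
  subst e0
  subst e1
  subst e2
  subst e3
  subst e4
  subst e5
  exact rot_22_5 X

theorem coi_28_0 {X z1 z2 z3 z4 z5 z6 z7 z8 z9 : Q} (e0 : sm gc X = z1) (e1 : sm gd z1 = z2) (e2 : sm gc z2 = z3) (e3 : sm gd z3 = z4) (e4 : sm gc z4 = z5) (e5 : sm gd z5 = z6) (e6 : sm gc z6 = z7) (e7 : sm gd z7 = z8) (e8 : sm ga z8 = z9) : z9 = X := by
  subst e0
  subst e1
  subst e2
  subst e3
  subst e4
  subst e5
  subst e6
  subst e7
  subst e8
  exact rot_28_0 X

theorem coi_28_4 {X z1 z2 z3 z4 z5 z6 z7 z8 z9 : Q} (e0 : sm gc X = z1) (e1 : sm gd z1 = z2) (e2 : sm gc z2 = z3) (e3 : sm gd z3 = z4) (e4 : sm ga z4 = z5) (e5 : sm gc z5 = z6) (e6 : sm gd z6 = z7) (e7 : sm gc z7 = z8) (e8 : sm gd z8 = z9) : z9 = X := by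
  subst e0
  subst e1
  subst e2
  subst e3
  subst e4
  subst e5
  subst e6
  subst e7
  subst e8
  exact rot_28_4 X

theorem coi_28_8 {X z1 z2 z3 z4 z5 z6 z7 z8 z9 : Q} (e0 : sm ga X = z1) (e1 : sm gc z1 = z2) (e2 : sm gd z2 = z3) (e3 : sm gc z3 = z4) (e4 : sm gd z4 = z5) (e5 : sm gc z5 = z6) (e6 : sm gd z6 = z7) (e7 : sm gc z7 = z8) (e8 : sm gd z8 = z9) : z9 = X := by
  subst e0
  subst e1
  subst e2
  subst e3
  subst e4
  subst e5
  subst e6
  subst e7
  subst e8
  exact rot_28_8 X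

theorem coi_29_1 {X z1 z2 z3 z4 z5 : Q} (e0 : sm gg X = z1) (e1 : sm gf z1 = z2) (e2 : sm gg z2 = z3) (e3 : sm ga z3 = z4) (e4 : sm gf z4 = z5) : z5 = X := by
  subst e0
  subst e1
  subst e2
  subst e3
  subst e4
  exact rot_29_1 X

theorem coi_29_2 {X z1 z2 z3 z4 z5 : Q} (e0 : sm gf X = z1) (e1 : sm gg z1 = z2) (e2 : sm ga z2 = z3) (e3 : sm gf z3 = z4) (e4 : sm gg z4 = z5) : z5 = X := by
  subst e0
  subst e1
  subst e2
  subst e3
  subst e4
  exact rot_29_2 X

theorem coi_29_3 {X z1 z2 z3 z4 z5 : Q} (e0 : sm gg X = z1) (e1 : sm ga z1 = z2) (e2 : sm gf z2 = z3) (e3 : sm gg z3 = z4) (e4 : sm gf z4 = z5) : z5 = X := by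
  subst e0
  subst e1
  subst e2
  subst e3
  subst e4
  exact rot_29_3 X

theorem coi_29_4 {X z1 z2 z3 z4 z5 : Q} (e0 : sm ga X = z1) (e1 : sm gf z1 = z2) (e2 : sm gg z2 = z3) (e3 : sm gf z3 = z4) (e4 : sm gg z4 = z5) : z5 = X := by
  subst e0
  subst e1
  subst e2
  subst e3
  subst e4
  exact rot_29_4 X

theorem coi_30_0 {X z1 z2 z3 z4 z5 z6 z7 z8 z9 z10 z11 z12 z13 z14 z15 z16 z17 z18 z19 z20 : Q} (e0 : sm gf X = z1) (e1 : sm gc z1 = z2) (e2 : sm gb z2 = z3) (e3 : sm ga z3 = z4) (e4 : sm gf z4 = z5) (e5 : sm gc z5 = z6) (e6 : sm gb z6 = z7) (e7 : sm ga z7 = z8) (e8 : sm gf z8 = z9) (e9 : sm gc z9 = z10) (e10 : sm gb z10 = z11) (e11 : sm ga z11 = z12) (e12 : sm gf z12 = z13) (e13 : sm gc z13 = z14) (e14 : sm gb z14 = z15) (e15 : sm ga z15 = z16) (e16 : sm gf z16 = z17) (e17 : sm gc z17 = z18) (e18 : sm gb z18 = z19) (e19 : sm ga z19 = z20) : z20 = X := by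
  subst e0
  subst e1
  subst e2
  subst e3
  subst e4
  subst e5
  subst e6
  subst e7
  subst e8
  subst e9
  subst e10
  subst e11
  subst e12
  subst e13
  subst e14
  subst e15
  subst e16
  subst e17
  subst e18
  subst e19
  exact rot_30_0 X

theorem coi_30_5 {X z1 z2 z3 z4 z5 z6 z7 z8 z9 z10 z11 z12 z13 z14 z15 z16 z17 z18 z19 z20 : Q} (e0 : sm gc X = z1) (e1 : sm gb z1 = z2) (e2 : sm ga z2 = z3) (e3 : sm gf z3 = z4) (e4 : sm gc z4 = z5) (e5 : sm gb z5 = z6) (e6 : sm ga z6 = z7) (e7 : sm gf z7 = z8) (e8 : sm gc z8 = z9) (e9 : sm gb z9 = z10) (e10 : sm ga z10 = z11) (e11 : sm gf z11 = z12) (e12 : sm gc z12 = z13) (e13 : sm gb z13 = z14) (e14 : sm ga z14 = z15) (e15 : sm gf z15 = z16) (e16 : sm gc z16 = z17) (e17 : sm gb z17 = z18) (e18 : sm ga z18 = z19) (e19 : sm gf z19 = z20) : z20 = X := by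
  subst e0
  subst e1
  subst e2
  subst e3
  subst e4
  subst e5
  subst e6
  subst e7
  subst e8
  subst e9
  subst e10
  subst e11
  subst e12
  subst e13
  subst e14
  subst e15
  subst e16
  subst e17
  subst e18
  subst e19
  exact rot_30_5 X

theorem coi_30_6 {X z1 z2 z3 z4 z5 z6 z7 z8 z9 z10 z11 z12 z13 z14 z15 z16 z17 z18 z19 z20 : Q} (e0 : sm gb X = z1) (e1 : sm ga z1 = z2) (e2 : sm gf z2 = z3) (e3 : sm gc z3 = z4) (e4 : sm gb z4 = z5) (e5 : sm ga z5 = z6) (e6 : sm gf z6 = z7) (e7 : sm gc z7 = z8) (e8 : sm gb z8 = z9) (e9 : sm ga z9 = z10) (e10 : sm gf z10 = z11) (e11 : sm gc z11 = z12) (e12 : sm gb z12 = z13) (e13 : sm ga z13 = z14) (e14 : sm gf z14 = z15) (e15 : sm gc z15 = z16) (e16 : sm gb z16 = z17) (e17 : sm ga z17 = z18) (e18 : sm gf z18 = z19) (e19 : sm gc z19 = z20) : z20 = X := by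
  subst e0
  subst e1
  subst e2
  subst e3
  subst e4
  subst e5
  subst e6
  subst e7
  subst e8
  subst e9
  subst e10
  subst e11
  subst e12
  subst e13
  subst e14
  subst e15
  subst e16
  subst e17
  subst e18
  subst e19
  exact rot_30_6 X

theorem coi_30_7 {X z1 z2 z3 z4 z5 z6 z7 z8 z9 z10 z11 z12 z13 z14 z15 z16 z17 z18 z19 z20 : Q} (e0 : sm ga X = z1) (e1 : sm gf z1 = z2) (e2 : sm gc z2 = z3) (e3 : sm gb z3 = z4) (e4 : sm ga z4 = z5) (e5 : sm gf z5 = z6) (e6 : sm gc z6 = z7) (e7 : sm gb z7 = z8) (e8 : sm ga z8 = z9) (e9 : sm gf z9 = z10) (e10 : sm gc z10 = z11) (e11 : sm gb z11 = z12) (e12 : sm ga z12 = z13) (e13 : sm gf z13 = z14) (e14 : sm gc z14 = z15) (e15 : sm gb z15 = z16) (e16 : sm ga z16 = z17) (e17 : sm gf z17 = z18) (e18 : sm gc z18 = z19) (e19 : sm gb z19 = z20) : z20 = X := by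
  subst e0
  subst e1
  subst e2
  subst e3
  subst e4
  subst e5
  subst e6
  subst e7
  subst e8
  subst e9
  subst e10
  subst e11
  subst e12
  subst e13
  subst e14
  subst e15
  subst e16
  subst e17
  subst e18
  subst e19
  exact rot_30_7 X

theorem coi_30_11 {X z1 z2 z3 z4 z5 z6 z7 z8 z9 z10 z11 z12 z13 z14 z15 z16 z17 z18 z19 z20 : Q} (e0 : sm ga X = z1) (e1 : sm gf z1 = z2) (e2 : sm gc z2 = z3) (e3 : sm gb z3 = z4) (e4 : sm ga z4 = z5) (e5 : sm gf z5 = z6) (e6 : sm gc z6 = z7) (e7 : sm gb z7 = z8) (e8 : sm ga z8 = z9) (e9 : sm gf z9 = z10) (e10 : sm gc z10 = z11) (e11 : sm gb z11 = z12) (e12 : sm ga z12 = z13) (e13 : sm gf z13 = z14) (e14 : sm gc z14 = z15) (e15 : sm gb z15 = z16) (e16 : sm ga z16 = z17) (e17 : sm gf z17 = z18) (e18 : sm gc z18 = z19) (e19 : sm gb z19 = z20) : z20 = X := by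
  subst e0
  subst e1
  subst e2
  subst e3
  subst e4
  subst e5
  subst e6
  subst e7
  subst e8
  subst e9
  subst e10
  subst e11
  subst e12
  subst e13
  subst e14
  subst e15
  subst e16
  subst e17
  subst e18
  subst e19
  exact rot_30_11 X

theorem coi_30_12 {X z1 z2 z3 z4 z5 z6 z7 z8 z9 z10 z11 z12 z13 z14 z15 z16 z17 z18 z19 z20 : Q} (e0 : sm gf X = z1) (e1 : sm gc z1 = z2) (e2 : sm gb z2 = z3) (e3 : sm ga z3 = z4) (e4 : sm gf z4 = z5) (e5 : sm gc z5 = z6) (e6 : sm gb z6 = z7) (e7 : sm ga z7 = z8) (e8 : sm gf z8 = z9) (e9 : sm gc z9 = z10) (e10 : sm gb z10 = z11) (e11 : sm ga z11 = z12) (e12 : sm gf z12 = z13) (e13 : sm gc z13 = z14) (e14 : sm gb z14 = z15) (e15 : sm ga z15 = z16) (e16 : sm gf z16 = z17) (e17 : sm gc z17 = z18) (e18 : sm gb z18 = z19) (e19 : sm ga z19 = z20) : z20 = X := by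
  subst e0
  subst e1
  subst e2
  subst e3
  subst e4
  subst e5
  subst e6
  subst e7
  subst e8
  subst e9
  subst e10
  subst e11
  subst e12
  subst e13
  subst e14
  subst e15
  subst e16
  subst e17
  subst e18
  subst e19
  exact rot_30_12 X

theorem coi_30_17 {X z1 z2 z3 z4 z5 z6 z7 z8 z9 z10 z11 z12 z13 z14 z15 z16 z17 z18 z19 z20 : Q} (e0 : sm gc X = z1) (e1 : sm gb z1 = z2) (e2 : sm ga z2 = z3) (e3 : sm gf z3 = z4) (e4 : sm gc z4 = z5) (e5 : sm gb z5 = z6) (e6 : sm ga z6 = z7) (e7 : sm gf z7 = z8) (e8 : sm gc z8 = z9) (e9 : sm gb z9 = z10) (e10 : sm ga z10 = z11) (e11 : sm gf z11 = z12) (e12 : sm gc z12 = z13) (e13 : sm gb z13 = z14) (e14 : sm ga z14 = z15) (e15 : sm gf z15 = z16) (e16 : sm gc z16 = z17) (e17 : sm gb z17 = z18) (e18 : sm ga z18 = z19) (e19 : sm gf z19 = z20) : z20 = X := by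
  subst e0
  subst e1
  subst e2
  subst e3
  subst e4
  subst e5
  subst e6
  subst e7
  subst e8
  subst e9
  subst e10
  subst e11
  subst e12
  subst e13
  subst e14
  subst e15
  subst e16
  subst e17
  subst e18
  subst e19
  exact rot_30_17 X

theorem coi_30_18 {X z1 z2 z3 z4 z5 z6 z7 z8 z9 z10 z11 z12 z13 z14 z15 z16 z17 z18 z19 z20 : Q} (e0 : sm gb X = z1) (e1 : sm ga z1 = z2) (e2 : sm gf z2 = z3) (e3 : sm gc z3 = z4) (e4 : sm gb z4 = z5) (e5 : sm ga z5 = z6) (e6 : sm gf z6 = z7) (e7 : sm gc z7 = z8) (e8 : sm gb z8 = z9) (e9 : sm ga z9 = z10) (e10 : sm gf z10 = z11) (e11 : sm gc z11 = z12) (e12 : sm gb z12 = z13) (e13 : sm ga z13 = z14) (e14 : sm gf z14 = z15) (e15 : sm gc z15 = z16) (e16 : sm gb z16 = z17) (e17 : sm ga z17 = z18) (e18 : sm gf z18 = z19) (e19 : sm gc z19 = z20) : z20 = X := by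
  subst e0
  subst e1
  subst e2
  subst e3
  subst e4
  subst e5
  subst e6
  subst e7
  subst e8
  subst e9
  subst e10
  subst e11
  subst e12
  subst e13
  subst e14
  subst e15
  subst e16
  subst e17
  subst e18
  subst e19
  exact rot_30_18 X

theorem coi_31_3 {X z1 z2 z3 z4 z5 z6 z7 z8 z9 z10 z11 z12 z13 z14 z15 : Q} (e0 : sm gg X = z1) (e1 : sm gf z1 = z2) (e2 : sm gb z2 = z3) (e3 : sm gg z3 = z4) (e4 : sm gf z4 = z5) (e5 : sm gb z5 = z6) (e6 : sm gg z6 = z7) (e7 : sm gf z7 = z8) (e8 : sm gb z8 = z9) (e9 : sm gg z9 = z10) (e10 : sm gf z10 = z11) (e11 : sm gb z11 = z12) (e12 : sm gg z12 = z13) (e13 : sm gf z13 = z14) (e14 : sm gb z14 = z15) : z15 = X := by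
  subst e0
  subst e1
  subst e2
  subst e3
  subst e4
  subst e5
  subst e6
  subst e7
  subst e8
  subst e9
  subst e10
  subst e11
  subst e12
  subst e13
  subst e14
  exact rot_31_3 X

theorem coi_31_7 {X z1 z2 z3 z4 z5 z6 z7 z8 z9 z10 z11 z12 z13 z14 z15 : Q} (e0 : sm gf X = z1) (e1 : sm gb z1 = z2) (e2 : sm gg z2 = z3) (e3 : sm gf z3 = z4) (e4 : sm gb z4 = z5) (e5 : sm gg z5 = z6) (e6 : sm gf z6 = z7) (e7 : sm gb z7 = z8) (e8 : sm gg z8 = z9) (e9 : sm gf z9 = z10) (e10 : sm gb z10 = z11) (e11 : sm gg z11 = z12) (e12 : sm gf z12 = z13) (e13 : sm gb z13 = z14) (e14 : sm gg z14 = z15) : z15 = X := by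
  subst e0
  subst e1
  subst e2
  subst e3
  subst e4
  subst e5
  subst e6
  subst e7
  subst e8
  subst e9
  subst e10
  subst e11
  subst e12
  subst e13
  subst e14
  exact rot_31_7 X

theorem coi_31_8 {X z1 z2 z3 z4 z5 z6 z7 z8 z9 z10 z11 z12 z13 z14 z15 : Q} (e0 : sm gb X = z1) (e1 : sm gg z1 = z2) (e2 : sm gf z2 = z3) (e3 : sm gb z3 = z4) (e4 : sm gg z4 = z5) (e5 : sm gf z5 = z6) (e6 : sm gb z6 = z7) (e7 : sm gg z7 = z8) (e8 : sm gf z8 = z9) (e9 : sm gb z9 = z10) (e10 : sm gg z10 = z11) (e11 : sm gf z11 = z12) (e12 : sm gb z12 = z13) (e13 : sm gg z13 = z14) (e14 : sm gf z14 = z15) : z15 = X := by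
  subst e0
  subst e1
  subst e2
  subst e3
  subst e4
  subst e5
  subst e6
  subst e7
  subst e8
  subst e9
  subst e10
  subst e11
  subst e12
  subst e13
  subst e14
  exact rot_31_8 X

theorem coi_32_0 {X z1 z2 z3 z4 z5 z6 z7 z8 z9 z10 z11 z12 z13 z14 z15 z16 z17 z18 z19 z20 z21 z22 z23 z24 z25 z26 z27 z28 z29 z30 z31 z32 z33 z34 z35 z36 z37 z38 z39 z40 z41 z42 z43 z44 z45 z46 z47 z48 z49 z50 z51 z52 z53 z54 z55 z56 z57 z58 z59 z60 z61 z62 z63 z64 z65 z66 z67 z68 z69 z70 z71 z72 z73 z74 z75 z76 z77 z78 : Q} (e0 : sm ge X = z1) (e1 : sm gd z1 = z2) (e2 : sm gc z2 = z3) (e3 : sm gd z3 = z4) (e4 : sm gc z4 = z5) (e5 : sm gb z5 = z6) (e6 : sm gd z6 = z7) (e7 : sm gc z7 = z8) (e8 : sm gd z8 = z9) (e9 : sm gc z9 = z10) (e10 : sm gb z10 = z11) (e11 : sm gd z11 = z12) (e12 : sm gc z12 = z13) (e13 : sm gd z13 = z14) (e14 : sm gc z14 = z15) (e15 : sm gb z15 = z16) (e16 : sm gd z16 = z17) (e17 : sm gc z17 = z18) (e18 : sm gd z18 = z19) (e19 : sm gc z19 = z20) (e20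 : sm gb z20 = z21) (e21 : sm gd z21 = z22) (e22 : sm gc z22 = z23) (e23 : sm gd z23 = z24) (e24 : sm gc z24 = z25) (e25 : sm gb z25 = z26) (e26 : sm ge z26 = z27) (e27 : sm gd z27 = z28) (e28 : sm gc z28 = z29) (e29 : sm gd z29 = z30) (e30 : sm gc z30 = z31) (e31 : sm gb z31 = z32) (e32 : sm gd z32 = z33) (e33 : sm gc z33 = z34) (e34 : sm gd z34 = z35) (e35 : sm gc z35 = z36) (e36 : sm gb z36 = z37) (e37 : sm gd z37 = z38) (e38 : sm gc z38 = z39) (e39 : sm gd z39 = z40) (e40 : sm gc z40 = z41) (e41 : sm gb z41 = z42) (e42 : sm gd z42 = z43) (e43 : sm gc z43 = z44) (e44 : sm gd z44 = z45) (e45 : sm gc z45 = z46) (e46 : sm gb z46 = z47) (e47 : sm gd z47 = z48) (e48 : sm gc z48 = z49) (e49 : sm gd z49 = z50) (e50 : sm gc z50 = z51) (e51 : sm gb z51 = z52) (e52 : sm ge z52 = z53) (e53 : sm gd z53 = z54) (e54 : sm gc z54 = z55) (e55 : sm gd z55 = z56) (e56 : sm gc z56 = z57) (e57 : sm gb z57 = z58) (e58 : sm gd z58 = z59) (e59 : sm gc z59 = z60) (e60 : sm gd z60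 = z61) (e61 : sm gc z61 = z62) (e62 : sm gb z62 = z63) (e63 : sm gd z63 = z64) (e64 : sm gc z64 = z65) (e65 : sm gd z65 = z66) (e66 : sm gc z66 = z67) (e67 : sm gb z67 = z68) (e68 : sm gd z68 = z69) (e69 : sm gc z69 = z70) (e70 : sm gd z70 = z71) (e71 : sm gc z71 = z72) (e72 : sm gb z72 = z73) (e73 : sm gd z73 = z74) (e74 : sm gc z74 = z75) (e75 : sm gd z75 = z76) (e76 : sm gc z76 = z77) (e77 : sm gb z77 = z78) : z78 = X := by
  subst e0
  subst e1
  subst e2
  subst e3
  subst e4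
  subst e5
  subst e6
  subst e7
  subst e8
  subst e9
  subst e10
  subst e11
  subst e12
  subst e13
  subst e14
  subst e15
  subst e16
  subst e17
  subst e18
  subst e19
  subst e20
  subst e21
  subst e22
  subst e23
  subst e24
  subst e25
  subst e26
  subst e27
  subst e28
  subst e29
  subst e30
  subst e31
  subst e32
  subst e33
  subst e34
  subst e35
  subst e36
  subst e37
  subst e38
  subst e39
  subst e40
  subst e41
  subst e42
  subst e43
  subst e44
  subst e45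
  subst e46
  subst e47
  subst e48
  subst e49
  subst e50
  subst e51
  subst e52
  subst e53
  subst e54
  subst e55
  subst e56
  subst e57
  subst e58
  subst e59
  subst e60
  subst e61
  subst e62
  subst e63
  subst e64
  subst e65
  subst e66
  subst e67
  subst e68
  subst e69
  subst e70
  subst e71
  subst e72
  subst e73
  subst e74
  subst e75
  subst e76
  subst e77
  exact rot_32_0 X

theorem coi_32_20 {X z1 z2 z3 z4 z5 z6 z7 z8 z9 z10 z11 z12 z13 z14 z15 z16 z17 z18 z19 z20 z21 z22 z23 z24 z25 z26 z27 z28 z29 z30 z31 z32 z33 z34 z35 z36 z37 z38 z39 z40 z41 z42 z43 z44 z45 z46 z47 z48 z49 z50 z51 z52 z53 z54 z55 z56 z57 z58 z59 z60 z61 z62 z63 z64 z65 z66 z67 z68 z69 z70 z71 z72 z73 z74 z75 z76 z77 z78 : Q} (e0 : sm gb X = z1) (e1 : sm gd z1 = z2) (e2 : sm gc z2 = z3) (e3 : sm gd z3 = z4) (e4 : sm gc z4 = z5) (e5 : sm gb z5 = z6) (e6 : sm ge z6 = z7) (e7 : sm gd z7 = z8) (e8 : sm gc z8 = z9) (e9 : sm gd z9 = z10) (e10 : sm gc z10 = z11) (e11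 : sm gb z11 = z12) (e12 : sm gd z12 = z13) (e13 : sm gc z13 = z14) (e14 : sm gd z14 = z15) (e15 : sm gc z15 = z16) (e16 : sm gb z16 = z17) (e17 : sm gd z17 = z18) (e18 : sm gc z18 = z19) (e19 : sm gd z19 = z20) (e20 : sm gc z20 = z21) (e21 : sm gb z21 = z22) (e22 : sm gd z22 = z23) (e23 : sm gc z23 = z24) (e24 : sm gd z24 = z25) (e25 : sm gc z25 = z26) (e26 : sm gb z26 = z27) (e27 : sm gd z27 = z28) (e28 : sm gc z28 = z29) (e29 : sm gd z29 = z30) (e30 : sm gc z30 = z31) (e31 : sm gb z31 = z32) (e32 : sm ge z32 = z33) (e33 : sm gd z33 = z34) (e34 : sm gc z34 = z35) (e35 : sm gd z35 = z36) (e36 : sm gc z36 = z37) (e37 : sm gb z37 = z38) (e38 : sm gd z38 = z39) (e39 : sm gc z39 = z40) (e40 : sm gd z40 = z41) (e41 : sm gc z41 = z42) (e42 : sm gb z42 = z43) (e43 : sm gd z43 = z44) (e44 : sm gc z44 = z45) (e45 : sm gd z45 = z46) (e46 : sm gc z46 = z47) (e47 : sm gb z47 = z48) (e48 : sm gd z48 = z49) (e49 : sm gc z49 = z50) (e50 : sm gd z50 = z51) (e51 : sm gc z51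 = z52) (e52 : sm gb z52 = z53) (e53 : sm gd z53 = z54) (e54 : sm gc z54 = z55) (e55 : sm gd z55 = z56) (e56 : sm gc z56 = z57) (e57 : sm gb z57 = z58) (e58 : sm ge z58 = z59) (e59 : sm gd z59 = z60) (e60 : sm gc z60 = z61) (e61 : sm gd z61 = z62) (e62 : sm gc z62 = z63) (e63 : sm gb z63 = z64) (e64 : sm gd z64 = z65) (e65 : sm gc z65 = z66) (e66 : sm gd z66 = z67) (e67 : sm gc z67 = z68) (e68 : sm gb z68 = z69) (e69 : sm gd z69 = z70) (e70 : sm gc z70 = z71) (e71 : sm gd z71 = z72) (e72 : sm gc z72 = z73) (e73 : sm gb z73 = z74) (e74 : sm gd z74 = z75) (e75 : sm gc z75 = z76) (e76 : sm gd z76 = z77) (e77 : sm gc z77 = z78) : z78 = X := by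
  subst e0
  subst e1
  subst e2
  subst e3
  subst e4
  subst e5
  subst e6
  subst e7
  subst e8
  subst e9
  subst e10
  subst e11
  subst e12
  subst e13
  subst e14
  subst e15
  subst e16
  subst e17
  subst e18
  subst e19
  subst e20
  subst e21
  subst e22
  subst e23
  subst e24
  subst e25
  subst e26
  subst e27
  subst e28
  subst e29
  subst e30
  subst e31
  subst e32
  subst e33
  subst e34
  subst e35
  subst e36
  subst e37
  subst e38
  subst e39
  subst e40
  subst e41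
  subst e42
  subst e43
  subst e44
  subst e45
  subst e46
  subst e47
  subst e48
  subst e49
  subst e50
  subst e51
  subst e52
  subst e53
  subst e54
  subst e55
  subst e56
  subst e57
  subst e58
  subst e59
  subst e60
  subst e61
  subst e62
  subst e63
  subst e64
  subst e65
  subst e66
  subst e67
  subst e68
  subst e69
  subst e70
  subst e71
  subst e72
  subst e73
  subst e74
  subst e75
  subst e76
  subst e77
  exact rot_32_20 X

theorem coi_32_32 {X z1 z2 z3 z4 z5 z6 z7 z8 z9 z10 z11 z12 z13 z14 z15 z16 z17 z18 z19 z20 z21 z22 z23 z24 z25 z26 z27 z28 z29 z30 z31 z32 z33 z34 z35 z36 z37 z38 z39 z40 z41 z42 z43 z44 z45 z46 z47 z48 z49 z50 z51 z52 z53 z54 z55 z56 z57 z58 z59 z60 z61 z62 z63 z64 z65 z66 z67 z68 z69 z70 z71 z72 z73 z74 z75 z76 z77 z78 : Q} (e0 : sm gd X = z1) (e1 : sm gc z1 = z2) (e2 : sm gd z2 = z3) (e3 : sm gc z3 = z4) (e4 : sm gb z4 = z5) (e5 : sm gd z5 = z6) (e6 : sm gc z6 = z7) (e7 : sm gd z7 = z8) (e8 : sm gc z8 = z9)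 (e9 : sm gb z9 = z10) (e10 : sm gd z10 = z11) (e11 : sm gc z11 = z12) (e12 : sm gd z12 = z13) (e13 : sm gc z13 = z14) (e14 : sm gb z14 = z15) (e15 : sm gd z15 = z16) (e16 : sm gc z16 = z17) (e17 : sm gd z17 = z18) (e18 : sm gc z18 = z19) (e19 : sm gb z19 = z20) (e20 : sm ge z20 = z21) (e21 : sm gd z21 = z22) (e22 : sm gc z22 = z23) (e23 : sm gd z23 = z24) (e24 : sm gc z24 = z25) (e25 : sm gb z25 = z26) (e26 : sm gd z26 = z27) (e27 : sm gc z27 = z28) (e28 : sm gd z28 = z29) (e29 : sm gc z29 = z30) (e30 : sm gb z30 = z31) (e31 : sm gd z31 = z32) (e32 : sm gc z32 = z33) (e33 : sm gd z33 = z34) (e34 : sm gc z34 = z35) (e35 : sm gb z35 = z36) (e36 : sm gd z36 = z37) (e37 : sm gc z37 = z38) (e38 : sm gd z38 = z39) (e39 : sm gc z39 = z40) (e40 : sm gb z40 = z41) (e41 : sm gd z41 = z42) (e42 : sm gc z42 = z43) (e43 : sm gd z43 = z44) (e44 : sm gc z44 = z45) (e45 : sm gb z45 = z46) (e46 : sm ge z46 = z47) (e47 : sm gd z47 = z48) (e48 : sm gc z48 = z49) (e49 : sm gd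 z49 = z50) (e50 : sm gc z50 = z51) (e51 : sm gb z51 = z52) (e52 : sm gd z52 = z53) (e53 : sm gc z53 = z54) (e54 : sm gd z54 = z55) (e55 : sm gc z55 = z56) (e56 : sm gb z56 = z57) (e57 : sm gd z57 = z58) (e58 : sm gc z58 = z59) (e59 : sm gd z59 = z60) (e60 : sm gc z60 = z61) (e61 : sm gb z61 = z62) (e62 : sm gd z62 = z63) (e63 : sm gc z63 = z64) (e64 : sm gd z64 = z65) (e65 : sm gc z65 = z66) (e66 : sm gb z66 = z67) (e67 : sm gd z67 = z68) (e68 : sm gc z68 = z69) (e69 : sm gd z69 = z70) (e70 : sm gc z70 = z71) (e71 : sm gb z71 = z72) (e72 : sm ge z72 = z73) (e73 : sm gd z73 = z74) (e74 : sm gc z74 = z75) (e75 : sm gd z75 = z76) (e76 : sm gc z76 = z77) (e77 : sm gb z77 = z78) : z78 = X := by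
  subst e0
  subst e1
  subst e2
  subst e3
  subst e4
  subst e5
  subst e6
  subst e7
  subst e8
  subst e9
  subst e10
  subst e11
  subst e12
  subst e13
  subst e14
  subst e15
  subst e16
  subst e17
  subst e18
  subst e19
  subst e20
  subst e21
  subst e22
  subst e23
  subst e24
  subst e25
  subst e26
  subst e27
  subst e28
  subst e29
  subst e30
  subst e31
  subst e32
  subst e33
  subst e34
  subst e35
  subst e36
  subst e37
  subst e38
  subst e39
  subst e40
  subst e41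
  subst e42
  subst e43
  subst e44
  subst e45
  subst e46
  subst e47
  subst e48
  subst e49
  subst e50
  subst e51
  subst e52
  subst e53
  subst e54
  subst e55
  subst e56
  subst e57
  subst e58
  subst e59
  subst e60
  subst e61
  subst e62
  subst e63
  subst e64
  subst e65
  subst e66
  subst e67
  subst e68
  subst e69
  subst e70
  subst e71
  subst e72
  subst e73
  subst e74
  subst e75
  subst e76
  subst e77
  exact rot_32_32 X

theorem coi_32_38 {X z1 z2 z3 z4 z5 z6 z7 z8 z9 z10 z11 z12 z13 z14 z15 z16 z17 z18 z19 z20 z21 z22 z23 z24 z25 z26 z27 z28 z29 z30 z31 z32 z33 z34 z35 z36 z37 z38 z39 z40 z41 z42 z43 z44 z45 z46 z47 z48 z49 z50 z51 z52 z53 z54 z55 z56 z57 z58 z59 z60 z61 z62 z63 z64 z65 z66 z67 z68 z69 z70 z71 z72 z73 z74 z75 z76 z77 z78 : Q} (e0 : sm gc X = z1) (e1 : sm gd z1 = z2) (e2 : sm gc z2 = z3) (e3 : sm gb z3 = z4) (e4 : sm gd z4 = z5) (e5 : sm gc z5 = z6) (e6 : sm gd z6 = z7) (e7 : sm gc z7 = z8) (e8 : sm gb z8 = z9)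 (e9 : sm gd z9 = z10) (e10 : sm gc z10 = z11) (e11 : sm gd z11 = z12) (e12 : sm gc z12 = z13) (e13 : sm gb z13 = z14) (e14 : sm ge z14 = z15) (e15 : sm gd z15 = z16) (e16 : sm gc z16 = z17) (e17 : sm gd z17 = z18) (e18 : sm gc z18 = z19) (e19 : sm gb z19 = z20) (e20 : sm gd z20 = z21) (e21 : sm gc z21 = z22) (e22 : sm gd z22 = z23) (e23 : sm gc z23 = z24) (e24 : sm gb z24 = z25) (e25 : sm gd z25 = z26) (e26 : sm gc z26 = z27) (e27 : sm gd z27 = z28) (e28 : sm gc z28 = z29) (e29 : sm gb z29 = z30) (e30 : sm gd z30 = z31) (e31 : sm gc z31 = z32) (e32 : sm gd z32 = z33) (e33 : sm gc z33 = z34) (e34 : sm gb z34 = z35) (e35 : sm gd z35 = z36) (e36 : sm gc z36 = z37) (e37 : sm gd z37 = z38) (e38 : sm gc z38 = z39) (e39 : sm gb z39 = z40) (e40 : sm ge z40 = z41) (e41 : sm gd z41 = z42) (e42 : sm gc z42 = z43) (e43 : sm gd z43 = z44) (e44 : sm gc z44 = z45) (e45 : sm gb z45 = z46) (e46 : sm gd z46 = z47) (e47 : sm gc z47 = z48) (e48 : sm gd z48 = z49) (e49 : sm gc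 z49 = z50) (e50 : sm gb z50 = z51) (e51 : sm gd z51 = z52) (e52 : sm gc z52 = z53) (e53 : sm gd z53 = z54) (e54 : sm gc z54 = z55) (e55 : sm gb z55 = z56) (e56 : sm gd z56 = z57) (e57 : sm gc z57 = z58) (e58 : sm gd z58 = z59) (e59 : sm gc z59 = z60) (e60 : sm gb z60 = z61) (e61 : sm gd z61 = z62) (e62 : sm gc z62 = z63) (e63 : sm gd z63 = z64) (e64 : sm gc z64 = z65) (e65 : sm gb z65 = z66) (e66 : sm ge z66 = z67) (e67 : sm gd z67 = z68) (e68 : sm gc z68 = z69) (e69 : sm gd z69 = z70) (e70 : sm gc z70 = z71) (e71 : sm gb z71 = z72) (e72 : sm gd z72 = z73) (e73 : sm gc z73 = z74) (e74 : sm gd z74 = z75) (e75 : sm gc z75 = z76) (e76 : sm gb z76 = z77) (e77 : sm gd z77 = z78) : z78 = X := by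
  subst e0
  subst e1
  subst e2
  subst e3
  subst e4
  subst e5
  subst e6
  subst e7
  subst e8
  subst e9
  subst e10
  subst e11
  subst e12
  subst e13
  subst e14
  subst e15
  subst e16
  subst e17
  subst e18
  subst e19
  subst e20
  subst e21
  subst e22
  subst e23
  subst e24
  subst e25
  subst e26
  subst e27
  subst e28
  subst e29
  subst e30
  subst e31
  subst e32
  subst e33
  subst e34
  subst e35
  subst e36
  subst e37
  subst e38
  subst e39
  subst e40
  subst e41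
  subst e42
  subst e43
  subst e44
  subst e45
  subst e46
  subst e47
  subst e48
  subst e49
  subst e50
  subst e51
  subst e52
  subst e53
  subst e54
  subst e55
  subst e56
  subst e57
  subst e58
  subst e59
  subst e60
  subst e61
  subst e62
  subst e63
  subst e64
  subst e65
  subst e66
  subst e67
  subst e68
  subst e69
  subst e70
  subst e71
  subst e72
  subst e73
  subst e74
  subst e75
  subst e76
  subst e77
  exact rot_32_38 X

theorem coi_32_39 {X z1 z2 z3 z4 z5 z6 z7 z8 z9 z10 z11 z12 z13 z14 z15 z16 z17 z18 z19 z20 z21 z22 z23 z24 z25 z26 z27 z28 z29 z30 z31 z32 z33 z34 z35 z36 z37 z38 z39 z40 z41 z42 z43 z44 z45 z46 z47 z48 z49 z50 z51 z52 z53 z54 z55 z56 z57 z58 z59 z60 z61 z62 z63 z64 z65 z66 z67 z68 z69 z70 z71 z72 z73 z74 z75 z76 z77 z78 : Q} (e0 : sm gd X = z1) (e1 : sm gc z1 = z2) (e2 : sm gb z2 = z3) (e3 : sm gd z3 = z4) (e4 : sm gc z4 = z5) (e5 : sm gd z5 = z6) (e6 : sm gc z6 = z7) (e7 : sm gb z7 = z8) (e8 : sm gd z8 = z9)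 (e9 : sm gc z9 = z10) (e10 : sm gd z10 = z11) (e11 : sm gc z11 = z12) (e12 : sm gb z12 = z13) (e13 : sm ge z13 = z14) (e14 : sm gd z14 = z15) (e15 : sm gc z15 = z16) (e16 : sm gd z16 = z17) (e17 : sm gc z17 = z18) (e18 : sm gb z18 = z19) (e19 : sm gd z19 = z20) (e20 : sm gc z20 = z21) (e21 : sm gd z21 = z22) (e22 : sm gc z22 = z23) (e23 : sm gb z23 = z24) (e24 : sm gd z24 = z25) (e25 : sm gc z25 = z26) (e26 : sm gd z26 = z27) (e27 : sm gc z27 = z28) (e28 : sm gb z28 = z29) (e29 : sm gd z29 = z30) (e30 : sm gc z30 = z31) (e31 : sm gd z31 = z32) (e32 : sm gc z32 = z33) (e33 : sm gb z33 = z34) (e34 : sm gd z34 = z35) (e35 : sm gc z35 = z36) (e36 : sm gd z36 = z37) (e37 : sm gc z37 = z38) (e38 : sm gb z38 = z39) (e39 : sm ge z39 = z40) (e40 : sm gd z40 = z41) (e41 : sm gc z41 = z42) (e42 : sm gd z42 = z43) (e43 : sm gc z43 = z44) (e44 : sm gb z44 = z45) (e45 : sm gd z45 = z46) (e46 : sm gc z46 = z47) (e47 : sm gd z47 = z48) (e48 : sm gc z48 = z49) (e49 : sm gb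 z49 = z50) (e50 : sm gd z50 = z51) (e51 : sm gc z51 = z52) (e52 : sm gd z52 = z53) (e53 : sm gc z53 = z54) (e54 : sm gb z54 = z55) (e55 : sm gd z55 = z56) (e56 : sm gc z56 = z57) (e57 : sm gd z57 = z58) (e58 : sm gc z58 = z59) (e59 : sm gb z59 = z60) (e60 : sm gd z60 = z61) (e61 : sm gc z61 = z62) (e62 : sm gd z62 = z63) (e63 : sm gc z63 = z64) (e64 : sm gb z64 = z65) (e65 : sm ge z65 = z66) (e66 : sm gd z66 = z67) (e67 : sm gc z67 = z68) (e68 : sm gd z68 = z69) (e69 : sm gc z69 = z70) (e70 : sm gb z70 = z71) (e71 : sm gd z71 = z72) (e72 : sm gc z72 = z73) (e73 : sm gd z73 = z74) (e74 : sm gc z74 = z75) (e75 : sm gb z75 = z76) (e76 : sm gd z76 = z77) (e77 : sm gc z77 = z78) : z78 = X := by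
  subst e0
  subst e1
  subst e2
  subst e3
  subst e4
  subst e5
  subst e6
  subst e7
  subst e8
  subst e9
  subst e10
  subst e11
  subst e12
  subst e13
  subst e14
  subst e15
  subst e16
  subst e17
  subst e18
  subst e19
  subst e20
  subst e21
  subst e22
  subst e23
  subst e24
  subst e25
  subst e26
  subst e27
  subst e28
  subst e29
  subst e30
  subst e31
  subst e32
  subst e33
  subst e34
  subst e35
  subst e36
  subst e37
  subst e38
  subst e39
  subst e40
  subst e41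
  subst e42
  subst e43
  subst e44
  subst e45
  subst e46
  subst e47
  subst e48
  subst e49
  subst e50
  subst e51
  subst e52
  subst e53
  subst e54
  subst e55
  subst e56
  subst e57
  subst e58
  subst e59
  subst e60
  subst e61
  subst e62
  subst e63
  subst e64
  subst e65
  subst e66
  subst e67
  subst e68
  subst e69
  subst e70
  subst e71
  subst e72
  subst e73
  subst e74
  subst e75
  subst e76
  subst e77
  exact rot_32_39 X

theorem coi_32_45 {X z1 z2 z3 z4 z5 z6 z7 z8 z9 z10 z11 z12 z13 z14 z15 z16 z17 z18 z19 z20 z21 z22 z23 z24 z25 z26 z27 z28 z29 z30 z31 z32 z33 z34 z35 z36 z37 z38 z39 z40 z41 z42 z43 z44 z45 z46 z47 z48 z49 z50 z51 z52 z53 z54 z55 z56 z57 z58 z59 z60 z61 z62 z63 z64 z65 z66 z67 z68 z69 z70 z71 z72 z73 z74 z75 z76 z77 z78 : Q} (e0 : sm gc X = z1) (e1 : sm gb z1 = z2) (e2 : sm gd z2 = z3) (e3 : sm gc z3 = z4) (e4 : sm gd z4 = z5) (e5 : sm gc z5 = z6) (e6 : sm gb z6 = z7) (e7 : sm ge z7 = z8) (e8 : sm gd z8 = z9)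 (e9 : sm gc z9 = z10) (e10 : sm gd z10 = z11) (e11 : sm gc z11 = z12) (e12 : sm gb z12 = z13) (e13 : sm gd z13 = z14) (e14 : sm gc z14 = z15) (e15 : sm gd z15 = z16) (e16 : sm gc z16 = z17) (e17 : sm gb z17 = z18) (e18 : sm gd z18 = z19) (e19 : sm gc z19 = z20) (e20 : sm gd z20 = z21) (e21 : sm gc z21 = z22) (e22 : sm gb z22 = z23) (e23 : sm gd z23 = z24) (e24 : sm gc z24 = z25) (e25 : sm gd z25 = z26) (e26 : sm gc z26 = z27) (e27 : sm gb z27 = z28) (e28 : sm gd z28 = z29) (e29 : sm gc z29 = z30) (e30 : sm gd z30 = z31) (e31 : sm gc z31 = z32) (e32 : sm gb z32 = z33) (e33 : sm ge z33 = z34) (e34 : sm gd z34 = z35) (e35 : sm gc z35 = z36) (e36 : sm gd z36 = z37) (e37 : sm gc z37 = z38) (e38 : sm gb z38 = z39) (e39 : sm gd z39 = z40) (e40 : sm gc z40 = z41) (e41 : sm gd z41 = z42) (e42 : sm gc z42 = z43) (e43 : sm gb z43 = z44) (e44 : sm gd z44 = z45) (e45 : sm gc z45 = z46) (e46 : sm gd z46 = z47) (e47 : sm gc z47 = z48) (e48 : sm gb z48 = z49) (e49 : sm gd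 z49 = z50) (e50 : sm gc z50 = z51) (e51 : sm gd z51 = z52) (e52 : sm gc z52 = z53) (e53 : sm gb z53 = z54) (e54 : sm gd z54 = z55) (e55 : sm gc z55 = z56) (e56 : sm gd z56 = z57) (e57 : sm gc z57 = z58) (e58 : sm gb z58 = z59) (e59 : sm ge z59 = z60) (e60 : sm gd z60 = z61) (e61 : sm gc z61 = z62) (e62 : sm gd z62 = z63) (e63 : sm gc z63 = z64) (e64 : sm gb z64 = z65) (e65 : sm gd z65 = z66) (e66 : sm gc z66 = z67) (e67 : sm gd z67 = z68) (e68 : sm gc z68 = z69) (e69 : sm gb z69 = z70) (e70 : sm gd z70 = z71) (e71 : sm gc z71 = z72) (e72 : sm gd z72 = z73) (e73 : sm gc z73 = z74) (e74 : sm gb z74 = z75) (e75 : sm gd z75 = z76) (e76 : sm gc z76 = z77) (e77 : sm gd z77 = z78) : z78 = X := by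
  subst e0
  subst e1
  subst e2
  subst e3
  subst e4
  subst e5
  subst e6
  subst e7
  subst e8
  subst e9
  subst e10
  subst e11
  subst e12
  subst e13
  subst e14
  subst e15
  subst e16
  subst e17
  subst e18
  subst e19
  subst e20
  subst e21
  subst e22
  subst e23
  subst e24
  subst e25
  subst e26
  subst e27
  subst e28
  subst e29
  subst e30
  subst e31
  subst e32
  subst e33
  subst e34
  subst e35
  subst e36
  subst e37
  subst e38
  subst e39
  subst e40
  subst e41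
  subst e42
  subst e43
  subst e44
  subst e45
  subst e46
  subst e47
  subst e48
  subst e49
  subst e50
  subst e51
  subst e52
  subst e53
  subst e54
  subst e55
  subst e56
  subst e57
  subst e58
  subst e59
  subst e60
  subst e61
  subst e62
  subst e63
  subst e64
  subst e65
  subst e66
  subst e67
  subst e68
  subst e69
  subst e70
  subst e71
  subst e72
  subst e73
  subst e74
  subst e75
  subst e76
  subst e77
  exact rot_32_45 X

theorem coi_32_48 {X z1 z2 z3 z4 z5 z6 z7 z8 z9 z10 z11 z12 z13 z14 z15 z16 z17 z18 z19 z20 z21 z22 z23 z24 z25 z26 z27 z28 z29 z30 z31 z32 z33 z34 z35 z36 z37 z38 z39 z40 z41 z42 z43 z44 z45 z46 z47 z48 z49 z50 z51 z52 z53 z54 z55 z56 z57 z58 z59 z60 z61 z62 z63 z64 z65 z66 z67 z68 z69 z70 z71 z72 z73 z74 z75 z76 z77 z78 : Q} (e0 : sm gc X = z1) (e1 : sm gd z1 = z2) (e2 : sm gc z2 = z3) (e3 : sm gb z3 = z4) (e4 : sm ge z4 = z5) (e5 : sm gd z5 = z6) (e6 : sm gc z6 = z7) (e7 : sm gd z7 = z8) (e8 : sm gc z8 = z9)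 (e9 : sm gb z9 = z10) (e10 : sm gd z10 = z11) (e11 : sm gc z11 = z12) (e12 : sm gd z12 = z13) (e13 : sm gc z13 = z14) (e14 : sm gb z14 = z15) (e15 : sm gd z15 = z16) (e16 : sm gc z16 = z17) (e17 : sm gd z17 = z18) (e18 : sm gc z18 = z19) (e19 : sm gb z19 = z20) (e20 : sm gd z20 = z21) (e21 : sm gc z21 = z22) (e22 : sm gd z22 = z23) (e23 : sm gc z23 = z24) (e24 : sm gb z24 = z25) (e25 : sm gd z25 = z26) (e26 : sm gc z26 = z27) (e27 : sm gd z27 = z28) (e28 : sm gc z28 = z29) (e29 : sm gb z29 = z30) (e30 : sm ge z30 = z31) (e31 : sm gd z31 = z32) (e32 : sm gc z32 = z33) (e33 : sm gd z33 = z34) (e34 : sm gc z34 = z35) (e35 : sm gb z35 = z36) (e36 : sm gd z36 = z37) (e37 : sm gc z37 = z38) (e38 : sm gd z38 = z39) (e39 : sm gc z39 = z40) (e40 : sm gb z40 = z41) (e41 : sm gd z41 = z42) (e42 : sm gc z42 = z43) (e43 : sm gd z43 = z44) (e44 : sm gc z44 = z45) (e45 : sm gb z45 = z46) (e46 : sm gd z46 = z47) (e47 : sm gc z47 = z48) (e48 : sm gd z48 = z49) (e49 : sm gc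 z49 = z50) (e50 : sm gb z50 = z51) (e51 : sm gd z51 = z52) (e52 : sm gc z52 = z53) (e53 : sm gd z53 = z54) (e54 : sm gc z54 = z55) (e55 : sm gb z55 = z56) (e56 : sm ge z56 = z57) (e57 : sm gd z57 = z58) (e58 : sm gc z58 = z59) (e59 : sm gd z59 = z60) (e60 : sm gc z60 = z61) (e61 : sm gb z61 = z62) (e62 : sm gd z62 = z63) (e63 : sm gc z63 = z64) (e64 : sm gd z64 = z65) (e65 : sm gc z65 = z66) (e66 : sm gb z66 = z67) (e67 : sm gd z67 = z68) (e68 : sm gc z68 = z69) (e69 : sm gd z69 = z70) (e70 : sm gc z70 = z71) (e71 : sm gb z71 = z72) (e72 : sm gd z72 = z73) (e73 : sm gc z73 = z74) (e74 : sm gd z74 = z75) (e75 : sm gc z75 = z76) (e76 : sm gb z76 = z77) (e77 : sm gd z77 = z78) : z78 = X := by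
  subst e0
  subst e1
  subst e2
  subst e3
  subst e4
  subst e5
  subst e6
  subst e7
  subst e8
  subst e9
  subst e10
  subst e11
  subst e12
  subst e13
  subst e14
  subst e15
  subst e16
  subst e17
  subst e18
  subst e19
  subst e20
  subst e21
  subst e22
  subst e23
  subst e24
  subst e25
  subst e26
  subst e27
  subst e28
  subst e29
  subst e30
  subst e31
  subst e32
  subst e33
  subst e34
  subst e35
  subst e36
  subst e37
  subst e38
  subst e39
  subst e40
  subst e41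
  subst e42
  subst e43
  subst e44
  subst e45
  subst e46
  subst e47
  subst e48
  subst e49
  subst e50
  subst e51
  subst e52
  subst e53
  subst e54
  subst e55
  subst e56
  subst e57
  subst e58
  subst e59
  subst e60
  subst e61
  subst e62
  subst e63
  subst e64
  subst e65
  subst e66
  subst e67
  subst e68
  subst e69
  subst e70
  subst e71
  subst e72
  subst e73
  subst e74
  subst e75
  subst e76
  subst e77
  exact rot_32_48 X

theorem ded_7_0 {X z1 z2 z3 z4 z5 z6 z7 z8 z9 : Q} (e0 : sm ga X = z1) (e1 : sm gb z1 = z2) (e2 : sm ga z2 = z3) (e3 : sm gb z3 = z4) (e4 : sm ga z4 = z5) (e5 : sm gb z5 = z6) (e6 : sm ga z6 = z7) (e7 : sm gb z7 = z8) (e8 : sm ga z8 = z9) : sm gb z9 = X := by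
  subst e0
  subst e1
  subst e2
  subst e3
  subst e4
  subst e5
  subst e6
  subst e7
  subst e8
  exact rot_7_1 X

theorem ded_7_1 {X z1 z2 z3 z4 z5 z6 z7 z8 z9 : Q} (e0 : sm gb X = z1) (e1 : sm ga z1 = z2) (e2 : sm gb z2 = z3) (e3 : sm ga z3 = z4) (e4 : sm gb z4 = z5) (e5 : sm ga z5 = z6) (e6 : sm gb z6 = z7) (e7 : sm ga z7 = z8) (e8 : sm gb z8 = z9) : sm ga z9 = X := by
  subst e0
  subst e1
  subst e2
  subst e3
  subst e4
  subst e5
  subst e6
  subst e7
  subst e8
  exact rot_7_2 X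

theorem ded_7_2 {X z1 z2 z3 z4 z5 z6 z7 z8 z9 : Q} (e0 : sm ga X = z1) (e1 : sm gb z1 = z2) (e2 : sm ga z2 = z3) (e3 : sm gb z3 = z4) (e4 : sm ga z4 = z5) (e5 : sm gb z5 = z6) (e6 : sm ga z6 = z7) (e7 : sm gb z7 = z8) (e8 : sm ga z8 = z9) : sm gb z9 = X := by
  subst e0
  subst e1
  subst e2
  subst e3
  subst e4
  subst e5
  subst e6
  subst e7
  subst e8
  exact rot_7_3 X

theorem ded_7_3 {X z1 z2 z3 z4 z5 z6 z7 z8 z9 : Q} (e0 : sm gb X = z1) (e1 : sm ga z1 = z2) (e2 : sm gb z2 = z3) (e3 : sm ga z3 = z4) (e4 : sm gb z4 = z5) (e5 : sm ga z5 = z6) (e6 : sm gb z6 = z7) (e7 : sm ga z7 = z8) (e8 : sm gb z8 = z9) : sm ga z9 = X := by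
  subst e0
  subst e1
  subst e2
  subst e3
  subst e4
  subst e5
  subst e6
  subst e7
  subst e8
  exact rot_7_4 X

theorem ded_7_4 {X z1 z2 z3 z4 z5 z6 z7 z8 z9 : Q} (e0 : sm ga X = z1) (e1 : sm gb z1 = z2) (e2 : sm ga z2 = z3) (e3 : sm gb z3 = z4) (e4 : sm ga z4 = z5) (e5 : sm gb z5 = z6) (e6 : sm ga z6 = z7) (e7 : sm gb z7 = z8) (e8 : sm ga z8 = z9) : sm gb z9 = X := by
  subst e0
  subst e1
  subst e2
  subst e3
  subst e4
  subst e5
  subst e6
  subst e7
  subst e8
  exact rot_7_5 X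

theorem ded_7_5 {X z1 z2 z3 z4 z5 z6 z7 z8 z9 : Q} (e0 : sm gb X = z1) (e1 : sm ga z1 = z2) (e2 : sm gb z2 = z3) (e3 : sm ga z3 = z4) (e4 : sm gb z4 = z5) (e5 : sm ga z5 = z6) (e6 : sm gb z6 = z7) (e7 : sm ga z7 = z8) (e8 : sm gb z8 = z9) : sm ga z9 = X := by
  subst e0
  subst e1
  subst e2
  subst e3
  subst e4
  subst e5
  subst e6
  subst e7
  subst e8
  exact rot_7_6 X

theorem ded_7_6 {X z1 z2 z3 z4 z5 z6 z7 z8 z9 : Q} (e0 : sm ga X = z1) (e1 : sm gb z1 = z2) (e2 : sm ga z2 = z3) (e3 : sm gb z3 = z4) (e4 : sm ga z4 = z5) (e5 : sm gb z5 = z6) (e6 : sm ga z6 = z7) (e7 : sm gb z7 = z8) (e8 : sm ga z8 = z9) : sm gb z9 = X := by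
  subst e0
  subst e1
  subst e2
  subst e3
  subst e4
  subst e5
  subst e6
  subst e7
  subst e8
  exact rot_7_7 X

theorem ded_7_7 {X z1 z2 z3 z4 z5 z6 z7 z8 z9 : Q} (e0 : sm gb X = z1) (e1 : sm ga z1 = z2) (e2 : sm gb z2 = z3) (e3 : sm ga z3 = z4) (e4 : sm gb z4 = z5) (e5 : sm ga z5 = z6) (e6 : sm gb z6 = z7) (e7 : sm ga z7 = z8) (e8 : sm gb z8 = z9) : sm ga z9 = X := by
  subst e0
  subst e1
  subst e2
  subst e3
  subst e4
  subst e5
  subst e6
  subst e7
  subst e8
  exact rot_7_8 X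

theorem ded_7_8 {X z1 z2 z3 z4 z5 z6 z7 z8 z9 : Q} (e0 : sm ga X = z1) (e1 : sm gb z1 = z2) (e2 : sm ga z2 = z3) (e3 : sm gb z3 = z4) (e4 : sm ga z4 = z5) (e5 : sm gb z5 = z6) (e6 : sm ga z6 = z7) (e7 : sm gb z7 = z8) (e8 : sm ga z8 = z9) : sm gb z9 = X := by
  subst e0
  subst e1
  subst e2
  subst e3
  subst e4
  subst e5
  subst e6
  subst e7
  subst e8
  exact rot_7_9 X

theorem ded_7_9 {X z1 z2 z3 z4 z5 z6 z7 z8 z9 : Q} (e0 : sm gb X = z1) (e1 : sm ga z1 = z2) (e2 : sm gb z2 = z3) (e3 : sm ga z3 = z4) (e4 : sm gb z4 = z5) (e5 : sm ga z5 = z6) (e6 : sm gb z6 = z7) (e7 : sm ga z7 = z8) (e8 : sm gb z8 = z9) : sm ga z9 = X := by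
  subst e0
  subst e1
  subst e2
  subst e3
  subst e4
  subst e5
  subst e6
  subst e7
  subst e8
  exact rot_7_0 X

theorem ded_8_0 {X z1 z2 z3 : Q} (e0 : sm ga X = z1) (e1 : sm gc z1 = z2) (e2 : sm ga z2 = z3) : sm gc z3 = X := by
  subst e0
  subst e1
  subst e2
  exact rot_8_1 X

theorem ded_8_1 {X z1 z2 z3 : Q} (e0 : sm gc X = z1) (e1 : sm ga z1 = z2) (e2 : sm gc z2 = z3) : sm ga z3 = X := by
  subst e0
  subst e1
  subst e2
  exact rot_8_2 X

theorem ded_8_2 {X z1 z2 z3 : Q} (e0 : sm ga X = z1) (e1 : sm gc z1 = z2) (e2 : sm ga z2 = z3) : sm gc z3 = X := by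
  subst e0
  subst e1
  subst e2
  exact rot_8_3 X

theorem ded_8_3 {X z1 z2 z3 : Q} (e0 : sm gc X = z1) (e1 : sm ga z1 = z2) (e2 : sm gc z2 = z3) : sm ga z3 = X := by
  subst e0
  subst e1
  subst e2
  exact rot_8_0 X

theorem ded_9_0 {X z1 z2 z3 : Q} (e0 : sm ga X = z1) (e1 : sm gd z1 = z2) (e2 : sm ga z2 = z3) : sm gd z3 = X := by
  subst e0
  subst e1
  subst e2
  exact rot_9_1 X

theorem ded_9_1 {X z1 z2 z3 : Q} (e0 : sm gd X = z1) (e1 : sm ga z1 = z2) (e2 : sm gd z2 = z3) : sm ga z3 = X := by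
  subst e0
  subst e1
  subst e2
  exact rot_9_2 X

theorem ded_9_2 {X z1 z2 z3 : Q} (e0 : sm ga X = z1) (e1 : sm gd z1 = z2) (e2 : sm ga z2 = z3) : sm gd z3 = X := by
  subst e0
  subst e1
  subst e2
  exact rot_9_3 X

theorem ded_9_3 {X z1 z2 z3 : Q} (e0 : sm gd X = z1) (e1 : sm ga z1 = z2) (e2 : sm gd z2 = z3) : sm ga z3 = X := by
  subst e0
  subst e1
  subst e2
  exact rot_9_0 X

theorem ded_10_0 {X z1 z2 z3 : Q} (e0 : sm ga X = z1) (e1 : sm ge z1 = z2) (e2 : sm ga z2 = z3) : sm ge z3 = X := by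
  subst e0
  subst e1
  subst e2
  exact rot_10_1 X

theorem ded_10_1 {X z1 z2 z3 : Q} (e0 : sm ge X = z1) (e1 : sm ga z1 = z2) (e2 : sm ge z2 = z3) : sm ga z3 = X := by
  subst e0
  subst e1
  subst e2
  exact rot_10_2 X

theorem ded_10_2 {X z1 z2 z3 : Q} (e0 : sm ga X = z1) (e1 : sm ge z1 = z2) (e2 : sm ga z2 = z3) : sm ge z3 = X := by
  subst e0
  subst e1
  subst e2
  exact rot_10_3 X

theorem ded_10_3 {X z1 z2 z3 : Q} (e0 : sm ge X = z1) (e1 : sm ga z1 = z2) (e2 : sm ge z2 = z3) : sm ga z3 = X := by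
  subst e0
  subst e1
  subst e2
  exact rot_10_0 X

theorem ded_11_0 {X z1 z2 z3 : Q} (e0 : sm ga X = z1) (e1 : sm gf z1 = z2) (e2 : sm ga z2 = z3) : sm gf z3 = X := by
  subst e0
  subst e1
  subst e2
  exact rot_11_1 X

theorem ded_11_1 {X z1 z2 z3 : Q} (e0 : sm gf X = z1) (e1 : sm ga z1 = z2) (e2 : sm gf z2 = z3) : sm ga z3 = X := by
  subst e0
  subst e1
  subst e2
  exact rot_11_2 X

theorem ded_11_2 {X z1 z2 z3 : Q} (e0 : sm ga X = z1) (e1 : sm gf z1 = z2) (e2 : sm ga z2 = z3) : sm gf z3 = X := by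
  subst e0
  subst e1
  subst e2
  exact rot_11_3 X

theorem ded_11_3 {X z1 z2 z3 : Q} (e0 : sm gf X = z1) (e1 : sm ga z1 = z2) (e2 : sm gf z2 = z3) : sm ga z3 = X := by
  subst e0
  subst e1
  subst e2
  exact rot_11_0 X

theorem ded_12_0 {X z1 z2 z3 : Q} (e0 : sm ga X = z1) (e1 : sm gg z1 = z2) (e2 : sm ga z2 = z3) : sm gg z3 = X := by
  subst e0
  subst e1
  subst e2
  exact rot_12_1 X

theorem ded_12_1 {X z1 z2 z3 : Q} (e0 : sm gg X = z1) (e1 : sm ga z1 = z2) (e2 : sm gg z2 = z3) : sm ga z3 = X := by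
  subst e0
  subst e1
  subst e2
  exact rot_12_2 X

theorem ded_12_2 {X z1 z2 z3 : Q} (e0 : sm ga X = z1) (e1 : sm gg z1 = z2) (e2 : sm ga z2 = z3) : sm gg z3 = X := by
  subst e0
  subst e1
  subst e2
  exact rot_12_3 X

theorem ded_12_3 {X z1 z2 z3 : Q} (e0 : sm gg X = z1) (e1 : sm ga z1 = z2) (e2 : sm gg z2 = z3) : sm ga z3 = X := by
  subst e0
  subst e1
  subst e2
  exact rot_12_0 X

theorem ded_13_0 {X z1 z2 z3 z4 z5 : Q} (e0 : sm gb X = z1) (e1 : sm gc z1 = z2) (e2 : sm gb z2 = z3) (e3 : sm gc z3 = z4) (e4 : sm gb z4 = z5) : sm gc z5 = X := by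
  subst e0
  subst e1
  subst e2
  subst e3
  subst e4
  exact rot_13_1 X

theorem ded_13_1 {X z1 z2 z3 z4 z5 : Q} (e0 : sm gc X = z1) (e1 : sm gb z1 = z2) (e2 : sm gc z2 = z3) (e3 : sm gb z3 = z4) (e4 : sm gc z4 = z5) : sm gb z5 = X := by
  subst e0
  subst e1
  subst e2
  subst e3
  subst e4
  exact rot_13_2 X

theorem ded_13_2 {X z1 z2 z3 z4 z5 : Q} (e0 : sm gb X = z1) (e1 : sm gc z1 = z2) (e2 : sm gb z2 = z3) (e3 : sm gc z3 = z4) (e4 : sm gb z4 = z5) : sm gc z5 = X := by
  subst e0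
  subst e1
  subst e2
  subst e3
  subst e4
  exact rot_13_3 X

theorem ded_13_3 {X z1 z2 z3 z4 z5 : Q} (e0 : sm gc X = z1) (e1 : sm gb z1 = z2) (e2 : sm gc z2 = z3) (e3 : sm gb z3 = z4) (e4 : sm gc z4 = z5) : sm gb z5 = X := by
  subst e0
  subst e1
  subst e2
  subst e3
  subst e4
  exact rot_13_4 X

theorem ded_13_4 {X z1 z2 z3 z4 z5 : Q} (e0 : sm gb X = z1) (e1 : sm gc z1 = z2) (e2 : sm gb z2 = z3) (e3 : sm gc z3 = z4) (e4 : sm gb z4 = z5) : sm gc z5 = X := by
  subst e0
  subst e1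
  subst e2
  subst e3
  subst e4
  exact rot_13_5 X

theorem ded_13_5 {X z1 z2 z3 z4 z5 : Q} (e0 : sm gc X = z1) (e1 : sm gb z1 = z2) (e2 : sm gc z2 = z3) (e3 : sm gb z3 = z4) (e4 : sm gc z4 = z5) : sm gb z5 = X := by
  subst e0
  subst e1
  subst e2
  subst e3
  subst e4
  exact rot_13_0 X

theorem ded_14_0 {X z1 z2 z3 : Q} (e0 : sm gb X = z1) (e1 : sm gd z1 = z2) (e2 : sm gb z2 = z3) : sm gd z3 = X := by
  subst e0
  subst e1
  subst e2
  exact rot_14_1 X

theorem ded_14_1 {X z1 z2 z3 : Q} (e0 : sm gd X = z1) (e1 : sm gb z1 = z2) (e2 : sm gd z2 = z3) : sm gb z3 = X := by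
  subst e0
  subst e1
  subst e2
  exact rot_14_2 X

theorem ded_14_2 {X z1 z2 z3 : Q} (e0 : sm gb X = z1) (e1 : sm gd z1 = z2) (e2 : sm gb z2 = z3) : sm gd z3 = X := by
  subst e0
  subst e1
  subst e2
  exact rot_14_3 X

theorem ded_14_3 {X z1 z2 z3 : Q} (e0 : sm gd X = z1) (e1 : sm gb z1 = z2) (e2 : sm gd z2 = z3) : sm gb z3 = X := by
  subst e0
  subst e1
  subst e2
  exact rot_14_0 X

theorem ded_15_0 {X z1 z2 z3 : Q} (e0 : sm gb X = z1) (e1 : sm ge z1 = z2) (e2 : sm gb z2 = z3) : sm ge z3 = X := by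
  subst e0
  subst e1
  subst e2
  exact rot_15_1 X

theorem ded_15_1 {X z1 z2 z3 : Q} (e0 : sm ge X = z1) (e1 : sm gb z1 = z2) (e2 : sm ge z2 = z3) : sm gb z3 = X := by
  subst e0
  subst e1
  subst e2
  exact rot_15_2 X

theorem ded_15_2 {X z1 z2 z3 : Q} (e0 : sm gb X = z1) (e1 : sm ge z1 = z2) (e2 : sm gb z2 = z3) : sm ge z3 = X := by
  subst e0
  subst e1
  subst e2
  exact rot_15_3 X

theorem ded_15_3 {X z1 z2 z3 : Q} (e0 : sm ge X = z1) (e1 : sm gb z1 = z2) (e2 : sm ge z2 = z3) : sm gb z3 = X := by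
  subst e0
  subst e1
  subst e2
  exact rot_15_0 X

theorem ded_16_0 {X z1 z2 z3 z4 z5 : Q} (e0 : sm gb X = z1) (e1 : sm gf z1 = z2) (e2 : sm gb z2 = z3) (e3 : sm gf z3 = z4) (e4 : sm gb z4 = z5) : sm gf z5 = X := by
  subst e0
  subst e1
  subst e2
  subst e3
  subst e4
  exact rot_16_1 X

theorem ded_16_1 {X z1 z2 z3 z4 z5 : Q} (e0 : sm gf X = z1) (e1 : sm gb z1 = z2) (e2 : sm gf z2 = z3) (e3 : sm gb z3 = z4) (e4 : sm gf z4 = z5) : sm gb z5 = X := by
  subst e0
  subst e1
  subst e2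
  subst e3
  subst e4
  exact rot_16_2 X

theorem ded_16_2 {X z1 z2 z3 z4 z5 : Q} (e0 : sm gb X = z1) (e1 : sm gf z1 = z2) (e2 : sm gb z2 = z3) (e3 : sm gf z3 = z4) (e4 : sm gb z4 = z5) : sm gf z5 = X := by
  subst e0
  subst e1
  subst e2
  subst e3
  subst e4
  exact rot_16_3 X

theorem ded_16_3 {X z1 z2 z3 z4 z5 : Q} (e0 : sm gf X = z1) (e1 : sm gb z1 = z2) (e2 : sm gf z2 = z3) (e3 : sm gb z3 = z4) (e4 : sm gf z4 = z5) : sm gb z5 = X := by
  subst e0
  subst e1
  subst e2
  subst e3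
  subst e4
  exact rot_16_4 X

theorem ded_16_4 {X z1 z2 z3 z4 z5 : Q} (e0 : sm gb X = z1) (e1 : sm gf z1 = z2) (e2 : sm gb z2 = z3) (e3 : sm gf z3 = z4) (e4 : sm gb z4 = z5) : sm gf z5 = X := by
  subst e0
  subst e1
  subst e2
  subst e3
  subst e4
  exact rot_16_5 X

theorem ded_16_5 {X z1 z2 z3 z4 z5 : Q} (e0 : sm gf X = z1) (e1 : sm gb z1 = z2) (e2 : sm gf z2 = z3) (e3 : sm gb z3 = z4) (e4 : sm gf z4 = z5) : sm gb z5 = X := by
  subst e0
  subst e1
  subst e2
  subst e3
  subst e4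
  exact rot_16_0 X

theorem ded_17_0 {X z1 z2 z3 z4 z5 : Q} (e0 : sm gb X = z1) (e1 : sm gg z1 = z2) (e2 : sm gb z2 = z3) (e3 : sm gg z3 = z4) (e4 : sm gb z4 = z5) : sm gg z5 = X := by
  subst e0
  subst e1
  subst e2
  subst e3
  subst e4
  exact rot_17_1 X

theorem ded_17_1 {X z1 z2 z3 z4 z5 : Q} (e0 : sm gg X = z1) (e1 : sm gb z1 = z2) (e2 : sm gg z2 = z3) (e3 : sm gb z3 = z4) (e4 : sm gg z4 = z5) : sm gb z5 = X := by
  subst e0
  subst e1
  subst e2
  subst e3
  subst e4
  exact rot_17_2 X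

theorem ded_17_2 {X z1 z2 z3 z4 z5 : Q} (e0 : sm gb X = z1) (e1 : sm gg z1 = z2) (e2 : sm gb z2 = z3) (e3 : sm gg z3 = z4) (e4 : sm gb z4 = z5) : sm gg z5 = X := by
  subst e0
  subst e1
  subst e2
  subst e3
  subst e4
  exact rot_17_3 X

theorem ded_17_3 {X z1 z2 z3 z4 z5 : Q} (e0 : sm gg X = z1) (e1 : sm gb z1 = z2) (e2 : sm gg z2 = z3) (e3 : sm gb z3 = z4) (e4 : sm gg z4 = z5) : sm gb z5 = X := by
  subst e0
  subst e1
  subst e2
  subst e3
  subst e4
  exact rot_17_4 X

theorem ded_17_4 {X z1 z2 z3 z4 z5 : Q} (e0 : sm gb X = z1) (e1 : sm gg z1 = z2) (e2 : sm gb z2 = z3) (e3 : sm gg z3 = z4) (e4 : sm gb z4 = z5) : sm gg z5 = X := by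
  subst e0
  subst e1
  subst e2
  subst e3
  subst e4
  exact rot_17_5 X

theorem ded_17_5 {X z1 z2 z3 z4 z5 : Q} (e0 : sm gg X = z1) (e1 : sm gb z1 = z2) (e2 : sm gg z2 = z3) (e3 : sm gb z3 = z4) (e4 : sm gg z4 = z5) : sm gb z5 = X := by
  subst e0
  subst e1
  subst e2
  subst e3
  subst e4
  exact rot_17_0 X

theorem ded_19_0 {X z1 z2 z3 : Q} (e0 : sm gc X = z1) (e1 : sm ge z1 = z2) (e2 : sm gc z2 = z3) : sm ge z3 = X := by
  subst e0
  subst e1
  subst e2
  exact rot_19_1 X

theorem ded_19_1 {X z1 z2 z3 : Q} (e0 : sm ge X = z1) (e1 : sm gc z1 = z2) (e2 : sm ge z2 = z3) : sm gc z3 = X := by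
  subst e0
  subst e1
  subst e2
  exact rot_19_2 X

theorem ded_19_2 {X z1 z2 z3 : Q} (e0 : sm gc X = z1) (e1 : sm ge z1 = z2) (e2 : sm gc z2 = z3) : sm ge z3 = X := by
  subst e0
  subst e1
  subst e2
  exact rot_19_3 X

theorem ded_19_3 {X z1 z2 z3 : Q} (e0 : sm ge X = z1) (e1 : sm gc z1 = z2) (e2 : sm ge z2 = z3) : sm gc z3 = X := by
  subst e0
  subst e1
  subst e2
  exact rot_19_0 X

theorem ded_20_0 {X z1 z2 z3 : Q} (e0 : sm gc X = z1) (e1 : sm gf z1 = z2) (e2 : sm gc z2 = z3) : sm gf z3 = X := by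
  subst e0
  subst e1
  subst e2
  exact rot_20_1 X

theorem ded_20_1 {X z1 z2 z3 : Q} (e0 : sm gf X = z1) (e1 : sm gc z1 = z2) (e2 : sm gf z2 = z3) : sm gc z3 = X := by
  subst e0
  subst e1
  subst e2
  exact rot_20_2 X

theorem ded_20_2 {X z1 z2 z3 : Q} (e0 : sm gc X = z1) (e1 : sm gf z1 = z2) (e2 : sm gc z2 = z3) : sm gf z3 = X := by
  subst e0
  subst e1
  subst e2
  exact rot_20_3 X

theorem ded_20_3 {X z1 z2 z3 : Q} (e0 : sm gf X = z1) (e1 : sm gc z1 = z2) (e2 : sm gf z2 = z3) : sm gc z3 = X := by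
  subst e0
  subst e1
  subst e2
  exact rot_20_0 X

theorem ded_21_0 {X z1 z2 z3 : Q} (e0 : sm gc X = z1) (e1 : sm gg z1 = z2) (e2 : sm gc z2 = z3) : sm gg z3 = X := by
  subst e0
  subst e1
  subst e2
  exact rot_21_1 X

theorem ded_21_1 {X z1 z2 z3 : Q} (e0 : sm gg X = z1) (e1 : sm gc z1 = z2) (e2 : sm gg z2 = z3) : sm gc z3 = X := by
  subst e0
  subst e1
  subst e2
  exact rot_21_2 X

theorem ded_21_2 {X z1 z2 z3 : Q} (e0 : sm gc X = z1) (e1 : sm gg z1 = z2) (e2 : sm gc z2 = z3) : sm gg z3 = X := by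
  subst e0
  subst e1
  subst e2
  exact rot_21_3 X

theorem ded_21_3 {X z1 z2 z3 : Q} (e0 : sm gg X = z1) (e1 : sm gc z1 = z2) (e2 : sm gg z2 = z3) : sm gc z3 = X := by
  subst e0
  subst e1
  subst e2
  exact rot_21_0 X

theorem ded_22_1 {X z1 z2 z3 z4 z5 : Q} (e0 : sm ge X = z1) (e1 : sm gd z1 = z2) (e2 : sm ge z2 = z3) (e3 : sm gd z3 = z4) (e4 : sm ge z4 = z5) : sm gd z5 = X := by
  subst e0
  subst e1
  subst e2
  subst e3
  subst e4
  exact rot_22_2 X

theorem ded_22_2 {X z1 z2 z3 z4 z5 : Q} (e0 : sm gd X = z1) (e1 : sm ge z1 = z2) (e2 : sm gd z2 = z3) (e3 : sm ge z3 = z4) (e4 : sm gd z4 = z5) : sm ge z5 = X := by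
  subst e0
  subst e1
  subst e2
  subst e3
  subst e4
  exact rot_22_3 X

theorem ded_22_4 {X z1 z2 z3 z4 z5 : Q} (e0 : sm gd X = z1) (e1 : sm ge z1 = z2) (e2 : sm gd z2 = z3) (e3 : sm ge z3 = z4) (e4 : sm gd z4 = z5) : sm ge z5 = X := by
  subst e0
  subst e1
  subst e2
  subst e3
  subst e4
  exact rot_22_5 X

theorem ded_22_5 {X z1 z2 z3 z4 z5 : Q} (e0 : sm ge X = z1) (e1 : sm gd z1 = z2) (e2 : sm ge z2 = z3) (e3 : sm gd z3 = z4) (e4 : sm ge z4 = z5) : sm gd z5 = X := by
  subst e0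
  subst e1
  subst e2
  subst e3
  subst e4
  exact rot_22_0 X

theorem ded_23_0 {X z1 z2 z3 : Q} (e0 : sm gd X = z1) (e1 : sm gf z1 = z2) (e2 : sm gd z2 = z3) : sm gf z3 = X := by
  subst e0
  subst e1
  subst e2
  exact rot_23_1 X

theorem ded_23_1 {X z1 z2 z3 : Q} (e0 : sm gf X = z1) (e1 : sm gd z1 = z2) (e2 : sm gf z2 = z3) : sm gd z3 = X := by
  subst e0
  subst e1
  subst e2
  exact rot_23_2 X

theorem ded_23_2 {X z1 z2 z3 : Q} (e0 : sm gd X = z1) (e1 : sm gf z1 = z2) (e2 : sm gd z2 = z3) : sm gf z3 = X := by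
  subst e0
  subst e1
  subst e2
  exact rot_23_3 X

theorem ded_23_3 {X z1 z2 z3 : Q} (e0 : sm gf X = z1) (e1 : sm gd z1 = z2) (e2 : sm gf z2 = z3) : sm gd z3 = X := by
  subst e0
  subst e1
  subst e2
  exact rot_23_0 X

theorem ded_24_0 {X z1 z2 z3 : Q} (e0 : sm gd X = z1) (e1 : sm gg z1 = z2) (e2 : sm gd z2 = z3) : sm gg z3 = X := by
  subst e0
  subst e1
  subst e2
  exact rot_24_1 X

theorem ded_24_1 {X z1 z2 z3 : Q} (e0 : sm gg X = z1) (e1 : sm gd z1 = z2) (e2 : sm gg z2 = z3) : sm gd z3 = X := by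
  subst e0
  subst e1
  subst e2
  exact rot_24_2 X

theorem ded_24_2 {X z1 z2 z3 : Q} (e0 : sm gd X = z1) (e1 : sm gg z1 = z2) (e2 : sm gd z2 = z3) : sm gg z3 = X := by
  subst e0
  subst e1
  subst e2
  exact rot_24_3 X

theorem ded_24_3 {X z1 z2 z3 : Q} (e0 : sm gg X = z1) (e1 : sm gd z1 = z2) (e2 : sm gg z2 = z3) : sm gd z3 = X := by
  subst e0
  subst e1
  subst e2
  exact rot_24_0 X

theorem ded_25_0 {X z1 z2 z3 : Q} (e0 : sm ge X = z1) (e1 : sm gf z1 = z2) (e2 : sm ge z2 = z3) : sm gf z3 = X := by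
  subst e0
  subst e1
  subst e2
  exact rot_25_1 X

theorem ded_25_1 {X z1 z2 z3 : Q} (e0 : sm gf X = z1) (e1 : sm ge z1 = z2) (e2 : sm gf z2 = z3) : sm ge z3 = X := by
  subst e0
  subst e1
  subst e2
  exact rot_25_2 X

theorem ded_25_2 {X z1 z2 z3 : Q} (e0 : sm ge X = z1) (e1 : sm gf z1 = z2) (e2 : sm ge z2 = z3) : sm gf z3 = X := by
  subst e0
  subst e1
  subst e2
  exact rot_25_3 X

theorem ded_25_3 {X z1 z2 z3 : Q} (e0 : sm gf X = z1) (e1 : sm ge z1 = z2) (e2 : sm gf z2 = z3) : sm ge z3 = X := by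
  subst e0
  subst e1
  subst e2
  exact rot_25_0 X

theorem ded_26_0 {X z1 z2 z3 : Q} (e0 : sm ge X = z1) (e1 : sm gg z1 = z2) (e2 : sm ge z2 = z3) : sm gg z3 = X := by
  subst e0
  subst e1
  subst e2
  exact rot_26_1 X

theorem ded_26_1 {X z1 z2 z3 : Q} (e0 : sm gg X = z1) (e1 : sm ge z1 = z2) (e2 : sm gg z2 = z3) : sm ge z3 = X := by
  subst e0
  subst e1
  subst e2
  exact rot_26_2 X

theorem ded_26_2 {X z1 z2 z3 : Q} (e0 : sm ge X = z1) (e1 : sm gg z1 = z2) (e2 : sm ge z2 = z3) : sm gg z3 = X := by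
  subst e0
  subst e1
  subst e2
  exact rot_26_3 X

theorem ded_26_3 {X z1 z2 z3 : Q} (e0 : sm gg X = z1) (e1 : sm ge z1 = z2) (e2 : sm gg z2 = z3) : sm ge z3 = X := by
  subst e0
  subst e1
  subst e2
  exact rot_26_0 X

theorem ded_27_5 {X z1 z2 z3 z4 z5 z6 z7 : Q} (e0 : sm gg X = z1) (e1 : sm gf z1 = z2) (e2 : sm gg z2 = z3) (e3 : sm gf z3 = z4) (e4 : sm gg z4 = z5) (e5 : sm gf z5 = z6) (e6 : sm gg z6 = z7) : sm gf z7 = X := by
  subst e0
  subst e1
  subst e2
  subst e3
  subst e4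
  subst e5
  subst e6
  exact rot_27_6 X

theorem ded_28_0 {X z1 z2 z3 z4 z5 z6 z7 z8 : Q} (e0 : sm gd X = z1) (e1 : sm gc z1 = z2) (e2 : sm gd z2 = z3) (e3 : sm gc z3 = z4) (e4 : sm gd z4 = z5) (e5 : sm gc z5 = z6) (e6 : sm gd z6 = z7) (e7 : sm ga z7 = z8) : sm gc z8 = X := by
  subst e0
  subst e1
  subst e2
  subst e3
  subst e4
  subst e5
  subst e6
  subst e7
  exact rot_28_1 X

theorem ded_28_1 {X z1 z2 z3 z4 z5 z6 z7 z8 : Q} (e0 : sm gc X = z1) (e1 : sm gd z1 = z2) (e2 : sm gc z2 = z3) (e3 : sm gd z3 = z4) (e4 : sm gc z4 = z5) (e5 : sm gd z5 = z6) (e6 : sm ga z6 = z7) (e7 : sm gc z7 = z8) : sm gd z8 = X := by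
  subst e0
  subst e1
  subst e2
  subst e3
  subst e4
  subst e5
  subst e6
  subst e7
  exact rot_28_2 X

theorem ded_28_3 {X z1 z2 z3 z4 z5 z6 z7 z8 : Q} (e0 : sm gc X = z1) (e1 : sm gd z1 = z2) (e2 : sm gc z2 = z3) (e3 : sm gd z3 = z4) (e4 : sm ga z4 = z5) (e5 : sm gc z5 = z6) (e6 : sm gd z6 = z7) (e7 : sm gc z7 = z8) : sm gd z8 = X := by
  subst e0
  subst e1
  subst e2
  subst e3
  subst e4
  subst e5
  subst e6
  subst e7
  exact rot_28_4 X

theorem ded_28_4 {X z1 z2 z3 z4 z5 z6 z7 z8 : Q} (e0 : sm gd X = z1) (e1 : sm gc z1 = z2) (e2 : sm gd z2 = z3) (e3 : sm ga z3 = z4) (e4 : sm gc z4 = z5) (e5 : sm gd z5 = z6) (e6 : sm gc z6 = z7) (e7 : sm gd z7 = z8) : sm gc z8 = X := by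
  subst e0
  subst e1
  subst e2
  subst e3
  subst e4
  subst e5
  subst e6
  subst e7
  exact rot_28_5 X

theorem ded_28_6 {X z1 z2 z3 z4 z5 z6 z7 z8 : Q} (e0 : sm gd X = z1) (e1 : sm ga z1 = z2) (e2 : sm gc z2 = z3) (e3 : sm gd z3 = z4) (e4 : sm gc z4 = z5) (e5 : sm gd z5 = z6) (e6 : sm gc z6 = z7) (e7 : sm gd z7 = z8) : sm gc z8 = X := by
  subst e0
  subst e1
  subst e2
  subst e3
  subst e4
  subst e5
  subst e6
  subst e7
  exact rot_28_7 X

theorem ded_28_7 {X z1 z2 z3 z4 z5 z6 z7 z8 : Q} (e0 : sm ga X = z1) (e1 : sm gc z1 = z2) (e2 : sm gd z2 = z3) (e3 : sm gc z3 = z4) (e4 : sm gd z4 = z5) (e5 : sm gc z5 = z6) (e6 : sm gd z6 = z7) (e7 : sm gc z7 = z8) : sm gd z8 = X := by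
  subst e0
  subst e1
  subst e2
  subst e3
  subst e4
  subst e5
  subst e6
  subst e7
  exact rot_28_8 X

theorem ded_28_8 {X z1 z2 z3 z4 z5 z6 z7 z8 : Q} (e0 : sm gc X = z1) (e1 : sm gd z1 = z2) (e2 : sm gc z2 = z3) (e3 : sm gd z3 = z4) (e4 : sm gc z4 = z5) (e5 : sm gd z5 = z6) (e6 : sm gc z6 = z7) (e7 : sm gd z7 = z8) : sm ga z8 = X := by
  subst e0
  subst e1
  subst e2
  subst e3
  subst e4
  subst e5
  subst e6
  subst e7
  exact rot_28_0 X

theorem ded_29_0 {X z1 z2 z3 z4 : Q} (e0 : sm gg X = z1) (e1 : sm gf z1 = z2) (e2 : sm gg z2 = z3) (e3 : sm ga z3 = z4) : sm gf z4 = X := by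
  subst e0
  subst e1
  subst e2
  subst e3
  exact rot_29_1 X

theorem ded_29_1 {X z1 z2 z3 z4 : Q} (e0 : sm gf X = z1) (e1 : sm gg z1 = z2) (e2 : sm ga z2 = z3) (e3 : sm gf z3 = z4) : sm gg z4 = X := by
  subst e0
  subst e1
  subst e2
  subst e3
  exact rot_29_2 X

theorem ded_29_2 {X z1 z2 z3 z4 : Q} (e0 : sm gg X = z1) (e1 : sm ga z1 = z2) (e2 : sm gf z2 = z3) (e3 : sm gg z3 = z4) : sm gf z4 = X := by
  subst e0
  subst e1
  subst e2
  subst e3
  exact rot_29_3 X

theorem ded_29_3 {X z1 z2 z3 z4 : Q} (e0 : sm ga X = z1) (e1 : sm gf z1 = z2) (e2 : sm gg z2 = z3) (e3 : sm gf z3 = z4) : sm gg z4 = X := by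
  subst e0
  subst e1
  subst e2
  subst e3
  exact rot_29_4 X

theorem ded_29_4 {X z1 z2 z3 z4 : Q} (e0 : sm gf X = z1) (e1 : sm gg z1 = z2) (e2 : sm gf z2 = z3) (e3 : sm gg z3 = z4) : sm ga z4 = X := by
  subst e0
  subst e1
  subst e2
  subst e3
  exact rot_29_0 X

theorem ded_30_0 {X z1 z2 z3 z4 z5 z6 z7 z8 z9 z10 z11 z12 z13 z14 z15 z16 z17 z18 z19 : Q} (e0 : sm gc X = z1) (e1 : sm gb z1 = z2) (e2 : sm ga z2 = z3) (e3 : sm gf z3 = z4) (e4 : sm gc z4 = z5) (e5 : sm gb z5 = z6) (e6 : sm ga z6 = z7) (e7 : sm gf z7 = z8) (e8 : sm gc z8 = z9) (e9 : sm gb z9 = z10) (e10 : sm ga z10 = z11) (e11 : sm gf z11 = z12) (e12 : sm gc z12 = z13) (e13 : sm gb z13 = z14) (e14 : sm ga z14 = z15) (e15 : sm gf z15 = z16) (e16 : sm gc z16 = z17) (e17 : sm gb z17 = z18) (e18 : sm ga z18 = z19) : sm gf z19 = X := by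
  subst e0
  subst e1
  subst e2
  subst e3
  subst e4
  subst e5
  subst e6
  subst e7
  subst e8
  subst e9
  subst e10
  subst e11
  subst e12
  subst e13
  subst e14
  subst e15
  subst e16
  subst e17
  subst e18
  exact rot_30_1 X

theorem ded_30_1 {X z1 z2 z3 z4 z5 z6 z7 z8 z9 z10 z11 z12 z13 z14 z15 z16 z17 z18 z19 : Q} (e0 : sm gb X = z1) (e1 : sm ga z1 = z2) (e2 : sm gf z2 = z3) (e3 : sm gc z3 = z4) (e4 : sm gb z4 = z5) (e5 : sm ga z5 = z6) (e6 : sm gf z6 = z7) (e7 : sm gc z7 = z8) (e8 : sm gb z8 = z9) (e9 : sm ga z9 = z10) (e10 : sm gf z10 = z11) (e11 : sm gc z11 = z12) (e12 : sm gb z12 = z13) (e13 : sm ga z13 = z14) (e14 : sm gf z14 = z15) (e15 : sm gc z15 = z16) (e16 : sm gb z16 = z17) (e17 : sm ga z17 = z18) (e18 : sm gf z18 = z19) : sm gc z19 = X := by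
  subst e0
  subst e1
  subst e2
  subst e3
  subst e4
  subst e5
  subst e6
  subst e7
  subst e8
  subst e9
  subst e10
  subst e11
  subst e12
  subst e13
  subst e14
  subst e15
  subst e16
  subst e17
  subst e18
  exact rot_30_2 X

theorem ded_30_2 {X z1 z2 z3 z4 z5 z6 z7 z8 z9 z10 z11 z12 z13 z14 z15 z16 z17 z18 z19 : Q} (e0 : sm ga X = z1) (e1 : sm gf z1 = z2) (e2 : sm gc z2 = z3) (e3 : sm gb z3 = z4) (e4 : sm ga z4 = z5) (e5 : sm gf z5 = z6) (e6 : sm gc z6 = z7) (e7 : sm gb z7 = z8) (e8 : sm ga z8 = z9) (e9 : sm gf z9 = z10) (e10 : sm gc z10 = z11) (e11 : sm gb z11 = z12) (e12 : sm ga z12 = z13) (e13 : sm gf z13 = z14) (e14 : sm gc z14 = z15) (e15 : sm gb z15 = z16) (e16 : sm ga z16 = z17) (e17 : sm gf z17 = z18) (e18 : sm gc z18 = z19) : sm gb z19 = X := by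
  subst e0
  subst e1
  subst e2
  subst e3
  subst e4
  subst e5
  subst e6
  subst e7
  subst e8
  subst e9
  subst e10
  subst e11
  subst e12
  subst e13
  subst e14
  subst e15
  subst e16
  subst e17
  subst e18
  exact rot_30_3 X

theorem ded_30_3 {X z1 z2 z3 z4 z5 z6 z7 z8 z9 z10 z11 z12 z13 z14 z15 z16 z17 z18 z19 : Q} (e0 : sm gf X = z1) (e1 : sm gc z1 = z2) (e2 : sm gb z2 = z3) (e3 : sm ga z3 = z4) (e4 : sm gf z4 = z5) (e5 : sm gc z5 = z6) (e6 : sm gb z6 = z7) (e7 : sm ga z7 = z8) (e8 : sm gf z8 = z9) (e9 : sm gc z9 = z10) (e10 : sm gb z10 = z11) (e11 : sm ga z11 = z12) (e12 : sm gf z12 = z13) (e13 : sm gc z13 = z14) (e14 : sm gb z14 = z15) (e15 : sm ga z15 = z16) (e16 : sm gf z16 = z17) (e17 : sm gc z17 = z18) (e18 : sm gb z18 = z19) : sm ga z19 = X := by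
  subst e0
  subst e1
  subst e2
  subst e3
  subst e4
  subst e5
  subst e6
  subst e7
  subst e8
  subst e9
  subst e10
  subst e11
  subst e12
  subst e13
  subst e14
  subst e15
  subst e16
  subst e17
  subst e18
  exact rot_30_4 X

theorem ded_30_4 {X z1 z2 z3 z4 z5 z6 z7 z8 z9 z10 z11 z12 z13 z14 z15 z16 z17 z18 z19 : Q} (e0 : sm gc X = z1) (e1 : sm gb z1 = z2) (e2 : sm ga z2 = z3) (e3 : sm gf z3 = z4) (e4 : sm gc z4 = z5) (e5 : sm gb z5 = z6) (e6 : sm ga z6 = z7) (e7 : sm gf z7 = z8) (e8 : sm gc z8 = z9) (e9 : sm gb z9 = z10) (e10 : sm ga z10 = z11) (e11 : sm gf z11 = z12) (e12 : sm gc z12 = z13) (e13 : sm gb z13 = z14) (e14 : sm ga z14 = z15) (e15 : sm gf z15 = z16) (e16 : sm gc z16 = z17) (e17 : sm gb z17 = z18) (e18 : sm ga z18 = z19) : sm gf z19 = X := by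
  subst e0
  subst e1
  subst e2
  subst e3
  subst e4
  subst e5
  subst e6
  subst e7
  subst e8
  subst e9
  subst e10
  subst e11
  subst e12
  subst e13
  subst e14
  subst e15
  subst e16
  subst e17
  subst e18
  exact rot_30_5 X

theorem ded_30_7 {X z1 z2 z3 z4 z5 z6 z7 z8 z9 z10 z11 z12 z13 z14 z15 z16 z17 z18 z19 : Q} (e0 : sm gf X = z1) (e1 : sm gc z1 = z2) (e2 : sm gb z2 = z3) (e3 : sm ga z3 = z4) (e4 : sm gf z4 = z5) (e5 : sm gc z5 = z6) (e6 : sm gb z6 = z7) (e7 : sm ga z7 = z8) (e8 : sm gf z8 = z9) (e9 : sm gc z9 = z10) (e10 : sm gb z10 = z11) (e11 : sm ga z11 = z12) (e12 : sm gf z12 = z13) (e13 : sm gc z13 = z14) (e14 : sm gb z14 = z15) (e15 : sm ga z15 = z16) (e16 : sm gf z16 = z17) (e17 : sm gc z17 = z18) (e18 : sm gb z18 = z19) : sm ga z19 = X := by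
  subst e0
  subst e1
  subst e2
  subst e3
  subst e4
  subst e5
  subst e6
  subst e7
  subst e8
  subst e9
  subst e10
  subst e11
  subst e12
  subst e13
  subst e14
  subst e15
  subst e16
  subst e17
  subst e18
  exact rot_30_8 X

theorem ded_30_8 {X z1 z2 z3 z4 z5 z6 z7 z8 z9 z10 z11 z12 z13 z14 z15 z16 z17 z18 z19 : Q} (e0 : sm gc X = z1) (e1 : sm gb z1 = z2) (e2 : sm ga z2 = z3) (e3 : sm gf z3 = z4) (e4 : sm gc z4 = z5) (e5 : sm gb z5 = z6) (e6 : sm ga z6 = z7) (e7 : sm gf z7 = z8) (e8 : sm gc z8 = z9) (e9 : sm gb z9 = z10) (e10 : sm ga z10 = z11) (e11 : sm gf z11 = z12) (e12 : sm gc z12 = z13) (e13 : sm gb z13 = z14) (e14 : sm ga z14 = z15) (e15 : sm gf z15 = z16) (e16 : sm gc z16 = z17) (e17 : sm gb z17 = z18) (e18 : sm ga z18 = z19) : sm gf z19 = X := by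
  subst e0
  subst e1
  subst e2
  subst e3
  subst e4
  subst e5
  subst e6
  subst e7
  subst e8
  subst e9
  subst e10
  subst e11
  subst e12
  subst e13
  subst e14
  subst e15
  subst e16
  subst e17
  subst e18
  exact rot_30_9 X

theorem ded_30_11 {X z1 z2 z3 z4 z5 z6 z7 z8 z9 z10 z11 z12 z13 z14 z15 z16 z17 z18 z19 : Q} (e0 : sm gf X = z1) (e1 : sm gc z1 = z2) (e2 : sm gb z2 = z3) (e3 : sm ga z3 = z4) (e4 : sm gf z4 = z5) (e5 : sm gc z5 = z6) (e6 : sm gb z6 = z7) (e7 : sm ga z7 = z8) (e8 : sm gf z8 = z9) (e9 : sm gc z9 = z10) (e10 : sm gb z10 = z11) (e11 : sm ga z11 = z12) (e12 : sm gf z12 = z13) (e13 : sm gc z13 = z14) (e14 : sm gb z14 = z15) (e15 : sm ga z15 = z16) (e16 : sm gf z16 = z17) (e17 : sm gc z17 = z18) (e18 : sm gb z18 = z19) : sm ga z19 = X := by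
  subst e0
  subst e1
  subst e2
  subst e3
  subst e4
  subst e5
  subst e6
  subst e7
  subst e8
  subst e9
  subst e10
  subst e11
  subst e12
  subst e13
  subst e14
  subst e15
  subst e16
  subst e17
  subst e18
  exact rot_30_12 X

theorem ded_30_19 {X z1 z2 z3 z4 z5 z6 z7 z8 z9 z10 z11 z12 z13 z14 z15 z16 z17 z18 z19 : Q} (e0 : sm gf X = z1) (e1 : sm gc z1 = z2) (e2 : sm gb z2 = z3) (e3 : sm ga z3 = z4) (e4 : sm gf z4 = z5) (e5 : sm gc z5 = z6) (e6 : sm gb z6 = z7) (e7 : sm ga z7 = z8) (e8 : sm gf z8 = z9) (e9 : sm gc z9 = z10) (e10 : sm gb z10 = z11) (e11 : sm ga z11 = z12) (e12 : sm gf z12 = z13) (e13 : sm gc z13 = z14) (e14 : sm gb z14 = z15) (e15 : sm ga z15 = z16) (e16 : sm gf z16 = z17) (e17 : sm gc z17 = z18) (e18 : sm gb z18 = z19) : sm ga z19 = X := by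
  subst e0
  subst e1
  subst e2
  subst e3
  subst e4
  subst e5
  subst e6
  subst e7
  subst e8
  subst e9
  subst e10
  subst e11
  subst e12
  subst e13
  subst e14
  subst e15
  subst e16
  subst e17
  subst e18
  exact rot_30_0 X

theorem ded_31_0 {X z1 z2 z3 z4 z5 z6 z7 z8 z9 z10 z11 z12 z13 z14 : Q} (e0 : sm gf X = z1) (e1 : sm gb z1 = z2) (e2 : sm gg z2 = z3) (e3 : sm gf z3 = z4) (e4 : sm gb z4 = z5) (e5 : sm gg z5 = z6) (e6 : sm gf z6 = z7) (e7 : sm gb z7 = z8) (e8 : sm gg z8 = z9) (e9 : sm gf z9 = z10) (e10 : sm gb z10 = z11) (e11 : sm gg z11 = z12) (e12 : sm gf z12 = z13) (e13 : sm gb z13 = z14) : sm gg z14 = X := by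
  subst e0
  subst e1
  subst e2
  subst e3
  subst e4
  subst e5
  subst e6
  subst e7
  subst e8
  subst e9
  subst e10
  subst e11
  subst e12
  subst e13
  exact rot_31_1 X

theorem ded_31_1 {X z1 z2 z3 z4 z5 z6 z7 z8 z9 z10 z11 z12 z13 z14 : Q} (e0 : sm gb X = z1) (e1 : sm gg z1 = z2) (e2 : sm gf z2 = z3) (e3 : sm gb z3 = z4) (e4 : sm gg z4 = z5) (e5 : sm gf z5 = z6) (e6 : sm gb z6 = z7) (e7 : sm gg z7 = z8) (e8 : sm gf z8 = z9) (e9 : sm gb z9 = z10) (e10 : sm gg z10 = z11) (e11 : sm gf z11 = z12) (e12 : sm gb z12 = z13) (e13 : sm gg z13 = z14) : sm gf z14 = X := by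
  subst e0
  subst e1
  subst e2
  subst e3
  subst e4
  subst e5
  subst e6
  subst e7
  subst e8
  subst e9
  subst e10
  subst e11
  subst e12
  subst e13
  exact rot_31_2 X

theorem ded_31_2 {X z1 z2 z3 z4 z5 z6 z7 z8 z9 z10 z11 z12 z13 z14 : Q} (e0 : sm gg X = z1) (e1 : sm gf z1 = z2) (e2 : sm gb z2 = z3) (e3 : sm gg z3 = z4) (e4 : sm gf z4 = z5) (e5 : sm gb z5 = z6) (e6 : sm gg z6 = z7) (e7 : sm gf z7 = z8) (e8 : sm gb z8 = z9) (e9 : sm gg z9 = z10) (e10 : sm gf z10 = z11) (e11 : sm gb z11 = z12) (e12 : sm gg z12 = z13) (e13 : sm gf z13 = z14) : sm gb z14 = X := by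
  subst e0
  subst e1
  subst e2
  subst e3
  subst e4
  subst e5
  subst e6
  subst e7
  subst e8
  subst e9
  subst e10
  subst e11
  subst e12
  subst e13
  exact rot_31_3 X

theorem ded_31_3 {X z1 z2 z3 z4 z5 z6 z7 z8 z9 z10 z11 z12 z13 z14 : Q} (e0 : sm gf X = z1) (e1 : sm gb z1 = z2) (e2 : sm gg z2 = z3) (e3 : sm gf z3 = z4) (e4 : sm gb z4 = z5) (e5 : sm gg z5 = z6) (e6 : sm gf z6 = z7) (e7 : sm gb z7 = z8) (e8 : sm gg z8 = z9) (e9 : sm gf z9 = z10) (e10 : sm gb z10 = z11) (e11 : sm gg z11 = z12) (e12 : sm gf z12 = z13) (e13 : sm gb z13 = z14) : sm gg z14 = X := by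
  subst e0
  subst e1
  subst e2
  subst e3
  subst e4
  subst e5
  subst e6
  subst e7
  subst e8
  subst e9
  subst e10
  subst e11
  subst e12
  subst e13
  exact rot_31_4 X

theorem ded_31_4 {X z1 z2 z3 z4 z5 z6 z7 z8 z9 z10 z11 z12 z13 z14 : Q} (e0 : sm gb X = z1) (e1 : sm gg z1 = z2) (e2 : sm gf z2 = z3) (e3 : sm gb z3 = z4) (e4 : sm gg z4 = z5) (e5 : sm gf z5 = z6) (e6 : sm gb z6 = z7) (e7 : sm gg z7 = z8) (e8 : sm gf z8 = z9) (e9 : sm gb z9 = z10) (e10 : sm gg z10 = z11) (e11 : sm gf z11 = z12) (e12 : sm gb z12 = z13) (e13 : sm gg z13 = z14) : sm gf z14 = X := by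
  subst e0
  subst e1
  subst e2
  subst e3
  subst e4
  subst e5
  subst e6
  subst e7
  subst e8
  subst e9
  subst e10
  subst e11
  subst e12
  subst e13
  exact rot_31_5 X

theorem ded_31_5 {X z1 z2 z3 z4 z5 z6 z7 z8 z9 z10 z11 z12 z13 z14 : Q} (e0 : sm gg X = z1) (e1 : sm gf z1 = z2) (e2 : sm gb z2 = z3) (e3 : sm gg z3 = z4) (e4 : sm gf z4 = z5) (e5 : sm gb z5 = z6) (e6 : sm gg z6 = z7) (e7 : sm gf z7 = z8) (e8 : sm gb z8 = z9) (e9 : sm gg z9 = z10) (e10 : sm gf z10 = z11) (e11 : sm gb z11 = z12) (e12 : sm gg z12 = z13) (e13 : sm gf z13 = z14) : sm gb z14 = X := by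
  subst e0
  subst e1
  subst e2
  subst e3
  subst e4
  subst e5
  subst e6
  subst e7
  subst e8
  subst e9
  subst e10
  subst e11
  subst e12
  subst e13
  exact rot_31_6 X

theorem ded_31_6 {X z1 z2 z3 z4 z5 z6 z7 z8 z9 z10 z11 z12 z13 z14 : Q} (e0 : sm gf X = z1) (e1 : sm gb z1 = z2) (e2 : sm gg z2 = z3) (e3 : sm gf z3 = z4) (e4 : sm gb z4 = z5) (e5 : sm gg z5 = z6) (e6 : sm gf z6 = z7) (e7 : sm gb z7 = z8) (e8 : sm gg z8 = z9) (e9 : sm gf z9 = z10) (e10 : sm gb z10 = z11) (e11 : sm gg z11 = z12) (e12 : sm gf z12 = z13) (e13 : sm gb z13 = z14) : sm gg z14 = X := by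
  subst e0
  subst e1
  subst e2
  subst e3
  subst e4
  subst e5
  subst e6
  subst e7
  subst e8
  subst e9
  subst e10
  subst e11
  subst e12
  subst e13
  exact rot_31_7 X

theorem ded_31_7 {X z1 z2 z3 z4 z5 z6 z7 z8 z9 z10 z11 z12 z13 z14 : Q} (e0 : sm gb X = z1) (e1 : sm gg z1 = z2) (e2 : sm gf z2 = z3) (e3 : sm gb z3 = z4) (e4 : sm gg z4 = z5) (e5 : sm gf z5 = z6) (e6 : sm gb z6 = z7) (e7 : sm gg z7 = z8) (e8 : sm gf z8 = z9) (e9 : sm gb z9 = z10) (e10 : sm gg z10 = z11) (e11 : sm gf z11 = z12) (e12 : sm gb z12 = z13) (e13 : sm gg z13 = z14) : sm gf z14 = X := by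
  subst e0
  subst e1
  subst e2
  subst e3
  subst e4
  subst e5
  subst e6
  subst e7
  subst e8
  subst e9
  subst e10
  subst e11
  subst e12
  subst e13
  exact rot_31_8 X

theorem ded_31_8 {X z1 z2 z3 z4 z5 z6 z7 z8 z9 z10 z11 z12 z13 z14 : Q} (e0 : sm gg X = z1) (e1 : sm gf z1 = z2) (e2 : sm gb z2 = z3) (e3 : sm gg z3 = z4) (e4 : sm gf z4 = z5) (e5 : sm gb z5 = z6) (e6 : sm gg z6 = z7) (e7 : sm gf z7 = z8) (e8 : sm gb z8 = z9) (e9 : sm gg z9 = z10) (e10 : sm gf z10 = z11) (e11 : sm gb z11 = z12) (e12 : sm gg z12 = z13) (e13 : sm gf z13 = z14) : sm gb z14 = X := by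
  subst e0
  subst e1
  subst e2
  subst e3
  subst e4
  subst e5
  subst e6
  subst e7
  subst e8
  subst e9
  subst e10
  subst e11
  subst e12
  subst e13
  exact rot_31_9 X

theorem ded_31_9 {X z1 z2 z3 z4 z5 z6 z7 z8 z9 z10 z11 z12 z13 z14 : Q} (e0 : sm gf X = z1) (e1 : sm gb z1 = z2) (e2 : sm gg z2 = z3) (e3 : sm gf z3 = z4) (e4 : sm gb z4 = z5) (e5 : sm gg z5 = z6) (e6 : sm gf z6 = z7) (e7 : sm gb z7 = z8) (e8 : sm gg z8 = z9) (e9 : sm gf z9 = z10) (e10 : sm gb z10 = z11) (e11 : sm gg z11 = z12) (e12 : sm gf z12 = z13) (e13 : sm gb z13 = z14) : sm gg z14 = X := by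
  subst e0
  subst e1
  subst e2
  subst e3
  subst e4
  subst e5
  subst e6
  subst e7
  subst e8
  subst e9
  subst e10
  subst e11
  subst e12
  subst e13
  exact rot_31_10 X

theorem ded_31_11 {X z1 z2 z3 z4 z5 z6 z7 z8 z9 z10 z11 z12 z13 z14 : Q} (e0 : sm gg X = z1) (e1 : sm gf z1 = z2) (e2 : sm gb z2 = z3) (e3 : sm gg z3 = z4) (e4 : sm gf z4 = z5) (e5 : sm gb z5 = z6) (e6 : sm gg z6 = z7) (e7 : sm gf z7 = z8) (e8 : sm gb z8 = z9) (e9 : sm gg z9 = z10) (e10 : sm gf z10 = z11) (e11 : sm gb z11 = z12) (e12 : sm gg z12 = z13) (e13 : sm gf z13 = z14) : sm gb z14 = X := by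
  subst e0
  subst e1
  subst e2
  subst e3
  subst e4
  subst e5
  subst e6
  subst e7
  subst e8
  subst e9
  subst e10
  subst e11
  subst e12
  subst e13
  exact rot_31_12 X

theorem ded_31_12 {X z1 z2 z3 z4 z5 z6 z7 z8 z9 z10 z11 z12 z13 z14 : Q} (e0 : sm gf X = z1) (e1 : sm gb z1 = z2) (e2 : sm gg z2 = z3) (e3 : sm gf z3 = z4) (e4 : sm gb z4 = z5) (e5 : sm gg z5 = z6) (e6 : sm gf z6 = z7) (e7 : sm gb z7 = z8) (e8 : sm gg z8 = z9) (e9 : sm gf z9 = z10) (e10 : sm gb z10 = z11) (e11 : sm gg z11 = z12) (e12 : sm gf z12 = z13) (e13 : sm gb z13 = z14) : sm gg z14 = X := by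
  subst e0
  subst e1
  subst e2
  subst e3
  subst e4
  subst e5
  subst e6
  subst e7
  subst e8
  subst e9
  subst e10
  subst e11
  subst e12
  subst e13
  exact rot_31_13 X

theorem ded_31_13 {X z1 z2 z3 z4 z5 z6 z7 z8 z9 z10 z11 z12 z13 z14 : Q} (e0 : sm gb X = z1) (e1 : sm gg z1 = z2) (e2 : sm gf z2 = z3) (e3 : sm gb z3 = z4) (e4 : sm gg z4 = z5) (e5 : sm gf z5 = z6) (e6 : sm gb z6 = z7) (e7 : sm gg z7 = z8) (e8 : sm gf z8 = z9) (e9 : sm gb z9 = z10) (e10 : sm gg z10 = z11) (e11 : sm gf z11 = z12) (e12 : sm gb z12 = z13) (e13 : sm gg z13 = z14) : sm gf z14 = X := by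
  subst e0
  subst e1
  subst e2
  subst e3
  subst e4
  subst e5
  subst e6
  subst e7
  subst e8
  subst e9
  subst e10
  subst e11
  subst e12
  subst e13
  exact rot_31_14 X

theorem ded_31_14 {X z1 z2 z3 z4 z5 z6 z7 z8 z9 z10 z11 z12 z13 z14 : Q} (e0 : sm gg X = z1) (e1 : sm gf z1 = z2) (e2 : sm gb z2 = z3) (e3 : sm gg z3 = z4) (e4 : sm gf z4 = z5) (e5 : sm gb z5 = z6) (e6 : sm gg z6 = z7) (e7 : sm gf z7 = z8) (e8 : sm gb z8 = z9) (e9 : sm gg z9 = z10) (e10 : sm gf z10 = z11) (e11 : sm gb z11 = z12) (e12 : sm gg z12 = z13) (e13 : sm gf z13 = z14) : sm gb z14 = X := by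
  subst e0
  subst e1
  subst e2
  subst e3
  subst e4
  subst e5
  subst e6
  subst e7
  subst e8
  subst e9
  subst e10
  subst e11
  subst e12
  subst e13
  exact rot_31_0 X

theorem ded_32_0 {X z1 z2 z3 z4 z5 z6 z7 z8 z9 z10 z11 z12 z13 z14 z15 z16 z17 z18 z19 z20 z21 z22 z23 z24 z25 z26 z27 z28 z29 z30 z31 z32 z33 z34 z35 z36 z37 z38 z39 z40 z41 z42 z43 z44 z45 z46 z47 z48 z49 z50 z51 z52 z53 z54 z55 z56 z57 z58 z59 z60 z61 z62 z63 z64 z65 z66 z67 z68 z69 z70 z71 z72 z73 z74 z75 z76 z77 : Q} (e0 : sm gd X = z1) (e1 : sm gc z1 = z2) (e2 : sm gd z2 = z3) (e3 : sm gc z3 = z4) (e4 : sm gb z4 = z5) (e5 : sm gd z5 = z6) (e6 : sm gc z6 = z7) (e7 : sm gd z7 = z8) (e8 : sm gc z8 = z9) (e9 : sm gb z9 = z10) (e10 : sm gd z10 = z11) (e11 : sm gc z11 = z12) (e12 : sm gd z12 = z13) (e13 : sm gc z13 = z14) (e14 : sm gb z14 = z15) (e15 : sm gd z15 = z16) (e16 : sm gc z16 = z17) (e17 : sm gd z17 = z18) (e18 : sm gc z18 = z19) (e19 : sm gb z19 = z20) (e20 : sm gd z20 =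 z21) (e21 : sm gc z21 = z22) (e22 : sm gd z22 = z23) (e23 : sm gc z23 = z24) (e24 : sm gb z24 = z25) (e25 : sm ge z25 = z26) (e26 : sm gd z26 = z27) (e27 : sm gc z27 = z28) (e28 : sm gd z28 = z29) (e29 : sm gc z29 = z30) (e30 : sm gb z30 = z31) (e31 : sm gd z31 = z32) (e32 : sm gc z32 = z33) (e33 : sm gd z33 = z34) (e34 : sm gc z34 = z35) (e35 : sm gb z35 = z36) (e36 : sm gd z36 = z37) (e37 : sm gc z37 = z38) (e38 : sm gd z38 = z39) (e39 : sm gc z39 = z40) (e40 : sm gb z40 = z41) (e41 : sm gd z41 = z42) (e42 : sm gc z42 = z43) (e43 : sm gd z43 = z44) (e44 : sm gc z44 = z45) (e45 : sm gb z45 = z46) (e46 : sm gd z46 = z47) (e47 : sm gc z47 = z48) (e48 : sm gd z48 = z49) (e49 : sm gc z49 = z50) (e50 : sm gb z50 = z51) (e51 : sm ge z51 = z52) (e52 : sm gd z52 = z53) (e53 : sm gc z53 = z54) (e54 : sm gd z54 = z55) (e55 : sm gc z55 = z56) (e56 : sm gb z56 = z57) (e57 : sm gd z57 = z58) (e58 : sm gc z58 = z59) (e59 : sm gd z59 = z60) (e60 : sm gc z60 = z61) (e61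 : sm gb z61 = z62) (e62 : sm gd z62 = z63) (e63 : sm gc z63 = z64) (e64 : sm gd z64 = z65) (e65 : sm gc z65 = z66) (e66 : sm gb z66 = z67) (e67 : sm gd z67 = z68) (e68 : sm gc z68 = z69) (e69 : sm gd z69 = z70) (e70 : sm gc z70 = z71) (e71 : sm gb z71 = z72) (e72 : sm gd z72 = z73) (e73 : sm gc z73 = z74) (e74 : sm gd z74 = z75) (e75 : sm gc z75 = z76) (e76 : sm gb z76 = z77) : sm ge z77 = X := by
  subst e0
  subst e1
  subst e2
  subst e3
  subst e4
  subst e5
  subst e6
  subst e7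
  subst e8
  subst e9
  subst e10
  subst e11
  subst e12
  subst e13
  subst e14
  subst e15
  subst e16
  subst e17
  subst e18
  subst e19
  subst e20
  subst e21
  subst e22
  subst e23
  subst e24
  subst e25
  subst e26
  subst e27
  subst e28
  subst e29
  subst e30
  subst e31
  subst e32
  subst e33
  subst e34
  subst e35
  subst e36
  subst e37
  subst e38
  subst e39
  subst e40
  subst e41
  subst e42
  subst e43
  subst e44
  subst e45
  subst e46
  subst e47
  subst e48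
  subst e49
  subst e50
  subst e51
  subst e52
  subst e53
  subst e54
  subst e55
  subst e56
  subst e57
  subst e58
  subst e59
  subst e60
  subst e61
  subst e62
  subst e63
  subst e64
  subst e65
  subst e66
  subst e67
  subst e68
  subst e69
  subst e70
  subst e71
  subst e72
  subst e73
  subst e74
  subst e75
  subst e76
  exact rot_32_1 X

theorem ded_32_1 {X z1 z2 z3 z4 z5 z6 z7 z8 z9 z10 z11 z12 z13 z14 z15 z16 z17 z18 z19 z20 z21 z22 z23 z24 z25 z26 z27 z28 z29 z30 z31 z32 z33 z34 z35 z36 z37 z38 z39 z40 z41 z42 z43 z44 z45 z46 z47 z48 z49 z50 z51 z52 z53 z54 z55 z56 z57 z58 z59 z60 z61 z62 z63 z64 z65 z66 z67 z68 z69 z70 z71 z72 z73 z74 z75 z76 z77 : Q} (e0 : sm gc X = z1) (e1 : sm gd z1 = z2) (e2 : sm gc z2 = z3) (e3 : sm gb z3 = z4) (e4 : sm gd z4 = z5) (e5 : sm gc z5 = z6) (e6 : sm gd z6 = z7) (e7 : sm gc z7 = z8) (e8 : sm gb z8 = z9) (e9 : sm gd z9 = z10) (e10 : sm gc z10 = z11) (e11 : sm gd z11 = z12) (e12 : sm gc z12 = z13) (e13 : sm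 gb z13 = z14) (e14 : sm gd z14 = z15) (e15 : sm gc z15 = z16) (e16 : sm gd z16 = z17) (e17 : sm gc z17 = z18) (e18 : sm gb z18 = z19) (e19 : sm gd z19 = z20) (e20 : sm gc z20 = z21) (e21 : sm gd z21 = z22) (e22 : sm gc z22 = z23) (e23 : sm gb z23 = z24) (e24 : sm ge z24 = z25) (e25 : sm gd z25 = z26) (e26 : sm gc z26 = z27) (e27 : sm gd z27 = z28) (e28 : sm gc z28 = z29) (e29 : sm gb z29 = z30) (e30 : sm gd z30 = z31) (e31 : sm gc z31 = z32) (e32 : sm gd z32 = z33) (e33 : sm gc z33 = z34) (e34 : sm gb z34 = z35) (e35 : sm gd z35 = z36) (e36 : sm gc z36 = z37) (e37 : sm gd z37 = z38) (e38 : sm gc z38 = z39) (e39 : sm gb z39 = z40) (e40 : sm gd z40 = z41) (e41 : sm gc z41 = z42) (e42 : sm gd z42 = z43) (e43 : sm gc z43 = z44) (e44 : sm gb z44 = z45) (e45 : sm gd z45 = z46) (e46 : sm gc z46 = z47) (e47 : sm gd z47 = z48) (e48 : sm gc z48 = z49) (e49 : sm gb z49 = z50) (e50 : sm ge z50 = z51) (e51 : sm gd z51 = z52) (e52 : sm gc z52 = z53) (e53 : sm gd z53 = z54)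 (e54 : sm gc z54 = z55) (e55 : sm gb z55 = z56) (e56 : sm gd z56 = z57) (e57 : sm gc z57 = z58) (e58 : sm gd z58 = z59) (e59 : sm gc z59 = z60) (e60 : sm gb z60 = z61) (e61 : sm gd z61 = z62) (e62 : sm gc z62 = z63) (e63 : sm gd z63 = z64) (e64 : sm gc z64 = z65) (e65 : sm gb z65 = z66) (e66 : sm gd z66 = z67) (e67 : sm gc z67 = z68) (e68 : sm gd z68 = z69) (e69 : sm gc z69 = z70) (e70 : sm gb z70 = z71) (e71 : sm gd z71 = z72) (e72 : sm gc z72 = z73) (e73 : sm gd z73 = z74) (e74 : sm gc z74 = z75) (e75 : sm gb z75 = z76) (e76 : sm ge z76 = z77) : sm gd z77 = X := by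
  subst e0
  subst e1
  subst e2
  subst e3
  subst e4
  subst e5
  subst e6
  subst e7
  subst e8
  subst e9
  subst e10
  subst e11
  subst e12
  subst e13
  subst e14
  subst e15
  subst e16
  subst e17
  subst e18
  subst e19
  subst e20
  subst e21
  subst e22
  subst e23
  subst e24
  subst e25
  subst e26
  subst e27
  subst e28
  subst e29
  subst e30
  subst e31
  subst e32
  subst e33
  subst e34
  subst e35
  subst e36
  subst e37
  subst e38
  subst e39
  subst e40
  subst e41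
  subst e42
  subst e43
  subst e44
  subst e45
  subst e46
  subst e47
  subst e48
  subst e49
  subst e50
  subst e51
  subst e52
  subst e53
  subst e54
  subst e55
  subst e56
  subst e57
  subst e58
  subst e59
  subst e60
  subst e61
  subst e62
  subst e63
  subst e64
  subst e65
  subst e66
  subst e67
  subst e68
  subst e69
  subst e70
  subst e71
  subst e72
  subst e73
  subst e74
  subst e75
  subst e76
  exact rot_32_2 X

theorem ded_32_7 {X z1 z2 z3 z4 z5 z6 z7 z8 z9 z10 z11 z12 z13 z14 z15 z16 z17 z18 z19 z20 z21 z22 z23 z24 z25 z26 z27 z28 z29 z30 z31 z32 z33 z34 z35 z36 z37 z38 z39 z40 z41 z42 z43 z44 z45 z46 z47 z48 z49 z50 z51 z52 z53 z54 z55 z56 z57 z58 z59 z60 z61 z62 z63 z64 z65 z66 z67 z68 z69 z70 z71 z72 z73 z74 z75 z76 z77 : Q} (e0 : sm gd X = z1) (e1 : sm gc z1 = z2) (e2 : sm gb z2 = z3) (e3 : sm gd z3 = z4) (e4 : sm gc z4 = z5) (e5 : sm gd z5 = z6) (e6 : sm gc z6 = z7) (e7 : sm gb z7 = z8) (e8 : sm gd z8 = z9) (e9 : sm gc z9 = z10)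 (e10 : sm gd z10 = z11) (e11 : sm gc z11 = z12) (e12 : sm gb z12 = z13) (e13 : sm gd z13 = z14) (e14 : sm gc z14 = z15) (e15 : sm gd z15 = z16) (e16 : sm gc z16 = z17) (e17 : sm gb z17 = z18) (e18 : sm ge z18 = z19) (e19 : sm gd z19 = z20) (e20 : sm gc z20 = z21) (e21 : sm gd z21 = z22) (e22 : sm gc z22 = z23) (e23 : sm gb z23 = z24) (e24 : sm gd z24 = z25) (e25 : sm gc z25 = z26) (e26 : sm gd z26 = z27) (e27 : sm gc z27 = z28) (e28 : sm gb z28 = z29) (e29 : sm gd z29 = z30) (e30 : sm gc z30 = z31) (e31 : sm gd z31 = z32) (e32 : sm gc z32 = z33) (e33 : sm gb z33 = z34) (e34 : sm gd z34 = z35) (e35 : sm gc z35 = z36) (e36 : sm gd z36 = z37) (e37 : sm gc z37 = z38) (e38 : sm gb z38 = z39) (e39 : sm gd z39 = z40) (e40 : sm gc z40 = z41) (e41 : sm gd z41 = z42) (e42 : sm gc z42 = z43) (e43 : sm gb z43 = z44) (e44 : sm ge z44 = z45) (e45 : sm gd z45 = z46) (e46 : sm gc z46 = z47) (e47 : sm gd z47 = z48) (e48 : sm gc z48 = z49) (e49 : sm gb z49 = z50) (e50 : sm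 gd z50 = z51) (e51 : sm gc z51 = z52) (e52 : sm gd z52 = z53) (e53 : sm gc z53 = z54) (e54 : sm gb z54 = z55) (e55 : sm gd z55 = z56) (e56 : sm gc z56 = z57) (e57 : sm gd z57 = z58) (e58 : sm gc z58 = z59) (e59 : sm gb z59 = z60) (e60 : sm gd z60 = z61) (e61 : sm gc z61 = z62) (e62 : sm gd z62 = z63) (e63 : sm gc z63 = z64) (e64 : sm gb z64 = z65) (e65 : sm gd z65 = z66) (e66 : sm gc z66 = z67) (e67 : sm gd z67 = z68) (e68 : sm gc z68 = z69) (e69 : sm gb z69 = z70) (e70 : sm ge z70 = z71) (e71 : sm gd z71 = z72) (e72 : sm gc z72 = z73) (e73 : sm gd z73 = z74) (e74 : sm gc z74 = z75) (e75 : sm gb z75 = z76) (e76 : sm gd z76 = z77) : sm gc z77 = X := by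
  subst e0
  subst e1
  subst e2
  subst e3
  subst e4
  subst e5
  subst e6
  subst e7
  subst e8
  subst e9
  subst e10
  subst e11
  subst e12
  subst e13
  subst e14
  subst e15
  subst e16
  subst e17
  subst e18
  subst e19
  subst e20
  subst e21
  subst e22
  subst e23
  subst e24
  subst e25
  subst e26
  subst e27
  subst e28
  subst e29
  subst e30
  subst e31
  subst e32
  subst e33
  subst e34
  subst e35
  subst e36
  subst e37
  subst e38
  subst e39
  subst e40
  subst e41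
  subst e42
  subst e43
  subst e44
  subst e45
  subst e46
  subst e47
  subst e48
  subst e49
  subst e50
  subst e51
  subst e52
  subst e53
  subst e54
  subst e55
  subst e56
  subst e57
  subst e58
  subst e59
  subst e60
  subst e61
  subst e62
  subst e63
  subst e64
  subst e65
  subst e66
  subst e67
  subst e68
  subst e69
  subst e70
  subst e71
  subst e72
  subst e73
  subst e74
  subst e75
  subst e76
  exact rot_32_8 X

theorem ded_32_17 {X z1 z2 z3 z4 z5 z6 z7 z8 z9 z10 z11 z12 z13 z14 z15 z16 z17 z18 z19 z20 z21 z22 z23 z24 z25 z26 z27 z28 z29 z30 z31 z32 z33 z34 z35 z36 z37 z38 z39 z40 z41 z42 z43 z44 z45 z46 z47 z48 z49 z50 z51 z52 z53 z54 z55 z56 z57 z58 z59 z60 z61 z62 z63 z64 z65 z66 z67 z68 z69 z70 z71 z72 z73 z74 z75 z76 z77 : Q} (e0 : sm gd X = z1) (e1 : sm gc z1 = z2) (e2 : sm gb z2 = z3) (e3 : sm gd z3 = z4) (e4 : sm gc z4 = z5) (e5 : sm gd z5 = z6) (e6 : sm gc z6 = z7) (e7 : sm gb z7 = z8) (e8 : sm ge z8 = z9) (e9 : sm gd z9 =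 z10) (e10 : sm gc z10 = z11) (e11 : sm gd z11 = z12) (e12 : sm gc z12 = z13) (e13 : sm gb z13 = z14) (e14 : sm gd z14 = z15) (e15 : sm gc z15 = z16) (e16 : sm gd z16 = z17) (e17 : sm gc z17 = z18) (e18 : sm gb z18 = z19) (e19 : sm gd z19 = z20) (e20 : sm gc z20 = z21) (e21 : sm gd z21 = z22) (e22 : sm gc z22 = z23) (e23 : sm gb z23 = z24) (e24 : sm gd z24 = z25) (e25 : sm gc z25 = z26) (e26 : sm gd z26 = z27) (e27 : sm gc z27 = z28) (e28 : sm gb z28 = z29) (e29 : sm gd z29 = z30) (e30 : sm gc z30 = z31) (e31 : sm gd z31 = z32) (e32 : sm gc z32 = z33) (e33 : sm gb z33 = z34) (e34 : sm ge z34 = z35) (e35 : sm gd z35 = z36) (e36 : sm gc z36 = z37) (e37 : sm gd z37 = z38) (e38 : sm gc z38 = z39) (e39 : sm gb z39 = z40) (e40 : sm gd z40 = z41) (e41 : sm gc z41 = z42) (e42 : sm gd z42 = z43) (e43 : sm gc z43 = z44) (e44 : sm gb z44 = z45) (e45 : sm gd z45 = z46) (e46 : sm gc z46 = z47) (e47 : sm gd z47 = z48) (e48 : sm gc z48 = z49) (e49 : sm gb z49 = z50) (e50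 : sm gd z50 = z51) (e51 : sm gc z51 = z52) (e52 : sm gd z52 = z53) (e53 : sm gc z53 = z54) (e54 : sm gb z54 = z55) (e55 : sm gd z55 = z56) (e56 : sm gc z56 = z57) (e57 : sm gd z57 = z58) (e58 : sm gc z58 = z59) (e59 : sm gb z59 = z60) (e60 : sm ge z60 = z61) (e61 : sm gd z61 = z62) (e62 : sm gc z62 = z63) (e63 : sm gd z63 = z64) (e64 : sm gc z64 = z65) (e65 : sm gb z65 = z66) (e66 : sm gd z66 = z67) (e67 : sm gc z67 = z68) (e68 : sm gd z68 = z69) (e69 : sm gc z69 = z70) (e70 : sm gb z70 = z71) (e71 : sm gd z71 = z72) (e72 : sm gc z72 = z73) (e73 : sm gd z73 = z74) (e74 : sm gc z74 = z75) (e75 : sm gb z75 = z76) (e76 : sm gd z76 = z77) : sm gc z77 = X := by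
  subst e0
  subst e1
  subst e2
  subst e3
  subst e4
  subst e5
  subst e6
  subst e7
  subst e8
  subst e9
  subst e10
  subst e11
  subst e12
  subst e13
  subst e14
  subst e15
  subst e16
  subst e17
  subst e18
  subst e19
  subst e20
  subst e21
  subst e22
  subst e23
  subst e24
  subst e25
  subst e26
  subst e27
  subst e28
  subst e29
  subst e30
  subst e31
  subst e32
  subst e33
  subst e34
  subst e35
  subst e36
  subst e37
  subst e38
  subst e39
  subst e40
  subst e41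
  subst e42
  subst e43
  subst e44
  subst e45
  subst e46
  subst e47
  subst e48
  subst e49
  subst e50
  subst e51
  subst e52
  subst e53
  subst e54
  subst e55
  subst e56
  subst e57
  subst e58
  subst e59
  subst e60
  subst e61
  subst e62
  subst e63
  subst e64
  subst e65
  subst e66
  subst e67
  subst e68
  subst e69
  subst e70
  subst e71
  subst e72
  subst e73
  subst e74
  subst e75
  subst e76
  exact rot_32_18 X

theorem ded_32_44 {X z1 z2 z3 z4 z5 z6 z7 z8 z9 z10 z11 z12 z13 z14 z15 z16 z17 z18 z19 z20 z21 z22 z23 z24 z25 z26 z27 z28 z29 z30 z31 z32 z33 z34 z35 z36 z37 z38 z39 z40 z41 z42 z43 z44 z45 z46 z47 z48 z49 z50 z51 z52 z53 z54 z55 z56 z57 z58 z59 z60 z61 z62 z63 z64 z65 z66 z67 z68 z69 z70 z71 z72 z73 z74 z75 z76 z77 : Q} (e0 : sm gc X = z1) (e1 : sm gb z1 = z2) (e2 : sm gd z2 = z3) (e3 : sm gc z3 = z4) (e4 : sm gd z4 = z5) (e5 : sm gc z5 = z6) (e6 : sm gb z6 = z7) (e7 : sm ge z7 = z8) (e8 : sm gd z8 = z9) (e9 : sm gc z9 =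 z10) (e10 : sm gd z10 = z11) (e11 : sm gc z11 = z12) (e12 : sm gb z12 = z13) (e13 : sm gd z13 = z14) (e14 : sm gc z14 = z15) (e15 : sm gd z15 = z16) (e16 : sm gc z16 = z17) (e17 : sm gb z17 = z18) (e18 : sm gd z18 = z19) (e19 : sm gc z19 = z20) (e20 : sm gd z20 = z21) (e21 : sm gc z21 = z22) (e22 : sm gb z22 = z23) (e23 : sm gd z23 = z24) (e24 : sm gc z24 = z25) (e25 : sm gd z25 = z26) (e26 : sm gc z26 = z27) (e27 : sm gb z27 = z28) (e28 : sm gd z28 = z29) (e29 : sm gc z29 = z30) (e30 : sm gd z30 = z31) (e31 : sm gc z31 = z32) (e32 : sm gb z32 = z33) (e33 : sm ge z33 = z34) (e34 : sm gd z34 = z35) (e35 : sm gc z35 = z36) (e36 : sm gd z36 = z37) (e37 : sm gc z37 = z38) (e38 : sm gb z38 = z39) (e39 : sm gd z39 = z40) (e40 : sm gc z40 = z41) (e41 : sm gd z41 = z42) (e42 : sm gc z42 = z43) (e43 : sm gb z43 = z44) (e44 : sm gd z44 = z45) (e45 : sm gc z45 = z46) (e46 : sm gd z46 = z47) (e47 : sm gc z47 = z48) (e48 : sm gb z48 = z49) (e49 : sm gd z49 = z50) (e50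 : sm gc z50 = z51) (e51 : sm gd z51 = z52) (e52 : sm gc z52 = z53) (e53 : sm gb z53 = z54) (e54 : sm gd z54 = z55) (e55 : sm gc z55 = z56) (e56 : sm gd z56 = z57) (e57 : sm gc z57 = z58) (e58 : sm gb z58 = z59) (e59 : sm ge z59 = z60) (e60 : sm gd z60 = z61) (e61 : sm gc z61 = z62) (e62 : sm gd z62 = z63) (e63 : sm gc z63 = z64) (e64 : sm gb z64 = z65) (e65 : sm gd z65 = z66) (e66 : sm gc z66 = z67) (e67 : sm gd z67 = z68) (e68 : sm gc z68 = z69) (e69 : sm gb z69 = z70) (e70 : sm gd z70 = z71) (e71 : sm gc z71 = z72) (e72 : sm gd z72 = z73) (e73 : sm gc z73 = z74) (e74 : sm gb z74 = z75) (e75 : sm gd z75 = z76) (e76 : sm gc z76 = z77) : sm gd z77 = X := by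
  subst e0
  subst e1
  subst e2
  subst e3
  subst e4
  subst e5
  subst e6
  subst e7
  subst e8
  subst e9
  subst e10
  subst e11
  subst e12
  subst e13
  subst e14
  subst e15
  subst e16
  subst e17
  subst e18
  subst e19
  subst e20
  subst e21
  subst e22
  subst e23
  subst e24
  subst e25
  subst e26
  subst e27
  subst e28
  subst e29
  subst e30
  subst e31
  subst e32
  subst e33
  subst e34
  subst e35
  subst e36
  subst e37
  subst e38
  subst e39
  subst e40
  subst e41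
  subst e42
  subst e43
  subst e44
  subst e45
  subst e46
  subst e47
  subst e48
  subst e49
  subst e50
  subst e51
  subst e52
  subst e53
  subst e54
  subst e55
  subst e56
  subst e57
  subst e58
  subst e59
  subst e60
  subst e61
  subst e62
  subst e63
  subst e64
  subst e65
  subst e66
  subst e67
  subst e68
  subst e69
  subst e70
  subst e71
  subst e72
  subst e73
  subst e74
  subst e75
  subst e76
  exact rot_32_45 X

theorem ded_32_47 {X z1 z2 z3 z4 z5 z6 z7 z8 z9 z10 z11 z12 z13 z14 z15 z16 z17 z18 z19 z20 z21 z22 z23 z24 z25 z26 z27 z28 z29 z30 z31 z32 z33 z34 z35 z36 z37 z38 z39 z40 z41 z42 z43 z44 z45 z46 z47 z48 z49 z50 z51 z52 z53 z54 z55 z56 z57 z58 z59 z60 z61 z62 z63 z64 z65 z66 z67 z68 z69 z70 z71 z72 z73 z74 z75 z76 z77 : Q} (e0 : sm gc X = z1) (e1 : sm gd z1 = z2) (e2 : sm gc z2 = z3) (e3 : sm gb z3 = z4) (e4 : sm ge z4 = z5) (e5 : sm gd z5 = z6) (e6 : sm gc z6 = z7) (e7 : sm gd z7 = z8) (e8 : sm gc z8 = z9) (e9 : sm gb z9 =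 z10) (e10 : sm gd z10 = z11) (e11 : sm gc z11 = z12) (e12 : sm gd z12 = z13) (e13 : sm gc z13 = z14) (e14 : sm gb z14 = z15) (e15 : sm gd z15 = z16) (e16 : sm gc z16 = z17) (e17 : sm gd z17 = z18) (e18 : sm gc z18 = z19) (e19 : sm gb z19 = z20) (e20 : sm gd z20 = z21) (e21 : sm gc z21 = z22) (e22 : sm gd z22 = z23) (e23 : sm gc z23 = z24) (e24 : sm gb z24 = z25) (e25 : sm gd z25 = z26) (e26 : sm gc z26 = z27) (e27 : sm gd z27 = z28) (e28 : sm gc z28 = z29) (e29 : sm gb z29 = z30) (e30 : sm ge z30 = z31) (e31 : sm gd z31 = z32) (e32 : sm gc z32 = z33) (e33 : sm gd z33 = z34) (e34 : sm gc z34 = z35) (e35 : sm gb z35 = z36) (e36 : sm gd z36 = z37) (e37 : sm gc z37 = z38) (e38 : sm gd z38 = z39) (e39 : sm gc z39 = z40) (e40 : sm gb z40 = z41) (e41 : sm gd z41 = z42) (e42 : sm gc z42 = z43) (e43 : sm gd z43 = z44) (e44 : sm gc z44 = z45) (e45 : sm gb z45 = z46) (e46 : sm gd z46 = z47) (e47 : sm gc z47 = z48) (e48 : sm gd z48 = z49) (e49 : sm gc z49 = z50) (e50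 : sm gb z50 = z51) (e51 : sm gd z51 = z52) (e52 : sm gc z52 = z53) (e53 : sm gd z53 = z54) (e54 : sm gc z54 = z55) (e55 : sm gb z55 = z56) (e56 : sm ge z56 = z57) (e57 : sm gd z57 = z58) (e58 : sm gc z58 = z59) (e59 : sm gd z59 = z60) (e60 : sm gc z60 = z61) (e61 : sm gb z61 = z62) (e62 : sm gd z62 = z63) (e63 : sm gc z63 = z64) (e64 : sm gd z64 = z65) (e65 : sm gc z65 = z66) (e66 : sm gb z66 = z67) (e67 : sm gd z67 = z68) (e68 : sm gc z68 = z69) (e69 : sm gd z69 = z70) (e70 : sm gc z70 = z71) (e71 : sm gb z71 = z72) (e72 : sm gd z72 = z73) (e73 : sm gc z73 = z74) (e74 : sm gd z74 = z75) (e75 : sm gc z75 = z76) (e76 : sm gb z76 = z77) : sm gd z77 = X := by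
  subst e0
  subst e1
  subst e2
  subst e3
  subst e4
  subst e5
  subst e6
  subst e7
  subst e8
  subst e9
  subst e10
  subst e11
  subst e12
  subst e13
  subst e14
  subst e15
  subst e16
  subst e17
  subst e18
  subst e19
  subst e20
  subst e21
  subst e22
  subst e23
  subst e24
  subst e25
  subst e26
  subst e27
  subst e28
  subst e29
  subst e30
  subst e31
  subst e32
  subst e33
  subst e34
  subst e35
  subst e36
  subst e37
  subst e38
  subst e39
  subst e40
  subst e41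
  subst e42
  subst e43
  subst e44
  subst e45
  subst e46
  subst e47
  subst e48
  subst e49
  subst e50
  subst e51
  subst e52
  subst e53
  subst e54
  subst e55
  subst e56
  subst e57
  subst e58
  subst e59
  subst e60
  subst e61
  subst e62
  subst e63
  subst e64
  subst e65
  subst e66
  subst e67
  subst e68
  subst e69
  subst e70
  subst e71
  subst e72
  subst e73
  subst e74
  subst e75
  subst e76
  exact rot_32_48 X

theorem ded_32_49 {X z1 z2 z3 z4 z5 z6 z7 z8 z9 z10 z11 z12 z13 z14 z15 z16 z17 z18 z19 z20 z21 z22 z23 z24 z25 z26 z27 z28 z29 z30 z31 z32 z33 z34 z35 z36 z37 z38 z39 z40 z41 z42 z43 z44 z45 z46 z47 z48 z49 z50 z51 z52 z53 z54 z55 z56 z57 z58 z59 z60 z61 z62 z63 z64 z65 z66 z67 z68 z69 z70 z71 z72 z73 z74 z75 z76 z77 : Q} (e0 : sm gc X = z1) (e1 : sm gb z1 = z2) (e2 : sm ge z2 = z3) (e3 : sm gd z3 = z4) (e4 : sm gc z4 = z5) (e5 : sm gd z5 = z6) (e6 : sm gc z6 = z7) (e7 : sm gb z7 = z8) (e8 : sm gd z8 = z9) (e9 : sm gc z9 =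 z10) (e10 : sm gd z10 = z11) (e11 : sm gc z11 = z12) (e12 : sm gb z12 = z13) (e13 : sm gd z13 = z14) (e14 : sm gc z14 = z15) (e15 : sm gd z15 = z16) (e16 : sm gc z16 = z17) (e17 : sm gb z17 = z18) (e18 : sm gd z18 = z19) (e19 : sm gc z19 = z20) (e20 : sm gd z20 = z21) (e21 : sm gc z21 = z22) (e22 : sm gb z22 = z23) (e23 : sm gd z23 = z24) (e24 : sm gc z24 = z25) (e25 : sm gd z25 = z26) (e26 : sm gc z26 = z27) (e27 : sm gb z27 = z28) (e28 : sm ge z28 = z29) (e29 : sm gd z29 = z30) (e30 : sm gc z30 = z31) (e31 : sm gd z31 = z32) (e32 : sm gc z32 = z33) (e33 : sm gb z33 = z34) (e34 : sm gd z34 = z35) (e35 : sm gc z35 = z36) (e36 : sm gd z36 = z37) (e37 : sm gc z37 = z38) (e38 : sm gb z38 = z39) (e39 : sm gd z39 = z40) (e40 : sm gc z40 = z41) (e41 : sm gd z41 = z42) (e42 : sm gc z42 = z43) (e43 : sm gb z43 = z44) (e44 : sm gd z44 = z45) (e45 : sm gc z45 = z46) (e46 : sm gd z46 = z47) (e47 : sm gc z47 = z48) (e48 : sm gb z48 = z49) (e49 : sm gd z49 = z50) (e50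 : sm gc z50 = z51) (e51 : sm gd z51 = z52) (e52 : sm gc z52 = z53) (e53 : sm gb z53 = z54) (e54 : sm ge z54 = z55) (e55 : sm gd z55 = z56) (e56 : sm gc z56 = z57) (e57 : sm gd z57 = z58) (e58 : sm gc z58 = z59) (e59 : sm gb z59 = z60) (e60 : sm gd z60 = z61) (e61 : sm gc z61 = z62) (e62 : sm gd z62 = z63) (e63 : sm gc z63 = z64) (e64 : sm gb z64 = z65) (e65 : sm gd z65 = z66) (e66 : sm gc z66 = z67) (e67 : sm gd z67 = z68) (e68 : sm gc z68 = z69) (e69 : sm gb z69 = z70) (e70 : sm gd z70 = z71) (e71 : sm gc z71 = z72) (e72 : sm gd z72 = z73) (e73 : sm gc z73 = z74) (e74 : sm gb z74 = z75) (e75 : sm gd z75 = z76) (e76 : sm gc z76 = z77) : sm gd z77 = X := by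
  subst e0
  subst e1
  subst e2
  subst e3
  subst e4
  subst e5
  subst e6
  subst e7
  subst e8
  subst e9
  subst e10
  subst e11
  subst e12
  subst e13
  subst e14
  subst e15
  subst e16
  subst e17
  subst e18
  subst e19
  subst e20
  subst e21
  subst e22
  subst e23
  subst e24
  subst e25
  subst e26
  subst e27
  subst e28
  subst e29
  subst e30
  subst e31
  subst e32
  subst e33
  subst e34
  subst e35
  subst e36
  subst e37
  subst e38
  subst e39
  subst e40
  subst e41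
  subst e42
  subst e43
  subst e44
  subst e45
  subst e46
  subst e47
  subst e48
  subst e49
  subst e50
  subst e51
  subst e52
  subst e53
  subst e54
  subst e55
  subst e56
  subst e57
  subst e58
  subst e59
  subst e60
  subst e61
  subst e62
  subst e63
  subst e64
  subst e65
  subst e66
  subst e67
  subst e68
  subst e69
  subst e70
  subst e71
  subst e72
  subst e73
  subst e74
  subst e75
  subst e76
  exact rot_32_50 X

theorem ded_32_50 {X z1 z2 z3 z4 z5 z6 z7 z8 z9 z10 z11 z12 z13 z14 z15 z16 z17 z18 z19 z20 z21 z22 z23 z24 z25 z26 z27 z28 z29 z30 z31 z32 z33 z34 z35 z36 z37 z38 z39 z40 z41 z42 z43 z44 z45 z46 z47 z48 z49 z50 z51 z52 z53 z54 z55 z56 z57 z58 z59 z60 z61 z62 z63 z64 z65 z66 z67 z68 z69 z70 z71 z72 z73 z74 z75 z76 z77 : Q} (e0 : sm gb X = z1) (e1 : sm ge z1 = z2) (e2 : sm gd z2 = z3) (e3 : sm gc z3 = z4) (e4 : sm gd z4 = z5) (e5 : sm gc z5 = z6) (e6 : sm gb z6 = z7) (e7 : sm gd z7 = z8) (e8 : sm gc z8 = z9) (e9 : sm gd z9 =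 z10) (e10 : sm gc z10 = z11) (e11 : sm gb z11 = z12) (e12 : sm gd z12 = z13) (e13 : sm gc z13 = z14) (e14 : sm gd z14 = z15) (e15 : sm gc z15 = z16) (e16 : sm gb z16 = z17) (e17 : sm gd z17 = z18) (e18 : sm gc z18 = z19) (e19 : sm gd z19 = z20) (e20 : sm gc z20 = z21) (e21 : sm gb z21 = z22) (e22 : sm gd z22 = z23) (e23 : sm gc z23 = z24) (e24 : sm gd z24 = z25) (e25 : sm gc z25 = z26) (e26 : sm gb z26 = z27) (e27 : sm ge z27 = z28) (e28 : sm gd z28 = z29) (e29 : sm gc z29 = z30) (e30 : sm gd z30 = z31) (e31 : sm gc z31 = z32) (e32 : sm gb z32 = z33) (e33 : sm gd z33 = z34) (e34 : sm gc z34 = z35) (e35 : sm gd z35 = z36) (e36 : sm gc z36 = z37) (e37 : sm gb z37 = z38) (e38 : sm gd z38 = z39) (e39 : sm gc z39 = z40) (e40 : sm gd z40 = z41) (e41 : sm gc z41 = z42) (e42 : sm gb z42 = z43) (e43 : sm gd z43 = z44) (e44 : sm gc z44 = z45) (e45 : sm gd z45 = z46) (e46 : sm gc z46 = z47) (e47 : sm gb z47 = z48) (e48 : sm gd z48 = z49) (e49 : sm gc z49 = z50) (e50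 : sm gd z50 = z51) (e51 : sm gc z51 = z52) (e52 : sm gb z52 = z53) (e53 : sm ge z53 = z54) (e54 : sm gd z54 = z55) (e55 : sm gc z55 = z56) (e56 : sm gd z56 = z57) (e57 : sm gc z57 = z58) (e58 : sm gb z58 = z59) (e59 : sm gd z59 = z60) (e60 : sm gc z60 = z61) (e61 : sm gd z61 = z62) (e62 : sm gc z62 = z63) (e63 : sm gb z63 = z64) (e64 : sm gd z64 = z65) (e65 : sm gc z65 = z66) (e66 : sm gd z66 = z67) (e67 : sm gc z67 = z68) (e68 : sm gb z68 = z69) (e69 : sm gd z69 = z70) (e70 : sm gc z70 = z71) (e71 : sm gd z71 = z72) (e72 : sm gc z72 = z73) (e73 : sm gb z73 = z74) (e74 : sm gd z74 = z75) (e75 : sm gc z75 = z76) (e76 : sm gd z76 = z77) : sm gc z77 = X := by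
  subst e0
  subst e1
  subst e2
  subst e3
  subst e4
  subst e5
  subst e6
  subst e7
  subst e8
  subst e9
  subst e10
  subst e11
  subst e12
  subst e13
  subst e14
  subst e15
  subst e16
  subst e17
  subst e18
  subst e19
  subst e20
  subst e21
  subst e22
  subst e23
  subst e24
  subst e25
  subst e26
  subst e27
  subst e28
  subst e29
  subst e30
  subst e31
  subst e32
  subst e33
  subst e34
  subst e35
  subst e36
  subst e37
  subst e38
  subst e39
  subst e40
  subst e41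
  subst e42
  subst e43
  subst e44
  subst e45
  subst e46
  subst e47
  subst e48
  subst e49
  subst e50
  subst e51
  subst e52
  subst e53
  subst e54
  subst e55
  subst e56
  subst e57
  subst e58
  subst e59
  subst e60
  subst e61
  subst e62
  subst e63
  subst e64
  subst e65
  subst e66
  subst e67
  subst e68
  subst e69
  subst e70
  subst e71
  subst e72
  subst e73
  subst e74
  subst e75
  subst e76
  exact rot_32_51 X

theorem ded_32_52 {X z1 z2 z3 z4 z5 z6 z7 z8 z9 z10 z11 z12 z13 z14 z15 z16 z17 z18 z19 z20 z21 z22 z23 z24 z25 z26 z27 z28 z29 z30 z31 z32 z33 z34 z35 z36 z37 z38 z39 z40 z41 z42 z43 z44 z45 z46 z47 z48 z49 z50 z51 z52 z53 z54 z55 z56 z57 z58 z59 z60 z61 z62 z63 z64 z65 z66 z67 z68 z69 z70 z71 z72 z73 z74 z75 z76 z77 : Q} (e0 : sm gd X = z1) (e1 : sm gc z1 = z2) (e2 : sm gd z2 = z3) (e3 : sm gc z3 = z4) (e4 : sm gb z4 = z5) (e5 : sm gd z5 = z6) (e6 : sm gc z6 = z7) (e7 : sm gd z7 = z8) (e8 : sm gc z8 = z9) (e9 : sm gb z9 =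 z10) (e10 : sm gd z10 = z11) (e11 : sm gc z11 = z12) (e12 : sm gd z12 = z13) (e13 : sm gc z13 = z14) (e14 : sm gb z14 = z15) (e15 : sm gd z15 = z16) (e16 : sm gc z16 = z17) (e17 : sm gd z17 = z18) (e18 : sm gc z18 = z19) (e19 : sm gb z19 = z20) (e20 : sm gd z20 = z21) (e21 : sm gc z21 = z22) (e22 : sm gd z22 = z23) (e23 : sm gc z23 = z24) (e24 : sm gb z24 = z25) (e25 : sm ge z25 = z26) (e26 : sm gd z26 = z27) (e27 : sm gc z27 = z28) (e28 : sm gd z28 = z29) (e29 : sm gc z29 = z30) (e30 : sm gb z30 = z31) (e31 : sm gd z31 = z32) (e32 : sm gc z32 = z33) (e33 : sm gd z33 = z34) (e34 : sm gc z34 = z35) (e35 : sm gb z35 = z36) (e36 : sm gd z36 = z37) (e37 : sm gc z37 = z38) (e38 : sm gd z38 = z39) (e39 : sm gc z39 = z40) (e40 : sm gb z40 = z41) (e41 : sm gd z41 = z42) (e42 : sm gc z42 = z43) (e43 : sm gd z43 = z44) (e44 : sm gc z44 = z45) (e45 : sm gb z45 = z46) (e46 : sm gd z46 = z47) (e47 : sm gc z47 = z48) (e48 : sm gd z48 = z49) (e49 : sm gc z49 = z50) (e50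 : sm gb z50 = z51) (e51 : sm ge z51 = z52) (e52 : sm gd z52 = z53) (e53 : sm gc z53 = z54) (e54 : sm gd z54 = z55) (e55 : sm gc z55 = z56) (e56 : sm gb z56 = z57) (e57 : sm gd z57 = z58) (e58 : sm gc z58 = z59) (e59 : sm gd z59 = z60) (e60 : sm gc z60 = z61) (e61 : sm gb z61 = z62) (e62 : sm gd z62 = z63) (e63 : sm gc z63 = z64) (e64 : sm gd z64 = z65) (e65 : sm gc z65 = z66) (e66 : sm gb z66 = z67) (e67 : sm gd z67 = z68) (e68 : sm gc z68 = z69) (e69 : sm gd z69 = z70) (e70 : sm gc z70 = z71) (e71 : sm gb z71 = z72) (e72 : sm gd z72 = z73) (e73 : sm gc z73 = z74) (e74 : sm gd z74 = z75) (e75 : sm gc z75 = z76) (e76 : sm gb z76 = z77) : sm ge z77 = X := by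
  subst e0
  subst e1
  subst e2
  subst e3
  subst e4
  subst e5
  subst e6
  subst e7
  subst e8
  subst e9
  subst e10
  subst e11
  subst e12
  subst e13
  subst e14
  subst e15
  subst e16
  subst e17
  subst e18
  subst e19
  subst e20
  subst e21
  subst e22
  subst e23
  subst e24
  subst e25
  subst e26
  subst e27
  subst e28
  subst e29
  subst e30
  subst e31
  subst e32
  subst e33
  subst e34
  subst e35
  subst e36
  subst e37
  subst e38
  subst e39
  subst e40
  subst e41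
  subst e42
  subst e43
  subst e44
  subst e45
  subst e46
  subst e47
  subst e48
  subst e49
  subst e50
  subst e51
  subst e52
  subst e53
  subst e54
  subst e55
  subst e56
  subst e57
  subst e58
  subst e59
  subst e60
  subst e61
  subst e62
  subst e63
  subst e64
  subst e65
  subst e66
  subst e67
  subst e68
  subst e69
  subst e70
  subst e71
  subst e72
  subst e73
  subst e74
  subst e75
  subst e76
  exact rot_32_53 X

theorem ded_32_55 {X z1 z2 z3 z4 z5 z6 z7 z8 z9 z10 z11 z12 z13 z14 z15 z16 z17 z18 z19 z20 z21 z22 z23 z24 z25 z26 z27 z28 z29 z30 z31 z32 z33 z34 z35 z36 z37 z38 z39 z40 z41 z42 z43 z44 z45 z46 z47 z48 z49 z50 z51 z52 z53 z54 z55 z56 z57 z58 z59 z60 z61 z62 z63 z64 z65 z66 z67 z68 z69 z70 z71 z72 z73 z74 z75 z76 z77 : Q} (e0 : sm gc X = z1) (e1 : sm gb z1 = z2) (e2 : sm gd z2 = z3) (e3 : sm gc z3 = z4) (e4 : sm gd z4 = z5) (e5 : sm gc z5 = z6) (e6 : sm gb z6 = z7) (e7 : sm gd z7 = z8) (e8 : sm gc z8 = z9) (e9 : sm gd z9 =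 z10) (e10 : sm gc z10 = z11) (e11 : sm gb z11 = z12) (e12 : sm gd z12 = z13) (e13 : sm gc z13 = z14) (e14 : sm gd z14 = z15) (e15 : sm gc z15 = z16) (e16 : sm gb z16 = z17) (e17 : sm gd z17 = z18) (e18 : sm gc z18 = z19) (e19 : sm gd z19 = z20) (e20 : sm gc z20 = z21) (e21 : sm gb z21 = z22) (e22 : sm ge z22 = z23) (e23 : sm gd z23 = z24) (e24 : sm gc z24 = z25) (e25 : sm gd z25 = z26) (e26 : sm gc z26 = z27) (e27 : sm gb z27 = z28) (e28 : sm gd z28 = z29) (e29 : sm gc z29 = z30) (e30 : sm gd z30 = z31) (e31 : sm gc z31 = z32) (e32 : sm gb z32 = z33) (e33 : sm gd z33 = z34) (e34 : sm gc z34 = z35) (e35 : sm gd z35 = z36) (e36 : sm gc z36 = z37) (e37 : sm gb z37 = z38) (e38 : sm gd z38 = z39) (e39 : sm gc z39 = z40) (e40 : sm gd z40 = z41) (e41 : sm gc z41 = z42) (e42 : sm gb z42 = z43) (e43 : sm gd z43 = z44) (e44 : sm gc z44 = z45) (e45 : sm gd z45 = z46) (e46 : sm gc z46 = z47) (e47 : sm gb z47 = z48) (e48 : sm ge z48 = z49) (e49 : sm gd z49 = z50) (e50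 : sm gc z50 = z51) (e51 : sm gd z51 = z52) (e52 : sm gc z52 = z53) (e53 : sm gb z53 = z54) (e54 : sm gd z54 = z55) (e55 : sm gc z55 = z56) (e56 : sm gd z56 = z57) (e57 : sm gc z57 = z58) (e58 : sm gb z58 = z59) (e59 : sm gd z59 = z60) (e60 : sm gc z60 = z61) (e61 : sm gd z61 = z62) (e62 : sm gc z62 = z63) (e63 : sm gb z63 = z64) (e64 : sm gd z64 = z65) (e65 : sm gc z65 = z66) (e66 : sm gd z66 = z67) (e67 : sm gc z67 = z68) (e68 : sm gb z68 = z69) (e69 : sm gd z69 = z70) (e70 : sm gc z70 = z71) (e71 : sm gd z71 = z72) (e72 : sm gc z72 = z73) (e73 : sm gb z73 = z74) (e74 : sm ge z74 = z75) (e75 : sm gd z75 = z76) (e76 : sm gc z76 = z77) : sm gd z77 = X := by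
  subst e0
  subst e1
  subst e2
  subst e3
  subst e4
  subst e5
  subst e6
  subst e7
  subst e8
  subst e9
  subst e10
  subst e11
  subst e12
  subst e13
  subst e14
  subst e15
  subst e16
  subst e17
  subst e18
  subst e19
  subst e20
  subst e21
  subst e22
  subst e23
  subst e24
  subst e25
  subst e26
  subst e27
  subst e28
  subst e29
  subst e30
  subst e31
  subst e32
  subst e33
  subst e34
  subst e35
  subst e36
  subst e37
  subst e38
  subst e39
  subst e40
  subst e41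
  subst e42
  subst e43
  subst e44
  subst e45
  subst e46
  subst e47
  subst e48
  subst e49
  subst e50
  subst e51
  subst e52
  subst e53
  subst e54
  subst e55
  subst e56
  subst e57
  subst e58
  subst e59
  subst e60
  subst e61
  subst e62
  subst e63
  subst e64
  subst e65
  subst e66
  subst e67
  subst e68
  subst e69
  subst e70
  subst e71
  subst e72
  subst e73
  subst e74
  subst e75
  subst e76
  exact rot_32_56 X

theorem ded_32_57 {X z1 z2 z3 z4 z5 z6 z7 z8 z9 z10 z11 z12 z13 z14 z15 z16 z17 z18 z19 z20 z21 z22 z23 z24 z25 z26 z27 z28 z29 z30 z31 z32 z33 z34 z35 z36 z37 z38 z39 z40 z41 z42 z43 z44 z45 z46 z47 z48 z49 z50 z51 z52 z53 z54 z55 z56 z57 z58 z59 z60 z61 z62 z63 z64 z65 z66 z67 z68 z69 z70 z71 z72 z73 z74 z75 z76 z77 : Q} (e0 : sm gd X = z1) (e1 : sm gc z1 = z2) (e2 : sm gd z2 = z3) (e3 : sm gc z3 = z4) (e4 : sm gb z4 = z5) (e5 : sm gd z5 = z6) (e6 : sm gc z6 = z7) (e7 : sm gd z7 = z8) (e8 : sm gc z8 = z9) (e9 : sm gb z9 =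 z10) (e10 : sm gd z10 = z11) (e11 : sm gc z11 = z12) (e12 : sm gd z12 = z13) (e13 : sm gc z13 = z14) (e14 : sm gb z14 = z15) (e15 : sm gd z15 = z16) (e16 : sm gc z16 = z17) (e17 : sm gd z17 = z18) (e18 : sm gc z18 = z19) (e19 : sm gb z19 = z20) (e20 : sm ge z20 = z21) (e21 : sm gd z21 = z22) (e22 : sm gc z22 = z23) (e23 : sm gd z23 = z24) (e24 : sm gc z24 = z25) (e25 : sm gb z25 = z26) (e26 : sm gd z26 = z27) (e27 : sm gc z27 = z28) (e28 : sm gd z28 = z29) (e29 : sm gc z29 = z30) (e30 : sm gb z30 = z31) (e31 : sm gd z31 = z32) (e32 : sm gc z32 = z33) (e33 : sm gd z33 = z34) (e34 : sm gc z34 = z35) (e35 : sm gb z35 = z36) (e36 : sm gd z36 = z37) (e37 : sm gc z37 = z38) (e38 : sm gd z38 = z39) (e39 : sm gc z39 = z40) (e40 : sm gb z40 = z41) (e41 : sm gd z41 = z42) (e42 : sm gc z42 = z43) (e43 : sm gd z43 = z44) (e44 : sm gc z44 = z45) (e45 : sm gb z45 = z46) (e46 : sm ge z46 = z47) (e47 : sm gd z47 = z48) (e48 : sm gc z48 = z49) (e49 : sm gd z49 = z50) (e50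 : sm gc z50 = z51) (e51 : sm gb z51 = z52) (e52 : sm gd z52 = z53) (e53 : sm gc z53 = z54) (e54 : sm gd z54 = z55) (e55 : sm gc z55 = z56) (e56 : sm gb z56 = z57) (e57 : sm gd z57 = z58) (e58 : sm gc z58 = z59) (e59 : sm gd z59 = z60) (e60 : sm gc z60 = z61) (e61 : sm gb z61 = z62) (e62 : sm gd z62 = z63) (e63 : sm gc z63 = z64) (e64 : sm gd z64 = z65) (e65 : sm gc z65 = z66) (e66 : sm gb z66 = z67) (e67 : sm gd z67 = z68) (e68 : sm gc z68 = z69) (e69 : sm gd z69 = z70) (e70 : sm gc z70 = z71) (e71 : sm gb z71 = z72) (e72 : sm ge z72 = z73) (e73 : sm gd z73 = z74) (e74 : sm gc z74 = z75) (e75 : sm gd z75 = z76) (e76 : sm gc z76 = z77) : sm gb z77 = X := by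
  subst e0
  subst e1
  subst e2
  subst e3
  subst e4
  subst e5
  subst e6
  subst e7
  subst e8
  subst e9
  subst e10
  subst e11
  subst e12
  subst e13
  subst e14
  subst e15
  subst e16
  subst e17
  subst e18
  subst e19
  subst e20
  subst e21
  subst e22
  subst e23
  subst e24
  subst e25
  subst e26
  subst e27
  subst e28
  subst e29
  subst e30
  subst e31
  subst e32
  subst e33
  subst e34
  subst e35
  subst e36
  subst e37
  subst e38
  subst e39
  subst e40
  subst e41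
  subst e42
  subst e43
  subst e44
  subst e45
  subst e46
  subst e47
  subst e48
  subst e49
  subst e50
  subst e51
  subst e52
  subst e53
  subst e54
  subst e55
  subst e56
  subst e57
  subst e58
  subst e59
  subst e60
  subst e61
  subst e62
  subst e63
  subst e64
  subst e65
  subst e66
  subst e67
  subst e68
  subst e69
  subst e70
  subst e71
  subst e72
  subst e73
  subst e74
  subst e75
  subst e76
  exact rot_32_58 X

theorem sub_0 : ga • N0 = N0 := by
  have hm : PresentedGroup.mk rels (a) ∈ H :=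
    Subgroup.mem_map_of_mem _ (Subgroup.subset_closure (by simp))
  have h := smul_N0 _ hm
  simp only [map_mul, map_pow, mk_of, pow_succ, pow_zero, one_mul, ← mul_assoc, mul_smul] at h
  exact h

theorem sub_1 : gb • N0 = N0 := by
  have hm : PresentedGroup.mk rels (b) ∈ H :=
    Subgroup.mem_map_of_mem _ (Subgroup.subset_closure (by simp))
  have h := smul_N0 _ hm
  simp only [map_mul, map_pow, mk_of, pow_succ, pow_zero, one_mul, ← mul_assoc, mul_smul] at h
  exact h

theorem sub_2 : gc • N0 = N0 := by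
  have hm : PresentedGroup.mk rels (c) ∈ H :=
    Subgroup.mem_map_of_mem _ (Subgroup.subset_closure (by simp))
  have h := smul_N0 _ hm
  simp only [map_mul, map_pow, mk_of, pow_succ, pow_zero, one_mul, ← mul_assoc, mul_smul] at h
  exact h

theorem sub_3 : gd • N0 = N0 := by
  have hm : PresentedGroup.mk rels (d) ∈ H :=
    Subgroup.mem_map_of_mem _ (Subgroup.subset_closure (by simp))
  have h := smul_N0 _ hm
  simp only [map_mul, map_pow, mk_of, pow_succ, pow_zero, one_mul, ← mul_assoc, mul_smul] at h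
  exact h

theorem sub_4 : ge • N0 = N0 := by
  have hm : PresentedGroup.mk rels (e) ∈ H :=
    Subgroup.mem_map_of_mem _ (Subgroup.subset_closure (by simp))
  have h := smul_N0 _ hm
  simp only [map_mul, map_pow, mk_of, pow_succ, pow_zero, one_mul, ← mul_assoc, mul_smul] at h
  exact h

theorem sub_5 : gf • N0 = N0 := by
  have hm : PresentedGroup.mk rels (f) ∈ H :=
    Subgroup.mem_map_of_mem _ (Subgroup.subset_closure (by simp))
  have h := smul_N0 _ hm
  simp only [map_mul, map_pow, mk_of, pow_succ, pow_zero, one_mul, ← mul_assoc, mul_smul] at h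
  exact h

theorem sded_0_0  : sm ga N0 = N0 := by
  exact sub_0

theorem sded_1_0  : sm gb N0 = N0 := by
  exact sub_1

theorem sded_2_0  : sm gc N0 = N0 := by
  exact sub_2

theorem sded_3_0  : sm gd N0 = N0 := by
  exact sub_3

theorem sded_4_0  : sm ge N0 = N0 := by
  exact sub_4

theorem sded_5_0  : sm gf N0 = N0 := by
  exact sub_5

end Cfsg.Agent.Helper28.SuzA
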