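import Cfsg.Agent.Helper28.SuzA

/-! # The Suzuki group presentation, cosets of the subgroup generated by a, …, f: the coset enumeration, part 0 (helper28; generated) -/

set_option autoImplicit false

noncomputable section

namespace Cfsg.Agent.Helper28.SuzA

open Cfsg.Agent.Helper28.CosetTable

/-- A coset. -/ def N1 : Q := sm gg N0
/-- A coset. -/ def N2 : Q := sm gb N1
/-- A coset. -/ def N3 : Q := sm ga N2
/-- A coset. -/ def N4 : Q := sm gc N2
/-- A coset. -/ def N5 : Q := sm gf N2
/-- A coset. -/ def N6 : Q := sm gb N3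
/-- A coset. -/ def N7 : Q := sm gc N3
/-- A coset. -/ def N8 : Q := sm gf N3
/-- A coset. -/ def N9 : Q := sm gd N4
/-- A coset. -/ def N10 : Q := sm gf N4
/-- A coset. -/ def N11 : Q := sm gc N6
/-- A coset. -/ def N12 : Q := sm gb N7
/-- A coset. -/ def N13 : Q := sm gd N7
/-- A coset. -/ def N14 : Q := sm gc N9
/-- A coset. -/ def N15 : Q := sm ge N9
/-- A coset. -/ def N16 : Q := sm gf N9
/-- A coset. -/ def N17 : Q := sm gb N10
/-- A coset. -/ def N18 : Q := sm gb N11
/-- A coset. -/ def N19 : Q := sm gd N11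
/-- A coset. -/ def N20 : Q := sm ga N12
/-- A coset. -/ def N21 : Q := sm gd N12
/-- A coset. -/ def N22 : Q := sm gf N12
/-- A coset. -/ def N23 : Q := sm gg N12
/-- A coset. -/ def N24 : Q := sm gc N13
/-- A coset. -/ def N25 : Q := sm ge N13
/-- A coset. -/ def N26 : Q := sm gb N14
/-- A coset. -/ def N27 : Q := sm ge N14
/-- A coset. -/ def N28 : Q := sm gf N14
/-- A coset. -/ def N29 : Q := sm gf N15
/-- A coset. -/ def N30 : Q := sm gb N16
/-- A coset. -/ def N31 : Q := sm gg N17
/-- A coset. -/ def N32 : Q := sm ga N18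
/-- A coset. -/ def N33 : Q := sm gd N18
/-- A coset. -/ def N34 : Q := sm gf N18
/-- A coset. -/ def N35 : Q := sm gg N18
/-- A coset. -/ def N36 : Q := sm gc N19
/-- A coset. -/ def N37 : Q := sm ge N19
/-- A coset. -/ def N38 : Q := sm gd N20
/-- A coset. -/ def N39 : Q := sm gf N20
/-- A coset. -/ def N40 : Q := sm gc N21
/-- A coset. -/ def N41 : Q := sm ge N21
/-- A coset. -/ def N42 : Q := sm gf N21
/-- A coset. -/ def N43 : Q := sm gg N21
/-- A coset. -/ def N44 : Q := sm gf N23
/-- A coset. -/ def N45 : Q := sm gb N24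
/-- A coset. -/ def N46 : Q := sm ge N24
/-- A coset. -/ def N47 : Q := sm ga N26
/-- A coset. -/ def N48 : Q := sm ge N26
/-- A coset. -/ def N49 : Q := sm gf N26
/-- A coset. -/ def N50 : Q := sm gg N26
/-- A coset. -/ def N51 : Q := sm gd N27
/-- A coset. -/ def N52 : Q := sm gf N27
/-- A coset. -/ def N53 : Q := sm gb N28
/-- A coset. -/ def N54 : Q := sm gb N29
/-- A coset. -/ def N55 : Q := sm gc N30
/-- A coset. -/ def N56 : Q := sm gg N30
/-- A coset. -/ def N57 : Q := sm gc N33
/-- A coset. -/ def N58 : Q := sm ge N33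
/-- A coset. -/ def N59 : Q := sm gf N33
/-- A coset. -/ def N60 : Q := sm gb N36
/-- A coset. -/ def N61 : Q := sm ge N36
/-- A coset. -/ def N62 : Q := sm gc N38
/-- A coset. -/ def N63 : Q := sm ge N38
/-- A coset. -/ def N64 : Q := sm gf N38
/-- A coset. -/ def N65 : Q := sm gb N40
/-- A coset. -/ def N66 : Q := sm gd N40
/-- A coset. -/ def N67 : Q := sm ge N40
/-- A coset. -/ def N68 : Q := sm gf N40
/-- A coset. -/ def N69 : Q := sm gg N40
/-- A coset. -/ def N70 : Q := sm gf N41
/-- A coset. -/ def N71 : Q := sm gg N41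
/-- A coset. -/ def N72 : Q := sm gf N43
/-- A coset. -/ def N73 : Q := sm gb N44
/-- A coset. -/ def N74 : Q := sm ga N45
/-- A coset. -/ def N75 : Q := sm ge N45
/-- A coset. -/ def N76 : Q := sm gf N45
/-- A coset. -/ def N77 : Q := sm gg N45
/-- A coset. -/ def N78 : Q := sm gd N46
/-- A coset. -/ def N79 : Q := sm gb N47
/-- A coset. -/ def N80 : Q := sm ge N47
/-- A coset. -/ def N81 : Q := sm gf N47
/-- A coset. -/ def N82 : Q := sm gg N47
/-- A coset. -/ def N83 : Q := sm gd N48
/-- A coset. -/ def N84 : Q := sm gf N48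
/-- A coset. -/ def N85 : Q := sm gg N48
/-- A coset. -/ def N86 : Q := sm gb N49
/-- A coset. -/ def N87 : Q := sm gg N49
/-- A coset. -/ def N88 : Q := sm gf N50
/-- A coset. -/ def N89 : Q := sm gc N51
/-- A coset. -/ def N90 : Q := sm gf N51
/-- A coset. -/ def N91 : Q := sm gb N52
/-- A coset. -/ def N92 : Q := sm ga N53
/-- A coset. -/ def N93 : Q := sm gc N53
/-- A coset. -/ def N94 : Q := sm gg N53
/-- A coset. -/ def N95 : Q := sm gc N54
/-- A coset. -/ def N96 : Q := sm gg N54
/-- A coset. -/ def N97 : Q := sm gd N55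
/-- A coset. -/ def N98 : Q := sm gg N55
/-- A coset. -/ def N99 : Q := sm gb N57
/-- A coset. -/ def N100 : Q := sm gd N57
/-- A coset. -/ def N101 : Q := sm ge N57
/-- A coset. -/ def N102 : Q := sm gf N57
/-- A coset. -/ def N103 : Q := sm gf N58
/-- A coset. -/ def N104 : Q := sm ga N60
/-- A coset. -/ def N105 : Q := sm ge N60
/-- A coset. -/ def N106 : Q := sm gf N60
/-- A coset. -/ def N107 : Q := sm gg N60
/-- A coset. -/ def N108 : Q := sm gd N61
/-- A coset. -/ def N109 : Q := sm gb N62
/-- A coset. -/ def N110 : Q := sm gd N62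
/-- A coset. -/ def N111 : Q := sm ge N62
/-- A coset. -/ def N112 : Q := sm gf N62
/-- A coset. -/ def N113 : Q := sm gf N63
/-- A coset. -/ def N114 : Q := sm ga N65
/-- A coset. -/ def N115 : Q := sm gd N65
/-- A coset. -/ def N116 : Q := sm ge N65
/-- A coset. -/ def N117 : Q := sm gf N65
/-- A coset. -/ def N118 : Q := sm gg N65
/-- A coset. -/ def N119 : Q := sm gc N66
/-- A coset. -/ def N120 : Q := sm ge N66
/-- A coset. -/ def N121 : Q := sm gf N66
/-- A coset. -/ def N122 : Q := sm gd N67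
/-- A coset. -/ def N123 : Q := sm gf N67
/-- A coset. -/ def N124 : Q := sm gg N67
/-- A coset. -/ def N125 : Q := sm gb N68
/-- A coset. -/ def N126 : Q := sm gb N69
/-- A coset. -/ def N127 : Q := sm gf N69
/-- A coset. -/ def N128 : Q := sm gf N71
/-- A coset. -/ def N129 : Q := sm gb N72
/-- A coset. -/ def N130 : Q := sm gb N74
/-- A coset. -/ def N131 : Q := sm ge N74
/-- A coset. -/ def N132 : Q := sm gf N74
/-- A coset. -/ def N133 : Q := sm gg N74
/-- A coset. -/ def N134 : Q := sm gd N75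
/-- A coset. -/ def N135 : Q := sm gf N75
/-- A coset. -/ def N136 : Q := sm gg N75
/-- A coset. -/ def N137 : Q := sm gg N76
/-- A coset. -/ def N138 : Q := sm gf N77
/-- A coset. -/ def N139 : Q := sm gc N78
/-- A coset. -/ def N140 : Q := sm ga N79
/-- A coset. -/ def N141 : Q := sm gc N79
/-- A coset. -/ def N142 : Q := sm ge N79
/-- A coset. -/ def N143 : Q := sm gf N79
/-- A coset. -/ def N144 : Q := sm gg N79
/-- A coset. -/ def N145 : Q := sm gd N80
/-- A coset. -/ def N146 : Q := sm gf N80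
/-- A coset. -/ def N147 : Q := sm gg N80
/-- A coset. -/ def N148 : Q := sm gb N81
/-- A coset. -/ def N149 : Q := sm gb N82
/-- A coset. -/ def N150 : Q := sm gc N83
/-- A coset. -/ def N151 : Q := sm gf N83
/-- A coset. -/ def N152 : Q := sm gg N83
/-- A coset. -/ def N153 : Q := sm gb N84
/-- A coset. -/ def N154 : Q := sm gg N84
/-- A coset. -/ def N155 : Q := sm gf N85
/-- A coset. -/ def N156 : Q := sm ga N86
/-- A coset. -/ def N157 : Q := sm gc N86
/-- A coset. -/ def N158 : Q := sm gg N86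
/-- A coset. -/ def N159 : Q := sm gb N87
/-- A coset. -/ def N160 : Q := sm gb N88
/-- A coset. -/ def N161 : Q := sm gb N89
/-- A coset. -/ def N162 : Q := sm gf N89
/-- A coset. -/ def N163 : Q := sm gb N90
/-- A coset. -/ def N164 : Q := sm ga N91
/-- A coset. -/ def N165 : Q := sm gc N91
/-- A coset. -/ def N166 : Q := sm gg N91
/-- A coset. -/ def N167 : Q := sm gb N92
/-- A coset. -/ def N168 : Q := sm gc N92
/-- A coset. -/ def N169 : Q := sm gg N92
/-- A coset. -/ def N170 : Q := sm gd N93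
/-- A coset. -/ def N171 : Q := sm gg N93
/-- A coset. -/ def N172 : Q := sm gf N94
/-- A coset. -/ def N173 : Q := sm gd N95
/-- A coset. -/ def N174 : Q := sm gg N95
/-- A coset. -/ def N175 : Q := sm ge N97
/-- A coset. -/ def N176 : Q := sm gg N97
/-- A coset. -/ def N177 : Q := sm gb N98
/-- A coset. -/ def N178 : Q := sm ga N99
/-- A coset. -/ def N179 : Q := sm gd N99
/-- A coset. -/ def N180 : Q := sm ge N99
/-- A coset. -/ def N181 : Q := sm gf N99
/-- A coset. -/ def N182 : Q := sm gg N99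
/-- A coset. -/ def N183 : Q := sm ge N100
/-- A coset. -/ def N184 : Q := sm gf N100
/-- A coset. -/ def N185 : Q := sm gd N101
/-- A coset. -/ def N186 : Q := sm gf N101
/-- A coset. -/ def N187 : Q := sm gb N102
/-- A coset. -/ def N188 : Q := sm gb N104
/-- A coset. -/ def N189 : Q := sm ge N104
/-- A coset. -/ def N190 : Q := sm gf N104
/-- A coset. -/ def N191 : Q := sm gg N104
/-- A coset. -/ def N192 : Q := sm gd N105
/-- A coset. -/ def N193 : Q := sm gf N105
/-- A coset. -/ def N194 : Q := sm gg N105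
/-- A coset. -/ def N195 : Q := sm gg N106
/-- A coset. -/ def N196 : Q := sm gf N107
/-- A coset. -/ def N197 : Q := sm gc N108
/-- A coset. -/ def N198 : Q := sm ga N109
/-- A coset. -/ def N199 : Q := sm gd N109
/-- A coset. -/ def N200 : Q := sm ge N109
/-- A coset. -/ def N201 : Q := sm gf N109
/-- A coset. -/ def N202 : Q := sm gg N109
/-- A coset. -/ def N203 : Q := sm ge N110
/-- A coset. -/ def N204 : Q := sm gf N110
/-- A coset. -/ def N205 : Q := sm gd N111
/-- A coset. -/ def N206 : Q := sm gf N111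
/-- A coset. -/ def N207 : Q := sm gb N112
/-- A coset. -/ def N208 : Q := sm gb N114
/-- A coset. -/ def N209 : Q := sm gd N114
/-- A coset. -/ def N210 : Q := sm ge N114
/-- A coset. -/ def N211 : Q := sm gf N114
/-- A coset. -/ def N212 : Q := sm gg N114
/-- A coset. -/ def N213 : Q := sm ge N115
/-- A coset. -/ def N214 : Q := sm gf N115
/-- A coset. -/ def N215 : Q := sm gg N115
/-- A coset. -/ def N216 : Q := sm gd N116
/-- A coset. -/ def N217 : Q := sm gf N116
/-- A coset. -/ def N218 : Q := sm gg N116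
/-- A coset. -/ def N219 : Q := sm gb N117
/-- A coset. -/ def N220 : Q := sm gg N117
/-- A coset. -/ def N221 : Q := sm gb N118
/-- A coset. -/ def N222 : Q := sm gf N118
/-- A coset. -/ def N223 : Q := sm gb N119
/-- A coset. -/ def N224 : Q := sm ge N119
/-- A coset. -/ def N225 : Q := sm gf N119
/-- A coset. -/ def N226 : Q := sm gd N120
/-- A coset. -/ def N227 : Q := sm gf N120
/-- A coset. -/ def N228 : Q := sm gb N121
/-- A coset. -/ def N229 : Q := sm gc N122
/-- A coset. -/ def N230 : Q := sm gf N122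
/-- A coset. -/ def N231 : Q := sm gg N122
/-- A coset. -/ def N232 : Q := sm gb N123
/-- A coset. -/ def N233 : Q := sm gb N124
/-- A coset. -/ def N234 : Q := sm gf N124
/-- A coset. -/ def N235 : Q := sm ga N125
/-- A coset. -/ def N236 : Q := sm gg N125
/-- A coset. -/ def N237 : Q := sm ga N126
/-- A coset. -/ def N238 : Q := sm gf N126
/-- A coset. -/ def N239 : Q := sm gb N127
/-- A coset. -/ def N240 : Q := sm gb N128
/-- A coset. -/ def N241 : Q := sm gc N129
/-- A coset. -/ def N242 : Q := sm ga N130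
/-- A coset. -/ def N243 : Q := sm gc N130
/-- A coset. -/ def N244 : Q := sm ge N130
/-- A coset. -/ def N245 : Q := sm gf N130
/-- A coset. -/ def N246 : Q := sm gg N130
/-- A coset. -/ def N247 : Q := sm gd N131
/-- A coset. -/ def N248 : Q := sm gf N131
/-- A coset. -/ def N249 : Q := sm gg N131
/-- A coset. -/ def N250 : Q := sm gb N132
/-- A coset. -/ def N251 : Q := sm gb N133
/-- A coset. -/ def N252 : Q := sm gc N134
/-- A coset. -/ def N253 : Q := sm gf N134
/-- A coset. -/ def N254 : Q := sm gg N134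
/-- A coset. -/ def N255 : Q := sm gg N135
/-- A coset. -/ def N256 : Q := sm gf N136
/-- A coset. -/ def N257 : Q := sm gb N137
/-- A coset. -/ def N258 : Q := sm gb N138
/-- A coset. -/ def N259 : Q := sm gb N139
/-- A coset. -/ def N260 : Q := sm gc N140
/-- A coset. -/ def N261 : Q := sm ge N140
/-- A coset. -/ def N262 : Q := sm gf N140
/-- A coset. -/ def N263 : Q := sm gg N140
/-- A coset. -/ def N264 : Q := sm gd N141
/-- A coset. -/ def N265 : Q := sm ge N141
/-- A coset. -/ def N267 : Q := sm gg N141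
/-- A coset. -/ def N268 : Q := sm gd N142
/-- A coset. -/ def N269 : Q := sm gf N142
/-- A coset. -/ def N270 : Q := sm gg N142
/-- A coset. -/ def N271 : Q := sm gb N143
/-- A coset. -/ def N272 : Q := sm gg N143
/-- A coset. -/ def N273 : Q := sm gb N144
/-- A coset. -/ def N274 : Q := sm gf N144
/-- A coset. -/ def N275 : Q := sm gc N145
/-- A coset. -/ def N276 : Q := sm gf N145
/-- A coset. -/ def N277 : Q := sm gg N145
/-- A coset. -/ def N278 : Q := sm gb N146
/-- A coset. -/ def N279 : Q := sm gb N147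
/-- A coset. -/ def N280 : Q := sm ga N148
/-- A coset. -/ def N281 : Q := sm gc N148
/-- A coset. -/ def N282 : Q := sm gg N148
/-- A coset. -/ def N283 : Q := sm ga N149
/-- A coset. -/ def N284 : Q := sm gc N149
/-- A coset. -/ def N285 : Q := sm gf N149
/-- A coset. -/ def N286 : Q := sm gb N150
/-- A coset. -/ def N287 : Q := sm gd N150
/-- A coset. -/ def N288 : Q := sm gf N150
/-- A coset. -/ def N289 : Q := sm gg N150
/-- A coset. -/ def N290 : Q := sm gb N151
/-- A coset. -/ def N291 : Q := sm gg N151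
/-- A coset. -/ def N292 : Q := sm gf N152
/-- A coset. -/ def N293 : Q := sm ga N153
/-- A coset. -/ def N295 : Q := sm gg N153
/-- A coset. -/ def N296 : Q := sm gb N154
/-- A coset. -/ def N297 : Q := sm gb N155
/-- A coset. -/ def N298 : Q := sm gb N156
/-- A coset. -/ def N299 : Q := sm gc N156
/-- A coset. -/ def N300 : Q := sm gd N157
/-- A coset. -/ def N301 : Q := sm gg N157
/-- A coset. -/ def N302 : Q := sm gb N158
/-- A coset. -/ def N303 : Q := sm ga N159
/-- A coset. -/ def N304 : Q := sm gc N159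
/-- A coset. -/ def N305 : Q := sm gf N159
/-- A coset. -/ def N306 : Q := sm ga N160
/-- A coset. -/ def N307 : Q := sm gc N160
/-- A coset. -/ def N308 : Q := sm gg N160
/-- A coset. -/ def N309 : Q := sm ga N161
/-- A coset. -/ def N310 : Q := sm gf N161
/-- A coset. -/ def N311 : Q := sm gg N161
/-- A coset. -/ def N312 : Q := sm gb N162
/-- A coset. -/ def N313 : Q := sm ga N163
/-- A coset. -/ def N314 : Q := sm gc N163
/-- A coset. -/ def N315 : Q := sm gg N163
/-- A coset. -/ def N316 : Q := sm gb N164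
/-- A coset. -/ def N318 : Q := sm gg N164
/-- A coset. -/ def N320 : Q := sm gg N165
/-- A coset. -/ def N321 : Q := sm gf N166
/-- A coset. -/ def N322 : Q := sm ga N167
/-- A coset. -/ def N323 : Q := sm gc N167
/-- A coset. -/ def N324 : Q := sm gf N167
/-- A coset. -/ def N325 : Q := sm gg N167
/-- A coset. -/ def N326 : Q := sm gb N168
/-- A coset. -/ def N327 : Q := sm gd N168
/-- A coset. -/ def N328 : Q := sm gg N168
/-- A coset. -/ def N329 : Q := sm gb N169
/-- A coset. -/ def N330 : Q := sm gc N170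
/-- A coset. -/ def N333 : Q := sm gb N171
/-- A coset. -/ def N334 : Q := sm gf N171
/-- A coset. -/ def N335 : Q := sm gb N172
/-- A coset. -/ def N337 : Q := sm ge N173
/-- A coset. -/ def N338 : Q := sm gg N173
/-- A coset. -/ def N339 : Q := sm gb N174
/-- A coset. -/ def N340 : Q := sm gg N175
/-- A coset. -/ def N341 : Q := sm gb N176
/-- A coset. -/ def N342 : Q := sm ga N177
/-- A coset. -/ def N343 : Q := sm gf N177
/-- A coset. -/ def N344 : Q := sm gb N178
/-- A coset. -/ def N345 : Q := sm gd N178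
/-- A coset. -/ def N346 : Q := sm ge N178
/-- A coset. -/ def N347 : Q := sm gf N178
/-- A coset. -/ def N348 : Q := sm gg N178
/-- A coset. -/ def N349 : Q := sm gc N179
/-- A coset. -/ def N350 : Q := sm ge N179
/-- A coset. -/ def N351 : Q := sm gf N179
/-- A coset. -/ def N352 : Q := sm gg N179
/-- A coset. -/ def N353 : Q := sm gd N180
/-- A coset. -/ def N354 : Q := sm gf N180
/-- A coset. -/ def N355 : Q := sm gg N180
/-- A coset. -/ def N356 : Q := sm gb N181
/-- A coset. -/ def N357 : Q := sm gg N181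
/-- A coset. -/ def N358 : Q := sm gf N182
/-- A coset. -/ def N359 : Q := sm gd N183
/-- A coset. -/ def N360 : Q := sm gf N183
/-- A coset. -/ def N361 : Q := sm gb N184
/-- A coset. -/ def N362 : Q := sm gc N185
/-- A coset. -/ def N363 : Q := sm gf N185
/-- A coset. -/ def N364 : Q := sm gb N186
/-- A coset. -/ def N365 : Q := sm ga N187
/-- A coset. -/ def N366 : Q := sm gg N187
/-- A coset. -/ def N367 : Q := sm ga N188
/-- A coset. -/ def N368 : Q := sm gc N188
/-- A coset. -/ def N369 : Q := sm ge N188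
/-- A coset. -/ def N370 : Q := sm gf N188
/-- A coset. -/ def N371 : Q := sm gg N188
/-- A coset. -/ def N372 : Q := sm gd N189
/-- A coset. -/ def N373 : Q := sm gf N189
/-- A coset. -/ def N374 : Q := sm gg N189
/-- A coset. -/ def N375 : Q := sm gb N190
/-- A coset. -/ def N376 : Q := sm gb N191
/-- A coset. -/ def N377 : Q := sm gc N192
/-- A coset. -/ def N378 : Q := sm gf N192
/-- A coset. -/ def N379 : Q := sm gg N192
/-- A coset. -/ def N380 : Q := sm gg N193
/-- A coset. -/ def N381 : Q := sm gf N194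
/-- A coset. -/ def N382 : Q := sm gb N195
/-- A coset. -/ def N383 : Q := sm gb N196
/-- A coset. -/ def N384 : Q := sm gb N197
/-- A coset. -/ def N385 : Q := sm gb N198
/-- A coset. -/ def N386 : Q := sm gd N198
/-- A coset. -/ def N387 : Q := sm ge N198
/-- A coset. -/ def N388 : Q := sm gf N198
/-- A coset. -/ def N389 : Q := sm gg N198
/-- A coset. -/ def N390 : Q := sm gc N199
/-- A coset. -/ def N391 : Q := sm ge N199
/-- A coset. -/ def N392 : Q := sm gf N199
/-- A coset. -/ def N393 : Q := sm gg N199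
/-- A coset. -/ def N395 : Q := sm gf N200
/-- A coset. -/ def N396 : Q := sm gg N200
/-- A coset. -/ def N397 : Q := sm gb N201
/-- A coset. -/ def N399 : Q := sm gf N202
/-- A coset. -/ def N400 : Q := sm gd N203
/-- A coset. -/ def N401 : Q := sm gf N203
/-- A coset. -/ def N402 : Q := sm gb N204
/-- A coset. -/ def N403 : Q := sm gc N205
/-- A coset. -/ def N404 : Q := sm gf N205
/-- A coset. -/ def N405 : Q := sm gb N206
/-- A coset. -/ def N406 : Q := sm ga N207
/-- A coset. -/ def N408 : Q := sm ga N208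
/-- A coset. -/ def N409 : Q := sm gc N208
/-- A coset. -/ def N410 : Q := sm gd N208
/-- A coset. -/ def N411 : Q := sm ge N208
/-- A coset. -/ def N412 : Q := sm gf N208
/-- A coset. -/ def N413 : Q := sm gg N208
/-- A coset. -/ def N414 : Q := sm ge N209
/-- A coset. -/ def N415 : Q := sm gf N209
/-- A coset. -/ def N416 : Q := sm gg N209
/-- A coset. -/ def N417 : Q := sm gd N210
/-- A coset. -/ def N418 : Q := sm gf N210
/-- A coset. -/ def N419 : Q := sm gg N210
/-- A coset. -/ def N420 : Q := sm gb N211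
/-- A coset. -/ def N421 : Q := sm gb N212
/-- A coset. -/ def N422 : Q := sm gd N213
/-- A coset. -/ def N423 : Q := sm gf N213
/-- A coset. -/ def N424 : Q := sm gg N213
/-- A coset. -/ def N425 : Q := sm gb N214
/-- A coset. -/ def N426 : Q := sm gg N214
/-- A coset. -/ def N427 : Q := sm gb N215
/-- A coset. -/ def N428 : Q := sm gf N215
/-- A coset. -/ def N429 : Q := sm gc N216
/-- A coset. -/ def N430 : Q := sm gf N216
/-- A coset. -/ def N431 : Q := sm gg N216
/-- A coset. -/ def N432 : Q := sm gb N217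
/-- A coset. -/ def N433 : Q := sm gg N217
/-- A coset. -/ def N435 : Q := sm gf N218
/-- A coset. -/ def N436 : Q := sm ga N219
/-- A coset. -/ def N437 : Q := sm gg N219
/-- A coset. -/ def N438 : Q := sm gb N220
/-- A coset. -/ def N439 : Q := sm ga N221
/-- A coset. -/ def N440 : Q := sm gf N221
/-- A coset. -/ def N441 : Q := sm gb N222
/-- A coset. -/ def N442 : Q := sm ga N223
/-- A coset. -/ def N443 : Q := sm ge N223
/-- A coset. -/ def N444 : Q := sm gf N223
/-- A coset. -/ def N445 : Q := sm gd N224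
/-- A coset. -/ def N446 : Q := sm gf N224
/-- A coset. -/ def N447 : Q := sm gb N225
/-- A coset. -/ def N448 : Q := sm gc N226
/-- A coset. -/ def N449 : Q := sm gf N226
/-- A coset. -/ def N450 : Q := sm gb N227
/-- A coset. -/ def N451 : Q := sm ga N228
/-- A coset. -/ def N452 : Q := sm gc N228
/-- A coset. -/ def N453 : Q := sm gg N228
/-- A coset. -/ def N454 : Q := sm gb N229
/-- A coset. -/ def N455 : Q := sm gf N229
/-- A coset. -/ def N456 : Q := sm gg N229
/-- A coset. -/ def N457 : Q := sm gb N230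
/-- A coset. -/ def N458 : Q := sm gb N231
/-- A coset. -/ def N459 : Q := sm gf N231
/-- A coset. -/ def N460 : Q := sm ga N232
/-- A coset. -/ def N461 : Q := sm gg N232
/-- A coset. -/ def N462 : Q := sm ga N233
/-- A coset. -/ def N463 : Q := sm gf N233
/-- A coset. -/ def N464 : Q := sm gb N234
/-- A coset. -/ def N465 : Q := sm gb N235
/-- A coset. -/ def N466 : Q := sm gg N235
/-- A coset. -/ def N467 : Q := sm gf N236
/-- A coset. -/ def N468 : Q := sm gb N237
/-- A coset. -/ def N469 : Q := sm gf N237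
/-- A coset. -/ def N470 : Q := sm gb N238
/-- A coset. -/ def N471 : Q := sm gg N238
/-- A coset. -/ def N472 : Q := sm ga N239
/-- A coset. -/ def N473 : Q := sm gc N239
/-- A coset. -/ def N474 : Q := sm gg N239
/-- A coset. -/ def N475 : Q := sm gc N240
/-- A coset. -/ def N476 : Q := sm gd N241
/-- A coset. -/ def N477 : Q := sm ge N242
/-- A coset. -/ def N478 : Q := sm gf N242
/-- A coset. -/ def N479 : Q := sm gg N242
/-- A coset. -/ def N481 : Q := sm ge N243
/-- A coset. -/ def N482 : Q := sm gf N243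
/-- A coset. -/ def N483 : Q := sm gg N243
/-- A coset. -/ def N484 : Q := sm gd N244
/-- A coset. -/ def N485 : Q := sm gf N244
/-- A coset. -/ def N486 : Q := sm gg N244
/-- A coset. -/ def N487 : Q := sm gb N245
/-- A coset. -/ def N488 : Q := sm gg N245
/-- A coset. -/ def N489 : Q := sm gb N246
/-- A coset. -/ def N490 : Q := sm gf N246
/-- A coset. -/ def N491 : Q := sm gc N247
/-- A coset. -/ def N492 : Q := sm gf N247
/-- A coset. -/ def N493 : Q := sm gg N247
/-- A coset. -/ def N494 : Q := sm gb N248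
/-- A coset. -/ def N495 : Q := sm gb N249
/-- A coset. -/ def N496 : Q := sm ga N250
/-- A coset. -/ def N497 : Q := sm gc N250
/-- A coset. -/ def N498 : Q := sm gg N250
/-- A coset. -/ def N499 : Q := sm ga N251
/-- A coset. -/ def N500 : Q := sm gc N251
/-- A coset. -/ def N501 : Q := sm gf N251
/-- A coset. -/ def N502 : Q := sm gb N252
/-- A coset. -/ def N503 : Q := sm gd N252
/-- A coset. -/ def N504 : Q := sm gf N252
/-- A coset. -/ def N505 : Q := sm gg N252
/-- A coset. -/ def N506 : Q := sm gg N253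
/-- A coset. -/ def N507 : Q := sm gf N254
/-- A coset. -/ def N508 : Q := sm gb N255
/-- A coset. -/ def N509 : Q := sm gb N256
/-- A coset. -/ def N510 : Q := sm ga N257
/-- A coset. -/ def N511 : Q := sm gc N257
/-- A coset. -/ def N512 : Q := sm gf N257
/-- A coset. -/ def N513 : Q := sm ga N258
/-- A coset. -/ def N514 : Q := sm gc N258
/-- A coset. -/ def N515 : Q := sm gg N258
/-- A coset. -/ def N516 : Q := sm ga N259
/-- A coset. -/ def N517 : Q := sm gf N259
/-- A coset. -/ def N518 : Q := sm gg N259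
/-- A coset. -/ def N519 : Q := sm gd N260
/-- A coset. -/ def N520 : Q := sm ge N260
/-- A coset. -/ def N521 : Q := sm gf N260
/-- A coset. -/ def N522 : Q := sm gg N260
/-- A coset. -/ def N523 : Q := sm gd N261
/-- A coset. -/ def N525 : Q := sm gg N261
/-- A coset. -/ def N526 : Q := sm gb N262
/-- A coset. -/ def N527 : Q := sm gb N263
/-- A coset. -/ def N529 : Q := sm ge N264
/-- A coset. -/ def N530 : Q := sm gf N264
/-- A coset. -/ def N531 : Q := sm gg N264
/-- A coset. -/ def N532 : Q := sm gd N265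
/-- A coset. -/ def N533 : Q := sm gf N265
/-- A coset. -/ def N534 : Q := sm gg N265
/-- A coset. -/ def N537 : Q := sm gb N267
/-- A coset. -/ def N538 : Q := sm gf N267
/-- A coset. -/ def N539 : Q := sm gc N268
/-- A coset. -/ def N540 : Q := sm gf N268
/-- A coset. -/ def N541 : Q := sm gg N268
/-- A coset. -/ def N542 : Q := sm gb N269
/-- A coset. -/ def N544 : Q := sm gb N270
/-- A coset. -/ def N546 : Q := sm ga N271
/-- A coset. -/ def N547 : Q := sm gc N271
/-- A coset. -/ def N549 : Q := sm gb N272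
/-- A coset. -/ def N550 : Q := sm ga N273
/-- A coset. -/ def N551 : Q := sm gc N273
/-- A coset. -/ def N552 : Q := sm gf N273
/-- A coset. -/ def N553 : Q := sm gb N274
/-- A coset. -/ def N554 : Q := sm gb N275
/-- A coset. -/ def N555 : Q := sm gd N275
/-- A coset. -/ def N556 : Q := sm gf N275
/-- A coset. -/ def N557 : Q := sm gg N275
/-- A coset. -/ def N558 : Q := sm gb N276
/-- A coset. -/ def N559 : Q := sm gb N277
/-- A coset. -/ def N560 : Q := sm ga N278
/-- A coset. -/ def N561 : Q := sm gc N278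
/-- A coset. -/ def N562 : Q := sm gg N278
/-- A coset. -/ def N563 : Q := sm ga N279
/-- A coset. -/ def N564 : Q := sm gc N279
/-- A coset. -/ def N565 : Q := sm gf N279
/-- A coset. -/ def N566 : Q := sm gb N280
/-- A coset. -/ def N567 : Q := sm gc N280
/-- A coset. -/ def N568 : Q := sm gg N280
/-- A coset. -/ def N569 : Q := sm gd N281
/-- A coset. -/ def N570 : Q := sm gg N281
/-- A coset. -/ def N571 : Q := sm gf N282
/-- A coset. -/ def N572 : Q := sm gb N283
/-- A coset. -/ def N573 : Q := sm gc N283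
/-- A coset. -/ def N574 : Q := sm gf N283
/-- A coset. -/ def N575 : Q := sm gd N284
/-- A coset. -/ def N576 : Q := sm gf N284
/-- A coset. -/ def N577 : Q := sm gg N285
/-- A coset. -/ def N578 : Q := sm ga N286
/-- A coset. -/ def N579 : Q := sm gd N286
/-- A coset. -/ def N580 : Q := sm gf N286
/-- A coset. -/ def N581 : Q := sm gg N286
/-- A coset. -/ def N582 : Q := sm ge N287
/-- A coset. -/ def N583 : Q := sm gf N287
/-- A coset. -/ def N584 : Q := sm gg N287
/-- A coset. -/ def N585 : Q := sm gb N288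
/-- A coset. -/ def N586 : Q := sm gg N288
/-- A coset. -/ def N587 : Q := sm gb N289
/-- A coset. -/ def N588 : Q := sm gf N289
/-- A coset. -/ def N589 : Q := sm ga N290
/-- A coset. -/ def N590 : Q := sm gc N290
/-- A coset. -/ def N591 : Q := sm gg N290
/-- A coset. -/ def N592 : Q := sm gb N291
/-- A coset. -/ def N593 : Q := sm gb N292
/-- A coset. -/ def N594 : Q := sm gb N293
/-- A coset. -/ def N598 : Q := sm gb N295
/-- A coset. -/ def N599 : Q := sm ga N296
/-- A coset. -/ def N600 : Q := sm gc N296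
/-- A coset. -/ def N601 : Q := sm gf N296
/-- A coset. -/ def N602 : Q := sm ga N297
/-- A coset. -/ def N603 : Q := sm gc N297
/-- A coset. -/ def N604 : Q := sm gg N297
/-- A coset. -/ def N605 : Q := sm ga N298
/-- A coset. -/ def N606 : Q := sm gc N298
/-- A coset. -/ def N607 : Q := sm gf N298
/-- A coset. -/ def N608 : Q := sm gg N298
/-- A coset. -/ def N610 : Q := sm gd N299
/-- A coset. -/ def N611 : Q := sm gc N300
/-- A coset. -/ def N612 : Q := sm ge N300
/-- A coset. -/ def N614 : Q := sm gb N301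
/-- A coset. -/ def N615 : Q := sm ga N302
/-- A coset. -/ def N616 : Q := sm gc N302
/-- A coset. -/ def N617 : Q := sm gf N302
/-- A coset. -/ def N618 : Q := sm gb N303
/-- A coset. -/ def N619 : Q := sm gc N303
/-- A coset. -/ def N620 : Q := sm gf N303
/-- A coset. -/ def N621 : Q := sm gd N304
/-- A coset. -/ def N622 : Q := sm gf N304
/-- A coset. -/ def N623 : Q := sm gg N305
/-- A coset. -/ def N624 : Q := sm gb N306
/-- A coset. -/ def N625 : Q := sm gc N306
/-- A coset. -/ def N626 : Q := sm gg N306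
/-- A coset. -/ def N627 : Q := sm gd N307
/-- A coset. -/ def N628 : Q := sm gg N307
/-- A coset. -/ def N629 : Q := sm gb N309
/-- A coset. -/ def N630 : Q := sm gf N309
/-- A coset. -/ def N631 : Q := sm gg N309
/-- A coset. -/ def N632 : Q := sm gb N310
/-- A coset. -/ def N633 : Q := sm gg N310
/-- A coset. -/ def N634 : Q := sm gf N311
/-- A coset. -/ def N635 : Q := sm ga N312
/-- A coset. -/ def N636 : Q := sm gc N312
/-- A coset. -/ def N637 : Q := sm gg N312
/-- A coset. -/ def N639 : Q := sm gc N313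
/-- A coset. -/ def N640 : Q := sm gg N313
/-- A coset. -/ def N641 : Q := sm gd N314
/-- A coset. -/ def N642 : Q := sm gg N314
/-- A coset. -/ def N643 : Q := sm gf N315
/-- A coset. -/ def N644 : Q := sm ga N316
/-- A coset. -/ def N646 : Q := sm gf N316
/-- A coset. -/ def N647 : Q := sm gg N316
/-- A coset. -/ def N651 : Q := sm gb N318
/-- A coset. -/ def N655 : Q := sm gb N320
/-- A coset. -/ def N657 : Q := sm gb N321
/-- A coset. -/ def N658 : Q := sm gc N322
/-- A coset. -/ def N659 : Q := sm gf N322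
/-- A coset. -/ def N661 : Q := sm gb N323
/-- A coset. -/ def N662 : Q := sm gd N323
/-- A coset. -/ def N663 : Q := sm gf N323
/-- A coset. -/ def N666 : Q := sm gb N325
/-- A coset. -/ def N667 : Q := sm gf N325
/-- A coset. -/ def N668 : Q := sm ga N326
/-- A coset. -/ def N670 : Q := sm gf N326
/-- A coset. -/ def N671 : Q := sm gg N326
/-- A coset. -/ def N673 : Q := sm ge N327
/-- A coset. -/ def N675 : Q := sm gb N328
/-- A coset. -/ def N676 : Q := sm ga N329
/-- A coset. -/ def N677 : Q := sm gc N329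
/-- A coset. -/ def N678 : Q := sm gf N329
/-- A coset. -/ def N679 : Q := sm gd N330
/-- A coset. -/ def N681 : Q := sm gg N330
/-- A coset. -/ def N685 : Q := sm ga N333
/-- A coset. -/ def N689 : Q := sm gc N335
/-- A coset. -/ def N690 : Q := sm gg N335
/-- A coset. -/ def N694 : Q := sm gg N337
/-- A coset. -/ def N696 : Q := sm ga N339
/-- A coset. -/ def N697 : Q := sm gf N339
/-- A coset. -/ def N698 : Q := sm gb N340
/-- A coset. -/ def N699 : Q := sm ga N341
/-- A coset. -/ def N700 : Q := sm gc N341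
/-- A coset. -/ def N703 : Q := sm gg N343
/-- A coset. -/ def N704 : Q := sm ga N344
/-- A coset. -/ def N705 : Q := sm gc N344
/-- A coset. -/ def N706 : Q := sm gd N344
/-- A coset. -/ def N707 : Q := sm ge N344
/-- A coset. -/ def N709 : Q := sm gg N344
/-- A coset. -/ def N711 : Q := sm gf N345
/-- A coset. -/ def N712 : Q := sm gg N345
/-- A coset. -/ def N713 : Q := sm gd N346
/-- A coset. -/ def N716 : Q := sm gb N347
/-- A coset. -/ def N717 : Q := sm gb N348
/-- A coset. -/ def N719 : Q := sm gf N349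
/-- A coset. -/ def N720 : Q := sm gg N349
/-- A coset. -/ def N721 : Q := sm gd N350
/-- A coset. -/ def N722 : Q := sm gf N350
/-- A coset. -/ def N724 : Q := sm gb N351
/-- A coset. -/ def N726 : Q := sm gf N352
/-- A coset. -/ def N727 : Q := sm gc N353
/-- A coset. -/ def N728 : Q := sm gf N353
/-- A coset. -/ def N729 : Q := sm gg N353
/-- A coset. -/ def N730 : Q := sm gb N354
/-- A coset. -/ def N731 : Q := sm gg N354
/-- A coset. -/ def N733 : Q := sm ga N356
/-- A coset. -/ def N734 : Q := sm gg N356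
/-- A coset. -/ def N735 : Q := sm gb N357
/-- A coset. -/ def N736 : Q := sm gb N358
/-- A coset. -/ def N737 : Q := sm gc N359
/-- A coset. -/ def N738 : Q := sm gf N359
/-- A coset. -/ def N739 : Q := sm gb N360
/-- A coset. -/ def N740 : Q := sm ga N361
/-- A coset. -/ def N741 : Q := sm gc N361
/-- A coset. -/ def N742 : Q := sm gg N361
/-- A coset. -/ def N743 : Q := sm gb N362
/-- A coset. -/ def N744 : Q := sm gf N362
/-- A coset. -/ def N745 : Q := sm gb N363
/-- A coset. -/ def N746 : Q := sm ga N364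
/-- A coset. -/ def N747 : Q := sm gg N364
/-- A coset. -/ def N748 : Q := sm gb N365
/-- A coset. -/ def N749 : Q := sm gg N365
/-- A coset. -/ def N750 : Q := sm gf N366
/-- A coset. -/ def N751 : Q := sm gc N367
/-- A coset. -/ def N752 : Q := sm ge N367
/-- A coset. -/ def N753 : Q := sm gf N367
/-- A coset. -/ def N754 : Q := sm gg N367
/-- A coset. -/ def N758 : Q := sm gg N368
/-- A coset. -/ def N760 : Q := sm gf N369
/-- A coset. -/ def N761 : Q := sm gg N369
/-- A coset. -/ def N762 : Q := sm gb N370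
/-- A coset. -/ def N763 : Q := sm gg N370
/-- A coset. -/ def N764 : Q := sm gb N371
/-- A coset. -/ def N765 : Q := sm gf N371
/-- A coset. -/ def N766 : Q := sm gc N372
/-- A coset. -/ def N767 : Q := sm gf N372
/-- A coset. -/ def N768 : Q := sm gg N372
/-- A coset. -/ def N769 : Q := sm gb N373
/-- A coset. -/ def N770 : Q := sm gb N374
/-- A coset. -/ def N771 : Q := sm ga N375
/-- A coset. -/ def N772 : Q := sm gc N375
/-- A coset. -/ def N775 : Q := sm gc N376
/-- A coset. -/ def N776 : Q := sm gf N376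
/-- A coset. -/ def N777 : Q := sm gb N377
/-- A coset. -/ def N778 : Q := sm gd N377
/-- A coset. -/ def N779 : Q := sm gf N377
/-- A coset. -/ def N780 : Q := sm gg N377
/-- A coset. -/ def N781 : Q := sm gg N378
/-- A coset. -/ def N782 : Q := sm gf N379
/-- A coset. -/ def N783 : Q := sm gb N380
/-- A coset. -/ def N784 : Q := sm gb N381
/-- A coset. -/ def N785 : Q := sm ga N382
/-- A coset. -/ def N786 : Q := sm gc N382
/-- A coset. -/ def N787 : Q := sm gf N382
/-- A coset. -/ def N789 : Q := sm gc N383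
/-- A coset. -/ def N791 : Q := sm ga N384
/-- A coset. -/ def N792 : Q := sm gf N384
/-- A coset. -/ def N793 : Q := sm gg N384
/-- A coset. -/ def N795 : Q := sm ge N385
/-- A coset. -/ def N796 : Q := sm gf N385
/-- A coset. -/ def N797 : Q := sm gg N385
/-- A coset. -/ def N799 : Q := sm ge N386
/-- A coset. -/ def N800 : Q := sm gf N386
/-- A coset. -/ def N801 : Q := sm gg N386
/-- A coset. -/ def N803 : Q := sm gf N387
/-- A coset. -/ def N804 : Q := sm gg N387
/-- A coset. -/ def N805 : Q := sm gb N388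
/-- A coset. -/ def N806 : Q := sm gb N389
/-- A coset. -/ def N807 : Q := sm gd N390
/-- A coset. -/ def N809 : Q := sm gf N390
/-- A coset. -/ def N810 : Q := sm gg N390
/-- A coset. -/ def N812 : Q := sm gf N391
/-- A coset. -/ def N813 : Q := sm gg N391
/-- A coset. -/ def N814 : Q := sm gb N392
/-- A coset. -/ def N815 : Q := sm gg N392
/-- A coset. -/ def N820 : Q := sm gb N395
/-- A coset. -/ def N822 : Q := sm gf N396
/-- A coset. -/ def N823 : Q := sm ga N397
/-- A coset. -/ def N824 : Q := sm gg N397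
/-- A coset. -/ def N826 : Q := sm gb N399
/-- A coset. -/ def N827 : Q := sm gc N400
/-- A coset. -/ def N828 : Q := sm gf N400
/-- A coset. -/ def N829 : Q := sm gb N401
/-- A coset. -/ def N832 : Q := sm gg N402
/-- A coset. -/ def N833 : Q := sm gb N403
/-- A coset. -/ def N834 : Q := sm gf N403
/-- A coset. -/ def N835 : Q := sm gb N404
/-- A coset. -/ def N836 : Q := sm ga N405
/-- A coset. -/ def N837 : Q := sm gg N405
/-- A coset. -/ def N839 : Q := sm gg N406
/-- A coset. -/ def N841 : Q := sm gd N408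
/-- A coset. -/ def N842 : Q := sm ge N408
/-- A coset. -/ def N843 : Q := sm gf N408
/-- A coset. -/ def N844 : Q := sm gg N408
/-- A coset. -/ def N845 : Q := sm ge N410
/-- A coset. -/ def N846 : Q := sm gf N410
/-- A coset. -/ def N847 : Q := sm gg N410
/-- A coset. -/ def N848 : Q := sm gd N411
/-- A coset. -/ def N849 : Q := sm gf N411
/-- A coset. -/ def N850 : Q := sm gg N411
/-- A coset. -/ def N851 : Q := sm gb N412
/-- A coset. -/ def N852 : Q := sm gg N412
/-- A coset. -/ def N853 : Q := sm gb N413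
/-- A coset. -/ def N854 : Q := sm gf N413
/-- A coset. -/ def N855 : Q := sm gd N414
/-- A coset. -/ def N856 : Q := sm gf N414
/-- A coset. -/ def N857 : Q := sm gg N414
/-- A coset. -/ def N858 : Q := sm gb N415
/-- A coset. -/ def N860 : Q := sm gc N417
/-- A coset. -/ def N861 : Q := sm gf N417
/-- A coset. -/ def N862 : Q := sm gg N417
/-- A coset. -/ def N863 : Q := sm gb N418
/-- A coset. -/ def N864 : Q := sm gb N419
/-- A coset. -/ def N865 : Q := sm ga N420
/-- A coset. -/ def N866 : Q := sm gc N420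
/-- A coset. -/ def N868 : Q := sm ga N421
/-- A coset. -/ def N869 : Q := sm gc N421
/-- A coset. -/ def N870 : Q := sm gf N421
/-- A coset. -/ def N871 : Q := sm gc N422
/-- A coset. -/ def N872 : Q := sm gf N422
/-- A coset. -/ def N873 : Q := sm gg N422
/-- A coset. -/ def N874 : Q := sm gb N423
/-- A coset. -/ def N875 : Q := sm gg N423
/-- A coset. -/ def N876 : Q := sm gb N424
/-- A coset. -/ def N877 : Q := sm gf N424
/-- A coset. -/ def N878 : Q := sm ga N425
/-- A coset. -/ def N879 : Q := sm gc N425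
/-- A coset. -/ def N880 : Q := sm gg N425
/-- A coset. -/ def N881 : Q := sm gb N426
/-- A coset. -/ def N882 : Q := sm ga N427
/-- A coset. -/ def N884 : Q := sm gb N428
/-- A coset. -/ def N885 : Q := sm gb N429
/-- A coset. -/ def N886 : Q := sm gd N429
/-- A coset. -/ def N887 : Q := sm gf N429
/-- A coset. -/ def N888 : Q := sm gg N429
/-- A coset. -/ def N889 : Q := sm gb N430
/-- A coset. -/ def N890 : Q := sm gg N430
/-- A coset. -/ def N891 : Q := sm gb N431
/-- A coset. -/ def N892 : Q := sm gf N431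
/-- A coset. -/ def N893 : Q := sm ga N432
/-- A coset. -/ def N894 : Q := sm gg N432
/-- A coset. -/ def N895 : Q := sm gb N433
/-- A coset. -/ def N898 : Q := sm gb N435
/-- A coset. -/ def N899 : Q := sm gb N436
/-- A coset. -/ def N900 : Q := sm gb N437
/-- A coset. -/ def N901 : Q := sm ga N438
/-- A coset. -/ def N903 : Q := sm gf N438
/-- A coset. -/ def N904 : Q := sm gb N439
/-- A coset. -/ def N905 : Q := sm gb N440
/-- A coset. -/ def N907 : Q := sm gc N441
/-- A coset. -/ def N908 : Q := sm gg N441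
/-- A coset. -/ def N910 : Q := sm ge N442
/-- A coset. -/ def N911 : Q := sm gf N442
/-- A coset. -/ def N912 : Q := sm gd N443
/-- A coset. -/ def N913 : Q := sm gf N443
/-- A coset. -/ def N914 : Q := sm gb N444
/-- A coset. -/ def N915 : Q := sm gg N444
/-- A coset. -/ def N916 : Q := sm gc N445
/-- A coset. -/ def N917 : Q := sm gf N445
/-- A coset. -/ def N918 : Q := sm gb N446
/-- A coset. -/ def N919 : Q := sm ga N447
/-- A coset. -/ def N920 : Q := sm gc N447
/-- A coset. -/ def N922 : Q := sm gb N448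
/-- A coset. -/ def N923 : Q := sm gd N448
/-- A coset. -/ def N924 : Q := sm gf N448
/-- A coset. -/ def N925 : Q := sm gb N449
/-- A coset. -/ def N926 : Q := sm ga N450
/-- A coset. -/ def N927 : Q := sm gc N450
/-- A coset. -/ def N928 : Q := sm gg N450
/-- A coset. -/ def N929 : Q := sm gb N451
/-- A coset. -/ def N930 : Q := sm gc N451
/-- A coset. -/ def N931 : Q := sm gg N451
/-- A coset. -/ def N932 : Q := sm gd N452
/-- A coset. -/ def N933 : Q := sm gg N452
/-- A coset. -/ def N934 : Q := sm gf N453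
/-- A coset. -/ def N935 : Q := sm ga N454
/-- A coset. -/ def N936 : Q := sm gf N454
/-- A coset. -/ def N937 : Q := sm gg N454
/-- A coset. -/ def N938 : Q := sm gb N455
/-- A coset. -/ def N939 : Q := sm gb N456
/-- A coset. -/ def N940 : Q := sm gf N456
/-- A coset. -/ def N941 : Q := sm ga N457
/-- A coset. -/ def N942 : Q := sm gc N457
/-- A coset. -/ def N943 : Q := sm gg N457
/-- A coset. -/ def N944 : Q := sm ga N458
/-- A coset. -/ def N945 : Q := sm gc N458
/-- A coset. -/ def N946 : Q := sm gf N458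
/-- A coset. -/ def N947 : Q := sm gb N459
/-- A coset. -/ def N948 : Q := sm gb N460
/-- A coset. -/ def N949 : Q := sm gg N460
/-- A coset. -/ def N950 : Q := sm gf N461
/-- A coset. -/ def N953 : Q := sm gb N463
/-- A coset. -/ def N955 : Q := sm ga N464
/-- A coset. -/ def N956 : Q := sm gc N464
/-- A coset. -/ def N957 : Q := sm gg N464
/-- A coset. -/ def N958 : Q := sm ga N465
/-- A coset. -/ def N959 : Q := sm gc N465
/-- A coset. -/ def N960 : Q := sm gf N465
/-- A coset. -/ def N961 : Q := sm gg N465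
/-- A coset. -/ def N962 : Q := sm gb N466
/-- A coset. -/ def N963 : Q := sm gb N467
/-- A coset. -/ def N964 : Q := sm gf N468
/-- A coset. -/ def N965 : Q := sm gg N468
/-- A coset. -/ def N966 : Q := sm gb N469
/-- A coset. -/ def N967 : Q := sm ga N470
/-- A coset. -/ def N968 : Q := sm gc N470
/-- A coset. -/ def N970 : Q := sm gb N471
/-- A coset. -/ def N971 : Q := sm gb N472
/-- A coset. -/ def N972 : Q := sm gc N472
/-- A coset. -/ def N973 : Q := sm gg N472
/-- A coset. -/ def N974 : Q := sm gd N473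
/-- A coset. -/ def N975 : Q := sm gg N473
/-- A coset. -/ def N976 : Q := sm gf N474
/-- A coset. -/ def N977 : Q := sm gd N475
/-- A coset. -/ def N978 : Q := sm ge N476
/-- A coset. -/ def N980 : Q := sm gf N477
/-- A coset. -/ def N981 : Q := sm gg N477
/-- A coset. -/ def N982 : Q := sm gb N478
/-- A coset. -/ def N983 : Q := sm gb N479
/-- A coset. -/ def N989 : Q := sm gf N481
/-- A coset. -/ def N990 : Q := sm gg N481
/-- A coset. -/ def N991 : Q := sm gb N482
/-- A coset. -/ def N992 : Q := sm gg N482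
/-- A coset. -/ def N994 : Q := sm gf N483
/-- A coset. -/ def N995 : Q := sm gc N484
/-- A coset. -/ def N996 : Q := sm gf N484
/-- A coset. -/ def N997 : Q := sm gg N484
/-- A coset. -/ def N998 : Q := sm gb N485
/-- A coset. -/ def N999 : Q := sm gg N485
/-- A coset. -/ def N1000 : Q := sm gb N486
/-- A coset. -/ def N1001 : Q := sm gf N486
/-- A coset. -/ def N1003 : Q := sm gb N488
/-- A coset. -/ def N1004 : Q := sm ga N489
/-- A coset. -/ def N1007 : Q := sm gb N490
/-- A coset. -/ def N1008 : Q := sm gb N491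
/-- A coset. -/ def N1009 : Q := sm gd N491
/-- A coset. -/ def N1010 : Q := sm gf N491
/-- A coset. -/ def N1011 : Q := sm gg N491
/-- A coset. -/ def N1012 : Q := sm gb N492
/-- A coset. -/ def N1013 : Q := sm gb N493
/-- A coset. -/ def N1014 : Q := sm ga N494
/-- A coset. -/ def N1015 : Q := sm gc N494
/-- A coset. -/ def N1016 : Q := sm gg N494
/-- A coset. -/ def N1017 : Q := sm ga N495
/-- A coset. -/ def N1018 : Q := sm gc N495
/-- A coset. -/ def N1019 : Q := sm gf N495
/-- A coset. -/ def N1020 : Q := sm gb N496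
/-- A coset. -/ def N1021 : Q := sm gg N496
/-- A coset. -/ def N1022 : Q := sm gg N497
/-- A coset. -/ def N1024 : Q := sm gc N499
/-- A coset. -/ def N1025 : Q := sm gf N499
/-- A coset. -/ def N1026 : Q := sm gd N500
/-- A coset. -/ def N1027 : Q := sm gf N500
/-- A coset. -/ def N1028 : Q := sm gg N501
/-- A coset. -/ def N1029 : Q := sm ga N502
/-- A coset. -/ def N1030 : Q := sm gd N502
/-- A coset. -/ def N1031 : Q := sm gf N502
/-- A coset. -/ def N1032 : Q := sm gg N502
/-- A coset. -/ def N1033 : Q := sm gc N503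
/-- A coset. -/ def N1034 : Q := sm ge N503
/-- A coset. -/ def N1035 : Q := sm gf N503
/-- A coset. -/ def N1036 : Q := sm gg N503
/-- A coset. -/ def N1037 : Q := sm gb N504
/-- A coset. -/ def N1038 : Q := sm gg N504
/-- A coset. -/ def N1039 : Q := sm gb N505
/-- A coset. -/ def N1040 : Q := sm gf N505
/-- A coset. -/ def N1041 : Q := sm gb N506
/-- A coset. -/ def N1042 : Q := sm gb N507
/-- A coset. -/ def N1043 : Q := sm ga N508
/-- A coset. -/ def N1044 : Q := sm gc N508
/-- A coset. -/ def N1045 : Q := sm gf N508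
/-- A coset. -/ def N1046 : Q := sm ga N509
/-- A coset. -/ def N1047 : Q := sm gc N509
/-- A coset. -/ def N1048 : Q := sm gg N509
/-- A coset. -/ def N1049 : Q := sm gb N510
/-- A coset. -/ def N1050 : Q := sm gc N510
/-- A coset. -/ def N1051 : Q := sm gf N510
/-- A coset. -/ def N1052 : Q := sm gd N511
/-- A coset. -/ def N1053 : Q := sm gf N511
/-- A coset. -/ def N1054 : Q := sm gg N512
/-- A coset. -/ def N1055 : Q := sm gb N513
/-- A coset. -/ def N1056 : Q := sm gc N513
/-- A coset. -/ def N1057 : Q := sm gg N513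
/-- A coset. -/ def N1058 : Q := sm gd N514
/-- A coset. -/ def N1059 : Q := sm gg N514
/-- A coset. -/ def N1060 : Q := sm gb N516
/-- A coset. -/ def N1061 : Q := sm gf N516
/-- A coset. -/ def N1062 : Q := sm gg N516
/-- A coset. -/ def N1063 : Q := sm gg N517
/-- A coset. -/ def N1064 : Q := sm gf N518
/-- A coset. -/ def N1068 : Q := sm gg N519
/-- A coset. -/ def N1070 : Q := sm gf N520
/-- A coset. -/ def N1073 : Q := sm gb N522
/-- A coset. -/ def N1075 : Q := sm gf N523
/-- A coset. -/ def N1078 : Q := sm gb N525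
/-- A coset. -/ def N1079 : Q := sm ga N526
/-- A coset. -/ def N1080 : Q := sm gc N526
/-- A coset. -/ def N1081 : Q := sm gg N526
/-- A coset. -/ def N1082 : Q := sm ga N527
/-- A coset. -/ def N1083 : Q := sm gc N527
/-- A coset. -/ def N1084 : Q := sm gf N527
/-- A coset. -/ def N1090 : Q := sm gd N529
/-- A coset. -/ def N1091 : Q := sm gf N529
/-- A coset. -/ def N1094 : Q := sm gg N530
/-- A coset. -/ def N1099 : Q := sm gg N532
/-- A coset. -/ def N1103 : Q := sm gf N534
/-- A coset. -/ def N1108 : Q := sm ga N537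
/-- A coset. -/ def N1109 : Q := sm gc N537
/-- A coset. -/ def N1110 : Q := sm gf N537
/-- A coset. -/ def N1111 : Q := sm gb N538
/-- A coset. -/ def N1112 : Q := sm gb N539
/-- A coset. -/ def N1118 : Q := sm gb N541
/-- A coset. -/ def N1119 : Q := sm gf N541
/-- A coset. -/ def N1120 : Q := sm ga N542
/-- A coset. -/ def N1121 : Q := sm gc N542
/-- A coset. -/ def N1124 : Q := sm ga N544
/-- A coset. -/ def N1128 : Q := sm gb N546
/-- A coset. -/ def N1129 : Q := sm gc N546
/-- A coset. -/ def N1130 : Q := sm gd N547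
/-- A coset. -/ def N1131 : Q := sm gg N547
/-- A coset. -/ def N1133 : Q := sm gc N549
/-- A coset. -/ def N1134 : Q := sm gb N552
/-- A coset. -/ def N1135 : Q := sm gc N553
/-- A coset. -/ def N1136 : Q := sm ga N554
/-- A coset. -/ def N1137 : Q := sm gd N554
/-- A coset. -/ def N1138 : Q := sm gf N554
/-- A coset. -/ def N1139 : Q := sm gg N554
/-- A coset. -/ def N1140 : Q := sm ge N555
/-- A coset. -/ def N1141 : Q := sm gf N555
/-- A coset. -/ def N1142 : Q := sm gg N555
/-- A coset. -/ def N1143 : Q := sm gb N556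
/-- A coset. -/ def N1144 : Q := sm gb N557
/-- A coset. -/ def N1145 : Q := sm ga N558
/-- A coset. -/ def N1146 : Q := sm gc N558
/-- A coset. -/ def N1147 : Q := sm gg N558
/-- A coset. -/ def N1150 : Q := sm gf N559
/-- A coset. -/ def N1151 : Q := sm gb N560
/-- A coset. -/ def N1152 : Q := sm gc N560
/-- A coset. -/ def N1153 : Q := sm gg N560
/-- A coset. -/ def N1154 : Q := sm gd N561
/-- A coset. -/ def N1155 : Q := sm gg N561
/-- A coset. -/ def N1156 : Q := sm gf N562
/-- A coset. -/ def N1158 : Q := sm gc N563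
/-- A coset. -/ def N1159 : Q := sm gf N563
/-- A coset. -/ def N1161 : Q := sm gf N564
/-- A coset. -/ def N1162 : Q := sm gg N565
/-- A coset. -/ def N1163 : Q := sm ga N566
/-- A coset. -/ def N1164 : Q := sm gc N566
/-- A coset. -/ def N1165 : Q := sm gg N566
/-- A coset. -/ def N1166 : Q := sm gb N567
/-- A coset. -/ def N1167 : Q := sm gd N567
/-- A coset. -/ def N1168 : Q := sm gg N567
/-- A coset. -/ def N1169 : Q := sm ge N569
/-- A coset. -/ def N1170 : Q := sm gg N569
/-- A coset. -/ def N1171 : Q := sm gb N570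
/-- A coset. -/ def N1175 : Q := sm gc N575
/-- A coset. -/ def N1178 : Q := sm gb N578
/-- A coset. -/ def N1179 : Q := sm gd N578
/-- A coset. -/ def N1180 : Q := sm gf N578
/-- A coset. -/ def N1181 : Q := sm gg N578
/-- A coset. -/ def N1182 : Q := sm gc N579
/-- A coset. -/ def N1183 : Q := sm ge N579
/-- A coset. -/ def N1184 : Q := sm gf N579
/-- A coset. -/ def N1185 : Q := sm gg N579
/-- A coset. -/ def N1186 : Q := sm gb N580
/-- A coset. -/ def N1187 : Q := sm gg N580
/-- A coset. -/ def N1188 : Q := sm gb N581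
/-- A coset. -/ def N1189 : Q := sm gf N581
/-- A coset. -/ def N1190 : Q := sm gf N582
/-- A coset. -/ def N1191 : Q := sm gg N582
/-- A coset. -/ def N1192 : Q := sm gb N583
/-- A coset. -/ def N1193 : Q := sm gg N583
/-- A coset. -/ def N1194 : Q := sm gb N584
/-- A coset. -/ def N1195 : Q := sm gf N584
/-- A coset. -/ def N1196 : Q := sm ga N585
/-- A coset. -/ def N1197 : Q := sm gc N585
/-- A coset. -/ def N1198 : Q := sm gg N585
/-- A coset. -/ def N1199 : Q := sm gb N586
/-- A coset. -/ def N1200 : Q := sm ga N587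
/-- A coset. -/ def N1201 : Q := sm gf N587
/-- A coset. -/ def N1202 : Q := sm gb N588
/-- A coset. -/ def N1203 : Q := sm gb N589
/-- A coset. -/ def N1204 : Q := sm gc N589
/-- A coset. -/ def N1205 : Q := sm gd N590
/-- A coset. -/ def N1206 : Q := sm gg N590
/-- A coset. -/ def N1208 : Q := sm ga N592
/-- A coset. -/ def N1209 : Q := sm gc N592
/-- A coset. -/ def N1210 : Q := sm gf N592
/-- A coset. -/ def N1211 : Q := sm ga N593
/-- A coset. -/ def N1212 : Q := sm gc N593
/-- A coset. -/ def N1213 : Q := sm gg N593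
/-- A coset. -/ def N1224 : Q := sm ga N598
/-- A coset. -/ def N1225 : Q := sm gc N598
/-- A coset. -/ def N1226 : Q := sm gf N598
/-- A coset. -/ def N1227 : Q := sm gb N599
/-- A coset. -/ def N1228 : Q := sm gc N599
/-- A coset. -/ def N1229 : Q := sm gf N599
/-- A coset. -/ def N1230 : Q := sm gd N600
/-- A coset. -/ def N1231 : Q := sm gf N600
/-- A coset. -/ def N1232 : Q := sm gg N601
/-- A coset. -/ def N1233 : Q := sm gc N602
/-- A coset. -/ def N1235 : Q := sm gd N603
/-- A coset. -/ def N1236 : Q := sm gg N603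
/-- A coset. -/ def N1239 : Q := sm gg N606
/-- A coset. -/ def N1241 : Q := sm gf N608
/-- A coset. -/ def N1246 : Q := sm gc N610
/-- A coset. -/ def N1247 : Q := sm ge N610
/-- A coset. -/ def N1250 : Q := sm ge N611
/-- A coset. -/ def N1252 : Q := sm gg N612
/-- A coset. -/ def N1255 : Q := sm gc N614
/-- A coset. -/ def N1256 : Q := sm gf N614
/-- A coset. -/ def N1257 : Q := sm gc N615
/-- A coset. -/ def N1258 : Q := sm gd N616
/-- A coset. -/ def N1260 : Q := sm gd N619
/-- A coset. -/ def N1261 : Q := sm gf N619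
/-- A coset. -/ def N1262 : Q := sm gc N621
/-- A coset. -/ def N1263 : Q := sm ge N621
/-- A coset. -/ def N1264 : Q := sm gf N621
/-- A coset. -/ def N1265 : Q := sm gg N622
/-- A coset. -/ def N1267 : Q := sm gd N625
/-- A coset. -/ def N1268 : Q := sm gg N625
/-- A coset. -/ def N1269 : Q := sm gc N627
/-- A coset. -/ def N1270 : Q := sm ge N627
/-- A coset. -/ def N1271 : Q := sm gg N627
/-- A coset. -/ def N1272 : Q := sm gb N628
/-- A coset. -/ def N1273 : Q := sm ga N629
/-- A coset. -/ def N1274 : Q := sm gc N629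
/-- A coset. -/ def N1275 : Q := sm gf N629
/-- A coset. -/ def N1276 : Q := sm gg N629
/-- A coset. -/ def N1277 : Q := sm gb N630
/-- A coset. -/ def N1278 : Q := sm gb N631
/-- A coset. -/ def N1279 : Q := sm ga N632
/-- A coset. -/ def N1280 : Q := sm gc N632
/-- A coset. -/ def N1281 : Q := sm gg N632
/-- A coset. -/ def N1282 : Q := sm gb N633
/-- A coset. -/ def N1283 : Q := sm gb N634
/-- A coset. -/ def N1284 : Q := sm gb N635
/-- A coset. -/ def N1285 : Q := sm gc N635
/-- A coset. -/ def N1286 : Q := sm gg N635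
/-- A coset. -/ def N1288 : Q := sm gg N636
/-- A coset. -/ def N1289 : Q := sm gf N637
/-- A coset. -/ def N1296 : Q := sm gg N639
/-- A coset. -/ def N1299 : Q := sm ge N641
/-- A coset. -/ def N1305 : Q := sm gg N644
/-- A coset. -/ def N1310 : Q := sm gg N646
/-- A coset. -/ def N1323 : Q := sm gf N651
/-- A coset. -/ def N1331 : Q := sm ga N655
/-- A coset. -/ def N1342 : Q := sm gf N662
/-- A coset. -/ def N1344 : Q := sm gb N663
/-- A coset. -/ def N1351 : Q := sm gg N668
/-- A coset. -/ def N1356 : Q := sm gg N670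
/-- A coset. -/ def N1357 : Q := sm gb N671
/-- A coset. -/ def N1361 : Q := sm gg N673
/-- A coset. -/ def N1363 : Q := sm ga N675
/-- A coset. -/ def N1364 : Q := sm gc N675
/-- A coset. -/ def N1365 : Q := sm gf N675
/-- A coset. -/ def N1366 : Q := sm gc N676
/-- A coset. -/ def N1374 : Q := sm gf N681
/-- A coset. -/ def N1381 : Q := sm gb N685
/-- A coset. -/ def N1401 : Q := sm gf N696
/-- A coset. -/ def N1402 : Q := sm gg N697
/-- A coset. -/ def N1404 : Q := sm gc N698
/-- A coset. -/ def N1406 : Q := sm gc N699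
/-- A coset. -/ def N1414 : Q := sm gf N706
/-- A coset. -/ def N1415 : Q := sm gg N706
/-- A coset. -/ def N1416 : Q := sm gd N707
/-- A coset. -/ def N1418 : Q := sm gg N707
/-- A coset. -/ def N1423 : Q := sm gb N711
/-- A coset. -/ def N1424 : Q := sm gb N712
/-- A coset. -/ def N1425 : Q := sm gc N713
/-- A coset. -/ def N1426 : Q := sm gf N713
/-- A coset. -/ def N1427 : Q := sm gg N713
/-- A coset. -/ def N1431 : Q := sm gc N716
/-- A coset. -/ def N1432 : Q := sm gg N716
/-- A coset. -/ def N1433 : Q := sm gf N717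
/-- A coset. -/ def N1438 : Q := sm gg N719
/-- A coset. -/ def N1439 : Q := sm gb N720
/-- A coset. -/ def N1442 : Q := sm gf N721
/-- A coset. -/ def N1443 : Q := sm gg N721
/-- A coset. -/ def N1444 : Q := sm gb N722
/-- A coset. -/ def N1447 : Q := sm ga N724
/-- A coset. -/ def N1449 : Q := sm gg N724
/-- A coset. -/ def N1452 : Q := sm gb N727
/-- A coset. -/ def N1453 : Q := sm gd N727
/-- A coset. -/ def N1454 : Q := sm gf N727
/-- A coset. -/ def N1456 : Q := sm gb N728
/-- A coset. -/ def N1457 : Q := sm gg N728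
/-- A coset. -/ def N1459 : Q := sm ga N730
/-- A coset. -/ def N1460 : Q := sm gg N730
/-- A coset. -/ def N1466 : Q := sm gc N735
/-- A coset. -/ def N1469 : Q := sm gc N736
/-- A coset. -/ def N1471 : Q := sm gb N737
/-- A coset. -/ def N1472 : Q := sm gd N737
/-- A coset. -/ def N1473 : Q := sm gf N737
/-- A coset. -/ def N1474 : Q := sm gb N738
/-- A coset. -/ def N1475 : Q := sm ga N739
/-- A coset. -/ def N1477 : Q := sm gg N739
/-- A coset. -/ def N1479 : Q := sm gc N740
/-- A coset. -/ def N1480 : Q := sm gg N740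
/-- A coset. -/ def N1481 : Q := sm gd N741
/-- A coset. -/ def N1484 : Q := sm ga N743
/-- A coset. -/ def N1485 : Q := sm gf N743
/-- A coset. -/ def N1486 : Q := sm gg N743
/-- A coset. -/ def N1487 : Q := sm gb N744
/-- A coset. -/ def N1488 : Q := sm ga N745
/-- A coset. -/ def N1489 : Q := sm gc N745
/-- A coset. -/ def N1490 : Q := sm gg N745
/-- A coset. -/ def N1491 : Q := sm gb N746
/-- A coset. -/ def N1492 : Q := sm gg N746
/-- A coset. -/ def N1493 : Q := sm gf N747
/-- A coset. -/ def N1501 : Q := sm gf N752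
/-- A coset. -/ def N1507 : Q := sm gg N760
/-- A coset. -/ def N1509 : Q := sm gc N762
/-- A coset. -/ def N1511 : Q := sm gd N766
/-- A coset. -/ def N1512 : Q := sm gf N766
/-- A coset. -/ def N1513 : Q := sm gg N766
/-- A coset. -/ def N1514 : Q := sm gb N767
/-- A coset. -/ def N1518 : Q := sm gg N769
/-- A coset. -/ def N1519 : Q := sm gf N770
/-- A coset. -/ def N1520 : Q := sm gc N771
/-- A coset. -/ def N1522 : Q := sm gg N772
/-- A coset. -/ def N1524 : Q := sm ga N777
/-- A coset. -/ def N1525 : Q := sm gd N777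
/-- A coset. -/ def N1526 : Q := sm gf N777
/-- A coset. -/ def N1527 : Q := sm gg N777
/-- A coset. -/ def N1528 : Q := sm gc N778
/-- A coset. -/ def N1529 : Q := sm ge N778
/-- A coset. -/ def N1530 : Q := sm gf N778
/-- A coset. -/ def N1531 : Q := sm gg N778
/-- A coset. -/ def N1532 : Q := sm gb N779
/-- A coset. -/ def N1533 : Q := sm gg N779
/-- A coset. -/ def N1535 : Q := sm gf N780
/-- A coset. -/ def N1536 : Q := sm gb N781
/-- A coset. -/ def N1538 : Q := sm ga N783
/-- A coset. -/ def N1539 : Q := sm gc N783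
/-- A coset. -/ def N1540 : Q := sm gf N783
/-- A coset. -/ def N1543 : Q := sm gg N784
/-- A coset. -/ def N1550 : Q := sm gb N791
/-- A coset. -/ def N1551 : Q := sm gf N791
/-- A coset. -/ def N1552 : Q := sm gg N791
/-- A coset. -/ def N1553 : Q := sm gg N792
/-- A coset. -/ def N1554 : Q := sm gf N793
/-- A coset. -/ def N1560 : Q := sm gg N795
/-- A coset. -/ def N1561 : Q := sm gb N796
/-- A coset. -/ def N1562 : Q := sm gb N797
/-- A coset. -/ def N1569 : Q := sm gf N799
/-- A coset. -/ def N1577 : Q := sm gb N804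
/-- A coset. -/ def N1580 : Q := sm gg N805
/-- A coset. -/ def N1581 : Q := sm ga N806
/-- A coset. -/ def N1582 : Q := sm gc N806
/-- A coset. -/ def N1586 : Q := sm gf N807
/-- A coset. -/ def N1587 : Q := sm gg N807
/-- A coset. -/ def N1592 : Q := sm gg N809
/-- A coset. -/ def N1593 : Q := sm gb N810
/-- A coset. -/ def N1600 : Q := sm gf N813
/-- A coset. -/ def N1613 : Q := sm ga N820
/-- A coset. -/ def N1623 : Q := sm gc N826
/-- A coset. -/ def N1624 : Q := sm gg N826
/-- A coset. -/ def N1626 : Q := sm gd N827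
/-- A coset. -/ def N1627 : Q := sm gf N827
/-- A coset. -/ def N1628 : Q := sm gb N828
/-- A coset. -/ def N1631 : Q := sm gg N829
/-- A coset. -/ def N1638 : Q := sm ga N833
/-- A coset. -/ def N1639 : Q := sm gf N833
/-- A coset. -/ def N1640 : Q := sm gg N833
/-- A coset. -/ def N1641 : Q := sm gb N834
/-- A coset. -/ def N1644 : Q := sm gg N835
/-- A coset. -/ def N1647 : Q := sm gf N837
/-- A coset. -/ def N1656 : Q := sm gg N841
/-- A coset. -/ def N1657 : Q := sm gd N842
/-- A coset. -/ def N1658 : Q := sm gf N842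
/-- A coset. -/ def N1659 : Q := sm gg N842
/-- A coset. -/ def N1660 : Q := sm gb N843
/-- A coset. -/ def N1662 : Q := sm gd N845
/-- A coset. -/ def N1663 : Q := sm gf N845
/-- A coset. -/ def N1666 : Q := sm gg N846
/-- A coset. -/ def N1667 : Q := sm gb N847
/-- A coset. -/ def N1669 : Q := sm gc N848
/-- A coset. -/ def N1670 : Q := sm gf N848
/-- A coset. -/ def N1671 : Q := sm gg N848
/-- A coset. -/ def N1672 : Q := sm gb N849
/-- A coset. -/ def N1673 : Q := sm gg N849
/-- A coset. -/ def N1674 : Q := sm gb N850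
/-- A coset. -/ def N1675 : Q := sm gf N850
/-- A coset. -/ def N1676 : Q := sm gg N851
/-- A coset. -/ def N1678 : Q := sm ga N853
/-- A coset. -/ def N1680 : Q := sm gf N853
/-- A coset. -/ def N1682 : Q := sm gc N855
/-- A coset. -/ def N1683 : Q := sm gf N855
/-- A coset. -/ def N1684 : Q := sm gg N855
/-- A coset. -/ def N1692 : Q := sm gb N860
/-- A coset. -/ def N1693 : Q := sm gf N860
/-- A coset. -/ def N1694 : Q := sm gg N860
/-- A coset. -/ def N1695 : Q := sm gb N861
/-- A coset. -/ def N1696 : Q := sm gb N862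
/-- A coset. -/ def N1697 : Q := sm ga N863
/-- A coset. -/ def N1698 : Q := sm gc N863
/-- A coset. -/ def N1699 : Q := sm gg N863
/-- A coset. -/ def N1700 : Q := sm ga N864
/-- A coset. -/ def N1701 : Q := sm gc N864
/-- A coset. -/ def N1702 : Q := sm gf N864
/-- A coset. -/ def N1703 : Q := sm gb N865
/-- A coset. -/ def N1704 : Q := sm gg N865
/-- A coset. -/ def N1707 : Q := sm gf N868
/-- A coset. -/ def N1710 : Q := sm gg N870
/-- A coset. -/ def N1711 : Q := sm gb N871
/-- A coset. -/ def N1712 : Q := sm gd N871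
/-- A coset. -/ def N1713 : Q := sm gf N871
/-- A coset. -/ def N1714 : Q := sm gg N871
/-- A coset. -/ def N1715 : Q := sm gb N872
/-- A coset. -/ def N1716 : Q := sm gg N872
/-- A coset. -/ def N1718 : Q := sm gf N873
/-- A coset. -/ def N1719 : Q := sm ga N874
/-- A coset. -/ def N1720 : Q := sm gc N874
/-- A coset. -/ def N1721 : Q := sm gg N874
/-- A coset. -/ def N1722 : Q := sm gb N875
/-- A coset. -/ def N1723 : Q := sm ga N876
/-- A coset. -/ def N1725 : Q := sm gb N877
/-- A coset. -/ def N1728 : Q := sm gd N879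
/-- A coset. -/ def N1729 : Q := sm gg N879
/-- A coset. -/ def N1734 : Q := sm gb N882
/-- A coset. -/ def N1739 : Q := sm ga N885
/-- A coset. -/ def N1740 : Q := sm gd N885
/-- A coset. -/ def N1741 : Q := sm gf N885
/-- A coset. -/ def N1742 : Q := sm gg N885
/-- A coset. -/ def N1743 : Q := sm ge N886
/-- A coset. -/ def N1744 : Q := sm gf N886
/-- A coset. -/ def N1745 : Q := sm gg N886
/-- A coset. -/ def N1746 : Q := sm gb N887
/-- A coset. -/ def N1747 : Q := sm gg N887
/-- A coset. -/ def N1748 : Q := sm gb N888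
/-- A coset. -/ def N1749 : Q := sm gf N888
/-- A coset. -/ def N1750 : Q := sm ga N889
/-- A coset. -/ def N1751 : Q := sm gc N889
/-- A coset. -/ def N1752 : Q := sm gg N889
/-- A coset. -/ def N1753 : Q := sm gb N890
/-- A coset. -/ def N1754 : Q := sm ga N891
/-- A coset. -/ def N1757 : Q := sm gb N892
/-- A coset. -/ def N1758 : Q := sm gb N893
/-- A coset. -/ def N1759 : Q := sm gb N894
/-- A coset. -/ def N1761 : Q := sm gc N895
/-- A coset. -/ def N1762 : Q := sm gf N895
/-- A coset. -/ def N1766 : Q := sm gc N898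
/-- A coset. -/ def N1772 : Q := sm ga N900
/-- A coset. -/ def N1774 : Q := sm gf N900
/-- A coset. -/ def N1775 : Q := sm gb N901
/-- A coset. -/ def N1777 : Q := sm gf N901
/-- A coset. -/ def N1780 : Q := sm gg N903
/-- A coset. -/ def N1782 : Q := sm gc N904
/-- A coset. -/ def N1783 : Q := sm gf N904
/-- A coset. -/ def N1784 : Q := sm gg N904
/-- A coset. -/ def N1787 : Q := sm gg N905
/-- A coset. -/ def N1791 : Q := sm gd N907
/-- A coset. -/ def N1792 : Q := sm gg N907
/-- A coset. -/ def N1798 : Q := sm gd N910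
/-- A coset. -/ def N1799 : Q := sm gf N910
/-- A coset. -/ def N1805 : Q := sm ga N914
/-- A coset. -/ def N1807 : Q := sm gg N914
/-- A coset. -/ def N1809 : Q := sm gb N916
/-- A coset. -/ def N1810 : Q := sm gd N916
/-- A coset. -/ def N1811 : Q := sm gf N916
/-- A coset. -/ def N1812 : Q := sm gb N917
/-- A coset. -/ def N1814 : Q := sm gc N918
/-- A coset. -/ def N1815 : Q := sm gg N918
/-- A coset. -/ def N1818 : Q := sm gg N919
/-- A coset. -/ def N1822 : Q := sm ga N922
/-- A coset. -/ def N1823 : Q := sm gd N922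
/-- A coset. -/ def N1824 : Q := sm gf N922
/-- A coset. -/ def N1825 : Q := sm gg N922
/-- A coset. -/ def N1826 : Q := sm gf N923
/-- A coset. -/ def N1827 : Q := sm gb N924
/-- A coset. -/ def N1828 : Q := sm ga N925
/-- A coset. -/ def N1829 : Q := sm gc N925
/-- A coset. -/ def N1830 : Q := sm gg N925
/-- A coset. -/ def N1834 : Q := sm gd N927
/-- A coset. -/ def N1835 : Q := sm gg N927
/-- A coset. -/ def N1836 : Q := sm gf N928
/-- A coset. -/ def N1842 : Q := sm gd N930
/-- A coset. -/ def N1845 : Q := sm gc N932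
/-- A coset. -/ def N1851 : Q := sm gb N935
/-- A coset. -/ def N1852 : Q := sm gf N935
/-- A coset. -/ def N1853 : Q := sm gg N935
/-- A coset. -/ def N1854 : Q := sm gb N936
/-- A coset. -/ def N1855 : Q := sm gg N936
/-- A coset. -/ def N1856 : Q := sm gb N937
/-- A coset. -/ def N1857 : Q := sm gf N937
/-- A coset. -/ def N1858 : Q := sm ga N938
/-- A coset. -/ def N1859 : Q := sm gc N938
/-- A coset. -/ def N1860 : Q := sm gg N938
/-- A coset. -/ def N1861 : Q := sm ga N939
/-- A coset. -/ def N1862 : Q := sm gc N939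
/-- A coset. -/ def N1863 : Q := sm gf N939
/-- A coset. -/ def N1864 : Q := sm gb N940
/-- A coset. -/ def N1865 : Q := sm gb N941
/-- A coset. -/ def N1866 : Q := sm gc N941
/-- A coset. -/ def N1867 : Q := sm gg N941
/-- A coset. -/ def N1868 : Q := sm gd N942
/-- A coset. -/ def N1869 : Q := sm gg N942
/-- A coset. -/ def N1870 : Q := sm gf N943
/-- A coset. -/ def N1875 : Q := sm gf N945
/-- A coset. -/ def N1876 : Q := sm gb N946
/-- A coset. -/ def N1877 : Q := sm gg N946
/-- A coset. -/ def N1878 : Q := sm ga N947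
/-- A coset. -/ def N1879 : Q := sm gc N947
/-- A coset. -/ def N1880 : Q := sm gg N947
/-- A coset. -/ def N1881 : Q := sm ga N948
/-- A coset. -/ def N1885 : Q := sm gb N949
/-- A coset. -/ def N1886 : Q := sm gb N950
/-- A coset. -/ def N1890 : Q := sm ga N953
/-- A coset. -/ def N1891 : Q := sm gc N953
/-- A coset. -/ def N1892 : Q := sm gg N953
/-- A coset. -/ def N1894 : Q := sm gb N955
/-- A coset. -/ def N1895 : Q := sm gc N955
/-- A coset. -/ def N1896 : Q := sm gg N955
/-- A coset. -/ def N1897 : Q := sm gd N956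
/-- A coset. -/ def N1898 : Q := sm gg N956
/-- A coset. -/ def N1899 : Q := sm gf N957
/-- A coset. -/ def N1900 : Q := sm gc N958
/-- A coset. -/ def N1901 : Q := sm gf N958
/-- A coset. -/ def N1907 : Q := sm gb N961
/-- A coset. -/ def N1915 : Q := sm gb N964
/-- A coset. -/ def N1917 : Q := sm gf N965
/-- A coset. -/ def N1920 : Q := sm gg N966
/-- A coset. -/ def N1921 : Q := sm gb N967
/-- A coset. -/ def N1922 : Q := sm gc N967
/-- A coset. -/ def N1928 : Q := sm gf N970
/-- A coset. -/ def N1930 : Q := sm gc N971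
/-- A coset. -/ def N1931 : Q := sm gf N971
/-- A coset. -/ def N1933 : Q := sm gb N972
/-- A coset. -/ def N1934 : Q := sm gd N972
/-- A coset. -/ def N1935 : Q := sm gg N972
/-- A coset. -/ def N1937 : Q := sm gc N974
/-- A coset. -/ def N1938 : Q := sm ge N974
/-- A coset. -/ def N1939 : Q := sm gg N974
/-- A coset. -/ def N1942 : Q := sm gc N977
/-- A coset. -/ def N1943 : Q := sm ge N977
/-- A coset. -/ def N1947 : Q := sm gb N980
/-- A coset. -/ def N1948 : Q := sm gb N981
/-- A coset. -/ def N1949 : Q := sm gc N982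
/-- A coset. -/ def N1964 : Q := sm gg N989
/-- A coset. -/ def N1967 : Q := sm ga N991
/-- A coset. -/ def N1968 : Q := sm gg N991
/-- A coset. -/ def N1969 : Q := sm gb N992
/-- A coset. -/ def N1974 : Q := sm gb N995
/-- A coset. -/ def N1978 : Q := sm gb N996
/-- A coset. -/ def N1980 : Q := sm gb N997
/-- A coset. -/ def N1981 : Q := sm gf N997
/-- A coset. -/ def N1982 : Q := sm gg N998
/-- A coset. -/ def N1983 : Q := sm gb N999
/-- A coset. -/ def N1984 : Q := sm ga N1000
/-- A coset. -/ def N1985 : Q := sm gc N1000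
/-- A coset. -/ def N1986 : Q := sm gf N1000
/-- A coset. -/ def N1990 : Q := sm ga N1008
/-- A coset. -/ def N1991 : Q := sm gd N1008
/-- A coset. -/ def N1992 : Q := sm gf N1008
/-- A coset. -/ def N1993 : Q := sm gg N1008
/-- A coset. -/ def N1994 : Q := sm ge N1009
/-- A coset. -/ def N1995 : Q := sm gf N1009
/-- A coset. -/ def N1996 : Q := sm gg N1009
/-- A coset. -/ def N1997 : Q := sm gb N1010
/-- A coset. -/ def N1998 : Q := sm gb N1011
/-- A coset. -/ def N1999 : Q := sm ga N1012
/-- A coset. -/ def N2000 : Q := sm gc N1012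
/-- A coset. -/ def N2001 : Q := sm gg N1012
/-- A coset. -/ def N2004 : Q := sm gf N1013
/-- A coset. -/ def N2006 : Q := sm gg N1014
/-- A coset. -/ def N2007 : Q := sm gd N1015
/-- A coset. -/ def N2008 : Q := sm gb N1017
/-- A coset. -/ def N2010 : Q := sm gf N1017
/-- A coset. -/ def N2014 : Q := sm gd N1024
/-- A coset. -/ def N2020 : Q := sm gb N1029
/-- A coset. -/ def N2021 : Q := sm gd N1029
/-- A coset. -/ def N2022 : Q := sm gf N1029
/-- A coset. -/ def N2023 : Q := sm gg N1029
/-- A coset. -/ def N2024 : Q := sm gc N1030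
/-- A coset. -/ def N2025 : Q := sm ge N1030
/-- A coset. -/ def N2026 : Q := sm gf N1030
/-- A coset. -/ def N2027 : Q := sm gg N1030
/-- A coset. -/ def N2028 : Q := sm gb N1031
/-- A coset. -/ def N2029 : Q := sm gg N1031
/-- A coset. -/ def N2030 : Q := sm gb N1032
/-- A coset. -/ def N2031 : Q := sm gf N1032
/-- A coset. -/ def N2032 : Q := sm gb N1033
/-- A coset. -/ def N2033 : Q := sm ge N1033
/-- A coset. -/ def N2034 : Q := sm gf N1033
/-- A coset. -/ def N2035 : Q := sm gg N1033
/-- A coset. -/ def N2036 : Q := sm gf N1034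
/-- A coset. -/ def N2037 : Q := sm gg N1034
/-- A coset. -/ def N2038 : Q := sm gb N1035
/-- A coset. -/ def N2039 : Q := sm gg N1035
/-- A coset. -/ def N2040 : Q := sm gb N1036
/-- A coset. -/ def N2041 : Q := sm gf N1036
/-- A coset. -/ def N2042 : Q := sm ga N1037
/-- A coset. -/ def N2043 : Q := sm gg N1037
/-- A coset. -/ def N2044 : Q := sm gb N1038
/-- A coset. -/ def N2045 : Q := sm ga N1039
/-- A coset. -/ def N2046 : Q := sm gf N1039
/-- A coset. -/ def N2047 : Q := sm gb N1040
/-- A coset. -/ def N2048 : Q := sm ga N1041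
/-- A coset. -/ def N2049 : Q := sm gc N1041
/-- A coset. -/ def N2050 : Q := sm gf N1041
/-- A coset. -/ def N2051 : Q := sm ga N1042
/-- A coset. -/ def N2052 : Q := sm gc N1042
/-- A coset. -/ def N2053 : Q := sm gg N1042
/-- A coset. -/ def N2056 : Q := sm gd N1044
/-- A coset. -/ def N2057 : Q := sm gf N1044
/-- A coset. -/ def N2059 : Q := sm gb N1046
/-- A coset. -/ def N2060 : Q := sm gc N1046
/-- A coset. -/ def N2061 : Q := sm gg N1046
/-- A coset. -/ def N2062 : Q := sm gd N1047
/-- A coset. -/ def N2063 : Q := sm gg N1047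
/-- A coset. -/ def N2072 : Q := sm gc N1055
/-- A coset. -/ def N2073 : Q := sm gb N1056
/-- A coset. -/ def N2074 : Q := sm gd N1056
/-- A coset. -/ def N2075 : Q := sm gg N1056
/-- A coset. -/ def N2076 : Q := sm gc N1058
/-- A coset. -/ def N2077 : Q := sm ge N1058
/-- A coset. -/ def N2078 : Q := sm gg N1058
/-- A coset. -/ def N2079 : Q := sm ga N1060
/-- A coset. -/ def N2080 : Q := sm gc N1060
/-- A coset. -/ def N2081 : Q := sm gf N1060
/-- A coset. -/ def N2082 : Q := sm gg N1060
/-- A coset. -/ def N2083 : Q := sm gb N1061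
/-- A coset. -/ def N2084 : Q := sm gb N1062
/-- A coset. -/ def N2085 : Q := sm gb N1063
/-- A coset. -/ def N2086 : Q := sm gb N1064
/-- A coset. -/ def N2102 : Q := sm ga N1073
/-- A coset. -/ def N2103 : Q := sm gc N1073
/-- A coset. -/ def N2104 : Q := sm gb N1136
/-- A coset. -/ def N2105 : Q := sm gd N1136
/-- A coset. -/ def N2106 : Q := sm gf N1136
/-- A coset. -/ def N2107 : Q := sm gg N1136
/-- A coset. -/ def N2108 : Q := sm gc N1137
/-- A coset. -/ def N2109 : Q := sm ge N1137
/-- A coset. -/ def N2110 : Q := sm gf N1137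
/-- A coset. -/ def N2111 : Q := sm gg N1137
/-- A coset. -/ def N2112 : Q := sm gb N1138
/-- A coset. -/ def N2113 : Q := sm gg N1138
/-- A coset. -/ def N2114 : Q := sm gb N1139
/-- A coset. -/ def N2115 : Q := sm gf N1139
/-- A coset. -/ def N2116 : Q := sm gf N1140
/-- A coset. -/ def N2117 : Q := sm gg N1140
/-- A coset. -/ def N2118 : Q := sm gb N1141
/-- A coset. -/ def N2119 : Q := sm gb N1142
/-- A coset. -/ def N2120 : Q := sm ga N1143
/-- A coset. -/ def N2121 : Q := sm gc N1143
/-- A coset. -/ def N2122 : Q := sm gg N1143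
/-- A coset. -/ def N2123 : Q := sm ga N1144
/-- A coset. -/ def N2124 : Q := sm gf N1144
/-- A coset. -/ def N2125 : Q := sm gb N1145
/-- A coset. -/ def N2126 : Q := sm gc N1145
/-- A coset. -/ def N2127 : Q := sm gd N1146
/-- A coset. -/ def N2128 : Q := sm gg N1146
/-- A coset. -/ def N2129 : Q := sm gd N1152
/-- A coset. -/ def N2130 : Q := sm gc N1154
/-- A coset. -/ def N2131 : Q := sm ge N1154
/-- A coset. -/ def N2132 : Q := sm gg N1154
/-- A coset. -/ def N2133 : Q := sm gb N1155
/-- A coset. -/ def N2134 : Q := sm ge N1167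
/-- A coset. -/ def N2135 : Q := sm gg N1169
/-- A coset. -/ def N2136 : Q := sm gb N1170
/-- A coset. -/ def N2137 : Q := sm ga N1178
/-- A coset. -/ def N2138 : Q := sm gc N1178
/-- A coset. -/ def N2139 : Q := sm gd N1178
/-- A coset. -/ def N2140 : Q := sm gf N1178
/-- A coset. -/ def N2141 : Q := sm gg N1178
/-- A coset. -/ def N2142 : Q := sm gc N1179
/-- A coset. -/ def N2143 : Q := sm ge N1179
/-- A coset. -/ def N2144 : Q := sm gf N1179
/-- A coset. -/ def N2145 : Q := sm gg N1179
/-- A coset. -/ def N2146 : Q := sm gb N1180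
/-- A coset. -/ def N2147 : Q := sm gb N1181
/-- A coset. -/ def N2148 : Q := sm gd N1182
/-- A coset. -/ def N2149 : Q := sm ge N1182
/-- A coset. -/ def N2150 : Q := sm gf N1182
/-- A coset. -/ def N2151 : Q := sm gg N1182
/-- A coset. -/ def N2152 : Q := sm gf N1183
/-- A coset. -/ def N2153 : Q := sm gg N1183
/-- A coset. -/ def N2154 : Q := sm gb N1184
/-- A coset. -/ def N2155 : Q := sm gg N1184
/-- A coset. -/ def N2156 : Q := sm gb N1185
/-- A coset. -/ def N2157 : Q := sm gf N1185
/-- A coset. -/ def N2158 : Q := sm ga N1186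
/-- A coset. -/ def N2159 : Q := sm gc N1186
/-- A coset. -/ def N2160 : Q := sm gg N1186
/-- A coset. -/ def N2161 : Q := sm gb N1187
/-- A coset. -/ def N2162 : Q := sm ga N1188
/-- A coset. -/ def N2163 : Q := sm gf N1188
/-- A coset. -/ def N2164 : Q := sm gb N1189
/-- A coset. -/ def N2165 : Q := sm gb N1190
/-- A coset. -/ def N2166 : Q := sm gg N1190
/-- A coset. -/ def N2167 : Q := sm gb N1191
/-- A coset. -/ def N2168 : Q := sm gf N1191
/-- A coset. -/ def N2169 : Q := sm ga N1192
/-- A coset. -/ def N2170 : Q := sm gc N1192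
/-- A coset. -/ def N2171 : Q := sm gg N1192
/-- A coset. -/ def N2172 : Q := sm gb N1193
/-- A coset. -/ def N2173 : Q := sm ga N1194
/-- A coset. -/ def N2174 : Q := sm gc N1194
/-- A coset. -/ def N2175 : Q := sm gf N1194
/-- A coset. -/ def N2176 : Q := sm gb N1195
/-- A coset. -/ def N2177 : Q := sm gb N1196
/-- A coset. -/ def N2178 : Q := sm gc N1196
/-- A coset. -/ def N2179 : Q := sm gg N1196
/-- A coset. -/ def N2180 : Q := sm gg N1197
/-- A coset. -/ def N2181 : Q := sm gb N1198
/-- A coset. -/ def N2182 : Q := sm gf N1198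
/-- A coset. -/ def N2183 : Q := sm ga N1199
/-- A coset. -/ def N2184 : Q := sm gc N1199
/-- A coset. -/ def N2185 : Q := sm gf N1199
/-- A coset. -/ def N2186 : Q := sm gb N1200
/-- A coset. -/ def N2187 : Q := sm gf N1200
/-- A coset. -/ def N2188 : Q := sm gb N1201
/-- A coset. -/ def N2189 : Q := sm gg N1201
/-- A coset. -/ def N2190 : Q := sm ga N1202
/-- A coset. -/ def N2191 : Q := sm gc N1202
/-- A coset. -/ def N2192 : Q := sm gg N1202
/-- A coset. -/ def N2193 : Q := sm gc N1208
/-- A coset. -/ def N2194 : Q := sm gd N1209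
/-- A coset. -/ def N2195 : Q := sm gf N1209
/-- A coset. -/ def N2196 : Q := sm gd N1212
/-- A coset. -/ def N2197 : Q := sm gg N1212
/-- A coset. -/ def N2198 : Q := sm gd N1228
/-- A coset. -/ def N2199 : Q := sm gc N1230
/-- A coset. -/ def N2200 : Q := sm ge N1230
/-- A coset. -/ def N2201 : Q := sm gf N1230
/-- A coset. -/ def N2202 : Q := sm gc N1235
/-- A coset. -/ def N2203 : Q := sm ge N1235
/-- A coset. -/ def N2204 : Q := sm gg N1235
/-- A coset. -/ def N2205 : Q := sm gb N1236
/-- A coset. -/ def N2206 : Q := sm ge N1260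
/-- A coset. -/ def N2207 : Q := sm gf N1263
/-- A coset. -/ def N2208 : Q := sm gb N1269
/-- A coset. -/ def N2209 : Q := sm ge N1269
/-- A coset. -/ def N2210 : Q := sm gg N1269
/-- A coset. -/ def N2211 : Q := sm gg N1270
/-- A coset. -/ def N2212 : Q := sm gb N1271
/-- A coset. -/ def N2213 : Q := sm gc N1273
/-- A coset. -/ def N2214 : Q := sm gf N1273
/-- A coset. -/ def N2215 : Q := sm gg N1273
/-- A coset. -/ def N2216 : Q := sm gd N1274
/-- A coset. -/ def N2217 : Q := sm gf N1274
/-- A coset. -/ def N2218 : Q := sm gg N1274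
/-- A coset. -/ def N2219 : Q := sm gb N1275
/-- A coset. -/ def N2220 : Q := sm gg N1275
/-- A coset. -/ def N2221 : Q := sm gb N1276
/-- A coset. -/ def N2222 : Q := sm gf N1276
/-- A coset. -/ def N2223 : Q := sm ga N1277
/-- A coset. -/ def N2224 : Q := sm gc N1277
/-- A coset. -/ def N2225 : Q := sm gg N1277
/-- A coset. -/ def N2226 : Q := sm ga N1278
/-- A coset. -/ def N2227 : Q := sm gc N1278
/-- A coset. -/ def N2228 : Q := sm gf N1278
/-- A coset. -/ def N2229 : Q := sm gb N1279
/-- A coset. -/ def N2230 : Q := sm gc N1279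
/-- A coset. -/ def N2231 : Q := sm gg N1280
/-- A coset. -/ def N2232 : Q := sm gb N1281
/-- A coset. -/ def N2233 : Q := sm ga N1282
/-- A coset. -/ def N2234 : Q := sm gc N1282
/-- A coset. -/ def N2235 : Q := sm gf N1282
/-- A coset. -/ def N2236 : Q := sm ga N1283
/-- A coset. -/ def N2237 : Q := sm gc N1283
/-- A coset. -/ def N2238 : Q := sm gg N1283
/-- A coset. -/ def N2239 : Q := sm ga N1284
/-- A coset. -/ def N2240 : Q := sm gc N1284
/-- A coset. -/ def N2241 : Q := sm gf N1284
/-- A coset. -/ def N2242 : Q := sm gg N1284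
/-- A coset. -/ def N2243 : Q := sm gb N1285
/-- A coset. -/ def N2244 : Q := sm gg N1285
/-- A coset. -/ def N2245 : Q := sm gb N1286
/-- A coset. -/ def N2246 : Q := sm gf N1288
/-- A coset. -/ def N2247 : Q := sm gb N1289
/-- A coset. -/ def N2248 : Q := sm ga N1452
/-- A coset. -/ def N2249 : Q := sm gd N1452
/-- A coset. -/ def N2250 : Q := sm gf N1452
/-- A coset. -/ def N2251 : Q := sm gg N1452
/-- A coset. -/ def N2252 : Q := sm gf N1453
/-- A coset. -/ def N2253 : Q := sm gb N1454
/-- A coset. -/ def N2254 : Q := sm gc N1456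
/-- A coset. -/ def N2255 : Q := sm gb N1484
/-- A coset. -/ def N2256 : Q := sm gf N1484
/-- A coset. -/ def N2257 : Q := sm gg N1484
/-- A coset. -/ def N2258 : Q := sm gb N1485
/-- A coset. -/ def N2259 : Q := sm gg N1485
/-- A coset. -/ def N2260 : Q := sm gf N1486
/-- A coset. -/ def N2261 : Q := sm ga N1487
/-- A coset. -/ def N2262 : Q := sm gc N1487
/-- A coset. -/ def N2263 : Q := sm gg N1487
/-- A coset. -/ def N2264 : Q := sm gc N1488
/-- A coset. -/ def N2265 : Q := sm gd N1489
/-- A coset. -/ def N2266 : Q := sm gg N1489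
/-- A coset. -/ def N2267 : Q := sm gb N1524
/-- A coset. -/ def N2268 : Q := sm gd N1524
/-- A coset. -/ def N2269 : Q := sm gf N1524
/-- A coset. -/ def N2270 : Q := sm gg N1524
/-- A coset. -/ def N2271 : Q := sm gc N1525
/-- A coset. -/ def N2272 : Q := sm gf N1525
/-- A coset. -/ def N2273 : Q := sm gg N1525
/-- A coset. -/ def N2274 : Q := sm gb N1526
/-- A coset. -/ def N2275 : Q := sm gg N1526
/-- A coset. -/ def N2276 : Q := sm gf N1527
/-- A coset. -/ def N2277 : Q := sm gb N1528
/-- A coset. -/ def N2278 : Q := sm gf N1528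
/-- A coset. -/ def N2279 : Q := sm gb N1530
/-- A coset. -/ def N2280 : Q := sm ga N1532
/-- A coset. -/ def N2281 : Q := sm gg N1532
/-- A coset. -/ def N2282 : Q := sm gb N1533
/-- A coset. -/ def N2283 : Q := sm gc N1536
/-- A coset. -/ def N2284 : Q := sm ga N1550
/-- A coset. -/ def N2285 : Q := sm gc N1550
/-- A coset. -/ def N2286 : Q := sm gf N1550
/-- A coset. -/ def N2287 : Q := sm gg N1550
/-- A coset. -/ def N2288 : Q := sm gb N1551
/-- A coset. -/ def N2289 : Q := sm gb N1552
/-- A coset. -/ def N2290 : Q := sm gb N1553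
/-- A coset. -/ def N2291 : Q := sm gb N1554
/-- A coset. -/ def N2292 : Q := sm gb N1669
/-- A coset. -/ def N2293 : Q := sm gd N1669
/-- A coset. -/ def N2294 : Q := sm gf N1669
/-- A coset. -/ def N2295 : Q := sm gg N1669
/-- A coset. -/ def N2296 : Q := sm gb N1671
/-- A coset. -/ def N2297 : Q := sm ga N1692
/-- A coset. -/ def N2298 : Q := sm gf N1692
/-- A coset. -/ def N2299 : Q := sm gg N1692
/-- A coset. -/ def N2300 : Q := sm gb N1693
/-- A coset. -/ def N2301 : Q := sm gb N1694
/-- A coset. -/ def N2302 : Q := sm gc N1695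
/-- A coset. -/ def N2303 : Q := sm gc N1696
/-- A coset. -/ def N2304 : Q := sm ga N1711
/-- A coset. -/ def N2305 : Q := sm gd N1711
/-- A coset. -/ def N2306 : Q := sm gf N1711
/-- A coset. -/ def N2307 : Q := sm gg N1711
/-- A coset. -/ def N2308 : Q := sm ge N1712
/-- A coset. -/ def N2309 : Q := sm gf N1712
/-- A coset. -/ def N2310 : Q := sm gg N1712
/-- A coset. -/ def N2311 : Q := sm gb N1713
/-- A coset. -/ def N2312 : Q := sm gg N1713
/-- A coset. -/ def N2313 : Q := sm gb N1714
/-- A coset. -/ def N2314 : Q := sm gf N1714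
/-- A coset. -/ def N2315 : Q := sm gc N1715
/-- A coset. -/ def N2316 : Q := sm gb N1739
/-- A coset. -/ def N2317 : Q := sm gf N1739
/-- A coset. -/ def N2318 : Q := sm gg N1739
/-- A coset. -/ def N2319 : Q := sm ge N1740
/-- A coset. -/ def N2320 : Q := sm gf N1740
/-- A coset. -/ def N2321 : Q := sm gg N1740
/-- A coset. -/ def N2322 : Q := sm gb N1741
/-- A coset. -/ def N2323 : Q := sm gg N1741
/-- A coset. -/ def N2324 : Q := sm gb N1742
/-- A coset. -/ def N2325 : Q := sm gf N1742
/-- A coset. -/ def N2326 : Q := sm gf N1743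
/-- A coset. -/ def N2327 : Q := sm gg N1743
/-- A coset. -/ def N2328 : Q := sm gb N1744
/-- A coset. -/ def N2329 : Q := sm gg N1744
/-- A coset. -/ def N2330 : Q := sm gb N1745
/-- A coset. -/ def N2331 : Q := sm gf N1745
/-- A coset. -/ def N2332 : Q := sm ga N1746
/-- A coset. -/ def N2333 : Q := sm gc N1746
/-- A coset. -/ def N2334 : Q := sm gg N1746
/-- A coset. -/ def N2335 : Q := sm gb N1747
/-- A coset. -/ def N2336 : Q := sm ga N1748
/-- A coset. -/ def N2337 : Q := sm gf N1748
/-- A coset. -/ def N2338 : Q := sm gb N1749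
/-- A coset. -/ def N2339 : Q := sm gc N1750
/-- A coset. -/ def N2340 : Q := sm gd N1751
/-- A coset. -/ def N2341 : Q := sm ga N1809
/-- A coset. -/ def N2342 : Q := sm gf N1809
/-- A coset. -/ def N2343 : Q := sm gg N1809
/-- A coset. -/ def N2344 : Q := sm gb N1822
/-- A coset. -/ def N2345 : Q := sm gd N1822
/-- A coset. -/ def N2346 : Q := sm gf N1822
/-- A coset. -/ def N2347 : Q := sm gg N1822
/-- A coset. -/ def N2348 : Q := sm gc N1823
/-- A coset. -/ def N2349 : Q := sm gf N1823
/-- A coset. -/ def N2350 : Q := sm gg N1823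
/-- A coset. -/ def N2351 : Q := sm gb N1824
/-- A coset. -/ def N2352 : Q := sm gg N1824
/-- A coset. -/ def N2353 : Q := sm gf N1825
/-- A coset. -/ def N2354 : Q := sm gb N1826
/-- A coset. -/ def N2355 : Q := sm ga N1827
/-- A coset. -/ def N2356 : Q := sm gc N1827
/-- A coset. -/ def N2357 : Q := sm gg N1827
/-- A coset. -/ def N2358 : Q := sm gd N1829
/-- A coset. -/ def N2359 : Q := sm gc N1834
/-- A coset. -/ def N2360 : Q := sm ga N1851
/-- A coset. -/ def N2361 : Q := sm gc N1851
/-- A coset. -/ def N2362 : Q := sm gf N1851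
/-- A coset. -/ def N2363 : Q := sm gg N1851
/-- A coset. -/ def N2364 : Q := sm gb N1852
/-- A coset. -/ def N2365 : Q := sm gb N1853
/-- A coset. -/ def N2366 : Q := sm ga N1854
/-- A coset. -/ def N2367 : Q := sm gc N1854
/-- A coset. -/ def N2368 : Q := sm gg N1854
/-- A coset. -/ def N2369 : Q := sm gb N1855
/-- A coset. -/ def N2370 : Q := sm ga N1856
/-- A coset. -/ def N2371 : Q := sm gf N1856
/-- A coset. -/ def N2372 : Q := sm gb N1857
/-- A coset. -/ def N2373 : Q := sm gb N1858
/-- A coset. -/ def N2374 : Q := sm gc N1858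
/-- A coset. -/ def N2375 : Q := sm gg N1858
/-- A coset. -/ def N2376 : Q := sm gd N1859
/-- A coset. -/ def N2377 : Q := sm gg N1859
/-- A coset. -/ def N2378 : Q := sm gf N1860
/-- A coset. -/ def N2379 : Q := sm gb N1861
/-- A coset. -/ def N2380 : Q := sm gf N1861
/-- A coset. -/ def N2381 : Q := sm gb N1863
/-- A coset. -/ def N2382 : Q := sm gg N1863
/-- A coset. -/ def N2383 : Q := sm ga N1864
/-- A coset. -/ def N2384 : Q := sm gc N1864
/-- A coset. -/ def N2385 : Q := sm gg N1864
/-- A coset. -/ def N2386 : Q := sm gc N1865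
/-- A coset. -/ def N2387 : Q := sm gb N1866
/-- A coset. -/ def N2388 : Q := sm gd N1866
/-- A coset. -/ def N2389 : Q := sm gc N1868
/-- A coset. -/ def N2390 : Q := sm ge N1868
/-- A coset. -/ def N2391 : Q := sm gg N1868
/-- A coset. -/ def N2392 : Q := sm gb N1869
/-- A coset. -/ def N2393 : Q := sm gf N1869
/-- A coset. -/ def N2394 : Q := sm gc N1878
/-- A coset. -/ def N2395 : Q := sm gd N1879
/-- A coset. -/ def N2396 : Q := sm gd N1895
/-- A coset. -/ def N2397 : Q := sm gc N1897
/-- A coset. -/ def N2398 : Q := sm ge N1897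
/-- A coset. -/ def N2399 : Q := sm ge N1934
/-- A coset. -/ def N2400 : Q := sm gb N1942
/-- A coset. -/ def N2401 : Q := sm ge N1942
/-- A coset. -/ def N2402 : Q := sm gb N1990
/-- A coset. -/ def N2403 : Q := sm gd N1990
/-- A coset. -/ def N2404 : Q := sm gf N1990
/-- A coset. -/ def N2405 : Q := sm gg N1990
/-- A coset. -/ def N2406 : Q := sm gc N1991
/-- A coset. -/ def N2407 : Q := sm ge N1991
/-- A coset. -/ def N2408 : Q := sm gf N1991
/-- A coset. -/ def N2409 : Q := sm gg N1991
/-- A coset. -/ def N2410 : Q := sm gb N1992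
/-- A coset. -/ def N2411 : Q := sm gg N1992
/-- A coset. -/ def N2412 : Q := sm gb N1993
/-- A coset. -/ def N2413 : Q := sm gf N1993
/-- A coset. -/ def N2414 : Q := sm gf N1994
/-- A coset. -/ def N2415 : Q := sm gg N1994
/-- A coset. -/ def N2416 : Q := sm gb N1995
/-- A coset. -/ def N2417 : Q := sm gb N1996
/-- A coset. -/ def N2418 : Q := sm ga N1997
/-- A coset. -/ def N2419 : Q := sm gc N1997
/-- A coset. -/ def N2420 : Q := sm gg N1997
/-- A coset. -/ def N2421 : Q := sm ga N1998
/-- A coset. -/ def N2422 : Q := sm gf N1998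
/-- A coset. -/ def N2423 : Q := sm gc N1999
/-- A coset. -/ def N2424 : Q := sm gd N2000
/-- A coset. -/ def N2425 : Q := sm gg N2000
/-- A coset. -/ def N2426 : Q := sm gc N2007
/-- A coset. -/ def N2427 : Q := sm ga N2020
/-- A coset. -/ def N2428 : Q := sm gc N2020
/-- A coset. -/ def N2429 : Q := sm gd N2020
/-- A coset. -/ def N2430 : Q := sm gf N2020
/-- A coset. -/ def N2431 : Q := sm gg N2020
/-- A coset. -/ def N2432 : Q := sm ge N2021
/-- A coset. -/ def N2433 : Q := sm gf N2021
/-- A coset. -/ def N2434 : Q := sm gg N2021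
/-- A coset. -/ def N2435 : Q := sm gb N2022
/-- A coset. -/ def N2436 : Q := sm gb N2023
/-- A coset. -/ def N2437 : Q := sm gb N2024
/-- A coset. -/ def N2438 : Q := sm ge N2024
/-- A coset. -/ def N2439 : Q := sm gf N2024
/-- A coset. -/ def N2440 : Q := sm gg N2024
/-- A coset. -/ def N2441 : Q := sm gf N2025
/-- A coset. -/ def N2442 : Q := sm gg N2025
/-- A coset. -/ def N2443 : Q := sm gb N2026
/-- A coset. -/ def N2444 : Q := sm gg N2026
/-- A coset. -/ def N2445 : Q := sm gb N2027
/-- A coset. -/ def N2446 : Q := sm gf N2027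
/-- A coset. -/ def N2447 : Q := sm ga N2028
/-- A coset. -/ def N2448 : Q := sm gg N2028
/-- A coset. -/ def N2449 : Q := sm gb N2029
/-- A coset. -/ def N2450 : Q := sm ga N2030
/-- A coset. -/ def N2451 : Q := sm gf N2030
/-- A coset. -/ def N2452 : Q := sm gb N2031
/-- A coset. -/ def N2453 : Q := sm ga N2032
/-- A coset. -/ def N2454 : Q := sm ge N2032
/-- A coset. -/ def N2455 : Q := sm gf N2032
/-- A coset. -/ def N2456 : Q := sm gg N2032
/-- A coset. -/ def N2457 : Q := sm gd N2033
/-- A coset. -/ def N2458 : Q := sm gf N2033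
/-- A coset. -/ def N2459 : Q := sm gg N2033
/-- A coset. -/ def N2460 : Q := sm gb N2034
/-- A coset. -/ def N2461 : Q := sm gb N2035
/-- A coset. -/ def N2462 : Q := sm gb N2036
/-- A coset. -/ def N2463 : Q := sm gg N2036
/-- A coset. -/ def N2464 : Q := sm gb N2037
/-- A coset. -/ def N2465 : Q := sm gf N2037
/-- A coset. -/ def N2466 : Q := sm ga N2038
/-- A coset. -/ def N2467 : Q := sm gc N2038
/-- A coset. -/ def N2468 : Q := sm gg N2038
/-- A coset. -/ def N2469 : Q := sm gb N2039
/-- A coset. -/ def N2470 : Q := sm ga N2040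
/-- A coset. -/ def N2471 : Q := sm gc N2040
/-- A coset. -/ def N2472 : Q := sm gf N2040
/-- A coset. -/ def N2473 : Q := sm gb N2041
/-- A coset. -/ def N2474 : Q := sm gb N2042
/-- A coset. -/ def N2475 : Q := sm gg N2042
/-- A coset. -/ def N2476 : Q := sm gb N2043
/-- A coset. -/ def N2477 : Q := sm gf N2043
/-- A coset. -/ def N2478 : Q := sm ga N2044
/-- A coset. -/ def N2479 : Q := sm gc N2044
/-- A coset. -/ def N2480 : Q := sm gf N2044
/-- A coset. -/ def N2481 : Q := sm gb N2045
/-- A coset. -/ def N2482 : Q := sm gf N2045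
/-- A coset. -/ def N2483 : Q := sm gb N2046
/-- A coset. -/ def N2484 : Q := sm gg N2046
/-- A coset. -/ def N2485 : Q := sm ga N2047
/-- A coset. -/ def N2486 : Q := sm gc N2047
/-- A coset. -/ def N2487 : Q := sm gg N2047
/-- A coset. -/ def N2488 : Q := sm gc N2048
/-- A coset. -/ def N2489 : Q := sm gd N2049
/-- A coset. -/ def N2490 : Q := sm gf N2049
/-- A coset. -/ def N2491 : Q := sm gd N2052
/-- A coset. -/ def N2492 : Q := sm gg N2052
/-- A coset. -/ def N2493 : Q := sm gc N2062
/-- A coset. -/ def N2494 : Q := sm ge N2062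
/-- A coset. -/ def N2495 : Q := sm gg N2062
/-- A coset. -/ def N2496 : Q := sm gb N2076
/-- A coset. -/ def N2497 : Q := sm ge N2076
/-- A coset. -/ def N2498 : Q := sm gg N2077
/-- A coset. -/ def N2499 : Q := sm gc N2079
/-- A coset. -/ def N2500 : Q := sm gf N2079
/-- A coset. -/ def N2501 : Q := sm gg N2079
/-- A coset. -/ def N2502 : Q := sm gd N2080
/-- A coset. -/ def N2503 : Q := sm gf N2080
/-- A coset. -/ def N2504 : Q := sm gg N2080
/-- A coset. -/ def N2505 : Q := sm gb N2081
/-- A coset. -/ def N2506 : Q := sm gg N2081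
/-- A coset. -/ def N2507 : Q := sm gb N2082
/-- A coset. -/ def N2508 : Q := sm gf N2082
/-- A coset. -/ def N2509 : Q := sm ga N2083
/-- A coset. -/ def N2510 : Q := sm gc N2083
/-- A coset. -/ def N2511 : Q := sm gg N2083
/-- A coset. -/ def N2512 : Q := sm ga N2084
/-- A coset. -/ def N2513 : Q := sm gc N2084
/-- A coset. -/ def N2514 : Q := sm gf N2084
/-- A coset. -/ def N2515 : Q := sm ga N2085
/-- A coset. -/ def N2516 : Q := sm gc N2085
/-- A coset. -/ def N2517 : Q := sm gf N2085
/-- A coset. -/ def N2518 : Q := sm ga N2086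
/-- A coset. -/ def N2519 : Q := sm gc N2086
/-- A coset. -/ def N2520 : Q := sm gg N2086
/-- A coset. -/ def N2521 : Q := sm ga N2104
/-- A coset. -/ def N2522 : Q := sm gc N2104
/-- A coset. -/ def N2523 : Q := sm gd N2104
/-- A coset. -/ def N2524 : Q := sm gf N2104
/-- A coset. -/ def N2525 : Q := sm gg N2104
/-- A coset. -/ def N2526 : Q := sm gc N2105
/-- A coset. -/ def N2527 : Q := sm ge N2105
/-- A coset. -/ def N2528 : Q := sm gf N2105
/-- A coset. -/ def N2529 : Q := sm gg N2105
/-- A coset. -/ def N2530 : Q := sm gb N2106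
/-- A coset. -/ def N2531 : Q := sm gb N2107
/-- A coset. -/ def N2532 : Q := sm gd N2108
/-- A coset. -/ def N2533 : Q := sm ge N2108
/-- A coset. -/ def N2534 : Q := sm gf N2108
/-- A coset. -/ def N2535 : Q := sm gg N2108
/-- A coset. -/ def N2536 : Q := sm gf N2109
/-- A coset. -/ def N2537 : Q := sm gg N2109
/-- A coset. -/ def N2538 : Q := sm gb N2110
/-- A coset. -/ def N2539 : Q := sm gg N2110
/-- A coset. -/ def N2540 : Q := sm gb N2111
/-- A coset. -/ def N2541 : Q := sm gf N2111
/-- A coset. -/ def N2542 : Q := sm ga N2112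
/-- A coset. -/ def N2543 : Q := sm gc N2112
/-- A coset. -/ def N2544 : Q := sm gg N2112
/-- A coset. -/ def N2545 : Q := sm gb N2113
/-- A coset. -/ def N2546 : Q := sm ga N2114
/-- A coset. -/ def N2547 : Q := sm gf N2114
/-- A coset. -/ def N2548 : Q := sm gb N2115
/-- A coset. -/ def N2549 : Q := sm gb N2116
/-- A coset. -/ def N2550 : Q := sm gb N2117
/-- A coset. -/ def N2551 : Q := sm ga N2118
/-- A coset. -/ def N2552 : Q := sm gc N2118
/-- A coset. -/ def N2553 : Q := sm gg N2118
/-- A coset. -/ def N2554 : Q := sm ga N2119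
/-- A coset. -/ def N2555 : Q := sm gc N2119
/-- A coset. -/ def N2556 : Q := sm gf N2119
/-- A coset. -/ def N2557 : Q := sm gb N2120
/-- A coset. -/ def N2558 : Q := sm gc N2120
/-- A coset. -/ def N2559 : Q := sm gg N2120
/-- A coset. -/ def N2560 : Q := sm gd N2121
/-- A coset. -/ def N2561 : Q := sm gg N2121
/-- A coset. -/ def N2562 : Q := sm gf N2122
/-- A coset. -/ def N2563 : Q := sm gb N2123
/-- A coset. -/ def N2564 : Q := sm gf N2123
/-- A coset. -/ def N2565 : Q := sm gg N2124
/-- A coset. -/ def N2566 : Q := sm gc N2125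
/-- A coset. -/ def N2567 : Q := sm gb N2126
/-- A coset. -/ def N2568 : Q := sm gd N2126
/-- A coset. -/ def N2569 : Q := sm gc N2127
/-- A coset. -/ def N2570 : Q := sm ge N2127
/-- A coset. -/ def N2571 : Q := sm gg N2127
/-- A coset. -/ def N2572 : Q := sm gb N2128
/-- A coset. -/ def N2573 : Q := sm gc N2129
/-- A coset. -/ def N2574 : Q := sm ge N2129
/-- A coset. -/ def N2575 : Q := sm gb N2130
/-- A coset. -/ def N2576 : Q := sm gd N2130
/-- A coset. -/ def N2577 : Q := sm ge N2130
/-- A coset. -/ def N2578 : Q := sm gg N2130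
/-- A coset. -/ def N2579 : Q := sm gg N2131
/-- A coset. -/ def N2580 : Q := sm gb N2132
/-- A coset. -/ def N2581 : Q := sm gb N2135
/-- A coset. -/ def N2582 : Q := sm gc N2137
/-- A coset. -/ def N2583 : Q := sm gd N2137
/-- A coset. -/ def N2584 : Q := sm gf N2137
/-- A coset. -/ def N2585 : Q := sm gg N2137
/-- A coset. -/ def N2586 : Q := sm gd N2138
/-- A coset. -/ def N2587 : Q := sm gf N2138
/-- A coset. -/ def N2588 : Q := sm gg N2138
/-- A coset. -/ def N2589 : Q := sm gc N2139
/-- A coset. -/ def N2590 : Q := sm ge N2139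
/-- A coset. -/ def N2591 : Q := sm gf N2139
/-- A coset. -/ def N2592 : Q := sm gg N2139
/-- A coset. -/ def N2593 : Q := sm gb N2140
/-- A coset. -/ def N2594 : Q := sm gg N2140
/-- A coset. -/ def N2595 : Q := sm gb N2141
/-- A coset. -/ def N2596 : Q := sm gf N2141
/-- A coset. -/ def N2597 : Q := sm gb N2142
/-- A coset. -/ def N2598 : Q := sm ge N2142
/-- A coset. -/ def N2599 : Q := sm gf N2142
/-- A coset. -/ def N2600 : Q := sm gg N2142
/-- A coset. -/ def N2601 : Q := sm gf N2143
/-- A coset. -/ def N2602 : Q := sm gg N2143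
/-- A coset. -/ def N2603 : Q := sm gb N2144
/-- A coset. -/ def N2604 : Q := sm gb N2145
/-- A coset. -/ def N2605 : Q := sm ga N2146
/-- A coset. -/ def N2606 : Q := sm gc N2146
/-- A coset. -/ def N2607 : Q := sm gg N2146
/-- A coset. -/ def N2608 : Q := sm ga N2147
/-- A coset. -/ def N2609 : Q := sm gc N2147
/-- A coset. -/ def N2610 : Q := sm gf N2147
/-- A coset. -/ def N2611 : Q := sm ge N2148
/-- A coset. -/ def N2612 : Q := sm gf N2148
/-- A coset. -/ def N2613 : Q := sm gg N2148
/-- A coset. -/ def N2614 : Q := sm gd N2149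
/-- A coset. -/ def N2615 : Q := sm gf N2149
/-- A coset. -/ def N2616 : Q := sm gg N2149
/-- A coset. -/ def N2617 : Q := sm gb N2150
/-- A coset. -/ def N2618 : Q := sm gg N2150
/-- A coset. -/ def N2619 : Q := sm gb N2151
/-- A coset. -/ def N2620 : Q := sm gf N2151
/-- A coset. -/ def N2621 : Q := sm gb N2152
/-- A coset. -/ def N2622 : Q := sm gg N2152
/-- A coset. -/ def N2623 : Q := sm gb N2153
/-- A coset. -/ def N2624 : Q := sm gf N2153
/-- A coset. -/ def N2625 : Q := sm ga N2154
/-- A coset. -/ def N2626 : Q := sm gc N2154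
/-- A coset. -/ def N2627 : Q := sm gg N2154
/-- A coset. -/ def N2628 : Q := sm gb N2155
/-- A coset. -/ def N2629 : Q := sm ga N2156
/-- A coset. -/ def N2630 : Q := sm gc N2156
/-- A coset. -/ def N2631 : Q := sm gf N2156
/-- A coset. -/ def N2632 : Q := sm gb N2157
/-- A coset. -/ def N2633 : Q := sm gb N2158
/-- A coset. -/ def N2634 : Q := sm gc N2158
/-- A coset. -/ def N2635 : Q := sm gg N2159
/-- A coset. -/ def N2636 : Q := sm gb N2160
/-- A coset. -/ def N2637 : Q := sm ga N2161
/-- A coset. -/ def N2638 : Q := sm gc N2161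
/-- A coset. -/ def N2639 : Q := sm gf N2161
/-- A coset. -/ def N2640 : Q := sm gb N2162
/-- A coset. -/ def N2641 : Q := sm gb N2163
/-- A coset. -/ def N2642 : Q := sm ga N2164
/-- A coset. -/ def N2643 : Q := sm gc N2164
/-- A coset. -/ def N2644 : Q := sm gg N2164
/-- A coset. -/ def N2645 : Q := sm ga N2165
/-- A coset. -/ def N2646 : Q := sm gc N2165
/-- A coset. -/ def N2647 : Q := sm gg N2165
/-- A coset. -/ def N2648 : Q := sm gb N2166
/-- A coset. -/ def N2649 : Q := sm ga N2167
/-- A coset. -/ def N2650 : Q := sm gc N2167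
/-- A coset. -/ def N2651 : Q := sm gf N2167
/-- A coset. -/ def N2652 : Q := sm gb N2168
/-- A coset. -/ def N2653 : Q := sm gb N2169
/-- A coset. -/ def N2654 : Q := sm gc N2169
/-- A coset. -/ def N2655 : Q := sm gg N2169
/-- A coset. -/ def N2656 : Q := sm gd N2170
/-- A coset. -/ def N2657 : Q := sm gg N2170
/-- A coset. -/ def N2658 : Q := sm gb N2171
/-- A coset. -/ def N2659 : Q := sm gf N2171
/-- A coset. -/ def N2660 : Q := sm ga N2172
/-- A coset. -/ def N2661 : Q := sm gc N2172
/-- A coset. -/ def N2662 : Q := sm gf N2172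
/-- A coset. -/ def N2663 : Q := sm gb N2173
/-- A coset. -/ def N2664 : Q := sm gc N2173
/-- A coset. -/ def N2665 : Q := sm gf N2173
/-- A coset. -/ def N2666 : Q := sm gd N2174
/-- A coset. -/ def N2667 : Q := sm gf N2174
/-- A coset. -/ def N2668 : Q := sm gb N2175
/-- A coset. -/ def N2669 : Q := sm gg N2175
/-- A coset. -/ def N2670 : Q := sm ga N2176
/-- A coset. -/ def N2671 : Q := sm gc N2176
/-- A coset. -/ def N2672 : Q := sm gg N2176
/-- A coset. -/ def N2673 : Q := sm ga N2177
/-- A coset. -/ def N2674 : Q := sm gc N2177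
/-- A coset. -/ def N2675 : Q := sm gf N2177
/-- A coset. -/ def N2676 : Q := sm gg N2177
/-- A coset. -/ def N2677 : Q := sm gb N2178
/-- A coset. -/ def N2678 : Q := sm gg N2178
/-- A coset. -/ def N2679 : Q := sm gb N2179
/-- A coset. -/ def N2680 : Q := sm gf N2180
/-- A coset. -/ def N2681 : Q := sm ga N2181
/-- A coset. -/ def N2682 : Q := sm gc N2181
/-- A coset. -/ def N2683 : Q := sm gf N2181
/-- A coset. -/ def N2684 : Q := sm gb N2182
/-- A coset. -/ def N2685 : Q := sm gb N2183
/-- A coset. -/ def N2686 : Q := sm gc N2183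
/-- A coset. -/ def N2687 : Q := sm gf N2183
/-- A coset. -/ def N2688 : Q := sm gd N2184
/-- A coset. -/ def N2689 : Q := sm gf N2184
/-- A coset. -/ def N2690 : Q := sm gg N2185
/-- A coset. -/ def N2691 : Q := sm ga N2186
/-- A coset. -/ def N2692 : Q := sm gc N2186
/-- A coset. -/ def N2693 : Q := sm gf N2186
/-- A coset. -/ def N2694 : Q := sm gg N2186
/-- A coset. -/ def N2695 : Q := sm gb N2187
/-- A coset. -/ def N2696 : Q := sm ga N2188
/-- A coset. -/ def N2697 : Q := sm gc N2188
/-- A coset. -/ def N2698 : Q := sm gg N2188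
/-- A coset. -/ def N2699 : Q := sm gb N2189
/-- A coset. -/ def N2700 : Q := sm gb N2190
/-- A coset. -/ def N2701 : Q := sm gc N2190
/-- A coset. -/ def N2702 : Q := sm gg N2190
/-- A coset. -/ def N2703 : Q := sm gd N2191
/-- A coset. -/ def N2704 : Q := sm gg N2191
/-- A coset. -/ def N2705 : Q := sm gf N2192
/-- A coset. -/ def N2706 : Q := sm gb N2193
/-- A coset. -/ def N2707 : Q := sm gd N2193
/-- A coset. -/ def N2708 : Q := sm gc N2194
/-- A coset. -/ def N2709 : Q := sm ge N2194
/-- A coset. -/ def N2710 : Q := sm gf N2194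
/-- A coset. -/ def N2711 : Q := sm gb N2195
/-- A coset. -/ def N2712 : Q := sm gc N2196
/-- A coset. -/ def N2713 : Q := sm ge N2196
/-- A coset. -/ def N2714 : Q := sm gg N2196
/-- A coset. -/ def N2715 : Q := sm gb N2197
/-- A coset. -/ def N2716 : Q := sm gc N2198
/-- A coset. -/ def N2717 : Q := sm ge N2198
/-- A coset. -/ def N2718 : Q := sm gb N2199
/-- A coset. -/ def N2719 : Q := sm gd N2199
/-- A coset. -/ def N2720 : Q := sm ge N2199
/-- A coset. -/ def N2721 : Q := sm gf N2199
/-- A coset. -/ def N2722 : Q := sm gf N2200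
/-- A coset. -/ def N2723 : Q := sm gb N2202
/-- A coset. -/ def N2724 : Q := sm gd N2202
/-- A coset. -/ def N2725 : Q := sm ge N2202
/-- A coset. -/ def N2726 : Q := sm gg N2202
/-- A coset. -/ def N2727 : Q := sm gg N2203
/-- A coset. -/ def N2728 : Q := sm gb N2204
/-- A coset. -/ def N2729 : Q := sm ge N2208
/-- A coset. -/ def N2730 : Q := sm gf N2208
/-- A coset. -/ def N2731 : Q := sm gd N2209
/-- A coset. -/ def N2732 : Q := sm gg N2209
/-- A coset. -/ def N2733 : Q := sm gb N2211
/-- A coset. -/ def N2734 : Q := sm gb N2213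
/-- A coset. -/ def N2735 : Q := sm gd N2213
/-- A coset. -/ def N2736 : Q := sm gf N2213
/-- A coset. -/ def N2737 : Q := sm gg N2213
/-- A coset. -/ def N2738 : Q := sm gb N2214
/-- A coset. -/ def N2739 : Q := sm gb N2215
/-- A coset. -/ def N2740 : Q := sm gc N2216
/-- A coset. -/ def N2741 : Q := sm ge N2216
/-- A coset. -/ def N2742 : Q := sm gf N2216
/-- A coset. -/ def N2743 : Q := sm gg N2216
/-- A coset. -/ def N2744 : Q := sm gb N2217
/-- A coset. -/ def N2745 : Q := sm gg N2217
/-- A coset. -/ def N2746 : Q := sm gb N2218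
/-- A coset. -/ def N2747 : Q := sm gf N2218
/-- A coset. -/ def N2748 : Q := sm ga N2219
/-- A coset. -/ def N2749 : Q := sm gc N2219
/-- A coset. -/ def N2750 : Q := sm gg N2219
/-- A coset. -/ def N2751 : Q := sm gb N2220
/-- A coset. -/ def N2752 : Q := sm ga N2221
/-- A coset. -/ def N2753 : Q := sm gc N2221
/-- A coset. -/ def N2754 : Q := sm gf N2221
/-- A coset. -/ def N2755 : Q := sm gb N2222
/-- A coset. -/ def N2756 : Q := sm gb N2223
/-- A coset. -/ def N2757 : Q := sm gc N2223
/-- A coset. -/ def N2758 : Q := sm gg N2223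
/-- A coset. -/ def N2759 : Q := sm gd N2224
/-- A coset. -/ def N2760 : Q := sm gg N2224
/-- A coset. -/ def N2761 : Q := sm gf N2225
/-- A coset. -/ def N2762 : Q := sm gb N2226
/-- A coset. -/ def N2763 : Q := sm gc N2226
/-- A coset. -/ def N2764 : Q := sm gf N2226
/-- A coset. -/ def N2765 : Q := sm gd N2227
/-- A coset. -/ def N2766 : Q := sm gf N2227
/-- A coset. -/ def N2767 : Q := sm gg N2228
/-- A coset. -/ def N2768 : Q := sm ga N2229
/-- A coset. -/ def N2769 : Q := sm gc N2229
/-- A coset. -/ def N2770 : Q := sm gf N2229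
/-- A coset. -/ def N2771 : Q := sm gg N2229
/-- A coset. -/ def N2772 : Q := sm gb N2230
/-- A coset. -/ def N2773 : Q := sm gb N2231
/-- A coset. -/ def N2774 : Q := sm ga N2232
/-- A coset. -/ def N2775 : Q := sm gc N2232
/-- A coset. -/ def N2776 : Q := sm gf N2232
/-- A coset. -/ def N2777 : Q := sm gb N2233
/-- A coset. -/ def N2778 : Q := sm gc N2233
/-- A coset. -/ def N2779 : Q := sm gf N2233
/-- A coset. -/ def N2780 : Q := sm gd N2234
/-- A coset. -/ def N2781 : Q := sm gf N2234
/-- A coset. -/ def N2782 : Q := sm gg N2235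
/-- A coset. -/ def N2783 : Q := sm gb N2236
/-- A coset. -/ def N2784 : Q := sm gc N2236
/-- A coset. -/ def N2785 : Q := sm gg N2236
/-- A coset. -/ def N2786 : Q := sm gd N2237
/-- A coset. -/ def N2787 : Q := sm gg N2237
/-- A coset. -/ def N2788 : Q := sm gc N2239
/-- A coset. -/ def N2789 : Q := sm gf N2239
/-- A coset. -/ def N2790 : Q := sm gg N2239
/-- A coset. -/ def N2791 : Q := sm gb N2240
/-- A coset. -/ def N2792 : Q := sm gd N2240
/-- A coset. -/ def N2793 : Q := sm gf N2240
/-- A coset. -/ def N2794 : Q := sm gg N2240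
/-- A coset. -/ def N2795 : Q := sm gg N2241
/-- A coset. -/ def N2796 : Q := sm gb N2242
/-- A coset. -/ def N2797 : Q := sm gf N2242
/-- A coset. -/ def N2798 : Q := sm ga N2243
/-- A coset. -/ def N2799 : Q := sm gf N2243
/-- A coset. -/ def N2800 : Q := sm gg N2243
/-- A coset. -/ def N2801 : Q := sm gb N2244
/-- A coset. -/ def N2802 : Q := sm ga N2245
/-- A coset. -/ def N2803 : Q := sm gc N2245
/-- A coset. -/ def N2804 : Q := sm gf N2245
/-- A coset. -/ def N2805 : Q := sm gb N2246
/-- A coset. -/ def N2806 : Q := sm ga N2247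
/-- A coset. -/ def N2807 : Q := sm gc N2247
/-- A coset. -/ def N2808 : Q := sm gg N2247
/-- A coset. -/ def N2809 : Q := sm gb N2248
/-- A coset. -/ def N2810 : Q := sm gd N2248
/-- A coset. -/ def N2811 : Q := sm gf N2248
/-- A coset. -/ def N2812 : Q := sm gg N2248
/-- A coset. -/ def N2813 : Q := sm gc N2249
/-- A coset. -/ def N2814 : Q := sm gf N2249
/-- A coset. -/ def N2815 : Q := sm gg N2249
/-- A coset. -/ def N2816 : Q := sm gb N2250
/-- A coset. -/ def N2817 : Q := sm gg N2250
/-- A coset. -/ def N2818 : Q := sm gf N2251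
/-- A coset. -/ def N2819 : Q := sm gb N2252
/-- A coset. -/ def N2820 : Q := sm ga N2253
/-- A coset. -/ def N2821 : Q := sm gc N2253
/-- A coset. -/ def N2822 : Q := sm gg N2253
/-- A coset. -/ def N2823 : Q := sm gd N2254
/-- A coset. -/ def N2824 : Q := sm ga N2255
/-- A coset. -/ def N2825 : Q := sm gc N2255
/-- A coset. -/ def N2826 : Q := sm gf N2255
/-- A coset. -/ def N2827 : Q := sm gg N2255
/-- A coset. -/ def N2828 : Q := sm gb N2256
/-- A coset. -/ def N2829 : Q := sm gb N2257
/-- A coset. -/ def N2830 : Q := sm ga N2258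
/-- A coset. -/ def N2831 : Q := sm gc N2258
/-- A coset. -/ def N2832 : Q := sm gg N2258
/-- A coset. -/ def N2833 : Q := sm gb N2259
/-- A coset. -/ def N2834 : Q := sm gb N2260
/-- A coset. -/ def N2835 : Q := sm gb N2261
/-- A coset. -/ def N2836 : Q := sm gc N2261
/-- A coset. -/ def N2837 : Q := sm gg N2261
/-- A coset. -/ def N2838 : Q := sm gd N2262
/-- A coset. -/ def N2839 : Q := sm gg N2262
/-- A coset. -/ def N2840 : Q := sm gf N2263
/-- A coset. -/ def N2841 : Q := sm gb N2264
/-- A coset. -/ def N2842 : Q := sm ge N2265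
/-- A coset. -/ def N2843 : Q := sm gg N2265
/-- A coset. -/ def N2844 : Q := sm gb N2266
/-- A coset. -/ def N2845 : Q := sm ga N2267
/-- A coset. -/ def N2846 : Q := sm gc N2267
/-- A coset. -/ def N2847 : Q := sm gf N2267
/-- A coset. -/ def N2848 : Q := sm gg N2267
/-- A coset. -/ def N2849 : Q := sm gf N2268
/-- A coset. -/ def N2850 : Q := sm gg N2268
/-- A coset. -/ def N2851 : Q := sm gb N2269
/-- A coset. -/ def N2852 : Q := sm gb N2270
/-- A coset. -/ def N2853 : Q := sm gb N2271
/-- A coset. -/ def N2854 : Q := sm gf N2271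
/-- A coset. -/ def N2855 : Q := sm gg N2271
/-- A coset. -/ def N2856 : Q := sm gb N2272
/-- A coset. -/ def N2857 : Q := sm gg N2272
/-- A coset. -/ def N2858 : Q := sm gf N2273
/-- A coset. -/ def N2859 : Q := sm ga N2274
/-- A coset. -/ def N2860 : Q := sm gg N2274
/-- A coset. -/ def N2861 : Q := sm gb N2275
/-- A coset. -/ def N2862 : Q := sm gb N2276
/-- A coset. -/ def N2863 : Q := sm ga N2277
/-- A coset. -/ def N2864 : Q := sm gf N2277
/-- A coset. -/ def N2865 : Q := sm gg N2277
/-- A coset. -/ def N2866 : Q := sm gb N2278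
/-- A coset. -/ def N2867 : Q := sm ga N2279
/-- A coset. -/ def N2868 : Q := sm gc N2279
/-- A coset. -/ def N2869 : Q := sm gg N2279
/-- A coset. -/ def N2870 : Q := sm gb N2280
/-- A coset. -/ def N2871 : Q := sm gg N2280
/-- A coset. -/ def N2872 : Q := sm gb N2281
/-- A coset. -/ def N2873 : Q := sm gf N2281
/-- A coset. -/ def N2874 : Q := sm ga N2282
/-- A coset. -/ def N2875 : Q := sm gc N2282
/-- A coset. -/ def N2876 : Q := sm gf N2282
/-- A coset. -/ def N2877 : Q := sm gd N2283
/-- A coset. -/ def N2878 : Q := sm gc N2284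
/-- A coset. -/ def N2879 : Q := sm gf N2284
/-- A coset. -/ def N2880 : Q := sm gg N2284
/-- A coset. -/ def N2881 : Q := sm gf N2285
/-- A coset. -/ def N2882 : Q := sm gg N2285
/-- A coset. -/ def N2883 : Q := sm gb N2286
/-- A coset. -/ def N2884 : Q := sm gg N2286
/-- A coset. -/ def N2885 : Q := sm gb N2287
/-- A coset. -/ def N2886 : Q := sm gf N2287
/-- A coset. -/ def N2887 : Q := sm ga N2288
/-- A coset. -/ def N2888 : Q := sm gc N2288
/-- A coset. -/ def N2889 : Q := sm gg N2288
/-- A coset. -/ def N2891 : Q := sm gc N2289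
/-- A coset. -/ def N2892 : Q := sm gf N2289
/-- A coset. -/ def N2893 : Q := sm ga N2290
/-- A coset. -/ def N2894 : Q := sm gc N2290
/-- A coset. -/ def N2895 : Q := sm gf N2290
/-- A coset. -/ def N2896 : Q := sm ga N2291
/-- A coset. -/ def N2897 : Q := sm gc N2291
/-- A coset. -/ def N2898 : Q := sm gg N2291
/-- A coset. -/ def N2899 : Q := sm ga N2292
/-- A coset. -/ def N2900 : Q := sm gd N2292
/-- A coset. -/ def N2901 : Q := sm gf N2292
/-- A coset. -/ def N2902 : Q := sm gg N2292
/-- A coset. -/ def N2903 : Q := sm gf N2293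
/-- A coset. -/ def N2904 : Q := sm gg N2293
/-- A coset. -/ def N2905 : Q := sm gb N2294
/-- A coset. -/ def N2906 : Q := sm gb N2295
/-- A coset. -/ def N2907 : Q := sm gc N2296
/-- A coset. -/ def N2908 : Q := sm gf N2297
/-- A coset. -/ def N2909 : Q := sm gg N2297
/-- A coset. -/ def N2910 : Q := sm gb N2298
/-- A coset. -/ def N2911 : Q := sm gg N2298
/-- A coset. -/ def N2912 : Q := sm gb N2299
/-- A coset. -/ def N2913 : Q := sm gf N2299
/-- A coset. -/ def N2914 : Q := sm ga N2300
/-- A coset. -/ def N2915 : Q := sm gc N2300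
/-- A coset. -/ def N2916 : Q := sm gg N2300
/-- A coset. -/ def N2917 : Q := sm ga N2301
/-- A coset. -/ def N2918 : Q := sm gc N2301
/-- A coset. -/ def N2919 : Q := sm gf N2301
/-- A coset. -/ def N2920 : Q := sm gd N2302
/-- A coset. -/ def N2922 : Q := sm gb N2304
/-- A coset. -/ def N2923 : Q := sm gd N2304
/-- A coset. -/ def N2924 : Q := sm gf N2304
/-- A coset. -/ def N2925 : Q := sm gg N2304
/-- A coset. -/ def N2926 : Q := sm gc N2305
/-- A coset. -/ def N2927 : Q := sm ge N2305
/-- A coset. -/ def N2928 : Q := sm gf N2305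
/-- A coset. -/ def N2929 : Q := sm gg N2305
/-- A coset. -/ def N2930 : Q := sm gb N2306
/-- A coset. -/ def N2931 : Q := sm gg N2306
/-- A coset. -/ def N2932 : Q := sm gb N2307
/-- A coset. -/ def N2933 : Q := sm gf N2307
/-- A coset. -/ def N2934 : Q := sm gf N2308
/-- A coset. -/ def N2935 : Q := sm gg N2308
/-- A coset. -/ def N2936 : Q := sm gb N2309
/-- A coset. -/ def N2937 : Q := sm gg N2309
/-- A coset. -/ def N2938 : Q := sm gb N2310
/-- A coset. -/ def N2939 : Q := sm gf N2310
/-- A coset. -/ def N2940 : Q := sm ga N2311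
/-- A coset. -/ def N2941 : Q := sm gc N2311
/-- A coset. -/ def N2942 : Q := sm gg N2311
/-- A coset. -/ def N2943 : Q := sm gb N2312
/-- A coset. -/ def N2944 : Q := sm ga N2313
/-- A coset. -/ def N2945 : Q := sm gf N2313
/-- A coset. -/ def N2946 : Q := sm gb N2314
/-- A coset. -/ def N2947 : Q := sm gd N2315
/-- A coset. -/ def N2948 : Q := sm gf N2316
/-- A coset. -/ def N2949 : Q := sm gg N2316
/-- A coset. -/ def N2950 : Q := sm gb N2317
/-- A coset. -/ def N2951 : Q := sm gb N2318
/-- A coset. -/ def N2952 : Q := sm gf N2319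
/-- A coset. -/ def N2953 : Q := sm gg N2319
/-- A coset. -/ def N2954 : Q := sm gb N2320
/-- A coset. -/ def N2955 : Q := sm gg N2320
/-- A coset. -/ def N2956 : Q := sm gb N2321
/-- A coset. -/ def N2957 : Q := sm gf N2321
/-- A coset. -/ def N2958 : Q := sm ga N2322
/-- A coset. -/ def N2959 : Q := sm gc N2322
/-- A coset. -/ def N2960 : Q := sm gg N2322
/-- A coset. -/ def N2961 : Q := sm gb N2323
/-- A coset. -/ def N2962 : Q := sm ga N2324
/-- A coset. -/ def N2963 : Q := sm gf N2324
/-- A coset. -/ def N2964 : Q := sm gb N2325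
/-- A coset. -/ def N2965 : Q := sm gb N2326
/-- A coset. -/ def N2966 : Q := sm gg N2326
/-- A coset. -/ def N2967 : Q := sm gb N2327
/-- A coset. -/ def N2968 : Q := sm gf N2327
/-- A coset. -/ def N2969 : Q := sm ga N2328
/-- A coset. -/ def N2970 : Q := sm gc N2328
/-- A coset. -/ def N2971 : Q := sm gg N2328
/-- A coset. -/ def N2972 : Q := sm gb N2329
/-- A coset. -/ def N2973 : Q := sm ga N2330
/-- A coset. -/ def N2974 : Q := sm gc N2330
/-- A coset. -/ def N2975 : Q := sm gf N2330
/-- A coset. -/ def N2976 : Q := sm gb N2331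
/-- A coset. -/ def N2977 : Q := sm gb N2332
/-- A coset. -/ def N2978 : Q := sm gc N2332
/-- A coset. -/ def N2979 : Q := sm gg N2332
/-- A coset. -/ def N2980 : Q := sm gd N2333
/-- A coset. -/ def N2981 : Q := sm gg N2333
/-- A coset. -/ def N2982 : Q := sm gb N2334
/-- A coset. -/ def N2983 : Q := sm gf N2334
/-- A coset. -/ def N2984 : Q := sm ga N2335
/-- A coset. -/ def N2985 : Q := sm gf N2335
/-- A coset. -/ def N2986 : Q := sm gb N2336
/-- A coset. -/ def N2987 : Q := sm gf N2336
/-- A coset. -/ def N2988 : Q := sm gb N2337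
/-- A coset. -/ def N2989 : Q := sm gg N2337
/-- A coset. -/ def N2990 : Q := sm ga N2338
/-- A coset. -/ def N2991 : Q := sm gg N2338
/-- A coset. -/ def N2992 : Q := sm gb N2339
/-- A coset. -/ def N2993 : Q := sm gd N2339
/-- A coset. -/ def N2994 : Q := sm ge N2340
/-- A coset. -/ def N2995 : Q := sm gb N2341
/-- A coset. -/ def N2996 : Q := sm gf N2341
/-- A coset. -/ def N2997 : Q := sm gg N2341
/-- A coset. -/ def N2998 : Q := sm gg N2342
/-- A coset. -/ def N2999 : Q := sm gf N2343
/-- A coset. -/ def N3000 : Q := sm gd N2344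
/-- A coset. -/ def N3001 : Q := sm gf N2344
/-- A coset. -/ def N3002 : Q := sm gg N2344
/-- A coset. -/ def N3003 : Q := sm gf N2345
/-- A coset. -/ def N3004 : Q := sm gg N2345
/-- A coset. -/ def N3005 : Q := sm gb N2346
/-- A coset. -/ def N3006 : Q := sm gb N2347
/-- A coset. -/ def N3007 : Q := sm gd N2348
/-- A coset. -/ def N3008 : Q := sm gf N2348
/-- A coset. -/ def N3009 : Q := sm gg N2348
/-- A coset. -/ def N3010 : Q := sm gb N2349
/-- A coset. -/ def N3011 : Q := sm gg N2349
/-- A coset. -/ def N3012 : Q := sm gf N2350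
/-- A coset. -/ def N3013 : Q := sm ga N2351
/-- A coset. -/ def N3014 : Q := sm gc N2351
/-- A coset. -/ def N3015 : Q := sm gg N2351
/-- A coset. -/ def N3016 : Q := sm gb N2352
/-- A coset. -/ def N3017 : Q := sm gb N2353
/-- A coset. -/ def N3018 : Q := sm ga N2354
/-- A coset. -/ def N3019 : Q := sm gc N2354
/-- A coset. -/ def N3020 : Q := sm gg N2354
/-- A coset. -/ def N3021 : Q := sm gb N2355
/-- A coset. -/ def N3022 : Q := sm gc N2355
/-- A coset. -/ def N3023 : Q := sm gg N2355
/-- A coset. -/ def N3024 : Q := sm gd N2356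
/-- A coset. -/ def N3025 : Q := sm gg N2356
/-- A coset. -/ def N3026 : Q := sm gf N2357
/-- A coset. -/ def N3027 : Q := sm ge N2358
/-- A coset. -/ def N3028 : Q := sm gb N2359
/-- A coset. -/ def N3029 : Q := sm gd N2359
/-- A coset. -/ def N3030 : Q := sm gf N2360
/-- A coset. -/ def N3031 : Q := sm gg N2360
/-- A coset. -/ def N3032 : Q := sm gd N2361
/-- A coset. -/ def N3033 : Q := sm gf N2361
/-- A coset. -/ def N3034 : Q := sm gg N2361
/-- A coset. -/ def N3035 : Q := sm gb N2362
/-- A coset. -/ def N3036 : Q := sm gg N2362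
/-- A coset. -/ def N3037 : Q := sm gb N2363
/-- A coset. -/ def N3038 : Q := sm gf N2363
/-- A coset. -/ def N3039 : Q := sm ga N2364
/-- A coset. -/ def N3040 : Q := sm gc N2364
/-- A coset. -/ def N3041 : Q := sm gg N2364
/-- A coset. -/ def N3042 : Q := sm ga N2365
/-- A coset. -/ def N3043 : Q := sm gc N2365
/-- A coset. -/ def N3044 : Q := sm gf N2365
/-- A coset. -/ def N3045 : Q := sm gb N2366
/-- A coset. -/ def N3046 : Q := sm gc N2366
/-- A coset. -/ def N3047 : Q := sm gd N2367
/-- A coset. -/ def N3048 : Q := sm gg N2367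
/-- A coset. -/ def N3049 : Q := sm gb N2368
/-- A coset. -/ def N3050 : Q := sm ga N2369
/-- A coset. -/ def N3052 : Q := sm gf N2369
/-- A coset. -/ def N3053 : Q := sm gb N2370
/-- A coset. -/ def N3054 : Q := sm gb N2371
/-- A coset. -/ def N3055 : Q := sm ga N2372
/-- A coset. -/ def N3056 : Q := sm gc N2372
/-- A coset. -/ def N3057 : Q := sm gg N2372
/-- A coset. -/ def N3058 : Q := sm ga N2373
/-- A coset. -/ def N3059 : Q := sm gc N2373
/-- A coset. -/ def N3060 : Q := sm gf N2373
/-- A coset. -/ def N3061 : Q := sm gg N2373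
/-- A coset. -/ def N3062 : Q := sm gb N2374
/-- A coset. -/ def N3063 : Q := sm gd N2374
/-- A coset. -/ def N3064 : Q := sm gg N2374
/-- A coset. -/ def N3065 : Q := sm gb N2375
/-- A coset. -/ def N3066 : Q := sm gc N2376
/-- A coset. -/ def N3067 : Q := sm ge N2376
/-- A coset. -/ def N3068 : Q := sm gg N2376
/-- A coset. -/ def N3069 : Q := sm gb N2377
/-- A coset. -/ def N3070 : Q := sm gf N2377
/-- A coset. -/ def N3071 : Q := sm gb N2378
/-- A coset. -/ def N3072 : Q := sm ga N2379
/-- A coset. -/ def N3073 : Q := sm gc N2379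
/-- A coset. -/ def N3074 : Q := sm gf N2379
/-- A coset. -/ def N3075 : Q := sm gg N2379
/-- A coset. -/ def N3076 : Q := sm gb N2380
/-- A coset. -/ def N3077 : Q := sm ga N2381
/-- A coset. -/ def N3078 : Q := sm gc N2381
/-- A coset. -/ def N3079 : Q := sm gg N2381
/-- A coset. -/ def N3080 : Q := sm gb N2382
/-- A coset. -/ def N3081 : Q := sm gb N2383
/-- A coset. -/ def N3082 : Q := sm gc N2383
/-- A coset. -/ def N3083 : Q := sm gg N2383
/-- A coset. -/ def N3084 : Q := sm gd N2384
/-- A coset. -/ def N3085 : Q := sm gg N2384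
/-- A coset. -/ def N3086 : Q := sm gf N2385
/-- A coset. -/ def N3087 : Q := sm gb N2386
/-- A coset. -/ def N3088 : Q := sm gd N2386
/-- A coset. -/ def N3089 : Q := sm ga N2387
/-- A coset. -/ def N3090 : Q := sm gd N2387
/-- A coset. -/ def N3091 : Q := sm gf N2387
/-- A coset. -/ def N3092 : Q := sm gg N2387
/-- A coset. -/ def N3093 : Q := sm ge N2388
/-- A coset. -/ def N3094 : Q := sm gb N2389
/-- A coset. -/ def N3095 : Q := sm ge N2389
/-- A coset. -/ def N3096 : Q := sm gg N2390
/-- A coset. -/ def N3097 : Q := sm gb N2391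
/-- A coset. -/ def N3098 : Q := sm gf N2391
/-- A coset. -/ def N3099 : Q := sm ga N2392
/-- A coset. -/ def N3100 : Q := sm gf N2392
/-- A coset. -/ def N3101 : Q := sm gb N2393
/-- A coset. -/ def N3102 : Q := sm gb N2394
/-- A coset. -/ def N3103 : Q := sm gd N2394
/-- A coset. -/ def N3104 : Q := sm gc N2395
/-- A coset. -/ def N3105 : Q := sm ge N2395
/-- A coset. -/ def N3106 : Q := sm gc N2396
/-- A coset. -/ def N3107 : Q := sm ge N2396
/-- A coset. -/ def N3108 : Q := sm gb N2397
/-- A coset. -/ def N3109 : Q := sm gd N2397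
/-- A coset. -/ def N3110 : Q := sm ge N2397
/-- A coset. -/ def N3111 : Q := sm ga N2400
/-- A coset. -/ def N3112 : Q := sm ge N2400
/-- A coset. -/ def N3114 : Q := sm gg N2400
/-- A coset. -/ def N3116 : Q := sm ga N2402
/-- A coset. -/ def N3117 : Q := sm gc N2402
/-- A coset. -/ def N3118 : Q := sm gd N2402
/-- A coset. -/ def N3119 : Q := sm gf N2402
/-- A coset. -/ def N3120 : Q := sm gg N2402
/-- A coset. -/ def N3121 : Q := sm gc N2403
/-- A coset. -/ def N3122 : Q := sm ge N2403
/-- A coset. -/ def N3123 : Q := sm gf N2403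
/-- A coset. -/ def N3124 : Q := sm gg N2403
/-- A coset. -/ def N3125 : Q := sm gb N2404
/-- A coset. -/ def N3126 : Q := sm gb N2405
/-- A coset. -/ def N3127 : Q := sm gf N2406
/-- A coset. -/ def N3128 : Q := sm gg N2406
/-- A coset. -/ def N3129 : Q := sm gf N2407
/-- A coset. -/ def N3130 : Q := sm gg N2407
/-- A coset. -/ def N3131 : Q := sm gb N2408
/-- A coset. -/ def N3132 : Q := sm gg N2408
/-- A coset. -/ def N3133 : Q := sm gb N2409
/-- A coset. -/ def N3134 : Q := sm gf N2409
/-- A coset. -/ def N3135 : Q := sm ga N2410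
/-- A coset. -/ def N3136 : Q := sm gc N2410
/-- A coset. -/ def N3137 : Q := sm gg N2410
/-- A coset. -/ def N3138 : Q := sm gb N2411
/-- A coset. -/ def N3139 : Q := sm ga N2412
/-- A coset. -/ def N3140 : Q := sm gf N2412
/-- A coset. -/ def N3141 : Q := sm gb N2413
/-- A coset. -/ def N3142 : Q := sm gb N2414
/-- A coset. -/ def N3143 : Q := sm gb N2415
/-- A coset. -/ def N3144 : Q := sm ga N2416
/-- A coset. -/ def N3145 : Q := sm gc N2416
/-- A coset. -/ def N3146 : Q := sm gg N2416
/-- A coset. -/ def N3147 : Q := sm ga N2417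
/-- A coset. -/ def N3148 : Q := sm gc N2417
/-- A coset. -/ def N3149 : Q := sm gf N2417
/-- A coset. -/ def N3150 : Q := sm gb N2418
/-- A coset. -/ def N3151 : Q := sm gc N2418
/-- A coset. -/ def N3152 : Q := sm gg N2418
/-- A coset. -/ def N3153 : Q := sm gd N2419
/-- A coset. -/ def N3154 : Q := sm gg N2419
/-- A coset. -/ def N3155 : Q := sm gf N2420
/-- A coset. -/ def N3156 : Q := sm gb N2421
/-- A coset. -/ def N3157 : Q := sm gf N2421
/-- A coset. -/ def N3158 : Q := sm gg N2422
/-- A coset. -/ def N3159 : Q := sm gb N2423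
/-- A coset. -/ def N3160 : Q := sm gd N2423
/-- A coset. -/ def N3161 : Q := sm ge N2424
/-- A coset. -/ def N3162 : Q := sm gg N2424
/-- A coset. -/ def N3163 : Q := sm gb N2425
/-- A coset. -/ def N3164 : Q := sm gb N2426
/-- A coset. -/ def N3165 : Q := sm gd N2426
/-- A coset. -/ def N3166 : Q := sm gc N2427
/-- A coset. -/ def N3167 : Q := sm gd N2427
/-- A coset. -/ def N3168 : Q := sm gf N2427
/-- A coset. -/ def N3169 : Q := sm gg N2427
/-- A coset. -/ def N3170 : Q := sm gd N2428
/-- A coset. -/ def N3171 : Q := sm gf N2428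
/-- A coset. -/ def N3172 : Q := sm gg N2428
/-- A coset. -/ def N3173 : Q := sm gc N2429
/-- A coset. -/ def N3174 : Q := sm ge N2429
/-- A coset. -/ def N3175 : Q := sm gf N2429
/-- A coset. -/ def N3176 : Q := sm gg N2429
/-- A coset. -/ def N3177 : Q := sm gb N2430
/-- A coset. -/ def N3178 : Q := sm gg N2430
/-- A coset. -/ def N3179 : Q := sm gb N2431
/-- A coset. -/ def N3180 : Q := sm gf N2431
/-- A coset. -/ def N3181 : Q := sm gf N2432
/-- A coset. -/ def N3182 : Q := sm gg N2432
/-- A coset. -/ def N3183 : Q := sm gb N2433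
/-- A coset. -/ def N3184 : Q := sm gb N2434
/-- A coset. -/ def N3185 : Q := sm ga N2435
/-- A coset. -/ def N3186 : Q := sm gc N2435
/-- A coset. -/ def N3188 : Q := sm ga N2436
/-- A coset. -/ def N3189 : Q := sm gc N2436
/-- A coset. -/ def N3190 : Q := sm gf N2436
/-- A coset. -/ def N3191 : Q := sm gf N2437
/-- A coset. -/ def N3192 : Q := sm gg N2437
/-- A coset. -/ def N3193 : Q := sm gf N2438
/-- A coset. -/ def N3194 : Q := sm gg N2438
/-- A coset. -/ def N3195 : Q := sm gb N2439
/-- A coset. -/ def N3196 : Q := sm gg N2439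
/-- A coset. -/ def N3197 : Q := sm gb N2440
/-- A coset. -/ def N3198 : Q := sm gf N2440
/-- A coset. -/ def N3199 : Q := sm gb N2441
/-- A coset. -/ def N3200 : Q := sm gg N2441
/-- A coset. -/ def N3201 : Q := sm gb N2442
/-- A coset. -/ def N3202 : Q := sm gf N2442
/-- A coset. -/ def N3203 : Q := sm ga N2443
/-- A coset. -/ def N3204 : Q := sm gc N2443
/-- A coset. -/ def N3205 : Q := sm gg N2443
/-- A coset. -/ def N3206 : Q := sm gb N2444
/-- A coset. -/ def N3207 : Q := sm ga N2445
/-- A coset. -/ def N3208 : Q := sm gc N2445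
/-- A coset. -/ def N3209 : Q := sm gf N2445
/-- A coset. -/ def N3210 : Q := sm gb N2446
/-- A coset. -/ def N3211 : Q := sm gb N2447
/-- A coset. -/ def N3212 : Q := sm gb N2448
/-- A coset. -/ def N3213 : Q := sm ga N2449
/-- A coset. -/ def N3214 : Q := sm gc N2449
/-- A coset. -/ def N3215 : Q := sm gf N2449
/-- A coset. -/ def N3216 : Q := sm gb N2450
/-- A coset. -/ def N3217 : Q := sm gb N2451
/-- A coset. -/ def N3218 : Q := sm ga N2452
/-- A coset. -/ def N3219 : Q := sm gc N2452
/-- A coset. -/ def N3220 : Q := sm gg N2452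
/-- A coset. -/ def N3221 : Q := sm gf N2453
/-- A coset. -/ def N3222 : Q := sm gg N2453
/-- A coset. -/ def N3223 : Q := sm gd N2454
/-- A coset. -/ def N3224 : Q := sm gf N2454
/-- A coset. -/ def N3225 : Q := sm gg N2454
/-- A coset. -/ def N3226 : Q := sm gb N2455
/-- A coset. -/ def N3227 : Q := sm gg N2455
/-- A coset. -/ def N3228 : Q := sm gb N2456
/-- A coset. -/ def N3229 : Q := sm gf N2456
/-- A coset. -/ def N3230 : Q := sm gf N2457
/-- A coset. -/ def N3231 : Q := sm gg N2457
/-- A coset. -/ def N3232 : Q := sm gb N2458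
/-- A coset. -/ def N3233 : Q := sm gb N2459
/-- A coset. -/ def N3234 : Q := sm ga N2460
/-- A coset. -/ def N3235 : Q := sm gc N2460
/-- A coset. -/ def N3236 : Q := sm gg N2460
/-- A coset. -/ def N3237 : Q := sm ga N2461
/-- A coset. -/ def N3238 : Q := sm gc N2461
/-- A coset. -/ def N3240 : Q := sm ga N2462
/-- A coset. -/ def N3241 : Q := sm gc N2462
/-- A coset. -/ def N3242 : Q := sm gg N2462
/-- A coset. -/ def N3243 : Q := sm gb N2463
/-- A coset. -/ def N3244 : Q := sm ga N2464
/-- A coset. -/ def N3245 : Q := sm gc N2464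
/-- A coset. -/ def N3246 : Q := sm gf N2464
/-- A coset. -/ def N3247 : Q := sm gb N2465
/-- A coset. -/ def N3248 : Q := sm gb N2466
/-- A coset. -/ def N3249 : Q := sm gc N2466
/-- A coset. -/ def N3250 : Q := sm gg N2466
/-- A coset. -/ def N3251 : Q := sm gd N2467
/-- A coset. -/ def N3252 : Q := sm gg N2467
/-- A coset. -/ def N3253 : Q := sm gb N2468
/-- A coset. -/ def N3254 : Q := sm gf N2468
/-- A coset. -/ def N3255 : Q := sm ga N2469
/-- A coset. -/ def N3256 : Q := sm gc N2469
/-- A coset. -/ def N3257 : Q := sm gf N2469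
/-- A coset. -/ def N3258 : Q := sm gb N2470
/-- A coset. -/ def N3260 : Q := sm gf N2470
/-- A coset. -/ def N3262 : Q := sm gf N2471
/-- A coset. -/ def N3263 : Q := sm gb N2472
/-- A coset. -/ def N3264 : Q := sm gg N2472
/-- A coset. -/ def N3265 : Q := sm ga N2473
/-- A coset. -/ def N3266 : Q := sm gc N2473
/-- A coset. -/ def N3267 : Q := sm gg N2473
/-- A coset. -/ def N3268 : Q := sm ga N2474
/-- A coset. -/ def N3269 : Q := sm gc N2474
/-- A coset. -/ def N3270 : Q := sm gf N2474
/-- A coset. -/ def N3271 : Q := sm gg N2474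
/-- A coset. -/ def N3272 : Q := sm gb N2475
/-- A coset. -/ def N3273 : Q := sm ga N2476
/-- A coset. -/ def N3274 : Q := sm gc N2476
/-- A coset. -/ def N3275 : Q := sm gf N2476
/-- A coset. -/ def N3276 : Q := sm gb N2477
/-- A coset. -/ def N3277 : Q := sm gb N2478
/-- A coset. -/ def N3278 : Q := sm gc N2478
/-- A coset. -/ def N3279 : Q := sm gf N2478
/-- A coset. -/ def N3280 : Q := sm gd N2479
/-- A coset. -/ def N3281 : Q := sm gf N2479
/-- A coset. -/ def N3282 : Q := sm gg N2480
/-- A coset. -/ def N3283 : Q := sm ga N2481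
/-- A coset. -/ def N3284 : Q := sm gc N2481
/-- A coset. -/ def N3285 : Q := sm gf N2481
/-- A coset. -/ def N3286 : Q := sm gg N2481
/-- A coset. -/ def N3287 : Q := sm gb N2482
/-- A coset. -/ def N3288 : Q := sm ga N2483
/-- A coset. -/ def N3289 : Q := sm gc N2483
/-- A coset. -/ def N3290 : Q := sm gg N2483
/-- A coset. -/ def N3291 : Q := sm gb N2484
/-- A coset. -/ def N3292 : Q := sm gb N2485
/-- A coset. -/ def N3293 : Q := sm gc N2485
/-- A coset. -/ def N3294 : Q := sm gg N2485
/-- A coset. -/ def N3295 : Q := sm gd N2486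
/-- A coset. -/ def N3296 : Q := sm gg N2486
/-- A coset. -/ def N3297 : Q := sm gf N2487
/-- A coset. -/ def N3298 : Q := sm gb N2488
/-- A coset. -/ def N3299 : Q := sm gd N2488
/-- A coset. -/ def N3300 : Q := sm ge N2489
/-- A coset. -/ def N3301 : Q := sm gf N2489
/-- A coset. -/ def N3302 : Q := sm gb N2490
/-- A coset. -/ def N3303 : Q := sm ge N2491
/-- A coset. -/ def N3304 : Q := sm gg N2491
/-- A coset. -/ def N3305 : Q := sm gb N2492
/-- A coset. -/ def N3306 : Q := sm gb N2493
/-- A coset. -/ def N3307 : Q := sm ge N2493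
/-- A coset. -/ def N3308 : Q := sm gg N2493
/-- A coset. -/ def N3309 : Q := sm gg N2494
/-- A coset. -/ def N3310 : Q := sm ge N2496
/-- A coset. -/ def N3312 : Q := sm gb N2500
/-- A coset. -/ def N3313 : Q := sm gb N2501
/-- A coset. -/ def N3314 : Q := sm gb N2503
/-- A coset. -/ def N3315 : Q := sm gg N2503
/-- A coset. -/ def N3316 : Q := sm gb N2504
/-- A coset. -/ def N3317 : Q := sm gf N2504
/-- A coset. -/ def N3318 : Q := sm ga N2505
/-- A coset. -/ def N3319 : Q := sm gc N2505
/-- A coset. -/ def N3320 : Q := sm gg N2505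
/-- A coset. -/ def N3321 : Q := sm gb N2506
/-- A coset. -/ def N3322 : Q := sm ga N2507
/-- A coset. -/ def N3323 : Q := sm gc N2507
/-- A coset. -/ def N3324 : Q := sm gf N2507
/-- A coset. -/ def N3325 : Q := sm gb N2508
/-- A coset. -/ def N3326 : Q := sm gb N2509
/-- A coset. -/ def N3327 : Q := sm gc N2509
/-- A coset. -/ def N3328 : Q := sm gg N2509
/-- A coset. -/ def N3329 : Q := sm gd N2510
/-- A coset. -/ def N3330 : Q := sm gg N2510
/-- A coset. -/ def N3331 : Q := sm gf N2511
/-- A coset. -/ def N3332 : Q := sm gb N2512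
/-- A coset. -/ def N3333 : Q := sm gc N2512
/-- A coset. -/ def N3334 : Q := sm gf N2512
/-- A coset. -/ def N3335 : Q := sm gd N2513
/-- A coset. -/ def N3336 : Q := sm gf N2513
/-- A coset. -/ def N3337 : Q := sm gg N2514
/-- A coset. -/ def N3338 : Q := sm gb N2515
/-- A coset. -/ def N3339 : Q := sm gc N2515
/-- A coset. -/ def N3340 : Q := sm gf N2515
/-- A coset. -/ def N3341 : Q := sm gd N2516
/-- A coset. -/ def N3342 : Q := sm gf N2516
/-- A coset. -/ def N3343 : Q := sm gg N2517
/-- A coset. -/ def N3344 : Q := sm gb N2518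
/-- A coset. -/ def N3345 : Q := sm gc N2518
/-- A coset. -/ def N3346 : Q := sm gg N2518
/-- A coset. -/ def N3347 : Q := sm gd N2519
/-- A coset. -/ def N3348 : Q := sm gg N2519
/-- A coset. -/ def N3349 : Q := sm gd N2521
/-- A coset. -/ def N3351 : Q := sm gg N2521
/-- A coset. -/ def N3352 : Q := sm gd N2522
/-- A coset. -/ def N3353 : Q := sm gf N2522
/-- A coset. -/ def N3354 : Q := sm gg N2522
/-- A coset. -/ def N3355 : Q := sm gc N2523
/-- A coset. -/ def N3356 : Q := sm ge N2523
/-- A coset. -/ def N3357 : Q := sm gf N2523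
/-- A coset. -/ def N3358 : Q := sm gg N2523
/-- A coset. -/ def N3359 : Q := sm gb N2524
/-- A coset. -/ def N3360 : Q := sm gg N2524
/-- A coset. -/ def N3361 : Q := sm gb N2525
/-- A coset. -/ def N3362 : Q := sm gf N2525
/-- A coset. -/ def N3363 : Q := sm ge N2526
/-- A coset. -/ def N3364 : Q := sm gf N2526
/-- A coset. -/ def N3365 : Q := sm gg N2526
/-- A coset. -/ def N3366 : Q := sm gf N2527
/-- A coset. -/ def N3367 : Q := sm gg N2527
/-- A coset. -/ def N3368 : Q := sm gb N2528
/-- A coset. -/ def N3369 : Q := sm gb N2529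
/-- A coset. -/ def N3370 : Q := sm ga N2530
/-- A coset. -/ def N3371 : Q := sm gc N2530
/-- A coset. -/ def N3372 : Q := sm gg N2530
/-- A coset. -/ def N3373 : Q := sm ga N2531
/-- A coset. -/ def N3374 : Q := sm gc N2531
/-- A coset. -/ def N3375 : Q := sm gf N2531
/-- A coset. -/ def N3376 : Q := sm ge N2532
/-- A coset. -/ def N3377 : Q := sm gf N2532
/-- A coset. -/ def N3378 : Q := sm gg N2532
/-- A coset. -/ def N3379 : Q := sm gf N2533
/-- A coset. -/ def N3380 : Q := sm gg N2533
/-- A coset. -/ def N3381 : Q := sm gb N2534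
/-- A coset. -/ def N3382 : Q := sm gg N2534
/-- A coset. -/ def N3383 : Q := sm gb N2535
/-- A coset. -/ def N3384 : Q := sm gf N2535
/-- A coset. -/ def N3385 : Q := sm gb N2536
/-- A coset. -/ def N3386 : Q := sm gg N2536
/-- A coset. -/ def N3387 : Q := sm gb N2537
/-- A coset. -/ def N3388 : Q := sm gf N2537
/-- A coset. -/ def N3389 : Q := sm ga N2538
/-- A coset. -/ def N3390 : Q := sm gc N2538
/-- A coset. -/ def N3391 : Q := sm gg N2538
/-- A coset. -/ def N3392 : Q := sm gb N2539
/-- A coset. -/ def N3393 : Q := sm ga N2540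
/-- A coset. -/ def N3394 : Q := sm gc N2540
/-- A coset. -/ def N3395 : Q := sm gf N2540
/-- A coset. -/ def N3396 : Q := sm gb N2541
/-- A coset. -/ def N3397 : Q := sm gb N2542
/-- A coset. -/ def N3398 : Q := sm gc N2542
/-- A coset. -/ def N3399 : Q := sm gd N2543
/-- A coset. -/ def N3400 : Q := sm gg N2543
/-- A coset. -/ def N3401 : Q := sm gb N2544
/-- A coset. -/ def N3402 : Q := sm ga N2545
/-- A coset. -/ def N3403 : Q := sm gc N2545
/-- A coset. -/ def N3404 : Q := sm gf N2545
/-- A coset. -/ def N3405 : Q := sm gb N2546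
/-- A coset. -/ def N3406 : Q := sm gb N2547
/-- A coset. -/ def N3407 : Q := sm ga N2548
/-- A coset. -/ def N3408 : Q := sm gc N2548
/-- A coset. -/ def N3409 : Q := sm gg N2548
/-- A coset. -/ def N3410 : Q := sm ga N2549
/-- A coset. -/ def N3411 : Q := sm gc N2549
/-- A coset. -/ def N3412 : Q := sm gg N2549
/-- A coset. -/ def N3413 : Q := sm ga N2550
/-- A coset. -/ def N3414 : Q := sm gc N2550
/-- A coset. -/ def N3415 : Q := sm gf N2550
/-- A coset. -/ def N3416 : Q := sm gb N2551
/-- A coset. -/ def N3417 : Q := sm gc N2551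
/-- A coset. -/ def N3418 : Q := sm gg N2551
/-- A coset. -/ def N3419 : Q := sm gd N2552
/-- A coset. -/ def N3420 : Q := sm gg N2552
/-- A coset. -/ def N3421 : Q := sm gf N2553
/-- A coset. -/ def N3422 : Q := sm gb N2554
/-- A coset. -/ def N3423 : Q := sm gc N2554
/-- A coset. -/ def N3424 : Q := sm gf N2554
/-- A coset. -/ def N3425 : Q := sm gd N2555
/-- A coset. -/ def N3426 : Q := sm gf N2555
/-- A coset. -/ def N3427 : Q := sm gg N2556
/-- A coset. -/ def N3428 : Q := sm ga N2557
/-- A coset. -/ def N3429 : Q := sm gc N2557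
/-- A coset. -/ def N3430 : Q := sm gf N2557
/-- A coset. -/ def N3431 : Q := sm gg N2557
/-- A coset. -/ def N3432 : Q := sm gb N2558
/-- A coset. -/ def N3433 : Q := sm gd N2558
/-- A coset. -/ def N3434 : Q := sm gg N2558
/-- A coset. -/ def N3435 : Q := sm gb N2559
/-- A coset. -/ def N3436 : Q := sm gc N2560
/-- A coset. -/ def N3437 : Q := sm ge N2560
/-- A coset. -/ def N3438 : Q := sm gg N2560
/-- A coset. -/ def N3439 : Q := sm gb N2561
/-- A coset. -/ def N3440 : Q := sm gf N2561
/-- A coset. -/ def N3441 : Q := sm gb N2562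
/-- A coset. -/ def N3442 : Q := sm ga N2563
/-- A coset. -/ def N3443 : Q := sm gc N2563
/-- A coset. -/ def N3444 : Q := sm gf N2563
/-- A coset. -/ def N3445 : Q := sm gg N2563
/-- A coset. -/ def N3446 : Q := sm gb N2564
/-- A coset. -/ def N3447 : Q := sm gb N2565
/-- A coset. -/ def N3448 : Q := sm gb N2566
/-- A coset. -/ def N3449 : Q := sm gd N2566
/-- A coset. -/ def N3450 : Q := sm ga N2567
/-- A coset. -/ def N3451 : Q := sm gd N2567
/-- A coset. -/ def N3452 : Q := sm gf N2567
/-- A coset. -/ def N3453 : Q := sm gg N2567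
/-- A coset. -/ def N3456 : Q := sm ge N2569
/-- A coset. -/ def N3457 : Q := sm gg N2569
/-- A coset. -/ def N3458 : Q := sm gg N2570
/-- A coset. -/ def N3459 : Q := sm gb N2571
/-- A coset. -/ def N3460 : Q := sm ga N2572
/-- A coset. -/ def N3461 : Q := sm gf N2572
/-- A coset. -/ def N3462 : Q := sm gb N2573
/-- A coset. -/ def N3463 : Q := sm ge N2573
/-- A coset. -/ def N3468 : Q := sm gg N2575
/-- A coset. -/ def N3470 : Q := sm gg N2576
/-- A coset. -/ def N3471 : Q := sm gd N2577
/-- A coset. -/ def N3472 : Q := sm gg N2577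
/-- A coset. -/ def N3473 : Q := sm gb N2578
/-- A coset. -/ def N3474 : Q := sm gb N2579
/-- A coset. -/ def N3475 : Q := sm gc N2580
/-- A coset. -/ def N3476 : Q := sm gd N2582
/-- A coset. -/ def N3477 : Q := sm gf N2582
/-- A coset. -/ def N3478 : Q := sm gg N2582
/-- A coset. -/ def N3479 : Q := sm gc N2583
/-- A coset. -/ def N3480 : Q := sm ge N2583
/-- A coset. -/ def N3481 : Q := sm gf N2583
/-- A coset. -/ def N3482 : Q := sm gg N2583
/-- A coset. -/ def N3483 : Q := sm gb N2584
/-- A coset. -/ def N3484 : Q := sm gb N2585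
/-- A coset. -/ def N3485 : Q := sm gc N2586
/-- A coset. -/ def N3486 : Q := sm gf N2586
/-- A coset. -/ def N3487 : Q := sm gg N2586
/-- A coset. -/ def N3488 : Q := sm gb N2587
/-- A coset. -/ def N3489 : Q := sm gg N2587
/-- A coset. -/ def N3490 : Q := sm gb N2588
/-- A coset. -/ def N3491 : Q := sm gf N2588
/-- A coset. -/ def N3492 : Q := sm gb N2589
/-- A coset. -/ def N3493 : Q := sm gd N2589
/-- A coset. -/ def N3494 : Q := sm gf N2589
/-- A coset. -/ def N3495 : Q := sm gg N2589
/-- A coset. -/ def N3496 : Q := sm gf N2590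
/-- A coset. -/ def N3497 : Q := sm gg N2590
/-- A coset. -/ def N3498 : Q := sm gb N2591
/-- A coset. -/ def N3499 : Q := sm gg N2591
/-- A coset. -/ def N3500 : Q := sm gb N2592
/-- A coset. -/ def N3501 : Q := sm gf N2592
/-- A coset. -/ def N3502 : Q := sm ga N2593
/-- A coset. -/ def N3503 : Q := sm gc N2593
/-- A coset. -/ def N3504 : Q := sm gg N2593
/-- A coset. -/ def N3505 : Q := sm gb N2594
/-- A coset. -/ def N3506 : Q := sm ga N2595
/-- A coset. -/ def N3507 : Q := sm gc N2595
/-- A coset. -/ def N3508 : Q := sm gf N2595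
/-- A coset. -/ def N3509 : Q := sm gb N2596
/-- A coset. -/ def N3510 : Q := sm ge N2597
/-- A coset. -/ def N3511 : Q := sm gf N2597
/-- A coset. -/ def N3512 : Q := sm gg N2597
/-- A coset. -/ def N3513 : Q := sm gf N2598
/-- A coset. -/ def N3514 : Q := sm gg N2598
/-- A coset. -/ def N3515 : Q := sm gb N2599
/-- A coset. -/ def N3516 : Q := sm gb N2600
/-- A coset. -/ def N3517 : Q := sm gb N2601
/-- A coset. -/ def N3518 : Q := sm gb N2602
/-- A coset. -/ def N3519 : Q := sm ga N2603
/-- A coset. -/ def N3520 : Q := sm gc N2603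
/-- A coset. -/ def N3522 : Q := sm ga N2604
/-- A coset. -/ def N3523 : Q := sm gc N2604
/-- A coset. -/ def N3524 : Q := sm gf N2604
/-- A coset. -/ def N3525 : Q := sm gb N2605
/-- A coset. -/ def N3526 : Q := sm gc N2605
/-- A coset. -/ def N3527 : Q := sm gg N2605
/-- A coset. -/ def N3528 : Q := sm gd N2606
/-- A coset. -/ def N3529 : Q := sm gg N2606
/-- A coset. -/ def N3530 : Q := sm gf N2607
/-- A coset. -/ def N3531 : Q := sm gb N2608
/-- A coset. -/ def N3532 : Q := sm gc N2608
/-- A coset. -/ def N3533 : Q := sm gf N2608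
/-- A coset. -/ def N3534 : Q := sm gd N2609
/-- A coset. -/ def N3535 : Q := sm gf N2609
/-- A coset. -/ def N3536 : Q := sm gg N2610
/-- A coset. -/ def N3537 : Q := sm gf N2611
/-- A coset. -/ def N3538 : Q := sm gg N2611
/-- A coset. -/ def N3539 : Q := sm gb N2612
/-- A coset. -/ def N3540 : Q := sm gb N2613
/-- A coset. -/ def N3541 : Q := sm gb N2615
/-- A coset. -/ def N3542 : Q := sm gg N2615
/-- A coset. -/ def N3543 : Q := sm gb N2616
/-- A coset. -/ def N3544 : Q := sm gf N2616
/-- A coset. -/ def N3545 : Q := sm ga N2617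
/-- A coset. -/ def N3546 : Q := sm gc N2617
/-- A coset. -/ def N3547 : Q := sm gg N2617
/-- A coset. -/ def N3548 : Q := sm gb N2618
/-- A coset. -/ def N3549 : Q := sm ga N2619
/-- A coset. -/ def N3550 : Q := sm gc N2619
/-- A coset. -/ def N3552 : Q := sm gb N2620
/-- A coset. -/ def N3553 : Q := sm ga N2621
/-- A coset. -/ def N3554 : Q := sm gc N2621
/-- A coset. -/ def N3555 : Q := sm gg N2621
/-- A coset. -/ def N3556 : Q := sm gb N2622
/-- A coset. -/ def N3557 : Q := sm ga N2623
/-- A coset. -/ def N3558 : Q := sm gc N2623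
/-- A coset. -/ def N3559 : Q := sm gf N2623
/-- A coset. -/ def N3560 : Q := sm gb N2624
/-- A coset. -/ def N3561 : Q := sm gb N2625
/-- A coset. -/ def N3562 : Q := sm gc N2625
/-- A coset. -/ def N3563 : Q := sm gd N2626
/-- A coset. -/ def N3564 : Q := sm gg N2626
/-- A coset. -/ def N3565 : Q := sm gb N2627
/-- A coset. -/ def N3566 : Q := sm ga N2628
/-- A coset. -/ def N3567 : Q := sm gc N2628
/-- A coset. -/ def N3568 : Q := sm gf N2628
/-- A coset. -/ def N3569 : Q := sm gb N2629
/-- A coset. -/ def N3570 : Q := sm gc N2629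
/-- A coset. -/ def N3571 : Q := sm gd N2630
/-- A coset. -/ def N3572 : Q := sm gf N2630
/-- A coset. -/ def N3573 : Q := sm gb N2631
/-- A coset. -/ def N3574 : Q := sm ga N2632
/-- A coset. -/ def N3577 : Q := sm ga N2633
/-- A coset. -/ def N3578 : Q := sm gc N2633
/-- A coset. -/ def N3579 : Q := sm gf N2633
/-- A coset. -/ def N3580 : Q := sm gg N2633
/-- A coset. -/ def N3581 : Q := sm gb N2634
/-- A coset. -/ def N3582 : Q := sm gb N2635
/-- A coset. -/ def N3583 : Q := sm ga N2636
/-- A coset. -/ def N3584 : Q := sm gc N2636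
/-- A coset. -/ def N3585 : Q := sm gf N2636
/-- A coset. -/ def N3586 : Q := sm gb N2637
/-- A coset. -/ def N3587 : Q := sm gc N2637
/-- A coset. -/ def N3588 : Q := sm gf N2637
/-- A coset. -/ def N3589 : Q := sm gd N2638
/-- A coset. -/ def N3590 : Q := sm gf N2638
/-- A coset. -/ def N3591 : Q := sm gg N2639
/-- A coset. -/ def N3592 : Q := sm ga N2640
/-- A coset. -/ def N3593 : Q := sm gc N2640
/-- A coset. -/ def N3594 : Q := sm gf N2640
/-- A coset. -/ def N3595 : Q := sm gg N2640
/-- A coset. -/ def N3596 : Q := sm ga N2641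
/-- A coset. -/ def N3597 : Q := sm gc N2641
/-- A coset. -/ def N3598 : Q := sm gg N2641
/-- A coset. -/ def N3599 : Q := sm gb N2642
/-- A coset. -/ def N3600 : Q := sm gc N2642
/-- A coset. -/ def N3601 : Q := sm gg N2642
/-- A coset. -/ def N3602 : Q := sm gd N2643
/-- A coset. -/ def N3603 : Q := sm gg N2643
/-- A coset. -/ def N3604 : Q := sm gf N2644
/-- A coset. -/ def N3605 : Q := sm gb N2645
/-- A coset. -/ def N3606 : Q := sm gc N2645
/-- A coset. -/ def N3607 : Q := sm gg N2645
/-- A coset. -/ def N3608 : Q := sm gd N2646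
/-- A coset. -/ def N3609 : Q := sm gg N2646
/-- A coset. -/ def N3610 : Q := sm gb N2647
/-- A coset. -/ def N3612 : Q := sm ga N2648
/-- A coset. -/ def N3613 : Q := sm gc N2648
/-- A coset. -/ def N3614 : Q := sm gf N2648
/-- A coset. -/ def N3615 : Q := sm gb N2649
/-- A coset. -/ def N3616 : Q := sm gc N2649
/-- A coset. -/ def N3617 : Q := sm gf N2649
/-- A coset. -/ def N3618 : Q := sm gd N2650
/-- A coset. -/ def N3619 : Q := sm gf N2650
/-- A coset. -/ def N3620 : Q := sm gb N2651
/-- A coset. -/ def N3621 : Q := sm gg N2651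
/-- A coset. -/ def N3622 : Q := sm ga N2652
/-- A coset. -/ def N3623 : Q := sm gc N2652
/-- A coset. -/ def N3624 : Q := sm gg N2652
/-- A coset. -/ def N3625 : Q := sm ga N2653
/-- A coset. -/ def N3626 : Q := sm gc N2653
/-- A coset. -/ def N3627 : Q := sm gf N2653
/-- A coset. -/ def N3628 : Q := sm gg N2653
/-- A coset. -/ def N3629 : Q := sm gb N2654
/-- A coset. -/ def N3630 : Q := sm gg N2654
/-- A coset. -/ def N3631 : Q := sm gb N2655
/-- A coset. -/ def N3632 : Q := sm ge N2656
/-- A coset. -/ def N3633 : Q := sm gg N2656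
/-- A coset. -/ def N3634 : Q := sm gb N2657
/-- A coset. -/ def N3636 : Q := sm ga N2658
/-- A coset. -/ def N3637 : Q := sm gc N2658
/-- A coset. -/ def N3638 : Q := sm gf N2658
/-- A coset. -/ def N3639 : Q := sm gb N2659
/-- A coset. -/ def N3640 : Q := sm gb N2660
/-- A coset. -/ def N3641 : Q := sm gc N2660
/-- A coset. -/ def N3642 : Q := sm gf N2660
/-- A coset. -/ def N3643 : Q := sm gd N2661
/-- A coset. -/ def N3644 : Q := sm gf N2661
/-- A coset. -/ def N3645 : Q := sm gg N2662
/-- A coset. -/ def N3646 : Q := sm ga N2663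
/-- A coset. -/ def N3647 : Q := sm gc N2663
/-- A coset. -/ def N3648 : Q := sm gf N2663
/-- A coset. -/ def N3649 : Q := sm gg N2663
/-- A coset. -/ def N3650 : Q := sm gb N2664
/-- A coset. -/ def N3651 : Q := sm gd N2664
/-- A coset. -/ def N3652 : Q := sm gf N2664
/-- A coset. -/ def N3653 : Q := sm gb N2665
/-- A coset. -/ def N3654 : Q := sm ge N2666
/-- A coset. -/ def N3655 : Q := sm gf N2666
/-- A coset. -/ def N3656 : Q := sm gb N2667
/-- A coset. -/ def N3657 : Q := sm gg N2667
/-- A coset. -/ def N3658 : Q := sm ga N2668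
/-- A coset. -/ def N3659 : Q := sm gc N2668
/-- A coset. -/ def N3660 : Q := sm gg N2668
/-- A coset. -/ def N3661 : Q := sm gb N2669
/-- A coset. -/ def N3662 : Q := sm gb N2670
/-- A coset. -/ def N3663 : Q := sm gc N2670
/-- A coset. -/ def N3664 : Q := sm gg N2670
/-- A coset. -/ def N3665 : Q := sm gd N2671
/-- A coset. -/ def N3666 : Q := sm gg N2671
/-- A coset. -/ def N3667 : Q := sm gf N2672
/-- A coset. -/ def N3668 : Q := sm gc N2673
/-- A coset. -/ def N3669 : Q := sm gf N2673
/-- A coset. -/ def N3670 : Q := sm gg N2673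
/-- A coset. -/ def N3671 : Q := sm gb N2674
/-- A coset. -/ def N3673 : Q := sm gf N2674
/-- A coset. -/ def N3674 : Q := sm gg N2674
/-- A coset. -/ def N3675 : Q := sm gg N2675
/-- A coset. -/ def N3676 : Q := sm gb N2676
/-- A coset. -/ def N3677 : Q := sm gf N2676
/-- A coset. -/ def N3678 : Q := sm ga N2677
/-- A coset. -/ def N3679 : Q := sm gf N2677
/-- A coset. -/ def N3680 : Q := sm gg N2677
/-- A coset. -/ def N3681 : Q := sm gb N2678
/-- A coset. -/ def N3682 : Q := sm ga N2679
/-- A coset. -/ def N3683 : Q := sm gc N2679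
/-- A coset. -/ def N3684 : Q := sm gf N2679
/-- A coset. -/ def N3685 : Q := sm gb N2680
/-- A coset. -/ def N3686 : Q := sm gb N2681
/-- A coset. -/ def N3687 : Q := sm gc N2681
/-- A coset. -/ def N3688 : Q := sm gd N2682
/-- A coset. -/ def N3689 : Q := sm gf N2682
/-- A coset. -/ def N3690 : Q := sm gb N2683
/-- A coset. -/ def N3691 : Q := sm ga N2684
/-- A coset. -/ def N3693 : Q := sm gg N2684
/-- A coset. -/ def N3694 : Q := sm ga N2685
/-- A coset. -/ def N3695 : Q := sm gc N2685
/-- A coset. -/ def N3696 : Q := sm gf N2685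
/-- A coset. -/ def N3697 : Q := sm gg N2685
/-- A coset. -/ def N3698 : Q := sm gb N2686
/-- A coset. -/ def N3699 : Q := sm gd N2686
/-- A coset. -/ def N3700 : Q := sm gf N2686
/-- A coset. -/ def N3701 : Q := sm gb N2687
/-- A coset. -/ def N3702 : Q := sm gc N2688
/-- A coset. -/ def N3703 : Q := sm ge N2688
/-- A coset. -/ def N3704 : Q := sm gf N2688
/-- A coset. -/ def N3705 : Q := sm gb N2689
/-- A coset. -/ def N3706 : Q := sm gg N2689
/-- A coset. -/ def N3707 : Q := sm gb N2690
/-- A coset. -/ def N3708 : Q := sm gc N2691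
/-- A coset. -/ def N3709 : Q := sm gf N2691
/-- A coset. -/ def N3710 : Q := sm gg N2691
/-- A coset. -/ def N3711 : Q := sm gd N2692
/-- A coset. -/ def N3712 : Q := sm gf N2692
/-- A coset. -/ def N3713 : Q := sm gg N2692
/-- A coset. -/ def N3714 : Q := sm gb N2693
/-- A coset. -/ def N3715 : Q := sm gg N2693
/-- A coset. -/ def N3716 : Q := sm gf N2694
/-- A coset. -/ def N3717 : Q := sm ga N2695
/-- A coset. -/ def N3718 : Q := sm gc N2695
/-- A coset. -/ def N3719 : Q := sm gg N2695
/-- A coset. -/ def N3720 : Q := sm gb N2696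
/-- A coset. -/ def N3721 : Q := sm gc N2696
/-- A coset. -/ def N3722 : Q := sm gd N2697
/-- A coset. -/ def N3723 : Q := sm gg N2697
/-- A coset. -/ def N3724 : Q := sm gb N2698
/-- A coset. -/ def N3725 : Q := sm ga N2699
/-- A coset. -/ def N3726 : Q := sm gc N2699
/-- A coset. -/ def N3727 : Q := sm gf N2699
/-- A coset. -/ def N3728 : Q := sm ga N2700
/-- A coset. -/ def N3729 : Q := sm gc N2700
/-- A coset. -/ def N3730 : Q := sm gf N2700
/-- A coset. -/ def N3731 : Q := sm gg N2700
/-- A coset. -/ def N3732 : Q := sm gb N2701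
/-- A coset. -/ def N3733 : Q := sm gd N2701
/-- A coset. -/ def N3734 : Q := sm gg N2701
/-- A coset. -/ def N3735 : Q := sm gb N2702
/-- A coset. -/ def N3736 : Q := sm gc N2703
/-- A coset. -/ def N3738 : Q := sm gg N2703
/-- A coset. -/ def N3739 : Q := sm gb N2704
/-- A coset. -/ def N3740 : Q := sm gf N2704
/-- A coset. -/ def N3741 : Q := sm gb N2705
/-- A coset. -/ def N3742 : Q := sm ga N2706
/-- A coset. -/ def N3743 : Q := sm gd N2706
/-- A coset. -/ def N3744 : Q := sm gf N2706
/-- A coset. -/ def N3745 : Q := sm gg N2706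
/-- A coset. -/ def N3746 : Q := sm ge N2707
/-- A coset. -/ def N3747 : Q := sm gb N2708
/-- A coset. -/ def N3748 : Q := sm ge N2708
/-- A coset. -/ def N3749 : Q := sm gf N2709
/-- A coset. -/ def N3750 : Q := sm gb N2710
/-- A coset. -/ def N3751 : Q := sm ga N2711
/-- A coset. -/ def N3752 : Q := sm gg N2711
/-- A coset. -/ def N3753 : Q := sm gb N2712
/-- A coset. -/ def N3754 : Q := sm ge N2712
/-- A coset. -/ def N3755 : Q := sm gg N2712
/-- A coset. -/ def N3756 : Q := sm gg N2713
/-- A coset. -/ def N3757 : Q := sm gb N2714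
/-- A coset. -/ def N3758 : Q := sm ga N2715
/-- A coset. -/ def N3759 : Q := sm gf N2715
/-- A coset. -/ def N3760 : Q := sm gb N2716
/-- A coset. -/ def N3761 : Q := sm ge N2716
/-- A coset. -/ def N3762 : Q := sm ga N2718
/-- A coset. -/ def N3763 : Q := sm gd N2718
/-- A coset. -/ def N3764 : Q := sm ge N2718
/-- A coset. -/ def N3765 : Q := sm gf N2718
/-- A coset. -/ def N3766 : Q := sm gg N2718
/-- A coset. -/ def N3767 : Q := sm ge N2719
/-- A coset. -/ def N3769 : Q := sm gf N2720
/-- A coset. -/ def N3770 : Q := sm gb N2721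
/-- A coset. -/ def N3771 : Q := sm ga N2723
/-- A coset. -/ def N3772 : Q := sm gd N2723
/-- A coset. -/ def N3773 : Q := sm ge N2723
/-- A coset. -/ def N3774 : Q := sm gf N2723
/-- A coset. -/ def N3775 : Q := sm gg N2723
/-- A coset. -/ def N3776 : Q := sm ge N2724
/-- A coset. -/ def N3777 : Q := sm gg N2724
/-- A coset. -/ def N3778 : Q := sm gd N2725
/-- A coset. -/ def N3779 : Q := sm gg N2725
/-- A coset. -/ def N3780 : Q := sm gb N2726
/-- A coset. -/ def N3781 : Q := sm gb N2727
/-- A coset. -/ def N3782 : Q := sm gc N2728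
/-- A coset. -/ def N3783 : Q := sm gd N2729
/-- A coset. -/ def N3784 : Q := sm gf N2729
/-- A coset. -/ def N3785 : Q := sm gc N2731
/-- A coset. -/ def N3786 : Q := sm gg N2731
/-- A coset. -/ def N3787 : Q := sm gf N2735
/-- A coset. -/ def N3788 : Q := sm gg N2735
/-- A coset. -/ def N3789 : Q := sm gb N2736
/-- A coset. -/ def N3790 : Q := sm gb N2737
/-- A coset. -/ def N3791 : Q := sm ga N2738
/-- A coset. -/ def N3792 : Q := sm gc N2738
/-- A coset. -/ def N3793 : Q := sm gg N2738
/-- A coset. -/ def N3794 : Q := sm ga N2739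
/-- A coset. -/ def N3795 : Q := sm gc N2739
/-- A coset. -/ def N3796 : Q := sm gf N2739
/-- A coset. -/ def N3797 : Q := sm gf N2740
/-- A coset. -/ def N3798 : Q := sm gg N2740
/-- A coset. -/ def N3799 : Q := sm gb N2742
/-- A coset. -/ def N3800 : Q := sm gg N2742
/-- A coset. -/ def N3801 : Q := sm gb N2743
/-- A coset. -/ def N3803 : Q := sm ga N2744
/-- A coset. -/ def N3804 : Q := sm gc N2744
/-- A coset. -/ def N3805 : Q := sm gg N2744
/-- A coset. -/ def N3806 : Q := sm gb N2745
/-- A coset. -/ def N3807 : Q := sm ga N2746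
/-- A coset. -/ def N3808 : Q := sm gc N2746
/-- A coset. -/ def N3809 : Q := sm gf N2746
/-- A coset. -/ def N3810 : Q := sm gb N2747
/-- A coset. -/ def N3811 : Q := sm gb N2748
/-- A coset. -/ def N3812 : Q := sm gc N2748
/-- A coset. -/ def N3813 : Q := sm gd N2749
/-- A coset. -/ def N3814 : Q := sm gg N2749
/-- A coset. -/ def N3815 : Q := sm gb N2750
/-- A coset. -/ def N3816 : Q := sm gc N2751
/-- A coset. -/ def N3817 : Q := sm gc N2752
/-- A coset. -/ def N3818 : Q := sm gd N2753
/-- A coset. -/ def N3819 : Q := sm gf N2753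
/-- A coset. -/ def N3820 : Q := sm gb N2754
/-- A coset. -/ def N3821 : Q := sm gc N2755
/-- A coset. -/ def N3822 : Q := sm ga N2756
/-- A coset. -/ def N3823 : Q := sm gc N2756
/-- A coset. -/ def N3824 : Q := sm gg N2756
/-- A coset. -/ def N3825 : Q := sm gb N2757
/-- A coset. -/ def N3826 : Q := sm gd N2757
/-- A coset. -/ def N3827 : Q := sm gg N2757
/-- A coset. -/ def N3828 : Q := sm gc N2759
/-- A coset. -/ def N3829 : Q := sm ge N2759
/-- A coset. -/ def N3830 : Q := sm gg N2759
/-- A coset. -/ def N3831 : Q := sm gb N2760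
/-- A coset. -/ def N3832 : Q := sm gf N2760
/-- A coset. -/ def N3833 : Q := sm gc N2762
/-- A coset. -/ def N3834 : Q := sm gf N2762
/-- A coset. -/ def N3835 : Q := sm gb N2763
/-- A coset. -/ def N3836 : Q := sm gd N2763
/-- A coset. -/ def N3837 : Q := sm gf N2763
/-- A coset. -/ def N3838 : Q := sm gc N2765
/-- A coset. -/ def N3839 : Q := sm ge N2765
/-- A coset. -/ def N3840 : Q := sm gf N2765
/-- A coset. -/ def N3841 : Q := sm gb N2766
/-- A coset. -/ def N3842 : Q := sm gg N2766
/-- A coset. -/ def N3843 : Q := sm gb N2767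
/-- A coset. -/ def N3844 : Q := sm gc N2768
/-- A coset. -/ def N3845 : Q := sm gf N2768
/-- A coset. -/ def N3846 : Q := sm gb N2769
/-- A coset. -/ def N3847 : Q := sm gd N2769
/-- A coset. -/ def N3848 : Q := sm gf N2769
/-- A coset. -/ def N3849 : Q := sm gg N2769
/-- A coset. -/ def N3850 : Q := sm gg N2770
/-- A coset. -/ def N3851 : Q := sm gf N2771
/-- A coset. -/ def N3852 : Q := sm ga N2772
/-- A coset. -/ def N3853 : Q := sm gf N2772
/-- A coset. -/ def N3854 : Q := sm gg N2772
/-- A coset. -/ def N3855 : Q := sm ga N2773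
/-- A coset. -/ def N3856 : Q := sm gc N2773
/-- A coset. -/ def N3857 : Q := sm gf N2773
/-- A coset. -/ def N3858 : Q := sm gc N2774
/-- A coset. -/ def N3859 : Q := sm gd N2775
/-- A coset. -/ def N3860 : Q := sm gf N2775
/-- A coset. -/ def N3861 : Q := sm gc N2777
/-- A coset. -/ def N3862 : Q := sm gb N2778
/-- A coset. -/ def N3863 : Q := sm gd N2778
/-- A coset. -/ def N3864 : Q := sm gf N2778
/-- A coset. -/ def N3865 : Q := sm gc N2780
/-- A coset. -/ def N3866 : Q := sm ge N2780
/-- A coset. -/ def N3867 : Q := sm gf N2780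
/-- A coset. -/ def N3868 : Q := sm gb N2781
/-- A coset. -/ def N3869 : Q := sm gg N2781
/-- A coset. -/ def N3870 : Q := sm gb N2782
/-- A coset. -/ def N3871 : Q := sm ga N2783
/-- A coset. -/ def N3872 : Q := sm gc N2783
/-- A coset. -/ def N3873 : Q := sm gf N2783
/-- A coset. -/ def N3874 : Q := sm gb N2784
/-- A coset. -/ def N3875 : Q := sm gd N2784
/-- A coset. -/ def N3876 : Q := sm gg N2784
/-- A coset. -/ def N3877 : Q := sm gc N2786
/-- A coset. -/ def N3878 : Q := sm ge N2786
/-- A coset. -/ def N3880 : Q := sm gb N2787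
/-- A coset. -/ def N3881 : Q := sm gf N2788
/-- A coset. -/ def N3882 : Q := sm gg N2788
/-- A coset. -/ def N3883 : Q := sm gb N2790
/-- A coset. -/ def N3884 : Q := sm gf N2791
/-- A coset. -/ def N3885 : Q := sm gg N2791
/-- A coset. -/ def N3886 : Q := sm gb N2793
/-- A coset. -/ def N3887 : Q := sm gg N2793
/-- A coset. -/ def N3888 : Q := sm gb N2794
/-- A coset. -/ def N3889 : Q := sm gf N2794
/-- A coset. -/ def N3890 : Q := sm ga N2796
/-- A coset. -/ def N3891 : Q := sm gc N2796
/-- A coset. -/ def N3892 : Q := sm gf N2798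
/-- A coset. -/ def N3893 : Q := sm gg N2798
/-- A coset. -/ def N3894 : Q := sm gg N2799
/-- A coset. -/ def N3895 : Q := sm gb N2800
/-- A coset. -/ def N3896 : Q := sm gf N2800
/-- A coset. -/ def N3897 : Q := sm ga N2801
/-- A coset. -/ def N3898 : Q := sm gc N2801
/-- A coset. -/ def N3899 : Q := sm gf N2801
/-- A coset. -/ def N3900 : Q := sm gc N2802
/-- A coset. -/ def N3901 : Q := sm gd N2803
/-- A coset. -/ def N3902 : Q := sm gf N2803
/-- A coset. -/ def N3903 : Q := sm ga N2805
/-- A coset. -/ def N3904 : Q := sm gc N2805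
/-- A coset. -/ def N3905 : Q := sm gg N2805
/-- A coset. -/ def N3906 : Q := sm gc N2806
/-- A coset. -/ def N3907 : Q := sm gg N2806
/-- A coset. -/ def N3908 : Q := sm gd N2807
/-- A coset. -/ def N3909 : Q := sm gg N2807
/-- A coset. -/ def N3910 : Q := sm gf N2810
/-- A coset. -/ def N3911 : Q := sm gg N2810
/-- A coset. -/ def N3912 : Q := sm gb N2811
/-- A coset. -/ def N3913 : Q := sm gb N2812
/-- A coset. -/ def N3914 : Q := sm gf N2813
/-- A coset. -/ def N3915 : Q := sm gg N2813
/-- A coset. -/ def N3916 : Q := sm gb N2814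
/-- A coset. -/ def N3917 : Q := sm gg N2814
/-- A coset. -/ def N3918 : Q := sm gf N2815
/-- A coset. -/ def N3919 : Q := sm ga N2816
/-- A coset. -/ def N3920 : Q := sm gc N2816
/-- A coset. -/ def N3921 : Q := sm gg N2816
/-- A coset. -/ def N3922 : Q := sm gb N2817
/-- A coset. -/ def N3923 : Q := sm gb N2818
/-- A coset. -/ def N3924 : Q := sm ga N2819
/-- A coset. -/ def N3925 : Q := sm gc N2819
/-- A coset. -/ def N3926 : Q := sm gg N2819
/-- A coset. -/ def N3927 : Q := sm gb N2820
/-- A coset. -/ def N3928 : Q := sm gc N2820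
/-- A coset. -/ def N3929 : Q := sm gg N2820
/-- A coset. -/ def N3930 : Q := sm gd N2821
/-- A coset. -/ def N3931 : Q := sm gg N2821
/-- A coset. -/ def N3932 : Q := sm gf N2822
/-- A coset. -/ def N3933 : Q := sm ge N2823
/-- A coset. -/ def N3934 : Q := sm gb N2826
/-- A coset. -/ def N3935 : Q := sm gb N2827
/-- A coset. -/ def N3936 : Q := sm ga N2828
/-- A coset. -/ def N3937 : Q := sm gc N2828
/-- A coset. -/ def N3938 : Q := sm gg N2828
/-- A coset. -/ def N3939 : Q := sm ga N2829
/-- A coset. -/ def N3941 : Q := sm gf N2829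
/-- A coset. -/ def N3942 : Q := sm gb N2830
/-- A coset. -/ def N3943 : Q := sm gc N2830
/-- A coset. -/ def N3944 : Q := sm gd N2831
/-- A coset. -/ def N3945 : Q := sm gg N2831
/-- A coset. -/ def N3946 : Q := sm gb N2832
/-- A coset. -/ def N3947 : Q := sm ga N2833
/-- A coset. -/ def N3949 : Q := sm gf N2833
/-- A coset. -/ def N3950 : Q := sm ga N2834
/-- A coset. -/ def N3952 : Q := sm gg N2834
/-- A coset. -/ def N3953 : Q := sm ga N2835
/-- A coset. -/ def N3954 : Q := sm gc N2835
/-- A coset. -/ def N3955 : Q := sm gf N2835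
/-- A coset. -/ def N3956 : Q := sm gg N2835
/-- A coset. -/ def N3957 : Q := sm gb N2836
/-- A coset. -/ def N3958 : Q := sm gd N2836
/-- A coset. -/ def N3959 : Q := sm gg N2836
/-- A coset. -/ def N3960 : Q := sm gb N2837
/-- A coset. -/ def N3961 : Q := sm gc N2838
/-- A coset. -/ def N3962 : Q := sm ge N2838
/-- A coset. -/ def N3963 : Q := sm gg N2838
/-- A coset. -/ def N3964 : Q := sm gb N2839
/-- A coset. -/ def N3965 : Q := sm gf N2839
/-- A coset. -/ def N3966 : Q := sm gb N2840
/-- A coset. -/ def N3967 : Q := sm ga N2841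
/-- A coset. -/ def N3969 : Q := sm gg N2841
/-- A coset. -/ def N3970 : Q := sm gg N2842
/-- A coset. -/ def N3971 : Q := sm gb N2843
/-- A coset. -/ def N3972 : Q := sm ga N2844
/-- A coset. -/ def N3973 : Q := sm gf N2844
/-- A coset. -/ def N3974 : Q := sm gf N2845
/-- A coset. -/ def N3975 : Q := sm gg N2845
/-- A coset. -/ def N3976 : Q := sm gf N2846
/-- A coset. -/ def N3977 : Q := sm gg N2846
/-- A coset. -/ def N3978 : Q := sm gb N2847
/-- A coset. -/ def N3979 : Q := sm gg N2847
/-- A coset. -/ def N3980 : Q := sm gb N2848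
/-- A coset. -/ def N3981 : Q := sm gf N2848
/-- A coset. -/ def N3982 : Q := sm gb N2849
/-- A coset. -/ def N3983 : Q := sm gb N2850
/-- A coset. -/ def N3984 : Q := sm ga N2851
/-- A coset. -/ def N3985 : Q := sm gc N2851
/-- A coset. -/ def N3986 : Q := sm gg N2851
/-- A coset. -/ def N3987 : Q := sm ga N2852
/-- A coset. -/ def N3988 : Q := sm gc N2852
/-- A coset. -/ def N3989 : Q := sm gf N2852
/-- A coset. -/ def N3990 : Q := sm gf N2853
/-- A coset. -/ def N3991 : Q := sm gg N2853
/-- A coset. -/ def N3992 : Q := sm gb N2854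
/-- A coset. -/ def N3993 : Q := sm gb N2855
/-- A coset. -/ def N3994 : Q := sm ga N2856
/-- A coset. -/ def N3995 : Q := sm gc N2856
/-- A coset. -/ def N3996 : Q := sm gg N2856
/-- A coset. -/ def N3997 : Q := sm gb N2857
/-- A coset. -/ def N3998 : Q := sm gb N2858
/-- A coset. -/ def N3999 : Q := sm gb N2859
/-- A coset. -/ def N4000 : Q := sm gb N2860
/-- A coset. -/ def N4001 : Q := sm ga N2861
/-- A coset. -/ def N4002 : Q := sm gc N2861
/-- A coset. -/ def N4003 : Q := sm gf N2861
/-- A coset. -/ def N4004 : Q := sm ga N2862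
/-- A coset. -/ def N4005 : Q := sm gc N2862
/-- A coset. -/ def N4006 : Q := sm gg N2862
/-- A coset. -/ def N4007 : Q := sm gf N2863
/-- A coset. -/ def N4008 : Q := sm gg N2863
/-- A coset. -/ def N4009 : Q := sm gb N2864
/-- A coset. -/ def N4010 : Q := sm gg N2864
/-- A coset. -/ def N4011 : Q := sm gf N2865
/-- A coset. -/ def N4012 : Q := sm ga N2866
/-- A coset. -/ def N4013 : Q := sm gc N2866
/-- A coset. -/ def N4014 : Q := sm gg N2866
/-- A coset. -/ def N4015 : Q := sm gb N2867
/-- A coset. -/ def N4016 : Q := sm gc N2867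
/-- A coset. -/ def N4017 : Q := sm gg N2867
/-- A coset. -/ def N4018 : Q := sm gd N2868
/-- A coset. -/ def N4019 : Q := sm gg N2868
/-- A coset. -/ def N4020 : Q := sm gf N2869
/-- A coset. -/ def N4021 : Q := sm ga N2870
/-- A coset. -/ def N4022 : Q := sm gc N2870
/-- A coset. -/ def N4024 : Q := sm gg N2870
/-- A coset. -/ def N4025 : Q := sm gb N2871
/-- A coset. -/ def N4026 : Q := sm ga N2872
/-- A coset. -/ def N4027 : Q := sm gc N2872
/-- A coset. -/ def N4028 : Q := sm gf N2872
/-- A coset. -/ def N4029 : Q := sm gb N2873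
/-- A coset. -/ def N4030 : Q := sm gb N2874
/-- A coset. -/ def N4031 : Q := sm gc N2874
/-- A coset. -/ def N4032 : Q := sm gf N2874
/-- A coset. -/ def N4033 : Q := sm gd N2875
/-- A coset. -/ def N4034 : Q := sm gf N2875
/-- A coset. -/ def N4035 : Q := sm gg N2876
/-- A coset. -/ def N4036 : Q := sm ge N2877
/-- A coset. -/ def N4037 : Q := sm gf N2878
/-- A coset. -/ def N4038 : Q := sm gg N2878
/-- A coset. -/ def N4039 : Q := sm gb N2881
/-- A coset. -/ def N4040 : Q := sm gg N2881
/-- A coset. -/ def N4041 : Q := sm gb N2882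
/-- A coset. -/ def N4042 : Q := sm gf N2882
/-- A coset. -/ def N4043 : Q := sm gc N2883
/-- A coset. -/ def N4044 : Q := sm gc N2885
/-- A coset. -/ def N4045 : Q := sm gc N2887
/-- A coset. -/ def N4046 : Q := sm gd N2888
/-- A coset. -/ def N4047 : Q := sm gg N2888
/-- A coset. -/ def N4048 : Q := sm gf N2889
/-- A coset. -/ def N4051 : Q := sm gd N2891
/-- A coset. -/ def N4052 : Q := sm gf N2891
/-- A coset. -/ def N4053 : Q := sm gc N2893
/-- A coset. -/ def N4054 : Q := sm gd N2894
/-- A coset. -/ def N4055 : Q := sm gf N2894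
/-- A coset. -/ def N4056 : Q := sm gc N2896
/-- A coset. -/ def N4057 : Q := sm gd N2897
/-- A coset. -/ def N4058 : Q := sm gg N2897
/-- A coset. -/ def N4059 : Q := sm gf N2899
/-- A coset. -/ def N4060 : Q := sm gg N2899
/-- A coset. -/ def N4061 : Q := sm gc N2900
/-- A coset. -/ def N4062 : Q := sm gf N2900
/-- A coset. -/ def N4063 : Q := sm gg N2900
/-- A coset. -/ def N4064 : Q := sm gb N2901
/-- A coset. -/ def N4065 : Q := sm gg N2901
/-- A coset. -/ def N4066 : Q := sm gb N2902
/-- A coset. -/ def N4067 : Q := sm gf N2902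
/-- A coset. -/ def N4068 : Q := sm gb N2903
/-- A coset. -/ def N4069 : Q := sm gb N2904
/-- A coset. -/ def N4070 : Q := sm ga N2905
/-- A coset. -/ def N4071 : Q := sm gg N2905
/-- A coset. -/ def N4072 : Q := sm ga N2906
/-- A coset. -/ def N4073 : Q := sm gc N2906
/-- A coset. -/ def N4074 : Q := sm gf N2906
/-- A coset. -/ def N4076 : Q := sm gb N2908
/-- A coset. -/ def N4077 : Q := sm gb N2909
/-- A coset. -/ def N4078 : Q := sm ga N2910
/-- A coset. -/ def N4079 : Q := sm gc N2910
/-- A coset. -/ def N4080 : Q := sm gg N2910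
/-- A coset. -/ def N4081 : Q := sm gb N2911
/-- A coset. -/ def N4082 : Q := sm ga N2912
/-- A coset. -/ def N4084 : Q := sm gf N2912
/-- A coset. -/ def N4085 : Q := sm gb N2913
/-- A coset. -/ def N4086 : Q := sm gb N2914
/-- A coset. -/ def N4087 : Q := sm gc N2914
/-- A coset. -/ def N4088 : Q := sm gg N2914
/-- A coset. -/ def N4090 : Q := sm gg N2915
/-- A coset. -/ def N4091 : Q := sm gf N2916
/-- A coset. -/ def N4092 : Q := sm gb N2917
/-- A coset. -/ def N4093 : Q := sm gc N2917
/-- A coset. -/ def N4094 : Q := sm gf N2917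
/-- A coset. -/ def N4095 : Q := sm gd N2918
/-- A coset. -/ def N4097 : Q := sm gg N2919
/-- A coset. -/ def N4098 : Q := sm ge N2920
/-- A coset. -/ def N4100 : Q := sm gf N2922
/-- A coset. -/ def N4101 : Q := sm gg N2922
/-- A coset. -/ def N4102 : Q := sm gc N2923
/-- A coset. -/ def N4103 : Q := sm gf N2923
/-- A coset. -/ def N4104 : Q := sm gg N2923
/-- A coset. -/ def N4105 : Q := sm gb N2924
/-- A coset. -/ def N4106 : Q := sm gb N2925
/-- A coset. -/ def N4107 : Q := sm gd N2926
/-- A coset. -/ def N4108 : Q := sm gf N2926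
/-- A coset. -/ def N4109 : Q := sm gg N2926
/-- A coset. -/ def N4110 : Q := sm gf N2927
/-- A coset. -/ def N4111 : Q := sm gg N2927
/-- A coset. -/ def N4112 : Q := sm gb N2928
/-- A coset. -/ def N4113 : Q := sm gg N2928
/-- A coset. -/ def N4114 : Q := sm gb N2929
/-- A coset. -/ def N4115 : Q := sm gf N2929
/-- A coset. -/ def N4116 : Q := sm ga N2930
/-- A coset. -/ def N4117 : Q := sm gc N2930
/-- A coset. -/ def N4118 : Q := sm gg N2930
/-- A coset. -/ def N4120 : Q := sm ga N2932
/-- A coset. -/ def N4121 : Q := sm gf N2932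
/-- A coset. -/ def N4122 : Q := sm gb N2933
/-- A coset. -/ def N4123 : Q := sm gb N2934
/-- A coset. -/ def N4124 : Q := sm gg N2934
/-- A coset. -/ def N4125 : Q := sm gb N2935
/-- A coset. -/ def N4126 : Q := sm gf N2935
/-- A coset. -/ def N4127 : Q := sm ga N2936
/-- A coset. -/ def N4128 : Q := sm gc N2936
/-- A coset. -/ def N4129 : Q := sm gg N2936
/-- A coset. -/ def N4130 : Q := sm gb N2937
/-- A coset. -/ def N4131 : Q := sm ga N2938
/-- A coset. -/ def N4133 : Q := sm gf N2938
/-- A coset. -/ def N4134 : Q := sm gb N2939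
/-- A coset. -/ def N4135 : Q := sm gb N2940
/-- A coset. -/ def N4136 : Q := sm gc N2940
/-- A coset. -/ def N4137 : Q := sm gg N2940
/-- A coset. -/ def N4138 : Q := sm gd N2941
/-- A coset. -/ def N4139 : Q := sm gg N2941
/-- A coset. -/ def N4140 : Q := sm gb N2942
/-- A coset. -/ def N4141 : Q := sm gf N2942
/-- A coset. -/ def N4142 : Q := sm ga N2943
/-- A coset. -/ def N4143 : Q := sm gf N2943
/-- A coset. -/ def N4144 : Q := sm gb N2944
/-- A coset. -/ def N4145 : Q := sm gf N2944
/-- A coset. -/ def N4146 : Q := sm gb N2945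
/-- A coset. -/ def N4147 : Q := sm gg N2945
/-- A coset. -/ def N4148 : Q := sm ga N2946
/-- A coset. -/ def N4149 : Q := sm gg N2946
/-- A coset. -/ def N4150 : Q := sm ge N2947
/-- A coset. -/ def N4151 : Q := sm gb N2948
/-- A coset. -/ def N4152 : Q := sm gg N2948
/-- A coset. -/ def N4153 : Q := sm gb N2949
/-- A coset. -/ def N4154 : Q := sm gf N2949
/-- A coset. -/ def N4155 : Q := sm ga N2950
/-- A coset. -/ def N4156 : Q := sm gc N2950
/-- A coset. -/ def N4157 : Q := sm gg N2950
/-- A coset. -/ def N4158 : Q := sm ga N2951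
/-- A coset. -/ def N4159 : Q := sm gc N2951
/-- A coset. -/ def N4160 : Q := sm gf N2951
/-- A coset. -/ def N4161 : Q := sm gb N2952
/-- A coset. -/ def N4162 : Q := sm gg N2952
/-- A coset. -/ def N4163 : Q := sm gb N2953
/-- A coset. -/ def N4164 : Q := sm gf N2953
/-- A coset. -/ def N4165 : Q := sm ga N2954
/-- A coset. -/ def N4166 : Q := sm gc N2954
/-- A coset. -/ def N4167 : Q := sm gg N2954
/-- A coset. -/ def N4168 : Q := sm gb N2955
/-- A coset. -/ def N4169 : Q := sm ga N2956
/-- A coset. -/ def N4170 : Q := sm gc N2956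
/-- A coset. -/ def N4171 : Q := sm gf N2956
/-- A coset. -/ def N4172 : Q := sm gb N2957
/-- A coset. -/ def N4173 : Q := sm gb N2958
/-- A coset. -/ def N4174 : Q := sm gc N2958
/-- A coset. -/ def N4175 : Q := sm gd N2959
/-- A coset. -/ def N4176 : Q := sm gg N2959
/-- A coset. -/ def N4177 : Q := sm gb N2960
/-- A coset. -/ def N4178 : Q := sm ga N2961
/-- A coset. -/ def N4180 : Q := sm gf N2961
/-- A coset. -/ def N4181 : Q := sm gb N2962
/-- A coset. -/ def N4182 : Q := sm gb N2963
/-- A coset. -/ def N4183 : Q := sm ga N2964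
/-- A coset. -/ def N4184 : Q := sm gc N2964
/-- A coset. -/ def N4185 : Q := sm gg N2964
/-- A coset. -/ def N4186 : Q := sm ga N2965
/-- A coset. -/ def N4187 : Q := sm gc N2965
/-- A coset. -/ def N4188 : Q := sm gg N2965
/-- A coset. -/ def N4189 : Q := sm gb N2966
/-- A coset. -/ def N4190 : Q := sm ga N2967
/-- A coset. -/ def N4191 : Q := sm gc N2967
/-- A coset. -/ def N4192 : Q := sm gf N2967
/-- A coset. -/ def N4193 : Q := sm gb N2968
/-- A coset. -/ def N4194 : Q := sm gb N2969
/-- A coset. -/ def N4195 : Q := sm gc N2969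
/-- A coset. -/ def N4196 : Q := sm gg N2969
/-- A coset. -/ def N4197 : Q := sm gd N2970
/-- A coset. -/ def N4198 : Q := sm gg N2970
/-- A coset. -/ def N4199 : Q := sm gb N2971
/-- A coset. -/ def N4200 : Q := sm gf N2971
/-- A coset. -/ def N4201 : Q := sm ga N2972
/-- A coset. -/ def N4202 : Q := sm gc N2972
/-- A coset. -/ def N4203 : Q := sm gf N2972
/-- A coset. -/ def N4204 : Q := sm gb N2973
/-- A coset. -/ def N4205 : Q := sm gc N2973
/-- A coset. -/ def N4206 : Q := sm gf N2973
/-- A coset. -/ def N4207 : Q := sm gd N2974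
/-- A coset. -/ def N4208 : Q := sm gf N2974
/-- A coset. -/ def N4209 : Q := sm gb N2975
/-- A coset. -/ def N4211 : Q := sm ga N2976
/-- A coset. -/ def N4212 : Q := sm gc N2976
/-- A coset. -/ def N4213 : Q := sm gg N2976
/-- A coset. -/ def N4214 : Q := sm ga N2977
/-- A coset. -/ def N4215 : Q := sm gc N2977
/-- A coset. -/ def N4216 : Q := sm gf N2977
/-- A coset. -/ def N4217 : Q := sm gg N2977
/-- A coset. -/ def N4218 : Q := sm gb N2978
/-- A coset. -/ def N4219 : Q := sm gd N2978
/-- A coset. -/ def N4220 : Q := sm gg N2978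
/-- A coset. -/ def N4221 : Q := sm gb N2979
/-- A coset. -/ def N4222 : Q := sm gc N2980
/-- A coset. -/ def N4223 : Q := sm ge N2980
/-- A coset. -/ def N4224 : Q := sm gg N2980
/-- A coset. -/ def N4225 : Q := sm gf N2981
/-- A coset. -/ def N4226 : Q := sm ga N2982
/-- A coset. -/ def N4227 : Q := sm gf N2982
/-- A coset. -/ def N4228 : Q := sm gb N2983
/-- A coset. -/ def N4229 : Q := sm gb N2984
/-- A coset. -/ def N4230 : Q := sm gf N2984
/-- A coset. -/ def N4231 : Q := sm gg N2985
/-- A coset. -/ def N4232 : Q := sm ga N2986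
/-- A coset. -/ def N4233 : Q := sm gc N2986
/-- A coset. -/ def N4234 : Q := sm gf N2986
/-- A coset. -/ def N4235 : Q := sm gg N2986
/-- A coset. -/ def N4236 : Q := sm gb N2987
/-- A coset. -/ def N4237 : Q := sm ga N2988
/-- A coset. -/ def N4238 : Q := sm gg N2988
/-- A coset. -/ def N4239 : Q := sm gb N2989
/-- A coset. -/ def N4240 : Q := sm gb N2990
/-- A coset. -/ def N4241 : Q := sm gg N2990
/-- A coset. -/ def N4242 : Q := sm gf N2991
/-- A coset. -/ def N4243 : Q := sm ga N2992
/-- A coset. -/ def N4244 : Q := sm gd N2992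
/-- A coset. -/ def N4245 : Q := sm gf N2992
/-- A coset. -/ def N4246 : Q := sm gg N2992
/-- A coset. -/ def N4247 : Q := sm ge N2993
/-- A coset. -/ def N4248 : Q := sm gb N2996
/-- A coset. -/ def N4249 : Q := sm gb N2997
/-- A coset. -/ def N4250 : Q := sm gb N2998
/-- A coset. -/ def N4251 : Q := sm gb N2999
/-- A coset. -/ def N4252 : Q := sm gf N3000
/-- A coset. -/ def N4253 : Q := sm gg N3000
/-- A coset. -/ def N4254 : Q := sm gb N3001
/-- A coset. -/ def N4255 : Q := sm gg N3001
/-- A coset. -/ def N4256 : Q := sm gb N3002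
/-- A coset. -/ def N4257 : Q := sm gf N3002
/-- A coset. -/ def N4258 : Q := sm gb N3003
/-- A coset. -/ def N4259 : Q := sm gb N3004
/-- A coset. -/ def N4260 : Q := sm ga N3005
/-- A coset. -/ def N4261 : Q := sm gc N3005
/-- A coset. -/ def N4262 : Q := sm gg N3005
/-- A coset. -/ def N4263 : Q := sm ga N3006
/-- A coset. -/ def N4264 : Q := sm gc N3006
/-- A coset. -/ def N4265 : Q := sm gf N3006
/-- A coset. -/ def N4266 : Q := sm gc N3007
/-- A coset. -/ def N4267 : Q := sm gf N3007
/-- A coset. -/ def N4268 : Q := sm gg N3007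
/-- A coset. -/ def N4269 : Q := sm gb N3008
/-- A coset. -/ def N4270 : Q := sm gb N3009
/-- A coset. -/ def N4271 : Q := sm ga N3010
/-- A coset. -/ def N4272 : Q := sm gc N3010
/-- A coset. -/ def N4273 : Q := sm gg N3010
/-- A coset. -/ def N4274 : Q := sm gb N3011
/-- A coset. -/ def N4275 : Q := sm gb N3012
/-- A coset. -/ def N4276 : Q := sm gb N3013
/-- A coset. -/ def N4277 : Q := sm gc N3013
/-- A coset. -/ def N4278 : Q := sm gd N3014
/-- A coset. -/ def N4279 : Q := sm gg N3014
/-- A coset. -/ def N4280 : Q := sm gb N3015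
/-- A coset. -/ def N4281 : Q := sm ga N3016
/-- A coset. -/ def N4284 : Q := sm ga N3017
/-- A coset. -/ def N4285 : Q := sm gc N3017
/-- A coset. -/ def N4286 : Q := sm gg N3017
/-- A coset. -/ def N4287 : Q := sm gb N3018
/-- A coset. -/ def N4288 : Q := sm gc N3018
/-- A coset. -/ def N4289 : Q := sm gg N3018
/-- A coset. -/ def N4290 : Q := sm gd N3019
/-- A coset. -/ def N4291 : Q := sm gg N3019
/-- A coset. -/ def N4292 : Q := sm gf N3020
/-- A coset. -/ def N4293 : Q := sm ga N3021
/-- A coset. -/ def N4294 : Q := sm gc N3021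
/-- A coset. -/ def N4295 : Q := sm gf N3021
/-- A coset. -/ def N4296 : Q := sm gg N3021
/-- A coset. -/ def N4297 : Q := sm gb N3022
/-- A coset. -/ def N4298 : Q := sm gd N3022
/-- A coset. -/ def N4299 : Q := sm gg N3022
/-- A coset. -/ def N4300 : Q := sm gb N3023
/-- A coset. -/ def N4301 : Q := sm gc N3024
/-- A coset. -/ def N4302 : Q := sm ge N3024
/-- A coset. -/ def N4303 : Q := sm gg N3024
/-- A coset. -/ def N4304 : Q := sm gf N3025
/-- A coset. -/ def N4305 : Q := sm gb N3026
/-- A coset. -/ def N4306 : Q := sm ga N3028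
/-- A coset. -/ def N4307 : Q := sm gd N3028
/-- A coset. -/ def N4308 : Q := sm gf N3028
/-- A coset. -/ def N4309 : Q := sm gg N3028
/-- A coset. -/ def N4310 : Q := sm ge N3029
/-- A coset. -/ def N4311 : Q := sm gb N3030
/-- A coset. -/ def N4312 : Q := sm gb N3031
/-- A coset. -/ def N4313 : Q := sm gf N3032
/-- A coset. -/ def N4314 : Q := sm gg N3032
/-- A coset. -/ def N4315 : Q := sm gb N3033
/-- A coset. -/ def N4316 : Q := sm gb N3034
/-- A coset. -/ def N4317 : Q := sm ga N3035
/-- A coset. -/ def N4318 : Q := sm gc N3035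
/-- A coset. -/ def N4319 : Q := sm gg N3035
/-- A coset. -/ def N4320 : Q := sm gb N3036
/-- A coset. -/ def N4321 : Q := sm ga N3037
/-- A coset. -/ def N4322 : Q := sm gc N3037
/-- A coset. -/ def N4323 : Q := sm gf N3037
/-- A coset. -/ def N4324 : Q := sm gb N3038
/-- A coset. -/ def N4325 : Q := sm gb N3039
/-- A coset. -/ def N4326 : Q := sm gc N3039
/-- A coset. -/ def N4327 : Q := sm gg N3039
/-- A coset. -/ def N4328 : Q := sm gd N3040
/-- A coset. -/ def N4329 : Q := sm gg N3040
/-- A coset. -/ def N4330 : Q := sm gf N3041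
/-- A coset. -/ def N4331 : Q := sm gb N3042
/-- A coset. -/ def N4332 : Q := sm gc N3042
/-- A coset. -/ def N4333 : Q := sm gf N3042
/-- A coset. -/ def N4335 : Q := sm gf N3043
/-- A coset. -/ def N4336 : Q := sm gg N3044
/-- A coset. -/ def N4337 : Q := sm ga N3045
/-- A coset. -/ def N4338 : Q := sm gc N3045
/-- A coset. -/ def N4339 : Q := sm gf N3045
/-- A coset. -/ def N4340 : Q := sm gg N3045
/-- A coset. -/ def N4341 : Q := sm gb N3046
/-- A coset. -/ def N4342 : Q := sm gd N3046
/-- A coset. -/ def N4343 : Q := sm gc N3047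
/-- A coset. -/ def N4344 : Q := sm ge N3047
/-- A coset. -/ def N4345 : Q := sm gg N3047
/-- A coset. -/ def N4346 : Q := sm gb N3048
/-- A coset. -/ def N4347 : Q := sm ga N3049
/-- A coset. -/ def N4349 : Q := sm gf N3049
/-- A coset. -/ def N4350 : Q := sm gb N3050
/-- A coset. -/ def N4352 : Q := sm gf N3050
/-- A coset. -/ def N4356 : Q := sm ga N3053
/-- A coset. -/ def N4357 : Q := sm gc N3053
/-- A coset. -/ def N4358 : Q := sm gf N3053
/-- A coset. -/ def N4360 : Q := sm ga N3054
/-- A coset. -/ def N4361 : Q := sm gc N3054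
/-- A coset. -/ def N4362 : Q := sm gg N3054
/-- A coset. -/ def N4363 : Q := sm gb N3055
/-- A coset. -/ def N4364 : Q := sm gc N3055
/-- A coset. -/ def N4365 : Q := sm gg N3055
/-- A coset. -/ def N4366 : Q := sm gd N3056
/-- A coset. -/ def N4367 : Q := sm gg N3056
/-- A coset. -/ def N4368 : Q := sm gf N3057
/-- A coset. -/ def N4369 : Q := sm gc N3058
/-- A coset. -/ def N4370 : Q := sm gf N3058
/-- A coset. -/ def N4371 : Q := sm gg N3058
/-- A coset. -/ def N4372 : Q := sm gb N3059
/-- A coset. -/ def N4373 : Q := sm gd N3059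
/-- A coset. -/ def N4374 : Q := sm gf N3059
/-- A coset. -/ def N4375 : Q := sm gg N3059
/-- A coset. -/ def N4376 : Q := sm gg N3060
/-- A coset. -/ def N4377 : Q := sm gb N3061
/-- A coset. -/ def N4378 : Q := sm gf N3061
/-- A coset. -/ def N4379 : Q := sm ga N3062
/-- A coset. -/ def N4380 : Q := sm gd N3062
/-- A coset. -/ def N4381 : Q := sm gf N3062
/-- A coset. -/ def N4382 : Q := sm gg N3062
/-- A coset. -/ def N4383 : Q := sm ge N3063
/-- A coset. -/ def N4384 : Q := sm gg N3063
/-- A coset. -/ def N4385 : Q := sm gb N3064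
/-- A coset. -/ def N4386 : Q := sm ga N3065
/-- A coset. -/ def N4387 : Q := sm gc N3065
/-- A coset. -/ def N4388 : Q := sm gf N3065
/-- A coset. -/ def N4389 : Q := sm gb N3066
/-- A coset. -/ def N4390 : Q := sm ge N3066
/-- A coset. -/ def N4391 : Q := sm gg N3066
/-- A coset. -/ def N4392 : Q := sm gg N3067
/-- A coset. -/ def N4393 : Q := sm gb N3068
/-- A coset. -/ def N4394 : Q := sm gf N3068
/-- A coset. -/ def N4395 : Q := sm ga N3069
/-- A coset. -/ def N4396 : Q := sm gf N3069
/-- A coset. -/ def N4397 : Q := sm gb N3070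
/-- A coset. -/ def N4398 : Q := sm ga N3071
/-- A coset. -/ def N4399 : Q := sm gc N3071
/-- A coset. -/ def N4400 : Q := sm gg N3071
/-- A coset. -/ def N4401 : Q := sm gb N3074
/-- A coset. -/ def N4402 : Q := sm gg N3074
/-- A coset. -/ def N4403 : Q := sm gf N3075
/-- A coset. -/ def N4404 : Q := sm ga N3076
/-- A coset. -/ def N4405 : Q := sm gc N3076
/-- A coset. -/ def N4406 : Q := sm gg N3076
/-- A coset. -/ def N4407 : Q := sm gb N3077
/-- A coset. -/ def N4408 : Q := sm gc N3077
/-- A coset. -/ def N4409 : Q := sm gd N3078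
/-- A coset. -/ def N4410 : Q := sm gg N3078
/-- A coset. -/ def N4411 : Q := sm gb N3079
/-- A coset. -/ def N4412 : Q := sm ga N3080
/-- A coset. -/ def N4413 : Q := sm gc N3080
/-- A coset. -/ def N4414 : Q := sm gf N3080
/-- A coset. -/ def N4415 : Q := sm ga N3081
/-- A coset. -/ def N4416 : Q := sm gc N3081
/-- A coset. -/ def N4417 : Q := sm gf N3081
/-- A coset. -/ def N4418 : Q := sm gg N3081
/-- A coset. -/ def N4419 : Q := sm gb N3082
/-- A coset. -/ def N4420 : Q := sm gd N3082
/-- A coset. -/ def N4421 : Q := sm gg N3082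
/-- A coset. -/ def N4422 : Q := sm gb N3083
/-- A coset. -/ def N4423 : Q := sm gc N3084
/-- A coset. -/ def N4424 : Q := sm ge N3084
/-- A coset. -/ def N4425 : Q := sm gg N3084
/-- A coset. -/ def N4426 : Q := sm gf N3085
/-- A coset. -/ def N4428 : Q := sm ga N3087
/-- A coset. -/ def N4429 : Q := sm gd N3087
/-- A coset. -/ def N4430 : Q := sm gf N3087
/-- A coset. -/ def N4431 : Q := sm gg N3087
/-- A coset. -/ def N4432 : Q := sm ge N3088
/-- A coset. -/ def N4433 : Q := sm gb N3089
/-- A coset. -/ def N4434 : Q := sm gd N3089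
/-- A coset. -/ def N4435 : Q := sm gf N3089
/-- A coset. -/ def N4436 : Q := sm gg N3089
/-- A coset. -/ def N4437 : Q := sm gc N3090
/-- A coset. -/ def N4438 : Q := sm ge N3090
/-- A coset. -/ def N4439 : Q := sm gf N3090
/-- A coset. -/ def N4440 : Q := sm gg N3090
/-- A coset. -/ def N4441 : Q := sm gg N3091
/-- A coset. -/ def N4442 : Q := sm gf N3092
/-- A coset. -/ def N4443 : Q := sm ga N3094
/-- A coset. -/ def N4444 : Q := sm ge N3094
/-- A coset. -/ def N4445 : Q := sm gf N3094
/-- A coset. -/ def N4446 : Q := sm gg N3094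
/-- A coset. -/ def N4447 : Q := sm gb N3096
/-- A coset. -/ def N4448 : Q := sm gf N3096
/-- A coset. -/ def N4449 : Q := sm ga N3097
/-- A coset. -/ def N4450 : Q := sm gc N3097
/-- A coset. -/ def N4451 : Q := sm gf N3097
/-- A coset. -/ def N4452 : Q := sm gb N3098
/-- A coset. -/ def N4453 : Q := sm gb N3099
/-- A coset. -/ def N4454 : Q := sm gf N3099
/-- A coset. -/ def N4455 : Q := sm gb N3100
/-- A coset. -/ def N4456 : Q := sm gg N3100
/-- A coset. -/ def N4457 : Q := sm ga N3101
/-- A coset. -/ def N4458 : Q := sm gg N3101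
/-- A coset. -/ def N4459 : Q := sm ga N3102
/-- A coset. -/ def N4460 : Q := sm gd N3102
/-- A coset. -/ def N4461 : Q := sm gf N3102
/-- A coset. -/ def N4462 : Q := sm gg N3102
/-- A coset. -/ def N4465 : Q := sm ge N3104
/-- A coset. -/ def N4466 : Q := sm gb N3106
/-- A coset. -/ def N4467 : Q := sm ge N3106
/-- A coset. -/ def N4468 : Q := sm ga N3108
/-- A coset. -/ def N4469 : Q := sm gd N3108
/-- A coset. -/ def N4470 : Q := sm ge N3108
/-- A coset. -/ def N4473 : Q := sm ge N3109
/-- A coset. -/ def N4474 : Q := sm gd N3110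
/-- A coset. -/ def N4476 : Q := sm ge N3111
/-- A coset. -/ def N4480 : Q := sm gf N3112
/-- A coset. -/ def N4481 : Q := sm gg N3112
/-- A coset. -/ def N4484 : Q := sm gc N3118
/-- A coset. -/ def N4485 : Q := sm gf N3118
/-- A coset. -/ def N4486 : Q := sm gg N3118
/-- A coset. -/ def N4487 : Q := sm gb N3119
/-- A coset. -/ def N4488 : Q := sm gg N3119
/-- A coset. -/ def N4489 : Q := sm gb N3120
/-- A coset. -/ def N4490 : Q := sm gf N3120
/-- A coset. -/ def N4491 : Q := sm gf N3121
/-- A coset. -/ def N4492 : Q := sm gg N3121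
/-- A coset. -/ def N4493 : Q := sm gf N3122
/-- A coset. -/ def N4494 : Q := sm gg N3122
/-- A coset. -/ def N4495 : Q := sm gb N3123
/-- A coset. -/ def N4496 : Q := sm gb N3124
/-- A coset. -/ def N4497 : Q := sm ga N3125
/-- A coset. -/ def N4498 : Q := sm gc N3125
/-- A coset. -/ def N4499 : Q := sm gg N3125
/-- A coset. -/ def N4500 : Q := sm ga N3126
/-- A coset. -/ def N4501 : Q := sm gc N3126
/-- A coset. -/ def N4502 : Q := sm gf N3126
/-- A coset. -/ def N4503 : Q := sm gb N3127
/-- A coset. -/ def N4504 : Q := sm gg N3127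
/-- A coset. -/ def N4505 : Q := sm gb N3128
/-- A coset. -/ def N4507 : Q := sm gb N3129
/-- A coset. -/ def N4508 : Q := sm gg N3129
/-- A coset. -/ def N4509 : Q := sm gb N3130
/-- A coset. -/ def N4510 : Q := sm gf N3130
/-- A coset. -/ def N4511 : Q := sm ga N3131
/-- A coset. -/ def N4512 : Q := sm gc N3131
/-- A coset. -/ def N4513 : Q := sm gg N3131
/-- A coset. -/ def N4514 : Q := sm gb N3132
/-- A coset. -/ def N4515 : Q := sm ga N3133
/-- A coset. -/ def N4516 : Q := sm gc N3133
/-- A coset. -/ def N4517 : Q := sm gf N3133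
/-- A coset. -/ def N4518 : Q := sm gb N3134
/-- A coset. -/ def N4519 : Q := sm gb N3135
/-- A coset. -/ def N4520 : Q := sm gc N3135
/-- A coset. -/ def N4521 : Q := sm gd N3136
/-- A coset. -/ def N4522 : Q := sm gg N3136
/-- A coset. -/ def N4523 : Q := sm gb N3137
/-- A coset. -/ def N4526 : Q := sm gf N3138
/-- A coset. -/ def N4527 : Q := sm gb N3139
/-- A coset. -/ def N4528 : Q := sm gb N3140
/-- A coset. -/ def N4529 : Q := sm ga N3141
/-- A coset. -/ def N4530 : Q := sm gc N3141
/-- A coset. -/ def N4531 : Q := sm gg N3141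
/-- A coset. -/ def N4532 : Q := sm ga N3142
/-- A coset. -/ def N4533 : Q := sm gc N3142
/-- A coset. -/ def N4534 : Q := sm gg N3142
/-- A coset. -/ def N4535 : Q := sm ga N3143
/-- A coset. -/ def N4536 : Q := sm gc N3143
/-- A coset. -/ def N4537 : Q := sm gf N3143
/-- A coset. -/ def N4538 : Q := sm gb N3144
/-- A coset. -/ def N4539 : Q := sm gc N3144
/-- A coset. -/ def N4540 : Q := sm gg N3144
/-- A coset. -/ def N4541 : Q := sm gd N3145
/-- A coset. -/ def N4542 : Q := sm gg N3145
/-- A coset. -/ def N4543 : Q := sm gf N3146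
/-- A coset. -/ def N4544 : Q := sm gb N3147
/-- A coset. -/ def N4545 : Q := sm gc N3147
/-- A coset. -/ def N4546 : Q := sm gf N3147
/-- A coset. -/ def N4547 : Q := sm gd N3148
/-- A coset. -/ def N4548 : Q := sm gf N3148
/-- A coset. -/ def N4549 : Q := sm gg N3149
/-- A coset. -/ def N4550 : Q := sm ga N3150
/-- A coset. -/ def N4551 : Q := sm gc N3150
/-- A coset. -/ def N4552 : Q := sm gf N3150
/-- A coset. -/ def N4553 : Q := sm gg N3150
/-- A coset. -/ def N4554 : Q := sm gb N3151
/-- A coset. -/ def N4555 : Q := sm gd N3151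
/-- A coset. -/ def N4556 : Q := sm gg N3151
/-- A coset. -/ def N4557 : Q := sm gb N3152
/-- A coset. -/ def N4558 : Q := sm gc N3153
/-- A coset. -/ def N4559 : Q := sm ge N3153
/-- A coset. -/ def N4560 : Q := sm gg N3153
/-- A coset. -/ def N4561 : Q := sm gb N3154
/-- A coset. -/ def N4562 : Q := sm gf N3154
/-- A coset. -/ def N4563 : Q := sm gb N3155
/-- A coset. -/ def N4564 : Q := sm ga N3156
/-- A coset. -/ def N4565 : Q := sm gc N3156
/-- A coset. -/ def N4566 : Q := sm gf N3156
/-- A coset. -/ def N4567 : Q := sm gg N3156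
/-- A coset. -/ def N4568 : Q := sm gb N3157
/-- A coset. -/ def N4569 : Q := sm gb N3158
/-- A coset. -/ def N4570 : Q := sm ga N3159
/-- A coset. -/ def N4571 : Q := sm gd N3159
/-- A coset. -/ def N4572 : Q := sm gf N3159
/-- A coset. -/ def N4573 : Q := sm gg N3159
/-- A coset. -/ def N4574 : Q := sm ge N3160
/-- A coset. -/ def N4575 : Q := sm gg N3161
/-- A coset. -/ def N4576 : Q := sm gb N3162
/-- A coset. -/ def N4577 : Q := sm ga N3163
/-- A coset. -/ def N4578 : Q := sm gf N3163
/-- A coset. -/ def N4579 : Q := sm ga N3164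
/-- A coset. -/ def N4580 : Q := sm gd N3164
/-- A coset. -/ def N4581 : Q := sm gf N3164
/-- A coset. -/ def N4582 : Q := sm gg N3164
/-- A coset. -/ def N4584 : Q := sm gb N3168
/-- A coset. -/ def N4585 : Q := sm gb N3169
/-- A coset. -/ def N4586 : Q := sm gb N3171
/-- A coset. -/ def N4587 : Q := sm gb N3172
/-- A coset. -/ def N4588 : Q := sm gf N3174
/-- A coset. -/ def N4589 : Q := sm gg N3174
/-- A coset. -/ def N4590 : Q := sm gb N3175
/-- A coset. -/ def N4591 : Q := sm gg N3175
/-- A coset. -/ def N4592 : Q := sm gb N3176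
/-- A coset. -/ def N4594 : Q := sm ga N3177
/-- A coset. -/ def N4595 : Q := sm gc N3177
/-- A coset. -/ def N4596 : Q := sm gg N3177
/-- A coset. -/ def N4597 : Q := sm gb N3178
/-- A coset. -/ def N4598 : Q := sm ga N3179
/-- A coset. -/ def N4599 : Q := sm gc N3179
/-- A coset. -/ def N4600 : Q := sm gf N3179
/-- A coset. -/ def N4601 : Q := sm gb N3180
/-- A coset. -/ def N4602 : Q := sm gb N3181
/-- A coset. -/ def N4603 : Q := sm gb N3182
/-- A coset. -/ def N4604 : Q := sm ga N3183
/-- A coset. -/ def N4605 : Q := sm gc N3183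
/-- A coset. -/ def N4606 : Q := sm gg N3183
/-- A coset. -/ def N4607 : Q := sm ga N3184
/-- A coset. -/ def N4609 : Q := sm gf N3184
/-- A coset. -/ def N4610 : Q := sm gb N3185
/-- A coset. -/ def N4611 : Q := sm gc N3185
/-- A coset. -/ def N4612 : Q := sm gg N3185
/-- A coset. -/ def N4613 : Q := sm gd N3186
/-- A coset. -/ def N4614 : Q := sm gg N3186
/-- A coset. -/ def N4616 : Q := sm gb N3188
/-- A coset. -/ def N4617 : Q := sm gc N3188
/-- A coset. -/ def N4618 : Q := sm gf N3188
/-- A coset. -/ def N4619 : Q := sm gd N3189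
/-- A coset. -/ def N4620 : Q := sm gf N3189
/-- A coset. -/ def N4622 : Q := sm gb N3191
/-- A coset. -/ def N4623 : Q := sm gg N3191
/-- A coset. -/ def N4624 : Q := sm gb N3192
/-- A coset. -/ def N4627 : Q := sm gg N3193
/-- A coset. -/ def N4628 : Q := sm gb N3194
/-- A coset. -/ def N4629 : Q := sm gf N3194
/-- A coset. -/ def N4632 : Q := sm gg N3195
/-- A coset. -/ def N4633 : Q := sm gb N3196
/-- A coset. -/ def N4634 : Q := sm ga N3197
/-- A coset. -/ def N4635 : Q := sm gc N3197
/-- A coset. -/ def N4636 : Q := sm gf N3197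
/-- A coset. -/ def N4637 : Q := sm gb N3198
/-- A coset. -/ def N4638 : Q := sm ga N3199
/-- A coset. -/ def N4639 : Q := sm gc N3199
/-- A coset. -/ def N4640 : Q := sm gg N3199
/-- A coset. -/ def N4641 : Q := sm gb N3200
/-- A coset. -/ def N4642 : Q := sm ga N3201
/-- A coset. -/ def N4643 : Q := sm gc N3201
/-- A coset. -/ def N4644 : Q := sm gf N3201
/-- A coset. -/ def N4645 : Q := sm gb N3202
/-- A coset. -/ def N4646 : Q := sm gb N3203
/-- A coset. -/ def N4647 : Q := sm gc N3203
/-- A coset. -/ def N4648 : Q := sm gd N3204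
/-- A coset. -/ def N4649 : Q := sm gg N3204
/-- A coset. -/ def N4650 : Q := sm gb N3205
/-- A coset. -/ def N4651 : Q := sm ga N3206
/-- A coset. -/ def N4652 : Q := sm gc N3206
/-- A coset. -/ def N4653 : Q := sm gf N3206
/-- A coset. -/ def N4654 : Q := sm gb N3207
/-- A coset. -/ def N4658 : Q := sm gb N3209
/-- A coset. -/ def N4659 : Q := sm ga N3210
/-- A coset. -/ def N4660 : Q := sm gc N3210
/-- A coset. -/ def N4662 : Q := sm ga N3211
/-- A coset. -/ def N4663 : Q := sm gc N3211
/-- A coset. -/ def N4664 : Q := sm gf N3211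
/-- A coset. -/ def N4665 : Q := sm gg N3211
/-- A coset. -/ def N4666 : Q := sm ga N3212
/-- A coset. -/ def N4667 : Q := sm gc N3212
/-- A coset. -/ def N4669 : Q := sm gb N3213
/-- A coset. -/ def N4670 : Q := sm gc N3213
/-- A coset. -/ def N4672 : Q := sm gd N3214
/-- A coset. -/ def N4673 : Q := sm gf N3214
/-- A coset. -/ def N4674 : Q := sm gg N3215
/-- A coset. -/ def N4675 : Q := sm ga N3216
/-- A coset. -/ def N4676 : Q := sm gc N3216
/-- A coset. -/ def N4677 : Q := sm gf N3216
/-- A coset. -/ def N4679 : Q := sm ga N3217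
/-- A coset. -/ def N4680 : Q := sm gc N3217
/-- A coset. -/ def N4681 : Q := sm gg N3217
/-- A coset. -/ def N4682 : Q := sm gb N3218
/-- A coset. -/ def N4683 : Q := sm gc N3218
/-- A coset. -/ def N4684 : Q := sm gg N3218
/-- A coset. -/ def N4685 : Q := sm gd N3219
/-- A coset. -/ def N4686 : Q := sm gg N3219
/-- A coset. -/ def N4687 : Q := sm gf N3220
/-- A coset. -/ def N4688 : Q := sm gb N3221
/-- A coset. -/ def N4689 : Q := sm gb N3222
/-- A coset. -/ def N4690 : Q := sm gc N3223
/-- A coset. -/ def N4691 : Q := sm gf N3223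
/-- A coset. -/ def N4692 : Q := sm gg N3223
/-- A coset. -/ def N4693 : Q := sm gb N3224
/-- A coset. -/ def N4694 : Q := sm gb N3225
/-- A coset. -/ def N4695 : Q := sm ga N3226
/-- A coset. -/ def N4696 : Q := sm gc N3226
/-- A coset. -/ def N4699 : Q := sm ga N3228
/-- A coset. -/ def N4700 : Q := sm gc N3228
/-- A coset. -/ def N4701 : Q := sm gf N3228
/-- A coset. -/ def N4702 : Q := sm gb N3229
/-- A coset. -/ def N4703 : Q := sm gb N3230
/-- A coset. -/ def N4704 : Q := sm gb N3231
/-- A coset. -/ def N4705 : Q := sm ga N3232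
/-- A coset. -/ def N4706 : Q := sm gc N3232
/-- A coset. -/ def N4708 : Q := sm ga N3233
/-- A coset. -/ def N4709 : Q := sm gc N3233
/-- A coset. -/ def N4710 : Q := sm gf N3233
/-- A coset. -/ def N4711 : Q := sm gb N3234
/-- A coset. -/ def N4712 : Q := sm gc N3234
/-- A coset. -/ def N4714 : Q := sm gd N3235
/-- A coset. -/ def N4715 : Q := sm gg N3235
/-- A coset. -/ def N4716 : Q := sm gf N3236
/-- A coset. -/ def N4719 : Q := sm gf N3237
/-- A coset. -/ def N4721 : Q := sm gf N3238
/-- A coset. -/ def N4723 : Q := sm gb N3240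
/-- A coset. -/ def N4724 : Q := sm gc N3240
/-- A coset. -/ def N4725 : Q := sm gg N3240
/-- A coset. -/ def N4726 : Q := sm gd N3241
/-- A coset. -/ def N4727 : Q := sm gg N3241
/-- A coset. -/ def N4728 : Q := sm gb N3242
/-- A coset. -/ def N4729 : Q := sm gf N3242
/-- A coset. -/ def N4730 : Q := sm ga N3243
/-- A coset. -/ def N4731 : Q := sm gc N3243
/-- A coset. -/ def N4732 : Q := sm gf N3243
/-- A coset. -/ def N4733 : Q := sm gb N3244
/-- A coset. -/ def N4735 : Q := sm gf N3244
/-- A coset. -/ def N4737 : Q := sm gf N3245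
/-- A coset. -/ def N4738 : Q := sm gb N3246
/-- A coset. -/ def N4739 : Q := sm gg N3246
/-- A coset. -/ def N4740 : Q := sm ga N3247
/-- A coset. -/ def N4741 : Q := sm gc N3247
/-- A coset. -/ def N4742 : Q := sm gg N3247
/-- A coset. -/ def N4743 : Q := sm ga N3248
/-- A coset. -/ def N4744 : Q := sm gc N3248
/-- A coset. -/ def N4745 : Q := sm gf N3248
/-- A coset. -/ def N4746 : Q := sm gg N3248
/-- A coset. -/ def N4747 : Q := sm gb N3249
/-- A coset. -/ def N4748 : Q := sm gd N3249
/-- A coset. -/ def N4749 : Q := sm gg N3249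
/-- A coset. -/ def N4750 : Q := sm gb N3250
/-- A coset. -/ def N4751 : Q := sm gc N3251
/-- A coset. -/ def N4752 : Q := sm ge N3251
/-- A coset. -/ def N4753 : Q := sm gg N3251
/-- A coset. -/ def N4754 : Q := sm gb N3252
/-- A coset. -/ def N4755 : Q := sm gf N3252
/-- A coset. -/ def N4756 : Q := sm ga N3253
/-- A coset. -/ def N4757 : Q := sm gc N3253
/-- A coset. -/ def N4758 : Q := sm gf N3253
/-- A coset. -/ def N4759 : Q := sm gb N3254
/-- A coset. -/ def N4761 : Q := sm gc N3255
/-- A coset. -/ def N4762 : Q := sm gf N3255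
/-- A coset. -/ def N4763 : Q := sm gd N3256
/-- A coset. -/ def N4764 : Q := sm gf N3256
/-- A coset. -/ def N4765 : Q := sm gg N3257
/-- A coset. -/ def N4769 : Q := sm gg N3258
/-- A coset. -/ def N4776 : Q := sm gb N3262
/-- A coset. -/ def N4778 : Q := sm ga N3263
/-- A coset. -/ def N4779 : Q := sm gc N3263
/-- A coset. -/ def N4780 : Q := sm gg N3263
/-- A coset. -/ def N4783 : Q := sm gc N3265
/-- A coset. -/ def N4784 : Q := sm gg N3265
/-- A coset. -/ def N4785 : Q := sm gd N3266
/-- A coset. -/ def N4787 : Q := sm gf N3267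
/-- A coset. -/ def N4788 : Q := sm gc N3268
/-- A coset. -/ def N4789 : Q := sm gf N3268
/-- A coset. -/ def N4790 : Q := sm gg N3268
/-- A coset. -/ def N4792 : Q := sm gf N3269
/-- A coset. -/ def N4794 : Q := sm gg N3270
/-- A coset. -/ def N4795 : Q := sm gb N3271
/-- A coset. -/ def N4796 : Q := sm gf N3271
/-- A coset. -/ def N4797 : Q := sm ga N3272
/-- A coset. -/ def N4798 : Q := sm gc N3272
/-- A coset. -/ def N4799 : Q := sm gf N3272
/-- A coset. -/ def N4800 : Q := sm gb N3273
/-- A coset. -/ def N4801 : Q := sm gc N3273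
/-- A coset. -/ def N4802 : Q := sm gd N3274
/-- A coset. -/ def N4803 : Q := sm gf N3274
/-- A coset. -/ def N4804 : Q := sm gb N3275
/-- A coset. -/ def N4805 : Q := sm ga N3276
/-- A coset. -/ def N4807 : Q := sm gg N3276
/-- A coset. -/ def N4808 : Q := sm ga N3277
/-- A coset. -/ def N4809 : Q := sm gc N3277
/-- A coset. -/ def N4810 : Q := sm gf N3277
/-- A coset. -/ def N4811 : Q := sm gg N3277
/-- A coset. -/ def N4812 : Q := sm gb N3278
/-- A coset. -/ def N4813 : Q := sm gd N3278
/-- A coset. -/ def N4814 : Q := sm gf N3278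
/-- A coset. -/ def N4815 : Q := sm gb N3279
/-- A coset. -/ def N4816 : Q := sm gc N3280
/-- A coset. -/ def N4817 : Q := sm ge N3280
/-- A coset. -/ def N4818 : Q := sm gf N3280
/-- A coset. -/ def N4819 : Q := sm gb N3281
/-- A coset. -/ def N4820 : Q := sm gg N3281
/-- A coset. -/ def N4822 : Q := sm gc N3283
/-- A coset. -/ def N4823 : Q := sm gf N3283
/-- A coset. -/ def N4824 : Q := sm gg N3283
/-- A coset. -/ def N4826 : Q := sm gf N3284
/-- A coset. -/ def N4827 : Q := sm gg N3284
/-- A coset. -/ def N4828 : Q := sm gb N3285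
/-- A coset. -/ def N4829 : Q := sm gg N3285
/-- A coset. -/ def N4830 : Q := sm gf N3286
/-- A coset. -/ def N4831 : Q := sm ga N3287
/-- A coset. -/ def N4833 : Q := sm gg N3287
/-- A coset. -/ def N4834 : Q := sm gb N3288
/-- A coset. -/ def N4835 : Q := sm gc N3288
/-- A coset. -/ def N4836 : Q := sm gd N3289
/-- A coset. -/ def N4837 : Q := sm gg N3289
/-- A coset. -/ def N4838 : Q := sm gb N3290
/-- A coset. -/ def N4839 : Q := sm ga N3291
/-- A coset. -/ def N4840 : Q := sm gc N3291
/-- A coset. -/ def N4841 : Q := sm gf N3291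
/-- A coset. -/ def N4842 : Q := sm ga N3292
/-- A coset. -/ def N4843 : Q := sm gc N3292
/-- A coset. -/ def N4844 : Q := sm gf N3292
/-- A coset. -/ def N4845 : Q := sm gg N3292
/-- A coset. -/ def N4846 : Q := sm gb N3293
/-- A coset. -/ def N4847 : Q := sm gd N3293
/-- A coset. -/ def N4848 : Q := sm gg N3293
/-- A coset. -/ def N4849 : Q := sm gb N3294
/-- A coset. -/ def N4851 : Q := sm ge N3295
/-- A coset. -/ def N4852 : Q := sm gg N3295
/-- A coset. -/ def N4853 : Q := sm gb N3296
/-- A coset. -/ def N4854 : Q := sm gf N3296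
/-- A coset. -/ def N4855 : Q := sm gb N3297
/-- A coset. -/ def N4856 : Q := sm ga N3298
/-- A coset. -/ def N4857 : Q := sm gd N3298
/-- A coset. -/ def N4858 : Q := sm gf N3298
/-- A coset. -/ def N4859 : Q := sm gg N3298
/-- A coset. -/ def N4860 : Q := sm ge N3299
/-- A coset. -/ def N4861 : Q := sm gf N3300
/-- A coset. -/ def N4862 : Q := sm gb N3301
/-- A coset. -/ def N4863 : Q := sm ga N3302
/-- A coset. -/ def N4864 : Q := sm gg N3302
/-- A coset. -/ def N4865 : Q := sm gg N3303
/-- A coset. -/ def N4866 : Q := sm gb N3304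
/-- A coset. -/ def N4867 : Q := sm ga N3305
/-- A coset. -/ def N4872 : Q := sm gg N3306
/-- A coset. -/ def N4873 : Q := sm gd N3307
/-- A coset. -/ def N4876 : Q := sm gd N3310
/-- A coset. -/ def N4878 : Q := sm gc N3312
/-- A coset. -/ def N4880 : Q := sm ga N3314
/-- A coset. -/ def N4881 : Q := sm gc N3314
/-- A coset. -/ def N4882 : Q := sm gg N3314
/-- A coset. -/ def N4883 : Q := sm gb N3315
/-- A coset. -/ def N4884 : Q := sm ga N3316
/-- A coset. -/ def N4885 : Q := sm gc N3316
/-- A coset. -/ def N4886 : Q := sm gf N3316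
/-- A coset. -/ def N4888 : Q := sm gc N3318
/-- A coset. -/ def N4889 : Q := sm gd N3319
/-- A coset. -/ def N4890 : Q := sm gg N3319
/-- A coset. -/ def N4892 : Q := sm gc N3322
/-- A coset. -/ def N4893 : Q := sm gd N3323
/-- A coset. -/ def N4894 : Q := sm gf N3323
/-- A coset. -/ def N4895 : Q := sm gc N3325
/-- A coset. -/ def N4896 : Q := sm gc N3326
/-- A coset. -/ def N4897 : Q := sm gb N3327
/-- A coset. -/ def N4898 : Q := sm gd N3327
/-- A coset. -/ def N4899 : Q := sm gg N3327
/-- A coset. -/ def N4901 : Q := sm ge N3329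
/-- A coset. -/ def N4902 : Q := sm gg N3329
/-- A coset. -/ def N4903 : Q := sm gb N3330
/-- A coset. -/ def N4904 : Q := sm gc N3332
/-- A coset. -/ def N4905 : Q := sm gb N3333
/-- A coset. -/ def N4906 : Q := sm gd N3333
/-- A coset. -/ def N4907 : Q := sm gf N3333
/-- A coset. -/ def N4908 : Q := sm gc N3335
/-- A coset. -/ def N4909 : Q := sm ge N3335
/-- A coset. -/ def N4910 : Q := sm gf N3335
/-- A coset. -/ def N4911 : Q := sm gb N3336
/-- A coset. -/ def N4912 : Q := sm gg N3336
/-- A coset. -/ def N4913 : Q := sm gb N3339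
/-- A coset. -/ def N4914 : Q := sm gd N3339
/-- A coset. -/ def N4915 : Q := sm gf N3339
/-- A coset. -/ def N4916 : Q := sm gc N3341
/-- A coset. -/ def N4917 : Q := sm ge N3341
/-- A coset. -/ def N4918 : Q := sm gf N3341
/-- A coset. -/ def N4919 : Q := sm gb N3342
/-- A coset. -/ def N4920 : Q := sm gg N3342
/-- A coset. -/ def N4922 : Q := sm gb N3345
/-- A coset. -/ def N4926 : Q := sm ge N3347
/-- A coset. -/ def N4927 : Q := sm gg N3347
/-- A coset. -/ def N4929 : Q := sm gc N3349
/-- A coset. -/ def N4930 : Q := sm ge N3349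
/-- A coset. -/ def N4931 : Q := sm gf N3349
/-- A coset. -/ def N4932 : Q := sm gg N3349
/-- A coset. -/ def N4934 : Q := sm gb N3351
/-- A coset. -/ def N4935 : Q := sm gc N3352
/-- A coset. -/ def N4936 : Q := sm gf N3352
/-- A coset. -/ def N4938 : Q := sm gb N3353
/-- A coset. -/ def N4939 : Q := sm gb N3354
/-- A coset. -/ def N4940 : Q := sm gd N3355
/-- A coset. -/ def N4941 : Q := sm gf N3355
/-- A coset. -/ def N4942 : Q := sm gg N3355
/-- A coset. -/ def N4943 : Q := sm gf N3356
/-- A coset. -/ def N4944 : Q := sm gg N3356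
/-- A coset. -/ def N4945 : Q := sm gb N3357
/-- A coset. -/ def N4946 : Q := sm gg N3357
/-- A coset. -/ def N4947 : Q := sm gb N3358
/-- A coset. -/ def N4949 : Q := sm ga N3359
/-- A coset. -/ def N4950 : Q := sm gc N3359
/-- A coset. -/ def N4951 : Q := sm gg N3359
/-- A coset. -/ def N4952 : Q := sm gb N3360
/-- A coset. -/ def N4953 : Q := sm ga N3361
/-- A coset. -/ def N4954 : Q := sm gc N3361
/-- A coset. -/ def N4955 : Q := sm gf N3361
/-- A coset. -/ def N4956 : Q := sm gb N3362
/-- A coset. -/ def N4957 : Q := sm gf N3363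
/-- A coset. -/ def N4958 : Q := sm gg N3363
/-- A coset. -/ def N4959 : Q := sm gb N3364
/-- A coset. -/ def N4960 : Q := sm gb N3365
/-- A coset. -/ def N4961 : Q := sm gb N3366
/-- A coset. -/ def N4962 : Q := sm gb N3367
/-- A coset. -/ def N4963 : Q := sm ga N3368
/-- A coset. -/ def N4964 : Q := sm gc N3368
/-- A coset. -/ def N4965 : Q := sm gg N3368
/-- A coset. -/ def N4966 : Q := sm ga N3369
/-- A coset. -/ def N4967 : Q := sm gc N3369
/-- A coset. -/ def N4968 : Q := sm gf N3369
/-- A coset. -/ def N4969 : Q := sm gb N3370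
/-- A coset. -/ def N4970 : Q := sm gc N3370
/-- A coset. -/ def N4971 : Q := sm gg N3370
/-- A coset. -/ def N4973 : Q := sm gg N3371
/-- A coset. -/ def N4974 : Q := sm gf N3372
/-- A coset. -/ def N4975 : Q := sm gb N3373
/-- A coset. -/ def N4976 : Q := sm gc N3373
/-- A coset. -/ def N4977 : Q := sm gf N3373
/-- A coset. -/ def N4978 : Q := sm gd N3374
/-- A coset. -/ def N4979 : Q := sm gf N3374
/-- A coset. -/ def N4980 : Q := sm gg N3375
/-- A coset. -/ def N4982 : Q := sm gg N3376
/-- A coset. -/ def N4983 : Q := sm gb N3377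
/-- A coset. -/ def N4984 : Q := sm gg N3377
/-- A coset. -/ def N4985 : Q := sm gb N3378
/-- A coset. -/ def N4987 : Q := sm gb N3379
/-- A coset. -/ def N4988 : Q := sm gg N3379
/-- A coset. -/ def N4989 : Q := sm gb N3380
/-- A coset. -/ def N4990 : Q := sm gf N3380
/-- A coset. -/ def N4991 : Q := sm ga N3381
/-- A coset. -/ def N4992 : Q := sm gc N3381
/-- A coset. -/ def N4994 : Q := sm gb N3382
/-- A coset. -/ def N4995 : Q := sm ga N3383
/-- A coset. -/ def N4996 : Q := sm gc N3383
/-- A coset. -/ def N4997 : Q := sm gf N3383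
/-- A coset. -/ def N4998 : Q := sm gb N3384
/-- A coset. -/ def N4999 : Q := sm ga N3385
/-- A coset. -/ def N5000 : Q := sm gc N3385
/-- A coset. -/ def N5002 : Q := sm gb N3386
/-- A coset. -/ def N5003 : Q := sm ga N3387
/-- A coset. -/ def N5004 : Q := sm gc N3387
/-- A coset. -/ def N5005 : Q := sm gf N3387
/-- A coset. -/ def N5006 : Q := sm gb N3388
/-- A coset. -/ def N5007 : Q := sm gb N3389
/-- A coset. -/ def N5008 : Q := sm gc N3389
/-- A coset. -/ def N5009 : Q := sm gd N3390
/-- A coset. -/ def N5010 : Q := sm gg N3390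
/-- A coset. -/ def N5011 : Q := sm gb N3391
/-- A coset. -/ def N5012 : Q := sm ga N3392
/-- A coset. -/ def N5014 : Q := sm gf N3392
/-- A coset. -/ def N5015 : Q := sm gb N3393
/-- A coset. -/ def N5016 : Q := sm gc N3393
/-- A coset. -/ def N5017 : Q := sm gd N3394
/-- A coset. -/ def N5020 : Q := sm ga N3396
/-- A coset. -/ def N5023 : Q := sm ga N3397
/-- A coset. -/ def N5024 : Q := sm gc N3397
/-- A coset. -/ def N5025 : Q := sm gf N3397
/-- A coset. -/ def N5026 : Q := sm gg N3397
/-- A coset. -/ def N5027 : Q := sm gb N3398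
/-- A coset. -/ def N5028 : Q := sm gd N3398
/-- A coset. -/ def N5029 : Q := sm gc N3399
/-- A coset. -/ def N5030 : Q := sm ge N3399
/-- A coset. -/ def N5031 : Q := sm gg N3399
/-- A coset. -/ def N5033 : Q := sm ga N3401
/-- A coset. -/ def N5034 : Q := sm gc N3401
/-- A coset. -/ def N5035 : Q := sm gf N3401
/-- A coset. -/ def N5036 : Q := sm gb N3402
/-- A coset. -/ def N5037 : Q := sm gc N3402
/-- A coset. -/ def N5038 : Q := sm gf N3402
/-- A coset. -/ def N5039 : Q := sm gd N3403
/-- A coset. -/ def N5040 : Q := sm gf N3403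
/-- A coset. -/ def N5041 : Q := sm gg N3404
/-- A coset. -/ def N5042 : Q := sm ga N3405
/-- A coset. -/ def N5043 : Q := sm gc N3405
/-- A coset. -/ def N5044 : Q := sm gf N3405
/-- A coset. -/ def N5045 : Q := sm gg N3405
/-- A coset. -/ def N5046 : Q := sm ga N3406
/-- A coset. -/ def N5047 : Q := sm gc N3406
/-- A coset. -/ def N5048 : Q := sm gg N3406
/-- A coset. -/ def N5049 : Q := sm gb N3407
/-- A coset. -/ def N5050 : Q := sm gc N3407
/-- A coset. -/ def N5051 : Q := sm gg N3407
/-- A coset. -/ def N5052 : Q := sm gd N3408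
/-- A coset. -/ def N5053 : Q := sm gg N3408
/-- A coset. -/ def N5054 : Q := sm gf N3409
/-- A coset. -/ def N5055 : Q := sm gb N3410
/-- A coset. -/ def N5056 : Q := sm gc N3410
/-- A coset. -/ def N5057 : Q := sm gg N3410
/-- A coset. -/ def N5058 : Q := sm gd N3411
/-- A coset. -/ def N5059 : Q := sm gg N3411
/-- A coset. -/ def N5061 : Q := sm gb N3413
/-- A coset. -/ def N5062 : Q := sm gc N3413
/-- A coset. -/ def N5063 : Q := sm gf N3413
/-- A coset. -/ def N5066 : Q := sm gg N3415
/-- A coset. -/ def N5067 : Q := sm ga N3416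
/-- A coset. -/ def N5068 : Q := sm gc N3416
/-- A coset. -/ def N5069 : Q := sm gf N3416
/-- A coset. -/ def N5070 : Q := sm gg N3416
/-- A coset. -/ def N5071 : Q := sm gb N3417
/-- A coset. -/ def N5072 : Q := sm gd N3417
/-- A coset. -/ def N5073 : Q := sm gg N3417
/-- A coset. -/ def N5074 : Q := sm gb N3418
/-- A coset. -/ def N5075 : Q := sm gc N3419
/-- A coset. -/ def N5076 : Q := sm ge N3419
/-- A coset. -/ def N5077 : Q := sm gg N3419
/-- A coset. -/ def N5079 : Q := sm gf N3420
/-- A coset. -/ def N5080 : Q := sm gb N3421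
/-- A coset. -/ def N5081 : Q := sm ga N3422
/-- A coset. -/ def N5083 : Q := sm gf N3422
/-- A coset. -/ def N5084 : Q := sm gg N3422
/-- A coset. -/ def N5085 : Q := sm gb N3423
/-- A coset. -/ def N5086 : Q := sm gd N3423
/-- A coset. -/ def N5088 : Q := sm gb N3424
/-- A coset. -/ def N5089 : Q := sm gc N3425
/-- A coset. -/ def N5091 : Q := sm gf N3425
/-- A coset. -/ def N5092 : Q := sm gb N3426
/-- A coset. -/ def N5095 : Q := sm gc N3428
/-- A coset. -/ def N5096 : Q := sm gf N3428
/-- A coset. -/ def N5097 : Q := sm gg N3428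
/-- A coset. -/ def N5098 : Q := sm gb N3429
/-- A coset. -/ def N5099 : Q := sm gd N3429
/-- A coset. -/ def N5100 : Q := sm gf N3429
/-- A coset. -/ def N5101 : Q := sm gg N3429
/-- A coset. -/ def N5102 : Q := sm gg N3430
/-- A coset. -/ def N5103 : Q := sm gb N3431
/-- A coset. -/ def N5104 : Q := sm gf N3431
/-- A coset. -/ def N5105 : Q := sm ga N3432
/-- A coset. -/ def N5106 : Q := sm gd N3432
/-- A coset. -/ def N5107 : Q := sm gf N3432
/-- A coset. -/ def N5108 : Q := sm gg N3432
/-- A coset. -/ def N5109 : Q := sm gc N3433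
/-- A coset. -/ def N5111 : Q := sm gg N3433
/-- A coset. -/ def N5112 : Q := sm gb N3434
/-- A coset. -/ def N5113 : Q := sm ga N3435
/-- A coset. -/ def N5115 : Q := sm gf N3435
/-- A coset. -/ def N5116 : Q := sm gb N3436
/-- A coset. -/ def N5117 : Q := sm gd N3436
/-- A coset. -/ def N5118 : Q := sm ge N3436
/-- A coset. -/ def N5119 : Q := sm gg N3436
/-- A coset. -/ def N5120 : Q := sm gg N3437
/-- A coset. -/ def N5121 : Q := sm gb N3438
/-- A coset. -/ def N5122 : Q := sm gf N3438
/-- A coset. -/ def N5123 : Q := sm ga N3439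
/-- A coset. -/ def N5125 : Q := sm gb N3440
/-- A coset. -/ def N5126 : Q := sm ga N3441
/-- A coset. -/ def N5128 : Q := sm gg N3441
/-- A coset. -/ def N5129 : Q := sm gc N3442
/-- A coset. -/ def N5130 : Q := sm gf N3442
/-- A coset. -/ def N5131 : Q := sm gg N3442
/-- A coset. -/ def N5133 : Q := sm gf N3443
/-- A coset. -/ def N5134 : Q := sm gg N3443
/-- A coset. -/ def N5135 : Q := sm gb N3444
/-- A coset. -/ def N5136 : Q := sm gg N3444
/-- A coset. -/ def N5137 : Q := sm gf N3445
/-- A coset. -/ def N5138 : Q := sm ga N3446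
/-- A coset. -/ def N5139 : Q := sm gc N3446
/-- A coset. -/ def N5140 : Q := sm gg N3446
/-- A coset. -/ def N5141 : Q := sm ga N3447
/-- A coset. -/ def N5143 : Q := sm gf N3447
/-- A coset. -/ def N5144 : Q := sm ga N3448
/-- A coset. -/ def N5145 : Q := sm gd N3448
/-- A coset. -/ def N5146 : Q := sm gf N3448
/-- A coset. -/ def N5147 : Q := sm gg N3448
/-- A coset. -/ def N5148 : Q := sm ge N3449
/-- A coset. -/ def N5149 : Q := sm gb N3450
/-- A coset. -/ def N5150 : Q := sm gd N3450
/-- A coset. -/ def N5151 : Q := sm gf N3450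
/-- A coset. -/ def N5152 : Q := sm gg N3450
/-- A coset. -/ def N5154 : Q := sm ge N3451
/-- A coset. -/ def N5155 : Q := sm gf N3451
/-- A coset. -/ def N5156 : Q := sm gg N3451
/-- A coset. -/ def N5157 : Q := sm gg N3452
/-- A coset. -/ def N5158 : Q := sm gf N3453
/-- A coset. -/ def N5164 : Q := sm gg N3456
/-- A coset. -/ def N5165 : Q := sm gb N3457
/-- A coset. -/ def N5166 : Q := sm gb N3458
/-- A coset. -/ def N5167 : Q := sm ga N3459
/-- A coset. -/ def N5170 : Q := sm gb N3460
/-- A coset. -/ def N5171 : Q := sm gf N3460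
/-- A coset. -/ def N5172 : Q := sm gg N3461
/-- A coset. -/ def N5176 : Q := sm gg N3462
/-- A coset. -/ def N5191 : Q := sm gb N3468
/-- A coset. -/ def N5195 : Q := sm gb N3470
/-- A coset. -/ def N5197 : Q := sm gg N3471
/-- A coset. -/ def N5199 : Q := sm ga N3473
/-- A coset. -/ def N5200 : Q := sm gc N3473
/-- A coset. -/ def N5201 : Q := sm gf N3473
/-- A coset. -/ def N5202 : Q := sm gc N3474
/-- A coset. -/ def N5203 : Q := sm gd N3475
/-- A coset. -/ def N5204 : Q := sm gf N3476
/-- A coset. -/ def N5206 : Q := sm gb N3477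
/-- A coset. -/ def N5208 : Q := sm gb N3479
/-- A coset. -/ def N5209 : Q := sm gd N3479
/-- A coset. -/ def N5210 : Q := sm gf N3479
/-- A coset. -/ def N5211 : Q := sm gg N3479
/-- A coset. -/ def N5212 : Q := sm gf N3480
/-- A coset. -/ def N5213 : Q := sm gg N3480
/-- A coset. -/ def N5214 : Q := sm gb N3481
/-- A coset. -/ def N5215 : Q := sm gb N3482
/-- A coset. -/ def N5216 : Q := sm ga N3483
/-- A coset. -/ def N5217 : Q := sm gc N3483
/-- A coset. -/ def N5218 : Q := sm gg N3483
/-- A coset. -/ def N5219 : Q := sm ga N3484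
/-- A coset. -/ def N5220 : Q := sm gc N3484
/-- A coset. -/ def N5221 : Q := sm gf N3484
/-- A coset. -/ def N5224 : Q := sm gb N3486
/-- A coset. -/ def N5225 : Q := sm gg N3486
/-- A coset. -/ def N5226 : Q := sm gb N3487
/-- A coset. -/ def N5228 : Q := sm ga N3488
/-- A coset. -/ def N5229 : Q := sm gc N3488
/-- A coset. -/ def N5230 : Q := sm gg N3488
/-- A coset. -/ def N5231 : Q := sm gb N3489
/-- A coset. -/ def N5232 : Q := sm ga N3490
/-- A coset. -/ def N5234 : Q := sm gf N3490
/-- A coset. -/ def N5235 : Q := sm gb N3491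
/-- A coset. -/ def N5236 : Q := sm gd N3492
/-- A coset. -/ def N5237 : Q := sm gf N3492
/-- A coset. -/ def N5238 : Q := sm gg N3492
/-- A coset. -/ def N5239 : Q := sm gf N3493
/-- A coset. -/ def N5240 : Q := sm gg N3493
/-- A coset. -/ def N5241 : Q := sm gb N3494
/-- A coset. -/ def N5242 : Q := sm gg N3494
/-- A coset. -/ def N5243 : Q := sm gb N3495
/-- A coset. -/ def N5244 : Q := sm gf N3495
/-- A coset. -/ def N5245 : Q := sm gb N3496
/-- A coset. -/ def N5246 : Q := sm gg N3496
/-- A coset. -/ def N5248 : Q := sm gf N3497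
/-- A coset. -/ def N5249 : Q := sm ga N3498
/-- A coset. -/ def N5250 : Q := sm gc N3498
/-- A coset. -/ def N5251 : Q := sm gg N3498
/-- A coset. -/ def N5253 : Q := sm ga N3500
/-- A coset. -/ def N5254 : Q := sm gc N3500
/-- A coset. -/ def N5255 : Q := sm gf N3500
/-- A coset. -/ def N5256 : Q := sm gb N3501
/-- A coset. -/ def N5257 : Q := sm gb N3502
/-- A coset. -/ def N5258 : Q := sm gc N3502
/-- A coset. -/ def N5259 : Q := sm gd N3503
/-- A coset. -/ def N5261 : Q := sm gb N3504
/-- A coset. -/ def N5263 : Q := sm gc N3505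
/-- A coset. -/ def N5264 : Q := sm gf N3505
/-- A coset. -/ def N5265 : Q := sm gb N3506
/-- A coset. -/ def N5266 : Q := sm gc N3506
/-- A coset. -/ def N5267 : Q := sm gd N3507
/-- A coset. -/ def N5268 : Q := sm gf N3507
/-- A coset. -/ def N5269 : Q := sm gb N3508
/-- A coset. -/ def N5272 : Q := sm gg N3509
/-- A coset. -/ def N5273 : Q := sm gf N3510
/-- A coset. -/ def N5274 : Q := sm gg N3510
/-- A coset. -/ def N5277 : Q := sm gb N3512
/-- A coset. -/ def N5278 : Q := sm gf N3512
/-- A coset. -/ def N5279 : Q := sm gb N3513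
/-- A coset. -/ def N5280 : Q := sm gb N3514
/-- A coset. -/ def N5282 : Q := sm gc N3515
/-- A coset. -/ def N5286 : Q := sm gf N3516
/-- A coset. -/ def N5287 : Q := sm ga N3517
/-- A coset. -/ def N5288 : Q := sm gc N3517
/-- A coset. -/ def N5290 : Q := sm ga N3518
/-- A coset. -/ def N5293 : Q := sm gb N3519
/-- A coset. -/ def N5294 : Q := sm gc N3519
/-- A coset. -/ def N5295 : Q := sm gg N3519
/-- A coset. -/ def N5296 : Q := sm gd N3520
/-- A coset. -/ def N5297 : Q := sm gg N3520
/-- A coset. -/ def N5299 : Q := sm gb N3522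
/-- A coset. -/ def N5300 : Q := sm gc N3522
/-- A coset. -/ def N5301 : Q := sm gf N3522
/-- A coset. -/ def N5302 : Q := sm gd N3523
/-- A coset. -/ def N5303 : Q := sm gf N3523
/-- A coset. -/ def N5304 : Q := sm gg N3524
/-- A coset. -/ def N5305 : Q := sm ga N3525
/-- A coset. -/ def N5306 : Q := sm gc N3525
/-- A coset. -/ def N5307 : Q := sm gf N3525
/-- A coset. -/ def N5308 : Q := sm gg N3525
/-- A coset. -/ def N5309 : Q := sm gb N3526
/-- A coset. -/ def N5310 : Q := sm gd N3526
/-- A coset. -/ def N5312 : Q := sm gb N3527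
/-- A coset. -/ def N5314 : Q := sm ge N3528
/-- A coset. -/ def N5315 : Q := sm gg N3528
/-- A coset. -/ def N5316 : Q := sm gb N3529
/-- A coset. -/ def N5318 : Q := sm gb N3530
/-- A coset. -/ def N5319 : Q := sm ga N3531
/-- A coset. -/ def N5320 : Q := sm gc N3531
/-- A coset. -/ def N5321 : Q := sm gf N3531
/-- A coset. -/ def N5322 : Q := sm gg N3531
/-- A coset. -/ def N5323 : Q := sm gb N3532
/-- A coset. -/ def N5324 : Q := sm gd N3532
/-- A coset. -/ def N5326 : Q := sm gb N3533
/-- A coset. -/ def N5327 : Q := sm gc N3534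
/-- A coset. -/ def N5328 : Q := sm ge N3534
/-- A coset. -/ def N5329 : Q := sm gf N3534
/-- A coset. -/ def N5330 : Q := sm gb N3535
/-- A coset. -/ def N5332 : Q := sm gb N3536
/-- A coset. -/ def N5333 : Q := sm gb N3537
/-- A coset. -/ def N5334 : Q := sm gb N3538
/-- A coset. -/ def N5335 : Q := sm ga N3539
/-- A coset. -/ def N5336 : Q := sm gc N3539
/-- A coset. -/ def N5337 : Q := sm gg N3539
/-- A coset. -/ def N5338 : Q := sm ga N3540
/-- A coset. -/ def N5340 : Q := sm gf N3540
/-- A coset. -/ def N5341 : Q := sm ga N3541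
/-- A coset. -/ def N5342 : Q := sm gc N3541
/-- A coset. -/ def N5343 : Q := sm gg N3541
/-- A coset. -/ def N5344 : Q := sm gb N3542
/-- A coset. -/ def N5345 : Q := sm ga N3543
/-- A coset. -/ def N5346 : Q := sm gc N3543
/-- A coset. -/ def N5347 : Q := sm gf N3543
/-- A coset. -/ def N5348 : Q := sm gb N3544
/-- A coset. -/ def N5349 : Q := sm gb N3545
/-- A coset. -/ def N5350 : Q := sm gc N3545
/-- A coset. -/ def N5352 : Q := sm gd N3546
/-- A coset. -/ def N5353 : Q := sm gg N3546
/-- A coset. -/ def N5354 : Q := sm gb N3547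
/-- A coset. -/ def N5356 : Q := sm ga N3548
/-- A coset. -/ def N5357 : Q := sm gc N3548
/-- A coset. -/ def N5358 : Q := sm gf N3548
/-- A coset. -/ def N5359 : Q := sm gb N3549
/-- A coset. -/ def N5360 : Q := sm gc N3549
/-- A coset. -/ def N5361 : Q := sm gf N3549
/-- A coset. -/ def N5362 : Q := sm gd N3550
/-- A coset. -/ def N5363 : Q := sm gf N3550
/-- A coset. -/ def N5366 : Q := sm ga N3552
/-- A coset. -/ def N5367 : Q := sm gc N3552
/-- A coset. -/ def N5368 : Q := sm gg N3552
/-- A coset. -/ def N5369 : Q := sm gb N3553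
/-- A coset. -/ def N5370 : Q := sm gc N3553
/-- A coset. -/ def N5371 : Q := sm gd N3554
/-- A coset. -/ def N5372 : Q := sm gg N3554
/-- A coset. -/ def N5373 : Q := sm gb N3555
/-- A coset. -/ def N5374 : Q := sm ga N3556
/-- A coset. -/ def N5375 : Q := sm gc N3556
/-- A coset. -/ def N5376 : Q := sm gf N3556
/-- A coset. -/ def N5377 : Q := sm gb N3557
/-- A coset. -/ def N5378 : Q := sm gc N3557
/-- A coset. -/ def N5380 : Q := sm gf N3558
/-- A coset. -/ def N5381 : Q := sm gb N3559
/-- A coset. -/ def N5382 : Q := sm ga N3560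
/-- A coset. -/ def N5388 : Q := sm gg N3561
/-- A coset. -/ def N5390 : Q := sm ge N3563
/-- A coset. -/ def N5393 : Q := sm ga N3565
/-- A coset. -/ def N5394 : Q := sm gc N3565
/-- A coset. -/ def N5395 : Q := sm gf N3565
/-- A coset. -/ def N5396 : Q := sm gb N3566
/-- A coset. -/ def N5397 : Q := sm gc N3566
/-- A coset. -/ def N5398 : Q := sm gf N3566
/-- A coset. -/ def N5399 : Q := sm gd N3567
/-- A coset. -/ def N5400 : Q := sm gf N3567
/-- A coset. -/ def N5401 : Q := sm gg N3568
/-- A coset. -/ def N5402 : Q := sm ga N3569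
/-- A coset. -/ def N5403 : Q := sm gc N3569
/-- A coset. -/ def N5404 : Q := sm gf N3569
/-- A coset. -/ def N5407 : Q := sm gd N3570
/-- A coset. -/ def N5408 : Q := sm ge N3571
/-- A coset. -/ def N5413 : Q := sm gg N3573
/-- A coset. -/ def N5414 : Q := sm gb N3574
/-- A coset. -/ def N5420 : Q := sm gc N3577
/-- A coset. -/ def N5421 : Q := sm gf N3577
/-- A coset. -/ def N5422 : Q := sm gg N3577
/-- A coset. -/ def N5423 : Q := sm gb N3578
/-- A coset. -/ def N5425 : Q := sm gf N3578
/-- A coset. -/ def N5426 : Q := sm gg N3578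
/-- A coset. -/ def N5427 : Q := sm gg N3579
/-- A coset. -/ def N5428 : Q := sm gf N3580
/-- A coset. -/ def N5429 : Q := sm ga N3581
/-- A coset. -/ def N5430 : Q := sm gf N3581
/-- A coset. -/ def N5431 : Q := sm gg N3581
/-- A coset. -/ def N5432 : Q := sm ga N3582
/-- A coset. -/ def N5433 : Q := sm gc N3582
/-- A coset. -/ def N5434 : Q := sm gf N3582
/-- A coset. -/ def N5435 : Q := sm gb N3583
/-- A coset. -/ def N5436 : Q := sm gc N3583
/-- A coset. -/ def N5437 : Q := sm gd N3584
/-- A coset. -/ def N5438 : Q := sm gf N3584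
/-- A coset. -/ def N5439 : Q := sm ga N3586
/-- A coset. -/ def N5440 : Q := sm gc N3586
/-- A coset. -/ def N5441 : Q := sm gg N3586
/-- A coset. -/ def N5442 : Q := sm gb N3587
/-- A coset. -/ def N5443 : Q := sm gd N3587
/-- A coset. -/ def N5444 : Q := sm gf N3587
/-- A coset. -/ def N5445 : Q := sm gc N3589
/-- A coset. -/ def N5446 : Q := sm ge N3589
/-- A coset. -/ def N5447 : Q := sm gf N3589
/-- A coset. -/ def N5448 : Q := sm gb N3590
/-- A coset. -/ def N5449 : Q := sm gg N3590
/-- A coset. -/ def N5450 : Q := sm gb N3591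
/-- A coset. -/ def N5451 : Q := sm gc N3592
/-- A coset. -/ def N5452 : Q := sm gf N3592
/-- A coset. -/ def N5453 : Q := sm gg N3592
/-- A coset. -/ def N5455 : Q := sm gf N3593
/-- A coset. -/ def N5457 : Q := sm gg N3594
/-- A coset. -/ def N5458 : Q := sm gf N3595
/-- A coset. -/ def N5459 : Q := sm gb N3596
/-- A coset. -/ def N5460 : Q := sm gc N3596
/-- A coset. -/ def N5461 : Q := sm gd N3597
/-- A coset. -/ def N5462 : Q := sm gg N3597
/-- A coset. -/ def N5463 : Q := sm ga N3599
/-- A coset. -/ def N5464 : Q := sm gc N3599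
/-- A coset. -/ def N5465 : Q := sm gf N3599
/-- A coset. -/ def N5466 : Q := sm gb N3600
/-- A coset. -/ def N5467 : Q := sm gd N3600
/-- A coset. -/ def N5468 : Q := sm gg N3600
/-- A coset. -/ def N5469 : Q := sm gc N3602
/-- A coset. -/ def N5471 : Q := sm gg N3602
/-- A coset. -/ def N5474 : Q := sm gb N3604
/-- A coset. -/ def N5475 : Q := sm ga N3605
/-- A coset. -/ def N5476 : Q := sm gc N3605
/-- A coset. -/ def N5477 : Q := sm gf N3605
/-- A coset. -/ def N5478 : Q := sm gg N3605
/-- A coset. -/ def N5479 : Q := sm gb N3606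
/-- A coset. -/ def N5480 : Q := sm gd N3606
/-- A coset. -/ def N5481 : Q := sm gg N3606
/-- A coset. -/ def N5482 : Q := sm gb N3607
/-- A coset. -/ def N5483 : Q := sm gc N3608
/-- A coset. -/ def N5484 : Q := sm ge N3608
/-- A coset. -/ def N5485 : Q := sm gg N3608
/-- A coset. -/ def N5488 : Q := sm ga N3610
/-- A coset. -/ def N5489 : Q := sm gc N3610
/-- A coset. -/ def N5490 : Q := sm gf N3610
/-- A coset. -/ def N5492 : Q := sm gb N3612
/-- A coset. -/ def N5493 : Q := sm gc N3612
/-- A coset. -/ def N5494 : Q := sm gf N3612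
/-- A coset. -/ def N5495 : Q := sm gd N3613
/-- A coset. -/ def N5496 : Q := sm gf N3613
/-- A coset. -/ def N5497 : Q := sm gg N3614
/-- A coset. -/ def N5500 : Q := sm gf N3615
/-- A coset. -/ def N5501 : Q := sm gg N3615
/-- A coset. -/ def N5503 : Q := sm gd N3616
/-- A coset. -/ def N5508 : Q := sm gf N3618
/-- A coset. -/ def N5509 : Q := sm gb N3619
/-- A coset. -/ def N5511 : Q := sm ga N3620
/-- A coset. -/ def N5512 : Q := sm gc N3620
/-- A coset. -/ def N5514 : Q := sm gb N3621
/-- A coset. -/ def N5515 : Q := sm gb N3622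
/-- A coset. -/ def N5516 : Q := sm gc N3622
/-- A coset. -/ def N5520 : Q := sm gf N3624
/-- A coset. -/ def N5521 : Q := sm gc N3625
/-- A coset. -/ def N5524 : Q := sm gb N3626
/-- A coset. -/ def N5525 : Q := sm gd N3626
/-- A coset. -/ def N5526 : Q := sm gf N3626
/-- A coset. -/ def N5527 : Q := sm gg N3626
/-- A coset. -/ def N5529 : Q := sm gb N3628
/-- A coset. -/ def N5530 : Q := sm gf N3628
/-- A coset. -/ def N5531 : Q := sm ga N3629
/-- A coset. -/ def N5532 : Q := sm gf N3629
/-- A coset. -/ def N5533 : Q := sm gg N3629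
/-- A coset. -/ def N5535 : Q := sm ga N3631
/-- A coset. -/ def N5537 : Q := sm gf N3631
/-- A coset. -/ def N5538 : Q := sm gg N3632
/-- A coset. -/ def N5540 : Q := sm gf N3633
/-- A coset. -/ def N5542 : Q := sm gc N3634
/-- A coset. -/ def N5545 : Q := sm gb N3636
/-- A coset. -/ def N5546 : Q := sm gc N3636
/-- A coset. -/ def N5547 : Q := sm gd N3637
/-- A coset. -/ def N5549 : Q := sm gb N3638
/-- A coset. -/ def N5552 : Q := sm gg N3639
/-- A coset. -/ def N5553 : Q := sm ga N3640
/-- A coset. -/ def N5554 : Q := sm gc N3640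
/-- A coset. -/ def N5555 : Q := sm gf N3640
/-- A coset. -/ def N5556 : Q := sm gg N3640
/-- A coset. -/ def N5557 : Q := sm gb N3641
/-- A coset. -/ def N5558 : Q := sm gd N3641
/-- A coset. -/ def N5559 : Q := sm gf N3641
/-- A coset. -/ def N5561 : Q := sm gc N3643
/-- A coset. -/ def N5562 : Q := sm ge N3643
/-- A coset. -/ def N5563 : Q := sm gf N3643
/-- A coset. -/ def N5564 : Q := sm gb N3644
/-- A coset. -/ def N5565 : Q := sm gg N3644
/-- A coset. -/ def N5567 : Q := sm gc N3646
/-- A coset. -/ def N5568 : Q := sm gf N3646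
/-- A coset. -/ def N5569 : Q := sm gg N3646
/-- A coset. -/ def N5570 : Q := sm gb N3647
/-- A coset. -/ def N5571 : Q := sm gd N3647
/-- A coset. -/ def N5572 : Q := sm gf N3647
/-- A coset. -/ def N5573 : Q := sm gg N3647
/-- A coset. -/ def N5575 : Q := sm gg N3648
/-- A coset. -/ def N5576 : Q := sm gf N3649
/-- A coset. -/ def N5577 : Q := sm ga N3650
/-- A coset. -/ def N5579 : Q := sm gf N3650
/-- A coset. -/ def N5580 : Q := sm gg N3650
/-- A coset. -/ def N5581 : Q := sm ge N3651
/-- A coset. -/ def N5583 : Q := sm gb N3652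
/-- A coset. -/ def N5586 : Q := sm gg N3653
/-- A coset. -/ def N5587 : Q := sm gf N3654
/-- A coset. -/ def N5589 : Q := sm gg N3655
/-- A coset. -/ def N5590 : Q := sm ga N3656
/-- A coset. -/ def N5591 : Q := sm gc N3656
/-- A coset. -/ def N5592 : Q := sm gg N3656
/-- A coset. -/ def N5594 : Q := sm gb N3658
/-- A coset. -/ def N5595 : Q := sm gc N3658
/-- A coset. -/ def N5596 : Q := sm gd N3659
/-- A coset. -/ def N5601 : Q := sm gf N3661
/-- A coset. -/ def N5603 : Q := sm gc N3662
/-- A coset. -/ def N5606 : Q := sm gb N3663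
/-- A coset. -/ def N5607 : Q := sm gd N3663
/-- A coset. -/ def N5610 : Q := sm gc N3665
/-- A coset. -/ def N5611 : Q := sm ge N3665
/-- A coset. -/ def N5612 : Q := sm gg N3665
/-- A coset. -/ def N5614 : Q := sm gf N3666
/-- A coset. -/ def N5615 : Q := sm gb N3667
/-- A coset. -/ def N5616 : Q := sm gb N3668
/-- A coset. -/ def N5618 : Q := sm gf N3668
/-- A coset. -/ def N5620 : Q := sm gb N3669
/-- A coset. -/ def N5621 : Q := sm gb N3670
/-- A coset. -/ def N5622 : Q := sm ga N3671
/-- A coset. -/ def N5624 : Q := sm gf N3671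
/-- A coset. -/ def N5625 : Q := sm gg N3671
/-- A coset. -/ def N5632 : Q := sm gb N3674
/-- A coset. -/ def N5633 : Q := sm gf N3674
/-- A coset. -/ def N5634 : Q := sm gb N3675
/-- A coset. -/ def N5635 : Q := sm ga N3676
/-- A coset. -/ def N5636 : Q := sm gc N3676
/-- A coset. -/ def N5637 : Q := sm gf N3676
/-- A coset. -/ def N5638 : Q := sm gb N3677
/-- A coset. -/ def N5639 : Q := sm gf N3678
/-- A coset. -/ def N5640 : Q := sm gg N3678
/-- A coset. -/ def N5641 : Q := sm gg N3679
/-- A coset. -/ def N5642 : Q := sm gb N3680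
/-- A coset. -/ def N5643 : Q := sm gf N3680
/-- A coset. -/ def N5644 : Q := sm ga N3681
/-- A coset. -/ def N5645 : Q := sm gc N3681
/-- A coset. -/ def N5646 : Q := sm gf N3681
/-- A coset. -/ def N5647 : Q := sm gb N3682
/-- A coset. -/ def N5648 : Q := sm gc N3682
/-- A coset. -/ def N5649 : Q := sm gf N3682
/-- A coset. -/ def N5651 : Q := sm gf N3683
/-- A coset. -/ def N5652 : Q := sm ga N3685
/-- A coset. -/ def N5655 : Q := sm ga N3686
/-- A coset. -/ def N5656 : Q := sm gc N3686
/-- A coset. -/ def N5657 : Q := sm gf N3686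
/-- A coset. -/ def N5658 : Q := sm gg N3686
/-- A coset. -/ def N5659 : Q := sm gb N3687
/-- A coset. -/ def N5660 : Q := sm gd N3687
/-- A coset. -/ def N5661 : Q := sm gc N3688
/-- A coset. -/ def N5662 : Q := sm ge N3688
/-- A coset. -/ def N5663 : Q := sm gf N3688
/-- A coset. -/ def N5664 : Q := sm gb N3689
/-- A coset. -/ def N5665 : Q := sm ga N3690
/-- A coset. -/ def N5666 : Q := sm gc N3690
/-- A coset. -/ def N5667 : Q := sm gg N3690
/-- A coset. -/ def N5668 : Q := sm gb N3691
/-- A coset. -/ def N5669 : Q := sm gc N3691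
/-- A coset. -/ def N5670 : Q := sm gg N3691
/-- A coset. -/ def N5673 : Q := sm gf N3693
/-- A coset. -/ def N5674 : Q := sm gc N3694
/-- A coset. -/ def N5675 : Q := sm gf N3694
/-- A coset. -/ def N5676 : Q := sm gg N3694
/-- A coset. -/ def N5677 : Q := sm gb N3695
/-- A coset. -/ def N5679 : Q := sm gf N3695
/-- A coset. -/ def N5680 : Q := sm gg N3695
/-- A coset. -/ def N5681 : Q := sm gb N3696
/-- A coset. -/ def N5682 : Q := sm gf N3697
/-- A coset. -/ def N5683 : Q := sm ga N3698
/-- A coset. -/ def N5684 : Q := sm gd N3698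
/-- A coset. -/ def N5685 : Q := sm gf N3698
/-- A coset. -/ def N5686 : Q := sm gg N3698
/-- A coset. -/ def N5687 : Q := sm gc N3699
/-- A coset. -/ def N5688 : Q := sm ge N3699
/-- A coset. -/ def N5689 : Q := sm gf N3699
/-- A coset. -/ def N5690 : Q := sm gb N3700
/-- A coset. -/ def N5692 : Q := sm gb N3702
/-- A coset. -/ def N5693 : Q := sm gd N3702
/-- A coset. -/ def N5694 : Q := sm ge N3702
/-- A coset. -/ def N5695 : Q := sm gf N3702
/-- A coset. -/ def N5696 : Q := sm gf N3703
/-- A coset. -/ def N5697 : Q := sm gb N3704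
/-- A coset. -/ def N5698 : Q := sm gg N3704
/-- A coset. -/ def N5699 : Q := sm ga N3705
/-- A coset. -/ def N5700 : Q := sm gg N3705
/-- A coset. -/ def N5701 : Q := sm gb N3706
/-- A coset. -/ def N5702 : Q := sm ga N3707
/-- A coset. -/ def N5703 : Q := sm gc N3707
/-- A coset. -/ def N5704 : Q := sm gf N3707
/-- A coset. -/ def N5705 : Q := sm gb N3708
/-- A coset. -/ def N5706 : Q := sm gd N3708
/-- A coset. -/ def N5708 : Q := sm gg N3708
/-- A coset. -/ def N5709 : Q := sm gb N3709
/-- A coset. -/ def N5710 : Q := sm gb N3710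
/-- A coset. -/ def N5713 : Q := sm gf N3711
/-- A coset. -/ def N5714 : Q := sm gg N3711
/-- A coset. -/ def N5716 : Q := sm gg N3712
/-- A coset. -/ def N5717 : Q := sm gb N3713
/-- A coset. -/ def N5718 : Q := sm gf N3713
/-- A coset. -/ def N5719 : Q := sm ga N3714
/-- A coset. -/ def N5721 : Q := sm gg N3714
/-- A coset. -/ def N5722 : Q := sm gb N3716
/-- A coset. -/ def N5723 : Q := sm gb N3717
/-- A coset. -/ def N5726 : Q := sm gg N3718
/-- A coset. -/ def N5727 : Q := sm ga N3720
/-- A coset. -/ def N5728 : Q := sm gc N3720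
/-- A coset. -/ def N5729 : Q := sm gf N3720
/-- A coset. -/ def N5730 : Q := sm gg N3720
/-- A coset. -/ def N5731 : Q := sm gb N3721
/-- A coset. -/ def N5732 : Q := sm gd N3721
/-- A coset. -/ def N5733 : Q := sm gc N3722
/-- A coset. -/ def N5734 : Q := sm ge N3722
/-- A coset. -/ def N5735 : Q := sm gg N3722
/-- A coset. -/ def N5736 : Q := sm gb N3723
/-- A coset. -/ def N5737 : Q := sm ga N3724
/-- A coset. -/ def N5738 : Q := sm gc N3724
/-- A coset. -/ def N5739 : Q := sm gf N3724
/-- A coset. -/ def N5740 : Q := sm gb N3725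
/-- A coset. -/ def N5741 : Q := sm gc N3725
/-- A coset. -/ def N5742 : Q := sm gf N3725
/-- A coset. -/ def N5744 : Q := sm gf N3726
/-- A coset. -/ def N5746 : Q := sm gc N3728
/-- A coset. -/ def N5747 : Q := sm gf N3728
/-- A coset. -/ def N5749 : Q := sm gb N3729
/-- A coset. -/ def N5750 : Q := sm gd N3729
/-- A coset. -/ def N5751 : Q := sm gf N3729
/-- A coset. -/ def N5752 : Q := sm gg N3729
/-- A coset. -/ def N5753 : Q := sm gg N3730
/-- A coset. -/ def N5754 : Q := sm gb N3731
/-- A coset. -/ def N5755 : Q := sm ga N3732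
/-- A coset. -/ def N5756 : Q := sm gd N3732
/-- A coset. -/ def N5757 : Q := sm gf N3732
/-- A coset. -/ def N5758 : Q := sm gg N3732
/-- A coset. -/ def N5761 : Q := sm gg N3733
/-- A coset. -/ def N5763 : Q := sm gc N3735
/-- A coset. -/ def N5766 : Q := sm ge N3736
/-- A coset. -/ def N5767 : Q := sm gg N3736
/-- A coset. -/ def N5769 : Q := sm gb N3738
/-- A coset. -/ def N5771 : Q := sm ga N3739
/-- A coset. -/ def N5772 : Q := sm gf N3739
/-- A coset. -/ def N5773 : Q := sm gb N3740
/-- A coset. -/ def N5774 : Q := sm ga N3741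
/-- A coset. -/ def N5775 : Q := sm gc N3741
/-- A coset. -/ def N5776 : Q := sm gg N3741
/-- A coset. -/ def N5777 : Q := sm gb N3742
/-- A coset. -/ def N5780 : Q := sm gg N3742
/-- A coset. -/ def N5782 : Q := sm ge N3743
/-- A coset. -/ def N5785 : Q := sm gg N3744
/-- A coset. -/ def N5787 : Q := sm ga N3747
/-- A coset. -/ def N5789 : Q := sm gf N3747
/-- A coset. -/ def N5790 : Q := sm gg N3747
/-- A coset. -/ def N5792 : Q := sm gb N3749
/-- A coset. -/ def N5793 : Q := sm ga N3750
/-- A coset. -/ def N5794 : Q := sm gc N3750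
/-- A coset. -/ def N5796 : Q := sm gb N3751
/-- A coset. -/ def N5798 : Q := sm gf N3752
/-- A coset. -/ def N5802 : Q := sm gg N3753
/-- A coset. -/ def N5803 : Q := sm gd N3754
/-- A coset. -/ def N5804 : Q := sm gg N3754
/-- A coset. -/ def N5805 : Q := sm gb N3755
/-- A coset. -/ def N5806 : Q := sm gb N3756
/-- A coset. -/ def N5807 : Q := sm ga N3757
/-- A coset. -/ def N5808 : Q := sm gc N3757
/-- A coset. -/ def N5811 : Q := sm gf N3758
/-- A coset. -/ def N5812 : Q := sm gg N3759
/-- A coset. -/ def N5813 : Q := sm ga N3760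
/-- A coset. -/ def N5815 : Q := sm gf N3760
/-- A coset. -/ def N5816 : Q := sm gg N3760
/-- A coset. -/ def N5819 : Q := sm gd N3762
/-- A coset. -/ def N5821 : Q := sm gf N3762
/-- A coset. -/ def N5824 : Q := sm ge N3763
/-- A coset. -/ def N5825 : Q := sm gf N3763
/-- A coset. -/ def N5826 : Q := sm gg N3763
/-- A coset. -/ def N5828 : Q := sm gf N3764
/-- A coset. -/ def N5829 : Q := sm gg N3764
/-- A coset. -/ def N5830 : Q := sm gb N3765
/-- A coset. -/ def N5832 : Q := sm gf N3766
/-- A coset. -/ def N5835 : Q := sm gb N3769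
/-- A coset. -/ def N5836 : Q := sm ga N3770
/-- A coset. -/ def N5837 : Q := sm gg N3770
/-- A coset. -/ def N5840 : Q := sm ge N3771
/-- A coset. -/ def N5842 : Q := sm gg N3771
/-- A coset. -/ def N5844 : Q := sm ge N3772
/-- A coset. -/ def N5845 : Q := sm gf N3772
/-- A coset. -/ def N5846 : Q := sm gg N3772
/-- A coset. -/ def N5847 : Q := sm gd N3773
/-- A coset. -/ def N5848 : Q := sm gf N3773
/-- A coset. -/ def N5849 : Q := sm gg N3773
/-- A coset. -/ def N5850 : Q := sm gg N3774
/-- A coset. -/ def N5851 : Q := sm gb N3775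
/-- A coset. -/ def N5853 : Q := sm gd N3776
/-- A coset. -/ def N5855 : Q := sm gb N3777
/-- A coset. -/ def N5858 : Q := sm gb N3779
/-- A coset. -/ def N5859 : Q := sm ga N3780
/-- A coset. -/ def N5860 : Q := sm gc N3780
/-- A coset. -/ def N5861 : Q := sm gf N3780
/-- A coset. -/ def N5863 : Q := sm gd N3782
/-- A coset. -/ def N5865 : Q := sm gf N3783
/-- A coset. -/ def N5867 : Q := sm gd N3785
/-- A coset. -/ def N5869 : Q := sm gb N3787
/-- A coset. -/ def N5871 : Q := sm ga N3789
/-- A coset. -/ def N5872 : Q := sm gc N3789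
/-- A coset. -/ def N5873 : Q := sm gg N3789
/-- A coset. -/ def N5874 : Q := sm ga N3790
/-- A coset. -/ def N5875 : Q := sm gc N3790
/-- A coset. -/ def N5876 : Q := sm gf N3790
/-- A coset. -/ def N5877 : Q := sm gc N3791
/-- A coset. -/ def N5878 : Q := sm gd N3792
/-- A coset. -/ def N5879 : Q := sm gg N3792
/-- A coset. -/ def N5881 : Q := sm gf N3795
/-- A coset. -/ def N5882 : Q := sm gb N3797
/-- A coset. -/ def N5883 : Q := sm gb N3798
/-- A coset. -/ def N5884 : Q := sm ga N3799
/-- A coset. -/ def N5886 : Q := sm gg N3799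
/-- A coset. -/ def N5887 : Q := sm gb N3800
/-- A coset. -/ def N5889 : Q := sm gc N3801
/-- A coset. -/ def N5890 : Q := sm gf N3801
/-- A coset. -/ def N5892 : Q := sm gb N3803
/-- A coset. -/ def N5893 : Q := sm gc N3803
/-- A coset. -/ def N5894 : Q := sm gg N3803
/-- A coset. -/ def N5895 : Q := sm gd N3804
/-- A coset. -/ def N5896 : Q := sm gg N3804
/-- A coset. -/ def N5897 : Q := sm gb N3805
/-- A coset. -/ def N5898 : Q := sm gf N3805
/-- A coset. -/ def N5899 : Q := sm ga N3806
/-- A coset. -/ def N5900 : Q := sm gc N3806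
/-- A coset. -/ def N5901 : Q := sm gf N3806
/-- A coset. -/ def N5903 : Q := sm gc N3807
/-- A coset. -/ def N5904 : Q := sm gf N3807
/-- A coset. -/ def N5906 : Q := sm gf N3808
/-- A coset. -/ def N5907 : Q := sm gb N3809
/-- A coset. -/ def N5908 : Q := sm gg N3809
/-- A coset. -/ def N5909 : Q := sm ga N3810
/-- A coset. -/ def N5910 : Q := sm gc N3810
/-- A coset. -/ def N5911 : Q := sm gg N3810
/-- A coset. -/ def N5912 : Q := sm gc N3811
/-- A coset. -/ def N5913 : Q := sm gb N3812
/-- A coset. -/ def N5914 : Q := sm gd N3812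
/-- A coset. -/ def N5916 : Q := sm ge N3813
/-- A coset. -/ def N5917 : Q := sm gg N3813
/-- A coset. -/ def N5918 : Q := sm gb N3814
/-- A coset. -/ def N5919 : Q := sm gc N3815
/-- A coset. -/ def N5922 : Q := sm gd N3817
/-- A coset. -/ def N5925 : Q := sm gf N3818
/-- A coset. -/ def N5926 : Q := sm gb N3819
/-- A coset. -/ def N5927 : Q := sm gc N3820
/-- A coset. -/ def N5928 : Q := sm gd N3821
/-- A coset. -/ def N5929 : Q := sm gc N3822
/-- A coset. -/ def N5930 : Q := sm gb N3823
/-- A coset. -/ def N5931 : Q := sm gd N3823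
/-- A coset. -/ def N5932 : Q := sm gg N3823
/-- A coset. -/ def N5933 : Q := sm ga N3825
/-- A coset. -/ def N5934 : Q := sm gd N3825
/-- A coset. -/ def N5935 : Q := sm gf N3825
/-- A coset. -/ def N5936 : Q := sm gg N3825
/-- A coset. -/ def N5937 : Q := sm gc N3826
/-- A coset. -/ def N5938 : Q := sm ge N3826
/-- A coset. -/ def N5939 : Q := sm gg N3826
/-- A coset. -/ def N5940 : Q := sm gb N3827
/-- A coset. -/ def N5946 : Q := sm gb N3830
/-- A coset. -/ def N5947 : Q := sm gf N3830
/-- A coset. -/ def N5948 : Q := sm ga N3831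
/-- A coset. -/ def N5949 : Q := sm gf N3831
/-- A coset. -/ def N5950 : Q := sm gb N3832
/-- A coset. -/ def N5951 : Q := sm gb N3833
/-- A coset. -/ def N5953 : Q := sm gf N3833
/-- A coset. -/ def N5954 : Q := sm ga N3835
/-- A coset. -/ def N5955 : Q := sm gd N3835
/-- A coset. -/ def N5956 : Q := sm gf N3835
/-- A coset. -/ def N5958 : Q := sm gc N3836
/-- A coset. -/ def N5959 : Q := sm ge N3836
/-- A coset. -/ def N5960 : Q := sm gf N3836
/-- A coset. -/ def N5961 : Q := sm gb N3837
/-- A coset. -/ def N5963 : Q := sm gd N3838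
/-- A coset. -/ def N5966 : Q := sm gf N3839
/-- A coset. -/ def N5967 : Q := sm gb N3840
/-- A coset. -/ def N5968 : Q := sm gg N3840
/-- A coset. -/ def N5969 : Q := sm ga N3841
/-- A coset. -/ def N5970 : Q := sm gg N3841
/-- A coset. -/ def N5971 : Q := sm gb N3842
/-- A coset. -/ def N5972 : Q := sm gb N3844
/-- A coset. -/ def N5973 : Q := sm gd N3844
/-- A coset. -/ def N5974 : Q := sm gf N3844
/-- A coset. -/ def N5975 : Q := sm ga N3846
/-- A coset. -/ def N5976 : Q := sm gd N3846
/-- A coset. -/ def N5977 : Q := sm gf N3846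
/-- A coset. -/ def N5978 : Q := sm gg N3846
/-- A coset. -/ def N5979 : Q := sm gc N3847
/-- A coset. -/ def N5980 : Q := sm ge N3847
/-- A coset. -/ def N5981 : Q := sm gf N3847
/-- A coset. -/ def N5982 : Q := sm gg N3847
/-- A coset. -/ def N5983 : Q := sm gb N3848
/-- A coset. -/ def N5984 : Q := sm gg N3848
/-- A coset. -/ def N5985 : Q := sm gb N3849
/-- A coset. -/ def N5986 : Q := sm gf N3849
/-- A coset. -/ def N5987 : Q := sm gb N3852
/-- A coset. -/ def N5988 : Q := sm gf N3852
/-- A coset. -/ def N5989 : Q := sm gg N3852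
/-- A coset. -/ def N5990 : Q := sm gg N3853
/-- A coset. -/ def N5991 : Q := sm gf N3854
/-- A coset. -/ def N5992 : Q := sm gb N3855
/-- A coset. -/ def N5993 : Q := sm gc N3855
/-- A coset. -/ def N5994 : Q := sm gf N3855
/-- A coset. -/ def N5996 : Q := sm gf N3856
/-- A coset. -/ def N5997 : Q := sm gg N3857
/-- A coset. -/ def N5999 : Q := sm gd N3858
/-- A coset. -/ def N6000 : Q := sm gc N3859
/-- A coset. -/ def N6001 : Q := sm ge N3859
/-- A coset. -/ def N6002 : Q := sm gf N3859
/-- A coset. -/ def N6003 : Q := sm gb N3860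
/-- A coset. -/ def N6004 : Q := sm gb N3861
/-- A coset. -/ def N6005 : Q := sm gd N3861
/-- A coset. -/ def N6006 : Q := sm ga N3862
/-- A coset. -/ def N6008 : Q := sm gf N3862
/-- A coset. -/ def N6009 : Q := sm gg N3862
/-- A coset. -/ def N6010 : Q := sm gc N3863
/-- A coset. -/ def N6011 : Q := sm ge N3863
/-- A coset. -/ def N6012 : Q := sm gf N3863
/-- A coset. -/ def N6014 : Q := sm gb N3865
/-- A coset. -/ def N6015 : Q := sm gd N3865
/-- A coset. -/ def N6017 : Q := sm gf N3865
/-- A coset. -/ def N6018 : Q := sm gf N3866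
/-- A coset. -/ def N6019 : Q := sm gb N3867
/-- A coset. -/ def N6021 : Q := sm ga N3868
/-- A coset. -/ def N6022 : Q := sm gg N3868
/-- A coset. -/ def N6024 : Q := sm gc N3870
/-- A coset. -/ def N6025 : Q := sm gc N3871
/-- A coset. -/ def N6026 : Q := sm gb N3872
/-- A coset. -/ def N6027 : Q := sm gd N3872
/-- A coset. -/ def N6028 : Q := sm gf N3872
/-- A coset. -/ def N6029 : Q := sm ga N3874
/-- A coset. -/ def N6030 : Q := sm gd N3874
/-- A coset. -/ def N6031 : Q := sm gf N3874
/-- A coset. -/ def N6032 : Q := sm gg N3874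
/-- A coset. -/ def N6034 : Q := sm ge N3875
/-- A coset. -/ def N6035 : Q := sm gg N3875
/-- A coset. -/ def N6037 : Q := sm gb N3877
/-- A coset. -/ def N6038 : Q := sm gd N3877
/-- A coset. -/ def N6039 : Q := sm ge N3877
/-- A coset. -/ def N6040 : Q := sm gg N3877
/-- A coset. -/ def N6041 : Q := sm gg N3878
/-- A coset. -/ def N6043 : Q := sm ga N3880
/-- A coset. -/ def N6044 : Q := sm gf N3880
/-- A coset. -/ def N6048 : Q := sm gb N3884
/-- A coset. -/ def N6049 : Q := sm gg N3884
/-- A coset. -/ def N6050 : Q := sm gb N3885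
/-- A coset. -/ def N6051 : Q := sm gf N3885
/-- A coset. -/ def N6052 : Q := sm ga N3886
/-- A coset. -/ def N6053 : Q := sm gg N3886
/-- A coset. -/ def N6054 : Q := sm gb N3887
/-- A coset. -/ def N6055 : Q := sm ga N3888
/-- A coset. -/ def N6056 : Q := sm gc N3888
/-- A coset. -/ def N6057 : Q := sm gf N3888
/-- A coset. -/ def N6058 : Q := sm gb N3889
/-- A coset. -/ def N6060 : Q := sm gd N3891
/-- A coset. -/ def N6061 : Q := sm gb N3892
/-- A coset. -/ def N6062 : Q := sm gb N3893
/-- A coset. -/ def N6063 : Q := sm gb N3894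
/-- A coset. -/ def N6064 : Q := sm ga N3895
/-- A coset. -/ def N6065 : Q := sm gc N3895
/-- A coset. -/ def N6066 : Q := sm gf N3895
/-- A coset. -/ def N6067 : Q := sm gb N3896
/-- A coset. -/ def N6068 : Q := sm gb N3897
/-- A coset. -/ def N6069 : Q := sm gc N3897
/-- A coset. -/ def N6070 : Q := sm gf N3897
/-- A coset. -/ def N6071 : Q := sm gd N3898
/-- A coset. -/ def N6072 : Q := sm gf N3898
/-- A coset. -/ def N6073 : Q := sm gg N3899
/-- A coset. -/ def N6076 : Q := sm gc N3901
/-- A coset. -/ def N6078 : Q := sm gf N3901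
/-- A coset. -/ def N6079 : Q := sm gb N3902
/-- A coset. -/ def N6080 : Q := sm gb N3903
/-- A coset. -/ def N6082 : Q := sm gg N3903
/-- A coset. -/ def N6083 : Q := sm gd N3904
/-- A coset. -/ def N6084 : Q := sm gg N3904
/-- A coset. -/ def N6085 : Q := sm gf N3905
/-- A coset. -/ def N6086 : Q := sm gb N3906
/-- A coset. -/ def N6087 : Q := sm gd N3906
/-- A coset. -/ def N6088 : Q := sm gg N3906
/-- A coset. -/ def N6089 : Q := sm gc N3908
/-- A coset. -/ def N6090 : Q := sm ge N3908
/-- A coset. -/ def N6091 : Q := sm gg N3908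
/-- A coset. -/ def N6092 : Q := sm gb N3909
/-- A coset. -/ def N6093 : Q := sm gb N3910
/-- A coset. -/ def N6094 : Q := sm gb N3911
/-- A coset. -/ def N6095 : Q := sm ga N3912
/-- A coset. -/ def N6097 : Q := sm gg N3912
/-- A coset. -/ def N6098 : Q := sm ga N3913
/-- A coset. -/ def N6101 : Q := sm gb N3914
/-- A coset. -/ def N6102 : Q := sm gb N3915
/-- A coset. -/ def N6103 : Q := sm ga N3916
/-- A coset. -/ def N6105 : Q := sm gg N3916
/-- A coset. -/ def N6106 : Q := sm gb N3917
/-- A coset. -/ def N6107 : Q := sm gb N3918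
/-- A coset. -/ def N6108 : Q := sm gb N3919
/-- A coset. -/ def N6109 : Q := sm gc N3919
/-- A coset. -/ def N6110 : Q := sm gd N3920
/-- A coset. -/ def N6111 : Q := sm gg N3920
/-- A coset. -/ def N6112 : Q := sm gb N3921
/-- A coset. -/ def N6113 : Q := sm ga N3922
/-- A coset. -/ def N6115 : Q := sm gf N3922
/-- A coset. -/ def N6116 : Q := sm ga N3923
/-- A coset. -/ def N6118 : Q := sm gg N3923
/-- A coset. -/ def N6119 : Q := sm gb N3924
/-- A coset. -/ def N6120 : Q := sm gc N3924
/-- A coset. -/ def N6122 : Q := sm gd N3925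
/-- A coset. -/ def N6123 : Q := sm gg N3925
/-- A coset. -/ def N6124 : Q := sm gf N3926
/-- A coset. -/ def N6125 : Q := sm ga N3927
/-- A coset. -/ def N6126 : Q := sm gc N3927
/-- A coset. -/ def N6127 : Q := sm gf N3927
/-- A coset. -/ def N6128 : Q := sm gg N3927
/-- A coset. -/ def N6129 : Q := sm gb N3928
/-- A coset. -/ def N6130 : Q := sm gd N3928
/-- A coset. -/ def N6131 : Q := sm gg N3928
/-- A coset. -/ def N6132 : Q := sm gb N3929
/-- A coset. -/ def N6133 : Q := sm gc N3930
/-- A coset. -/ def N6134 : Q := sm ge N3930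
/-- A coset. -/ def N6135 : Q := sm gg N3930
/-- A coset. -/ def N6136 : Q := sm gf N3931
/-- A coset. -/ def N6137 : Q := sm gb N3932
/-- A coset. -/ def N6138 : Q := sm ga N3934
/-- A coset. -/ def N6139 : Q := sm gc N3934
/-- A coset. -/ def N6140 : Q := sm gg N3934
/-- A coset. -/ def N6141 : Q := sm ga N3935
/-- A coset. -/ def N6143 : Q := sm gf N3935
/-- A coset. -/ def N6144 : Q := sm gb N3936
/-- A coset. -/ def N6145 : Q := sm gc N3936
/-- A coset. -/ def N6146 : Q := sm gg N3936
/-- A coset. -/ def N6147 : Q := sm gd N3937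
/-- A coset. -/ def N6148 : Q := sm gg N3937
/-- A coset. -/ def N6149 : Q := sm gb N3939
/-- A coset. -/ def N6150 : Q := sm gc N3939
/-- A coset. -/ def N6151 : Q := sm gf N3939
/-- A coset. -/ def N6154 : Q := sm gg N3941
/-- A coset. -/ def N6155 : Q := sm gg N3942
/-- A coset. -/ def N6156 : Q := sm gb N3943
/-- A coset. -/ def N6157 : Q := sm gd N3943
/-- A coset. -/ def N6158 : Q := sm gc N3944
/-- A coset. -/ def N6159 : Q := sm ge N3944
/-- A coset. -/ def N6160 : Q := sm gg N3944
/-- A coset. -/ def N6162 : Q := sm ga N3946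
/-- A coset. -/ def N6164 : Q := sm gf N3946
/-- A coset. -/ def N6165 : Q := sm gb N3947
/-- A coset. -/ def N6166 : Q := sm gc N3947
/-- A coset. -/ def N6167 : Q := sm gf N3947
/-- A coset. -/ def N6171 : Q := sm gb N3950
/-- A coset. -/ def N6175 : Q := sm gc N3953
/-- A coset. -/ def N6176 : Q := sm gf N3953
/-- A coset. -/ def N6177 : Q := sm gg N3953
/-- A coset. -/ def N6178 : Q := sm gb N3954
/-- A coset. -/ def N6179 : Q := sm gd N3954
/-- A coset. -/ def N6180 : Q := sm gf N3954
/-- A coset. -/ def N6181 : Q := sm gg N3954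
/-- A coset. -/ def N6182 : Q := sm gg N3955
/-- A coset. -/ def N6183 : Q := sm gb N3956
/-- A coset. -/ def N6184 : Q := sm gf N3956
/-- A coset. -/ def N6185 : Q := sm ga N3957
/-- A coset. -/ def N6186 : Q := sm gd N3957
/-- A coset. -/ def N6187 : Q := sm gf N3957
/-- A coset. -/ def N6188 : Q := sm gg N3957
/-- A coset. -/ def N6189 : Q := sm gc N3958
/-- A coset. -/ def N6190 : Q := sm ge N3958
/-- A coset. -/ def N6191 : Q := sm gg N3958
/-- A coset. -/ def N6192 : Q := sm gb N3959
/-- A coset. -/ def N6193 : Q := sm ga N3960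
/-- A coset. -/ def N6194 : Q := sm gc N3960
/-- A coset. -/ def N6195 : Q := sm gf N3960
/-- A coset. -/ def N6196 : Q := sm gd N3961
/-- A coset. -/ def N6197 : Q := sm ge N3961
/-- A coset. -/ def N6198 : Q := sm gg N3961
/-- A coset. -/ def N6199 : Q := sm gg N3962
/-- A coset. -/ def N6200 : Q := sm gb N3963
/-- A coset. -/ def N6202 : Q := sm ga N3964
/-- A coset. -/ def N6203 : Q := sm gf N3964
/-- A coset. -/ def N6204 : Q := sm gb N3965
/-- A coset. -/ def N6205 : Q := sm ga N3966
/-- A coset. -/ def N6206 : Q := sm gc N3966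
/-- A coset. -/ def N6207 : Q := sm gg N3966
/-- A coset. -/ def N6208 : Q := sm gb N3967
/-- A coset. -/ def N6209 : Q := sm gf N3967
/-- A coset. -/ def N6213 : Q := sm gb N3970
/-- A coset. -/ def N6214 : Q := sm ga N3971
/-- A coset. -/ def N6215 : Q := sm gc N3971
/-- A coset. -/ def N6216 : Q := sm gf N3971
/-- A coset. -/ def N6217 : Q := sm gb N3972
/-- A coset. -/ def N6219 : Q := sm gg N3973
/-- A coset. -/ def N6220 : Q := sm gb N3974
/-- A coset. -/ def N6221 : Q := sm gb N3975
/-- A coset. -/ def N6222 : Q := sm gb N3976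
/-- A coset. -/ def N6223 : Q := sm gb N3977
/-- A coset. -/ def N6224 : Q := sm ga N3978
/-- A coset. -/ def N6225 : Q := sm gc N3978
/-- A coset. -/ def N6226 : Q := sm gg N3978
/-- A coset. -/ def N6227 : Q := sm gb N3979
/-- A coset. -/ def N6228 : Q := sm ga N3980
/-- A coset. -/ def N6229 : Q := sm gc N3980
/-- A coset. -/ def N6231 : Q := sm gb N3981
/-- A coset. -/ def N6233 : Q := sm gc N3982
/-- A coset. -/ def N6234 : Q := sm gg N3982
/-- A coset. -/ def N6235 : Q := sm ga N3983
/-- A coset. -/ def N6238 : Q := sm gb N3984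
/-- A coset. -/ def N6239 : Q := sm gc N3984
/-- A coset. -/ def N6240 : Q := sm gg N3984
/-- A coset. -/ def N6241 : Q := sm gd N3985
/-- A coset. -/ def N6242 : Q := sm gg N3985
/-- A coset. -/ def N6243 : Q := sm gf N3986
/-- A coset. -/ def N6244 : Q := sm gb N3987
/-- A coset. -/ def N6245 : Q := sm gf N3987
/-- A coset. -/ def N6246 : Q := sm gd N3988
/-- A coset. -/ def N6247 : Q := sm gf N3988
/-- A coset. -/ def N6248 : Q := sm gg N3989
/-- A coset. -/ def N6249 : Q := sm gb N3990
/-- A coset. -/ def N6250 : Q := sm gg N3990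
/-- A coset. -/ def N6251 : Q := sm gb N3991
/-- A coset. -/ def N6252 : Q := sm gf N3991
/-- A coset. -/ def N6254 : Q := sm gc N3992
/-- A coset. -/ def N6255 : Q := sm gg N3992
/-- A coset. -/ def N6256 : Q := sm ga N3993
/-- A coset. -/ def N6258 : Q := sm gb N3994
/-- A coset. -/ def N6259 : Q := sm gc N3994
/-- A coset. -/ def N6260 : Q := sm gd N3995
/-- A coset. -/ def N6261 : Q := sm gg N3995
/-- A coset. -/ def N6262 : Q := sm gb N3996
/-- A coset. -/ def N6263 : Q := sm ga N3997
/-- A coset. -/ def N6264 : Q := sm gc N3997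
/-- A coset. -/ def N6265 : Q := sm gf N3997
/-- A coset. -/ def N6266 : Q := sm ga N3998
/-- A coset. -/ def N6269 : Q := sm ga N3999
/-- A coset. -/ def N6270 : Q := sm gc N3999
/-- A coset. -/ def N6271 : Q := sm gf N3999
/-- A coset. -/ def N6272 : Q := sm gg N3999
/-- A coset. -/ def N6273 : Q := sm ga N4000
/-- A coset. -/ def N6274 : Q := sm gc N4000
/-- A coset. -/ def N6275 : Q := sm gf N4000
/-- A coset. -/ def N6276 : Q := sm gb N4001
/-- A coset. -/ def N6277 : Q := sm gc N4001
/-- A coset. -/ def N6278 : Q := sm gf N4001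
/-- A coset. -/ def N6282 : Q := sm gb N4004
/-- A coset. -/ def N6285 : Q := sm gd N4005
/-- A coset. -/ def N6286 : Q := sm gg N4005
/-- A coset. -/ def N6287 : Q := sm gf N4006
/-- A coset. -/ def N6288 : Q := sm gb N4007
/-- A coset. -/ def N6289 : Q := sm gb N4008
/-- A coset. -/ def N6290 : Q := sm ga N4009
/-- A coset. -/ def N6291 : Q := sm gc N4009
/-- A coset. -/ def N6292 : Q := sm gg N4009
/-- A coset. -/ def N6293 : Q := sm gb N4010
/-- A coset. -/ def N6294 : Q := sm gb N4011
/-- A coset. -/ def N6295 : Q := sm gb N4012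
/-- A coset. -/ def N6296 : Q := sm gc N4012
/-- A coset. -/ def N6297 : Q := sm gg N4012
/-- A coset. -/ def N6299 : Q := sm gg N4013
/-- A coset. -/ def N6300 : Q := sm gf N4014
/-- A coset. -/ def N6301 : Q := sm ga N4015
/-- A coset. -/ def N6302 : Q := sm gc N4015
/-- A coset. -/ def N6303 : Q := sm gf N4015
/-- A coset. -/ def N6304 : Q := sm gg N4015
/-- A coset. -/ def N6305 : Q := sm gb N4016
/-- A coset. -/ def N6306 : Q := sm gg N4016
/-- A coset. -/ def N6307 : Q := sm gb N4017
/-- A coset. -/ def N6309 : Q := sm gg N4018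
/-- A coset. -/ def N6310 : Q := sm gb N4019
/-- A coset. -/ def N6311 : Q := sm gf N4019
/-- A coset. -/ def N6313 : Q := sm gc N4021
/-- A coset. -/ def N6314 : Q := sm gf N4021
/-- A coset. -/ def N6315 : Q := sm gg N4021
/-- A coset. -/ def N6316 : Q := sm gd N4022
/-- A coset. -/ def N6317 : Q := sm gf N4022
/-- A coset. -/ def N6318 : Q := sm gg N4022
/-- A coset. -/ def N6320 : Q := sm gb N4024
/-- A coset. -/ def N6321 : Q := sm gf N4024
/-- A coset. -/ def N6322 : Q := sm gc N4025
/-- A coset. -/ def N6323 : Q := sm gb N4026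
/-- A coset. -/ def N6324 : Q := sm gc N4026
/-- A coset. -/ def N6325 : Q := sm gd N4027
/-- A coset. -/ def N6326 : Q := sm gf N4027
/-- A coset. -/ def N6328 : Q := sm ga N4029
/-- A coset. -/ def N6331 : Q := sm gf N4030
/-- A coset. -/ def N6332 : Q := sm gg N4030
/-- A coset. -/ def N6333 : Q := sm gb N4031
/-- A coset. -/ def N6334 : Q := sm gd N4031
/-- A coset. -/ def N6335 : Q := sm gf N4031
/-- A coset. -/ def N6336 : Q := sm gb N4032
/-- A coset. -/ def N6337 : Q := sm gc N4033
/-- A coset. -/ def N6338 : Q := sm ge N4033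
/-- A coset. -/ def N6339 : Q := sm gf N4033
/-- A coset. -/ def N6341 : Q := sm gb N4035
/-- A coset. -/ def N6342 : Q := sm gb N4037
/-- A coset. -/ def N6343 : Q := sm gb N4038
/-- A coset. -/ def N6344 : Q := sm ga N4039
/-- A coset. -/ def N6345 : Q := sm gc N4039
/-- A coset. -/ def N6346 : Q := sm gg N4039
/-- A coset. -/ def N6347 : Q := sm gb N4040
/-- A coset. -/ def N6348 : Q := sm ga N4041
/-- A coset. -/ def N6349 : Q := sm gc N4041
/-- A coset. -/ def N6350 : Q := sm gf N4041
/-- A coset. -/ def N6351 : Q := sm gb N4042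
/-- A coset. -/ def N6352 : Q := sm gd N4043
/-- A coset. -/ def N6353 : Q := sm gd N4044
/-- A coset. -/ def N6354 : Q := sm gb N4045
/-- A coset. -/ def N6355 : Q := sm gd N4045
/-- A coset. -/ def N6356 : Q := sm gc N4046
/-- A coset. -/ def N6357 : Q := sm ge N4046
/-- A coset. -/ def N6358 : Q := sm gg N4046
/-- A coset. -/ def N6359 : Q := sm gb N4047
/-- A coset. -/ def N6360 : Q := sm gf N4047
/-- A coset. -/ def N6365 : Q := sm gf N4051
/-- A coset. -/ def N6366 : Q := sm gb N4052
/-- A coset. -/ def N6367 : Q := sm gb N4053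
/-- A coset. -/ def N6368 : Q := sm gd N4053
/-- A coset. -/ def N6369 : Q := sm gc N4054
/-- A coset. -/ def N6370 : Q := sm ge N4054
/-- A coset. -/ def N6373 : Q := sm gb N4056
/-- A coset. -/ def N6374 : Q := sm gd N4056
/-- A coset. -/ def N6375 : Q := sm gc N4057
/-- A coset. -/ def N6376 : Q := sm ge N4057
/-- A coset. -/ def N6377 : Q := sm gg N4057
/-- A coset. -/ def N6378 : Q := sm gb N4058
/-- A coset. -/ def N6379 : Q := sm gb N4059
/-- A coset. -/ def N6380 : Q := sm gb N4060
/-- A coset. -/ def N6381 : Q := sm gf N4061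
/-- A coset. -/ def N6382 : Q := sm gg N4061
/-- A coset. -/ def N6383 : Q := sm gb N4062
/-- A coset. -/ def N6384 : Q := sm gg N4062
/-- A coset. -/ def N6385 : Q := sm gb N4063
/-- A coset. -/ def N6386 : Q := sm gf N4063
/-- A coset. -/ def N6387 : Q := sm ga N4064
/-- A coset. -/ def N6388 : Q := sm gg N4064
/-- A coset. -/ def N6389 : Q := sm gb N4065
/-- A coset. -/ def N6390 : Q := sm ga N4066
/-- A coset. -/ def N6391 : Q := sm gc N4066
/-- A coset. -/ def N6394 : Q := sm ga N4068
/-- A coset. -/ def N6395 : Q := sm gc N4068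
/-- A coset. -/ def N6396 : Q := sm gg N4068
/-- A coset. -/ def N6397 : Q := sm ga N4069
/-- A coset. -/ def N6399 : Q := sm gf N4069
/-- A coset. -/ def N6400 : Q := sm gb N4070
/-- A coset. -/ def N6401 : Q := sm gg N4070
/-- A coset. -/ def N6402 : Q := sm gf N4071
/-- A coset. -/ def N6403 : Q := sm gb N4072
/-- A coset. -/ def N6404 : Q := sm gc N4072
/-- A coset. -/ def N6407 : Q := sm gf N4073
/-- A coset. -/ def N6408 : Q := sm gg N4074
/-- A coset. -/ def N6410 : Q := sm ga N4076
/-- A coset. -/ def N6412 : Q := sm gg N4076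
/-- A coset. -/ def N6413 : Q := sm ga N4077
/-- A coset. -/ def N6414 : Q := sm gc N4077
/-- A coset. -/ def N6415 : Q := sm gf N4077
/-- A coset. -/ def N6416 : Q := sm gb N4078
/-- A coset. -/ def N6417 : Q := sm gc N4078
/-- A coset. -/ def N6418 : Q := sm gd N4079
/-- A coset. -/ def N6420 : Q := sm gb N4080
/-- A coset. -/ def N6421 : Q := sm ga N4081
/-- A coset. -/ def N6423 : Q := sm gf N4081
/-- A coset. -/ def N6424 : Q := sm gb N4082
/-- A coset. -/ def N6425 : Q := sm gc N4082
/-- A coset. -/ def N6428 : Q := sm gb N4084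
/-- A coset. -/ def N6429 : Q := sm ga N4085
/-- A coset. -/ def N6430 : Q := sm gc N4085
/-- A coset. -/ def N6432 : Q := sm ga N4086
/-- A coset. -/ def N6433 : Q := sm gc N4086
/-- A coset. -/ def N6434 : Q := sm gf N4086
/-- A coset. -/ def N6435 : Q := sm gg N4086
/-- A coset. -/ def N6436 : Q := sm gb N4087
/-- A coset. -/ def N6437 : Q := sm gd N4087
/-- A coset. -/ def N6439 : Q := sm gb N4088
/-- A coset. -/ def N6444 : Q := sm gb N4091
/-- A coset. -/ def N6445 : Q := sm ga N4092
/-- A coset. -/ def N6448 : Q := sm gg N4092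
/-- A coset. -/ def N6449 : Q := sm gb N4093
/-- A coset. -/ def N6450 : Q := sm gd N4093
/-- A coset. -/ def N6454 : Q := sm ge N4095
/-- A coset. -/ def N6457 : Q := sm gb N4097
/-- A coset. -/ def N6458 : Q := sm gb N4100
/-- A coset. -/ def N6459 : Q := sm gb N4101
/-- A coset. -/ def N6460 : Q := sm gf N4102
/-- A coset. -/ def N6462 : Q := sm gb N4103
/-- A coset. -/ def N6463 : Q := sm gb N4104
/-- A coset. -/ def N6464 : Q := sm ga N4105
/-- A coset. -/ def N6465 : Q := sm gc N4105
/-- A coset. -/ def N6466 : Q := sm gg N4105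
/-- A coset. -/ def N6467 : Q := sm ga N4106
/-- A coset. -/ def N6468 : Q := sm gc N4106
/-- A coset. -/ def N6470 : Q := sm gf N4107
/-- A coset. -/ def N6471 : Q := sm gg N4107
/-- A coset. -/ def N6472 : Q := sm gb N4108
/-- A coset. -/ def N6473 : Q := sm gg N4108
/-- A coset. -/ def N6474 : Q := sm gb N4109
/-- A coset. -/ def N6475 : Q := sm gf N4109
/-- A coset. -/ def N6476 : Q := sm gb N4110
/-- A coset. -/ def N6479 : Q := sm gf N4111
/-- A coset. -/ def N6480 : Q := sm ga N4112
/-- A coset. -/ def N6481 : Q := sm gc N4112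
/-- A coset. -/ def N6482 : Q := sm gg N4112
/-- A coset. -/ def N6484 : Q := sm ga N4114
/-- A coset. -/ def N6486 : Q := sm gf N4114
/-- A coset. -/ def N6487 : Q := sm gb N4115
/-- A coset. -/ def N6488 : Q := sm gb N4116
/-- A coset. -/ def N6489 : Q := sm gc N4116
/-- A coset. -/ def N6490 : Q := sm gd N4117
/-- A coset. -/ def N6492 : Q := sm gb N4118
/-- A coset. -/ def N6497 : Q := sm gb N4121
/-- A coset. -/ def N6498 : Q := sm ga N4122
/-- A coset. -/ def N6499 : Q := sm gc N4122
/-- A coset. -/ def N6500 : Q := sm gg N4122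
/-- A coset. -/ def N6501 : Q := sm ga N4123
/-- A coset. -/ def N6502 : Q := sm gc N4123
/-- A coset. -/ def N6503 : Q := sm gg N4123
/-- A coset. -/ def N6504 : Q := sm gb N4124
/-- A coset. -/ def N6505 : Q := sm ga N4125
/-- A coset. -/ def N6507 : Q := sm gf N4125
/-- A coset. -/ def N6508 : Q := sm gb N4126
/-- A coset. -/ def N6509 : Q := sm gb N4127
/-- A coset. -/ def N6510 : Q := sm gc N4127
/-- A coset. -/ def N6511 : Q := sm gg N4127
/-- A coset. -/ def N6512 : Q := sm gd N4128
/-- A coset. -/ def N6513 : Q := sm gg N4128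
/-- A coset. -/ def N6514 : Q := sm gb N4129
/-- A coset. -/ def N6515 : Q := sm gf N4129
/-- A coset. -/ def N6516 : Q := sm ga N4130
/-- A coset. -/ def N6517 : Q := sm gc N4130
/-- A coset. -/ def N6518 : Q := sm gf N4130
/-- A coset. -/ def N6519 : Q := sm gb N4131
/-- A coset. -/ def N6521 : Q := sm gf N4131
/-- A coset. -/ def N6524 : Q := sm gb N4133
/-- A coset. -/ def N6526 : Q := sm ga N4134
/-- A coset. -/ def N6527 : Q := sm gc N4134
/-- A coset. -/ def N6528 : Q := sm gg N4134
/-- A coset. -/ def N6529 : Q := sm gf N4135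
/-- A coset. -/ def N6530 : Q := sm gg N4135
/-- A coset. -/ def N6531 : Q := sm gd N4136
/-- A coset. -/ def N6532 : Q := sm gg N4136
/-- A coset. -/ def N6533 : Q := sm gb N4137
/-- A coset. -/ def N6534 : Q := sm gc N4138
/-- A coset. -/ def N6535 : Q := sm ge N4138
/-- A coset. -/ def N6536 : Q := sm gg N4138
/-- A coset. -/ def N6537 : Q := sm gf N4139
/-- A coset. -/ def N6538 : Q := sm ga N4140
/-- A coset. -/ def N6539 : Q := sm gf N4140
/-- A coset. -/ def N6540 : Q := sm gb N4141
/-- A coset. -/ def N6541 : Q := sm gb N4142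
/-- A coset. -/ def N6542 : Q := sm gf N4142
/-- A coset. -/ def N6543 : Q := sm gg N4143
/-- A coset. -/ def N6544 : Q := sm ga N4144
/-- A coset. -/ def N6545 : Q := sm gc N4144
/-- A coset. -/ def N6546 : Q := sm gf N4144
/-- A coset. -/ def N6547 : Q := sm gg N4144
/-- A coset. -/ def N6548 : Q := sm gb N4145
/-- A coset. -/ def N6549 : Q := sm ga N4146
/-- A coset. -/ def N6552 : Q := sm gb N4148
/-- A coset. -/ def N6554 : Q := sm gf N4149
/-- A coset. -/ def N6555 : Q := sm gg N4151
/-- A coset. -/ def N6557 : Q := sm ga N4153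
/-- A coset. -/ def N6558 : Q := sm gc N4153
/-- A coset. -/ def N6559 : Q := sm gf N4153
/-- A coset. -/ def N6560 : Q := sm gb N4154
/-- A coset. -/ def N6561 : Q := sm gb N4155
/-- A coset. -/ def N6562 : Q := sm gg N4155
/-- A coset. -/ def N6563 : Q := sm gf N4157
/-- A coset. -/ def N6564 : Q := sm gb N4158
/-- A coset. -/ def N6565 : Q := sm gc N4158
/-- A coset. -/ def N6566 : Q := sm gf N4158
/-- A coset. -/ def N6567 : Q := sm gd N4159
/-- A coset. -/ def N6568 : Q := sm gf N4159
/-- A coset. -/ def N6569 : Q := sm gg N4160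
/-- A coset. -/ def N6570 : Q := sm ga N4161
/-- A coset. -/ def N6571 : Q := sm gc N4161
/-- A coset. -/ def N6572 : Q := sm gg N4161
/-- A coset. -/ def N6574 : Q := sm ga N4163
/-- A coset. -/ def N6577 : Q := sm gb N4164
/-- A coset. -/ def N6579 : Q := sm gc N4165
/-- A coset. -/ def N6580 : Q := sm gd N4166
/-- A coset. -/ def N6581 : Q := sm gg N4166
/-- A coset. -/ def N6582 : Q := sm gb N4167
/-- A coset. -/ def N6584 : Q := sm gc N4168
/-- A coset. -/ def N6585 : Q := sm gf N4168
/-- A coset. -/ def N6587 : Q := sm gc N4169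
/-- A coset. -/ def N6588 : Q := sm gd N4170
/-- A coset. -/ def N6590 : Q := sm gb N4171
/-- A coset. -/ def N6591 : Q := sm ga N4172
/-- A coset. -/ def N6593 : Q := sm gg N4172
/-- A coset. -/ def N6594 : Q := sm ga N4173
/-- A coset. -/ def N6595 : Q := sm gc N4173
/-- A coset. -/ def N6596 : Q := sm gf N4173
/-- A coset. -/ def N6597 : Q := sm gg N4173
/-- A coset. -/ def N6598 : Q := sm gb N4174
/-- A coset. -/ def N6599 : Q := sm gd N4174
/-- A coset. -/ def N6600 : Q := sm gc N4175
/-- A coset. -/ def N6601 : Q := sm ge N4175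
/-- A coset. -/ def N6603 : Q := sm gb N4176
/-- A coset. -/ def N6604 : Q := sm ga N4177
/-- A coset. -/ def N6605 : Q := sm gc N4177
/-- A coset. -/ def N6606 : Q := sm gf N4177
/-- A coset. -/ def N6609 : Q := sm gf N4178
/-- A coset. -/ def N6612 : Q := sm gg N4180
/-- A coset. -/ def N6613 : Q := sm ga N4181
/-- A coset. -/ def N6614 : Q := sm gc N4181
/-- A coset. -/ def N6615 : Q := sm gf N4181
/-- A coset. -/ def N6616 : Q := sm gg N4181
/-- A coset. -/ def N6617 : Q := sm ga N4182
/-- A coset. -/ def N6618 : Q := sm gc N4182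
/-- A coset. -/ def N6619 : Q := sm gg N4182
/-- A coset. -/ def N6620 : Q := sm gb N4183
/-- A coset. -/ def N6621 : Q := sm gc N4183
/-- A coset. -/ def N6622 : Q := sm gg N4183
/-- A coset. -/ def N6623 : Q := sm gd N4184
/-- A coset. -/ def N6624 : Q := sm gg N4184
/-- A coset. -/ def N6625 : Q := sm gf N4185
/-- A coset. -/ def N6626 : Q := sm gb N4186
/-- A coset. -/ def N6627 : Q := sm gc N4186
/-- A coset. -/ def N6628 : Q := sm gg N4186
/-- A coset. -/ def N6629 : Q := sm gd N4187
/-- A coset. -/ def N6630 : Q := sm gg N4187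
/-- A coset. -/ def N6631 : Q := sm gb N4188
/-- A coset. -/ def N6632 : Q := sm gf N4188
/-- A coset. -/ def N6633 : Q := sm ga N4189
/-- A coset. -/ def N6634 : Q := sm gc N4189
/-- A coset. -/ def N6635 : Q := sm gf N4189
/-- A coset. -/ def N6636 : Q := sm gb N4190
/-- A coset. -/ def N6637 : Q := sm gc N4190
/-- A coset. -/ def N6639 : Q := sm gd N4191
/-- A coset. -/ def N6641 : Q := sm gb N4192
/-- A coset. -/ def N6642 : Q := sm gg N4192
/-- A coset. -/ def N6643 : Q := sm ga N4193
/-- A coset. -/ def N6644 : Q := sm gc N4193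
/-- A coset. -/ def N6645 : Q := sm gg N4193
/-- A coset. -/ def N6646 : Q := sm ga N4194
/-- A coset. -/ def N6647 : Q := sm gc N4194
/-- A coset. -/ def N6648 : Q := sm gf N4194
/-- A coset. -/ def N6649 : Q := sm gg N4194
/-- A coset. -/ def N6650 : Q := sm gb N4195
/-- A coset. -/ def N6651 : Q := sm gd N4195
/-- A coset. -/ def N6652 : Q := sm gg N4195
/-- A coset. -/ def N6653 : Q := sm gb N4196
/-- A coset. -/ def N6656 : Q := sm gg N4197
/-- A coset. -/ def N6658 : Q := sm gf N4198
/-- A coset. -/ def N6659 : Q := sm ga N4199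
/-- A coset. -/ def N6660 : Q := sm gc N4199
/-- A coset. -/ def N6662 : Q := sm gb N4200
/-- A coset. -/ def N6663 : Q := sm gb N4201
/-- A coset. -/ def N6664 : Q := sm gc N4201
/-- A coset. -/ def N6665 : Q := sm gf N4201
/-- A coset. -/ def N6666 : Q := sm gd N4202
/-- A coset. -/ def N6667 : Q := sm gf N4202
/-- A coset. -/ def N6668 : Q := sm gg N4203
/-- A coset. -/ def N6669 : Q := sm ga N4204
/-- A coset. -/ def N6671 : Q := sm gf N4204
/-- A coset. -/ def N6672 : Q := sm gg N4204
/-- A coset. -/ def N6676 : Q := sm ge N4207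
/-- A coset. -/ def N6677 : Q := sm gf N4207
/-- A coset. -/ def N6679 : Q := sm gg N4208
/-- A coset. -/ def N6681 : Q := sm gc N4209
/-- A coset. -/ def N6682 : Q := sm gg N4209
/-- A coset. -/ def N6684 : Q := sm gb N4211
/-- A coset. -/ def N6685 : Q := sm gc N4211
/-- A coset. -/ def N6687 : Q := sm gd N4212
/-- A coset. -/ def N6689 : Q := sm gf N4213
/-- A coset. -/ def N6690 : Q := sm gf N4214
/-- A coset. -/ def N6691 : Q := sm gg N4214
/-- A coset. -/ def N6693 : Q := sm gf N4215
/-- A coset. -/ def N6694 : Q := sm gg N4215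
/-- A coset. -/ def N6695 : Q := sm gg N4216
/-- A coset. -/ def N6696 : Q := sm gb N4217
/-- A coset. -/ def N6698 : Q := sm gd N4218
/-- A coset. -/ def N6699 : Q := sm gf N4218
/-- A coset. -/ def N6700 : Q := sm gg N4218
/-- A coset. -/ def N6703 : Q := sm gg N4219
/-- A coset. -/ def N6704 : Q := sm gb N4220
/-- A coset. -/ def N6705 : Q := sm ga N4221
/-- A coset. -/ def N6706 : Q := sm gc N4221
/-- A coset. -/ def N6707 : Q := sm gf N4221
/-- A coset. -/ def N6708 : Q := sm gd N4222
/-- A coset. -/ def N6710 : Q := sm gg N4222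
/-- A coset. -/ def N6711 : Q := sm gg N4223
/-- A coset. -/ def N6712 : Q := sm gf N4224
/-- A coset. -/ def N6713 : Q := sm gb N4225
/-- A coset. -/ def N6714 : Q := sm gb N4226
/-- A coset. -/ def N6715 : Q := sm gb N4227
/-- A coset. -/ def N6716 : Q := sm ga N4228
/-- A coset. -/ def N6717 : Q := sm gc N4228
/-- A coset. -/ def N6718 : Q := sm gg N4228
/-- A coset. -/ def N6719 : Q := sm ga N4229
/-- A coset. -/ def N6721 : Q := sm gf N4229
/-- A coset. -/ def N6722 : Q := sm gg N4229
/-- A coset. -/ def N6723 : Q := sm gb N4230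
/-- A coset. -/ def N6724 : Q := sm gb N4231
/-- A coset. -/ def N6726 : Q := sm gf N4232
/-- A coset. -/ def N6727 : Q := sm gg N4232
/-- A coset. -/ def N6729 : Q := sm gf N4233
/-- A coset. -/ def N6730 : Q := sm gg N4233
/-- A coset. -/ def N6731 : Q := sm gb N4234
/-- A coset. -/ def N6732 : Q := sm gg N4234
/-- A coset. -/ def N6733 : Q := sm gf N4235
/-- A coset. -/ def N6734 : Q := sm ga N4236
/-- A coset. -/ def N6735 : Q := sm gc N4236
/-- A coset. -/ def N6736 : Q := sm gg N4236
/-- A coset. -/ def N6737 : Q := sm gb N4237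
/-- A coset. -/ def N6738 : Q := sm gb N4238
/-- A coset. -/ def N6741 : Q := sm gf N4239
/-- A coset. -/ def N6742 : Q := sm ga N4240
/-- A coset. -/ def N6743 : Q := sm gc N4240
/-- A coset. -/ def N6744 : Q := sm gf N4240
/-- A coset. -/ def N6745 : Q := sm gg N4240
/-- A coset. -/ def N6747 : Q := sm gb N4242
/-- A coset. -/ def N6748 : Q := sm gb N4243
/-- A coset. -/ def N6749 : Q := sm gd N4243
/-- A coset. -/ def N6750 : Q := sm gf N4243
/-- A coset. -/ def N6751 : Q := sm gg N4243
/-- A coset. -/ def N6752 : Q := sm gc N4244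
/-- A coset. -/ def N6753 : Q := sm ge N4244
/-- A coset. -/ def N6754 : Q := sm gf N4244
/-- A coset. -/ def N6755 : Q := sm gg N4244
/-- A coset. -/ def N6756 : Q := sm gg N4245
/-- A coset. -/ def N6757 : Q := sm gf N4246
/-- A coset. -/ def N6758 : Q := sm ga N4248
/-- A coset. -/ def N6759 : Q := sm gc N4248
/-- A coset. -/ def N6760 : Q := sm gg N4248
/-- A coset. -/ def N6761 : Q := sm ga N4249
/-- A coset. -/ def N6762 : Q := sm gc N4249
/-- A coset. -/ def N6764 : Q := sm ga N4250
/-- A coset. -/ def N6766 : Q := sm gf N4250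
/-- A coset. -/ def N6767 : Q := sm ga N4251
/-- A coset. -/ def N6768 : Q := sm gc N4251
/-- A coset. -/ def N6769 : Q := sm gg N4251
/-- A coset. -/ def N6770 : Q := sm gb N4252
/-- A coset. -/ def N6771 : Q := sm gg N4252
/-- A coset. -/ def N6772 : Q := sm gb N4253
/-- A coset. -/ def N6774 : Q := sm ga N4254
/-- A coset. -/ def N6775 : Q := sm gc N4254
/-- A coset. -/ def N6776 : Q := sm gg N4254
/-- A coset. -/ def N6777 : Q := sm gb N4255
/-- A coset. -/ def N6778 : Q := sm ga N4256
/-- A coset. -/ def N6779 : Q := sm gc N4256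
/-- A coset. -/ def N6780 : Q := sm gf N4256
/-- A coset. -/ def N6781 : Q := sm gb N4257
/-- A coset. -/ def N6783 : Q := sm gc N4258
/-- A coset. -/ def N6784 : Q := sm gg N4258
/-- A coset. -/ def N6785 : Q := sm ga N4259
/-- A coset. -/ def N6787 : Q := sm gf N4259
/-- A coset. -/ def N6788 : Q := sm gc N4260
/-- A coset. -/ def N6789 : Q := sm gg N4260
/-- A coset. -/ def N6790 : Q := sm gd N4261
/-- A coset. -/ def N6791 : Q := sm gg N4261
/-- A coset. -/ def N6792 : Q := sm gf N4262
/-- A coset. -/ def N6793 : Q := sm gb N4263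
/-- A coset. -/ def N6794 : Q := sm gc N4263
/-- A coset. -/ def N6795 : Q := sm gf N4263
/-- A coset. -/ def N6796 : Q := sm gd N4264
/-- A coset. -/ def N6797 : Q := sm gf N4264
/-- A coset. -/ def N6798 : Q := sm gg N4265
/-- A coset. -/ def N6799 : Q := sm gf N4266
/-- A coset. -/ def N6800 : Q := sm gg N4266
/-- A coset. -/ def N6801 : Q := sm gb N4267
/-- A coset. -/ def N6802 : Q := sm gb N4268
/-- A coset. -/ def N6805 : Q := sm gg N4269
/-- A coset. -/ def N6806 : Q := sm ga N4270
/-- A coset. -/ def N6809 : Q := sm gc N4271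
/-- A coset. -/ def N6810 : Q := sm gd N4272
/-- A coset. -/ def N6811 : Q := sm gg N4272
/-- A coset. -/ def N6812 : Q := sm gb N4273
/-- A coset. -/ def N6813 : Q := sm ga N4274
/-- A coset. -/ def N6814 : Q := sm gc N4274
/-- A coset. -/ def N6815 : Q := sm gf N4274
/-- A coset. -/ def N6816 : Q := sm ga N4275
/-- A coset. -/ def N6819 : Q := sm gf N4276
/-- A coset. -/ def N6820 : Q := sm gd N4277
/-- A coset. -/ def N6821 : Q := sm gc N4278
/-- A coset. -/ def N6822 : Q := sm ge N4278
/-- A coset. -/ def N6823 : Q := sm gg N4278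
/-- A coset. -/ def N6825 : Q := sm ga N4280
/-- A coset. -/ def N6827 : Q := sm gf N4280
/-- A coset. -/ def N6828 : Q := sm gb N4281
/-- A coset. -/ def N6834 : Q := sm gb N4284
/-- A coset. -/ def N6835 : Q := sm gc N4284
/-- A coset. -/ def N6836 : Q := sm gg N4284
/-- A coset. -/ def N6837 : Q := sm gd N4285
/-- A coset. -/ def N6838 : Q := sm gg N4285
/-- A coset. -/ def N6839 : Q := sm gf N4286
/-- A coset. -/ def N6840 : Q := sm ga N4287
/-- A coset. -/ def N6841 : Q := sm gc N4287
/-- A coset. -/ def N6843 : Q := sm gg N4287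
/-- A coset. -/ def N6844 : Q := sm gb N4288
/-- A coset. -/ def N6845 : Q := sm gd N4288
/-- A coset. -/ def N6846 : Q := sm gg N4288
/-- A coset. -/ def N6847 : Q := sm gb N4289
/-- A coset. -/ def N6851 : Q := sm gb N4291
/-- A coset. -/ def N6852 : Q := sm gf N4291
/-- A coset. -/ def N6854 : Q := sm gc N4293
/-- A coset. -/ def N6855 : Q := sm gf N4293
/-- A coset. -/ def N6856 : Q := sm gg N4293
/-- A coset. -/ def N6857 : Q := sm gb N4294
/-- A coset. -/ def N6858 : Q := sm gd N4294
/-- A coset. -/ def N6860 : Q := sm gg N4294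
/-- A coset. -/ def N6862 : Q := sm gb N4296
/-- A coset. -/ def N6863 : Q := sm gf N4296
/-- A coset. -/ def N6864 : Q := sm ga N4297
/-- A coset. -/ def N6865 : Q := sm gd N4297
/-- A coset. -/ def N6866 : Q := sm gg N4297
/-- A coset. -/ def N6867 : Q := sm gc N4298
/-- A coset. -/ def N6868 : Q := sm ge N4298
/-- A coset. -/ def N6869 : Q := sm gg N4298
/-- A coset. -/ def N6870 : Q := sm gb N4299
/-- A coset. -/ def N6871 : Q := sm ga N4300
/-- A coset. -/ def N6872 : Q := sm gc N4300
/-- A coset. -/ def N6873 : Q := sm gf N4300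
/-- A coset. -/ def N6874 : Q := sm gd N4301
/-- A coset. -/ def N6875 : Q := sm ge N4301
/-- A coset. -/ def N6876 : Q := sm gg N4301
/-- A coset. -/ def N6877 : Q := sm gg N4302
/-- A coset. -/ def N6878 : Q := sm gf N4303
/-- A coset. -/ def N6879 : Q := sm gb N4304
/-- A coset. -/ def N6880 : Q := sm ga N4305
/-- A coset. -/ def N6882 : Q := sm gg N4305
/-- A coset. -/ def N6883 : Q := sm gb N4306
/-- A coset. -/ def N6884 : Q := sm gd N4306
/-- A coset. -/ def N6885 : Q := sm gf N4306
/-- A coset. -/ def N6886 : Q := sm gg N4306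
/-- A coset. -/ def N6887 : Q := sm gc N4307
/-- A coset. -/ def N6888 : Q := sm ge N4307
/-- A coset. -/ def N6889 : Q := sm gf N4307
/-- A coset. -/ def N6890 : Q := sm gg N4307
/-- A coset. -/ def N6891 : Q := sm gg N4308
/-- A coset. -/ def N6893 : Q := sm ga N4311
/-- A coset. -/ def N6894 : Q := sm gc N4311
/-- A coset. -/ def N6895 : Q := sm gg N4311
/-- A coset. -/ def N6897 : Q := sm gc N4312
/-- A coset. -/ def N6898 : Q := sm gf N4312
/-- A coset. -/ def N6899 : Q := sm gb N4313
/-- A coset. -/ def N6901 : Q := sm ga N4315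
/-- A coset. -/ def N6903 : Q := sm gc N4316
/-- A coset. -/ def N6904 : Q := sm gf N4316
/-- A coset. -/ def N6905 : Q := sm gb N4317
/-- A coset. -/ def N6906 : Q := sm gd N4318
/-- A coset. -/ def N6907 : Q := sm gb N4319
/-- A coset. -/ def N6908 : Q := sm ga N4320
/-- A coset. -/ def N6909 : Q := sm gc N4320
/-- A coset. -/ def N6910 : Q := sm gf N4320
/-- A coset. -/ def N6911 : Q := sm gc N4321
/-- A coset. -/ def N6912 : Q := sm gd N4322
/-- A coset. -/ def N6914 : Q := sm gb N4323
/-- A coset. -/ def N6915 : Q := sm gc N4325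
/-- A coset. -/ def N6916 : Q := sm gf N4325
/-- A coset. -/ def N6917 : Q := sm gd N4326
/-- A coset. -/ def N6918 : Q := sm gb N4327
/-- A coset. -/ def N6919 : Q := sm gc N4328
/-- A coset. -/ def N6920 : Q := sm ge N4328
/-- A coset. -/ def N6921 : Q := sm gg N4328
/-- A coset. -/ def N6922 : Q := sm ga N4331
/-- A coset. -/ def N6923 : Q := sm gc N4331
/-- A coset. -/ def N6924 : Q := sm gf N4331
/-- A coset. -/ def N6925 : Q := sm gb N4332
/-- A coset. -/ def N6926 : Q := sm gd N4332
/-- A coset. -/ def N6931 : Q := sm gb N4335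
/-- A coset. -/ def N6932 : Q := sm gg N4335
/-- A coset. -/ def N6933 : Q := sm gc N4337
/-- A coset. -/ def N6934 : Q := sm gf N4337
/-- A coset. -/ def N6935 : Q := sm gd N4338
/-- A coset. -/ def N6936 : Q := sm gf N4338
/-- A coset. -/ def N6937 : Q := sm gg N4338
/-- A coset. -/ def N6938 : Q := sm gg N4339
/-- A coset. -/ def N6939 : Q := sm gf N4340
/-- A coset. -/ def N6940 : Q := sm gd N4341
/-- A coset. -/ def N6941 : Q := sm gg N4341
/-- A coset. -/ def N6942 : Q := sm ge N4342
/-- A coset. -/ def N6946 : Q := sm gb N4345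
/-- A coset. -/ def N6947 : Q := sm ga N4346
/-- A coset. -/ def N6949 : Q := sm gf N4346
/-- A coset. -/ def N6953 : Q := sm gc N4350
/-- A coset. -/ def N6963 : Q := sm gf N4356
/-- A coset. -/ def N6964 : Q := sm gf N4357
/-- A coset. -/ def N6966 : Q := sm gb N4360
/-- A coset. -/ def N6967 : Q := sm gc N4360
/-- A coset. -/ def N6968 : Q := sm gd N4361
/-- A coset. -/ def N6970 : Q := sm ga N4363
/-- A coset. -/ def N6971 : Q := sm gc N4363
/-- A coset. -/ def N6972 : Q := sm gf N4363
/-- A coset. -/ def N6973 : Q := sm gb N4364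
/-- A coset. -/ def N6974 : Q := sm gd N4364
/-- A coset. -/ def N6975 : Q := sm gg N4364
/-- A coset. -/ def N6977 : Q := sm ge N4366
/-- A coset. -/ def N6979 : Q := sm gb N4367
/-- A coset. -/ def N6981 : Q := sm gb N4369
/-- A coset. -/ def N6982 : Q := sm gd N4369
/-- A coset. -/ def N6983 : Q := sm gf N4369
/-- A coset. -/ def N6984 : Q := sm gg N4369
/-- A coset. -/ def N6985 : Q := sm gb N4370
/-- A coset. -/ def N6986 : Q := sm gb N4371
/-- A coset. -/ def N6987 : Q := sm ga N4372
/-- A coset. -/ def N6988 : Q := sm gd N4372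
/-- A coset. -/ def N6989 : Q := sm gf N4372
/-- A coset. -/ def N6990 : Q := sm gg N4372
/-- A coset. -/ def N6993 : Q := sm gf N4373
/-- A coset. -/ def N6994 : Q := sm gg N4373
/-- A coset. -/ def N6995 : Q := sm gb N4374
/-- A coset. -/ def N6997 : Q := sm gb N4375
/-- A coset. -/ def N6998 : Q := sm gf N4375
/-- A coset. -/ def N6999 : Q := sm ga N4377
/-- A coset. -/ def N7000 : Q := sm gc N4377
/-- A coset. -/ def N7001 : Q := sm gf N4377
/-- A coset. -/ def N7002 : Q := sm gb N4378
/-- A coset. -/ def N7004 : Q := sm gf N4379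
/-- A coset. -/ def N7005 : Q := sm gg N4379
/-- A coset. -/ def N7006 : Q := sm gc N4380
/-- A coset. -/ def N7007 : Q := sm ge N4380
/-- A coset. -/ def N7008 : Q := sm gf N4380
/-- A coset. -/ def N7009 : Q := sm gg N4380
/-- A coset. -/ def N7010 : Q := sm gg N4381
/-- A coset. -/ def N7011 : Q := sm gb N4382
/-- A coset. -/ def N7012 : Q := sm gf N4382
/-- A coset. -/ def N7013 : Q := sm gg N4383
/-- A coset. -/ def N7014 : Q := sm gb N4384
/-- A coset. -/ def N7015 : Q := sm ga N4385
/-- A coset. -/ def N7016 : Q := sm gc N4385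
/-- A coset. -/ def N7017 : Q := sm gf N4385
/-- A coset. -/ def N7018 : Q := sm gb N4386
/-- A coset. -/ def N7019 : Q := sm gc N4386
/-- A coset. -/ def N7020 : Q := sm gf N4386
/-- A coset. -/ def N7021 : Q := sm gd N4387
/-- A coset. -/ def N7023 : Q := sm ga N4389
/-- A coset. -/ def N7024 : Q := sm ge N4389
/-- A coset. -/ def N7025 : Q := sm gf N4389
/-- A coset. -/ def N7026 : Q := sm gg N4389
/-- A coset. -/ def N7027 : Q := sm gd N4390
/-- A coset. -/ def N7028 : Q := sm gg N4390
/-- A coset. -/ def N7030 : Q := sm gb N4392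
/-- A coset. -/ def N7031 : Q := sm gf N4392
/-- A coset. -/ def N7032 : Q := sm ga N4393
/-- A coset. -/ def N7033 : Q := sm gc N4393
/-- A coset. -/ def N7034 : Q := sm gf N4393
/-- A coset. -/ def N7035 : Q := sm gb N4394
/-- A coset. -/ def N7036 : Q := sm gb N4395
/-- A coset. -/ def N7037 : Q := sm gb N4396
/-- A coset. -/ def N7038 : Q := sm ga N4397
/-- A coset. -/ def N7039 : Q := sm gc N4397
/-- A coset. -/ def N7041 : Q := sm gc N4398
/-- A coset. -/ def N7043 : Q := sm gd N4399
/-- A coset. -/ def N7044 : Q := sm gg N4399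
/-- A coset. -/ def N7047 : Q := sm gb N4403
/-- A coset. -/ def N7048 : Q := sm gb N4404
/-- A coset. -/ def N7049 : Q := sm gd N4405
/-- A coset. -/ def N7050 : Q := sm gc N4407
/-- A coset. -/ def N7051 : Q := sm gg N4407
/-- A coset. -/ def N7052 : Q := sm gb N4408
/-- A coset. -/ def N7053 : Q := sm gd N4408
/-- A coset. -/ def N7054 : Q := sm gc N4409
/-- A coset. -/ def N7055 : Q := sm ge N4409
/-- A coset. -/ def N7056 : Q := sm gg N4409
/-- A coset. -/ def N7058 : Q := sm ga N4411
/-- A coset. -/ def N7059 : Q := sm gc N4411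
/-- A coset. -/ def N7061 : Q := sm gc N4412
/-- A coset. -/ def N7062 : Q := sm gf N4412
/-- A coset. -/ def N7063 : Q := sm gd N4413
/-- A coset. -/ def N7066 : Q := sm gf N4415
/-- A coset. -/ def N7067 : Q := sm gg N4415
/-- A coset. -/ def N7068 : Q := sm gb N4416
/-- A coset. -/ def N7069 : Q := sm gd N4416
/-- A coset. -/ def N7070 : Q := sm gf N4416
/-- A coset. -/ def N7071 : Q := sm gg N4416
/-- A coset. -/ def N7072 : Q := sm gg N4417
/-- A coset. -/ def N7073 : Q := sm gb N4418
/-- A coset. -/ def N7074 : Q := sm ga N4419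
/-- A coset. -/ def N7075 : Q := sm gd N4419
/-- A coset. -/ def N7076 : Q := sm gf N4419
/-- A coset. -/ def N7077 : Q := sm gg N4419
/-- A coset. -/ def N7078 : Q := sm ge N4420
/-- A coset. -/ def N7079 : Q := sm gg N4420
/-- A coset. -/ def N7080 : Q := sm gb N4421
/-- A coset. -/ def N7081 : Q := sm gc N4422
/-- A coset. -/ def N7083 : Q := sm ge N4423
/-- A coset. -/ def N7084 : Q := sm gg N4423
/-- A coset. -/ def N7085 : Q := sm gg N4424
/-- A coset. -/ def N7086 : Q := sm gf N4425
/-- A coset. -/ def N7087 : Q := sm gb N4426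
/-- A coset. -/ def N7091 : Q := sm gd N4428
/-- A coset. -/ def N7092 : Q := sm gf N4428
/-- A coset. -/ def N7093 : Q := sm gg N4428
/-- A coset. -/ def N7094 : Q := sm gc N4429
/-- A coset. -/ def N7095 : Q := sm ge N4429
/-- A coset. -/ def N7096 : Q := sm gf N4429
/-- A coset. -/ def N7097 : Q := sm gg N4429
/-- A coset. -/ def N7098 : Q := sm gg N4430
/-- A coset. -/ def N7099 : Q := sm gf N4431
/-- A coset. -/ def N7100 : Q := sm gd N4433
/-- A coset. -/ def N7101 : Q := sm gf N4433
/-- A coset. -/ def N7102 : Q := sm gg N4433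
/-- A coset. -/ def N7103 : Q := sm gc N4434
/-- A coset. -/ def N7104 : Q := sm ge N4434
/-- A coset. -/ def N7105 : Q := sm gf N4434
/-- A coset. -/ def N7106 : Q := sm gg N4434
/-- A coset. -/ def N7107 : Q := sm gb N4435
/-- A coset. -/ def N7108 : Q := sm gb N4436
/-- A coset. -/ def N7109 : Q := sm gd N4437
/-- A coset. -/ def N7110 : Q := sm ge N4437
/-- A coset. -/ def N7111 : Q := sm gf N4437
/-- A coset. -/ def N7112 : Q := sm gg N4437
/-- A coset. -/ def N7113 : Q := sm gf N4438
/-- A coset. -/ def N7114 : Q := sm gg N4438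
/-- A coset. -/ def N7115 : Q := sm gg N4439
/-- A coset. -/ def N7116 : Q := sm gf N4440
/-- A coset. -/ def N7117 : Q := sm gb N4441
/-- A coset. -/ def N7118 : Q := sm gb N4442
/-- A coset. -/ def N7121 : Q := sm gf N4443
/-- A coset. -/ def N7123 : Q := sm gf N4444
/-- A coset. -/ def N7126 : Q := sm gf N4446
/-- A coset. -/ def N7127 : Q := sm ga N4447
/-- A coset. -/ def N7128 : Q := sm gc N4447
/-- A coset. -/ def N7129 : Q := sm gf N4447
/-- A coset. -/ def N7130 : Q := sm gb N4448
/-- A coset. -/ def N7131 : Q := sm gb N4449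
/-- A coset. -/ def N7132 : Q := sm gc N4449
/-- A coset. -/ def N7133 : Q := sm gf N4449
/-- A coset. -/ def N7134 : Q := sm gd N4450
/-- A coset. -/ def N7135 : Q := sm gf N4450
/-- A coset. -/ def N7136 : Q := sm gb N4451
/-- A coset. -/ def N7137 : Q := sm gg N4451
/-- A coset. -/ def N7138 : Q := sm ga N4452
/-- A coset. -/ def N7139 : Q := sm gc N4452
/-- A coset. -/ def N7140 : Q := sm gg N4452
/-- A coset. -/ def N7141 : Q := sm gf N4453
/-- A coset. -/ def N7143 : Q := sm gb N4454
/-- A coset. -/ def N7144 : Q := sm gg N4455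
/-- A coset. -/ def N7145 : Q := sm gb N4456
/-- A coset. -/ def N7146 : Q := sm gg N4457
/-- A coset. -/ def N7147 : Q := sm gf N4458
/-- A coset. -/ def N7148 : Q := sm gb N4459
/-- A coset. -/ def N7149 : Q := sm gd N4459
/-- A coset. -/ def N7150 : Q := sm gf N4459
/-- A coset. -/ def N7151 : Q := sm gg N4459
/-- A coset. -/ def N7152 : Q := sm gc N4460
/-- A coset. -/ def N7153 : Q := sm ge N4460
/-- A coset. -/ def N7154 : Q := sm gf N4460
/-- A coset. -/ def N7155 : Q := sm gg N4460
/-- A coset. -/ def N7156 : Q := sm gg N4461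
/-- A coset. -/ def N7157 : Q := sm gf N4462
/-- A coset. -/ def N7166 : Q := sm gg N4466
/-- A coset. -/ def N7168 : Q := sm gd N4468
/-- A coset. -/ def N7169 : Q := sm ge N4468
/-- A coset. -/ def N7172 : Q := sm gc N4469
/-- A coset. -/ def N7173 : Q := sm ge N4469
/-- A coset. -/ def N7174 : Q := sm gf N4469
/-- A coset. -/ def N7175 : Q := sm gg N4469
/-- A coset. -/ def N7176 : Q := sm gd N4470
/-- A coset. -/ def N7177 : Q := sm gf N4470
/-- A coset. -/ def N7178 : Q := sm gg N4470
/-- A coset. -/ def N7188 : Q := sm gf N4476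
/-- A coset. -/ def N7196 : Q := sm gf N4481
/-- A coset. -/ def N7199 : Q := sm gf N4484
/-- A coset. -/ def N7200 : Q := sm gg N4484
/-- A coset. -/ def N7203 : Q := sm gb N4486
/-- A coset. -/ def N7204 : Q := sm gf N4486
/-- A coset. -/ def N7205 : Q := sm ga N4487
/-- A coset. -/ def N7207 : Q := sm gg N4487
/-- A coset. -/ def N7208 : Q := sm gb N4488
/-- A coset. -/ def N7209 : Q := sm gf N4489
/-- A coset. -/ def N7210 : Q := sm gb N4490
/-- A coset. -/ def N7211 : Q := sm gb N4491
/-- A coset. -/ def N7212 : Q := sm gb N4492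
/-- A coset. -/ def N7213 : Q := sm gb N4493
/-- A coset. -/ def N7216 : Q := sm gc N4495
/-- A coset. -/ def N7217 : Q := sm gg N4495
/-- A coset. -/ def N7218 : Q := sm ga N4496
/-- A coset. -/ def N7219 : Q := sm gc N4496
/-- A coset. -/ def N7220 : Q := sm gf N4496
/-- A coset. -/ def N7221 : Q := sm gb N4497
/-- A coset. -/ def N7224 : Q := sm gd N4498
/-- A coset. -/ def N7225 : Q := sm gg N4498
/-- A coset. -/ def N7226 : Q := sm gf N4499
/-- A coset. -/ def N7227 : Q := sm gb N4500
/-- A coset. -/ def N7228 : Q := sm gf N4500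
/-- A coset. -/ def N7229 : Q := sm gd N4501
/-- A coset. -/ def N7231 : Q := sm gc N4503
/-- A coset. -/ def N7233 : Q := sm gb N4504
/-- A coset. -/ def N7235 : Q := sm gf N4505
/-- A coset. -/ def N7237 : Q := sm ga N4507
/-- A coset. -/ def N7238 : Q := sm gc N4507
/-- A coset. -/ def N7239 : Q := sm gg N4507
/-- A coset. -/ def N7240 : Q := sm gb N4508
/-- A coset. -/ def N7241 : Q := sm ga N4509
/-- A coset. -/ def N7242 : Q := sm gc N4509
/-- A coset. -/ def N7244 : Q := sm gb N4510
/-- A coset. -/ def N7245 : Q := sm gb N4511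
/-- A coset. -/ def N7246 : Q := sm gc N4511
/-- A coset. -/ def N7247 : Q := sm gd N4512
/-- A coset. -/ def N7248 : Q := sm gg N4512
/-- A coset. -/ def N7251 : Q := sm gc N4514
/-- A coset. -/ def N7254 : Q := sm gc N4515
/-- A coset. -/ def N7255 : Q := sm gd N4516
/-- A coset. -/ def N7257 : Q := sm gb N4517
/-- A coset. -/ def N7258 : Q := sm ga N4518
/-- A coset. -/ def N7259 : Q := sm gc N4518
/-- A coset. -/ def N7260 : Q := sm gg N4518
/-- A coset. -/ def N7261 : Q := sm gg N4519
/-- A coset. -/ def N7262 : Q := sm gb N4520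
/-- A coset. -/ def N7263 : Q := sm gd N4520
/-- A coset. -/ def N7264 : Q := sm gc N4521
/-- A coset. -/ def N7265 : Q := sm ge N4521
/-- A coset. -/ def N7276 : Q := sm gg N4526
/-- A coset. -/ def N7277 : Q := sm ga N4527
/-- A coset. -/ def N7279 : Q := sm gf N4527
/-- A coset. -/ def N7281 : Q := sm ga N4528
/-- A coset. -/ def N7282 : Q := sm gc N4528
/-- A coset. -/ def N7283 : Q := sm gg N4528
/-- A coset. -/ def N7284 : Q := sm gb N4529

end Cfsg.Agent.Helper28.SuzA
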