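import Cfsg.Agent.Helper28.SuzB0

/-! # The Suzuki group presentation, cosets of the subgroup generated by a, …, f: the coset enumeration, part 1 (helper28; generated) -/

set_option autoImplicit false

noncomputable section

namespace Cfsg.Agent.Helper28.SuzA

open Cfsg.Agent.Helper28.CosetTable

/-- A coset. -/ def N7285 : Q := sm gc N4529
/-- A coset. -/ def N7286 : Q := sm gg N4529
/-- A coset. -/ def N7288 : Q := sm gg N4530
/-- A coset. -/ def N7289 : Q := sm gf N4531
/-- A coset. -/ def N7290 : Q := sm gb N4532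
/-- A coset. -/ def N7291 : Q := sm gc N4532
/-- A coset. -/ def N7292 : Q := sm gg N4532
/-- A coset. -/ def N7293 : Q := sm gd N4533
/-- A coset. -/ def N7294 : Q := sm gg N4533
/-- A coset. -/ def N7295 : Q := sm gf N4534
/-- A coset. -/ def N7296 : Q := sm gb N4535
/-- A coset. -/ def N7299 : Q := sm gd N4536
/-- A coset. -/ def N7301 : Q := sm gg N4537
/-- A coset. -/ def N7304 : Q := sm gf N4538
/-- A coset. -/ def N7306 : Q := sm gb N4539
/-- A coset. -/ def N7307 : Q := sm gd N4539
/-- A coset. -/ def N7308 : Q := sm gg N4539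
/-- A coset. -/ def N7309 : Q := sm gb N4540
/-- A coset. -/ def N7310 : Q := sm gc N4541
/-- A coset. -/ def N7311 : Q := sm ge N4541
/-- A coset. -/ def N7312 : Q := sm gg N4541
/-- A coset. -/ def N7313 : Q := sm gb N4542
/-- A coset. -/ def N7314 : Q := sm gf N4542
/-- A coset. -/ def N7315 : Q := sm gb N4543
/-- A coset. -/ def N7319 : Q := sm gg N4544
/-- A coset. -/ def N7323 : Q := sm gb N4546
/-- A coset. -/ def N7325 : Q := sm ge N4547
/-- A coset. -/ def N7328 : Q := sm gg N4548
/-- A coset. -/ def N7330 : Q := sm gf N4550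
/-- A coset. -/ def N7331 : Q := sm gg N4550
/-- A coset. -/ def N7333 : Q := sm gf N4551
/-- A coset. -/ def N7334 : Q := sm gg N4551
/-- A coset. -/ def N7335 : Q := sm gg N4552
/-- A coset. -/ def N7336 : Q := sm gb N4553
/-- A coset. -/ def N7337 : Q := sm gf N4553
/-- A coset. -/ def N7338 : Q := sm gd N4554
/-- A coset. -/ def N7339 : Q := sm gf N4554
/-- A coset. -/ def N7340 : Q := sm gg N4554
/-- A coset. -/ def N7341 : Q := sm gc N4555
/-- A coset. -/ def N7342 : Q := sm ge N4555
/-- A coset. -/ def N7343 : Q := sm gg N4555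
/-- A coset. -/ def N7344 : Q := sm gb N4556
/-- A coset. -/ def N7348 : Q := sm gd N4558
/-- A coset. -/ def N7349 : Q := sm ge N4558
/-- A coset. -/ def N7350 : Q := sm gg N4558
/-- A coset. -/ def N7351 : Q := sm gg N4559
/-- A coset. -/ def N7352 : Q := sm gb N4560
/-- A coset. -/ def N7354 : Q := sm ga N4561
/-- A coset. -/ def N7356 : Q := sm gb N4562
/-- A coset. -/ def N7359 : Q := sm gg N4563
/-- A coset. -/ def N7360 : Q := sm gc N4564
/-- A coset. -/ def N7361 : Q := sm gf N4564
/-- A coset. -/ def N7362 : Q := sm gg N4564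
/-- A coset. -/ def N7363 : Q := sm gd N4565
/-- A coset. -/ def N7366 : Q := sm gb N4566
/-- A coset. -/ def N7368 : Q := sm gf N4567
/-- A coset. -/ def N7369 : Q := sm ga N4568
/-- A coset. -/ def N7372 : Q := sm gf N4569
/-- A coset. -/ def N7374 : Q := sm gf N4570
/-- A coset. -/ def N7378 : Q := sm gf N4571
/-- A coset. -/ def N7379 : Q := sm gg N4571
/-- A coset. -/ def N7380 : Q := sm gg N4572
/-- A coset. -/ def N7381 : Q := sm gf N4573
/-- A coset. -/ def N7382 : Q := sm gb N4575
/-- A coset. -/ def N7383 : Q := sm ga N4576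
/-- A coset. -/ def N7388 : Q := sm gg N4578
/-- A coset. -/ def N7389 : Q := sm gb N4579
/-- A coset. -/ def N7390 : Q := sm gd N4579
/-- A coset. -/ def N7391 : Q := sm gf N4579
/-- A coset. -/ def N7392 : Q := sm gg N4579
/-- A coset. -/ def N7393 : Q := sm gc N4580
/-- A coset. -/ def N7394 : Q := sm ge N4580
/-- A coset. -/ def N7395 : Q := sm gf N4580
/-- A coset. -/ def N7396 : Q := sm gg N4580
/-- A coset. -/ def N7397 : Q := sm gg N4581
/-- A coset. -/ def N7398 : Q := sm gf N4582
/-- A coset. -/ def N7399 : Q := sm ga N4584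
/-- A coset. -/ def N7400 : Q := sm gg N4584
/-- A coset. -/ def N7401 : Q := sm gf N4585
/-- A coset. -/ def N7402 : Q := sm ga N4586
/-- A coset. -/ def N7403 : Q := sm gc N4586
/-- A coset. -/ def N7404 : Q := sm gc N4587
/-- A coset. -/ def N7405 : Q := sm gb N4588
/-- A coset. -/ def N7408 : Q := sm gf N4589
/-- A coset. -/ def N7409 : Q := sm ga N4590
/-- A coset. -/ def N7411 : Q := sm gg N4590
/-- A coset. -/ def N7412 : Q := sm gb N4591
/-- A coset. -/ def N7413 : Q := sm ga N4592
/-- A coset. -/ def N7415 : Q := sm gf N4592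
/-- A coset. -/ def N7418 : Q := sm gg N4595
/-- A coset. -/ def N7423 : Q := sm gb N4598
/-- A coset. -/ def N7424 : Q := sm gc N4598
/-- A coset. -/ def N7425 : Q := sm gd N4599
/-- A coset. -/ def N7426 : Q := sm gf N4599
/-- A coset. -/ def N7431 : Q := sm ga N4602
/-- A coset. -/ def N7432 : Q := sm gc N4602
/-- A coset. -/ def N7433 : Q := sm gg N4602
/-- A coset. -/ def N7434 : Q := sm ga N4603
/-- A coset. -/ def N7436 : Q := sm gf N4603
/-- A coset. -/ def N7439 : Q := sm gg N4604
/-- A coset. -/ def N7440 : Q := sm gd N4605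
/-- A coset. -/ def N7442 : Q := sm gf N4606
/-- A coset. -/ def N7443 : Q := sm gb N4607
/-- A coset. -/ def N7445 : Q := sm gf N4607
/-- A coset. -/ def N7448 : Q := sm gg N4609
/-- A coset. -/ def N7449 : Q := sm ga N4610
/-- A coset. -/ def N7450 : Q := sm gc N4610
/-- A coset. -/ def N7451 : Q := sm gf N4610
/-- A coset. -/ def N7453 : Q := sm gd N4611
/-- A coset. -/ def N7454 : Q := sm gg N4611
/-- A coset. -/ def N7455 : Q := sm gb N4612
/-- A coset. -/ def N7456 : Q := sm gc N4613
/-- A coset. -/ def N7457 : Q := sm ge N4613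
/-- A coset. -/ def N7458 : Q := sm gg N4613
/-- A coset. -/ def N7461 : Q := sm gg N4616
/-- A coset. -/ def N7462 : Q := sm gb N4617
/-- A coset. -/ def N7464 : Q := sm gf N4617
/-- A coset. -/ def N7465 : Q := sm gb N4618
/-- A coset. -/ def N7469 : Q := sm gb N4620
/-- A coset. -/ def N7470 : Q := sm gg N4620
/-- A coset. -/ def N7471 : Q := sm ga N4622
/-- A coset. -/ def N7474 : Q := sm gb N4623
/-- A coset. -/ def N7475 : Q := sm ga N4624
/-- A coset. -/ def N7476 : Q := sm gc N4624
/-- A coset. -/ def N7477 : Q := sm gf N4624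
/-- A coset. -/ def N7484 : Q := sm gc N4628
/-- A coset. -/ def N7485 : Q := sm gf N4628
/-- A coset. -/ def N7493 : Q := sm gf N4632
/-- A coset. -/ def N7495 : Q := sm gc N4633
/-- A coset. -/ def N7496 : Q := sm gf N4633
/-- A coset. -/ def N7499 : Q := sm gf N4634
/-- A coset. -/ def N7501 : Q := sm gf N4635
/-- A coset. -/ def N7502 : Q := sm gb N4636
/-- A coset. -/ def N7505 : Q := sm gc N4637
/-- A coset. -/ def N7506 : Q := sm gg N4637
/-- A coset. -/ def N7508 : Q := sm gc N4638
/-- A coset. -/ def N7511 : Q := sm gb N4640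
/-- A coset. -/ def N7513 : Q := sm gc N4641
/-- A coset. -/ def N7514 : Q := sm gf N4641
/-- A coset. -/ def N7520 : Q := sm ga N4645
/-- A coset. -/ def N7526 : Q := sm gg N4646
/-- A coset. -/ def N7528 : Q := sm gd N4647
/-- A coset. -/ def N7533 : Q := sm ga N4650
/-- A coset. -/ def N7535 : Q := sm gf N4650
/-- A coset. -/ def N7536 : Q := sm gb N4651
/-- A coset. -/ def N7538 : Q := sm gf N4651
/-- A coset. -/ def N7542 : Q := sm gc N4654
/-- A coset. -/ def N7548 : Q := sm ga N4658
/-- A coset. -/ def N7549 : Q := sm gc N4658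
/-- A coset. -/ def N7550 : Q := sm gg N4658
/-- A coset. -/ def N7553 : Q := sm gg N4659
/-- A coset. -/ def N7557 : Q := sm gc N4662
/-- A coset. -/ def N7558 : Q := sm gf N4662
/-- A coset. -/ def N7559 : Q := sm gg N4662
/-- A coset. -/ def N7562 : Q := sm gg N4663
/-- A coset. -/ def N7564 : Q := sm gf N4665
/-- A coset. -/ def N7565 : Q := sm gb N4666
/-- A coset. -/ def N7566 : Q := sm gc N4666
/-- A coset. -/ def N7568 : Q := sm gf N4667
/-- A coset. -/ def N7569 : Q := sm ga N4669
/-- A coset. -/ def N7572 : Q := sm gf N4670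
/-- A coset. -/ def N7576 : Q := sm gb N4673
/-- A coset. -/ def N7577 : Q := sm gg N4673
/-- A coset. -/ def N7579 : Q := sm gb N4679
/-- A coset. -/ def N7580 : Q := sm gc N4679
/-- A coset. -/ def N7583 : Q := sm ga N4682
/-- A coset. -/ def N7584 : Q := sm gc N4682
/-- A coset. -/ def N7585 : Q := sm gf N4682
/-- A coset. -/ def N7587 : Q := sm gd N4683
/-- A coset. -/ def N7590 : Q := sm ge N4685
/-- A coset. -/ def N7593 : Q := sm gf N4686
/-- A coset. -/ def N7594 : Q := sm gb N4687
/-- A coset. -/ def N7595 : Q := sm ga N4688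
/-- A coset. -/ def N7598 : Q := sm ga N4689
/-- A coset. -/ def N7599 : Q := sm gc N4689
/-- A coset. -/ def N7600 : Q := sm gf N4689
/-- A coset. -/ def N7601 : Q := sm gf N4690
/-- A coset. -/ def N7602 : Q := sm gg N4690
/-- A coset. -/ def N7603 : Q := sm gb N4691
/-- A coset. -/ def N7605 : Q := sm ga N4693
/-- A coset. -/ def N7607 : Q := sm gg N4693
/-- A coset. -/ def N7608 : Q := sm ga N4694
/-- A coset. -/ def N7610 : Q := sm gf N4694
/-- A coset. -/ def N7611 : Q := sm gb N4695
/-- A coset. -/ def N7612 : Q := sm gc N4695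
/-- A coset. -/ def N7613 : Q := sm gd N4696
/-- A coset. -/ def N7614 : Q := sm gg N4696
/-- A coset. -/ def N7619 : Q := sm gb N4699
/-- A coset. -/ def N7624 : Q := sm ga N4702
/-- A coset. -/ def N7628 : Q := sm gc N4703
/-- A coset. -/ def N7630 : Q := sm ga N4704
/-- A coset. -/ def N7632 : Q := sm gf N4704
/-- A coset. -/ def N7634 : Q := sm gc N4705
/-- A coset. -/ def N7635 : Q := sm gg N4705
/-- A coset. -/ def N7641 : Q := sm gf N4708
/-- A coset. -/ def N7643 : Q := sm gf N4709
/-- A coset. -/ def N7647 : Q := sm gf N4711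
/-- A coset. -/ def N7648 : Q := sm gg N4711
/-- A coset. -/ def N7651 : Q := sm gg N4712
/-- A coset. -/ def N7654 : Q := sm ge N4714
/-- A coset. -/ def N7656 : Q := sm gb N4715
/-- A coset. -/ def N7658 : Q := sm gb N4716
/-- A coset. -/ def N7674 : Q := sm gc N4723
/-- A coset. -/ def N7678 : Q := sm gd N4724
/-- A coset. -/ def N7679 : Q := sm gg N4724
/-- A coset. -/ def N7680 : Q := sm gb N4725
/-- A coset. -/ def N7681 : Q := sm gc N4726
/-- A coset. -/ def N7684 : Q := sm gb N4727
/-- A coset. -/ def N7685 : Q := sm gf N4727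
/-- A coset. -/ def N7686 : Q := sm ga N4728
/-- A coset. -/ def N7687 : Q := sm gc N4728
/-- A coset. -/ def N7688 : Q := sm gf N4728
/-- A coset. -/ def N7690 : Q := sm gb N4730
/-- A coset. -/ def N7691 : Q := sm gc N4730
/-- A coset. -/ def N7692 : Q := sm gf N4730
/-- A coset. -/ def N7693 : Q := sm gd N4731
/-- A coset. -/ def N7694 : Q := sm gf N4731
/-- A coset. -/ def N7695 : Q := sm gg N4732
/-- A coset. -/ def N7699 : Q := sm gg N4733
/-- A coset. -/ def N7707 : Q := sm gb N4737
/-- A coset. -/ def N7709 : Q := sm ga N4738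
/-- A coset. -/ def N7711 : Q := sm gg N4738
/-- A coset. -/ def N7714 : Q := sm gc N4740
/-- A coset. -/ def N7715 : Q := sm gg N4740
/-- A coset. -/ def N7719 : Q := sm gc N4743
/-- A coset. -/ def N7720 : Q := sm gf N4743
/-- A coset. -/ def N7728 : Q := sm gf N4746
/-- A coset. -/ def N7736 : Q := sm ga N4750
/-- A coset. -/ def N7738 : Q := sm gf N4750
/-- A coset. -/ def N7739 : Q := sm gb N4751
/-- A coset. -/ def N7740 : Q := sm ge N4751
/-- A coset. -/ def N7741 : Q := sm gg N4751
/-- A coset. -/ def N7742 : Q := sm gg N4752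
/-- A coset. -/ def N7744 : Q := sm gf N4753
/-- A coset. -/ def N7745 : Q := sm ga N4754
/-- A coset. -/ def N7746 : Q := sm gc N4754
/-- A coset. -/ def N7747 : Q := sm gf N4754
/-- A coset. -/ def N7749 : Q := sm gb N4756
/-- A coset. -/ def N7750 : Q := sm gc N4756
/-- A coset. -/ def N7751 : Q := sm gd N4757
/-- A coset. -/ def N7752 : Q := sm gf N4757
/-- A coset. -/ def N7754 : Q := sm ga N4759
/-- A coset. -/ def N7761 : Q := sm gb N4761
/-- A coset. -/ def N7762 : Q := sm gd N4761
/-- A coset. -/ def N7763 : Q := sm gf N4761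
/-- A coset. -/ def N7765 : Q := sm gc N4763
/-- A coset. -/ def N7767 : Q := sm gf N4763
/-- A coset. -/ def N7769 : Q := sm gg N4764
/-- A coset. -/ def N7794 : Q := sm ga N4776
/-- A coset. -/ def N7799 : Q := sm gc N4778
/-- A coset. -/ def N7801 : Q := sm gg N4779
/-- A coset. -/ def N7812 : Q := sm gg N4783
/-- A coset. -/ def N7819 : Q := sm gb N4787
/-- A coset. -/ def N7823 : Q := sm gb N4789
/-- A coset. -/ def N7824 : Q := sm gb N4790
/-- A coset. -/ def N7829 : Q := sm gb N4792
/-- A coset. -/ def N7830 : Q := sm gg N4792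
/-- A coset. -/ def N7833 : Q := sm gb N4794
/-- A coset. -/ def N7834 : Q := sm ga N4795
/-- A coset. -/ def N7836 : Q := sm gf N4795
/-- A coset. -/ def N7837 : Q := sm gb N4796
/-- A coset. -/ def N7838 : Q := sm gb N4797
/-- A coset. -/ def N7840 : Q := sm gf N4797
/-- A coset. -/ def N7842 : Q := sm gf N4798
/-- A coset. -/ def N7843 : Q := sm ga N4800
/-- A coset. -/ def N7844 : Q := sm gc N4800
/-- A coset. -/ def N7845 : Q := sm gf N4800
/-- A coset. -/ def N7846 : Q := sm gg N4800
/-- A coset. -/ def N7847 : Q := sm gb N4801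
/-- A coset. -/ def N7848 : Q := sm gd N4801
/-- A coset. -/ def N7849 : Q := sm gc N4802
/-- A coset. -/ def N7850 : Q := sm ge N4802
/-- A coset. -/ def N7851 : Q := sm gf N4802
/-- A coset. -/ def N7852 : Q := sm gb N4803
/-- A coset. -/ def N7859 : Q := sm gf N4807
/-- A coset. -/ def N7861 : Q := sm gf N4808
/-- A coset. -/ def N7862 : Q := sm gg N4808
/-- A coset. -/ def N7863 : Q := sm gb N4809
/-- A coset. -/ def N7869 : Q := sm ga N4812
/-- A coset. -/ def N7870 : Q := sm gd N4812
/-- A coset. -/ def N7871 : Q := sm gf N4812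
/-- A coset. -/ def N7872 : Q := sm gg N4812
/-- A coset. -/ def N7873 : Q := sm gc N4813
/-- A coset. -/ def N7878 : Q := sm gd N4816
/-- A coset. -/ def N7881 : Q := sm gf N4817
/-- A coset. -/ def N7882 : Q := sm gb N4818
/-- A coset. -/ def N7884 : Q := sm ga N4819
/-- A coset. -/ def N7885 : Q := sm gg N4819
/-- A coset. -/ def N7890 : Q := sm gb N4822
/-- A coset. -/ def N7892 : Q := sm gf N4822
/-- A coset. -/ def N7893 : Q := sm gg N4822
/-- A coset. -/ def N7894 : Q := sm gb N4823
/-- A coset. -/ def N7895 : Q := sm gb N4824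
/-- A coset. -/ def N7902 : Q := sm gf N4827
/-- A coset. -/ def N7905 : Q := sm gg N4828
/-- A coset. -/ def N7906 : Q := sm gb N4830
/-- A coset. -/ def N7907 : Q := sm gb N4831
/-- A coset. -/ def N7911 : Q := sm ga N4834
/-- A coset. -/ def N7912 : Q := sm gc N4834
/-- A coset. -/ def N7913 : Q := sm gf N4834
/-- A coset. -/ def N7914 : Q := sm gg N4834
/-- A coset. -/ def N7916 : Q := sm gd N4835
/-- A coset. -/ def N7924 : Q := sm gc N4839
/-- A coset. -/ def N7925 : Q := sm gf N4839
/-- A coset. -/ def N7928 : Q := sm gc N4842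
/-- A coset. -/ def N7931 : Q := sm gb N4843
/-- A coset. -/ def N7932 : Q := sm gd N4843
/-- A coset. -/ def N7933 : Q := sm gf N4843
/-- A coset. -/ def N7934 : Q := sm gg N4843
/-- A coset. -/ def N7935 : Q := sm gg N4844
/-- A coset. -/ def N7936 : Q := sm gb N4845
/-- A coset. -/ def N7937 : Q := sm ga N4846
/-- A coset. -/ def N7943 : Q := sm gg N4847
/-- A coset. -/ def N7945 : Q := sm gc N4849
/-- A coset. -/ def N7949 : Q := sm gg N4851
/-- A coset. -/ def N7951 : Q := sm gf N4852
/-- A coset. -/ def N7952 : Q := sm ga N4853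
/-- A coset. -/ def N7953 : Q := sm gf N4853
/-- A coset. -/ def N7955 : Q := sm ga N4855
/-- A coset. -/ def N7957 : Q := sm gg N4855
/-- A coset. -/ def N7959 : Q := sm gd N4856
/-- A coset. -/ def N7960 : Q := sm gf N4856
/-- A coset. -/ def N7961 : Q := sm gg N4856
/-- A coset. -/ def N7962 : Q := sm gc N4857
/-- A coset. -/ def N7963 : Q := sm ge N4857
/-- A coset. -/ def N7964 : Q := sm gf N4857
/-- A coset. -/ def N7966 : Q := sm gg N4858
/-- A coset. -/ def N7967 : Q := sm gf N4859
/-- A coset. -/ def N7968 : Q := sm gb N4861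
/-- A coset. -/ def N7969 : Q := sm ga N4862
/-- A coset. -/ def N7970 : Q := sm gc N4862
/-- A coset. -/ def N7971 : Q := sm gg N4862
/-- A coset. -/ def N7972 : Q := sm gb N4863
/-- A coset. -/ def N7973 : Q := sm gg N4863
/-- A coset. -/ def N7974 : Q := sm gf N4864
/-- A coset. -/ def N7975 : Q := sm gb N4865
/-- A coset. -/ def N7980 : Q := sm gf N4867
/-- A coset. -/ def N7990 : Q := sm gb N4872
/-- A coset. -/ def N7992 : Q := sm gg N4873
/-- A coset. -/ def N7998 : Q := sm gd N4878
/-- A coset. -/ def N8001 : Q := sm gd N4881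
/-- A coset. -/ def N8002 : Q := sm gg N4881
/-- A coset. -/ def N8003 : Q := sm gc N4883
/-- A coset. -/ def N8005 : Q := sm gf N4885
/-- A coset. -/ def N8006 : Q := sm gg N4886
/-- A coset. -/ def N8008 : Q := sm gd N4888
/-- A coset. -/ def N8011 : Q := sm gg N4889
/-- A coset. -/ def N8012 : Q := sm gb N4890
/-- A coset. -/ def N8015 : Q := sm gd N4892
/-- A coset. -/ def N8016 : Q := sm gc N4893
/-- A coset. -/ def N8018 : Q := sm gf N4893
/-- A coset. -/ def N8019 : Q := sm gb N4894
/-- A coset. -/ def N8020 : Q := sm gd N4895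
/-- A coset. -/ def N8021 : Q := sm gb N4896
/-- A coset. -/ def N8022 : Q := sm gd N4896
/-- A coset. -/ def N8023 : Q := sm ga N4897
/-- A coset. -/ def N8024 : Q := sm gd N4897
/-- A coset. -/ def N8025 : Q := sm gg N4897
/-- A coset. -/ def N8026 : Q := sm ge N4898
/-- A coset. -/ def N8035 : Q := sm gf N4903
/-- A coset. -/ def N8036 : Q := sm gb N4904
/-- A coset. -/ def N8038 : Q := sm ga N4905
/-- A coset. -/ def N8042 : Q := sm ge N4906
/-- A coset. -/ def N8043 : Q := sm gf N4906
/-- A coset. -/ def N8044 : Q := sm gb N4907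
/-- A coset. -/ def N8047 : Q := sm gf N4908
/-- A coset. -/ def N8048 : Q := sm gf N4909
/-- A coset. -/ def N8050 : Q := sm gg N4910
/-- A coset. -/ def N8051 : Q := sm ga N4911
/-- A coset. -/ def N8052 : Q := sm gg N4911
/-- A coset. -/ def N8053 : Q := sm gb N4912
/-- A coset. -/ def N8054 : Q := sm ga N4913
/-- A coset. -/ def N8056 : Q := sm gf N4913
/-- A coset. -/ def N8057 : Q := sm gg N4913
/-- A coset. -/ def N8058 : Q := sm ge N4914
/-- A coset. -/ def N8059 : Q := sm gf N4914
/-- A coset. -/ def N8062 : Q := sm ge N4916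
/-- A coset. -/ def N8064 : Q := sm gf N4917
/-- A coset. -/ def N8066 : Q := sm gg N4918
/-- A coset. -/ def N8067 : Q := sm ga N4919
/-- A coset. -/ def N8068 : Q := sm gg N4919
/-- A coset. -/ def N8070 : Q := sm ga N4922
/-- A coset. -/ def N8072 : Q := sm gg N4922
/-- A coset. -/ def N8079 : Q := sm gg N4926
/-- A coset. -/ def N8083 : Q := sm gb N4929
/-- A coset. -/ def N8084 : Q := sm gd N4929
/-- A coset. -/ def N8085 : Q := sm gf N4929
/-- A coset. -/ def N8086 : Q := sm gg N4929
/-- A coset. -/ def N8088 : Q := sm gg N4930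
/-- A coset. -/ def N8093 : Q := sm gf N4934
/-- A coset. -/ def N8095 : Q := sm gg N4935
/-- A coset. -/ def N8096 : Q := sm gb N4936
/-- A coset. -/ def N8098 : Q := sm gc N4938
/-- A coset. -/ def N8100 : Q := sm gf N4939
/-- A coset. -/ def N8101 : Q := sm gf N4940
/-- A coset. -/ def N8102 : Q := sm gg N4940
/-- A coset. -/ def N8103 : Q := sm gb N4941
/-- A coset. -/ def N8105 : Q := sm gb N4942
/-- A coset. -/ def N8106 : Q := sm gf N4942
/-- A coset. -/ def N8107 : Q := sm gb N4943
/-- A coset. -/ def N8111 : Q := sm ga N4945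
/-- A coset. -/ def N8119 : Q := sm gg N4950
/-- A coset. -/ def N8120 : Q := sm gb N4951
/-- A coset. -/ def N8121 : Q := sm gc N4952
/-- A coset. -/ def N8122 : Q := sm gb N4955
/-- A coset. -/ def N8124 : Q := sm gb N4957
/-- A coset. -/ def N8125 : Q := sm gb N4958
/-- A coset. -/ def N8126 : Q := sm ga N4959
/-- A coset. -/ def N8127 : Q := sm gc N4959
/-- A coset. -/ def N8131 : Q := sm gf N4960
/-- A coset. -/ def N8132 : Q := sm ga N4961
/-- A coset. -/ def N8134 : Q := sm gg N4961
/-- A coset. -/ def N8136 : Q := sm gc N4962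
/-- A coset. -/ def N8137 : Q := sm gf N4962
/-- A coset. -/ def N8139 : Q := sm gc N4963
/-- A coset. -/ def N8143 : Q := sm gf N4965
/-- A coset. -/ def N8144 : Q := sm gb N4966
/-- A coset. -/ def N8145 : Q := sm gc N4966
/-- A coset. -/ def N8149 : Q := sm gg N4968
/-- A coset. -/ def N8150 : Q := sm gc N4969
/-- A coset. -/ def N8151 : Q := sm gg N4969
/-- A coset. -/ def N8152 : Q := sm gd N4970
/-- A coset. -/ def N8153 : Q := sm gg N4970
/-- A coset. -/ def N8157 : Q := sm gb N4973
/-- A coset. -/ def N8158 : Q := sm gf N4973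
/-- A coset. -/ def N8162 : Q := sm ga N4983
/-- A coset. -/ def N8163 : Q := sm gc N4983
/-- A coset. -/ def N8165 : Q := sm gb N4984
/-- A coset. -/ def N8166 : Q := sm ga N4985
/-- A coset. -/ def N8170 : Q := sm ga N4987
/-- A coset. -/ def N8171 : Q := sm gc N4987
/-- A coset. -/ def N8172 : Q := sm gg N4987
/-- A coset. -/ def N8174 : Q := sm ga N4989
/-- A coset. -/ def N8175 : Q := sm gc N4989
/-- A coset. -/ def N8178 : Q := sm gb N4991
/-- A coset. -/ def N8179 : Q := sm gc N4991
/-- A coset. -/ def N8181 : Q := sm gg N4992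
/-- A coset. -/ def N8183 : Q := sm ga N4994
/-- A coset. -/ def N8185 : Q := sm gf N4994
/-- A coset. -/ def N8187 : Q := sm gc N4995
/-- A coset. -/ def N8190 : Q := sm gb N4997
/-- A coset. -/ def N8194 : Q := sm gb N4999
/-- A coset. -/ def N8195 : Q := sm gc N4999
/-- A coset. -/ def N8196 : Q := sm gd N5000
/-- A coset. -/ def N8201 : Q := sm gf N5002
/-- A coset. -/ def N8209 : Q := sm gg N5006
/-- A coset. -/ def N8210 : Q := sm ga N5007
/-- A coset. -/ def N8211 : Q := sm gc N5007
/-- A coset. -/ def N8212 : Q := sm gf N5007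
/-- A coset. -/ def N8213 : Q := sm gg N5007
/-- A coset. -/ def N8215 : Q := sm gd N5008
/-- A coset. -/ def N8220 : Q := sm ga N5011
/-- A coset. -/ def N8222 : Q := sm gf N5011
/-- A coset. -/ def N8223 : Q := sm gb N5012
/-- A coset. -/ def N8225 : Q := sm gf N5012
/-- A coset. -/ def N8232 : Q := sm gg N5015
/-- A coset. -/ def N8234 : Q := sm gd N5016
/-- A coset. -/ def N8235 : Q := sm gc N5017
/-- A coset. -/ def N8242 : Q := sm gb N5020
/-- A coset. -/ def N8244 : Q := sm gg N5020
/-- A coset. -/ def N8248 : Q := sm gd N5024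
/-- A coset. -/ def N8249 : Q := sm gg N5024
/-- A coset. -/ def N8250 : Q := sm gf N5026
/-- A coset. -/ def N8252 : Q := sm gg N5027
/-- A coset. -/ def N8256 : Q := sm gd N5029
/-- A coset. -/ def N8259 : Q := sm gg N5030
/-- A coset. -/ def N8265 : Q := sm gc N5033
/-- A coset. -/ def N8266 : Q := sm gd N5034
/-- A coset. -/ def N8267 : Q := sm gf N5034
/-- A coset. -/ def N8271 : Q := sm gf N5037
/-- A coset. -/ def N8278 : Q := sm gg N5044
/-- A coset. -/ def N8279 : Q := sm gf N5045
/-- A coset. -/ def N8282 : Q := sm gd N5047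
/-- A coset. -/ def N8285 : Q := sm gd N5050
/-- A coset. -/ def N8287 : Q := sm gc N5052
/-- A coset. -/ def N8288 : Q := sm ge N5052
/-- A coset. -/ def N8292 : Q := sm ga N5055
/-- A coset. -/ def N8293 : Q := sm gc N5055
/-- A coset. -/ def N8294 : Q := sm gf N5055
/-- A coset. -/ def N8295 : Q := sm gg N5055
/-- A coset. -/ def N8296 : Q := sm gb N5056
/-- A coset. -/ def N8298 : Q := sm gg N5056
/-- A coset. -/ def N8302 : Q := sm gg N5058
/-- A coset. -/ def N8304 : Q := sm gf N5059
/-- A coset. -/ def N8309 : Q := sm gg N5061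
/-- A coset. -/ def N8310 : Q := sm gb N5062
/-- A coset. -/ def N8313 : Q := sm gb N5063
/-- A coset. -/ def N8320 : Q := sm gc N5067
/-- A coset. -/ def N8321 : Q := sm gf N5067
/-- A coset. -/ def N8322 : Q := sm gg N5067
/-- A coset. -/ def N8323 : Q := sm gb N5068
/-- A coset. -/ def N8324 : Q := sm gd N5068
/-- A coset. -/ def N8325 : Q := sm gf N5068
/-- A coset. -/ def N8326 : Q := sm gg N5068
/-- A coset. -/ def N8327 : Q := sm gg N5069
/-- A coset. -/ def N8328 : Q := sm gb N5070
/-- A coset. -/ def N8329 : Q := sm gf N5070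
/-- A coset. -/ def N8337 : Q := sm ga N5074
/-- A coset. -/ def N8339 : Q := sm gf N5074
/-- A coset. -/ def N8340 : Q := sm ge N5075
/-- A coset. -/ def N8341 : Q := sm gg N5075
/-- A coset. -/ def N8344 : Q := sm gf N5077
/-- A coset. -/ def N8350 : Q := sm gg N5080
/-- A coset. -/ def N8353 : Q := sm gg N5081
/-- A coset. -/ def N8358 : Q := sm gb N5083
/-- A coset. -/ def N8359 : Q := sm gg N5083
/-- A coset. -/ def N8360 : Q := sm gf N5084
/-- A coset. -/ def N8365 : Q := sm ge N5086
/-- A coset. -/ def N8368 : Q := sm ga N5088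
/-- A coset. -/ def N8370 : Q := sm gg N5088
/-- A coset. -/ def N8373 : Q := sm gf N5089
/-- A coset. -/ def N8376 : Q := sm gg N5091
/-- A coset. -/ def N8377 : Q := sm ga N5092
/-- A coset. -/ def N8383 : Q := sm gb N5097
/-- A coset. -/ def N8386 : Q := sm gf N5099
/-- A coset. -/ def N8389 : Q := sm gf N5101
/-- A coset. -/ def N8391 : Q := sm gb N5104
/-- A coset. -/ def N8395 : Q := sm gg N5106
/-- A coset. -/ def N8396 : Q := sm gg N5107
/-- A coset. -/ def N8397 : Q := sm gb N5108
/-- A coset. -/ def N8398 : Q := sm gf N5108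
/-- A coset. -/ def N8401 : Q := sm gg N5109
/-- A coset. -/ def N8403 : Q := sm gb N5111
/-- A coset. -/ def N8407 : Q := sm gb N5113
/-- A coset. -/ def N8409 : Q := sm gf N5113
/-- A coset. -/ def N8413 : Q := sm gd N5116
/-- A coset. -/ def N8417 : Q := sm ge N5117
/-- A coset. -/ def N8418 : Q := sm gg N5117
/-- A coset. -/ def N8420 : Q := sm gg N5118
/-- A coset. -/ def N8421 : Q := sm gb N5119
/-- A coset. -/ def N8425 : Q := sm ga N5121
/-- A coset. -/ def N8427 : Q := sm gf N5121
/-- A coset. -/ def N8429 : Q := sm gb N5123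
/-- A coset. -/ def N8433 : Q := sm gg N5125
/-- A coset. -/ def N8437 : Q := sm gf N5128
/-- A coset. -/ def N8443 : Q := sm gb N5133
/-- A coset. -/ def N8444 : Q := sm gg N5133
/-- A coset. -/ def N8445 : Q := sm gb N5134
/-- A coset. -/ def N8452 : Q := sm gg N5143
/-- A coset. -/ def N8456 : Q := sm gc N5145
/-- A coset. -/ def N8458 : Q := sm gf N5145
/-- A coset. -/ def N8463 : Q := sm ge N5150
/-- A coset. -/ def N8464 : Q := sm gf N5150
/-- A coset. -/ def N8473 : Q := sm gg N5154
/-- A coset. -/ def N8475 : Q := sm gf N5156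
/-- A coset. -/ def N8489 : Q := sm gb N5164
/-- A coset. -/ def N8490 : Q := sm ga N5165
/-- A coset. -/ def N8495 : Q := sm gf N5166
/-- A coset. -/ def N8496 : Q := sm gb N5167
/-- A coset. -/ def N8498 : Q := sm gf N5167
/-- A coset. -/ def N8502 : Q := sm ga N5170
/-- A coset. -/ def N8503 : Q := sm gc N5170
/-- A coset. -/ def N8505 : Q := sm gg N5170
/-- A coset. -/ def N8549 : Q := sm ga N5191
/-- A coset. -/ def N8550 : Q := sm gc N5191
/-- A coset. -/ def N8551 : Q := sm gf N5191
/-- A coset. -/ def N8557 : Q := sm gf N5195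
/-- A coset. -/ def N8565 : Q := sm gf N5199
/-- A coset. -/ def N8571 : Q := sm gb N5204
/-- A coset. -/ def N8573 : Q := sm gg N5206
/-- A coset. -/ def N8575 : Q := sm gd N5208
/-- A coset. -/ def N8576 : Q := sm gf N5208
/-- A coset. -/ def N8577 : Q := sm gg N5208
/-- A coset. -/ def N8578 : Q := sm gf N5209
/-- A coset. -/ def N8579 : Q := sm gg N5209
/-- A coset. -/ def N8580 : Q := sm gb N5210
/-- A coset. -/ def N8584 : Q := sm ga N5214
/-- A coset. -/ def N8589 : Q := sm gf N5215
/-- A coset. -/ def N8590 : Q := sm gc N5216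
/-- A coset. -/ def N8591 : Q := sm gd N5217
/-- A coset. -/ def N8592 : Q := sm gg N5217
/-- A coset. -/ def N8597 : Q := sm ga N5224
/-- A coset. -/ def N8599 : Q := sm gg N5224
/-- A coset. -/ def N8601 : Q := sm gc N5226
/-- A coset. -/ def N8604 : Q := sm gb N5228
/-- A coset. -/ def N8605 : Q := sm gc N5228
/-- A coset. -/ def N8607 : Q := sm gg N5229
/-- A coset. -/ def N8608 : Q := sm gc N5231
/-- A coset. -/ def N8614 : Q := sm gg N5235
/-- A coset. -/ def N8615 : Q := sm gf N5236
/-- A coset. -/ def N8616 : Q := sm gg N5236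
/-- A coset. -/ def N8618 : Q := sm gg N5237
/-- A coset. -/ def N8619 : Q := sm gb N5238
/-- A coset. -/ def N8620 : Q := sm gf N5238
/-- A coset. -/ def N8624 : Q := sm gf N5240
/-- A coset. -/ def N8632 : Q := sm gb N5244
/-- A coset. -/ def N8641 : Q := sm gb N5249
/-- A coset. -/ def N8642 : Q := sm gc N5249
/-- A coset. -/ def N8650 : Q := sm gc N5253
/-- A coset. -/ def N8656 : Q := sm gg N5256
/-- A coset. -/ def N8657 : Q := sm gd N5258
/-- A coset. -/ def N8659 : Q := sm ge N5259
/-- A coset. -/ def N8660 : Q := sm gg N5259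
/-- A coset. -/ def N8662 : Q := sm gc N5261
/-- A coset. -/ def N8667 : Q := sm gd N5266
/-- A coset. -/ def N8671 : Q := sm gb N5268
/-- A coset. -/ def N8676 : Q := sm gf N5272
/-- A coset. -/ def N8677 : Q := sm gb N5273
/-- A coset. -/ def N8683 : Q := sm gf N5277
/-- A coset. -/ def N8686 : Q := sm gc N5279
/-- A coset. -/ def N8696 : Q := sm gg N5286
/-- A coset. -/ def N8698 : Q := sm gc N5287
/-- A coset. -/ def N8699 : Q := sm gg N5287
/-- A coset. -/ def N8705 : Q := sm gf N5290
/-- A coset. -/ def N8710 : Q := sm gf N5293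
/-- A coset. -/ def N8713 : Q := sm gd N5294
/-- A coset. -/ def N8716 : Q := sm gc N5296
/-- A coset. -/ def N8718 : Q := sm gg N5296
/-- A coset. -/ def N8720 : Q := sm gf N5297
/-- A coset. -/ def N8723 : Q := sm gf N5299
/-- A coset. -/ def N8726 : Q := sm gd N5300
/-- A coset. -/ def N8728 : Q := sm gb N5301
/-- A coset. -/ def N8733 : Q := sm gg N5303
/-- A coset. -/ def N8734 : Q := sm gc N5305
/-- A coset. -/ def N8735 : Q := sm gb N5306
/-- A coset. -/ def N8737 : Q := sm gf N5306
/-- A coset. -/ def N8739 : Q := sm ga N5309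
/-- A coset. -/ def N8741 : Q := sm gg N5309
/-- A coset. -/ def N8742 : Q := sm gc N5310
/-- A coset. -/ def N8744 : Q := sm gg N5310
/-- A coset. -/ def N8746 : Q := sm gc N5312
/-- A coset. -/ def N8752 : Q := sm gb N5315
/-- A coset. -/ def N8754 : Q := sm ga N5316
/-- A coset. -/ def N8757 : Q := sm gb N5320
/-- A coset. -/ def N8759 : Q := sm gg N5320
/-- A coset. -/ def N8760 : Q := sm gd N5323
/-- A coset. -/ def N8761 : Q := sm gf N5323
/-- A coset. -/ def N8767 : Q := sm gd N5327
/-- A coset. -/ def N8768 : Q := sm ge N5327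
/-- A coset. -/ def N8770 : Q := sm gf N5328
/-- A coset. -/ def N8771 : Q := sm gb N5329
/-- A coset. -/ def N8772 : Q := sm gg N5329
/-- A coset. -/ def N8773 : Q := sm ga N5330
/-- A coset. -/ def N8777 : Q := sm gc N5333
/-- A coset. -/ def N8779 : Q := sm ga N5334
/-- A coset. -/ def N8783 : Q := sm gc N5335
/-- A coset. -/ def N8785 : Q := sm gd N5336
/-- A coset. -/ def N8787 : Q := sm gf N5337
/-- A coset. -/ def N8788 : Q := sm gb N5338
/-- A coset. -/ def N8793 : Q := sm gg N5340
/-- A coset. -/ def N8794 : Q := sm gb N5341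
/-- A coset. -/ def N8795 : Q := sm gc N5341
/-- A coset. -/ def N8796 : Q := sm gg N5341
/-- A coset. -/ def N8797 : Q := sm gd N5342
/-- A coset. -/ def N8799 : Q := sm gb N5343
/-- A coset. -/ def N8802 : Q := sm gc N5344
/-- A coset. -/ def N8803 : Q := sm gf N5344
/-- A coset. -/ def N8804 : Q := sm gb N5345
/-- A coset. -/ def N8806 : Q := sm gf N5345
/-- A coset. -/ def N8808 : Q := sm gf N5346
/-- A coset. -/ def N8809 : Q := sm gb N5347
/-- A coset. -/ def N8810 : Q := sm gg N5347
/-- A coset. -/ def N8812 : Q := sm gc N5348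
/-- A coset. -/ def N8813 : Q := sm gg N5348
/-- A coset. -/ def N8816 : Q := sm gf N5349
/-- A coset. -/ def N8820 : Q := sm gg N5350
/-- A coset. -/ def N8822 : Q := sm gc N5352
/-- A coset. -/ def N8826 : Q := sm gf N5353
/-- A coset. -/ def N8827 : Q := sm ga N5354
/-- A coset. -/ def N8828 : Q := sm gc N5354
/-- A coset. -/ def N8831 : Q := sm gb N5356
/-- A coset. -/ def N8832 : Q := sm gc N5356
/-- A coset. -/ def N8833 : Q := sm gf N5356
/-- A coset. -/ def N8834 : Q := sm gd N5357
/-- A coset. -/ def N8835 : Q := sm gf N5357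
/-- A coset. -/ def N8836 : Q := sm gg N5358
/-- A coset. -/ def N8837 : Q := sm ga N5359
/-- A coset. -/ def N8840 : Q := sm gg N5359
/-- A coset. -/ def N8842 : Q := sm gd N5360
/-- A coset. -/ def N8846 : Q := sm ge N5362
/-- A coset. -/ def N8849 : Q := sm gg N5363
/-- A coset. -/ def N8854 : Q := sm gb N5366
/-- A coset. -/ def N8855 : Q := sm gc N5366
/-- A coset. -/ def N8858 : Q := sm gg N5367
/-- A coset. -/ def N8863 : Q := sm gg N5369
/-- A coset. -/ def N8865 : Q := sm gd N5370
/-- A coset. -/ def N8866 : Q := sm gc N5371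
/-- A coset. -/ def N8867 : Q := sm ge N5371
/-- A coset. -/ def N8868 : Q := sm gg N5371
/-- A coset. -/ def N8870 : Q := sm ga N5373
/-- A coset. -/ def N8871 : Q := sm gc N5373
/-- A coset. -/ def N8873 : Q := sm gb N5374
/-- A coset. -/ def N8874 : Q := sm gc N5374
/-- A coset. -/ def N8876 : Q := sm gd N5375
/-- A coset. -/ def N8877 : Q := sm gf N5375
/-- A coset. -/ def N8878 : Q := sm gg N5376
/-- A coset. -/ def N8880 : Q := sm gc N5377
/-- A coset. -/ def N8881 : Q := sm gf N5377
/-- A coset. -/ def N8884 : Q := sm gd N5378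
/-- A coset. -/ def N8889 : Q := sm ga N5381
/-- A coset. -/ def N8891 : Q := sm gg N5381
/-- A coset. -/ def N8894 : Q := sm gg N5382
/-- A coset. -/ def N8906 : Q := sm gf N5388
/-- A coset. -/ def N8910 : Q := sm gg N5390
/-- A coset. -/ def N8916 : Q := sm gc N5393
/-- A coset. -/ def N8917 : Q := sm gd N5394
/-- A coset. -/ def N8918 : Q := sm gf N5394
/-- A coset. -/ def N8919 : Q := sm ga N5396
/-- A coset. -/ def N8920 : Q := sm gc N5396
/-- A coset. -/ def N8921 : Q := sm gg N5396
/-- A coset. -/ def N8922 : Q := sm gb N5397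
/-- A coset. -/ def N8923 : Q := sm gd N5397
/-- A coset. -/ def N8924 : Q := sm gf N5397
/-- A coset. -/ def N8927 : Q := sm gf N5399
/-- A coset. -/ def N8928 : Q := sm gb N5400
/-- A coset. -/ def N8929 : Q := sm gg N5400
/-- A coset. -/ def N8930 : Q := sm gb N5401
/-- A coset. -/ def N8931 : Q := sm gc N5402
/-- A coset. -/ def N8932 : Q := sm gf N5402
/-- A coset. -/ def N8934 : Q := sm gd N5403
/-- A coset. -/ def N8941 : Q := sm ge N5407
/-- A coset. -/ def N8942 : Q := sm gf N5408
/-- A coset. -/ def N8951 : Q := sm ga N5414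
/-- A coset. -/ def N8953 : Q := sm gf N5414
/-- A coset. -/ def N8966 : Q := sm gg N5420
/-- A coset. -/ def N8967 : Q := sm ga N5423
/-- A coset. -/ def N8975 : Q := sm gb N5425
/-- A coset. -/ def N8976 : Q := sm gg N5425
/-- A coset. -/ def N8980 : Q := sm gf N5431
/-- A coset. -/ def N8983 : Q := sm gc N5435
/-- A coset. -/ def N8984 : Q := sm gg N5435
/-- A coset. -/ def N8986 : Q := sm gd N5436
/-- A coset. -/ def N8990 : Q := sm gb N5438
/-- A coset. -/ def N8991 : Q := sm gc N5439
/-- A coset. -/ def N8994 : Q := sm gd N5442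
/-- A coset. -/ def N9000 : Q := sm gb N5445
/-- A coset. -/ def N9001 : Q := sm gd N5445
/-- A coset. -/ def N9005 : Q := sm gb N5447
/-- A coset. -/ def N9006 : Q := sm gg N5447
/-- A coset. -/ def N9007 : Q := sm ga N5448
/-- A coset. -/ def N9008 : Q := sm gg N5448
/-- A coset. -/ def N9011 : Q := sm gc N5459
/-- A coset. -/ def N9012 : Q := sm gf N5459
/-- A coset. -/ def N9013 : Q := sm gb N5460
/-- A coset. -/ def N9014 : Q := sm gd N5460
/-- A coset. -/ def N9018 : Q := sm gb N5462
/-- A coset. -/ def N9020 : Q := sm gb N5464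
/-- A coset. -/ def N9022 : Q := sm gf N5464
/-- A coset. -/ def N9029 : Q := sm gb N5469
/-- A coset. -/ def N9032 : Q := sm gg N5469
/-- A coset. -/ def N9035 : Q := sm gf N5471
/-- A coset. -/ def N9041 : Q := sm gg N5475
/-- A coset. -/ def N9042 : Q := sm gb N5476
/-- A coset. -/ def N9043 : Q := sm gd N5476
/-- A coset. -/ def N9044 : Q := sm gf N5476
/-- A coset. -/ def N9045 : Q := sm gg N5476
/-- A coset. -/ def N9046 : Q := sm gg N5477
/-- A coset. -/ def N9047 : Q := sm gb N5478
/-- A coset. -/ def N9050 : Q := sm gd N5479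
/-- A coset. -/ def N9052 : Q := sm gg N5479
/-- A coset. -/ def N9060 : Q := sm gd N5483
/-- A coset. -/ def N9062 : Q := sm gg N5483
/-- A coset. -/ def N9063 : Q := sm gg N5484
/-- A coset. -/ def N9065 : Q := sm gf N5485
/-- A coset. -/ def N9071 : Q := sm gc N5488
/-- A coset. -/ def N9072 : Q := sm gd N5489
/-- A coset. -/ def N9073 : Q := sm gf N5489
/-- A coset. -/ def N9078 : Q := sm ga N5492
/-- A coset. -/ def N9079 : Q := sm gc N5492
/-- A coset. -/ def N9080 : Q := sm gf N5492
/-- A coset. -/ def N9081 : Q := sm gg N5492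
/-- A coset. -/ def N9082 : Q := sm gb N5493
/-- A coset. -/ def N9083 : Q := sm gd N5493
/-- A coset. -/ def N9084 : Q := sm gf N5493
/-- A coset. -/ def N9086 : Q := sm gc N5495
/-- A coset. -/ def N9087 : Q := sm ge N5495
/-- A coset. -/ def N9090 : Q := sm gg N5496
/-- A coset. -/ def N9100 : Q := sm gg N5500
/-- A coset. -/ def N9108 : Q := sm gf N5503
/-- A coset. -/ def N9122 : Q := sm gg N5509
/-- A coset. -/ def N9125 : Q := sm gc N5511
/-- A coset. -/ def N9127 : Q := sm gg N5512
/-- A coset. -/ def N9131 : Q := sm gf N5514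
/-- A coset. -/ def N9132 : Q := sm ga N5515
/-- A coset. -/ def N9133 : Q := sm gc N5515
/-- A coset. -/ def N9138 : Q := sm gg N5516
/-- A coset. -/ def N9146 : Q := sm gb N5521
/-- A coset. -/ def N9148 : Q := sm gf N5521
/-- A coset. -/ def N9149 : Q := sm gg N5521
/-- A coset. -/ def N9152 : Q := sm ga N5524
/-- A coset. -/ def N9153 : Q := sm gd N5524
/-- A coset. -/ def N9158 : Q := sm gf N5525
/-- A coset. -/ def N9161 : Q := sm gg N5526
/-- A coset. -/ def N9163 : Q := sm gf N5527
/-- A coset. -/ def N9165 : Q := sm ga N5529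
/-- A coset. -/ def N9167 : Q := sm gf N5529
/-- A coset. -/ def N9170 : Q := sm gf N5531
/-- A coset. -/ def N9174 : Q := sm gf N5533
/-- A coset. -/ def N9178 : Q := sm gb N5535
/-- A coset. -/ def N9180 : Q := sm gf N5535
/-- A coset. -/ def N9192 : Q := sm gd N5542
/-- A coset. -/ def N9199 : Q := sm ga N5545
/-- A coset. -/ def N9202 : Q := sm gg N5545
/-- A coset. -/ def N9204 : Q := sm gd N5546
/-- A coset. -/ def N9205 : Q := sm gc N5547
/-- A coset. -/ def N9207 : Q := sm gf N5547
/-- A coset. -/ def N9209 : Q := sm ga N5549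
/-- A coset. -/ def N9216 : Q := sm gf N5552
/-- A coset. -/ def N9217 : Q := sm gc N5553
/-- A coset. -/ def N9218 : Q := sm gf N5553
/-- A coset. -/ def N9219 : Q := sm gg N5553
/-- A coset. -/ def N9220 : Q := sm gb N5554
/-- A coset. -/ def N9221 : Q := sm gd N5554
/-- A coset. -/ def N9222 : Q := sm gf N5554
/-- A coset. -/ def N9223 : Q := sm gg N5554
/-- A coset. -/ def N9227 : Q := sm gd N5557
/-- A coset. -/ def N9230 : Q := sm ge N5558
/-- A coset. -/ def N9231 : Q := sm gf N5558
/-- A coset. -/ def N9238 : Q := sm gb N5563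
/-- A coset. -/ def N9239 : Q := sm gg N5563
/-- A coset. -/ def N9248 : Q := sm gf N5567
/-- A coset. -/ def N9250 : Q := sm gb N5568
/-- A coset. -/ def N9253 : Q := sm gd N5570
/-- A coset. -/ def N9255 : Q := sm gg N5570
/-- A coset. -/ def N9259 : Q := sm gg N5571
/-- A coset. -/ def N9263 : Q := sm gf N5573
/-- A coset. -/ def N9267 : Q := sm gb N5576
/-- A coset. -/ def N9270 : Q := sm gf N5577
/-- A coset. -/ def N9275 : Q := sm gb N5579
/-- A coset. -/ def N9277 : Q := sm gf N5580
/-- A coset. -/ def N9278 : Q := sm gf N5581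
/-- A coset. -/ def N9288 : Q := sm gg N5587
/-- A coset. -/ def N9294 : Q := sm gc N5590
/-- A coset. -/ def N9299 : Q := sm gf N5592
/-- A coset. -/ def N9306 : Q := sm gg N5594
/-- A coset. -/ def N9308 : Q := sm gd N5595
/-- A coset. -/ def N9309 : Q := sm gc N5596
/-- A coset. -/ def N9320 : Q := sm gg N5601
/-- A coset. -/ def N9324 : Q := sm gb N5603
/-- A coset. -/ def N9330 : Q := sm ga N5606
/-- A coset. -/ def N9331 : Q := sm gd N5606
/-- A coset. -/ def N9333 : Q := sm gg N5606
/-- A coset. -/ def N9334 : Q := sm ge N5607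
/-- A coset. -/ def N9340 : Q := sm gg N5610
/-- A coset. -/ def N9342 : Q := sm gb N5612
/-- A coset. -/ def N9343 : Q := sm gf N5612
/-- A coset. -/ def N9349 : Q := sm gg N5615
/-- A coset. -/ def N9354 : Q := sm gb N5618
/-- A coset. -/ def N9356 : Q := sm gc N5620
/-- A coset. -/ def N9357 : Q := sm gc N5621
/-- A coset. -/ def N9359 : Q := sm gf N5622
/-- A coset. -/ def N9368 : Q := sm gf N5625
/-- A coset. -/ def N9384 : Q := sm gc N5632
/-- A coset. -/ def N9385 : Q := sm gf N5632
/-- A coset. -/ def N9386 : Q := sm gb N5633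
/-- A coset. -/ def N9388 : Q := sm gc N5635
/-- A coset. -/ def N9392 : Q := sm gb N5640
/-- A coset. -/ def N9400 : Q := sm gf N5648
/-- A coset. -/ def N9404 : Q := sm gb N5651
/-- A coset. -/ def N9409 : Q := sm gc N5655
/-- A coset. -/ def N9410 : Q := sm gb N5656
/-- A coset. -/ def N9412 : Q := sm gf N5656
/-- A coset. -/ def N9413 : Q := sm gg N5656
/-- A coset. -/ def N9414 : Q := sm ga N5659
/-- A coset. -/ def N9415 : Q := sm gd N5659
/-- A coset. -/ def N9416 : Q := sm gf N5659
/-- A coset. -/ def N9418 : Q := sm gc N5660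
/-- A coset. -/ def N9419 : Q := sm ge N5660
/-- A coset. -/ def N9422 : Q := sm ge N5661
/-- A coset. -/ def N9423 : Q := sm gf N5661
/-- A coset. -/ def N9426 : Q := sm ga N5664
/-- A coset. -/ def N9427 : Q := sm gc N5664
/-- A coset. -/ def N9453 : Q := sm gf N5687
/-- A coset. -/ def N9460 : Q := sm ga N5692
/-- A coset. -/ def N9462 : Q := sm ge N5692
/-- A coset. -/ def N9465 : Q := sm ge N5693
/-- A coset. -/ def N9470 : Q := sm gg N5695
/-- A coset. -/ def N9473 : Q := sm ga N5697
/-- A coset. -/ def N9479 : Q := sm ga N5701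
/-- A coset. -/ def N9481 : Q := sm gf N5701
/-- A coset. -/ def N9484 : Q := sm gf N5703
/-- A coset. -/ def N9486 : Q := sm ge N5706
/-- A coset. -/ def N9488 : Q := sm gg N5706
/-- A coset. -/ def N9490 : Q := sm gb N5708
/-- A coset. -/ def N9492 : Q := sm gc N5710
/-- A coset. -/ def N9501 : Q := sm gg N5713
/-- A coset. -/ def N9508 : Q := sm gb N5718
/-- A coset. -/ def N9512 : Q := sm gc N5723
/-- A coset. -/ def N9518 : Q := sm gb N5726
/-- A coset. -/ def N9519 : Q := sm gc N5727
/-- A coset. -/ def N9520 : Q := sm gb N5728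
/-- A coset. -/ def N9522 : Q := sm gf N5728
/-- A coset. -/ def N9523 : Q := sm gg N5728
/-- A coset. -/ def N9527 : Q := sm gg N5731
/-- A coset. -/ def N9528 : Q := sm gc N5732
/-- A coset. -/ def N9532 : Q := sm ge N5733
/-- A coset. -/ def N9537 : Q := sm gc N5736
/-- A coset. -/ def N9546 : Q := sm gd N5749
/-- A coset. -/ def N9548 : Q := sm gg N5749
/-- A coset. -/ def N9554 : Q := sm gg N5751
/-- A coset. -/ def N9556 : Q := sm gc N5754
/-- A coset. -/ def N9557 : Q := sm gd N5755
/-- A coset. -/ def N9558 : Q := sm gf N5755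
/-- A coset. -/ def N9566 : Q := sm gf N5758
/-- A coset. -/ def N9584 : Q := sm gg N5766
/-- A coset. -/ def N9586 : Q := sm gf N5767
/-- A coset. -/ def N9589 : Q := sm ga N5769
/-- A coset. -/ def N9590 : Q := sm gc N5769
/-- A coset. -/ def N9591 : Q := sm gf N5769
/-- A coset. -/ def N9596 : Q := sm gc N5773
/-- A coset. -/ def N9597 : Q := sm gg N5773
/-- A coset. -/ def N9600 : Q := sm gg N5775
/-- A coset. -/ def N9614 : Q := sm gf N5782
/-- A coset. -/ def N9623 : Q := sm gg N5787
/-- A coset. -/ def N9627 : Q := sm gg N5789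
/-- A coset. -/ def N9629 : Q := sm ga N5792
/-- A coset. -/ def N9630 : Q := sm gc N5792
/-- A coset. -/ def N9632 : Q := sm gb N5793
/-- A coset. -/ def N9633 : Q := sm gc N5793
/-- A coset. -/ def N9635 : Q := sm gd N5794
/-- A coset. -/ def N9638 : Q := sm ga N5796
/-- A coset. -/ def N9639 : Q := sm gc N5796
/-- A coset. -/ def N9640 : Q := sm gf N5796
/-- A coset. -/ def N9641 : Q := sm gg N5796
/-- A coset. -/ def N9652 : Q := sm gb N5802
/-- A coset. -/ def N9654 : Q := sm gc N5803
/-- A coset. -/ def N9655 : Q := sm gg N5803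
/-- A coset. -/ def N9658 : Q := sm gc N5805
/-- A coset. -/ def N9660 : Q := sm ga N5806
/-- A coset. -/ def N9665 : Q := sm gf N5807
/-- A coset. -/ def N9675 : Q := sm gf N5813
/-- A coset. -/ def N9681 : Q := sm gf N5816
/-- A coset. -/ def N9691 : Q := sm gg N5819
/-- A coset. -/ def N9702 : Q := sm gf N5824
/-- A coset. -/ def N9703 : Q := sm gg N5824
/-- A coset. -/ def N9704 : Q := sm gg N5825
/-- A coset. -/ def N9709 : Q := sm gb N5828
/-- A coset. -/ def N9712 : Q := sm ga N5830
/-- A coset. -/ def N9718 : Q := sm gg N5835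
/-- A coset. -/ def N9721 : Q := sm gf N5837
/-- A coset. -/ def N9733 : Q := sm gf N5840
/-- A coset. -/ def N9741 : Q := sm gd N5844
/-- A coset. -/ def N9745 : Q := sm gb N5846
/-- A coset. -/ def N9749 : Q := sm gg N5847
/-- A coset. -/ def N9752 : Q := sm gf N5849
/-- A coset. -/ def N9754 : Q := sm ga N5851
/-- A coset. -/ def N9758 : Q := sm gc N5853
/-- A coset. -/ def N9763 : Q := sm gf N5855
/-- A coset. -/ def N9767 : Q := sm ga N5858
/-- A coset. -/ def N9768 : Q := sm gc N5858
/-- A coset. -/ def N9773 : Q := sm gd N5860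
/-- A coset. -/ def N9775 : Q := sm gg N5861
/-- A coset. -/ def N9787 : Q := sm ga N5869
/-- A coset. -/ def N9788 : Q := sm gc N5869
/-- A coset. -/ def N9796 : Q := sm gf N5873
/-- A coset. -/ def N9797 : Q := sm gc N5874
/-- A coset. -/ def N9801 : Q := sm gb N5877
/-- A coset. -/ def N9802 : Q := sm gd N5877
/-- A coset. -/ def N9803 : Q := sm gc N5878
/-- A coset. -/ def N9805 : Q := sm gg N5878
/-- A coset. -/ def N9806 : Q := sm gb N5879
/-- A coset. -/ def N9813 : Q := sm gc N5883
/-- A coset. -/ def N9817 : Q := sm gg N5884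
/-- A coset. -/ def N9820 : Q := sm gb N5886
/-- A coset. -/ def N9822 : Q := sm ga N5887
/-- A coset. -/ def N9830 : Q := sm gg N5890
/-- A coset. -/ def N9834 : Q := sm gg N5892
/-- A coset. -/ def N9835 : Q := sm gb N5893
/-- A coset. -/ def N9837 : Q := sm gg N5893
/-- A coset. -/ def N9840 : Q := sm gg N5895
/-- A coset. -/ def N9841 : Q := sm gf N5896
/-- A coset. -/ def N9844 : Q := sm gf N5903
/-- A coset. -/ def N9845 : Q := sm gb N5904
/-- A coset. -/ def N9849 : Q := sm gb N5906
/-- A coset. -/ def N9851 : Q := sm gc N5907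
/-- A coset. -/ def N9854 : Q := sm gc N5909
/-- A coset. -/ def N9857 : Q := sm gd N5912
/-- A coset. -/ def N9858 : Q := sm gd N5913
/-- A coset. -/ def N9860 : Q := sm ge N5914
/-- A coset. -/ def N9865 : Q := sm gg N5916
/-- A coset. -/ def N9866 : Q := sm gb N5917
/-- A coset. -/ def N9869 : Q := sm gc N5922
/-- A coset. -/ def N9875 : Q := sm gc N5926
/-- A coset. -/ def N9876 : Q := sm gg N5926
/-- A coset. -/ def N9877 : Q := sm gd N5927
/-- A coset. -/ def N9878 : Q := sm gc N5928
/-- A coset. -/ def N9880 : Q := sm gb N5929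
/-- A coset. -/ def N9881 : Q := sm gd N5929
/-- A coset. -/ def N9882 : Q := sm gd N5930
/-- A coset. -/ def N9884 : Q := sm gc N5931
/-- A coset. -/ def N9885 : Q := sm ge N5931
/-- A coset. -/ def N9886 : Q := sm gg N5931
/-- A coset. -/ def N9887 : Q := sm gb N5932
/-- A coset. -/ def N9888 : Q := sm gb N5933
/-- A coset. -/ def N9890 : Q := sm gg N5933
/-- A coset. -/ def N9891 : Q := sm gc N5934
/-- A coset. -/ def N9892 : Q := sm ge N5934
/-- A coset. -/ def N9893 : Q := sm gf N5934
/-- A coset. -/ def N9894 : Q := sm gg N5934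
/-- A coset. -/ def N9895 : Q := sm gg N5935
/-- A coset. -/ def N9897 : Q := sm gf N5936
/-- A coset. -/ def N9899 : Q := sm ge N5937
/-- A coset. -/ def N9901 : Q := sm gg N5938
/-- A coset. -/ def N9903 : Q := sm ga N5940
/-- A coset. -/ def N9904 : Q := sm gf N5940
/-- A coset. -/ def N9922 : Q := sm gb N5949
/-- A coset. -/ def N9923 : Q := sm ga N5950
/-- A coset. -/ def N9926 : Q := sm ga N5961
/-- A coset. -/ def N9927 : Q := sm gg N5961
/-- A coset. -/ def N9931 : Q := sm gf N5963
/-- A coset. -/ def N9937 : Q := sm ga N5967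
/-- A coset. -/ def N9939 : Q := sm gg N5967
/-- A coset. -/ def N9941 : Q := sm gg N5969
/-- A coset. -/ def N9942 : Q := sm gb N5970
/-- A coset. -/ def N9945 : Q := sm ga N5972
/-- A coset. -/ def N9946 : Q := sm gd N5972
/-- A coset. -/ def N9948 : Q := sm gc N5973
/-- A coset. -/ def N9949 : Q := sm ge N5973
/-- A coset. -/ def N9950 : Q := sm gf N5973
/-- A coset. -/ def N9952 : Q := sm gg N5975
/-- A coset. -/ def N9954 : Q := sm ge N5976
/-- A coset. -/ def N9956 : Q := sm gg N5976
/-- A coset. -/ def N9957 : Q := sm gb N5977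
/-- A coset. -/ def N9959 : Q := sm gb N5978
/-- A coset. -/ def N9960 : Q := sm gf N5978
/-- A coset. -/ def N9961 : Q := sm gb N5979
/-- A coset. -/ def N9962 : Q := sm gd N5979
/-- A coset. -/ def N9963 : Q := sm ge N5979
/-- A coset. -/ def N9964 : Q := sm gf N5979
/-- A coset. -/ def N9965 : Q := sm gg N5979
/-- A coset. -/ def N9966 : Q := sm gf N5980
/-- A coset. -/ def N9967 : Q := sm gg N5980
/-- A coset. -/ def N9968 : Q := sm gb N5981
/-- A coset. -/ def N9969 : Q := sm gg N5981
/-- A coset. -/ def N9970 : Q := sm gb N5982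
/-- A coset. -/ def N9971 : Q := sm gf N5982
/-- A coset. -/ def N9972 : Q := sm ga N5983
/-- A coset. -/ def N9973 : Q := sm gg N5983
/-- A coset. -/ def N9977 : Q := sm gb N5986
/-- A coset. -/ def N9979 : Q := sm gb N5990
/-- A coset. -/ def N9981 : Q := sm gf N5993
/-- A coset. -/ def N9985 : Q := sm gg N5996
/-- A coset. -/ def N9990 : Q := sm gc N5999
/-- A coset. -/ def N9999 : Q := sm gg N6004
/-- A coset. -/ def N10004 : Q := sm gg N6006
/-- A coset. -/ def N10010 : Q := sm gg N6008
/-- A coset. -/ def N10023 : Q := sm ge N6015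
/-- A coset. -/ def N10028 : Q := sm gg N6017
/-- A coset. -/ def N10030 : Q := sm gg N6018
/-- A coset. -/ def N10031 : Q := sm ga N6019
/-- A coset. -/ def N10033 : Q := sm gg N6019
/-- A coset. -/ def N10035 : Q := sm gb N6021
/-- A coset. -/ def N10036 : Q := sm gg N6021
/-- A coset. -/ def N10037 : Q := sm gb N6022
/-- A coset. -/ def N10038 : Q := sm gf N6022
/-- A coset. -/ def N10043 : Q := sm gd N6025
/-- A coset. -/ def N10047 : Q := sm gd N6029
/-- A coset. -/ def N10050 : Q := sm ge N6030
/-- A coset. -/ def N10053 : Q := sm gf N6032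
/-- A coset. -/ def N10057 : Q := sm gg N6034
/-- A coset. -/ def N10062 : Q := sm gd N6037
/-- A coset. -/ def N10067 : Q := sm gg N6038
/-- A coset. -/ def N10069 : Q := sm gg N6039
/-- A coset. -/ def N10079 : Q := sm gg N6048
/-- A coset. -/ def N10083 : Q := sm gb N6052
/-- A coset. -/ def N10084 : Q := sm gg N6052
/-- A coset. -/ def N10085 : Q := sm gb N6053
/-- A coset. -/ def N10087 : Q := sm ga N6054
/-- A coset. -/ def N10088 : Q := sm gb N6057
/-- A coset. -/ def N10089 : Q := sm ga N6058
/-- A coset. -/ def N10091 : Q := sm gc N6061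
/-- A coset. -/ def N10092 : Q := sm gg N6061
/-- A coset. -/ def N10093 : Q := sm gc N6063
/-- A coset. -/ def N10094 : Q := sm gb N6066
/-- A coset. -/ def N10096 : Q := sm gf N6068
/-- A coset. -/ def N10100 : Q := sm gd N6076
/-- A coset. -/ def N10109 : Q := sm ge N6083
/-- A coset. -/ def N10111 : Q := sm gb N6084
/-- A coset. -/ def N10114 : Q := sm gd N6086
/-- A coset. -/ def N10116 : Q := sm gc N6087
/-- A coset. -/ def N10117 : Q := sm ge N6087
/-- A coset. -/ def N10118 : Q := sm gg N6087
/-- A coset. -/ def N10120 : Q := sm gb N6089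
/-- A coset. -/ def N10122 : Q := sm ge N6089
/-- A coset. -/ def N10125 : Q := sm gb N6091
/-- A coset. -/ def N10129 : Q := sm gc N6093
/-- A coset. -/ def N10130 : Q := sm gg N6093
/-- A coset. -/ def N10134 : Q := sm gb N6095
/-- A coset. -/ def N10140 : Q := sm ga N6101
/-- A coset. -/ def N10143 : Q := sm ga N6102
/-- A coset. -/ def N10144 : Q := sm gf N6102
/-- A coset. -/ def N10145 : Q := sm gb N6103
/-- A coset. -/ def N10146 : Q := sm gc N6103
/-- A coset. -/ def N10149 : Q := sm gb N6105
/-- A coset. -/ def N10150 : Q := sm ga N6106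
/-- A coset. -/ def N10153 : Q := sm ga N6107
/-- A coset. -/ def N10155 : Q := sm gg N6107
/-- A coset. -/ def N10156 : Q := sm gg N6108
/-- A coset. -/ def N10157 : Q := sm gb N6109
/-- A coset. -/ def N10158 : Q := sm gd N6109
/-- A coset. -/ def N10161 : Q := sm gg N6110
/-- A coset. -/ def N10163 : Q := sm ga N6112
/-- A coset. -/ def N10165 : Q := sm gf N6112
/-- A coset. -/ def N10167 : Q := sm gf N6113
/-- A coset. -/ def N10170 : Q := sm gg N6115
/-- A coset. -/ def N10171 : Q := sm gb N6116
/-- A coset. -/ def N10177 : Q := sm gf N6119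
/-- A coset. -/ def N10179 : Q := sm gb N6120
/-- A coset. -/ def N10180 : Q := sm gd N6120
/-- A coset. -/ def N10181 : Q := sm gg N6120
/-- A coset. -/ def N10187 : Q := sm gf N6123
/-- A coset. -/ def N10189 : Q := sm gg N6125
/-- A coset. -/ def N10190 : Q := sm gb N6126
/-- A coset. -/ def N10192 : Q := sm gf N6126
/-- A coset. -/ def N10193 : Q := sm gg N6126
/-- A coset. -/ def N10194 : Q := sm gg N6127
/-- A coset. -/ def N10195 : Q := sm gb N6128
/-- A coset. -/ def N10196 : Q := sm gf N6128
/-- A coset. -/ def N10197 : Q := sm ga N6129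
/-- A coset. -/ def N10199 : Q := sm gf N6129
/-- A coset. -/ def N10201 : Q := sm gc N6130
/-- A coset. -/ def N10202 : Q := sm ge N6130
/-- A coset. -/ def N10203 : Q := sm gg N6130
/-- A coset. -/ def N10204 : Q := sm gb N6131
/-- A coset. -/ def N10207 : Q := sm gd N6133
/-- A coset. -/ def N10209 : Q := sm gg N6133
/-- A coset. -/ def N10211 : Q := sm gf N6135
/-- A coset. -/ def N10213 : Q := sm ga N6137
/-- A coset. -/ def N10216 : Q := sm gc N6138
/-- A coset. -/ def N10218 : Q := sm gg N6139
/-- A coset. -/ def N10223 : Q := sm gd N6145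
/-- A coset. -/ def N10224 : Q := sm gg N6145
/-- A coset. -/ def N10225 : Q := sm gc N6147
/-- A coset. -/ def N10227 : Q := sm gg N6147
/-- A coset. -/ def N10238 : Q := sm ge N6157
/-- A coset. -/ def N10242 : Q := sm gg N6158
/-- A coset. -/ def N10251 : Q := sm gb N6166
/-- A coset. -/ def N10259 : Q := sm gc N6171
/-- A coset. -/ def N10260 : Q := sm gf N6171
/-- A coset. -/ def N10267 : Q := sm gd N6175
/-- A coset. -/ def N10268 : Q := sm gf N6175
/-- A coset. -/ def N10269 : Q := sm gg N6175
/-- A coset. -/ def N10270 : Q := sm gd N6178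
/-- A coset. -/ def N10271 : Q := sm gc N6179
/-- A coset. -/ def N10272 : Q := sm ge N6179
/-- A coset. -/ def N10273 : Q := sm gf N6179
/-- A coset. -/ def N10274 : Q := sm gg N6179
/-- A coset. -/ def N10275 : Q := sm gg N6180
/-- A coset. -/ def N10276 : Q := sm gb N6181
/-- A coset. -/ def N10277 : Q := sm gf N6181
/-- A coset. -/ def N10278 : Q := sm ga N6183
/-- A coset. -/ def N10280 : Q := sm gb N6185
/-- A coset. -/ def N10281 : Q := sm gd N6185
/-- A coset. -/ def N10282 : Q := sm gg N6185
/-- A coset. -/ def N10283 : Q := sm gc N6186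
/-- A coset. -/ def N10285 : Q := sm gf N6186
/-- A coset. -/ def N10287 : Q := sm gg N6187
/-- A coset. -/ def N10288 : Q := sm gb N6188
/-- A coset. -/ def N10292 : Q := sm gg N6190
/-- A coset. -/ def N10294 : Q := sm ga N6192
/-- A coset. -/ def N10295 : Q := sm gc N6192
/-- A coset. -/ def N10296 : Q := sm gf N6192
/-- A coset. -/ def N10297 : Q := sm gc N6193
/-- A coset. -/ def N10301 : Q := sm gg N6196
/-- A coset. -/ def N10303 : Q := sm gg N6197
/-- A coset. -/ def N10304 : Q := sm gb N6198
/-- A coset. -/ def N10307 : Q := sm gf N6199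
/-- A coset. -/ def N10308 : Q := sm ga N6200
/-- A coset. -/ def N10309 : Q := sm gc N6200
/-- A coset. -/ def N10310 : Q := sm gf N6200
/-- A coset. -/ def N10312 : Q := sm gb N6202
/-- A coset. -/ def N10314 : Q := sm ga N6204
/-- A coset. -/ def N10317 : Q := sm gc N6205
/-- A coset. -/ def N10319 : Q := sm gc N6208
/-- A coset. -/ def N10320 : Q := sm gf N6208
/-- A coset. -/ def N10322 : Q := sm gb N6209
/-- A coset. -/ def N10326 : Q := sm ga N6213
/-- A coset. -/ def N10327 : Q := sm gc N6213
/-- A coset. -/ def N10329 : Q := sm gc N6214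
/-- A coset. -/ def N10330 : Q := sm gf N6214
/-- A coset. -/ def N10331 : Q := sm gd N6215
/-- A coset. -/ def N10332 : Q := sm gf N6215
/-- A coset. -/ def N10333 : Q := sm gg N6216
/-- A coset. -/ def N10336 : Q := sm ga N6220
/-- A coset. -/ def N10337 : Q := sm gg N6220
/-- A coset. -/ def N10338 : Q := sm ga N6222
/-- A coset. -/ def N10339 : Q := sm gc N6222
/-- A coset. -/ def N10340 : Q := sm gg N6222
/-- A coset. -/ def N10342 : Q := sm gd N6225
/-- A coset. -/ def N10343 : Q := sm gg N6225
/-- A coset. -/ def N10344 : Q := sm gb N6226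
/-- A coset. -/ def N10349 : Q := sm gg N6231
/-- A coset. -/ def N10354 : Q := sm gf N6234
/-- A coset. -/ def N10357 : Q := sm gf N6235
/-- A coset. -/ def N10361 : Q := sm gd N6239
/-- A coset. -/ def N10364 : Q := sm ge N6241
/-- A coset. -/ def N10366 : Q := sm gb N6242
/-- A coset. -/ def N10367 : Q := sm gf N6244
/-- A coset. -/ def N10368 : Q := sm gb N6245
/-- A coset. -/ def N10371 : Q := sm gf N6246
/-- A coset. -/ def N10372 : Q := sm gc N6249
/-- A coset. -/ def N10373 : Q := sm gg N6249
/-- A coset. -/ def N10375 : Q := sm ga N6251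
/-- A coset. -/ def N10377 : Q := sm gb N6252
/-- A coset. -/ def N10381 : Q := sm gd N6254
/-- A coset. -/ def N10382 : Q := sm gg N6254
/-- A coset. -/ def N10384 : Q := sm gb N6256
/-- A coset. -/ def N10390 : Q := sm gg N6258
/-- A coset. -/ def N10395 : Q := sm ga N6262
/-- A coset. -/ def N10397 : Q := sm gf N6262
/-- A coset. -/ def N10400 : Q := sm gf N6263
/-- A coset. -/ def N10402 : Q := sm gf N6264
/-- A coset. -/ def N10406 : Q := sm gg N6266
/-- A coset. -/ def N10410 : Q := sm gc N6269
/-- A coset. -/ def N10411 : Q := sm gf N6269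
/-- A coset. -/ def N10414 : Q := sm gg N6270
/-- A coset. -/ def N10415 : Q := sm gf N6272
/-- A coset. -/ def N10416 : Q := sm gc N6273
/-- A coset. -/ def N10418 : Q := sm gf N6274
/-- A coset. -/ def N10419 : Q := sm gb N6277
/-- A coset. -/ def N10421 : Q := sm gf N6277
/-- A coset. -/ def N10427 : Q := sm gc N6282
/-- A coset. -/ def N10428 : Q := sm gf N6282
/-- A coset. -/ def N10433 : Q := sm ge N6285
/-- A coset. -/ def N10435 : Q := sm gb N6286
/-- A coset. -/ def N10437 : Q := sm gb N6287
/-- A coset. -/ def N10439 : Q := sm gc N6288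
/-- A coset. -/ def N10440 : Q := sm gg N6288
/-- A coset. -/ def N10443 : Q := sm gf N6289
/-- A coset. -/ def N10444 : Q := sm gb N6290
/-- A coset. -/ def N10445 : Q := sm gc N6290
/-- A coset. -/ def N10447 : Q := sm gg N6291
/-- A coset. -/ def N10449 : Q := sm ga N6293
/-- A coset. -/ def N10451 : Q := sm gf N6293
/-- A coset. -/ def N10452 : Q := sm ga N6294
/-- A coset. -/ def N10460 : Q := sm gg N6296
/-- A coset. -/ def N10467 : Q := sm gb N6300
/-- A coset. -/ def N10468 : Q := sm gc N6301
/-- A coset. -/ def N10469 : Q := sm gf N6301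
/-- A coset. -/ def N10477 : Q := sm gf N6304
/-- A coset. -/ def N10482 : Q := sm gc N6307
/-- A coset. -/ def N10484 : Q := sm gb N6309
/-- A coset. -/ def N10496 : Q := sm gf N6316
/-- A coset. -/ def N10497 : Q := sm gg N6316
/-- A coset. -/ def N10498 : Q := sm gb N6317
/-- A coset. -/ def N10506 : Q := sm gb N6324
/-- A coset. -/ def N10507 : Q := sm gd N6324
/-- A coset. -/ def N10508 : Q := sm gc N6325
/-- A coset. -/ def N10509 : Q := sm ge N6325
/-- A coset. -/ def N10511 : Q := sm gb N6326
/-- A coset. -/ def N10521 : Q := sm gd N6333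
/-- A coset. -/ def N10522 : Q := sm gf N6333
/-- A coset. -/ def N10523 : Q := sm gg N6333
/-- A coset. -/ def N10524 : Q := sm gc N6334
/-- A coset. -/ def N10525 : Q := sm ge N6334
/-- A coset. -/ def N10526 : Q := sm gf N6334
/-- A coset. -/ def N10527 : Q := sm gb N6335
/-- A coset. -/ def N10528 : Q := sm gc N6336
/-- A coset. -/ def N10530 : Q := sm ge N6337
/-- A coset. -/ def N10532 : Q := sm gf N6338
/-- A coset. -/ def N10533 : Q := sm gg N6339
/-- A coset. -/ def N10537 : Q := sm gf N6341
/-- A coset. -/ def N10538 : Q := sm ga N6342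
/-- A coset. -/ def N10539 : Q := sm gg N6342
/-- A coset. -/ def N10541 : Q := sm gg N6344
/-- A coset. -/ def N10542 : Q := sm gd N6345
/-- A coset. -/ def N10543 : Q := sm gg N6345
/-- A coset. -/ def N10545 : Q := sm gf N6346
/-- A coset. -/ def N10547 : Q := sm gf N6348
/-- A coset. -/ def N10549 : Q := sm gf N6349
/-- A coset. -/ def N10550 : Q := sm gb N6350
/-- A coset. -/ def N10551 : Q := sm gg N6350
/-- A coset. -/ def N10552 : Q := sm ga N6351
/-- A coset. -/ def N10553 : Q := sm gg N6351
/-- A coset. -/ def N10554 : Q := sm gc N6352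
/-- A coset. -/ def N10555 : Q := sm ge N6352
/-- A coset. -/ def N10557 : Q := sm ga N6354
/-- A coset. -/ def N10558 : Q := sm gd N6354
/-- A coset. -/ def N10560 : Q := sm ge N6355
/-- A coset. -/ def N10561 : Q := sm gb N6356
/-- A coset. -/ def N10562 : Q := sm ge N6356
/-- A coset. -/ def N10563 : Q := sm gg N6356
/-- A coset. -/ def N10564 : Q := sm gg N6357
/-- A coset. -/ def N10567 : Q := sm ga N6359
/-- A coset. -/ def N10568 : Q := sm gf N6359
/-- A coset. -/ def N10569 : Q := sm gb N6360
/-- A coset. -/ def N10576 : Q := sm gb N6365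
/-- A coset. -/ def N10580 : Q := sm gg N6367
/-- A coset. -/ def N10583 : Q := sm ge N6369
/-- A coset. -/ def N10584 : Q := sm gf N6369
/-- A coset. -/ def N10592 : Q := sm ge N6374
/-- A coset. -/ def N10594 : Q := sm ge N6375
/-- A coset. -/ def N10596 : Q := sm gg N6376
/-- A coset. -/ def N10602 : Q := sm gg N6379
/-- A coset. -/ def N10603 : Q := sm gb N6381
/-- A coset. -/ def N10604 : Q := sm gg N6381
/-- A coset. -/ def N10606 : Q := sm gf N6382
/-- A coset. -/ def N10616 : Q := sm gb N6388
/-- A coset. -/ def N10617 : Q := sm ga N6389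
/-- A coset. -/ def N10618 : Q := sm gc N6390
/-- A coset. -/ def N10627 : Q := sm gg N6395
/-- A coset. -/ def N10629 : Q := sm gb N6397
/-- A coset. -/ def N10635 : Q := sm gf N6400
/-- A coset. -/ def N10638 : Q := sm gb N6402
/-- A coset. -/ def N10646 : Q := sm gg N6407
/-- A coset. -/ def N10647 : Q := sm gb N6408
/-- A coset. -/ def N10648 : Q := sm gb N6410
/-- A coset. -/ def N10650 : Q := sm gg N6410
/-- A coset. -/ def N10653 : Q := sm gf N6412
/-- A coset. -/ def N10654 : Q := sm gd N6417
/-- A coset. -/ def N10657 : Q := sm gg N6418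
/-- A coset. -/ def N10659 : Q := sm ga N6420
/-- A coset. -/ def N10661 : Q := sm gf N6420
/-- A coset. -/ def N10662 : Q := sm gb N6421
/-- A coset. -/ def N10664 : Q := sm gf N6421
/-- A coset. -/ def N10667 : Q := sm gf N6424
/-- A coset. -/ def N10674 : Q := sm gc N6428
/-- A coset. -/ def N10676 : Q := sm gb N6429
/-- A coset. -/ def N10677 : Q := sm gc N6429
/-- A coset. -/ def N10682 : Q := sm gf N6432
/-- A coset. -/ def N10683 : Q := sm gg N6432
/-- A coset. -/ def N10684 : Q := sm gb N6433
/-- A coset. -/ def N10689 : Q := sm gb N6435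
/-- A coset. -/ def N10690 : Q := sm gf N6435
/-- A coset. -/ def N10691 : Q := sm ga N6436
/-- A coset. -/ def N10692 : Q := sm gd N6436
/-- A coset. -/ def N10696 : Q := sm gg N6437
/-- A coset. -/ def N10700 : Q := sm gf N6439
/-- A coset. -/ def N10707 : Q := sm ga N6444
/-- A coset. -/ def N10709 : Q := sm gg N6444
/-- A coset. -/ def N10712 : Q := sm ge N6450
/-- A coset. -/ def N10724 : Q := sm ga N6457
/-- A coset. -/ def N10726 : Q := sm gf N6457
/-- A coset. -/ def N10731 : Q := sm ga N6462
/-- A coset. -/ def N10734 : Q := sm ga N6463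
/-- A coset. -/ def N10736 : Q := sm gf N6463
/-- A coset. -/ def N10738 : Q := sm gd N6465
/-- A coset. -/ def N10739 : Q := sm gf N6466
/-- A coset. -/ def N10741 : Q := sm gb N6470
/-- A coset. -/ def N10742 : Q := sm gg N6470
/-- A coset. -/ def N10744 : Q := sm gf N6471
/-- A coset. -/ def N10745 : Q := sm ga N6472
/-- A coset. -/ def N10746 : Q := sm gc N6472
/-- A coset. -/ def N10747 : Q := sm gg N6472
/-- A coset. -/ def N10754 : Q := sm gc N6476
/-- A coset. -/ def N10760 : Q := sm gb N6479
/-- A coset. -/ def N10762 : Q := sm gc N6480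
/-- A coset. -/ def N10763 : Q := sm gd N6481
/-- A coset. -/ def N10764 : Q := sm gg N6481
/-- A coset. -/ def N10775 : Q := sm gg N6487
/-- A coset. -/ def N10776 : Q := sm ga N6488
/-- A coset. -/ def N10777 : Q := sm gc N6488
/-- A coset. -/ def N10778 : Q := sm gf N6488
/-- A coset. -/ def N10780 : Q := sm gb N6489
/-- A coset. -/ def N10787 : Q := sm gf N6492
/-- A coset. -/ def N10794 : Q := sm ga N6497
/-- A coset. -/ def N10795 : Q := sm gc N6497
/-- A coset. -/ def N10796 : Q := sm gg N6497
/-- A coset. -/ def N10797 : Q := sm gb N6498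
/-- A coset. -/ def N10798 : Q := sm gc N6498
/-- A coset. -/ def N10799 : Q := sm gg N6498
/-- A coset. -/ def N10800 : Q := sm gd N6499
/-- A coset. -/ def N10802 : Q := sm gb N6501
/-- A coset. -/ def N10803 : Q := sm gc N6501
/-- A coset. -/ def N10805 : Q := sm gd N6502
/-- A coset. -/ def N10806 : Q := sm gg N6502
/-- A coset. -/ def N10807 : Q := sm gb N6503
/-- A coset. -/ def N10808 : Q := sm gf N6503
/-- A coset. -/ def N10809 : Q := sm ga N6504
/-- A coset. -/ def N10810 : Q := sm gc N6504
/-- A coset. -/ def N10812 : Q := sm gb N6505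
/-- A coset. -/ def N10814 : Q := sm gf N6505
/-- A coset. -/ def N10817 : Q := sm gb N6507
/-- A coset. -/ def N10819 : Q := sm ga N6508
/-- A coset. -/ def N10820 : Q := sm gc N6508
/-- A coset. -/ def N10822 : Q := sm gc N6509
/-- A coset. -/ def N10823 : Q := sm gf N6509
/-- A coset. -/ def N10824 : Q := sm gg N6509
/-- A coset. -/ def N10825 : Q := sm gb N6510
/-- A coset. -/ def N10826 : Q := sm gd N6510
/-- A coset. -/ def N10827 : Q := sm gg N6510
/-- A coset. -/ def N10831 : Q := sm gg N6512
/-- A coset. -/ def N10832 : Q := sm gb N6513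
/-- A coset. -/ def N10833 : Q := sm gf N6513
/-- A coset. -/ def N10834 : Q := sm ga N6514
/-- A coset. -/ def N10835 : Q := sm gc N6514
/-- A coset. -/ def N10836 : Q := sm gf N6514
/-- A coset. -/ def N10838 : Q := sm gc N6516
/-- A coset. -/ def N10839 : Q := sm gf N6516
/-- A coset. -/ def N10840 : Q := sm gd N6517
/-- A coset. -/ def N10841 : Q := sm gf N6517
/-- A coset. -/ def N10842 : Q := sm gg N6518
/-- A coset. -/ def N10843 : Q := sm ga N6519
/-- A coset. -/ def N10853 : Q := sm ga N6524
/-- A coset. -/ def N10854 : Q := sm gc N6524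
/-- A coset. -/ def N10855 : Q := sm gg N6524
/-- A coset. -/ def N10857 : Q := sm gb N6526
/-- A coset. -/ def N10858 : Q := sm gc N6526
/-- A coset. -/ def N10859 : Q := sm gg N6526
/-- A coset. -/ def N10860 : Q := sm gd N6527
/-- A coset. -/ def N10863 : Q := sm gg N6529
/-- A coset. -/ def N10864 : Q := sm gb N6530
/-- A coset. -/ def N10868 : Q := sm gg N6531
/-- A coset. -/ def N10869 : Q := sm gb N6532
/-- A coset. -/ def N10870 : Q := sm ga N6533
/-- A coset. -/ def N10871 : Q := sm gc N6533
/-- A coset. -/ def N10872 : Q := sm gf N6533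
/-- A coset. -/ def N10873 : Q := sm gd N6534
/-- A coset. -/ def N10876 : Q := sm gg N6535
/-- A coset. -/ def N10877 : Q := sm gf N6536
/-- A coset. -/ def N10878 : Q := sm gb N6537
/-- A coset. -/ def N10879 : Q := sm gb N6538
/-- A coset. -/ def N10884 : Q := sm gf N6544
/-- A coset. -/ def N10885 : Q := sm gg N6546
/-- A coset. -/ def N10886 : Q := sm gb N6549
/-- A coset. -/ def N10892 : Q := sm gb N6554
/-- A coset. -/ def N10893 : Q := sm gb N6555
/-- A coset. -/ def N10897 : Q := sm gb N6559
/-- A coset. -/ def N10900 : Q := sm gg N6560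
/-- A coset. -/ def N10901 : Q := sm ga N6561
/-- A coset. -/ def N10903 : Q := sm gb N6562
/-- A coset. -/ def N10904 : Q := sm gf N6564
/-- A coset. -/ def N10905 : Q := sm gb N6566
/-- A coset. -/ def N10907 : Q := sm gf N6567
/-- A coset. -/ def N10908 : Q := sm gb N6568
/-- A coset. -/ def N10909 : Q := sm gb N6569
/-- A coset. -/ def N10912 : Q := sm gd N6571
/-- A coset. -/ def N10914 : Q := sm gb N6572
/-- A coset. -/ def N10923 : Q := sm ga N6577
/-- A coset. -/ def N10924 : Q := sm gc N6577
/-- A coset. -/ def N10931 : Q := sm gd N6579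
/-- A coset. -/ def N10943 : Q := sm gf N6584
/-- A coset. -/ def N10944 : Q := sm gg N6585
/-- A coset. -/ def N10951 : Q := sm ga N6590
/-- A coset. -/ def N10953 : Q := sm gg N6590
/-- A coset. -/ def N10956 : Q := sm gg N6591
/-- A coset. -/ def N10960 : Q := sm gc N6594
/-- A coset. -/ def N10962 : Q := sm gg N6594
/-- A coset. -/ def N10963 : Q := sm gb N6595
/-- A coset. -/ def N10965 : Q := sm gg N6595
/-- A coset. -/ def N10966 : Q := sm gg N6596
/-- A coset. -/ def N10970 : Q := sm gf N6598
/-- A coset. -/ def N10971 : Q := sm gg N6598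
/-- A coset. -/ def N10976 : Q := sm ge N6600
/-- A coset. -/ def N10979 : Q := sm gb N6604
/-- A coset. -/ def N10993 : Q := sm gb N6612
/-- A coset. -/ def N10995 : Q := sm gc N6617
/-- A coset. -/ def N10996 : Q := sm gd N6618
/-- A coset. -/ def N10997 : Q := sm gg N6618
/-- A coset. -/ def N11002 : Q := sm gd N6621
/-- A coset. -/ def N11003 : Q := sm gg N6621
/-- A coset. -/ def N11008 : Q := sm gb N6625
/-- A coset. -/ def N11009 : Q := sm ga N6626
/-- A coset. -/ def N11010 : Q := sm gc N6626
/-- A coset. -/ def N11015 : Q := sm gg N6627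
/-- A coset. -/ def N11016 : Q := sm gb N6628
/-- A coset. -/ def N11019 : Q := sm gg N6629
/-- A coset. -/ def N11022 : Q := sm ga N6631
/-- A coset. -/ def N11024 : Q := sm gf N6631
/-- A coset. -/ def N11026 : Q := sm gb N6633
/-- A coset. -/ def N11028 : Q := sm gf N6633
/-- A coset. -/ def N11031 : Q := sm gg N6635
/-- A coset. -/ def N11032 : Q := sm ga N6636
/-- A coset. -/ def N11035 : Q := sm gg N6636
/-- A coset. -/ def N11037 : Q := sm gd N6637
/-- A coset. -/ def N11050 : Q := sm gc N6643
/-- A coset. -/ def N11052 : Q := sm gd N6644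
/-- A coset. -/ def N11056 : Q := sm gf N6646
/-- A coset. -/ def N11058 : Q := sm gb N6647
/-- A coset. -/ def N11061 : Q := sm gg N6647
/-- A coset. -/ def N11064 : Q := sm gf N6649
/-- A coset. -/ def N11068 : Q := sm gg N6650
/-- A coset. -/ def N11070 : Q := sm gg N6651
/-- A coset. -/ def N11080 : Q := sm gf N6656
/-- A coset. -/ def N11086 : Q := sm gc N6659
/-- A coset. -/ def N11088 : Q := sm gf N6660
/-- A coset. -/ def N11091 : Q := sm gg N6662
/-- A coset. -/ def N11092 : Q := sm ga N6663
/-- A coset. -/ def N11097 : Q := sm gd N6664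
/-- A coset. -/ def N11098 : Q := sm gf N6664
/-- A coset. -/ def N11100 : Q := sm gc N6666
/-- A coset. -/ def N11104 : Q := sm gg N6667
/-- A coset. -/ def N11105 : Q := sm gb N6668
/-- A coset. -/ def N11107 : Q := sm gf N6669
/-- A coset. -/ def N11115 : Q := sm gf N6672
/-- A coset. -/ def N11125 : Q := sm gg N6677
/-- A coset. -/ def N11138 : Q := sm ga N6684
/-- A coset. -/ def N11143 : Q := sm gd N6685
/-- A coset. -/ def N11151 : Q := sm gb N6689
/-- A coset. -/ def N11152 : Q := sm gb N6691
/-- A coset. -/ def N11155 : Q := sm gb N6695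
/-- A coset. -/ def N11159 : Q := sm gf N6698
/-- A coset. -/ def N11161 : Q := sm gg N6699
/-- A coset. -/ def N11162 : Q := sm gf N6700
/-- A coset. -/ def N11168 : Q := sm gf N6705
/-- A coset. -/ def N11171 : Q := sm gg N6708
/-- A coset. -/ def N11176 : Q := sm gf N6711
/-- A coset. -/ def N11179 : Q := sm gc N6713
/-- A coset. -/ def N11180 : Q := sm gg N6713
/-- A coset. -/ def N11182 : Q := sm gg N6714
/-- A coset. -/ def N11183 : Q := sm gc N6715
/-- A coset. -/ def N11185 : Q := sm gd N6717
/-- A coset. -/ def N11186 : Q := sm gg N6717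
/-- A coset. -/ def N11187 : Q := sm gf N6718
/-- A coset. -/ def N11188 : Q := sm gf N6719
/-- A coset. -/ def N11189 : Q := sm gg N6719
/-- A coset. -/ def N11194 : Q := sm gf N6722
/-- A coset. -/ def N11197 : Q := sm gf N6724
/-- A coset. -/ def N11199 : Q := sm gg N6731
/-- A coset. -/ def N11201 : Q := sm gc N6737
/-- A coset. -/ def N11202 : Q := sm gf N6737
/-- A coset. -/ def N11212 : Q := sm gg N6742
/-- A coset. -/ def N11213 : Q := sm gd N6743
/-- A coset. -/ def N11214 : Q := sm gf N6743
/-- A coset. -/ def N11216 : Q := sm gb N6745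
/-- A coset. -/ def N11218 : Q := sm ga N6747
/-- A coset. -/ def N11221 : Q := sm gd N6748
/-- A coset. -/ def N11222 : Q := sm gg N6748
/-- A coset. -/ def N11224 : Q := sm ge N6749
/-- A coset. -/ def N11226 : Q := sm gg N6749
/-- A coset. -/ def N11227 : Q := sm gb N6751
/-- A coset. -/ def N11228 : Q := sm gd N6752
/-- A coset. -/ def N11229 : Q := sm ge N6752
/-- A coset. -/ def N11231 : Q := sm gg N6752
/-- A coset. -/ def N11232 : Q := sm gf N6753
/-- A coset. -/ def N11233 : Q := sm gg N6753
/-- A coset. -/ def N11234 : Q := sm gg N6754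
/-- A coset. -/ def N11235 : Q := sm gf N6755
/-- A coset. -/ def N11236 : Q := sm gb N6756
/-- A coset. -/ def N11237 : Q := sm gg N6758
/-- A coset. -/ def N11238 : Q := sm gd N6759
/-- A coset. -/ def N11240 : Q := sm gf N6762
/-- A coset. -/ def N11246 : Q := sm gc N6767
/-- A coset. -/ def N11247 : Q := sm gd N6768
/-- A coset. -/ def N11248 : Q := sm gg N6768
/-- A coset. -/ def N11250 : Q := sm gc N6770
/-- A coset. -/ def N11251 : Q := sm gg N6770
/-- A coset. -/ def N11252 : Q := sm gb N6771
/-- A coset. -/ def N11253 : Q := sm ga N6772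
/-- A coset. -/ def N11255 : Q := sm gf N6772
/-- A coset. -/ def N11258 : Q := sm gd N6779
/-- A coset. -/ def N11259 : Q := sm gb N6780
/-- A coset. -/ def N11262 : Q := sm gd N6783
/-- A coset. -/ def N11264 : Q := sm gf N6784
/-- A coset. -/ def N11267 : Q := sm gf N6785
/-- A coset. -/ def N11271 : Q := sm gd N6788
/-- A coset. -/ def N11273 : Q := sm ge N6790
/-- A coset. -/ def N11276 : Q := sm gd N6794
/-- A coset. -/ def N11277 : Q := sm gf N6794
/-- A coset. -/ def N11279 : Q := sm ge N6796
/-- A coset. -/ def N11281 : Q := sm gb N6799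
/-- A coset. -/ def N11282 : Q := sm gb N6800
/-- A coset. -/ def N11283 : Q := sm ga N6801
/-- A coset. -/ def N11284 : Q := sm gc N6801
/-- A coset. -/ def N11288 : Q := sm gf N6802
/-- A coset. -/ def N11296 : Q := sm gf N6806
/-- A coset. -/ def N11301 : Q := sm gd N6809
/-- A coset. -/ def N11302 : Q := sm gc N6810
/-- A coset. -/ def N11304 : Q := sm gg N6810
/-- A coset. -/ def N11306 : Q := sm ga N6812
/-- A coset. -/ def N11308 : Q := sm gf N6812
/-- A coset. -/ def N11309 : Q := sm gb N6813
/-- A coset. -/ def N11311 : Q := sm gf N6813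
/-- A coset. -/ def N11313 : Q := sm gf N6814
/-- A coset. -/ def N11321 : Q := sm gc N6820
/-- A coset. -/ def N11322 : Q := sm ge N6820
/-- A coset. -/ def N11325 : Q := sm ge N6821
/-- A coset. -/ def N11327 : Q := sm gg N6822
/-- A coset. -/ def N11331 : Q := sm gb N6825
/-- A coset. -/ def N11345 : Q := sm gb N6835
/-- A coset. -/ def N11346 : Q := sm gd N6835
/-- A coset. -/ def N11347 : Q := sm gg N6835
/-- A coset. -/ def N11349 : Q := sm ge N6837
/-- A coset. -/ def N11350 : Q := sm gg N6837
/-- A coset. -/ def N11351 : Q := sm gf N6838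
/-- A coset. -/ def N11352 : Q := sm gc N6840
/-- A coset. -/ def N11353 : Q := sm gf N6840
/-- A coset. -/ def N11355 : Q := sm gb N6841
/-- A coset. -/ def N11357 : Q := sm gf N6841
/-- A coset. -/ def N11361 : Q := sm gf N6843
/-- A coset. -/ def N11366 : Q := sm ge N6845
/-- A coset. -/ def N11367 : Q := sm gg N6845
/-- A coset. -/ def N11370 : Q := sm gc N6847
/-- A coset. -/ def N11384 : Q := sm gd N6854
/-- A coset. -/ def N11385 : Q := sm gf N6854
/-- A coset. -/ def N11386 : Q := sm gd N6857
/-- A coset. -/ def N11387 : Q := sm gg N6857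
/-- A coset. -/ def N11389 : Q := sm ge N6858
/-- A coset. -/ def N11390 : Q := sm gf N6858
/-- A coset. -/ def N11395 : Q := sm gc N6862
/-- A coset. -/ def N11397 : Q := sm gg N6864
/-- A coset. -/ def N11400 : Q := sm gg N6865
/-- A coset. -/ def N11401 : Q := sm gb N6866
/-- A coset. -/ def N11402 : Q := sm gf N6866
/-- A coset. -/ def N11403 : Q := sm gb N6867
/-- A coset. -/ def N11404 : Q := sm ge N6867
/-- A coset. -/ def N11405 : Q := sm gg N6867
/-- A coset. -/ def N11406 : Q := sm gg N6868
/-- A coset. -/ def N11408 : Q := sm ga N6870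
/-- A coset. -/ def N11409 : Q := sm gc N6870
/-- A coset. -/ def N11413 : Q := sm gf N6872
/-- A coset. -/ def N11415 : Q := sm gg N6874
/-- A coset. -/ def N11416 : Q := sm gd N6875
/-- A coset. -/ def N11417 : Q := sm gg N6875
/-- A coset. -/ def N11418 : Q := sm gb N6876
/-- A coset. -/ def N11419 : Q := sm gf N6876
/-- A coset. -/ def N11420 : Q := sm gf N6877
/-- A coset. -/ def N11421 : Q := sm gb N6878
/-- A coset. -/ def N11427 : Q := sm gf N6882
/-- A coset. -/ def N11428 : Q := sm gc N6884
/-- A coset. -/ def N11431 : Q := sm gg N6884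
/-- A coset. -/ def N11433 : Q := sm gd N6887
/-- A coset. -/ def N11435 : Q := sm gf N6887
/-- A coset. -/ def N11436 : Q := sm gg N6887
/-- A coset. -/ def N11437 : Q := sm gf N6888
/-- A coset. -/ def N11439 : Q := sm gg N6889
/-- A coset. -/ def N11443 : Q := sm gd N6894
/-- A coset. -/ def N11445 : Q := sm ga N6899
/-- A coset. -/ def N11446 : Q := sm gc N6899
/-- A coset. -/ def N11447 : Q := sm gc N6906
/-- A coset. -/ def N11448 : Q := sm gd N6909
/-- A coset. -/ def N11449 : Q := sm gd N6911
/-- A coset. -/ def N11451 : Q := sm gf N6912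
/-- A coset. -/ def N11457 : Q := sm gd N6925
/-- A coset. -/ def N11461 : Q := sm gf N6926
/-- A coset. -/ def N11470 : Q := sm gb N6932
/-- A coset. -/ def N11471 : Q := sm gd N6933
/-- A coset. -/ def N11474 : Q := sm gf N6935
/-- A coset. -/ def N11476 : Q := sm gc N6940
/-- A coset. -/ def N11477 : Q := sm ge N6940
/-- A coset. -/ def N11478 : Q := sm gg N6940
/-- A coset. -/ def N11486 : Q := sm gf N6946
/-- A coset. -/ def N11495 : Q := sm gd N6953
/-- A coset. -/ def N11517 : Q := sm gd N6967
/-- A coset. -/ def N11518 : Q := sm gc N6968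
/-- A coset. -/ def N11519 : Q := sm ge N6968
/-- A coset. -/ def N11520 : Q := sm gg N6968
/-- A coset. -/ def N11527 : Q := sm gd N6973
/-- A coset. -/ def N11530 : Q := sm gc N6974
/-- A coset. -/ def N11531 : Q := sm ge N6974
/-- A coset. -/ def N11532 : Q := sm gg N6974
/-- A coset. -/ def N11543 : Q := sm ge N6982
/-- A coset. -/ def N11544 : Q := sm gf N6982
/-- A coset. -/ def N11546 : Q := sm gb N6983
/-- A coset. -/ def N11550 : Q := sm gg N6988
/-- A coset. -/ def N11551 : Q := sm gb N6990
/-- A coset. -/ def N11561 : Q := sm gb N6994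
/-- A coset. -/ def N11562 : Q := sm gf N6994
/-- A coset. -/ def N11563 : Q := sm ga N6995
/-- A coset. -/ def N11568 : Q := sm gf N6997
/-- A coset. -/ def N11569 : Q := sm gb N6998
/-- A coset. -/ def N11570 : Q := sm gd N7000
/-- A coset. -/ def N11577 : Q := sm ge N7006
/-- A coset. -/ def N11582 : Q := sm gg N7008
/-- A coset. -/ def N11583 : Q := sm gb N7009
/-- A coset. -/ def N11586 : Q := sm ga N7011
/-- A coset. -/ def N11587 : Q := sm gc N7011
/-- A coset. -/ def N11588 : Q := sm gf N7011
/-- A coset. -/ def N11591 : Q := sm ga N7014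
/-- A coset. -/ def N11594 : Q := sm gb N7015
/-- A coset. -/ def N11596 : Q := sm gf N7015
/-- A coset. -/ def N11597 : Q := sm gd N7016
/-- A coset. -/ def N11600 : Q := sm gc N7018
/-- A coset. -/ def N11603 : Q := sm gc N7021
/-- A coset. -/ def N11604 : Q := sm ge N7021
/-- A coset. -/ def N11610 : Q := sm gg N7023
/-- A coset. -/ def N11611 : Q := sm gd N7024
/-- A coset. -/ def N11612 : Q := sm gf N7024
/-- A coset. -/ def N11614 : Q := sm gg N7025
/-- A coset. -/ def N11618 : Q := sm gg N7027
/-- A coset. -/ def N11623 : Q := sm ga N7030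
/-- A coset. -/ def N11625 : Q := sm gf N7030
/-- A coset. -/ def N11627 : Q := sm gb N7032
/-- A coset. -/ def N11628 : Q := sm gc N7032
/-- A coset. -/ def N11630 : Q := sm gf N7033
/-- A coset. -/ def N11632 : Q := sm ga N7035
/-- A coset. -/ def N11633 : Q := sm gc N7035
/-- A coset. -/ def N11634 : Q := sm gg N7035
/-- A coset. -/ def N11637 : Q := sm gf N7036
/-- A coset. -/ def N11638 : Q := sm gg N7036
/-- A coset. -/ def N11643 : Q := sm gc N7038
/-- A coset. -/ def N11645 : Q := sm gd N7039
/-- A coset. -/ def N11649 : Q := sm gg N7041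
/-- A coset. -/ def N11652 : Q := sm gg N7043
/-- A coset. -/ def N11654 : Q := sm gf N7044
/-- A coset. -/ def N11655 : Q := sm gc N7047
/-- A coset. -/ def N11657 : Q := sm gb N7050
/-- A coset. -/ def N11658 : Q := sm gd N7050
/-- A coset. -/ def N11660 : Q := sm ga N7052
/-- A coset. -/ def N11661 : Q := sm gd N7052
/-- A coset. -/ def N11662 : Q := sm gf N7052
/-- A coset. -/ def N11663 : Q := sm gg N7052
/-- A coset. -/ def N11664 : Q := sm ge N7053
/-- A coset. -/ def N11666 : Q := sm ge N7054
/-- A coset. -/ def N11667 : Q := sm gg N7054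
/-- A coset. -/ def N11668 : Q := sm gg N7055
/-- A coset. -/ def N11673 : Q := sm gc N7058
/-- A coset. -/ def N11675 : Q := sm gf N7059
/-- A coset. -/ def N11677 : Q := sm gd N7061
/-- A coset. -/ def N11678 : Q := sm gf N7061
/-- A coset. -/ def N11684 : Q := sm gf N7068
/-- A coset. -/ def N11685 : Q := sm gg N7068
/-- A coset. -/ def N11687 : Q := sm gg N7069
/-- A coset. -/ def N11688 : Q := sm gd N7074
/-- A coset. -/ def N11689 : Q := sm gf N7074
/-- A coset. -/ def N11690 : Q := sm gg N7074
/-- A coset. -/ def N11691 : Q := sm gc N7075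
/-- A coset. -/ def N11692 : Q := sm ge N7075
/-- A coset. -/ def N11693 : Q := sm gf N7075
/-- A coset. -/ def N11695 : Q := sm gg N7076
/-- A coset. -/ def N11696 : Q := sm gf N7077
/-- A coset. -/ def N11697 : Q := sm gg N7078
/-- A coset. -/ def N11698 : Q := sm gb N7079
/-- A coset. -/ def N11699 : Q := sm gd N7081
/-- A coset. -/ def N11705 : Q := sm gg N7083
/-- A coset. -/ def N11708 : Q := sm gf N7085
/-- A coset. -/ def N11709 : Q := sm gb N7086
/-- A coset. -/ def N11710 : Q := sm ga N7087
/-- A coset. -/ def N11712 : Q := sm gg N7087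
/-- A coset. -/ def N11716 : Q := sm gc N7091
/-- A coset. -/ def N11717 : Q := sm ge N7091
/-- A coset. -/ def N11719 : Q := sm gg N7091
/-- A coset. -/ def N11720 : Q := sm gb N7092
/-- A coset. -/ def N11721 : Q := sm gb N7093
/-- A coset. -/ def N11722 : Q := sm gd N7094
/-- A coset. -/ def N11726 : Q := sm gf N7095
/-- A coset. -/ def N11728 : Q := sm gg N7096
/-- A coset. -/ def N11729 : Q := sm gf N7097
/-- A coset. -/ def N11734 : Q := sm gf N7100
/-- A coset. -/ def N11735 : Q := sm gg N7100
/-- A coset. -/ def N11736 : Q := sm gb N7101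
/-- A coset. -/ def N11738 : Q := sm gd N7103
/-- A coset. -/ def N11739 : Q := sm ge N7103
/-- A coset. -/ def N11740 : Q := sm gf N7103
/-- A coset. -/ def N11741 : Q := sm gg N7103
/-- A coset. -/ def N11742 : Q := sm gf N7104
/-- A coset. -/ def N11743 : Q := sm gg N7104
/-- A coset. -/ def N11744 : Q := sm gb N7105
/-- A coset. -/ def N11745 : Q := sm gb N7106
/-- A coset. -/ def N11747 : Q := sm gc N7107
/-- A coset. -/ def N11748 : Q := sm gg N7107
/-- A coset. -/ def N11750 : Q := sm gc N7108
/-- A coset. -/ def N11751 : Q := sm gf N7108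
/-- A coset. -/ def N11752 : Q := sm gc N7109
/-- A coset. -/ def N11755 : Q := sm gg N7109
/-- A coset. -/ def N11758 : Q := sm gg N7110
/-- A coset. -/ def N11760 : Q := sm gg N7111
/-- A coset. -/ def N11761 : Q := sm gb N7112
/-- A coset. -/ def N11762 : Q := sm gf N7112
/-- A coset. -/ def N11763 : Q := sm gg N7113
/-- A coset. -/ def N11764 : Q := sm gf N7114
/-- A coset. -/ def N11765 : Q := sm gb N7115
/-- A coset. -/ def N11769 : Q := sm gf N7117
/-- A coset. -/ def N11780 : Q := sm gb N7121
/-- A coset. -/ def N11788 : Q := sm gf N7127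
/-- A coset. -/ def N11790 : Q := sm gf N7128
/-- A coset. -/ def N11791 : Q := sm gb N7129
/-- A coset. -/ def N11792 : Q := sm gg N7129
/-- A coset. -/ def N11795 : Q := sm gg N7130
/-- A coset. -/ def N11799 : Q := sm gb N7132
/-- A coset. -/ def N11800 : Q := sm gd N7132
/-- A coset. -/ def N11801 : Q := sm gf N7132
/-- A coset. -/ def N11803 : Q := sm gc N7134
/-- A coset. -/ def N11809 : Q := sm gg N7136
/-- A coset. -/ def N11811 : Q := sm gc N7138
/-- A coset. -/ def N11812 : Q := sm gg N7138
/-- A coset. -/ def N11813 : Q := sm gd N7139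
/-- A coset. -/ def N11814 : Q := sm gg N7139
/-- A coset. -/ def N11815 : Q := sm gf N7140
/-- A coset. -/ def N11817 : Q := sm gg N7143
/-- A coset. -/ def N11821 : Q := sm gf N7145
/-- A coset. -/ def N11822 : Q := sm gb N7146
/-- A coset. -/ def N11823 : Q := sm gd N7148
/-- A coset. -/ def N11825 : Q := sm gc N7149
/-- A coset. -/ def N11827 : Q := sm gf N7149
/-- A coset. -/ def N11830 : Q := sm gd N7152
/-- A coset. -/ def N11835 : Q := sm gg N7153
/-- A coset. -/ def N11837 : Q := sm gf N7155
/-- A coset. -/ def N11863 : Q := sm gc N7168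
/-- A coset. -/ def N11866 : Q := sm gg N7168
/-- A coset. -/ def N11869 : Q := sm gg N7169
/-- A coset. -/ def N11876 : Q := sm gf N7173
/-- A coset. -/ def N11877 : Q := sm gg N7173
/-- A coset. -/ def N11878 : Q := sm gg N7174
/-- A coset. -/ def N11881 : Q := sm gf N7176
/-- A coset. -/ def N11883 : Q := sm gg N7177
/-- A coset. -/ def N11926 : Q := sm gb N7199
/-- A coset. -/ def N11927 : Q := sm gg N7199
/-- A coset. -/ def N11941 : Q := sm gb N7209
/-- A coset. -/ def N11943 : Q := sm gc N7211
/-- A coset. -/ def N11944 : Q := sm gg N7211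
/-- A coset. -/ def N11945 : Q := sm gc N7212
/-- A coset. -/ def N11946 : Q := sm ga N7213
/-- A coset. -/ def N11947 : Q := sm gc N7213
/-- A coset. -/ def N11948 : Q := sm gb N8320
/-- A coset. -/ def N11949 : Q := sm gb N8920
/-- A coset. -/ def N11950 : Q := sm gc N10832
theorem L0 : sm ga N0 = N0 := sded_0_0
theorem L1 : sm gb N0 = N0 := sded_1_0
theorem L2 : sm gc N0 = N0 := sded_2_0
theorem L3 : sm gd N0 = N0 := sded_3_0
theorem L4 : sm ge N0 = N0 := sded_4_0
theorem L5 : sm gf N0 = N0 := sded_5_0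
theorem L6 : sm gg N0 = N1 := rfl
theorem L7 : sm gg N1 = N0 := flp_g L6
theorem L8 : sm ga N1 = N1 := ded_12_1 L7 L0 L6
theorem L9 : sm gc N1 = N1 := ded_21_1 L7 L2 L6
theorem L10 : sm gd N1 = N1 := ded_24_1 L7 L3 L6
theorem L11 : sm ge N1 = N1 := ded_26_1 L7 L4 L6
theorem L12 : sm gf N1 = N1 := ded_29_0 L7 L5 L6 L8
theorem L13 : sm gb N1 = N2 := rfl
theorem L14 : sm gb N2 = N1 := flp_b L13
theorem L15 : sm gd N2 = N2 := ded_14_2 L14 L10 L13
theorem L16 : sm ge N2 = N2 := ded_15_2 L14 L11 L13
theorem L17 : sm gg N2 = N2 := ded_17_2 L14 L7 L1 L6 L13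
theorem L18 : sm ga N2 = N3 := rfl
theorem L19 : sm ga N3 = N2 := flp_a L18
theorem L20 : sm gd N3 = N3 := ded_9_2 L19 L15 L18
theorem L21 : sm ge N3 = N3 := ded_10_2 L19 L16 L18
theorem L22 : sm gg N3 = N3 := ded_12_2 L19 L17 L18
theorem L23 : sm gc N2 = N4 := rfl
theorem L24 : sm gc N4 = N2 := flp_c L23
theorem L25 : sm ge N4 = N4 := ded_19_2 L24 L16 L23
theorem L26 : sm gg N4 = N4 := ded_21_2 L24 L17 L23
theorem L27 : sm gb N4 = N4 := ded_13_1 L24 L14 L9 L13 L23
theorem L28 : sm gf N2 = N5 := rfl
theorem L29 : sm gf N5 = N2 := flp_f L28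
theorem L30 : sm gd N5 = N5 := ded_23_1 L29 L15 L28
theorem L31 : sm ge N5 = N5 := ded_25_1 L29 L16 L28
theorem L32 : sm gb N5 = N5 := ded_16_1 L29 L14 L12 L13 L28
theorem L33 : sm gb N3 = N6 := rfl
theorem L34 : sm gb N6 = N3 := flp_b L33
theorem L35 : sm gd N6 = N6 := ded_14_2 L34 L20 L33
theorem L36 : sm ge N6 = N6 := ded_15_2 L34 L21 L33
theorem L37 : sm gc N3 = N7 := rfl
theorem L38 : sm gc N7 = N3 := flp_c L37
theorem L39 : sm ga N7 = N4 := ded_8_1 L24 L18 L37
theorem L40 : sm ga N4 = N7 := flp_a L39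
theorem L41 : sm ge N7 = N7 := ded_19_2 L38 L21 L37
theorem L42 : sm gg N7 = N7 := ded_21_2 L38 L22 L37
theorem L43 : sm gf N3 = N8 := rfl
theorem L44 : sm gf N8 = N3 := flp_f L43
theorem L45 : sm ga N8 = N5 := ded_11_1 L29 L18 L43
theorem L46 : sm ga N5 = N8 := flp_a L45
theorem L49 : sm gg N8 = N5 := ded_29_3 L46 L44 L22 L43
theorem L50 : sm gg N5 = N8 := flp_g L49
theorem L51 : N6 = N8 := coi_31_3 L49 L29 L14 L7 L5 L1 L6 L12 L13 L17 L28 L32 L50 L44 L33
theorem L52 : N8 = N6 := (eqc rfl L51 rfl).symm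
theorem L53 : sm ga N6 = N5 := trf L52 L45 rfl
theorem L54 : sm ga N5 = N6 := flp_a L53
theorem L57 : sm gf N6 = N3 := trf L52 L44 rfl
theorem L58 : sm gf N3 = N6 := flp_f L57
theorem L59 : sm gg N6 = N5 := trf L52 L49 rfl
theorem L60 : sm gg N5 = N6 := flp_g L59
theorem L61 : sm gd N4 = N9 := rfl
theorem L62 : sm gd N9 = N4 := flp_d L61
theorem L63 : sm gb N9 = N9 := ded_14_1 L62 L27 L61
theorem L64 : sm gg N9 = N9 := ded_24_2 L62 L26 L61
theorem L65 : sm gf N4 = N10 := rfl
theorem L66 : sm gf N10 = N4 := flp_f L65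
theorem L67 : sm gc N10 = N5 := ded_20_1 L29 L23 L65
theorem L68 : sm gc N5 = N10 := flp_c L67
theorem L69 : sm ge N10 = N10 := ded_25_1 L66 L25 L65
theorem L70 : sm gc N6 = N11 := rfl
theorem L71 : sm gc N11 = N6 := flp_c L70
theorem L72 : sm ga N11 = N10 := ded_8_1 L67 L54 L70
theorem L73 : sm ga N10 = N11 := flp_a L72
theorem L74 : sm ge N11 = N11 := ded_19_2 L71 L36 L70
theorem L75 : sm gf N11 = N7 := ded_20_2 L38 L58 L70
theorem L76 : sm gf N7 = N11 := flp_f L75
theorem L77 : sm gg N11 = N10 := ded_21_2 L67 L60 L70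
theorem L78 : sm gg N10 = N11 := flp_g L77
theorem L79 : sm gb N7 = N12 := rfl
theorem L80 : sm gb N12 = N7 := flp_b L79
theorem L81 : sm ge N12 = N12 := ded_15_2 L80 L41 L79
theorem L82 : sm gd N7 = N13 := rfl
theorem L83 : sm gd N13 = N7 := flp_d L82
theorem L84 : sm ga N13 = N9 := ded_9_1 L62 L40 L82
theorem L85 : sm ga N9 = N13 := flp_a L84
theorem L86 : sm gg N13 = N13 := ded_24_2 L83 L42 L82
theorem L87 : sm gc N9 = N14 := rfl
theorem L88 : sm gc N14 = N9 := flp_c L87
theorem L89 : sm gg N14 = N14 := ded_21_2 L88 L64 L87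
theorem L90 : sm ge N9 = N15 := rfl
theorem L91 : sm ge N15 = N9 := flp_e L90
theorem L92 : sm gb N15 = N15 := ded_15_1 L91 L63 L90
theorem L93 : sm gg N15 = N15 := ded_26_2 L91 L64 L90
theorem L94 : sm gd N15 = N15 := ded_22_1 L91 L62 L25 L61 L90
theorem L95 : sm gf N9 = N16 := rfl
theorem L96 : sm gf N16 = N9 := flp_f L95
theorem L97 : sm gd N16 = N10 := ded_23_1 L66 L61 L95
theorem L98 : sm gd N10 = N16 := flp_d L97
theorem L99 : sm gb N10 = N17 := rfl
theorem L100 : sm gb N17 = N10 := flp_b L99
theorem L101 : sm ge N17 = N17 := ded_15_2 L100 L69 L99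
theorem L102 : sm gc N17 = N17 := ded_13_2 L100 L67 L32 L68 L99
theorem L103 : sm gf N17 = N17 := ded_16_2 L100 L66 L27 L65 L99
theorem L104 : sm ga N17 = N17 := ded_30_3 L103 L102 L100 L73 L75 L38 L33 L53 L29 L23 L27 L40 L76 L71 L34 L19 L28 L68 L99
theorem L105 : sm gb N11 = N18 := rfl
theorem L106 : sm gb N18 = N11 := flp_b L105
theorem L107 : sm ge N18 = N18 := ded_15_2 L106 L74 L105
theorem L108 : sm gc N18 = N12 := ded_13_2 L80 L38 L33 L70 L105
theorem L109 : sm gc N12 = N18 := flp_c L108
theorem L110 : sm gd N11 = N19 := rfl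
theorem L111 : sm gd N19 = N11 := flp_d L110
theorem L112 : sm ga N19 = N16 := ded_9_1 L97 L73 L110
theorem L113 : sm ga N16 = N19 := flp_a L112
theorem L114 : sm gf N19 = N13 := ded_23_2 L83 L76 L110
theorem L115 : sm gf N13 = N19 := flp_f L114
theorem L116 : sm gg N19 = N16 := ded_24_2 L97 L78 L110
theorem L117 : sm gg N16 = N19 := flp_g L116
theorem L118 : sm ga N12 = N20 := rfl
theorem L119 : sm ga N20 = N12 := flp_a L118
theorem L120 : sm ge N20 = N20 := ded_10_2 L119 L81 L118
theorem L121 : sm gd N12 = N21 := rfl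
theorem L122 : sm gd N21 = N12 := flp_d L121
theorem L123 : sm gb N21 = N13 := ded_14_1 L83 L79 L121
theorem L124 : sm gb N13 = N21 := flp_b L123
theorem L125 : sm gf N12 = N22 := rfl
theorem L126 : sm gf N22 = N12 := flp_f L125
theorem L127 : sm ge N22 = N22 := ded_25_1 L126 L81 L125
theorem L128 : sm gg N12 = N23 := rfl
theorem L129 : sm gg N23 = N12 := flp_g L128
theorem L130 : sm ge N23 = N23 := ded_26_1 L129 L81 L128
theorem L131 : sm gb N23 = N23 := ded_17_1 L129 L80 L42 L79 L128
theorem L132 : sm gc N13 = N24 := rfl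
theorem L133 : sm gc N24 = N13 := flp_c L132
theorem L134 : sm ga N24 = N14 := ded_8_1 L88 L85 L132
theorem L135 : sm ga N14 = N24 := flp_a L134
theorem L136 : sm gg N24 = N24 := ded_21_2 L133 L86 L132
theorem L137 : sm gd N24 = N14 := ded_28_7 L135 L133 L83 L38 L20 L37 L82 L132
theorem L138 : sm gd N14 = N24 := flp_d L137
theorem L139 : sm ge N13 = N25 := rfl
theorem L140 : sm ge N25 = N13 := flp_e L139
theorem L141 : sm ga N25 = N15 := ded_10_1 L91 L85 L139
theorem L142 : sm ga N15 = N25 := flp_a L141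
theorem L143 : sm gg N25 = N25 := ded_26_2 L140 L86 L139
theorem L144 : sm gd N25 = N25 := ded_22_1 L140 L83 L41 L82 L139
theorem L145 : sm gb N14 = N26 := rfl
theorem L146 : sm gb N26 = N14 := flp_b L145
theorem L147 : sm gc N26 = N26 := ded_13_2 L146 L88 L63 L87 L145
theorem L148 : sm ge N14 = N27 := rfl
theorem L149 : sm ge N27 = N14 := flp_e L148
theorem L150 : sm gc N27 = N15 := ded_19_1 L91 L87 L148
theorem L151 : sm gc N15 = N27 := flp_c L150
theorem L152 : sm gg N27 = N27 := ded_26_2 L149 L89 L148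
theorem L153 : sm gf N14 = N28 := rfl
theorem L154 : sm gf N28 = N14 := flp_f L153
theorem L155 : sm gc N28 = N16 := ded_20_1 L96 L87 L153
theorem L156 : sm gc N16 = N28 := flp_c L155
theorem L157 : sm gf N15 = N29 := rfl
theorem L158 : sm gf N29 = N15 := flp_f L157
theorem L159 : sm gd N29 = N29 := ded_23_1 L158 L94 L157
theorem L160 : sm ge N29 = N16 := ded_25_1 L96 L90 L157
theorem L161 : sm ge N16 = N29 := flp_e L160
theorem L162 : sm gb N16 = N30 := rfl
theorem L163 : sm gb N30 = N16 := flp_b L162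
theorem L164 : sm gd N30 = N17 := ded_14_2 L100 L98 L162
theorem L165 : sm gd N17 = N30 := flp_d L164
theorem L166 : sm gf N30 = N30 := ded_16_2 L163 L96 L63 L95 L162
theorem L167 : sm ga N30 = N30 := ded_9_3 L164 L104 L165
theorem L168 : sm gg N17 = N31 := rfl
theorem L169 : sm gg N31 = N17 := flp_g L168
theorem L170 : sm ga N31 = N31 := ded_12_1 L169 L104 L168
theorem L171 : sm gc N31 = N31 := ded_21_1 L169 L102 L168
theorem L172 : sm ge N31 = N31 := ded_26_1 L169 L101 L168
theorem L173 : sm gf N31 = N31 := ded_29_0 L169 L103 L168 L170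
theorem L174 : sm ga N18 = N32 := rfl
theorem L175 : sm ga N32 = N18 := flp_a L174
theorem L176 : sm gc N32 = N20 := ded_8_2 L119 L109 L174
theorem L177 : sm gc N20 = N32 := flp_c L176
theorem L180 : sm gd N18 = N33 := rfl
theorem L181 : sm gd N33 = N18 := flp_d L180
theorem L182 : sm gb N33 = N19 := ded_14_1 L111 L105 L180
theorem L183 : sm gb N19 = N33 := flp_b L182
theorem L184 : sm gf N18 = N34 := rfl
theorem L185 : sm gf N34 = N18 := flp_f L184
theorem L186 : sm gc N34 = N22 := ded_20_1 L126 L109 L184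
theorem L187 : sm gc N22 = N34 := flp_c L186
theorem L188 : sm ge N34 = N34 := ded_25_1 L185 L107 L184
theorem L189 : sm gb N34 = N22 := ded_16_1 L126 L80 L76 L105 L184
theorem L190 : sm gb N22 = N34 := flp_b L189
theorem L191 : sm gg N18 = N35 := rfl
theorem L192 : sm gg N35 = N18 := flp_g L191
theorem L193 : sm gc N35 = N23 := ded_21_1 L129 L109 L191
theorem L196 : sm gb N35 = N31 := ded_17_1 L169 L100 L78 L105 L191
theorem L197 : sm gb N31 = N35 := flp_b L196
theorem L198 : sm gg N22 = N34 := ded_31_3 L185 L106 L77 L66 L27 L26 L65 L99 L168 L173 L197 L192 L184 L189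
theorem L199 : sm gg N34 = N22 := flp_g L198
theorem L200 : N35 = N20 := coi_29_4 L119 L125 L198 L185 L191
theorem L201 : N35 = N20 := eqc rfl L200 rfl
theorem L202 : sm gb N20 = N31 := trf L201 L196 rfl
theorem L203 : sm gb N31 = N20 := flp_b L202
theorem L204 : sm gc N20 = N23 := trf L201 L193 rfl
theorem L205 : N23 = N32 := eqe L204 L177
theorem L206 : N32 = N23 := (eqc rfl L205 rfl).symm
theorem L208 : sm gg N20 = N18 := trf L201 L192 rfl
theorem L209 : sm gg N18 = N20 := flp_g L208
theorem L210 : sm ga N23 = N18 := trf L206 L175 rfl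
theorem L211 : sm ga N18 = N23 := flp_a L210
theorem L213 : sm gc N23 = N20 := trf L206 L176 rfl
theorem L214 : sm gc N20 = N23 := flp_c L213
theorem L216 : sm gc N19 = N36 := rfl
theorem L217 : sm gc N36 = N19 := flp_c L216
theorem L218 : sm ga N36 = N28 := ded_8_1 L155 L113 L216
theorem L219 : sm ga N28 = N36 := flp_a L218
theorem L220 : sm gf N36 = N24 := ded_20_2 L133 L115 L216
theorem L221 : sm gf N24 = N36 := flp_f L220
theorem L222 : sm gg N36 = N28 := ded_21_2 L155 L117 L216
theorem L223 : sm gg N28 = N36 := flp_g L222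
theorem L224 : sm gd N36 = N28 := ded_28_7 L219 L217 L111 L71 L35 L70 L110 L216
theorem L225 : sm gd N28 = N36 := flp_d L224
theorem L226 : sm ge N19 = N37 := rfl
theorem L227 : sm ge N37 = N19 := flp_e L226
theorem L228 : sm ga N37 = N29 := ded_10_1 L160 L113 L226
theorem L229 : sm ga N29 = N37 := flp_a L228
theorem L230 : sm gf N37 = N25 := ded_25_2 L140 L115 L226
theorem L231 : sm gf N25 = N37 := flp_f L230
theorem L232 : sm gg N37 = N29 := ded_26_2 L160 L117 L226
theorem L233 : sm gg N29 = N37 := flp_g L232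
theorem L234 : sm gd N37 = N37 := ded_22_1 L227 L111 L74 L110 L226
theorem L235 : sm gd N20 = N38 := rfl
theorem L236 : sm gd N38 = N20 := flp_d L235
theorem L237 : sm ga N38 = N21 := ded_9_1 L122 L118 L235
theorem L238 : sm ga N21 = N38 := flp_a L237
theorem L239 : sm gg N38 = N33 := ded_24_2 L181 L209 L235
theorem L240 : sm gg N33 = N38 := flp_g L239
theorem L241 : sm gf N20 = N39 := rfl
theorem L242 : sm gf N39 = N20 := flp_f L241
theorem L243 : sm ga N39 = N22 := ded_11_1 L126 L118 L241
theorem L244 : sm ga N22 = N39 := flp_a L243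
theorem L245 : sm ge N39 = N39 := ded_25_1 L242 L120 L241
theorem L246 : sm gb N39 = N39 := ded_16_1 L242 L202 L173 L203 L241
theorem L247 : sm gc N21 = N40 := rfl
theorem L248 : sm gc N40 = N21 := flp_c L247
theorem L249 : sm ge N21 = N41 := rfl
theorem L250 : sm ge N41 = N21 := flp_e L249
theorem L251 : sm gb N41 = N25 := ded_15_1 L140 L124 L249
theorem L252 : sm gb N25 = N41 := flp_b L251
theorem L253 : sm gd N41 = N41 := ded_22_1 L250 L122 L81 L121 L249
theorem L254 : sm gf N21 = N42 := rfl
theorem L255 : sm gf N42 = N21 := flp_f L254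
theorem L256 : sm gd N42 = N22 := ded_23_1 L126 L121 L254
theorem L257 : sm gd N22 = N42 := flp_d L256
theorem L258 : sm gg N21 = N43 := rfl
theorem L259 : sm gg N43 = N21 := flp_g L258
theorem L260 : sm ga N43 = N33 := ded_12_1 L240 L237 L258
theorem L261 : sm ga N33 = N43 := flp_a L260
theorem L262 : sm gd N43 = N23 := ded_24_1 L129 L121 L258
theorem L263 : sm gd N23 = N43 := flp_d L262
theorem L264 : sm gb N43 = N43 := ded_17_1 L259 L123 L86 L124 L258
theorem L265 : sm gf N23 = N44 := rfl
theorem L266 : sm gf N44 = N23 := flp_f L265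
theorem L267 : sm ga N44 = N34 := ded_11_1 L185 L211 L265
theorem L268 : sm ga N34 = N44 := flp_a L267
theorem L269 : sm gc N44 = N39 := ded_20_1 L242 L214 L265
theorem L270 : sm gc N39 = N44 := flp_c L269
theorem L271 : sm ge N44 = N44 := ded_25_1 L266 L130 L265
theorem L272 : sm gg N44 = N39 := ded_29_3 L243 L126 L128 L265
theorem L273 : sm gg N39 = N44 := flp_g L272
theorem L274 : sm gb N24 = N45 := rfl
theorem L275 : sm gb N45 = N24 := flp_b L274
theorem L276 : sm gd N45 = N26 := ded_14_2 L146 L138 L274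
theorem L277 : sm gd N26 = N45 := flp_d L276
theorem L278 : sm ge N24 = N46 := rfl
theorem L279 : sm ge N46 = N24 := flp_e L278
theorem L280 : sm ga N46 = N27 := ded_10_1 L149 L135 L278
theorem L281 : sm ga N27 = N46 := flp_a L280
theorem L282 : sm gc N46 = N25 := ded_19_1 L140 L132 L278
theorem L283 : sm gc N25 = N46 := flp_c L282
theorem L284 : sm gg N46 = N46 := ded_26_2 L279 L136 L278
theorem L285 : sm ga N26 = N47 := rfl
theorem L286 : sm ga N47 = N26 := flp_a L285
theorem L287 : sm gc N47 = N47 := ded_8_2 L286 L147 L285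
theorem L288 : sm ge N26 = N48 := rfl
theorem L289 : sm ge N48 = N26 := flp_e L288
theorem L290 : sm gb N48 = N27 := ded_15_1 L149 L145 L288
theorem L291 : sm gb N27 = N48 := flp_b L290
theorem L292 : sm gc N48 = N48 := ded_19_1 L289 L147 L288
theorem L293 : sm gf N26 = N49 := rfl
theorem L294 : sm gf N49 = N26 := flp_f L293
theorem L295 : sm gc N49 = N49 := ded_20_1 L294 L147 L293
theorem L296 : sm gg N26 = N50 := rfl
theorem L297 : sm gg N50 = N26 := flp_g L296
theorem L298 : sm gc N50 = N50 := ded_21_1 L297 L147 L296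
theorem L299 : sm gb N50 = N50 := ded_17_1 L297 L146 L89 L145 L296
theorem L300 : sm gd N27 = N51 := rfl
theorem L301 : sm gd N51 = N27 := flp_d L300
theorem L302 : sm gg N51 = N51 := ded_24_2 L301 L152 L300
theorem L303 : sm gf N27 = N52 := rfl
theorem L304 : sm gf N52 = N27 := flp_f L303
theorem L305 : sm gc N52 = N29 := ded_20_1 L158 L151 L303
theorem L306 : sm gc N29 = N52 := flp_c L305
theorem L307 : sm ge N52 = N28 := ded_25_1 L154 L148 L303
theorem L308 : sm ge N28 = N52 := flp_e L307
theorem L309 : sm gb N28 = N53 := rfl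
theorem L310 : sm gb N53 = N28 := flp_b L309
theorem L311 : sm gb N29 = N54 := rfl
theorem L312 : sm gb N54 = N29 := flp_b L311
theorem L313 : sm gd N54 = N54 := ded_14_2 L312 L159 L311
theorem L314 : sm ge N54 = N30 := ded_15_2 L163 L161 L311
theorem L315 : sm ge N30 = N54 := flp_e L314
theorem L316 : sm gf N54 = N54 := ded_16_2 L312 L158 L92 L157 L311
theorem L317 : sm ga N54 = N54 := ded_10_3 L314 L167 L315
theorem L318 : sm gc N30 = N55 := rfl
theorem L319 : sm gc N55 = N30 := flp_c L318
theorem L320 : sm ga N55 = N55 := ded_8_1 L319 L167 L318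
theorem L321 : sm gf N55 = N55 := ded_20_2 L319 L166 L318
theorem L322 : sm gg N30 = N56 := rfl
theorem L323 : sm gg N56 = N30 := flp_g L322
theorem L324 : sm ga N56 = N56 := ded_12_1 L323 L167 L322
theorem L325 : sm gd N56 = N31 := ded_24_1 L169 L165 L322
theorem L327 : sm gf N56 = N56 := ded_29_0 L323 L166 L322 L324
theorem L328 : sm gb N56 = N38 := ded_17_1 L239 L182 L116 L162 L322
theorem L329 : sm gb N38 = N56 := flp_b L328
theorem L330 : sm gc N33 = N57 := rfl
theorem L331 : sm gc N57 = N33 := flp_c L330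
theorem L332 : sm ge N33 = N58 := rfl
theorem L333 : sm ge N58 = N33 := flp_e L332
theorem L334 : sm gb N58 = N37 := ded_15_1 L227 L183 L332
theorem L335 : sm gb N37 = N58 := flp_b L334
theorem L336 : sm gd N58 = N58 := ded_22_1 L333 L181 L107 L180 L332
theorem L337 : sm gf N33 = N59 := rfl
theorem L338 : sm gf N59 = N33 := flp_f L337
theorem L339 : sm gd N59 = N34 := ded_23_1 L185 L180 L337
theorem L340 : sm gd N34 = N59 := flp_d L339
theorem L341 : sm gg N42 = N59 := ded_29_1 L338 L240 L237 L254
theorem L342 : sm gg N59 = N42 := flp_g L341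
theorem L343 : sm gb N59 = N42 := ded_16_1 L255 L123 L115 L183 L337
theorem L344 : sm gb N42 = N59 := flp_b L343
theorem L345 : sm gb N36 = N60 := rfl
theorem L346 : sm gb N60 = N36 := flp_b L345
theorem L347 : sm gd N60 = N53 := ded_14_2 L310 L225 L345
theorem L348 : sm gd N53 = N60 := flp_d L347
theorem L349 : sm ge N36 = N61 := rfl
theorem L350 : sm ge N61 = N36 := flp_e L349
theorem L351 : sm ga N61 = N52 := ded_10_1 L307 L219 L349
theorem L352 : sm ga N52 = N61 := flp_a L351
theorem L353 : sm gc N61 = N37 := ded_19_1 L227 L216 L349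
theorem L354 : sm gc N37 = N61 := flp_c L353
theorem L355 : sm gf N61 = N46 := ded_25_2 L279 L221 L349
theorem L356 : sm gf N46 = N61 := flp_f L355
theorem L357 : sm gg N61 = N52 := ded_26_2 L307 L223 L349
theorem L358 : sm gg N52 = N61 := flp_g L357
theorem L359 : sm gc N38 = N62 := rfl
theorem L360 : sm gc N62 = N38 := flp_c L359
theorem L361 : sm ga N62 = N40 := ded_8_1 L248 L238 L359
theorem L362 : sm ga N40 = N62 := flp_a L361
theorem L363 : sm gg N62 = N57 := ded_21_2 L331 L240 L359
theorem L364 : sm gg N57 = N62 := flp_g L363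
theorem L365 : sm ge N38 = N63 := rfl
theorem L366 : sm ge N63 = N38 := flp_e L365
theorem L367 : sm ga N63 = N41 := ded_10_1 L250 L238 L365
theorem L368 : sm ga N41 = N63 := flp_a L367
theorem L369 : sm gg N63 = N58 := ded_26_2 L333 L240 L365
theorem L370 : sm gg N58 = N63 := flp_g L369
theorem L371 : sm gd N63 = N63 := ded_22_1 L366 L236 L120 L235 L365
theorem L372 : sm gf N38 = N64 := rfl
theorem L373 : sm gf N64 = N38 := flp_f L372
theorem L374 : sm ga N64 = N42 := ded_11_1 L255 L238 L372
theorem L375 : sm ga N42 = N64 := flp_a L374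
theorem L376 : sm gd N64 = N39 := ded_23_1 L242 L235 L372
theorem L377 : sm gd N39 = N64 := flp_d L376
theorem L378 : sm gb N64 = N64 := ded_16_1 L373 L329 L327 L328 L372
theorem L379 : sm gb N40 = N65 := rfl
theorem L380 : sm gb N65 = N40 := flp_b L379
theorem L381 : sm gc N65 = N45 := ded_13_2 L275 L133 L124 L247 L379
theorem L382 : sm gc N45 = N65 := flp_c L381
theorem L383 : sm gd N40 = N66 := rfl
theorem L384 : sm gd N66 = N40 := flp_d L383
theorem L385 : sm ge N40 = N67 := rfl
theorem L386 : sm ge N67 = N40 := flp_e L385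
theorem L387 : sm gc N67 = N41 := ded_19_1 L250 L247 L385
theorem L388 : sm gc N41 = N67 := flp_c L387
theorem L389 : sm gf N40 = N68 := rfl
theorem L390 : sm gf N68 = N40 := flp_f L389
theorem L391 : sm gc N68 = N42 := ded_20_1 L255 L247 L389
theorem L392 : sm gc N42 = N68 := flp_c L391
theorem L393 : sm gg N40 = N69 := rfl
theorem L394 : sm gg N69 = N40 := flp_g L393
theorem L395 : sm ga N69 = N57 := ded_12_1 L364 L361 L393
theorem L396 : sm ga N57 = N69 := flp_a L395
theorem L397 : sm gc N69 = N43 := ded_21_1 L259 L247 L393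
theorem L398 : sm gc N43 = N69 := flp_c L397
theorem L399 : sm gf N41 = N70 := rfl
theorem L400 : sm gf N70 = N41 := flp_f L399
theorem L401 : sm gd N70 = N70 := ded_23_1 L400 L253 L399
theorem L402 : sm ge N70 = N42 := ded_25_1 L255 L249 L399
theorem L403 : sm ge N42 = N70 := flp_e L402
theorem L404 : sm gg N41 = N71 := rfl
theorem L405 : sm gg N71 = N41 := flp_g L404
theorem L406 : sm ga N71 = N58 := ded_12_1 L370 L367 L404
theorem L407 : sm ga N58 = N71 := flp_a L406
theorem L408 : sm gd N71 = N71 := ded_24_1 L405 L253 L404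
theorem L409 : sm ge N71 = N43 := ded_26_1 L259 L249 L404
theorem L410 : sm ge N43 = N71 := flp_e L409
theorem L411 : sm gb N71 = N71 := ded_17_1 L405 L251 L143 L252 L404
theorem L412 : sm gf N43 = N72 := rfl
theorem L413 : sm gf N72 = N43 := flp_f L412
theorem L414 : sm ga N72 = N59 := ded_11_1 L338 L261 L412
theorem L415 : sm ga N59 = N72 := flp_a L414
theorem L416 : sm gd N72 = N44 := ded_23_1 L266 L263 L412
theorem L417 : sm gd N44 = N72 := flp_d L416
theorem L418 : sm gg N72 = N64 := ded_29_3 L374 L255 L258 L412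
theorem L419 : sm gg N64 = N72 := flp_g L418
theorem L420 : sm gb N44 = N73 := rfl
theorem L421 : sm gb N73 = N44 := flp_b L420
theorem L422 : sm ge N73 = N73 := ded_15_2 L421 L271 L420
theorem L423 : sm gc N73 = N73 := ded_13_2 L421 L269 L246 L270 L420
theorem L424 : sm gf N73 = N73 := ded_16_2 L421 L266 L131 L265 L420
theorem L425 : sm gg N73 = N73 := ded_17_2 L421 L272 L246 L273 L420
theorem L426 : sm ga N73 = N73 := ded_7_1 L421 L267 L189 L244 L246 L243 L190 L268 L420
theorem L427 : sm ga N45 = N74 := rfl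
theorem L428 : sm ga N74 = N45 := flp_a L427
theorem L429 : sm gd N74 = N47 := ded_9_2 L286 L277 L427
theorem L430 : sm gd N47 = N74 := flp_d L429
theorem L431 : sm ge N45 = N75 := rfl
theorem L432 : sm ge N75 = N45 := flp_e L431
theorem L433 : sm gb N75 = N46 := ded_15_1 L279 L274 L431
theorem L434 : sm gb N46 = N75 := flp_b L433
theorem L435 : sm gf N45 = N76 := rfl
theorem L436 : sm gf N76 = N45 := flp_f L435
theorem L437 : sm gd N76 = N49 := ded_23_1 L294 L277 L435
theorem L438 : sm gd N49 = N76 := flp_d L437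
theorem L439 : sm gg N45 = N77 := rfl
theorem L440 : sm gg N77 = N45 := flp_g L439
theorem L441 : sm gd N77 = N50 := ded_24_1 L297 L277 L439
theorem L442 : sm gd N50 = N77 := flp_d L441
theorem L443 : sm gb N77 = N77 := ded_17_1 L440 L275 L136 L274 L439
theorem L444 : sm gd N46 = N78 := rfl
theorem L445 : sm gd N78 = N46 := flp_d L444
theorem L446 : sm ga N78 = N51 := ded_9_1 L301 L281 L444
theorem L447 : sm ga N51 = N78 := flp_a L446
theorem L448 : sm gg N78 = N78 := ded_24_2 L445 L284 L444
theorem L449 : sm ge N78 = N51 := ded_22_2 L301 L149 L138 L278 L444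
theorem L450 : sm ge N51 = N78 := flp_e L449
theorem L451 : sm gb N47 = N79 := rfl
theorem L452 : sm gb N79 = N47 := flp_b L451
theorem L453 : sm ge N47 = N80 := rfl
theorem L454 : sm ge N80 = N47 := flp_e L453
theorem L455 : sm ga N80 = N48 := ded_10_1 L289 L285 L453
theorem L456 : sm ga N48 = N80 := flp_a L455
theorem L457 : sm gc N80 = N80 := ded_19_1 L454 L287 L453
theorem L458 : sm gf N47 = N81 := rfl
theorem L459 : sm gf N81 = N47 := flp_f L458
theorem L460 : sm ga N81 = N49 := ded_11_1 L294 L285 L458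
theorem L461 : sm ga N49 = N81 := flp_a L460
theorem L462 : sm gc N81 = N81 := ded_20_1 L459 L287 L458
theorem L463 : sm gg N47 = N82 := rfl
theorem L464 : sm gg N82 = N47 := flp_g L463
theorem L465 : sm ga N82 = N50 := ded_12_1 L297 L285 L463
theorem L466 : sm ga N50 = N82 := flp_a L465
theorem L467 : sm gc N82 = N82 := ded_21_1 L464 L287 L463
theorem L468 : sm gd N48 = N83 := rfl
theorem L469 : sm gd N83 = N48 := flp_d L468
theorem L470 : sm gb N83 = N51 := ded_14_1 L301 L291 L468
theorem L471 : sm gb N51 = N83 := flp_b L470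
theorem L472 : sm gf N48 = N84 := rfl
theorem L473 : sm gf N84 = N48 := flp_f L472
theorem L474 : sm gc N84 = N84 := ded_20_1 L473 L292 L472
theorem L475 : sm ge N84 = N49 := ded_25_1 L294 L288 L472
theorem L476 : sm ge N49 = N84 := flp_e L475
theorem L477 : sm gg N48 = N85 := rfl
theorem L478 : sm gg N85 = N48 := flp_g L477
theorem L479 : sm gc N85 = N85 := ded_21_1 L478 L292 L477
theorem L480 : sm ge N85 = N50 := ded_26_1 L297 L288 L477
theorem L481 : sm ge N50 = N85 := flp_e L480
theorem L482 : sm gb N85 = N85 := ded_17_1 L478 L290 L152 L291 L477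
theorem L483 : sm gb N49 = N86 := rfl
theorem L484 : sm gb N86 = N49 := flp_b L483
theorem L485 : sm gf N86 = N53 := ded_16_2 L310 L154 L145 L293 L483
theorem L486 : sm gf N53 = N86 := flp_f L485
theorem L487 : sm gg N49 = N87 := rfl
theorem L488 : sm gg N87 = N49 := flp_g L487
theorem L489 : sm gc N87 = N87 := ded_21_1 L488 L295 L487
theorem L490 : sm gf N82 = N87 := ded_29_0 L488 L294 L296 L466
theorem L491 : sm gf N87 = N82 := flp_f L490
theorem L492 : sm gf N50 = N88 := rfl
theorem L493 : sm gf N88 = N50 := flp_f L492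
theorem L494 : sm ga N88 = N87 := ded_11_1 L491 L465 L492
theorem L495 : sm ga N87 = N88 := flp_a L494
theorem L496 : sm gc N88 = N88 := ded_20_1 L493 L298 L492
theorem L497 : sm gg N88 = N81 := ded_29_3 L460 L294 L296 L492
theorem L498 : sm gg N81 = N88 := flp_g L497
theorem L499 : sm gc N51 = N89 := rfl
theorem L500 : sm gc N89 = N51 := flp_c L499
theorem L501 : sm gg N89 = N89 := ded_21_2 L500 L302 L499
theorem L502 : sm gf N51 = N90 := rfl
theorem L503 : sm gf N90 = N51 := flp_f L502
theorem L504 : sm gd N90 = N52 := ded_23_1 L304 L300 L502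
theorem L505 : sm gd N52 = N90 := flp_d L504
theorem L506 : sm gb N52 = N91 := rfl
theorem L507 : sm gb N91 = N52 := flp_b L506
theorem L508 : sm ge N91 = N53 := ded_15_2 L310 L308 L506
theorem L509 : sm ge N53 = N91 := flp_e L508
theorem L510 : sm ga N53 = N92 := rfl
theorem L511 : sm ga N92 = N53 := flp_a L510
theorem L512 : sm gc N53 = N93 := rfl
theorem L513 : sm gc N93 = N53 := flp_c L512
theorem L514 : sm gb N93 = N55 := ded_13_1 L319 L163 L156 L309 L512
theorem L515 : sm gb N55 = N93 := flp_b L514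
theorem L516 : sm gg N53 = N94 := rfl
theorem L517 : sm gg N94 = N53 := flp_g L516
theorem L518 : sm gc N54 = N95 := rfl
theorem L519 : sm gc N95 = N54 := flp_c L518
theorem L520 : sm ga N95 = N95 := ded_8_1 L519 L317 L518
theorem L521 : sm ge N95 = N55 := ded_19_2 L319 L315 L518
theorem L522 : sm ge N55 = N95 := flp_e L521
theorem L523 : sm gf N95 = N95 := ded_20_2 L519 L316 L518
theorem L524 : sm gg N54 = N96 := rfl
theorem L525 : sm gg N96 = N54 := flp_g L524
theorem L526 : sm ga N96 = N96 := ded_12_1 L525 L317 L524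
theorem L527 : sm gd N96 = N96 := ded_24_1 L525 L313 L524
theorem L528 : sm ge N96 = N56 := ded_26_1 L323 L315 L524
theorem L529 : sm ge N56 = N96 := flp_e L528
theorem L530 : sm gf N96 = N96 := ded_29_0 L525 L316 L524 L526
theorem L531 : sm gb N96 = N63 := ded_17_1 L369 L334 L232 L311 L524
theorem L532 : sm gb N63 = N96 := flp_b L531
theorem L533 : sm gd N55 = N97 := rfl
theorem L534 : sm gd N97 = N55 := flp_d L533
theorem L535 : sm ga N97 = N97 := ded_9_1 L534 L320 L533
theorem L537 : sm gc N97 = N97 := ded_28_0 L534 L319 L164 L102 L165 L318 L533 L535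
theorem L538 : sm gg N55 = N98 := rfl
theorem L539 : sm gg N98 = N55 := flp_g L538
theorem L541 : sm gc N98 = N56 := ded_21_1 L323 L318 L538
theorem L542 : sm gc N56 = N98 := flp_c L541
theorem L544 : sm gb N57 = N99 := rfl
theorem L545 : sm gb N99 = N57 := flp_b L544
theorem L546 : sm gc N99 = N60 := ded_13_2 L346 L217 L183 L330 L544
theorem L547 : sm gc N60 = N99 := flp_c L546
theorem L548 : sm gd N57 = N100 := rfl
theorem L549 : sm gd N100 = N57 := flp_d L548
theorem L550 : sm ge N57 = N101 := rfl
theorem L551 : sm ge N101 = N57 := flp_e L550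
theorem L552 : sm gc N101 = N58 := ded_19_1 L333 L330 L550
theorem L553 : sm gc N58 = N101 := flp_c L552
theorem L554 : sm gf N57 = N102 := rfl
theorem L555 : sm gf N102 = N57 := flp_f L554
theorem L556 : sm gc N102 = N59 := ded_20_1 L338 L330 L554
theorem L557 : sm gc N59 = N102 := flp_c L556
theorem L558 : sm gg N68 = N102 := ded_29_1 L555 L364 L361 L389
theorem L559 : sm gg N102 = N68 := flp_g L558
theorem L560 : sm gf N58 = N103 := rfl
theorem L561 : sm gf N103 = N58 := flp_f L560
theorem L562 : sm gd N103 = N103 := ded_23_1 L561 L336 L560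
theorem L563 : sm ge N103 = N59 := ded_25_1 L338 L332 L560
theorem L564 : sm ge N59 = N103 := flp_e L563
theorem L565 : sm gg N70 = N103 := ded_29_1 L561 L370 L367 L399
theorem L566 : sm gg N103 = N70 := flp_g L565
theorem L567 : sm gb N103 = N70 := ded_16_1 L400 L251 L231 L335 L560
theorem L568 : sm gb N70 = N103 := flp_b L567
theorem L569 : sm ga N60 = N104 := rfl
theorem L570 : sm ga N104 = N60 := flp_a L569
theorem L571 : sm gd N104 = N92 := ded_9_2 L511 L348 L569
theorem L572 : sm gd N92 = N104 := flp_d L571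
theorem L573 : sm ge N60 = N105 := rfl
theorem L574 : sm ge N105 = N60 := flp_e L573
theorem L575 : sm gb N105 = N61 := ded_15_1 L350 L345 L573
theorem L576 : sm gb N61 = N105 := flp_b L575
theorem L577 : sm gf N60 = N106 := rfl
theorem L578 : sm gf N106 = N60 := flp_f L577
theorem L579 : sm gd N106 = N86 := ded_23_1 L485 L348 L577
theorem L580 : sm gd N86 = N106 := flp_d L579
theorem L581 : sm gb N106 = N76 := ded_16_1 L436 L275 L221 L345 L577
theorem L582 : sm gb N76 = N106 := flp_b L581
theorem L583 : sm gg N60 = N107 := rfl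
theorem L584 : sm gg N107 = N60 := flp_g L583
theorem L585 : sm gd N107 = N94 := ded_24_1 L517 L348 L583
theorem L586 : sm gd N94 = N107 := flp_d L585
theorem L587 : sm gb N107 = N94 := ded_17_1 L517 L310 L223 L345 L583
theorem L588 : sm gb N94 = N107 := flp_b L587
theorem L589 : sm gd N61 = N108 := rfl
theorem L590 : sm gd N108 = N61 := flp_d L589
theorem L591 : sm ga N108 = N90 := ded_9_1 L504 L352 L589
theorem L592 : sm ga N90 = N108 := flp_a L591
theorem L593 : sm gf N108 = N78 := ded_23_2 L445 L356 L589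
theorem L594 : sm gf N78 = N108 := flp_f L593
theorem L595 : sm gg N108 = N90 := ded_24_2 L504 L358 L589
theorem L596 : sm gg N90 = N108 := flp_g L595
theorem L597 : sm ge N108 = N90 := ded_22_2 L504 L307 L225 L349 L589
theorem L598 : sm ge N90 = N108 := flp_e L597
theorem L599 : sm gb N62 = N109 := rfl
theorem L600 : sm gb N109 = N62 := flp_b L599
theorem L601 : sm gd N62 = N110 := rfl
theorem L602 : sm gd N110 = N62 := flp_d L601
theorem L603 : sm ga N110 = N66 := ded_9_1 L384 L362 L601
theorem L604 : sm ga N66 = N110 := flp_a L603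
theorem L605 : sm gg N110 = N100 := ded_24_2 L549 L364 L601
theorem L606 : sm gg N100 = N110 := flp_g L605
theorem L607 : sm gc N110 = N100 := ded_28_6 L549 L396 L397 L262 L213 L235 L359 L601
theorem L608 : sm gc N100 = N110 := flp_c L607
theorem L609 : sm ge N62 = N111 := rfl
theorem L610 : sm ge N111 = N62 := flp_e L609
theorem L611 : sm ga N111 = N67 := ded_10_1 L386 L362 L609
theorem L612 : sm ga N67 = N111 := flp_a L611
theorem L613 : sm gc N111 = N63 := ded_19_1 L366 L359 L609
theorem L614 : sm gc N63 = N111 := flp_c L613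
theorem L615 : sm gg N111 = N101 := ded_26_2 L551 L364 L609
theorem L616 : sm gg N101 = N111 := flp_g L615
theorem L617 : sm gf N62 = N112 := rfl
theorem L618 : sm gf N112 = N62 := flp_f L617
theorem L619 : sm ga N112 = N68 := ded_11_1 L390 L362 L617
theorem L621 : sm gc N112 = N64 := ded_20_1 L373 L359 L617
theorem L623 : sm gf N63 = N113 := rfl
theorem L624 : sm gf N113 = N63 := flp_f L623
theorem L625 : sm ga N113 = N70 := ded_11_1 L400 L368 L623
theorem L626 : sm ga N70 = N113 := flp_a L625
theorem L627 : sm gd N113 = N113 := ded_23_1 L624 L371 L623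
theorem L628 : sm ge N113 = N64 := ded_25_1 L373 L365 L623
theorem L629 : sm ge N64 = N113 := flp_e L628
theorem L630 : sm gb N113 = N113 := ded_16_1 L624 L532 L530 L531 L623
theorem L631 : sm ga N65 = N114 := rfl
theorem L632 : sm ga N114 = N65 := flp_a L631
theorem L633 : sm gc N114 = N74 := ded_8_2 L428 L382 L631
theorem L634 : sm gc N74 = N114 := flp_c L633
theorem L635 : sm gd N65 = N115 := rfl
theorem L636 : sm gd N115 = N65 := flp_d L635
theorem L637 : sm gb N115 = N66 := ded_14_1 L384 L379 L635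
theorem L638 : sm gb N66 = N115 := flp_b L637
theorem L639 : sm ge N65 = N116 := rfl
theorem L640 : sm ge N116 = N65 := flp_e L639
theorem L641 : sm gb N116 = N67 := ded_15_1 L386 L379 L639
theorem L642 : sm gb N67 = N116 := flp_b L641
theorem L643 : sm gc N116 = N75 := ded_19_1 L432 L382 L639
theorem L644 : sm gc N75 = N116 := flp_c L643
theorem L645 : sm gf N65 = N117 := rfl
theorem L646 : sm gf N117 = N65 := flp_f L645
theorem L647 : sm gc N117 = N76 := ded_20_1 L436 L382 L645
theorem L648 : sm gc N76 = N117 := flp_c L647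
theorem L649 : sm gg N65 = N118 := rfl
theorem L650 : sm gg N118 = N65 := flp_g L649
theorem L651 : sm gc N118 = N77 := ded_21_1 L440 L382 L649
theorem L652 : sm gc N77 = N118 := flp_c L651
theorem L653 : sm gc N66 = N119 := rfl
theorem L654 : sm gc N119 = N66 := flp_c L653
theorem L655 : sm ga N119 = N100 := ded_8_1 L608 L603 L653
theorem L656 : sm ga N100 = N119 := flp_a L655
theorem L657 : sm gd N119 = N69 := ded_28_7 L395 L331 L181 L108 L121 L247 L383 L653
theorem L658 : sm gd N69 = N119 := flp_d L657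
theorem L659 : sm gg N66 = N119 := ded_12_0 L655 L606 L603
theorem L660 : sm gg N119 = N66 := flp_g L659
theorem L661 : sm ge N66 = N120 := rfl
theorem L662 : sm ge N120 = N66 := flp_e L661
theorem L663 : sm gf N66 = N121 := rfl
theorem L664 : sm gf N121 = N66 := flp_f L663
theorem L665 : sm gd N121 = N68 := ded_23_1 L390 L383 L663
theorem L666 : sm gd N68 = N121 := flp_d L665
theorem L667 : sm gd N67 = N122 := rfl
theorem L668 : sm gd N122 = N67 := flp_d L667
theorem L669 : sm gf N67 = N123 := rfl
theorem L670 : sm gf N123 = N67 := flp_f L669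
theorem L671 : sm gc N123 = N70 := ded_20_1 L400 L388 L669
theorem L672 : sm gc N70 = N123 := flp_c L671
theorem L673 : sm ge N123 = N68 := ded_25_1 L390 L385 L669
theorem L674 : sm ge N68 = N123 := flp_e L673
theorem L675 : sm gg N67 = N124 := rfl
theorem L676 : sm gg N124 = N67 := flp_g L675
theorem L677 : sm ga N124 = N101 := ded_12_1 L616 L611 L675
theorem L678 : sm ga N101 = N124 := flp_a L677
theorem L679 : sm gc N124 = N71 := ded_21_1 L405 L388 L675
theorem L680 : sm gc N71 = N124 := flp_c L679
theorem L681 : sm ge N124 = N69 := ded_26_1 L394 L385 L675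
theorem L682 : sm ge N69 = N124 := flp_e L681
theorem L683 : sm gb N68 = N125 := rfl
theorem L684 : sm gb N125 = N68 := flp_b L683
theorem L685 : sm gb N69 = N126 := rfl
theorem L686 : sm gb N126 = N69 := flp_b L685
theorem L687 : sm gc N126 = N126 := ded_13_2 L686 L397 L264 L398 L685
theorem L688 : sm gf N69 = N127 := rfl
theorem L689 : sm gf N127 = N69 := flp_f L688
theorem L690 : sm ga N127 = N102 := ded_11_1 L555 L396 L688
theorem L691 : sm ga N102 = N127 := flp_a L690
theorem L692 : sm gc N127 = N72 := ded_20_1 L413 L398 L688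
theorem L693 : sm gc N72 = N127 := flp_c L692
theorem L694 : sm gg N127 = N112 := ded_29_3 L619 L390 L393 L688
theorem L695 : sm gg N112 = N127 := flp_g L694
theorem L696 : sm gf N71 = N128 := rfl
theorem L697 : sm gf N128 = N71 := flp_f L696
theorem L698 : sm ga N128 = N103 := ded_11_1 L561 L407 L696
theorem L699 : sm ga N103 = N128 := flp_a L698
theorem L700 : sm gd N128 = N128 := ded_23_1 L697 L408 L696
theorem L701 : sm ge N128 = N72 := ded_25_1 L413 L410 L696
theorem L702 : sm ge N72 = N128 := flp_e L701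
theorem L703 : sm gg N128 = N113 := ded_29_3 L625 L400 L404 L696
theorem L704 : sm gg N113 = N128 := flp_g L703
theorem L705 : sm gb N72 = N129 := rfl
theorem L706 : sm gb N129 = N72 := flp_b L705
theorem L707 : sm gd N129 = N73 := ded_14_2 L421 L417 L705
theorem L708 : sm gd N73 = N129 := flp_d L707
theorem L709 : sm gf N129 = N129 := ded_16_2 L706 L413 L264 L412 L705
theorem L710 : sm gg N129 = N129 := ded_17_2 L706 L418 L378 L419 L705
theorem L711 : sm ga N129 = N129 := ded_7_1 L706 L414 L343 L375 L378 L374 L344 L415 L705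
theorem L712 : sm gb N74 = N130 := rfl
theorem L713 : sm gb N130 = N74 := flp_b L712
theorem L714 : sm gd N130 = N79 := ded_14_2 L452 L430 L712
theorem L715 : sm gd N79 = N130 := flp_d L714
theorem L716 : sm ge N74 = N131 := rfl
theorem L717 : sm ge N131 = N74 := flp_e L716
theorem L718 : sm ga N131 = N75 := ded_10_1 L432 L427 L716
theorem L719 : sm ga N75 = N131 := flp_a L718
theorem L720 : sm gf N74 = N132 := rfl
theorem L721 : sm gf N132 = N74 := flp_f L720
theorem L722 : sm ga N132 = N76 := ded_11_1 L436 L427 L720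
theorem L723 : sm ga N76 = N132 := flp_a L722
theorem L724 : sm gd N132 = N81 := ded_23_1 L459 L430 L720
theorem L725 : sm gd N81 = N132 := flp_d L724
theorem L726 : sm gg N74 = N133 := rfl
theorem L727 : sm gg N133 = N74 := flp_g L726
theorem L728 : sm ga N133 = N77 := ded_12_1 L440 L427 L726
theorem L729 : sm ga N77 = N133 := flp_a L728
theorem L730 : sm gd N133 = N82 := ded_24_1 L464 L430 L726
theorem L731 : sm gd N82 = N133 := flp_d L730
theorem L732 : sm gd N75 = N134 := rfl
theorem L733 : sm gd N134 = N75 := flp_d L732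
theorem L734 : sm gb N134 = N78 := ded_14_1 L445 L434 L732
theorem L735 : sm gb N78 = N134 := flp_b L734
theorem L736 : sm ge N134 = N83 := ded_22_2 L469 L289 L277 L431 L732
theorem L737 : sm ge N83 = N134 := flp_e L736
theorem L738 : sm gf N75 = N135 := rfl
theorem L739 : sm gf N135 = N75 := flp_f L738
theorem L740 : sm ge N135 = N76 := ded_25_1 L436 L431 L738
theorem L741 : sm ge N76 = N135 := flp_e L740
theorem L742 : sm gg N75 = N136 := rfl
theorem L743 : sm gg N136 = N75 := flp_g L742
theorem L744 : sm ge N136 = N77 := ded_26_1 L440 L431 L742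
theorem L745 : sm ge N77 = N136 := flp_e L744
theorem L746 : sm gb N136 = N136 := ded_17_1 L743 L433 L284 L434 L742
theorem L747 : sm gg N76 = N137 := rfl
theorem L748 : sm gg N137 = N76 := flp_g L747
theorem L749 : sm gd N137 = N87 := ded_24_1 L488 L438 L747
theorem L750 : sm gd N87 = N137 := flp_d L749
theorem L751 : sm gf N133 = N137 := ded_29_0 L748 L436 L439 L729
theorem L752 : sm gf N137 = N133 := flp_f L751
theorem L753 : sm gf N77 = N138 := rfl
theorem L754 : sm gf N138 = N77 := flp_f L753
theorem L755 : sm ga N138 = N137 := ded_11_1 L752 L728 L753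
theorem L756 : sm ga N137 = N138 := flp_a L755
theorem L757 : sm gd N138 = N88 := ded_23_1 L493 L442 L753
theorem L758 : sm gd N88 = N138 := flp_d L757
theorem L759 : sm gg N138 = N132 := ded_29_3 L722 L436 L439 L753
theorem L760 : sm gg N132 = N138 := flp_g L759
theorem L761 : sm gc N78 = N139 := rfl
theorem L762 : sm gc N139 = N78 := flp_c L761
theorem L763 : sm ga N139 = N89 := ded_8_1 L500 L447 L761
theorem L764 : sm ga N89 = N139 := flp_a L763
theorem L765 : sm ge N139 = N89 := ded_19_2 L500 L450 L761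
theorem L766 : sm ge N89 = N139 := flp_e L765
theorem L767 : sm gg N139 = N139 := ded_21_2 L762 L448 L761
theorem L768 : sm gd N139 = N89 := ded_28_7 L764 L762 L445 L282 L144 L283 L444 L761
theorem L769 : sm gd N89 = N139 := flp_d L768
theorem L770 : sm ga N79 = N140 := rfl
theorem L771 : sm ga N140 = N79 := flp_a L770
theorem L772 : sm gc N79 = N141 := rfl
theorem L773 : sm gc N141 = N79 := flp_c L772
theorem L775 : sm ge N79 = N142 := rfl
theorem L776 : sm ge N142 = N79 := flp_e L775
theorem L777 : sm gb N142 = N80 := ded_15_1 L454 L451 L775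
theorem L778 : sm gb N80 = N142 := flp_b L777
theorem L779 : sm gf N79 = N143 := rfl
theorem L780 : sm gf N143 = N79 := flp_f L779
theorem L781 : sm gg N79 = N144 := rfl
theorem L782 : sm gg N144 = N79 := flp_g L781
theorem L783 : sm gd N80 = N145 := rfl
theorem L784 : sm gd N145 = N80 := flp_d L783
theorem L785 : sm ga N145 = N83 := ded_9_1 L469 L456 L783
theorem L786 : sm ga N83 = N145 := flp_a L785
theorem L787 : sm gf N80 = N146 := rfl
theorem L788 : sm gf N146 = N80 := flp_f L787
theorem L789 : sm ga N146 = N84 := ded_11_1 L473 L456 L787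
theorem L790 : sm ga N84 = N146 := flp_a L789
theorem L791 : sm gc N146 = N146 := ded_20_1 L788 L457 L787
theorem L792 : sm ge N146 = N81 := ded_25_1 L459 L453 L787
theorem L793 : sm ge N81 = N146 := flp_e L792
theorem L794 : sm gg N80 = N147 := rfl
theorem L795 : sm gg N147 = N80 := flp_g L794
theorem L796 : sm ga N147 = N85 := ded_12_1 L478 L456 L794
theorem L797 : sm ga N85 = N147 := flp_a L796
theorem L798 : sm gc N147 = N147 := ded_21_1 L795 L457 L794
theorem L799 : sm ge N147 = N82 := ded_26_1 L464 L453 L794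
theorem L800 : sm ge N82 = N147 := flp_e L799
theorem L801 : sm gb N81 = N148 := rfl
theorem L802 : sm gb N148 = N81 := flp_b L801
theorem L803 : sm gb N82 = N149 := rfl
theorem L804 : sm gb N149 = N82 := flp_b L803
theorem L805 : sm gc N83 = N150 := rfl
theorem L806 : sm gc N150 = N83 := flp_c L805
theorem L807 : sm gf N83 = N151 := rfl
theorem L808 : sm gf N151 = N83 := flp_f L807
theorem L809 : sm gd N151 = N84 := ded_23_1 L473 L468 L807
theorem L810 : sm gd N84 = N151 := flp_d L809
theorem L811 : sm gg N83 = N152 := rfl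
theorem L812 : sm gg N152 = N83 := flp_g L811
theorem L813 : sm gd N152 = N85 := ded_24_1 L478 L468 L811
theorem L814 : sm gd N85 = N152 := flp_d L813
theorem L815 : sm gb N152 = N152 := ded_17_1 L812 L470 L302 L471 L811
theorem L816 : sm gb N84 = N153 := rfl
theorem L817 : sm gb N153 = N84 := flp_b L816
theorem L818 : sm ge N153 = N86 := ded_15_2 L484 L476 L816
theorem L819 : sm ge N86 = N153 := flp_e L818
theorem L820 : sm gf N153 = N91 := ded_16_2 L507 L304 L291 L472 L816
theorem L821 : sm gf N91 = N153 := flp_f L820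
theorem L822 : sm gg N84 = N154 := rfl
theorem L823 : sm gg N154 = N84 := flp_g L822
theorem L824 : sm gc N154 = N154 := ded_21_1 L823 L474 L822
theorem L825 : sm ge N154 = N87 := ded_26_1 L488 L476 L822
theorem L826 : sm ge N87 = N154 := flp_e L825
theorem L827 : sm gf N147 = N154 := ded_29_0 L823 L473 L477 L797
theorem L828 : sm gf N154 = N147 := flp_f L827
theorem L829 : sm gf N85 = N155 := rfl
theorem L830 : sm gf N155 = N85 := flp_f L829
theorem L831 : sm ga N155 = N154 := ded_11_1 L828 L796 L829
theorem L832 : sm ga N154 = N155 := flp_a L831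
theorem L833 : sm gc N155 = N155 := ded_20_1 L830 L479 L829
theorem L834 : sm ge N155 = N88 := ded_25_1 L493 L481 L829
theorem L835 : sm ge N88 = N155 := flp_e L834
theorem L836 : sm gg N155 = N146 := ded_29_3 L789 L473 L477 L829
theorem L837 : sm gg N146 = N155 := flp_g L836
theorem L838 : sm ga N86 = N156 := rfl
theorem L839 : sm ga N156 = N86 := flp_a L838
theorem L840 : sm gf N156 = N92 := ded_11_2 L511 L486 L838
theorem L841 : sm gf N92 = N156 := flp_f L840
theorem L842 : sm gc N86 = N157 := rfl
theorem L843 : sm gc N157 = N86 := flp_c L842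
theorem L844 : sm gf N157 = N93 := ded_20_2 L513 L486 L842
theorem L845 : sm gf N93 = N157 := flp_f L844
theorem L847 : sm gg N86 = N158 := rfl
theorem L848 : sm gg N158 = N86 := flp_g L847
theorem L849 : sm gb N87 = N159 := rfl
theorem L850 : sm gb N159 = N87 := flp_b L849
theorem L851 : sm gb N88 = N160 := rfl
theorem L852 : sm gb N160 = N88 := flp_b L851
theorem L853 : sm gf N160 = N160 := ded_16_2 L852 L493 L299 L492 L851
theorem L854 : sm gb N89 = N161 := rfl
theorem L855 : sm gb N161 = N89 := flp_b L854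
theorem L856 : sm gf N89 = N162 := rfl
theorem L857 : sm gf N162 = N89 := flp_f L856
theorem L858 : sm gc N162 = N90 := ded_20_1 L503 L499 L856
theorem L859 : sm gc N90 = N162 := flp_c L858
theorem L860 : sm gb N90 = N163 := rfl
theorem L861 : sm gb N163 = N90 := flp_b L860
theorem L862 : sm gd N163 = N91 := ded_14_2 L507 L505 L860
theorem L863 : sm gd N91 = N163 := flp_d L862
theorem L864 : sm ga N91 = N164 := rfl
theorem L865 : sm ga N164 = N91 := flp_a L864
theorem L866 : sm ge N164 = N92 := ded_10_2 L511 L509 L864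
theorem L867 : sm ge N92 = N164 := flp_e L866
theorem L868 : sm gc N91 = N165 := rfl
theorem L869 : sm gc N165 = N91 := flp_c L868
theorem L872 : sm gb N165 = N95 := ded_13_1 L519 L312 L306 L506 L868
theorem L873 : sm gb N95 = N165 := flp_b L872
theorem L874 : sm gg N91 = N166 := rfl
theorem L875 : sm gg N166 = N91 := flp_g L874
theorem L876 : sm ge N166 = N94 := ded_26_1 L517 L509 L874
theorem L877 : sm ge N94 = N166 := flp_e L876
theorem L878 : sm gb N92 = N167 := rfl
theorem L879 : sm gb N167 = N92 := flp_b L878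
theorem L880 : sm gc N92 = N168 := rfl
theorem L881 : sm gc N168 = N92 := flp_c L880
theorem L882 : sm ga N168 = N93 := ded_8_1 L513 L510 L880
theorem L883 : sm ga N93 = N168 := flp_a L882
theorem L884 : sm gg N92 = N169 := rfl
theorem L885 : sm gg N169 = N92 := flp_g L884
theorem L886 : sm ga N169 = N94 := ded_12_1 L517 L510 L884
theorem L888 : sm gf N169 = N158 := ded_29_2 L848 L838 L840 L884
theorem L889 : sm gf N158 = N169 := flp_f L888
theorem L890 : sm gd N93 = N170 := rfl
theorem L891 : sm gd N170 = N93 := flp_d L890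
theorem L892 : sm gb N170 = N97 := ded_14_1 L534 L515 L890
theorem L893 : sm gb N97 = N170 := flp_b L892
theorem L894 : sm gg N93 = N171 := rfl
theorem L895 : sm gg N171 = N93 := flp_g L894
theorem L896 : sm gc N171 = N94 := ded_21_1 L517 L512 L894
theorem L897 : sm gc N94 = N171 := flp_c L896
theorem L898 : sm gf N94 = N172 := rfl
theorem L899 : sm gf N172 = N94 := flp_f L898
theorem L902 : sm gg N172 = N156 := ded_29_3 L839 L485 L516 L898
theorem L903 : sm gg N156 = N172 := flp_g L902
theorem L904 : sm gd N95 = N173 := rfl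
theorem L905 : sm gd N173 = N95 := flp_d L904
theorem L908 : sm gg N95 = N174 := rfl
theorem L909 : sm gg N174 = N95 := flp_g L908
theorem L911 : sm gc N174 = N96 := ded_21_1 L525 L518 L908
theorem L912 : sm gc N96 = N174 := flp_c L911
theorem L913 : sm ge N174 = N98 := ded_26_1 L539 L522 L908
theorem L914 : sm ge N98 = N174 := flp_e L913
theorem L916 : sm ge N97 = N175 := rfl
theorem L917 : sm ge N175 = N97 := flp_e L916
theorem L921 : sm gg N97 = N176 := rfl
theorem L922 : sm gg N176 = N97 := flp_g L921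
theorem L925 : sm gd N176 = N98 := ded_24_1 L539 L533 L921
theorem L926 : sm gd N98 = N176 := flp_d L925
theorem L928 : sm gb N98 = N177 := rfl
theorem L929 : sm gb N177 = N98 := flp_b L928
theorem L930 : sm gc N177 = N109 := ded_13_2 L600 L360 L329 L542 L928
theorem L931 : sm gc N109 = N177 := flp_c L930
theorem L932 : sm ga N99 = N178 := rfl
theorem L933 : sm ga N178 = N99 := flp_a L932
theorem L934 : sm gc N178 = N104 := ded_8_2 L570 L547 L932
theorem L935 : sm gc N104 = N178 := flp_c L934
theorem L936 : sm gd N99 = N179 := rfl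
theorem L937 : sm gd N179 = N99 := flp_d L936
theorem L938 : sm gb N179 = N100 := ded_14_1 L549 L544 L936
theorem L939 : sm gb N100 = N179 := flp_b L938
theorem L940 : sm ge N99 = N180 := rfl
theorem L941 : sm ge N180 = N99 := flp_e L940
theorem L942 : sm gb N180 = N101 := ded_15_1 L551 L544 L940
theorem L943 : sm gb N101 = N180 := flp_b L942
theorem L944 : sm gc N180 = N105 := ded_19_1 L574 L547 L940
theorem L945 : sm gc N105 = N180 := flp_c L944
theorem L946 : sm gf N99 = N181 := rfl
theorem L947 : sm gf N181 = N99 := flp_f L946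
theorem L948 : sm gc N181 = N106 := ded_20_1 L578 L547 L946
theorem L949 : sm gc N106 = N181 := flp_c L948
theorem L950 : sm gg N99 = N182 := rfl
theorem L951 : sm gg N182 = N99 := flp_g L950
theorem L952 : sm gc N182 = N107 := ded_21_1 L584 L547 L950
theorem L953 : sm gc N107 = N182 := flp_c L952
theorem L954 : sm ge N100 = N183 := rfl
theorem L955 : sm ge N183 = N100 := flp_e L954
theorem L956 : sm gf N100 = N184 := rfl
theorem L957 : sm gf N184 = N100 := flp_f L956
theorem L958 : sm gd N184 = N102 := ded_23_1 L555 L548 L956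
theorem L959 : sm gd N102 = N184 := flp_d L958
theorem L960 : sm gg N121 = N184 := ded_29_1 L957 L606 L603 L663
theorem L961 : sm gg N184 = N121 := flp_g L960
theorem L962 : sm gd N101 = N185 := rfl
theorem L963 : sm gd N185 = N101 := flp_d L962
theorem L964 : sm gf N101 = N186 := rfl
theorem L965 : sm gf N186 = N101 := flp_f L964
theorem L966 : sm gc N186 = N103 := ded_20_1 L561 L553 L964
theorem L967 : sm gc N103 = N186 := flp_c L966
theorem L968 : sm ge N186 = N102 := ded_25_1 L555 L550 L964
theorem L969 : sm ge N102 = N186 := flp_e L968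
theorem L970 : sm gg N123 = N186 := ded_29_1 L965 L616 L611 L669
theorem L971 : sm gg N186 = N123 := flp_g L970
theorem L972 : sm gb N102 = N187 := rfl
theorem L973 : sm gb N187 = N102 := flp_b L972
theorem L974 : sm gc N187 = N125 := ded_13_2 L684 L391 L344 L557 L972
theorem L975 : sm gc N125 = N187 := flp_c L974
theorem L976 : sm gb N104 = N188 := rfl
theorem L977 : sm gb N188 = N104 := flp_b L976
theorem L978 : sm gd N188 = N167 := ded_14_2 L879 L572 L976
theorem L979 : sm gd N167 = N188 := flp_d L978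
theorem L980 : sm ge N104 = N189 := rfl
theorem L981 : sm ge N189 = N104 := flp_e L980
theorem L982 : sm ga N189 = N105 := ded_10_1 L574 L569 L980
theorem L983 : sm ga N105 = N189 := flp_a L982
theorem L984 : sm gf N104 = N190 := rfl
theorem L985 : sm gf N190 = N104 := flp_f L984
theorem L986 : sm ga N190 = N106 := ded_11_1 L578 L569 L984
theorem L987 : sm ga N106 = N190 := flp_a L986
theorem L988 : sm gd N190 = N156 := ded_23_1 L840 L572 L984
theorem L989 : sm gd N156 = N190 := flp_d L988
theorem L990 : sm gg N104 = N191 := rfl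
theorem L991 : sm gg N191 = N104 := flp_g L990
theorem L992 : sm ga N191 = N107 := ded_12_1 L584 L569 L990
theorem L993 : sm ga N107 = N191 := flp_a L992
theorem L994 : sm gd N191 = N169 := ded_24_1 L885 L572 L990
theorem L995 : sm gd N169 = N191 := flp_d L994
theorem L996 : sm gd N105 = N192 := rfl
theorem L997 : sm gd N192 = N105 := flp_d L996
theorem L998 : sm gb N192 = N108 := ded_14_1 L590 L576 L996
theorem L999 : sm gb N108 = N192 := flp_b L998
theorem L1000 : sm ge N192 = N163 := ded_22_2 L862 L508 L348 L573 L996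
theorem L1001 : sm ge N163 = N192 := flp_e L1000
theorem L1002 : sm gf N105 = N193 := rfl
theorem L1003 : sm gf N193 = N105 := flp_f L1002
theorem L1004 : sm ge N193 = N106 := ded_25_1 L578 L573 L1002
theorem L1005 : sm ge N106 = N193 := flp_e L1004
theorem L1006 : sm gb N193 = N135 := ded_16_1 L739 L433 L356 L576 L1002
theorem L1007 : sm gb N135 = N193 := flp_b L1006
theorem L1008 : sm gg N105 = N194 := rfl
theorem L1009 : sm gg N194 = N105 := flp_g L1008
theorem L1010 : sm ge N194 = N107 := ded_26_1 L584 L573 L1008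
theorem L1011 : sm ge N107 = N194 := flp_e L1010
theorem L1012 : sm gb N194 = N166 := ded_17_1 L875 L507 L358 L576 L1008
theorem L1013 : sm gb N166 = N194 := flp_b L1012
theorem L1014 : sm gg N106 = N195 := rfl
theorem L1015 : sm gg N195 = N106 := flp_g L1014
theorem L1016 : sm gd N195 = N158 := ded_24_1 L848 L580 L1014
theorem L1017 : sm gd N158 = N195 := flp_d L1016
theorem L1018 : sm gf N191 = N195 := ded_29_0 L1015 L578 L583 L993
theorem L1019 : sm gf N195 = N191 := flp_f L1018
theorem L1020 : sm gf N107 = N196 := rfl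
theorem L1021 : sm gf N196 = N107 := flp_f L1020
theorem L1022 : sm ga N196 = N195 := ded_11_1 L1019 L992 L1020
theorem L1023 : sm ga N195 = N196 := flp_a L1022
theorem L1024 : sm gd N196 = N172 := ded_23_1 L899 L586 L1020
theorem L1025 : sm gd N172 = N196 := flp_d L1024
theorem L1028 : sm gc N108 = N197 := rfl
theorem L1029 : sm gc N197 = N108 := flp_c L1028
theorem L1030 : sm ga N197 = N162 := ded_8_1 L858 L592 L1028
theorem L1031 : sm ga N162 = N197 := flp_a L1030
theorem L1032 : sm ge N197 = N162 := ded_19_2 L858 L598 L1028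
theorem L1033 : sm ge N162 = N197 := flp_e L1032
theorem L1034 : sm gf N197 = N139 := ded_20_2 L762 L594 L1028
theorem L1035 : sm gf N139 = N197 := flp_f L1034
theorem L1036 : sm gg N197 = N162 := ded_21_2 L858 L596 L1028
theorem L1037 : sm gg N162 = N197 := flp_g L1036
theorem L1038 : sm gd N197 = N162 := ded_28_7 L1031 L1029 L590 L353 L234 L354 L589 L1028
theorem L1039 : sm gd N162 = N197 := flp_d L1038
theorem L1040 : sm ga N109 = N198 := rfl
theorem L1041 : sm ga N198 = N109 := flp_a L1040
theorem L1042 : sm gd N109 = N199 := rfl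
theorem L1043 : sm gd N199 = N109 := flp_d L1042
theorem L1044 : sm gb N199 = N110 := ded_14_1 L602 L599 L1042
theorem L1045 : sm gb N110 = N199 := flp_b L1044
theorem L1046 : sm ge N109 = N200 := rfl
theorem L1047 : sm ge N200 = N109 := flp_e L1046
theorem L1048 : sm gb N200 = N111 := ded_15_1 L610 L599 L1046
theorem L1049 : sm gb N111 = N200 := flp_b L1048
theorem L1050 : sm gf N109 = N201 := rfl
theorem L1051 : sm gf N201 = N109 := flp_f L1050
theorem L1052 : sm gg N109 = N202 := rfl
theorem L1053 : sm gg N202 = N109 := flp_g L1052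
theorem L1054 : sm gb N202 = N182 := ded_17_1 L951 L545 L364 L599 L1052
theorem L1055 : sm gb N182 = N202 := flp_b L1054
theorem L1056 : sm ge N110 = N203 := rfl
theorem L1057 : sm ge N203 = N110 := flp_e L1056
theorem L1058 : sm ga N203 = N120 := ded_10_1 L662 L604 L1056
theorem L1059 : sm ga N120 = N203 := flp_a L1058
theorem L1060 : sm gc N203 = N183 := ded_19_1 L955 L608 L1056
theorem L1062 : sm gg N203 = N183 := ded_26_2 L955 L606 L1056
theorem L1063 : sm gg N183 = N203 := flp_g L1062
theorem L1064 : sm gf N110 = N204 := rfl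
theorem L1065 : sm gf N204 = N110 := flp_f L1064
theorem L1072 : sm gd N111 = N205 := rfl
theorem L1073 : sm gd N205 = N111 := flp_d L1072
theorem L1074 : sm ga N205 = N122 := ded_9_1 L668 L612 L1072
theorem L1075 : sm ga N122 = N205 := flp_a L1074
theorem L1076 : sm gg N205 = N185 := ded_24_2 L963 L616 L1072
theorem L1077 : sm gg N185 = N205 := flp_g L1076
theorem L1078 : sm gf N111 = N206 := rfl
theorem L1079 : sm gf N206 = N111 := flp_f L1078
theorem L1080 : sm ga N206 = N123 := ded_11_1 L670 L612 L1078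
theorem L1082 : sm gc N206 = N113 := ded_20_1 L624 L614 L1078
theorem L1084 : sm ge N206 = N112 := ded_25_1 L618 L609 L1078
theorem L1085 : sm ge N112 = N206 := flp_e L1084
theorem L1086 : sm gb N112 = N207 := rfl
theorem L1087 : sm gb N207 = N112 := flp_b L1086
theorem L1089 : sm gb N114 = N208 := rfl
theorem L1090 : sm gb N208 = N114 := flp_b L1089
theorem L1091 : sm gd N114 = N209 := rfl
theorem L1092 : sm gd N209 = N114 := flp_d L1091
theorem L1093 : sm ga N209 = N115 := ded_9_1 L636 L631 L1091
theorem L1094 : sm ga N115 = N209 := flp_a L1093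
theorem L1095 : sm gc N115 = N209 := ded_28_0 L1092 L633 L429 L287 L430 L634 L1091 L1093
theorem L1096 : sm gc N209 = N115 := flp_c L1095
theorem L1097 : sm ge N114 = N210 := rfl
theorem L1098 : sm ge N210 = N114 := flp_e L1097
theorem L1099 : sm ga N210 = N116 := ded_10_1 L640 L631 L1097
theorem L1100 : sm ga N116 = N210 := flp_a L1099
theorem L1101 : sm gc N210 = N131 := ded_19_1 L717 L634 L1097
theorem L1102 : sm gc N131 = N210 := flp_c L1101
theorem L1103 : sm gf N114 = N211 := rfl
theorem L1104 : sm gf N211 = N114 := flp_f L1103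
theorem L1105 : sm ga N211 = N117 := ded_11_1 L646 L631 L1103
theorem L1106 : sm ga N117 = N211 := flp_a L1105
theorem L1107 : sm gc N211 = N132 := ded_20_1 L721 L634 L1103
theorem L1108 : sm gc N132 = N211 := flp_c L1107
theorem L1109 : sm gg N114 = N212 := rfl
theorem L1110 : sm gg N212 = N114 := flp_g L1109
theorem L1111 : sm ga N212 = N118 := ded_12_1 L650 L631 L1109
theorem L1112 : sm ga N118 = N212 := flp_a L1111
theorem L1113 : sm gc N212 = N133 := ded_21_1 L727 L634 L1109
theorem L1114 : sm gc N133 = N212 := flp_c L1113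
theorem L1115 : sm ge N115 = N213 := rfl
theorem L1116 : sm ge N213 = N115 := flp_e L1115
theorem L1117 : sm gb N213 = N120 := ded_15_1 L662 L638 L1115
theorem L1118 : sm gb N120 = N213 := flp_b L1117
theorem L1119 : sm gf N115 = N214 := rfl
theorem L1120 : sm gf N214 = N115 := flp_f L1119
theorem L1121 : sm gd N214 = N117 := ded_23_1 L646 L635 L1119
theorem L1122 : sm gd N117 = N214 := flp_d L1121
theorem L1123 : sm gg N115 = N215 := rfl
theorem L1124 : sm gg N215 = N115 := flp_g L1123
theorem L1125 : sm gd N215 = N118 := ded_24_1 L650 L635 L1123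
theorem L1126 : sm gd N118 = N215 := flp_d L1125
theorem L1127 : sm gd N116 = N216 := rfl
theorem L1128 : sm gd N216 = N116 := flp_d L1127
theorem L1129 : sm gb N216 = N122 := ded_14_1 L668 L642 L1127
theorem L1130 : sm gb N122 = N216 := flp_b L1129
theorem L1131 : sm gf N116 = N217 := rfl
theorem L1132 : sm gf N217 = N116 := flp_f L1131
theorem L1133 : sm gc N217 = N135 := ded_20_1 L739 L644 L1131
theorem L1134 : sm gc N135 = N217 := flp_c L1133
theorem L1135 : sm ge N217 = N117 := ded_25_1 L646 L639 L1131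
theorem L1136 : sm ge N117 = N217 := flp_e L1135
theorem L1137 : sm gg N116 = N218 := rfl
theorem L1138 : sm gg N218 = N116 := flp_g L1137
theorem L1139 : sm gc N218 = N136 := ded_21_1 L743 L644 L1137
theorem L1140 : sm gc N136 = N218 := flp_c L1139
theorem L1141 : sm ge N218 = N118 := ded_26_1 L650 L639 L1137
theorem L1142 : sm ge N118 = N218 := flp_e L1141
theorem L1143 : sm gb N117 = N219 := rfl
theorem L1144 : sm gb N219 = N117 := flp_b L1143
theorem L1145 : sm gf N219 = N125 := ded_16_2 L684 L390 L379 L645 L1143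
theorem L1146 : sm gf N125 = N219 := flp_f L1145
theorem L1147 : sm gg N117 = N220 := rfl
theorem L1148 : sm gg N220 = N117 := flp_g L1147
theorem L1149 : sm gc N220 = N137 := ded_21_1 L748 L648 L1147
theorem L1150 : sm gc N137 = N220 := flp_c L1149
theorem L1151 : sm gf N212 = N220 := ded_29_0 L1148 L646 L649 L1112
theorem L1152 : sm gf N220 = N212 := flp_f L1151
theorem L1153 : sm gb N118 = N221 := rfl
theorem L1154 : sm gb N221 = N118 := flp_b L1153
theorem L1156 : sm gg N221 = N126 := ded_17_2 L686 L394 L379 L649 L1153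
theorem L1157 : sm gg N126 = N221 := flp_g L1156
theorem L1158 : sm gf N118 = N222 := rfl
theorem L1159 : sm gf N222 = N118 := flp_f L1158
theorem L1160 : sm ga N222 = N220 := ded_11_1 L1152 L1111 L1158
theorem L1161 : sm ga N220 = N222 := flp_a L1160
theorem L1162 : sm gc N222 = N138 := ded_20_1 L754 L652 L1158
theorem L1163 : sm gc N138 = N222 := flp_c L1162
theorem L1164 : sm gg N222 = N211 := ded_29_3 L1105 L646 L649 L1158
theorem L1165 : sm gg N211 = N222 := flp_g L1164
theorem L1166 : sm gb N119 = N223 := rfl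
theorem L1167 : sm gb N223 = N119 := flp_b L1166
theorem L1168 : sm gd N223 = N126 := ded_14_2 L686 L658 L1166
theorem L1169 : sm gd N126 = N223 := flp_d L1168
theorem L1170 : sm ge N119 = N224 := rfl
theorem L1171 : sm ge N224 = N119 := flp_e L1170
theorem L1172 : sm ga N224 = N183 := ded_10_1 L955 L656 L1170
theorem L1173 : sm ga N183 = N224 := flp_a L1172
theorem L1174 : sm gc N224 = N120 := ded_19_1 L662 L653 L1170
theorem L1175 : sm gc N120 = N224 := flp_c L1174
theorem L1176 : sm gg N224 = N120 := ded_26_2 L662 L659 L1170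
theorem L1177 : sm gg N120 = N224 := flp_g L1176
theorem L1178 : sm gf N119 = N225 := rfl
theorem L1179 : sm gf N225 = N119 := flp_f L1178
theorem L1182 : sm gc N225 = N121 := ded_20_1 L664 L653 L1178
theorem L1183 : sm gc N121 = N225 := flp_c L1182
theorem L1184 : sm gd N225 = N127 := ded_23_1 L689 L658 L1178
theorem L1185 : sm gd N127 = N225 := flp_d L1184
theorem L1188 : sm gd N120 = N226 := rfl
theorem L1189 : sm gd N226 = N120 := flp_d L1188
theorem L1190 : sm ge N226 = N122 := ded_22_2 L668 L386 L383 L661 L1188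
theorem L1191 : sm ge N122 = N226 := flp_e L1190
theorem L1192 : sm gf N120 = N227 := rfl
theorem L1193 : sm gf N227 = N120 := flp_f L1192
theorem L1194 : sm ge N227 = N121 := ded_25_1 L664 L661 L1192
theorem L1195 : sm ge N121 = N227 := flp_e L1194
theorem L1196 : sm gb N121 = N228 := rfl
theorem L1197 : sm gb N228 = N121 := flp_b L1196
theorem L1198 : sm gd N228 = N125 := ded_14_2 L684 L666 L1196
theorem L1199 : sm gd N125 = N228 := flp_d L1198
theorem L1200 : sm gc N122 = N229 := rfl
theorem L1201 : sm gc N229 = N122 := flp_c L1200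
theorem L1202 : sm gf N122 = N230 := rfl
theorem L1203 : sm gf N230 = N122 := flp_f L1202
theorem L1204 : sm gd N230 = N123 := ded_23_1 L670 L667 L1202
theorem L1205 : sm gd N123 = N230 := flp_d L1204
theorem L1206 : sm gg N122 = N231 := rfl
theorem L1207 : sm gg N231 = N122 := flp_g L1206
theorem L1208 : sm ga N231 = N185 := ded_12_1 L1077 L1074 L1206
theorem L1209 : sm ga N185 = N231 := flp_a L1208
theorem L1210 : sm gd N231 = N124 := ded_24_1 L676 L667 L1206
theorem L1211 : sm gd N124 = N231 := flp_d L1210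
theorem L1212 : sm gb N123 = N232 := rfl
theorem L1213 : sm gb N232 = N123 := flp_b L1212
theorem L1214 : sm ge N232 = N125 := ded_15_2 L684 L674 L1212
theorem L1215 : sm ge N125 = N232 := flp_e L1214
theorem L1216 : sm gb N124 = N233 := rfl
theorem L1217 : sm gb N233 = N124 := flp_b L1216
theorem L1218 : sm ge N233 = N126 := ded_15_2 L686 L682 L1216
theorem L1219 : sm ge N126 = N233 := flp_e L1218
theorem L1221 : sm gf N124 = N234 := rfl
theorem L1222 : sm gf N234 = N124 := flp_f L1221
theorem L1223 : sm ga N234 = N186 := ded_11_1 L965 L678 L1221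
theorem L1224 : sm ga N186 = N234 := flp_a L1223
theorem L1225 : sm gc N234 = N128 := ded_20_1 L697 L680 L1221
theorem L1226 : sm gc N128 = N234 := flp_c L1225
theorem L1227 : sm ge N234 = N127 := ded_25_1 L689 L682 L1221
theorem L1228 : sm ge N127 = N234 := flp_e L1227
theorem L1229 : sm gg N234 = N206 := ded_29_3 L1080 L670 L675 L1221
theorem L1230 : sm gg N206 = N234 := flp_g L1229
theorem L1231 : sm ga N125 = N235 := rfl
theorem L1232 : sm ga N235 = N125 := flp_a L1231
theorem L1233 : sm gg N125 = N236 := rfl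
theorem L1234 : sm gg N236 = N125 := flp_g L1233
theorem L1235 : sm ga N126 = N237 := rfl
theorem L1236 : sm ga N237 = N126 := flp_a L1235
theorem L1238 : sm gf N126 = N238 := rfl
theorem L1239 : sm gf N238 = N126 := flp_f L1238
theorem L1241 : sm gb N127 = N239 := rfl
theorem L1242 : sm gb N239 = N127 := flp_b L1241
theorem L1243 : sm gb N128 = N240 := rfl
theorem L1244 : sm gb N240 = N128 := flp_b L1243
theorem L1245 : sm gd N240 = N240 := ded_14_2 L1244 L700 L1243
theorem L1246 : sm ge N240 = N129 := ded_15_2 L706 L702 L1243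
theorem L1247 : sm ge N129 = N240 := flp_e L1246
theorem L1248 : sm gf N240 = N240 := ded_16_2 L1244 L697 L411 L696 L1243
theorem L1249 : sm gg N240 = N240 := ded_17_2 L1244 L703 L630 L704 L1243
theorem L1250 : sm ga N240 = N240 := ded_7_1 L1244 L698 L567 L626 L630 L625 L568 L699 L1243
theorem L1251 : sm gc N129 = N241 := rfl
theorem L1252 : sm gc N241 = N129 := flp_c L1251
theorem L1253 : sm ga N241 = N241 := ded_8_1 L1252 L711 L1251
theorem L1254 : sm gf N241 = N241 := ded_20_2 L1252 L709 L1251
theorem L1255 : sm gg N241 = N241 := ded_21_2 L1252 L710 L1251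
theorem L1256 : sm ga N130 = N242 := rfl
theorem L1257 : sm ga N242 = N130 := flp_a L1256
theorem L1260 : sm gb N242 = N140 := ded_7_2 L771 L452 L286 L146 L135 L274 L427 L712 L1256
theorem L1261 : sm gb N140 = N242 := flp_b L1260
theorem L1262 : sm gc N130 = N243 := rfl
theorem L1263 : sm gc N243 = N130 := flp_c L1262
theorem L1264 : sm ge N130 = N244 := rfl
theorem L1265 : sm ge N244 = N130 := flp_e L1264
theorem L1266 : sm gb N244 = N131 := ded_15_1 L717 L712 L1264
theorem L1267 : sm gb N131 = N244 := flp_b L1266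
theorem L1268 : sm gf N130 = N245 := rfl
theorem L1269 : sm gf N245 = N130 := flp_f L1268
theorem L1270 : sm gd N245 = N143 := ded_23_1 L780 L715 L1268
theorem L1271 : sm gd N143 = N245 := flp_d L1270
theorem L1272 : sm gg N130 = N246 := rfl
theorem L1273 : sm gg N246 = N130 := flp_g L1272
theorem L1274 : sm gd N246 = N144 := ded_24_1 L782 L715 L1272
theorem L1275 : sm gd N144 = N246 := flp_d L1274
theorem L1276 : sm gd N131 = N247 := rfl
theorem L1277 : sm gd N247 = N131 := flp_d L1276
theorem L1278 : sm ga N247 = N134 := ded_9_1 L733 L719 L1276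
theorem L1279 : sm ga N134 = N247 := flp_a L1278
theorem L1280 : sm ge N247 = N145 := ded_22_2 L784 L454 L430 L716 L1276
theorem L1281 : sm ge N145 = N247 := flp_e L1280
theorem L1282 : sm gf N131 = N248 := rfl
theorem L1283 : sm gf N248 = N131 := flp_f L1282
theorem L1284 : sm ga N248 = N135 := ded_11_1 L739 L719 L1282
theorem L1285 : sm ga N135 = N248 := flp_a L1284
theorem L1286 : sm ge N248 = N132 := ded_25_1 L721 L716 L1282
theorem L1287 : sm ge N132 = N248 := flp_e L1286
theorem L1288 : sm gg N131 = N249 := rfl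
theorem L1289 : sm gg N249 = N131 := flp_g L1288
theorem L1290 : sm ga N249 = N136 := ded_12_1 L743 L719 L1288
theorem L1291 : sm ga N136 = N249 := flp_a L1290
theorem L1292 : sm ge N249 = N133 := ded_26_1 L727 L716 L1288
theorem L1293 : sm ge N133 = N249 := flp_e L1292
theorem L1294 : sm gb N132 = N250 := rfl
theorem L1295 : sm gb N250 = N132 := flp_b L1294
theorem L1296 : sm gd N250 = N148 := ded_14_2 L802 L725 L1294
theorem L1297 : sm gd N148 = N250 := flp_d L1296
theorem L1298 : sm gb N133 = N251 := rfl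
theorem L1299 : sm gb N251 = N133 := flp_b L1298
theorem L1300 : sm gd N251 = N149 := ded_14_2 L804 L731 L1298
theorem L1301 : sm gd N149 = N251 := flp_d L1300
theorem L1302 : sm gc N134 = N252 := rfl
theorem L1303 : sm gc N252 = N134 := flp_c L1302
theorem L1304 : sm ge N252 = N150 := ded_19_2 L806 L737 L1302
theorem L1305 : sm ge N150 = N252 := flp_e L1304
theorem L1306 : sm gf N134 = N253 := rfl
theorem L1307 : sm gf N253 = N134 := flp_f L1306
theorem L1308 : sm gd N253 = N135 := ded_23_1 L739 L732 L1306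
theorem L1309 : sm gd N135 = N253 := flp_d L1308
theorem L1310 : sm ge N253 = N151 := ded_25_1 L808 L737 L1306
theorem L1311 : sm ge N151 = N253 := flp_e L1310
theorem L1312 : sm gg N134 = N254 := rfl
theorem L1313 : sm gg N254 = N134 := flp_g L1312
theorem L1314 : sm gd N254 = N136 := ded_24_1 L743 L732 L1312
theorem L1315 : sm gd N136 = N254 := flp_d L1314
theorem L1316 : sm ge N254 = N152 := ded_26_1 L812 L737 L1312
theorem L1317 : sm ge N152 = N254 := flp_e L1316
theorem L1318 : sm gb N254 = N254 := ded_17_1 L1313 L734 L448 L735 L1312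
theorem L1319 : sm gg N135 = N255 := rfl
theorem L1320 : sm gg N255 = N135 := flp_g L1319
theorem L1321 : sm ge N255 = N137 := ded_26_1 L748 L741 L1319
theorem L1322 : sm ge N137 = N255 := flp_e L1321
theorem L1323 : sm gf N249 = N255 := ded_29_0 L1320 L739 L742 L1291
theorem L1324 : sm gf N255 = N249 := flp_f L1323
theorem L1325 : sm gf N136 = N256 := rfl
theorem L1326 : sm gf N256 = N136 := flp_f L1325
theorem L1327 : sm ga N256 = N255 := ded_11_1 L1324 L1290 L1325
theorem L1328 : sm ga N255 = N256 := flp_a L1327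
theorem L1329 : sm ge N256 = N138 := ded_25_1 L754 L745 L1325
theorem L1330 : sm ge N138 = N256 := flp_e L1329
theorem L1331 : sm gg N256 = N248 := ded_29_3 L1284 L739 L742 L1325
theorem L1332 : sm gg N248 = N256 := flp_g L1331
theorem L1333 : sm gb N137 = N257 := rfl
theorem L1334 : sm gb N257 = N137 := flp_b L1333
theorem L1335 : sm gd N257 = N159 := ded_14_2 L850 L750 L1333
theorem L1336 : sm gd N159 = N257 := flp_d L1335
theorem L1337 : sm gb N138 = N258 := rfl
theorem L1338 : sm gb N258 = N138 := flp_b L1337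
theorem L1339 : sm gd N258 = N160 := ded_14_2 L852 L758 L1337
theorem L1340 : sm gd N160 = N258 := flp_d L1339
theorem L1341 : sm gf N258 = N258 := ded_16_2 L1338 L754 L443 L753 L1337
theorem L1342 : sm gb N139 = N259 := rfl
theorem L1343 : sm gb N259 = N139 := flp_b L1342
theorem L1344 : sm gd N259 = N161 := ded_14_2 L855 L769 L1342
theorem L1345 : sm gd N161 = N259 := flp_d L1344
theorem L1346 : sm ge N259 = N161 := ded_15_2 L855 L766 L1342
theorem L1347 : sm ge N161 = N259 := flp_e L1346
theorem L1348 : sm gc N140 = N260 := rfl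
theorem L1350 : sm ga N260 = N141 := ded_8_1 L773 L770 L1348
theorem L1351 : sm ga N141 = N260 := flp_a L1350
theorem L1352 : sm ge N140 = N261 := rfl
theorem L1354 : sm ga N261 = N142 := ded_10_1 L776 L770 L1352
theorem L1355 : sm ga N142 = N261 := flp_a L1354
theorem L1356 : sm gf N140 = N262 := rfl
theorem L1357 : sm gf N262 = N140 := flp_f L1356
theorem L1358 : sm ga N262 = N143 := ded_11_1 L780 L770 L1356
theorem L1359 : sm ga N143 = N262 := flp_a L1358
theorem L1360 : sm gg N140 = N263 := rfl
theorem L1361 : sm gg N263 = N140 := flp_g L1360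
theorem L1362 : sm ga N263 = N144 := ded_12_1 L782 L770 L1360
theorem L1363 : sm ga N144 = N263 := flp_a L1362
theorem L1364 : sm gd N141 = N264 := rfl
theorem L1365 : sm gd N264 = N141 := flp_d L1364
theorem L1367 : sm ge N141 = N265 := rfl
theorem L1368 : sm ge N265 = N141 := flp_e L1367
theorem L1376 : sm gg N141 = N267 := rfl
theorem L1377 : sm gg N267 = N141 := flp_g L1376
theorem L1378 : sm gc N267 = N144 := ded_21_1 L782 L772 L1376
theorem L1379 : sm gc N144 = N267 := flp_c L1378
theorem L1380 : sm gd N142 = N268 := rfl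
theorem L1381 : sm gd N268 = N142 := flp_d L1380
theorem L1382 : sm gb N268 = N145 := ded_14_1 L784 L778 L1380
theorem L1383 : sm gb N145 = N268 := flp_b L1382
theorem L1384 : sm gf N142 = N269 := rfl
theorem L1386 : sm ge N269 = N143 := ded_25_1 L780 L775 L1384
theorem L1387 : sm ge N143 = N269 := flp_e L1386
theorem L1388 : sm gg N142 = N270 := rfl
theorem L1389 : sm gg N270 = N142 := flp_g L1388
theorem L1390 : sm ge N270 = N144 := ded_26_1 L782 L775 L1388
theorem L1391 : sm ge N144 = N270 := flp_e L1390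
theorem L1392 : sm gb N143 = N271 := rfl
theorem L1393 : sm gb N271 = N143 := flp_b L1392
theorem L1394 : sm gf N271 = N148 := ded_16_2 L802 L459 L451 L779 L1392
theorem L1395 : sm gf N148 = N271 := flp_f L1394
theorem L1396 : sm gg N143 = N272 := rfl
theorem L1397 : sm gg N272 = N143 := flp_g L1396
theorem L1398 : sm gf N263 = N272 := ded_29_0 L1397 L780 L781 L1363
theorem L1399 : sm gf N272 = N263 := flp_f L1398
theorem L1400 : sm gb N144 = N273 := rfl
theorem L1401 : sm gb N273 = N144 := flp_b L1400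
theorem L1402 : sm gg N273 = N149 := ded_17_2 L804 L464 L451 L781 L1400
theorem L1403 : sm gg N149 = N273 := flp_g L1402
theorem L1404 : sm gf N144 = N274 := rfl
theorem L1405 : sm gf N274 = N144 := flp_f L1404
theorem L1406 : sm ga N274 = N272 := ded_11_1 L1399 L1362 L1404
theorem L1407 : sm ga N272 = N274 := flp_a L1406
theorem L1408 : sm gg N274 = N262 := ded_29_3 L1358 L780 L781 L1404
theorem L1409 : sm gg N262 = N274 := flp_g L1408
theorem L1410 : sm gc N145 = N275 := rfl
theorem L1411 : sm gc N275 = N145 := flp_c L1410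
theorem L1412 : sm ga N275 = N150 := ded_8_1 L806 L786 L1410
theorem L1413 : sm ga N150 = N275 := flp_a L1412
theorem L1414 : sm gf N145 = N276 := rfl
theorem L1415 : sm gf N276 = N145 := flp_f L1414
theorem L1416 : sm ga N276 = N151 := ded_11_1 L808 L786 L1414
theorem L1417 : sm ga N151 = N276 := flp_a L1416
theorem L1418 : sm gd N276 = N146 := ded_23_1 L788 L783 L1414
theorem L1419 : sm gd N146 = N276 := flp_d L1418
theorem L1420 : sm gg N145 = N277 := rfl
theorem L1421 : sm gg N277 = N145 := flp_g L1420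
theorem L1422 : sm ga N277 = N152 := ded_12_1 L812 L786 L1420
theorem L1423 : sm ga N152 = N277 := flp_a L1422
theorem L1424 : sm gd N277 = N147 := ded_24_1 L795 L783 L1420
theorem L1425 : sm gd N147 = N277 := flp_d L1424
theorem L1426 : sm gb N146 = N278 := rfl
theorem L1427 : sm gb N278 = N146 := flp_b L1426
theorem L1428 : sm ge N278 = N148 := ded_15_2 L802 L793 L1426
theorem L1429 : sm ge N148 = N278 := flp_e L1428
theorem L1430 : sm gb N147 = N279 := rfl
theorem L1431 : sm gb N279 = N147 := flp_b L1430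
theorem L1432 : sm ge N279 = N149 := ded_15_2 L804 L800 L1430
theorem L1433 : sm ge N149 = N279 := flp_e L1432
theorem L1434 : sm ga N148 = N280 := rfl
theorem L1435 : sm ga N280 = N148 := flp_a L1434
theorem L1436 : sm gc N148 = N281 := rfl
theorem L1437 : sm gc N281 = N148 := flp_c L1436
theorem L1438 : sm gb N281 = N281 := ded_13_1 L1437 L802 L462 L801 L1436
theorem L1439 : sm gg N148 = N282 := rfl
theorem L1440 : sm gg N282 = N148 := flp_g L1439
theorem L1441 : sm ga N149 = N283 := rfl
theorem L1442 : sm ga N283 = N149 := flp_a L1441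
theorem L1443 : sm gc N149 = N284 := rfl
theorem L1444 : sm gc N284 = N149 := flp_c L1443
theorem L1445 : sm gb N284 = N284 := ded_13_1 L1444 L804 L467 L803 L1443
theorem L1446 : sm gf N149 = N285 := rfl
theorem L1447 : sm gf N285 = N149 := flp_f L1446
theorem L1448 : sm gb N150 = N286 := rfl
theorem L1449 : sm gb N286 = N150 := flp_b L1448
theorem L1450 : sm gc N286 = N161 := ded_13_2 L855 L500 L471 L805 L1448
theorem L1451 : sm gc N161 = N286 := flp_c L1450
theorem L1452 : sm gd N150 = N287 := rfl
theorem L1453 : sm gd N287 = N150 := flp_d L1452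
theorem L1454 : sm gf N150 = N288 := rfl
theorem L1455 : sm gf N288 = N150 := flp_f L1454
theorem L1456 : sm gc N288 = N151 := ded_20_1 L808 L805 L1454
theorem L1457 : sm gc N151 = N288 := flp_c L1456
theorem L1458 : sm gg N150 = N289 := rfl
theorem L1459 : sm gg N289 = N150 := flp_g L1458
theorem L1460 : sm gc N289 = N152 := ded_21_1 L812 L805 L1458
theorem L1461 : sm gc N152 = N289 := flp_c L1460
theorem L1462 : sm gb N151 = N290 := rfl
theorem L1463 : sm gb N290 = N151 := flp_b L1462
theorem L1464 : sm gd N290 = N153 := ded_14_2 L817 L810 L1462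
theorem L1465 : sm gd N153 = N290 := flp_d L1464
theorem L1466 : sm gf N290 = N163 := ded_16_2 L861 L503 L471 L807 L1462
theorem L1467 : sm gf N163 = N290 := flp_f L1466
theorem L1468 : sm gg N151 = N291 := rfl
theorem L1469 : sm gg N291 = N151 := flp_g L1468
theorem L1470 : sm gd N291 = N154 := ded_24_1 L823 L810 L1468
theorem L1471 : sm gd N154 = N291 := flp_d L1470
theorem L1472 : sm gf N277 = N291 := ded_29_0 L1469 L808 L811 L1423
theorem L1473 : sm gf N291 = N277 := flp_f L1472
theorem L1474 : sm gf N152 = N292 := rfl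
theorem L1475 : sm gf N292 = N152 := flp_f L1474
theorem L1476 : sm ga N292 = N291 := ded_11_1 L1473 L1422 L1474
theorem L1477 : sm ga N291 = N292 := flp_a L1476
theorem L1478 : sm gd N292 = N155 := ded_23_1 L830 L814 L1474
theorem L1479 : sm gd N155 = N292 := flp_d L1478
theorem L1480 : sm gg N292 = N276 := ded_29_3 L1416 L808 L811 L1474
theorem L1481 : sm gg N276 = N292 := flp_g L1480
theorem L1482 : sm ga N153 = N293 := rfl
theorem L1483 : sm ga N293 = N153 := flp_a L1482
theorem L1484 : sm ge N293 = N156 := ded_10_2 L839 L819 L1482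
theorem L1485 : sm ge N156 = N293 := flp_e L1484
theorem L1486 : sm gf N293 = N164 := ded_11_2 L865 L821 L1482
theorem L1495 : sm gg N153 = N295 := rfl
theorem L1496 : sm gg N295 = N153 := flp_g L1495
theorem L1497 : sm ge N295 = N158 := ded_26_1 L848 L819 L1495
theorem L1498 : sm ge N158 = N295 := flp_e L1497
theorem L1499 : sm gb N154 = N296 := rfl
theorem L1500 : sm gb N296 = N154 := flp_b L1499
theorem L1501 : sm ge N296 = N159 := ded_15_2 L850 L826 L1499
theorem L1502 : sm ge N159 = N296 := flp_e L1501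
theorem L1503 : sm gb N155 = N297 := rfl
theorem L1504 : sm gb N297 = N155 := flp_b L1503
theorem L1505 : sm ge N297 = N160 := ded_15_2 L852 L835 L1503
theorem L1506 : sm ge N160 = N297 := flp_e L1505
theorem L1507 : sm gf N297 = N297 := ded_16_2 L1504 L830 L482 L829 L1503
theorem L1508 : sm gb N156 = N298 := rfl
theorem L1509 : sm gb N298 = N156 := flp_b L1508
theorem L1510 : sm gc N156 = N299 := rfl
theorem L1511 : sm gc N299 = N156 := flp_c L1510
theorem L1512 : sm ga N299 = N157 := ded_8_1 L843 L838 L1510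
theorem L1513 : sm ga N157 = N299 := flp_a L1512
theorem L1514 : sm gf N299 = N168 := ded_20_2 L881 L841 L1510
theorem L1515 : sm gf N168 = N299 := flp_f L1514
theorem L1516 : sm gd N157 = N300 := rfl
theorem L1517 : sm gd N300 = N157 := flp_d L1516
theorem L1519 : sm gf N300 = N170 := ded_23_2 L891 L845 L1516
theorem L1520 : sm gf N170 = N300 := flp_f L1519
theorem L1521 : sm gg N157 = N301 := rfl
theorem L1522 : sm gg N301 = N157 := flp_g L1521
theorem L1523 : sm gc N301 = N158 := ded_21_1 L848 L842 L1521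
theorem L1524 : sm gc N158 = N301 := flp_c L1523
theorem L1525 : sm gb N158 = N302 := rfl
theorem L1526 : sm gb N302 = N158 := flp_b L1525
theorem L1527 : sm gg N302 = N159 := ded_17_2 L850 L488 L483 L847 L1525
theorem L1528 : sm gg N159 = N302 := flp_g L1527
theorem L1529 : sm ga N159 = N303 := rfl
theorem L1530 : sm ga N303 = N159 := flp_a L1529
theorem L1531 : sm gc N159 = N304 := rfl
theorem L1532 : sm gc N304 = N159 := flp_c L1531
theorem L1533 : sm gb N304 = N304 := ded_13_1 L1532 L850 L489 L849 L1531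
theorem L1534 : sm gf N159 = N305 := rfl
theorem L1535 : sm gf N305 = N159 := flp_f L1534
theorem L1536 : sm gb N305 = N285 := ded_16_1 L1447 L804 L490 L849 L1534
theorem L1537 : sm gb N285 = N305 := flp_b L1536
theorem L1538 : sm ga N160 = N306 := rfl
theorem L1539 : sm ga N306 = N160 := flp_a L1538
theorem L1540 : sm gf N306 = N306 := ded_11_2 L1539 L853 L1538
theorem L1541 : sm gc N160 = N307 := rfl
theorem L1542 : sm gc N307 = N160 := flp_c L1541
theorem L1543 : sm gf N307 = N307 := ded_20_2 L1542 L853 L1541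
theorem L1544 : sm gb N307 = N307 := ded_13_1 L1542 L852 L496 L851 L1541
theorem L1545 : sm gg N160 = N308 := rfl
theorem L1546 : sm gg N308 = N160 := flp_g L1545
theorem L1547 : sm gb N308 = N282 := ded_17_1 L1440 L802 L498 L851 L1545
theorem L1548 : sm gb N282 = N308 := flp_b L1547
theorem L1549 : sm ga N161 = N309 := rfl
theorem L1550 : sm ga N309 = N161 := flp_a L1549
theorem L1551 : sm gf N161 = N310 := rfl
theorem L1552 : sm gf N310 = N161 := flp_f L1551
theorem L1553 : sm gg N161 = N311 := rfl
theorem L1554 : sm gg N311 = N161 := flp_g L1553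
theorem L1555 : sm gb N311 = N311 := ded_17_1 L1554 L855 L501 L854 L1553
theorem L1556 : sm gb N162 = N312 := rfl
theorem L1557 : sm gb N312 = N162 := flp_b L1556
theorem L1558 : sm ga N163 = N313 := rfl
theorem L1559 : sm ga N313 = N163 := flp_a L1558
theorem L1560 : sm gd N313 = N164 := ded_9_2 L865 L863 L1558
theorem L1562 : sm gc N163 = N314 := rfl
theorem L1563 : sm gc N314 = N163 := flp_c L1562
theorem L1564 : sm gg N163 = N315 := rfl
theorem L1565 : sm gg N315 = N163 := flp_g L1564
theorem L1566 : sm gd N315 = N166 := ded_24_1 L875 L863 L1564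
theorem L1567 : sm gd N166 = N315 := flp_d L1566
theorem L1568 : sm gb N164 = N316 := rfl
theorem L1569 : sm gb N316 = N164 := flp_b L1568
theorem L1570 : sm ge N316 = N167 := ded_15_2 L879 L867 L1568
theorem L1571 : sm ge N167 = N316 := flp_e L1570
theorem L1578 : sm gg N164 = N318 := rfl
theorem L1582 : sm ge N318 = N169 := ded_26_1 L885 L867 L1578
theorem L1583 : sm ge N169 = N318 := flp_e L1582
theorem L1584 : sm gf N318 = N295 := ded_29_2 L1496 L1482 L1486 L1578
theorem L1585 : sm gf N295 = N318 := flp_f L1584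
theorem L1590 : sm gg N165 = N320 := rfl
theorem L1592 : sm gc N320 = N166 := ded_21_1 L875 L868 L1590
theorem L1593 : sm gc N166 = N320 := flp_c L1592
theorem L1596 : sm gf N166 = N321 := rfl
theorem L1597 : sm gf N321 = N166 := flp_f L1596
theorem L1600 : sm ge N321 = N172 := ded_25_1 L899 L877 L1596
theorem L1601 : sm ge N172 = N321 := flp_e L1600
theorem L1604 : sm ga N167 = N322 := rfl
theorem L1605 : sm ga N322 = N167 := flp_a L1604
theorem L1606 : sm gc N167 = N323 := rfl
theorem L1607 : sm gc N323 = N167 := flp_c L1606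
theorem L1608 : sm gf N167 = N324 := rfl
theorem L1609 : sm gf N324 = N167 := flp_f L1608
theorem L1610 : sm gg N167 = N325 := rfl
theorem L1611 : sm gg N325 = N167 := flp_g L1610
theorem L1612 : sm gb N168 = N326 := rfl
theorem L1613 : sm gb N326 = N168 := flp_b L1612
theorem L1614 : sm gd N168 = N327 := rfl
theorem L1615 : sm gd N327 = N168 := flp_d L1614
theorem L1618 : sm gg N168 = N328 := rfl
theorem L1619 : sm gg N328 = N168 := flp_g L1618
theorem L1620 : sm ga N328 = N171 := ded_12_1 L895 L883 L1618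
theorem L1622 : sm gc N328 = N169 := ded_21_1 L885 L880 L1618
theorem L1623 : sm gc N169 = N328 := flp_c L1622
theorem L1624 : sm gf N328 = N301 := ded_29_2 L1522 L1513 L1514 L1618
theorem L1625 : sm gf N301 = N328 := flp_f L1624
theorem L1626 : sm gb N169 = N329 := rfl
theorem L1627 : sm gb N329 = N169 := flp_b L1626
theorem L1628 : sm gc N170 = N330 := rfl
theorem L1629 : sm gc N330 = N170 := flp_c L1628
theorem L1630 : sm gb N330 = N330 := ded_13_1 L1629 L892 L537 L893 L1628
theorem L1639 : sm gb N171 = N333 := rfl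
theorem L1641 : sm gc N333 = N202 := ded_13_2 L1054 L952 L587 L897 L1639
theorem L1642 : sm gc N202 = N333 := flp_c L1641
theorem L1643 : sm gg N333 = N177 := ded_17_2 L929 L539 L515 L894 L1639
theorem L1645 : sm gf N171 = N334 := rfl
theorem L1646 : sm gf N334 = N171 := flp_f L1645
theorem L1651 : sm gg N334 = N299 := ded_29_3 L1512 L844 L894 L1645
theorem L1652 : sm gg N299 = N334 := flp_g L1651
theorem L1653 : sm gb N172 = N335 := rfl
theorem L1654 : sm gb N335 = N172 := flp_b L1653
theorem L1660 : sm ge N173 = N337 := rfl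
theorem L1664 : sm gd N337 = N175 := ded_22_1 L917 L534 L522 L904 L1660
theorem L1665 : sm gd N175 = N337 := flp_d L1664
theorem L1666 : sm gg N173 = N338 := rfl
theorem L1667 : sm gg N338 = N173 := flp_g L1666
theorem L1672 : sm gb N174 = N339 := rfl
theorem L1673 : sm gb N339 = N174 := flp_b L1672
theorem L1674 : sm ge N339 = N177 := ded_15_2 L929 L914 L1672
theorem L1675 : sm ge N177 = N339 := flp_e L1674
theorem L1676 : sm gc N339 = N200 := ded_13_2 L1048 L613 L532 L912 L1672
theorem L1677 : sm gc N200 = N339 := flp_c L1676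
theorem L1678 : sm gg N175 = N340 := rfl
theorem L1679 : sm gg N340 = N175 := flp_g L1678
theorem L1682 : sm ge N340 = N176 := ded_26_1 L922 L916 L1678
theorem L1683 : sm ge N176 = N340 := flp_e L1682
theorem L1685 : sm gb N176 = N341 := rfl
theorem L1686 : sm gb N341 = N176 := flp_b L1685
theorem L1687 : sm gd N341 = N177 := ded_14_2 L929 L926 L1685
theorem L1688 : sm gd N177 = N341 := flp_d L1687
theorem L1689 : sm ga N177 = N342 := rfl
theorem L1690 : sm ga N342 = N177 := flp_a L1689
theorem L1691 : sm gc N342 = N198 := ded_8_2 L1041 L931 L1689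
theorem L1693 : sm gf N177 = N343 := rfl
theorem L1694 : sm gf N343 = N177 := flp_f L1693
theorem L1698 : sm gb N178 = N344 := rfl
theorem L1699 : sm gb N344 = N178 := flp_b L1698
theorem L1700 : sm gd N178 = N345 := rfl
theorem L1701 : sm gd N345 = N178 := flp_d L1700
theorem L1702 : sm ga N345 = N179 := ded_9_1 L937 L932 L1700
theorem L1703 : sm ga N179 = N345 := flp_a L1702
theorem L1704 : sm ge N178 = N346 := rfl
theorem L1705 : sm ge N346 = N178 := flp_e L1704
theorem L1706 : sm ga N346 = N180 := ded_10_1 L941 L932 L1704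
theorem L1707 : sm ga N180 = N346 := flp_a L1706
theorem L1708 : sm gc N346 = N189 := ded_19_1 L981 L935 L1704
theorem L1710 : sm gf N178 = N347 := rfl
theorem L1711 : sm gf N347 = N178 := flp_f L1710
theorem L1714 : sm gc N347 = N190 := ded_20_1 L985 L935 L1710
theorem L1715 : sm gc N190 = N347 := flp_c L1714
theorem L1716 : sm gg N178 = N348 := rfl
theorem L1717 : sm gg N348 = N178 := flp_g L1716
theorem L1718 : sm ga N348 = N182 := ded_12_1 L951 L932 L1716
theorem L1719 : sm ga N182 = N348 := flp_a L1718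
theorem L1720 : sm gc N348 = N191 := ded_21_1 L991 L935 L1716
theorem L1721 : sm gc N191 = N348 := flp_c L1720
theorem L1722 : sm gc N179 = N349 := rfl
theorem L1724 : sm ge N179 = N350 := rfl
theorem L1726 : sm gb N350 = N183 := ded_15_1 L955 L939 L1724
theorem L1727 : sm gb N183 = N350 := flp_b L1726
theorem L1728 : sm gf N179 = N351 := rfl
theorem L1729 : sm gf N351 = N179 := flp_f L1728
theorem L1730 : sm gd N351 = N181 := ded_23_1 L947 L936 L1728
theorem L1731 : sm gd N181 = N351 := flp_d L1730
theorem L1732 : sm gg N179 = N352 := rfl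
theorem L1733 : sm gg N352 = N179 := flp_g L1732
theorem L1736 : sm gd N180 = N353 := rfl
theorem L1737 : sm gd N353 = N180 := flp_d L1736
theorem L1738 : sm gb N353 = N185 := ded_14_1 L963 L943 L1736
theorem L1739 : sm gb N185 = N353 := flp_b L1738
theorem L1740 : sm gf N180 = N354 := rfl
theorem L1741 : sm gf N354 = N180 := flp_f L1740
theorem L1742 : sm gc N354 = N193 := ded_20_1 L1003 L945 L1740
theorem L1743 : sm gc N193 = N354 := flp_c L1742
theorem L1744 : sm ge N354 = N181 := ded_25_1 L947 L940 L1740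
theorem L1745 : sm ge N181 = N354 := flp_e L1744
theorem L1746 : sm gg N180 = N355 := rfl
theorem L1747 : sm gg N355 = N180 := flp_g L1746
theorem L1748 : sm gc N355 = N194 := ded_21_1 L1009 L945 L1746
theorem L1752 : sm gb N181 = N356 := rfl
theorem L1753 : sm gb N356 = N181 := flp_b L1752
theorem L1754 : sm gc N356 = N219 := ded_13_2 L1144 L647 L582 L949 L1752
theorem L1755 : sm gc N219 = N356 := flp_c L1754
theorem L1756 : sm gf N356 = N187 := ded_16_2 L973 L555 L544 L946 L1752
theorem L1757 : sm gf N187 = N356 := flp_f L1756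
theorem L1758 : sm gg N181 = N357 := rfl
theorem L1759 : sm gg N357 = N181 := flp_g L1758
theorem L1760 : sm gc N357 = N195 := ded_21_1 L1015 L949 L1758
theorem L1761 : sm gc N195 = N357 := flp_c L1760
theorem L1762 : sm gf N348 = N357 := ded_29_0 L1759 L947 L950 L1719
theorem L1763 : sm gf N357 = N348 := flp_f L1762
theorem L1764 : sm gf N182 = N358 := rfl
theorem L1765 : sm gf N358 = N182 := flp_f L1764
theorem L1768 : sm gc N358 = N196 := ded_20_1 L1021 L953 L1764
theorem L1769 : sm gc N196 = N358 := flp_c L1768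
theorem L1772 : sm gd N183 = N359 := rfl
theorem L1773 : sm gd N359 = N183 := flp_d L1772
theorem L1774 : sm ge N359 = N185 := ded_22_2 L963 L551 L548 L954 L1772
theorem L1775 : sm ge N185 = N359 := flp_e L1774
theorem L1776 : sm gf N183 = N360 := rfl
theorem L1777 : sm gf N360 = N183 := flp_f L1776
theorem L1778 : sm ge N360 = N184 := ded_25_1 L957 L954 L1776
theorem L1779 : sm ge N184 = N360 := flp_e L1778
theorem L1780 : sm gg N227 = N360 := ded_29_1 L1777 L1063 L1058 L1192
theorem L1781 : sm gg N360 = N227 := flp_g L1780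
theorem L1782 : sm gb N184 = N361 := rfl
theorem L1783 : sm gb N361 = N184 := flp_b L1782
theorem L1784 : sm gd N361 = N187 := ded_14_2 L973 L959 L1782
theorem L1785 : sm gd N187 = N361 := flp_d L1784
theorem L1786 : sm gc N185 = N362 := rfl
theorem L1787 : sm gc N362 = N185 := flp_c L1786
theorem L1788 : sm gf N185 = N363 := rfl
theorem L1789 : sm gf N363 = N185 := flp_f L1788
theorem L1790 : sm gd N363 = N186 := ded_23_1 L965 L962 L1788
theorem L1791 : sm gd N186 = N363 := flp_d L1790
theorem L1792 : sm gg N230 = N363 := ded_29_1 L1789 L1077 L1074 L1202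
theorem L1793 : sm gg N363 = N230 := flp_g L1792
theorem L1794 : sm gb N186 = N364 := rfl
theorem L1795 : sm gb N364 = N186 := flp_b L1794
theorem L1796 : sm ge N364 = N187 := ded_15_2 L973 L969 L1794
theorem L1797 : sm ge N187 = N364 := flp_e L1796
theorem L1798 : sm gc N364 = N232 := ded_13_2 L1213 L671 L568 L967 L1794
theorem L1799 : sm gc N232 = N364 := flp_c L1798
theorem L1800 : sm ga N187 = N365 := rfl
theorem L1801 : sm ga N365 = N187 := flp_a L1800
theorem L1802 : sm gc N365 = N235 := ded_8_2 L1232 L975 L1800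
theorem L1803 : sm gc N235 = N365 := flp_c L1802
theorem L1804 : sm gg N187 = N366 := rfl
theorem L1805 : sm gg N366 = N187 := flp_g L1804
theorem L1806 : sm gc N366 = N236 := ded_21_1 L1234 L975 L1804
theorem L1807 : sm gc N236 = N366 := flp_c L1806
theorem L1808 : sm gb N366 = N236 := ded_17_1 L1234 L684 L558 L972 L1804
theorem L1809 : sm gb N236 = N366 := flp_b L1808
theorem L1810 : sm ga N188 = N367 := rfl
theorem L1811 : sm ga N367 = N188 := flp_a L1810
theorem L1812 : sm gd N367 = N322 := ded_9_2 L1605 L979 L1810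
theorem L1813 : sm gd N322 = N367 := flp_d L1812
theorem L1814 : sm gb N367 = N322 := ded_7_2 L1605 L879 L511 L310 L219 L345 L569 L976 L1810
theorem L1815 : sm gb N322 = N367 := flp_b L1814
theorem L1816 : sm gc N188 = N368 := rfl
theorem L1817 : sm gc N368 = N188 := flp_c L1816
theorem L1818 : sm ge N188 = N369 := rfl
theorem L1819 : sm ge N369 = N188 := flp_e L1818
theorem L1820 : sm gb N369 = N189 := ded_15_1 L981 L976 L1818
theorem L1822 : sm gf N188 = N370 := rfl
theorem L1823 : sm gf N370 = N188 := flp_f L1822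
theorem L1824 : sm gd N370 = N324 := ded_23_1 L1609 L979 L1822
theorem L1825 : sm gd N324 = N370 := flp_d L1824
theorem L1826 : sm gg N188 = N371 := rfl
theorem L1827 : sm gg N371 = N188 := flp_g L1826
theorem L1828 : sm gd N371 = N325 := ded_24_1 L1611 L979 L1826
theorem L1829 : sm gd N325 = N371 := flp_d L1828
theorem L1830 : sm gd N189 = N372 := rfl
theorem L1832 : sm ga N372 = N192 := ded_9_1 L997 L983 L1830
theorem L1833 : sm ga N192 = N372 := flp_a L1832
theorem L1834 : sm ge N372 = N313 := ded_22_2 L1560 L866 L572 L980 L1830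
theorem L1835 : sm ge N313 = N372 := flp_e L1834
theorem L1836 : sm gf N189 = N373 := rfl
theorem L1837 : sm gf N373 = N189 := flp_f L1836
theorem L1838 : sm ga N373 = N193 := ded_11_1 L1003 L983 L1836
theorem L1842 : sm gg N189 = N374 := rfl
theorem L1844 : sm ga N374 = N194 := ded_12_1 L1009 L983 L1842
theorem L1845 : sm ga N194 = N374 := flp_a L1844
theorem L1846 : sm ge N374 = N191 := ded_26_1 L991 L980 L1842
theorem L1847 : sm ge N191 = N374 := flp_e L1846
theorem L1848 : sm gb N190 = N375 := rfl
theorem L1849 : sm gb N375 = N190 := flp_b L1848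
theorem L1850 : sm gd N375 = N298 := ded_14_2 L1509 L989 L1848
theorem L1851 : sm gd N298 = N375 := flp_d L1850
theorem L1852 : sm gb N191 = N376 := rfl
theorem L1853 : sm gb N376 = N191 := flp_b L1852
theorem L1854 : sm gd N376 = N329 := ded_14_2 L1627 L995 L1852
theorem L1855 : sm gd N329 = N376 := flp_d L1854
theorem L1856 : sm gc N192 = N377 := rfl
theorem L1857 : sm gc N377 = N192 := flp_c L1856
theorem L1858 : sm ge N377 = N314 := ded_19_2 L1563 L1001 L1856
theorem L1859 : sm ge N314 = N377 := flp_e L1858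
theorem L1860 : sm gf N192 = N378 := rfl
theorem L1861 : sm gf N378 = N192 := flp_f L1860
theorem L1862 : sm gd N378 = N193 := ded_23_1 L1003 L996 L1860
theorem L1863 : sm gd N193 = N378 := flp_d L1862
theorem L1864 : sm ge N378 = N290 := ded_25_1 L1466 L1001 L1860
theorem L1865 : sm ge N290 = N378 := flp_e L1864
theorem L1866 : sm gb N378 = N253 := ded_16_1 L1307 L734 L594 L999 L1860
theorem L1867 : sm gb N253 = N378 := flp_b L1866
theorem L1868 : sm gg N192 = N379 := rfl
theorem L1869 : sm gg N379 = N192 := flp_g L1868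
theorem L1872 : sm ge N379 = N315 := ded_26_1 L1565 L1001 L1868
theorem L1873 : sm ge N315 = N379 := flp_e L1872
theorem L1876 : sm gg N193 = N380 := rfl
theorem L1877 : sm gg N380 = N193 := flp_g L1876
theorem L1878 : sm ge N380 = N195 := ded_26_1 L1015 L1005 L1876
theorem L1879 : sm ge N195 = N380 := flp_e L1878
theorem L1880 : sm gf N374 = N380 := ded_29_0 L1877 L1003 L1008 L1845
theorem L1881 : sm gf N380 = N374 := flp_f L1880
theorem L1882 : sm gf N194 = N381 := rfl
theorem L1884 : sm ga N381 = N380 := ded_11_1 L1881 L1844 L1882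
theorem L1886 : sm ge N381 = N196 := ded_25_1 L1021 L1011 L1882
theorem L1887 : sm ge N196 = N381 := flp_e L1886
theorem L1888 : sm gg N381 = N373 := ded_29_3 L1838 L1003 L1008 L1882
theorem L1889 : sm gg N373 = N381 := flp_g L1888
theorem L1890 : sm gb N195 = N382 := rfl
theorem L1891 : sm gb N382 = N195 := flp_b L1890
theorem L1892 : sm gd N382 = N302 := ded_14_2 L1526 L1017 L1890
theorem L1893 : sm gd N302 = N382 := flp_d L1892
theorem L1894 : sm gg N382 = N257 := ded_17_2 L1334 L748 L582 L1014 L1890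
theorem L1895 : sm gg N257 = N382 := flp_g L1894
theorem L1896 : sm gb N196 = N383 := rfl
theorem L1897 : sm gb N383 = N196 := flp_b L1896
theorem L1898 : sm gd N383 = N335 := ded_14_2 L1654 L1025 L1896
theorem L1899 : sm gd N335 = N383 := flp_d L1898
theorem L1900 : sm gf N383 = N335 := ded_16_2 L1654 L899 L588 L1020 L1896
theorem L1901 : sm gf N335 = N383 := flp_f L1900
theorem L1902 : sm gb N197 = N384 := rfl
theorem L1903 : sm gb N384 = N197 := flp_b L1902
theorem L1904 : sm gd N384 = N312 := ded_14_2 L1557 L1039 L1902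
theorem L1905 : sm gd N312 = N384 := flp_d L1904
theorem L1906 : sm ge N384 = N312 := ded_15_2 L1557 L1033 L1902
theorem L1907 : sm ge N312 = N384 := flp_e L1906
theorem L1908 : sm gb N198 = N385 := rfl
theorem L1909 : sm gb N385 = N198 := flp_b L1908
theorem L1910 : sm gd N198 = N386 := rfl
theorem L1912 : sm ga N386 = N199 := ded_9_1 L1043 L1040 L1910
theorem L1913 : sm ga N199 = N386 := flp_a L1912
theorem L1914 : sm ge N198 = N387 := rfl
theorem L1916 : sm ga N387 = N200 := ded_10_1 L1047 L1040 L1914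
theorem L1917 : sm ga N200 = N387 := flp_a L1916
theorem L1918 : sm gf N198 = N388 := rfl
theorem L1919 : sm gf N388 = N198 := flp_f L1918
theorem L1920 : sm ga N388 = N201 := ded_11_1 L1051 L1040 L1918
theorem L1922 : sm gg N198 = N389 := rfl
theorem L1923 : sm gg N389 = N198 := flp_g L1922
theorem L1924 : sm ga N389 = N202 := ded_12_1 L1053 L1040 L1922
theorem L1926 : sm gc N199 = N390 := rfl
theorem L1930 : sm ge N199 = N391 := rfl
theorem L1931 : sm ge N391 = N199 := flp_e L1930
theorem L1932 : sm gb N391 = N203 := ded_15_1 L1057 L1045 L1930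
theorem L1933 : sm gb N203 = N391 := flp_b L1932
theorem L1934 : sm gf N199 = N392 := rfl
theorem L1935 : sm gf N392 = N199 := flp_f L1934
theorem L1936 : sm gd N392 = N201 := ded_23_1 L1051 L1042 L1934
theorem L1937 : sm gd N201 = N392 := flp_d L1936
theorem L1938 : sm gg N199 = N393 := rfl
theorem L1939 : sm gg N393 = N199 := flp_g L1938
theorem L1942 : sm gb N393 = N352 := ded_17_1 L1733 L938 L606 L1045 L1938
theorem L1943 : sm gb N352 = N393 := flp_b L1942
theorem L1948 : sm gf N200 = N395 := rfl
theorem L1949 : sm gf N395 = N200 := flp_f L1948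
theorem L1952 : sm gg N200 = N396 := rfl
theorem L1953 : sm gg N396 = N200 := flp_g L1952
theorem L1956 : sm gb N396 = N355 := ded_17_1 L1747 L942 L616 L1049 L1952
theorem L1957 : sm gb N355 = N396 := flp_b L1956
theorem L1958 : sm gb N201 = N397 := rfl
theorem L1959 : sm gb N397 = N201 := flp_b L1958
theorem L1961 : sm gf N397 = N207 := ded_16_2 L1087 L618 L599 L1050 L1958
theorem L1962 : sm gf N207 = N397 := flp_f L1961
theorem L1967 : sm gf N202 = N399 := rfl
theorem L1971 : sm gg N399 = N388 := ded_29_3 L1920 L1051 L1052 L1967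
theorem L1972 : sm gg N388 = N399 := flp_g L1971
theorem L1973 : sm gd N203 = N400 := rfl
theorem L1975 : sm ga N400 = N226 := ded_9_1 L1189 L1059 L1973
theorem L1976 : sm ga N226 = N400 := flp_a L1975
theorem L1977 : sm gg N400 = N359 := ded_24_2 L1773 L1063 L1973
theorem L1978 : sm gg N359 = N400 := flp_g L1977
theorem L1979 : sm ge N400 = N205 := ded_22_2 L1073 L610 L601 L1056 L1973
theorem L1980 : sm ge N205 = N400 := flp_e L1979
theorem L1981 : sm gf N203 = N401 := rfl
theorem L1983 : sm ga N401 = N227 := ded_11_1 L1193 L1059 L1981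
theorem L1987 : sm ge N401 = N204 := ded_25_1 L1065 L1056 L1981
theorem L1988 : sm ge N204 = N401 := flp_e L1987
theorem L1989 : sm gb N204 = N402 := rfl
theorem L1990 : sm gb N402 = N204 := flp_b L1989
theorem L1993 : sm gc N205 = N403 := rfl
theorem L1994 : sm gc N403 = N205 := flp_c L1993
theorem L1995 : sm ga N403 = N229 := ded_8_1 L1201 L1075 L1993
theorem L1996 : sm ga N229 = N403 := flp_a L1995
theorem L1997 : sm gg N403 = N362 := ded_21_2 L1787 L1077 L1993
theorem L1998 : sm gg N362 = N403 := flp_g L1997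
theorem L1999 : sm gd N403 = N229 := ded_28_7 L1996 L1994 L1073 L613 L371 L614 L1072 L1993
theorem L2000 : sm gd N229 = N403 := flp_d L1999
theorem L2001 : sm gf N205 = N404 := rfl
theorem L2002 : sm gf N404 = N205 := flp_f L2001
theorem L2003 : sm ga N404 = N230 := ded_11_1 L1203 L1075 L2001
theorem L2005 : sm gd N404 = N206 := ded_23_1 L1079 L1072 L2001
theorem L2006 : sm gd N206 = N404 := flp_d L2005
theorem L2007 : sm gb N206 = N405 := rfl
theorem L2008 : sm gb N405 = N206 := flp_b L2007
theorem L2009 : sm ge N405 = N207 := ded_15_2 L1087 L1085 L2007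
theorem L2010 : sm ge N207 = N405 := flp_e L2009
theorem L2012 : sm ga N207 = N406 := rfl
theorem L2013 : sm ga N406 = N207 := flp_a L2012
theorem L2018 : sm ga N208 = N408 := rfl
theorem L2019 : sm ga N408 = N208 := flp_a L2018
theorem L2020 : sm gc N208 = N409 := rfl
theorem L2021 : sm gc N409 = N208 := flp_c L2020
theorem L2022 : sm gb N409 = N243 := ded_13_1 L1263 L713 L634 L1089 L2020
theorem L2024 : sm gd N208 = N410 := rfl
theorem L2025 : sm gd N410 = N208 := flp_d L2024
theorem L2026 : sm gb N410 = N209 := ded_14_1 L1092 L1089 L2024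
theorem L2028 : sm gc N223 = N410 := ded_13_0 L2026 L1096 L637 L653 L1166
theorem L2029 : sm gc N410 = N223 := flp_c L2028
theorem L2030 : N408 = N409 := coi_28_0 L2021 L2024 L2029 L1168 L687 L1169 L2028 L2025 L2018
theorem L2031 : N409 = N408 := (eqc rfl L2030 rfl).symm
theorem L2032 : sm gb N408 = N243 := trf L2031 L2022 rfl
theorem L2033 : sm gb N243 = N408 := flp_b L2032
theorem L2034 : sm gc N408 = N208 := trf L2031 L2021 rfl
theorem L2035 : sm gc N208 = N408 := flp_c L2034
theorem L2036 : sm ga N243 = N385 := ded_7_1 L1909 L1041 L600 L361 L379 L631 L1089 L2018 L2032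
theorem L2038 : sm gc N385 = N242 := ded_8_2 L1257 L1262 L2036
theorem L2039 : sm gc N242 = N385 := flp_c L2038
theorem L2040 : sm gb N260 = N342 := ded_13_3 L1691 L1908 L2038 L1260 L1348
theorem L2041 : sm gb N342 = N260 := flp_b L2040
theorem L2042 : sm ge N208 = N411 := rfl
theorem L2043 : sm ge N411 = N208 := flp_e L2042
theorem L2044 : sm gb N411 = N210 := ded_15_1 L1098 L1089 L2042
theorem L2045 : sm gb N210 = N411 := flp_b L2044
theorem L2046 : sm gf N208 = N412 := rfl
theorem L2047 : sm gf N412 = N208 := flp_f L2046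
theorem L2048 : sm gg N208 = N413 := rfl
theorem L2049 : sm gg N413 = N208 := flp_g L2048
theorem L2050 : sm ge N209 = N414 := rfl
theorem L2052 : sm ga N414 = N213 := ded_10_1 L1116 L1094 L2050
theorem L2053 : sm ga N213 = N414 := flp_a L2052
theorem L2054 : sm gc N414 = N213 := ded_19_1 L1116 L1095 L2050
theorem L2055 : sm gc N213 = N414 := flp_c L2054
theorem L2056 : sm gf N209 = N415 := rfl
theorem L2058 : sm ga N415 = N214 := ded_11_1 L1120 L1094 L2056
theorem L2062 : sm gd N415 = N211 := ded_23_1 L1104 L1091 L2056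
theorem L2063 : sm gd N211 = N415 := flp_d L2062
theorem L2064 : sm gg N209 = N416 := rfl
theorem L2065 : sm gg N416 = N209 := flp_g L2064
theorem L2066 : sm ga N416 = N215 := ded_12_1 L1124 L1094 L2064
theorem L2067 : sm ga N215 = N416 := flp_a L2066
theorem L2068 : sm gc N416 = N215 := ded_21_1 L1124 L1095 L2064
theorem L2070 : sm gd N416 = N212 := ded_24_1 L1110 L1091 L2064
theorem L2071 : sm gd N212 = N416 := flp_d L2070
theorem L2072 : sm gd N210 = N417 := rfl
theorem L2073 : sm gd N417 = N210 := flp_d L2072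
theorem L2074 : sm ga N417 = N216 := ded_9_1 L1128 L1100 L2072
theorem L2075 : sm ga N216 = N417 := flp_a L2074
theorem L2076 : sm gf N210 = N418 := rfl
theorem L2077 : sm gf N418 = N210 := flp_f L2076
theorem L2078 : sm ga N418 = N217 := ded_11_1 L1132 L1100 L2076
theorem L2079 : sm ga N217 = N418 := flp_a L2078
theorem L2080 : sm gc N418 = N248 := ded_20_1 L1283 L1102 L2076
theorem L2081 : sm gc N248 = N418 := flp_c L2080
theorem L2082 : sm ge N418 = N211 := ded_25_1 L1104 L1097 L2076
theorem L2083 : sm ge N211 = N418 := flp_e L2082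
theorem L2084 : sm gg N210 = N419 := rfl
theorem L2085 : sm gg N419 = N210 := flp_g L2084
theorem L2086 : sm ga N419 = N218 := ded_12_1 L1138 L1100 L2084
theorem L2087 : sm ga N218 = N419 := flp_a L2086
theorem L2088 : sm gc N419 = N249 := ded_21_1 L1289 L1102 L2084
theorem L2089 : sm gc N249 = N419 := flp_c L2088
theorem L2090 : sm ge N419 = N212 := ded_26_1 L1110 L1097 L2084
theorem L2091 : sm ge N212 = N419 := flp_e L2090
theorem L2092 : sm gb N211 = N420 := rfl
theorem L2093 : sm gb N420 = N211 := flp_b L2092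
theorem L2094 : sm gb N212 = N421 := rfl
theorem L2095 : sm gb N421 = N212 := flp_b L2094
theorem L2096 : sm gd N213 = N422 := rfl
theorem L2097 : sm gd N422 = N213 := flp_d L2096
theorem L2098 : sm gb N422 = N226 := ded_14_1 L1189 L1118 L2096
theorem L2099 : sm gb N226 = N422 := flp_b L2098
theorem L2100 : sm ge N422 = N216 := ded_22_2 L1128 L640 L635 L1115 L2096
theorem L2101 : sm ge N216 = N422 := flp_e L2100
theorem L2102 : sm gf N213 = N423 := rfl
theorem L2103 : sm gf N423 = N213 := flp_f L2102
theorem L2104 : sm ge N423 = N214 := ded_25_1 L1120 L1115 L2102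
theorem L2105 : sm ge N214 = N423 := flp_e L2104
theorem L2106 : sm gg N213 = N424 := rfl
theorem L2107 : sm gg N424 = N213 := flp_g L2106
theorem L2108 : sm ge N424 = N215 := ded_26_1 L1124 L1115 L2106
theorem L2109 : sm ge N215 = N424 := flp_e L2108
theorem L2110 : sm gb N214 = N425 := rfl
theorem L2111 : sm gb N425 = N214 := flp_b L2110
theorem L2112 : sm gd N425 = N219 := ded_14_2 L1144 L1122 L2110
theorem L2113 : sm gd N219 = N425 := flp_d L2112
theorem L2114 : sm gf N425 = N228 := ded_16_2 L1197 L664 L638 L1119 L2110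
theorem L2115 : sm gf N228 = N425 := flp_f L2114
theorem L2116 : sm gg N214 = N426 := rfl
theorem L2117 : sm gg N426 = N214 := flp_g L2116
theorem L2118 : sm gd N426 = N220 := ded_24_1 L1148 L1122 L2116
theorem L2119 : sm gd N220 = N426 := flp_d L2118
theorem L2120 : sm gf N416 = N426 := ded_29_0 L2117 L1120 L1123 L2067
theorem L2121 : sm gf N426 = N416 := flp_f L2120
theorem L2122 : sm gb N215 = N427 := rfl
theorem L2123 : sm gb N427 = N215 := flp_b L2122
theorem L2124 : sm gd N427 = N221 := ded_14_2 L1154 L1126 L2122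
theorem L2125 : sm gd N221 = N427 := flp_d L2124
theorem L2126 : sm gg N427 = N223 := ded_17_2 L1167 L660 L638 L1123 L2122
theorem L2127 : sm gg N223 = N427 := flp_g L2126
theorem L2128 : sm gf N215 = N428 := rfl
theorem L2129 : sm gf N428 = N215 := flp_f L2128
theorem L2130 : sm ga N428 = N426 := ded_11_1 L2121 L2066 L2128
theorem L2131 : sm ga N426 = N428 := flp_a L2130
theorem L2132 : sm gc N428 = N426 := ded_20_1 L2121 L2068 L2128
theorem L2133 : sm gc N426 = N428 := flp_c L2132
theorem L2134 : sm gd N428 = N222 := ded_23_1 L1159 L1126 L2128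
theorem L2135 : sm gd N222 = N428 := flp_d L2134
theorem L2136 : sm gg N428 = N415 := ded_29_3 L2058 L1120 L1123 L2128
theorem L2138 : sm gc N216 = N429 := rfl
theorem L2139 : sm gc N429 = N216 := flp_c L2138
theorem L2140 : sm gf N216 = N430 := rfl
theorem L2141 : sm gf N430 = N216 := flp_f L2140
theorem L2142 : sm gd N430 = N217 := ded_23_1 L1132 L1127 L2140
theorem L2143 : sm gd N217 = N430 := flp_d L2142
theorem L2144 : sm gg N216 = N431 := rfl
theorem L2145 : sm gg N431 = N216 := flp_g L2144
theorem L2146 : sm gd N431 = N218 := ded_24_1 L1138 L1127 L2144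
theorem L2147 : sm gd N218 = N431 := flp_d L2146
theorem L2148 : sm gb N217 = N432 := rfl
theorem L2149 : sm gb N432 = N217 := flp_b L2148
theorem L2150 : sm ge N432 = N219 := ded_15_2 L1144 L1136 L2148
theorem L2151 : sm ge N219 = N432 := flp_e L2150
theorem L2152 : sm gf N432 = N232 := ded_16_2 L1213 L670 L642 L1131 L2148
theorem L2153 : sm gf N232 = N432 := flp_f L2152
theorem L2154 : sm gg N217 = N433 := rfl
theorem L2155 : sm gg N433 = N217 := flp_g L2154
theorem L2156 : sm gc N433 = N255 := ded_21_1 L1320 L1134 L2154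
theorem L2157 : sm gc N255 = N433 := flp_c L2156
theorem L2158 : sm ge N433 = N220 := ded_26_1 L1148 L1136 L2154
theorem L2159 : sm ge N220 = N433 := flp_e L2158
theorem L2160 : sm gf N419 = N433 := ded_29_0 L2155 L1132 L1137 L2087
theorem L2161 : sm gf N433 = N419 := flp_f L2160
theorem L2169 : sm gf N218 = N435 := rfl
theorem L2170 : sm gf N435 = N218 := flp_f L2169
theorem L2171 : sm ga N435 = N433 := ded_11_1 L2161 L2086 L2169
theorem L2172 : sm ga N433 = N435 := flp_a L2171
theorem L2173 : sm gc N435 = N256 := ded_20_1 L1326 L1140 L2169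
theorem L2174 : sm gc N256 = N435 := flp_c L2173
theorem L2175 : sm ge N435 = N222 := ded_25_1 L1159 L1142 L2169
theorem L2176 : sm ge N222 = N435 := flp_e L2175
theorem L2177 : sm gg N435 = N418 := ded_29_3 L2078 L1132 L1137 L2169
theorem L2178 : sm gg N418 = N435 := flp_g L2177
theorem L2179 : sm ga N219 = N436 := rfl
theorem L2180 : sm ga N436 = N219 := flp_a L2179
theorem L2181 : sm gf N436 = N235 := ded_11_2 L1232 L1146 L2179
theorem L2182 : sm gf N235 = N436 := flp_f L2181
theorem L2183 : sm gg N219 = N437 := rfl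
theorem L2184 : sm gg N437 = N219 := flp_g L2183
theorem L2185 : sm gb N220 = N438 := rfl
theorem L2186 : sm gb N438 = N220 := flp_b L2185
theorem L2187 : sm ga N221 = N439 := rfl
theorem L2188 : sm ga N439 = N221 := flp_a L2187
theorem L2190 : sm gg N439 = N237 := ded_12_2 L1236 L1157 L2187
theorem L2191 : sm gg N237 = N439 := flp_g L2190
theorem L2192 : sm gf N221 = N440 := rfl
theorem L2195 : sm gb N222 = N441 := rfl
theorem L2196 : sm gb N441 = N222 := flp_b L2195
theorem L2197 : sm ga N223 = N442 := rfl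
theorem L2198 : sm ga N442 = N223 := flp_a L2197
theorem L2199 : sm gd N442 = N237 := ded_9_2 L1236 L1169 L2197
theorem L2200 : sm gd N237 = N442 := flp_d L2199
theorem L2201 : sm ge N223 = N443 := rfl
theorem L2202 : sm ge N443 = N223 := flp_e L2201
theorem L2203 : sm gb N443 = N224 := ded_15_1 L1171 L1166 L2201
theorem L2204 : sm gb N224 = N443 := flp_b L2203
theorem L2205 : sm gf N223 = N444 := rfl
theorem L2206 : sm gf N444 = N223 := flp_f L2205
theorem L2207 : sm gd N444 = N238 := ded_23_1 L1239 L1169 L2205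
theorem L2208 : sm gd N238 = N444 := flp_d L2207
theorem L2209 : sm gd N224 = N445 := rfl
theorem L2210 : sm gd N445 = N224 := flp_d L2209
theorem L2211 : sm ga N445 = N359 := ded_9_1 L1773 L1173 L2209
theorem L2212 : sm ga N359 = N445 := flp_a L2211
theorem L2213 : sm gg N445 = N226 := ded_24_2 L1189 L1177 L2209
theorem L2214 : sm gg N226 = N445 := flp_g L2213
theorem L2215 : sm ge N445 = N231 := ded_22_2 L1210 L681 L658 L1170 L2209
theorem L2216 : sm ge N231 = N445 := flp_e L2215
theorem L2217 : sm gf N224 = N446 := rfl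
theorem L2218 : sm gf N446 = N224 := flp_f L2217
theorem L2221 : sm gc N446 = N227 := ded_20_1 L1193 L1175 L2217
theorem L2222 : sm gc N227 = N446 := flp_c L2221
theorem L2223 : sm ge N446 = N225 := ded_25_1 L1179 L1170 L2217
theorem L2224 : sm ge N225 = N446 := flp_e L2223
theorem L2225 : sm gg N446 = N401 := ded_29_3 L1983 L1193 L1177 L2217
theorem L2226 : sm gg N401 = N446 := flp_g L2225
theorem L2227 : sm gb N225 = N447 := rfl
theorem L2228 : sm gb N447 = N225 := flp_b L2227
theorem L2229 : sm gd N447 = N239 := ded_14_2 L1242 L1185 L2227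
theorem L2230 : sm gd N239 = N447 := flp_d L2229
theorem L2231 : sm gc N226 = N448 := rfl
theorem L2232 : sm gc N448 = N226 := flp_c L2231
theorem L2233 : sm ge N448 = N229 := ded_19_2 L1201 L1191 L2231
theorem L2234 : sm ge N229 = N448 := flp_e L2233
theorem L2235 : sm gf N226 = N449 := rfl
theorem L2236 : sm gf N449 = N226 := flp_f L2235
theorem L2237 : sm gd N449 = N227 := ded_23_1 L1193 L1188 L2235
theorem L2238 : sm gd N227 = N449 := flp_d L2237
theorem L2239 : sm ge N449 = N230 := ded_25_1 L1203 L1191 L2235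
theorem L2240 : sm ge N230 = N449 := flp_e L2239
theorem L2241 : sm gb N227 = N450 := rfl
theorem L2242 : sm gb N450 = N227 := flp_b L2241
theorem L2243 : sm ge N450 = N228 := ded_15_2 L1197 L1195 L2241
theorem L2244 : sm ge N228 = N450 := flp_e L2243
theorem L2245 : sm ga N228 = N451 := rfl
theorem L2246 : sm ga N451 = N228 := flp_a L2245
theorem L2247 : sm gd N451 = N235 := ded_9_2 L1232 L1199 L2245
theorem L2248 : sm gd N235 = N451 := flp_d L2247
theorem L2249 : sm gc N228 = N452 := rfl
theorem L2250 : sm gc N452 = N228 := flp_c L2249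
theorem L2251 : sm gg N228 = N453 := rfl
theorem L2252 : sm gg N453 = N228 := flp_g L2251
theorem L2253 : sm gd N453 = N236 := ded_24_1 L1234 L1199 L2251
theorem L2254 : sm gd N236 = N453 := flp_d L2253
theorem L2255 : sm gb N229 = N454 := rfl
theorem L2256 : sm gb N454 = N229 := flp_b L2255
theorem L2257 : sm gf N229 = N455 := rfl
theorem L2258 : sm gf N455 = N229 := flp_f L2257
theorem L2259 : sm gc N455 = N230 := ded_20_1 L1203 L1200 L2257
theorem L2260 : sm gc N230 = N455 := flp_c L2259
theorem L2261 : sm gg N229 = N456 := rfl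
theorem L2262 : sm gg N456 = N229 := flp_g L2261
theorem L2263 : sm ga N456 = N362 := ded_12_1 L1998 L1995 L2261
theorem L2264 : sm ga N362 = N456 := flp_a L2263
theorem L2265 : sm gc N456 = N231 := ded_21_1 L1207 L1200 L2261
theorem L2266 : sm gc N231 = N456 := flp_c L2265
theorem L2267 : sm gd N456 = N362 := ded_24_1 L1998 L1999 L2261
theorem L2268 : sm gd N362 = N456 := flp_d L2267
theorem L2269 : sm gb N230 = N457 := rfl
theorem L2270 : sm gb N457 = N230 := flp_b L2269
theorem L2271 : sm gd N457 = N232 := ded_14_2 L1213 L1205 L2269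
theorem L2272 : sm gd N232 = N457 := flp_d L2271
theorem L2273 : sm gb N231 = N458 := rfl
theorem L2274 : sm gb N458 = N231 := flp_b L2273
theorem L2275 : sm gd N458 = N233 := ded_14_2 L1217 L1211 L2273
theorem L2276 : sm gd N233 = N458 := flp_d L2275
theorem L2277 : sm gf N231 = N459 := rfl
theorem L2278 : sm gf N459 = N231 := flp_f L2277
theorem L2279 : sm ga N459 = N363 := ded_11_1 L1789 L1209 L2277
theorem L2280 : sm ga N363 = N459 := flp_a L2279
theorem L2281 : sm gd N459 = N234 := ded_23_1 L1222 L1211 L2277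
theorem L2282 : sm gd N234 = N459 := flp_d L2281
theorem L2283 : sm gg N459 = N404 := ded_29_3 L2003 L1203 L1206 L2277
theorem L2284 : sm gg N404 = N459 := flp_g L2283
theorem L2285 : sm ga N232 = N460 := rfl
theorem L2286 : sm ga N460 = N232 := flp_a L2285
theorem L2287 : sm ge N460 = N235 := ded_10_2 L1232 L1215 L2285
theorem L2288 : sm ge N235 = N460 := flp_e L2287
theorem L2289 : sm gg N232 = N461 := rfl
theorem L2290 : sm gg N461 = N232 := flp_g L2289
theorem L2291 : sm ge N461 = N236 := ded_26_1 L1234 L1215 L2289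
theorem L2292 : sm ge N236 = N461 := flp_e L2291
theorem L2293 : sm ga N233 = N462 := rfl
theorem L2294 : sm ga N462 = N233 := flp_a L2293
theorem L2296 : sm ge N462 = N237 := ded_10_2 L1236 L1219 L2293
theorem L2298 : sm gf N233 = N463 := rfl
theorem L2299 : sm gf N463 = N233 := flp_f L2298
theorem L2301 : sm ge N463 = N238 := ded_25_1 L1239 L1219 L2298
theorem L2302 : sm ge N238 = N463 := flp_e L2301
theorem L2303 : sm gb N234 = N464 := rfl
theorem L2304 : sm gb N464 = N234 := flp_b L2303
theorem L2305 : sm ge N464 = N239 := ded_15_2 L1242 L1228 L2303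
theorem L2306 : sm ge N239 = N464 := flp_e L2305
theorem L2307 : sm gb N235 = N465 := rfl
theorem L2308 : sm gb N465 = N235 := flp_b L2307
theorem L2309 : sm gg N235 = N466 := rfl
theorem L2310 : sm gg N466 = N235 := flp_g L2309
theorem L2311 : sm ga N466 = N236 := ded_12_1 L1234 L1231 L2309
theorem L2313 : sm gf N466 = N437 := ded_29_2 L2184 L2179 L2181 L2309
theorem L2314 : sm gf N437 = N466 := flp_f L2313
theorem L2315 : sm gf N236 = N467 := rfl
theorem L2316 : sm gf N467 = N236 := flp_f L2315
theorem L2317 : sm ga N467 = N437 := ded_11_1 L2314 L2311 L2315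
theorem L2318 : sm ga N437 = N467 := flp_a L2317
theorem L2319 : sm gg N467 = N436 := ded_29_3 L2180 L1145 L1233 L2315
theorem L2320 : sm gg N436 = N467 := flp_g L2319
theorem L2321 : sm gb N237 = N468 := rfl
theorem L2322 : sm gb N468 = N237 := flp_b L2321
theorem L2323 : sm gf N237 = N469 := rfl
theorem L2324 : sm gf N469 = N237 := flp_f L2323
theorem L2328 : sm gg N440 = N469 := ded_29_1 L2324 L2191 L2188 L2192
theorem L2330 : sm gb N238 = N470 := rfl
theorem L2331 : sm gb N470 = N238 := flp_b L2330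
theorem L2332 : sm gf N470 = N239 := ded_16_2 L1242 L689 L685 L1238 L2330
theorem L2333 : sm gf N239 = N470 := flp_f L2332
theorem L2334 : sm gg N238 = N471 := rfl
theorem L2335 : sm gg N471 = N238 := flp_g L2334
theorem L2339 : sm gf N439 = N471 := ded_29_0 L2335 L1239 L1157 L2187
theorem L2341 : sm ga N239 = N472 := rfl
theorem L2342 : sm ga N472 = N239 := flp_a L2341
theorem L2343 : sm gc N239 = N473 := rfl
theorem L2344 : sm gc N473 = N239 := flp_c L2343
theorem L2345 : sm gb N473 = N241 := ded_13_1 L1252 L706 L693 L1241 L2343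
theorem L2346 : sm gb N241 = N473 := flp_b L2345
theorem L2347 : sm gg N239 = N474 := rfl
theorem L2348 : sm gg N474 = N239 := flp_g L2347
theorem L2351 : sm gc N240 = N475 := rfl
theorem L2352 : sm gc N475 = N240 := flp_c L2351
theorem L2353 : sm ga N475 = N475 := ded_8_1 L2352 L1250 L2351
theorem L2354 : sm ge N475 = N241 := ded_19_2 L1252 L1247 L2351
theorem L2355 : sm ge N241 = N475 := flp_e L2354
theorem L2356 : sm gf N475 = N475 := ded_20_2 L2352 L1248 L2351
theorem L2357 : sm gg N475 = N475 := ded_21_2 L2352 L1249 L2351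
theorem L2358 : sm gd N241 = N476 := rfl
theorem L2359 : sm gd N476 = N241 := flp_d L2358
theorem L2360 : sm ga N476 = N476 := ded_9_1 L2359 L1253 L2358
theorem L2361 : sm gf N476 = N476 := ded_23_2 L2359 L1254 L2358
theorem L2362 : sm gg N476 = N476 := ded_24_2 L2359 L1255 L2358
theorem L2363 : sm gc N476 = N476 := ded_28_0 L2359 L1252 L707 L423 L708 L1251 L2358 L2360
theorem L2364 : sm ge N242 = N477 := rfl
theorem L2366 : sm ga N477 = N244 := ded_10_1 L1265 L1256 L2364
theorem L2367 : sm ga N244 = N477 := flp_a L2366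
theorem L2370 : sm gf N242 = N478 := rfl
theorem L2371 : sm gf N478 = N242 := flp_f L2370
theorem L2372 : sm ga N478 = N245 := ded_11_1 L1269 L1256 L2370
theorem L2376 : sm gg N242 = N479 := rfl
theorem L2377 : sm gg N479 = N242 := flp_g L2376
theorem L2378 : sm ga N479 = N246 := ded_12_1 L1273 L1256 L2376
theorem L2379 : sm ga N246 = N479 := flp_a L2378
theorem L2384 : sm ge N243 = N481 := rfl
theorem L2385 : sm ge N481 = N243 := flp_e L2384
theorem L2386 : sm gc N481 = N244 := ded_19_1 L1265 L1262 L2384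
theorem L2388 : sm gf N243 = N482 := rfl
theorem L2389 : sm gf N482 = N243 := flp_f L2388
theorem L2390 : sm gc N482 = N245 := ded_20_1 L1269 L1262 L2388
theorem L2391 : sm gc N245 = N482 := flp_c L2390
theorem L2392 : sm gg N243 = N483 := rfl
theorem L2393 : sm gg N483 = N243 := flp_g L2392
theorem L2396 : sm gd N244 = N484 := rfl
theorem L2398 : sm gb N484 = N247 := ded_14_1 L1277 L1267 L2396
theorem L2399 : sm gb N247 = N484 := flp_b L2398
theorem L2400 : sm ge N484 = N268 := ded_22_2 L1381 L776 L715 L1264 L2396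
theorem L2401 : sm ge N268 = N484 := flp_e L2400
theorem L2402 : sm gf N244 = N485 := rfl
theorem L2403 : sm gf N485 = N244 := flp_f L2402
theorem L2404 : sm ge N485 = N245 := ded_25_1 L1269 L1264 L2402
theorem L2405 : sm ge N245 = N485 := flp_e L2404
theorem L2406 : sm gg N244 = N486 := rfl
theorem L2407 : sm gg N486 = N244 := flp_g L2406
theorem L2410 : sm gb N245 = N487 := rfl
theorem L2411 : sm gb N487 = N245 := flp_b L2410
theorem L2412 : sm gd N487 = N271 := ded_14_2 L1393 L1271 L2410
theorem L2414 : sm gf N487 = N250 := ded_16_2 L1295 L721 L712 L1268 L2410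
theorem L2415 : sm gf N250 = N487 := flp_f L2414
theorem L2416 : sm gg N245 = N488 := rfl
theorem L2417 : sm gg N488 = N245 := flp_g L2416
theorem L2420 : sm gf N479 = N488 := ded_29_0 L2417 L1269 L1272 L2379
theorem L2421 : sm gf N488 = N479 := flp_f L2420
theorem L2422 : sm gb N246 = N489 := rfl
theorem L2426 : sm gg N489 = N251 := ded_17_2 L1299 L727 L712 L1272 L2422
theorem L2427 : sm gg N251 = N489 := flp_g L2426
theorem L2428 : sm gf N246 = N490 := rfl
theorem L2432 : sm gd N490 = N274 := ded_23_1 L1405 L1275 L2428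
theorem L2433 : sm gd N274 = N490 := flp_d L2432
theorem L2436 : sm gc N247 = N491 := rfl
theorem L2437 : sm gc N491 = N247 := flp_c L2436
theorem L2438 : sm ga N491 = N252 := ded_8_1 L1303 L1279 L2436
theorem L2439 : sm ga N252 = N491 := flp_a L2438
theorem L2440 : sm ge N491 = N275 := ded_19_2 L1411 L1281 L2436
theorem L2441 : sm ge N275 = N491 := flp_e L2440
theorem L2442 : sm gf N247 = N492 := rfl
theorem L2443 : sm gf N492 = N247 := flp_f L2442
theorem L2444 : sm ga N492 = N253 := ded_11_1 L1307 L1279 L2442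
theorem L2445 : sm ga N253 = N492 := flp_a L2444
theorem L2446 : sm gd N492 = N248 := ded_23_1 L1283 L1276 L2442
theorem L2447 : sm gd N248 = N492 := flp_d L2446
theorem L2448 : sm ge N492 = N276 := ded_25_1 L1415 L1281 L2442
theorem L2449 : sm ge N276 = N492 := flp_e L2448
theorem L2450 : sm gg N247 = N493 := rfl
theorem L2451 : sm gg N493 = N247 := flp_g L2450
theorem L2452 : sm ga N493 = N254 := ded_12_1 L1313 L1279 L2450
theorem L2453 : sm ga N254 = N493 := flp_a L2452
theorem L2454 : sm gd N493 = N249 := ded_24_1 L1289 L1276 L2450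
theorem L2455 : sm gd N249 = N493 := flp_d L2454
theorem L2456 : sm ge N493 = N277 := ded_26_1 L1421 L1281 L2450
theorem L2457 : sm ge N277 = N493 := flp_e L2456
theorem L2458 : sm gb N248 = N494 := rfl
theorem L2459 : sm gb N494 = N248 := flp_b L2458
theorem L2460 : sm ge N494 = N250 := ded_15_2 L1295 L1287 L2458
theorem L2461 : sm ge N250 = N494 := flp_e L2460
theorem L2462 : sm gb N249 = N495 := rfl
theorem L2463 : sm gb N495 = N249 := flp_b L2462
theorem L2464 : sm ge N495 = N251 := ded_15_2 L1299 L1293 L2462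
theorem L2465 : sm ge N251 = N495 := flp_e L2464
theorem L2466 : sm ga N250 = N496 := rfl
theorem L2467 : sm ga N496 = N250 := flp_a L2466
theorem L2468 : sm gd N496 = N280 := ded_9_2 L1435 L1297 L2466
theorem L2469 : sm gd N280 = N496 := flp_d L2468
theorem L2470 : sm gc N250 = N497 := rfl
theorem L2471 : sm gc N497 = N250 := flp_c L2470
theorem L2472 : sm gf N496 = N497 := ded_30_0 L2471 L1295 L722 L436 L382 L380 L362 L617 L621 L378 L374 L255 L247 L379 L631 L1103 L1107 L1294 L2466
theorem L2473 : sm gf N497 = N496 := flp_f L2472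
theorem L2474 : sm gc N487 = N496 := ded_20_3 L2472 L2471 L2415
theorem L2475 : sm gc N496 = N487 := flp_c L2474
theorem L2476 : sm ga N497 = N487 := ded_11_1 L2414 L2466 L2472
theorem L2477 : sm ga N487 = N497 := flp_a L2476
theorem L2478 : sm gg N250 = N498 := rfl
theorem L2479 : sm gg N498 = N250 := flp_g L2478
theorem L2480 : sm gd N498 = N282 := ded_24_1 L1440 L1297 L2478
theorem L2481 : sm gd N282 = N498 := flp_d L2480
theorem L2482 : sm ga N251 = N499 := rfl
theorem L2483 : sm ga N499 = N251 := flp_a L2482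
theorem L2484 : sm gd N499 = N283 := ded_9_2 L1442 L1301 L2482
theorem L2486 : sm gc N251 = N500 := rfl
theorem L2487 : sm gc N500 = N251 := flp_c L2486
theorem L2488 : sm gf N251 = N501 := rfl
theorem L2489 : sm gf N501 = N251 := flp_f L2488
theorem L2490 : sm gd N501 = N285 := ded_23_1 L1447 L1301 L2488
theorem L2492 : sm gb N252 = N502 := rfl
theorem L2493 : sm gb N502 = N252 := flp_b L2492
theorem L2494 : sm ge N502 = N286 := ded_15_2 L1449 L1305 L2492
theorem L2495 : sm ge N286 = N502 := flp_e L2494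
theorem L2496 : sm gc N502 = N259 := ded_13_2 L1343 L762 L735 L1302 L2492
theorem L2497 : sm gc N259 = N502 := flp_c L2496
theorem L2498 : sm gd N252 = N503 := rfl
theorem L2499 : sm gd N503 = N252 := flp_d L2498
theorem L2500 : sm gf N252 = N504 := rfl
theorem L2501 : sm gf N504 = N252 := flp_f L2500
theorem L2502 : sm gc N504 = N253 := ded_20_1 L1307 L1302 L2500
theorem L2503 : sm gc N253 = N504 := flp_c L2502
theorem L2504 : sm ge N504 = N288 := ded_25_1 L1455 L1305 L2500
theorem L2505 : sm ge N288 = N504 := flp_e L2504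
theorem L2506 : sm gg N252 = N505 := rfl
theorem L2507 : sm gg N505 = N252 := flp_g L2506
theorem L2508 : sm gc N505 = N254 := ded_21_1 L1313 L1302 L2506
theorem L2509 : sm gc N254 = N505 := flp_c L2508
theorem L2510 : sm ge N505 = N289 := ded_26_1 L1459 L1305 L2506
theorem L2511 : sm ge N289 = N505 := flp_e L2510
theorem L2512 : sm gg N253 = N506 := rfl
theorem L2513 : sm gg N506 = N253 := flp_g L2512
theorem L2514 : sm gd N506 = N255 := ded_24_1 L1320 L1309 L2512
theorem L2515 : sm gd N255 = N506 := flp_d L2514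
theorem L2516 : sm ge N506 = N291 := ded_26_1 L1469 L1311 L2512
theorem L2517 : sm ge N291 = N506 := flp_e L2516
theorem L2518 : sm gf N493 = N506 := ded_29_0 L2513 L1307 L1312 L2453
theorem L2519 : sm gf N506 = N493 := flp_f L2518
theorem L2520 : sm gf N254 = N507 := rfl
theorem L2521 : sm gf N507 = N254 := flp_f L2520
theorem L2522 : sm ga N507 = N506 := ded_11_1 L2519 L2452 L2520
theorem L2523 : sm ga N506 = N507 := flp_a L2522
theorem L2524 : sm gd N507 = N256 := ded_23_1 L1326 L1315 L2520
theorem L2525 : sm gd N256 = N507 := flp_d L2524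
theorem L2526 : sm ge N507 = N292 := ded_25_1 L1475 L1317 L2520
theorem L2527 : sm ge N292 = N507 := flp_e L2526
theorem L2528 : sm gg N507 = N492 := ded_29_3 L2444 L1307 L1312 L2520
theorem L2529 : sm gg N492 = N507 := flp_g L2528
theorem L2530 : sm gb N255 = N508 := rfl
theorem L2531 : sm gb N508 = N255 := flp_b L2530
theorem L2532 : sm ge N508 = N257 := ded_15_2 L1334 L1322 L2530
theorem L2533 : sm ge N257 = N508 := flp_e L2532
theorem L2534 : sm gb N256 = N509 := rfl
theorem L2535 : sm gb N509 = N256 := flp_b L2534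
theorem L2536 : sm ge N509 = N258 := ded_15_2 L1338 L1330 L2534
theorem L2537 : sm ge N258 = N509 := flp_e L2536
theorem L2538 : sm gf N509 = N509 := ded_16_2 L2535 L1326 L746 L1325 L2534
theorem L2539 : sm ga N257 = N510 := rfl
theorem L2540 : sm ga N510 = N257 := flp_a L2539
theorem L2541 : sm gd N510 = N303 := ded_9_2 L1530 L1336 L2539
theorem L2542 : sm gd N303 = N510 := flp_d L2541
theorem L2543 : sm gc N257 = N511 := rfl
theorem L2544 : sm gc N511 = N257 := flp_c L2543
theorem L2545 : sm gf N257 = N512 := rfl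
theorem L2546 : sm gf N512 = N257 := flp_f L2545
theorem L2547 : sm gd N512 = N305 := ded_23_1 L1535 L1336 L2545
theorem L2549 : sm gb N512 = N501 := ded_16_1 L2489 L1299 L751 L1333 L2545
theorem L2550 : sm gb N501 = N512 := flp_b L2549
theorem L2551 : sm ga N258 = N513 := rfl
theorem L2552 : sm ga N513 = N258 := flp_a L2551
theorem L2553 : sm gd N513 = N306 := ded_9_2 L1539 L1340 L2551
theorem L2554 : sm gd N306 = N513 := flp_d L2553
theorem L2555 : sm gf N513 = N513 := ded_11_2 L2552 L1341 L2551
theorem L2556 : sm gc N258 = N514 := rfl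
theorem L2557 : sm gc N514 = N258 := flp_c L2556
theorem L2558 : sm gf N514 = N514 := ded_20_2 L2557 L1341 L2556
theorem L2559 : sm gg N258 = N515 := rfl
theorem L2560 : sm gg N515 = N258 := flp_g L2559
theorem L2561 : sm gd N515 = N308 := ded_24_1 L1546 L1340 L2559
theorem L2562 : sm gd N308 = N515 := flp_d L2561
theorem L2563 : sm gb N515 = N498 := ded_17_1 L2479 L1295 L760 L1337 L2559
theorem L2564 : sm gb N498 = N515 := flp_b L2563
theorem L2565 : sm ga N259 = N516 := rfl
theorem L2566 : sm ga N516 = N259 := flp_a L2565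
theorem L2567 : sm gd N516 = N309 := ded_9_2 L1550 L1345 L2565
theorem L2568 : sm gd N309 = N516 := flp_d L2567
theorem L2569 : sm ge N516 = N309 := ded_10_2 L1550 L1347 L2565
theorem L2570 : sm ge N309 = N516 := flp_e L2569
theorem L2571 : sm gf N259 = N517 := rfl
theorem L2572 : sm gf N517 = N259 := flp_f L2571
theorem L2573 : sm gd N517 = N310 := ded_23_1 L1552 L1345 L2571
theorem L2574 : sm gd N310 = N517 := flp_d L2573
theorem L2575 : sm ge N517 = N310 := ded_25_1 L1552 L1347 L2571
theorem L2576 : sm ge N310 = N517 := flp_e L2575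
theorem L2577 : sm gg N259 = N518 := rfl
theorem L2578 : sm gg N518 = N259 := flp_g L2577
theorem L2579 : sm gd N518 = N311 := ded_24_1 L1554 L1345 L2577
theorem L2580 : sm gd N311 = N518 := flp_d L2579
theorem L2581 : sm ge N518 = N311 := ded_26_1 L1554 L1347 L2577
theorem L2582 : sm ge N311 = N518 := flp_e L2581
theorem L2583 : sm gb N518 = N518 := ded_17_1 L2578 L1343 L767 L1342 L2577
theorem L2584 : sm gd N260 = N519 := rfl
theorem L2586 : sm ga N519 = N264 := ded_9_1 L1365 L1351 L2584
theorem L2587 : sm ga N264 = N519 := flp_a L2586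
theorem L2588 : sm ge N260 = N520 := rfl
theorem L2590 : sm ga N520 = N265 := ded_10_1 L1368 L1351 L2588
theorem L2591 : sm ga N265 = N520 := flp_a L2590
theorem L2594 : sm gf N260 = N521 := rfl
theorem L2595 : sm gf N521 = N260 := flp_f L2594
theorem L2598 : sm gc N521 = N262 := ded_20_1 L1357 L1348 L2594
theorem L2600 : sm gg N260 = N522 := rfl
theorem L2602 : sm ga N522 = N267 := ded_12_1 L1377 L1351 L2600
theorem L2604 : sm gc N522 = N263 := ded_21_1 L1361 L1348 L2600
theorem L2605 : sm gc N263 = N522 := flp_c L2604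
theorem L2606 : sm gd N261 = N523 := rfl
theorem L2608 : sm ga N523 = N268 := ded_9_1 L1381 L1355 L2606
theorem L2609 : sm ga N268 = N523 := flp_a L2608
theorem L2616 : sm gg N261 = N525 := rfl
theorem L2617 : sm gg N525 = N261 := flp_g L2616
theorem L2618 : sm ga N525 = N270 := ded_12_1 L1389 L1355 L2616
theorem L2619 : sm ga N270 = N525 := flp_a L2618
theorem L2620 : sm ge N525 = N263 := ded_26_1 L1361 L1352 L2616
theorem L2621 : sm ge N263 = N525 := flp_e L2620
theorem L2622 : sm gb N262 = N526 := rfl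
theorem L2623 : sm gb N526 = N262 := flp_b L2622
theorem L2624 : sm gb N263 = N527 := rfl
theorem L2625 : sm gb N527 = N263 := flp_b L2624
theorem L2628 : sm ge N264 = N529 := rfl
theorem L2631 : sm gf N264 = N530 := rfl
theorem L2632 : sm gf N530 = N264 := flp_f L2631
theorem L2635 : sm gg N264 = N531 := rfl
theorem L2636 : sm gg N531 = N264 := flp_g L2635
theorem L2639 : sm gd N265 = N532 := rfl
theorem L2640 : sm gd N532 = N265 := flp_d L2639
theorem L2642 : sm gf N265 = N533 := rfl
theorem L2643 : sm gf N533 = N265 := flp_f L2642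
theorem L2648 : sm gg N265 = N534 := rfl
theorem L2649 : sm gg N534 = N265 := flp_g L2648
theorem L2663 : sm gb N267 = N537 := rfl
theorem L2666 : sm gf N267 = N538 := rfl
theorem L2667 : sm gf N538 = N267 := flp_f L2666
theorem L2670 : sm gc N538 = N274 := ded_20_1 L1405 L1379 L2666
theorem L2671 : sm gc N274 = N538 := flp_c L2670
theorem L2674 : sm gc N268 = N539 := rfl
theorem L2675 : sm gc N539 = N268 := flp_c L2674
theorem L2676 : sm gf N268 = N540 := rfl
theorem L2677 : sm gf N540 = N268 := flp_f L2676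
theorem L2680 : sm gg N268 = N541 := rfl
theorem L2681 : sm gg N541 = N268 := flp_g L2680
theorem L2684 : sm gb N269 = N542 := rfl
theorem L2686 : sm ge N542 = N271 := ded_15_2 L1393 L1387 L2684
theorem L2687 : sm ge N271 = N542 := flp_e L2686
theorem L2688 : sm gf N542 = N278 := ded_16_2 L1427 L788 L778 L1384 L2684
theorem L2689 : sm gf N278 = N542 := flp_f L2688
theorem L2696 : sm gb N270 = N544 := rfl
theorem L2697 : sm gb N544 = N270 := flp_b L2696
theorem L2698 : sm ge N544 = N273 := ded_15_2 L1401 L1391 L2696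
theorem L2699 : sm ge N273 = N544 := flp_e L2698
theorem L2700 : sm gg N544 = N279 := ded_17_2 L1431 L795 L778 L1388 L2696
theorem L2701 : sm gg N279 = N544 := flp_g L2700
theorem L2710 : sm ga N271 = N546 := rfl
theorem L2711 : sm ga N546 = N271 := flp_a L2710
theorem L2712 : sm gd N546 = N497 := ded_9_2 L2476 L2412 L2710
theorem L2713 : sm gd N497 = N546 := flp_d L2712
theorem L2714 : sm gf N546 = N280 := ded_11_2 L1435 L1395 L2710
theorem L2715 : sm gf N280 = N546 := flp_f L2714
theorem L2716 : sm gc N271 = N547 := rfl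
theorem L2717 : sm gc N547 = N271 := flp_c L2716
theorem L2718 : sm gf N547 = N281 := ded_20_2 L1437 L1395 L2716
theorem L2719 : sm gf N281 = N547 := flp_f L2718
theorem L2722 : sm gb N272 = N549 := rfl
theorem L2723 : sm gb N549 = N272 := flp_b L2722
theorem L2724 : sm ga N273 = N550 := rfl
theorem L2725 : sm ga N550 = N273 := flp_a L2724
theorem L2726 : sm gg N550 = N283 := ded_12_2 L1442 L1403 L2724
theorem L2727 : sm gg N283 = N550 := flp_g L2726
theorem L2728 : sm gc N273 = N551 := rfl
theorem L2729 : sm gc N551 = N273 := flp_c L2728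
theorem L2730 : sm gg N551 = N284 := ded_21_2 L1444 L1403 L2728
theorem L2731 : sm gg N284 = N551 := flp_g L2730
theorem L2732 : sm gf N273 = N552 := rfl
theorem L2734 : sm gb N274 = N553 := rfl
theorem L2735 : sm gb N553 = N274 := flp_b L2734
theorem L2736 : sm gb N275 = N554 := rfl
theorem L2737 : sm gb N554 = N275 := flp_b L2736
theorem L2738 : sm gd N275 = N555 := rfl
theorem L2739 : sm gd N555 = N275 := flp_d L2738
theorem L2740 : sm ga N555 = N287 := ded_9_1 L1453 L1413 L2738
theorem L2741 : sm ga N287 = N555 := flp_a L2740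
theorem L2742 : sm gc N287 = N555 := ded_28_0 L2739 L1411 L784 L457 L783 L1410 L2738 L2740
theorem L2743 : sm gc N555 = N287 := flp_c L2742
theorem L2744 : sm gf N275 = N556 := rfl
theorem L2745 : sm gf N556 = N275 := flp_f L2744
theorem L2746 : sm ga N556 = N288 := ded_11_1 L1455 L1413 L2744
theorem L2747 : sm ga N288 = N556 := flp_a L2746
theorem L2748 : sm gc N556 = N276 := ded_20_1 L1415 L1410 L2744
theorem L2749 : sm gc N276 = N556 := flp_c L2748
theorem L2750 : sm gg N275 = N557 := rfl
theorem L2751 : sm gg N557 = N275 := flp_g L2750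
theorem L2752 : sm ga N557 = N289 := ded_12_1 L1459 L1413 L2750
theorem L2753 : sm ga N289 = N557 := flp_a L2752
theorem L2754 : sm gc N557 = N277 := ded_21_1 L1421 L1410 L2750
theorem L2755 : sm gc N277 = N557 := flp_c L2754
theorem L2756 : sm gb N276 = N558 := rfl
theorem L2757 : sm gb N558 = N276 := flp_b L2756
theorem L2758 : sm gd N558 = N278 := ded_14_2 L1427 L1419 L2756
theorem L2759 : sm gd N278 = N558 := flp_d L2758
theorem L2760 : sm gb N277 = N559 := rfl
theorem L2761 : sm gb N559 = N277 := flp_b L2760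
theorem L2762 : sm gd N559 = N279 := ded_14_2 L1431 L1425 L2760
theorem L2763 : sm gd N279 = N559 := flp_d L2762
theorem L2764 : sm ga N278 = N560 := rfl
theorem L2765 : sm ga N560 = N278 := flp_a L2764
theorem L2766 : sm ge N560 = N280 := ded_10_2 L1435 L1429 L2764
theorem L2767 : sm ge N280 = N560 := flp_e L2766
theorem L2768 : sm gc N278 = N561 := rfl
theorem L2769 : sm gc N561 = N278 := flp_c L2768
theorem L2770 : sm ge N561 = N281 := ded_19_2 L1437 L1429 L2768
theorem L2771 : sm ge N281 = N561 := flp_e L2770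
theorem L2772 : sm gb N561 = N561 := ded_13_1 L2769 L1427 L791 L1426 L2768
theorem L2773 : sm gg N278 = N562 := rfl
theorem L2774 : sm gg N562 = N278 := flp_g L2773
theorem L2775 : sm ge N562 = N282 := ded_26_1 L1440 L1429 L2773
theorem L2776 : sm ge N282 = N562 := flp_e L2775
theorem L2777 : sm ga N279 = N563 := rfl
theorem L2778 : sm ga N563 = N279 := flp_a L2777
theorem L2779 : sm ge N563 = N283 := ded_10_2 L1442 L1433 L2777
theorem L2780 : sm ge N283 = N563 := flp_e L2779
theorem L2781 : sm gc N279 = N564 := rfl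
theorem L2783 : sm ge N564 = N284 := ded_19_2 L1444 L1433 L2781
theorem L2784 : sm ge N284 = N564 := flp_e L2783
theorem L2786 : sm gf N279 = N565 := rfl
theorem L2787 : sm gf N565 = N279 := flp_f L2786
theorem L2788 : sm ge N565 = N285 := ded_25_1 L1447 L1433 L2786
theorem L2789 : sm ge N285 = N565 := flp_e L2788
theorem L2790 : sm gb N280 = N566 := rfl
theorem L2791 : sm gb N566 = N280 := flp_b L2790
theorem L2792 : sm gc N280 = N567 := rfl
theorem L2793 : sm gc N567 = N280 := flp_c L2792
theorem L2794 : sm ga N567 = N281 := ded_8_1 L1437 L1434 L2792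
theorem L2795 : sm ga N281 = N567 := flp_a L2794
theorem L2796 : sm gg N280 = N568 := rfl
theorem L2797 : sm gg N568 = N280 := flp_g L2796
theorem L2798 : sm ga N568 = N282 := ded_12_1 L1440 L1434 L2796
theorem L2802 : sm gd N281 = N569 := rfl
theorem L2803 : sm gd N569 = N281 := flp_d L2802
theorem L2804 : sm gb N569 = N569 := ded_14_1 L2803 L1438 L2802
theorem L2805 : sm gg N281 = N570 := rfl
theorem L2806 : sm gg N570 = N281 := flp_g L2805
theorem L2807 : sm gc N570 = N282 := ded_21_1 L1440 L1436 L2805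
theorem L2808 : sm gc N282 = N570 := flp_c L2807
theorem L2809 : sm gf N282 = N571 := rfl
theorem L2810 : sm gf N571 = N282 := flp_f L2809
theorem L2813 : sm gg N571 = N546 := ded_29_3 L2711 L1394 L1439 L2809
theorem L2814 : sm gg N546 = N571 := flp_g L2813
theorem L2815 : sm gb N283 = N572 := rfl
theorem L2818 : sm gc N283 = N573 := rfl
theorem L2819 : sm gc N573 = N283 := flp_c L2818
theorem L2820 : sm ga N573 = N284 := ded_8_1 L1444 L1441 L2818
theorem L2821 : sm ga N284 = N573 := flp_a L2820
theorem L2822 : sm gf N283 = N574 := rfl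
theorem L2823 : sm gf N574 = N283 := flp_f L2822
theorem L2824 : sm ga N574 = N285 := ded_11_1 L1447 L1441 L2822
theorem L2825 : sm ga N285 = N574 := flp_a L2824
theorem L2826 : sm gg N552 = N574 := ded_29_1 L2823 L2727 L2725 L2732
theorem L2828 : sm gd N284 = N575 := rfl
theorem L2829 : sm gd N575 = N284 := flp_d L2828
theorem L2830 : sm gb N575 = N575 := ded_14_1 L2829 L1445 L2828
theorem L2831 : sm gf N284 = N576 := rfl
theorem L2832 : sm gf N576 = N284 := flp_f L2831
theorem L2833 : sm gc N576 = N285 := ded_20_1 L1447 L1443 L2831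
theorem L2834 : sm gc N285 = N576 := flp_c L2833
theorem L2835 : sm gg N285 = N577 := rfl
theorem L2836 : sm gg N577 = N285 := flp_g L2835
theorem L2837 : sm ga N577 = N552 := ded_12_1 L2826 L2824 L2835
theorem L2839 : sm gf N550 = N577 := ded_29_0 L2836 L1447 L1403 L2724
theorem L2840 : sm gf N577 = N550 := flp_f L2839
theorem L2841 : sm ga N286 = N578 := rfl
theorem L2842 : sm ga N578 = N286 := flp_a L2841
theorem L2843 : sm gc N578 = N309 := ded_8_2 L1550 L1451 L2841
theorem L2844 : sm gc N309 = N578 := flp_c L2843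
theorem L2845 : sm gd N286 = N579 := rfl
theorem L2846 : sm gd N579 = N286 := flp_d L2845
theorem L2847 : sm gb N579 = N287 := ded_14_1 L1453 L1448 L2845
theorem L2848 : sm gb N287 = N579 := flp_b L2847
theorem L2849 : sm gf N286 = N580 := rfl
theorem L2850 : sm gf N580 = N286 := flp_f L2849
theorem L2851 : sm gc N580 = N310 := ded_20_1 L1552 L1451 L2849
theorem L2852 : sm gc N310 = N580 := flp_c L2851
theorem L2853 : sm gg N286 = N581 := rfl
theorem L2854 : sm gg N581 = N286 := flp_g L2853
theorem L2855 : sm gc N581 = N311 := ded_21_1 L1554 L1451 L2853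
theorem L2856 : sm gc N311 = N581 := flp_c L2855
theorem L2857 : sm ge N287 = N582 := rfl
theorem L2858 : sm ge N582 = N287 := flp_e L2857
theorem L2859 : sm gf N287 = N583 := rfl
theorem L2860 : sm gf N583 = N287 := flp_f L2859
theorem L2861 : sm gd N583 = N288 := ded_23_1 L1455 L1452 L2859
theorem L2862 : sm gd N288 = N583 := flp_d L2861
theorem L2863 : sm gg N287 = N584 := rfl
theorem L2864 : sm gg N584 = N287 := flp_g L2863
theorem L2865 : sm gd N584 = N289 := ded_24_1 L1459 L1452 L2863
theorem L2866 : sm gd N289 = N584 := flp_d L2865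
theorem L2867 : sm gb N288 = N585 := rfl
theorem L2868 : sm gb N585 = N288 := flp_b L2867
theorem L2869 : sm gg N288 = N586 := rfl
theorem L2870 : sm gg N586 = N288 := flp_g L2869
theorem L2871 : sm gc N586 = N291 := ded_21_1 L1469 L1457 L2869
theorem L2872 : sm gc N291 = N586 := flp_c L2871
theorem L2873 : sm gf N557 = N586 := ded_29_0 L2870 L1455 L1458 L2753
theorem L2874 : sm gf N586 = N557 := flp_f L2873
theorem L2875 : sm gb N289 = N587 := rfl
theorem L2876 : sm gb N587 = N289 := flp_b L2875
theorem L2877 : sm gc N587 = N587 := ded_13_2 L2876 L1460 L815 L1461 L2875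
theorem L2878 : sm gf N289 = N588 := rfl
theorem L2879 : sm gf N588 = N289 := flp_f L2878
theorem L2880 : sm ga N588 = N586 := ded_11_1 L2874 L2752 L2878
theorem L2881 : sm ga N586 = N588 := flp_a L2880
theorem L2882 : sm gc N588 = N292 := ded_20_1 L1475 L1461 L2878
theorem L2883 : sm gc N292 = N588 := flp_c L2882
theorem L2884 : sm gg N588 = N556 := ded_29_3 L2746 L1455 L1458 L2878
theorem L2885 : sm gg N556 = N588 := flp_g L2884
theorem L2886 : sm ga N290 = N589 := rfl
theorem L2887 : sm ga N589 = N290 := flp_a L2886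
theorem L2888 : sm gd N589 = N293 := ded_9_2 L1483 L1465 L2886
theorem L2889 : sm gd N293 = N589 := flp_d L2888
theorem L2890 : sm gf N589 = N313 := ded_11_2 L1559 L1467 L2886
theorem L2891 : sm gf N313 = N589 := flp_f L2890
theorem L2892 : sm gc N290 = N590 := rfl
theorem L2893 : sm gc N590 = N290 := flp_c L2892
theorem L2894 : sm gf N590 = N314 := ded_20_2 L1563 L1467 L2892
theorem L2895 : sm gf N314 = N590 := flp_f L2894
theorem L2896 : sm gg N290 = N591 := rfl
theorem L2897 : sm gg N591 = N290 := flp_g L2896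
theorem L2900 : sm gb N291 = N592 := rfl
theorem L2901 : sm gb N592 = N291 := flp_b L2900
theorem L2902 : sm gd N592 = N296 := ded_14_2 L1500 L1471 L2900
theorem L2903 : sm gd N296 = N592 := flp_d L2902
theorem L2904 : sm gb N292 = N593 := rfl
theorem L2905 : sm gb N593 = N292 := flp_b L2904
theorem L2906 : sm gd N593 = N297 := ded_14_2 L1504 L1479 L2904
theorem L2907 : sm gd N297 = N593 := flp_d L2906
theorem L2908 : sm gf N593 = N593 := ded_16_2 L2905 L1475 L815 L1474 L2904
theorem L2909 : sm gb N293 = N594 := rfl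
theorem L2910 : sm gb N594 = N293 := flp_b L2909
theorem L2911 : sm ge N594 = N298 := ded_15_2 L1509 L1485 L2909
theorem L2912 : sm ge N298 = N594 := flp_e L2911
theorem L2932 : sm gb N295 = N598 := rfl
theorem L2933 : sm gb N598 = N295 := flp_b L2932
theorem L2934 : sm ge N598 = N302 := ded_15_2 L1526 L1498 L2932
theorem L2935 : sm ge N302 = N598 := flp_e L2934
theorem L2936 : sm gg N598 = N296 := ded_17_2 L1500 L823 L816 L1495 L2932
theorem L2937 : sm gg N296 = N598 := flp_g L2936
theorem L2938 : sm ga N296 = N599 := rfl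
theorem L2939 : sm ga N599 = N296 := flp_a L2938
theorem L2940 : sm ge N599 = N303 := ded_10_2 L1530 L1502 L2938
theorem L2941 : sm ge N303 = N599 := flp_e L2940
theorem L2942 : sm gc N296 = N600 := rfl
theorem L2943 : sm gc N600 = N296 := flp_c L2942
theorem L2944 : sm ge N600 = N304 := ded_19_2 L1532 L1502 L2942
theorem L2945 : sm ge N304 = N600 := flp_e L2944
theorem L2946 : sm gb N600 = N600 := ded_13_1 L2943 L1500 L824 L1499 L2942
theorem L2947 : sm gf N296 = N601 := rfl
theorem L2948 : sm gf N601 = N296 := flp_f L2947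
theorem L2949 : sm ge N601 = N305 := ded_25_1 L1535 L1502 L2947
theorem L2950 : sm ge N305 = N601 := flp_e L2949
theorem L2951 : sm gb N601 = N565 := ded_16_1 L2787 L1431 L827 L1499 L2947
theorem L2953 : sm ga N297 = N602 := rfl
theorem L2954 : sm ga N602 = N297 := flp_a L2953
theorem L2955 : sm ge N602 = N306 := ded_10_2 L1539 L1506 L2953
theorem L2956 : sm ge N306 = N602 := flp_e L2955
theorem L2958 : sm gc N297 = N603 := rfl
theorem L2959 : sm gc N603 = N297 := flp_c L2958
theorem L2960 : sm ge N603 = N307 := ded_19_2 L1542 L1506 L2958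
theorem L2961 : sm ge N307 = N603 := flp_e L2960
theorem L2962 : sm gf N603 = N603 := ded_20_2 L2959 L1507 L2958
theorem L2963 : sm gb N603 = N603 := ded_13_1 L2959 L1504 L833 L1503 L2958
theorem L2964 : sm gg N297 = N604 := rfl
theorem L2965 : sm gg N604 = N297 := flp_g L2964
theorem L2966 : sm ge N604 = N308 := ded_26_1 L1546 L1506 L2964
theorem L2967 : sm ge N308 = N604 := flp_e L2966
theorem L2968 : sm gb N604 = N562 := ded_17_1 L2774 L1427 L837 L1503 L2964
theorem L2969 : sm gb N562 = N604 := flp_b L2968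
theorem L2970 : sm ga N298 = N605 := rfl
theorem L2971 : sm ga N605 = N298 := flp_a L2970
theorem L2972 : sm gc N298 = N606 := rfl
theorem L2973 : sm gc N606 = N298 := flp_c L2972
theorem L2974 : sm gf N298 = N607 := rfl
theorem L2975 : sm gf N607 = N298 := flp_f L2974
theorem L2976 : sm gb N607 = N324 := ded_16_1 L1609 L879 L841 L1508 L2974
theorem L2977 : sm gb N324 = N607 := flp_b L2976
theorem L2978 : sm gg N298 = N608 := rfl
theorem L2979 : sm gg N608 = N298 := flp_g L2978
theorem L2982 : sm gd N299 = N610 := rfl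
theorem L2983 : sm gd N610 = N299 := flp_d L2982
theorem L2984 : sm ga N610 = N300 := ded_9_1 L1517 L1513 L2982
theorem L2985 : sm ga N300 = N610 := flp_a L2984
theorem L2986 : sm gf N610 = N327 := ded_23_2 L1615 L1515 L2982
theorem L2987 : sm gf N327 = N610 := flp_f L2986
theorem L2988 : sm gc N300 = N611 := rfl
theorem L2989 : sm gc N611 = N300 := flp_c L2988
theorem L2990 : sm gf N611 = N330 := ded_20_2 L1629 L1520 L2988
theorem L2991 : sm gf N330 = N611 := flp_f L2990
theorem L2992 : sm ge N300 = N612 := rfl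
theorem L2993 : sm ge N612 = N300 := flp_e L2992
theorem L3001 : sm gb N301 = N614 := rfl
theorem L3002 : sm gb N614 = N301 := flp_b L3001
theorem L3004 : sm ga N302 = N615 := rfl
theorem L3005 : sm ga N615 = N302 := flp_a L3004
theorem L3006 : sm gg N615 = N303 := ded_12_2 L1530 L1528 L3004
theorem L3007 : sm gg N303 = N615 := flp_g L3006
theorem L3008 : sm gc N302 = N616 := rfl
theorem L3009 : sm gc N616 = N302 := flp_c L3008
theorem L3010 : sm gg N616 = N304 := ded_21_2 L1532 L1528 L3008
theorem L3011 : sm gg N304 = N616 := flp_g L3010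
theorem L3012 : sm gf N302 = N617 := rfl
theorem L3013 : sm gf N617 = N302 := flp_f L3012
theorem L3014 : sm gb N303 = N618 := rfl
theorem L3015 : sm gb N618 = N303 := flp_b L3014
theorem L3016 : sm gc N303 = N619 := rfl
theorem L3017 : sm gc N619 = N303 := flp_c L3016
theorem L3018 : sm ga N619 = N304 := ded_8_1 L1532 L1529 L3016
theorem L3019 : sm ga N304 = N619 := flp_a L3018
theorem L3020 : sm gf N303 = N620 := rfl
theorem L3021 : sm gf N620 = N303 := flp_f L3020
theorem L3022 : sm ga N620 = N305 := ded_11_1 L1535 L1529 L3020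
theorem L3024 : sm gg N617 = N620 := ded_29_1 L3021 L3007 L3005 L3012
theorem L3025 : sm gg N620 = N617 := flp_g L3024
theorem L3026 : sm gd N304 = N621 := rfl
theorem L3027 : sm gd N621 = N304 := flp_d L3026
theorem L3028 : sm gb N621 = N621 := ded_14_1 L3027 L1533 L3026
theorem L3029 : sm gf N304 = N622 := rfl
theorem L3030 : sm gf N622 = N304 := flp_f L3029
theorem L3031 : sm gc N622 = N305 := ded_20_1 L1535 L1531 L3029
theorem L3032 : sm gc N305 = N622 := flp_c L3031
theorem L3033 : sm gg N305 = N623 := rfl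
theorem L3034 : sm gg N623 = N305 := flp_g L3033
theorem L3037 : sm gf N615 = N623 := ded_29_0 L3034 L1535 L1528 L3004
theorem L3039 : sm gb N306 = N624 := rfl
theorem L3040 : sm gb N624 = N306 := flp_b L3039
theorem L3041 : sm gc N306 = N625 := rfl
theorem L3042 : sm gc N625 = N306 := flp_c L3041
theorem L3043 : sm ga N625 = N307 := ded_8_1 L1542 L1538 L3041
theorem L3044 : sm ga N307 = N625 := flp_a L3043
theorem L3045 : sm gf N625 = N625 := ded_20_2 L3042 L1540 L3041
theorem L3046 : sm gg N306 = N626 := rfl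
theorem L3047 : sm gg N626 = N306 := flp_g L3046
theorem L3048 : sm ga N626 = N308 := ded_12_1 L1546 L1538 L3046
theorem L3050 : sm gf N308 = N626 := ded_29_0 L3047 L1540 L3046 L3048
theorem L3051 : sm gf N626 = N308 := flp_f L3050
theorem L3052 : sm gd N307 = N627 := rfl
theorem L3053 : sm gd N627 = N307 := flp_d L3052
theorem L3054 : sm gb N627 = N627 := ded_14_1 L3053 L1544 L3052
theorem L3055 : sm gf N627 = N627 := ded_23_2 L3053 L1543 L3052
theorem L3056 : sm gg N307 = N628 := rfl
theorem L3057 : sm gg N628 = N307 := flp_g L3056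
theorem L3058 : sm gc N628 = N308 := ded_21_1 L1546 L1541 L3056
theorem L3059 : sm gc N308 = N628 := flp_c L3058
theorem L3060 : sm gb N309 = N629 := rfl
theorem L3061 : sm gb N629 = N309 := flp_b L3060
theorem L3062 : sm gf N309 = N630 := rfl
theorem L3063 : sm gf N630 = N309 := flp_f L3062
theorem L3064 : sm ga N630 = N310 := ded_11_1 L1552 L1549 L3062
theorem L3065 : sm ga N310 = N630 := flp_a L3064
theorem L3066 : sm gg N309 = N631 := rfl
theorem L3067 : sm gg N631 = N309 := flp_g L3066
theorem L3068 : sm ga N631 = N311 := ded_12_1 L1554 L1549 L3066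
theorem L3069 : sm ga N311 = N631 := flp_a L3068
theorem L3070 : sm gb N310 = N632 := rfl
theorem L3071 : sm gb N632 = N310 := flp_b L3070
theorem L3072 : sm gf N632 = N312 := ded_16_2 L1557 L857 L854 L1551 L3070
theorem L3073 : sm gf N312 = N632 := flp_f L3072
theorem L3074 : sm gg N310 = N633 := rfl
theorem L3075 : sm gg N633 = N310 := flp_g L3074
theorem L3076 : sm gf N631 = N633 := ded_29_0 L3075 L1552 L1553 L3069
theorem L3077 : sm gf N633 = N631 := flp_f L3076
theorem L3078 : sm gf N311 = N634 := rfl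
theorem L3079 : sm gf N634 = N311 := flp_f L3078
theorem L3080 : sm ga N634 = N633 := ded_11_1 L3077 L3068 L3078
theorem L3081 : sm ga N633 = N634 := flp_a L3080
theorem L3082 : sm gg N634 = N630 := ded_29_3 L3064 L1552 L1553 L3078
theorem L3083 : sm gg N630 = N634 := flp_g L3082
theorem L3084 : sm ga N312 = N635 := rfl
theorem L3085 : sm ga N635 = N312 := flp_a L3084
theorem L3086 : sm gc N312 = N636 := rfl
theorem L3087 : sm gc N636 = N312 := flp_c L3086
theorem L3088 : sm gb N636 = N314 := ded_13_1 L1563 L861 L859 L1556 L3086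
theorem L3089 : sm gb N314 = N636 := flp_b L3088
theorem L3090 : sm gg N312 = N637 := rfl
theorem L3091 : sm gg N637 = N312 := flp_g L3090
theorem L3096 : sm gc N313 = N639 := rfl
theorem L3097 : sm gc N639 = N313 := flp_c L3096
theorem L3098 : sm ga N639 = N314 := ded_8_1 L1563 L1558 L3096
theorem L3100 : sm gg N313 = N640 := rfl
theorem L3102 : sm ga N640 = N315 := ded_12_1 L1565 L1558 L3100
theorem L3106 : sm gf N640 = N591 := ded_29_2 L2897 L2886 L2890 L3100
theorem L3107 : sm gf N591 = N640 := flp_f L3106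
theorem L3108 : sm gd N314 = N641 := rfl
theorem L3109 : sm gd N641 = N314 := flp_d L3108
theorem L3110 : sm gg N314 = N642 := rfl
theorem L3111 : sm gg N642 = N314 := flp_g L3110
theorem L3112 : sm gc N642 = N315 := ded_21_1 L1565 L1562 L3110
theorem L3113 : sm gc N315 = N642 := flp_c L3112
theorem L3114 : sm gf N315 = N643 := rfl
theorem L3115 : sm gf N643 = N315 := flp_f L3114
theorem L3116 : sm ga N643 = N591 := ded_11_1 L3107 L3102 L3114
theorem L3122 : sm ga N316 = N644 := rfl
theorem L3124 : sm ge N644 = N322 := ded_10_2 L1605 L1571 L3122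
theorem L3125 : sm ge N322 = N644 := flp_e L3124
theorem L3130 : sm gf N316 = N646 := rfl
theorem L3131 : sm gf N646 = N316 := flp_f L3130
theorem L3134 : sm gg N316 = N647 := rfl
theorem L3135 : sm gg N647 = N316 := flp_g L3134
theorem L3156 : sm gb N318 = N651 := rfl
theorem L3158 : sm ge N651 = N329 := ded_15_2 L1627 L1583 L3156
theorem L3159 : sm ge N329 = N651 := flp_e L3158
theorem L3172 : sm gb N320 = N655 := rfl
theorem L3176 : sm gc N655 = N396 := ded_13_2 L1956 L1748 L1012 L1593 L3172
theorem L3177 : sm gc N396 = N655 := flp_c L3176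
theorem L3178 : sm gg N655 = N339 := ded_17_2 L1673 L909 L873 L1590 L3172
theorem L3179 : sm gg N339 = N655 := flp_g L3178
theorem L3190 : sm gb N321 = N657 := rfl
theorem L3191 : sm gb N657 = N321 := flp_b L3190
theorem L3192 : sm ge N657 = N335 := ded_15_2 L1654 L1601 L3190
theorem L3194 : sm gc N322 = N658 := rfl
theorem L3195 : sm gc N658 = N322 := flp_c L3194
theorem L3196 : sm ga N658 = N323 := ded_8_1 L1607 L1604 L3194
theorem L3198 : sm gf N322 = N659 := rfl
theorem L3199 : sm gf N659 = N322 := flp_f L3198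
theorem L3200 : sm ga N659 = N324 := ded_11_1 L1609 L1604 L3198
theorem L3201 : sm ga N324 = N659 := flp_a L3200
theorem L3206 : sm gb N323 = N661 := rfl
theorem L3207 : sm gb N661 = N323 := flp_b L3206
theorem L3208 : sm gc N661 = N326 := ded_13_2 L1613 L881 L878 L1606 L3206
theorem L3210 : sm gd N323 = N662 := rfl
theorem L3212 : sm gf N323 = N663 := rfl
theorem L3213 : sm gf N663 = N323 := flp_f L3212
theorem L3214 : sm gc N663 = N324 := ded_20_1 L1609 L1606 L3212
theorem L3224 : sm gb N325 = N666 := rfl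
theorem L3225 : sm gb N666 = N325 := flp_b L3224
theorem L3226 : sm gg N666 = N329 := ded_17_2 L1627 L885 L878 L1610 L3224
theorem L3227 : sm gg N329 = N666 := flp_g L3226
theorem L3228 : sm gf N325 = N667 := rfl
theorem L3229 : sm gf N667 = N325 := flp_f L3228
theorem L3232 : sm gg N667 = N659 := ded_29_3 L3200 L1609 L1610 L3228
theorem L3233 : sm gg N659 = N667 := flp_g L3232
theorem L3234 : sm ga N326 = N668 := rfl
theorem L3241 : sm gf N326 = N670 := rfl
theorem L3242 : sm gf N670 = N326 := flp_f L3241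
theorem L3243 : sm gg N326 = N671 := rfl
theorem L3244 : sm gg N671 = N326 := flp_g L3243
theorem L3251 : sm ge N327 = N673 := rfl
theorem L3252 : sm ge N673 = N327 := flp_e L3251
theorem L3263 : sm gb N328 = N675 := rfl
theorem L3264 : sm gb N675 = N328 := flp_b L3263
theorem L3265 : sm ga N329 = N676 := rfl
theorem L3266 : sm ga N676 = N329 := flp_a L3265
theorem L3267 : sm gc N329 = N677 := rfl
theorem L3268 : sm gc N677 = N329 := flp_c L3267
theorem L3269 : sm gf N329 = N678 := rfl
theorem L3270 : sm gf N678 = N329 := flp_f L3269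
theorem L3271 : sm gb N678 = N617 := ded_16_1 L3013 L1526 L889 L1626 L3269
theorem L3272 : sm gb N617 = N678 := flp_b L3271
theorem L3273 : sm gd N330 = N679 := rfl
theorem L3274 : sm gd N679 = N330 := flp_d L3273
theorem L3277 : sm gb N679 = N679 := ded_14_1 L3274 L1630 L3273
theorem L3278 : sm gc N345 = N679 := ded_28_0 L3274 L1629 L891 L513 L348 L547 L936 L1703
theorem L3279 : sm gc N679 = N345 := flp_c L3278
theorem L3285 : sm gg N330 = N681 := rfl
theorem L3286 : sm gg N681 = N330 := flp_g L3285
theorem L3307 : sm ga N333 = N685 := rfl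
theorem L3309 : sm gc N685 = N389 := ded_8_2 L1924 L1642 L3307
theorem L3321 : sm gc N335 = N689 := rfl
theorem L3322 : sm gc N689 = N335 := flp_c L3321
theorem L3323 : sm gg N335 = N690 := rfl
theorem L3325 : sm gb N690 = N608 := ded_17_1 L2979 L1509 L903 L1653 L3323
theorem L3326 : sm gb N608 = N690 := flp_b L3325
theorem L3343 : sm gg N337 = N694 := rfl
theorem L3346 : sm gd N694 = N340 := ded_24_1 L1679 L1665 L3343
theorem L3348 : sm ge N694 = N338 := ded_26_1 L1667 L1660 L3343
theorem L3349 : sm ge N338 = N694 := flp_e L3348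
theorem L3355 : sm ga N339 = N696 := rfl
theorem L3356 : sm ga N696 = N339 := flp_a L3355
theorem L3357 : sm gc N696 = N387 := ded_8_2 L1916 L1677 L3355
theorem L3358 : sm gc N387 = N696 := flp_c L3357
theorem L3363 : sm gf N339 = N697 := rfl
theorem L3364 : sm gf N697 = N339 := flp_f L3363
theorem L3367 : sm ge N697 = N343 := ded_25_1 L1694 L1675 L3363
theorem L3368 : sm ge N343 = N697 := flp_e L3367
theorem L3370 : sm gb N340 = N698 := rfl
theorem L3372 : sm ge N698 = N341 := ded_15_2 L1686 L1683 L3370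
theorem L3373 : sm ge N341 = N698 := flp_e L3372
theorem L3374 : sm ga N341 = N699 := rfl
theorem L3376 : sm gd N699 = N342 := ded_9_2 L1690 L1688 L3374
theorem L3378 : sm gb N519 = N699 := ded_14_3 L3376 L2041 L2584
theorem L3379 : sm gb N699 = N519 := flp_b L3378
theorem L3380 : sm gc N341 = N700 := rfl
theorem L3381 : sm gc N700 = N341 := flp_c L3380
theorem L3396 : sm gg N343 = N703 := rfl
theorem L3397 : sm gg N703 = N343 := flp_g L3396
theorem L3404 : sm ga N344 = N704 := rfl
theorem L3405 : sm ga N704 = N344 := flp_a L3404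
theorem L3406 : sm gc N344 = N705 := rfl
theorem L3407 : sm gc N705 = N344 := flp_c L3406
theorem L3408 : sm gb N705 = N368 := ded_13_1 L1817 L977 L935 L1698 L3406
theorem L3410 : sm gd N344 = N706 := rfl
theorem L3411 : sm gd N706 = N344 := flp_d L3410
theorem L3412 : sm gb N706 = N345 := ded_14_1 L1701 L1698 L3410
theorem L3413 : sm gb N345 = N706 := flp_b L3412
theorem L3414 : sm gc N706 = N706 := ded_13_0 L3412 L3278 L3277 L3279 L3413
theorem L3415 : sm ge N344 = N707 := rfl
theorem L3416 : sm ge N707 = N344 := flp_e L3415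
theorem L3417 : sm gb N707 = N346 := ded_15_1 L1705 L1698 L3415
theorem L3418 : sm gb N346 = N707 := flp_b L3417
theorem L3421 : sm gg N344 = N709 := rfl
theorem L3422 : sm gg N709 = N344 := flp_g L3421
theorem L3427 : sm gf N345 = N711 := rfl
theorem L3428 : sm gf N711 = N345 := flp_f L3427
theorem L3429 : sm ga N711 = N351 := ded_11_1 L1729 L1703 L3427
theorem L3431 : sm gd N711 = N347 := ded_23_1 L1711 L1700 L3427
theorem L3432 : sm gd N347 = N711 := flp_d L3431
theorem L3433 : sm gg N345 = N712 := rfl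
theorem L3437 : sm gd N712 = N348 := ded_24_1 L1717 L1700 L3433
theorem L3438 : sm gd N348 = N712 := flp_d L3437
theorem L3439 : sm gd N346 = N713 := rfl
theorem L3440 : sm gd N713 = N346 := flp_d L3439
theorem L3441 : sm ga N713 = N353 := ded_9_1 L1737 L1707 L3439
theorem L3442 : sm ga N353 = N713 := flp_a L3441
theorem L3459 : sm gb N347 = N716 := rfl
theorem L3460 : sm gb N716 = N347 := flp_b L3459
theorem L3461 : sm gb N348 = N717 := rfl
theorem L3462 : sm gb N717 = N348 := flp_b L3461
theorem L3467 : sm gf N349 = N719 := rfl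
theorem L3469 : sm gc N719 = N351 := ded_20_1 L1729 L1722 L3467
theorem L3470 : sm gc N351 = N719 := flp_c L3469
theorem L3471 : sm gg N349 = N720 := rfl
theorem L3472 : sm gg N720 = N349 := flp_g L3471
theorem L3473 : sm gc N720 = N352 := ded_21_1 L1733 L1722 L3471
theorem L3474 : sm gc N352 = N720 := flp_c L3473
theorem L3475 : sm gd N350 = N721 := rfl
theorem L3479 : sm ge N721 = N353 := ded_22_2 L1737 L941 L936 L1724 L3475
theorem L3480 : sm ge N353 = N721 := flp_e L3479
theorem L3481 : sm gf N350 = N722 := rfl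
theorem L3483 : sm ge N722 = N351 := ded_25_1 L1729 L1724 L3481
theorem L3484 : sm ge N351 = N722 := flp_e L3483
theorem L3489 : sm gb N351 = N724 := rfl
theorem L3490 : sm gb N724 = N351 := flp_b L3489
theorem L3491 : sm gd N724 = N356 := ded_14_2 L1753 L1731 L3489
theorem L3492 : sm gd N356 = N724 := flp_d L3491
theorem L3493 : sm gf N724 = N361 := ded_16_2 L1783 L957 L939 L1728 L3489
theorem L3494 : sm gf N361 = N724 := flp_f L3493
theorem L3501 : sm gf N352 = N726 := rfl
theorem L3502 : sm gf N726 = N352 := flp_f L3501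
theorem L3507 : sm gg N726 = N711 := ded_29_3 L3429 L1729 L1732 L3501
theorem L3508 : sm gg N711 = N726 := flp_g L3507
theorem L3509 : sm gc N353 = N727 := rfl
theorem L3510 : sm gc N727 = N353 := flp_c L3509
theorem L3511 : sm gf N353 = N728 := rfl
theorem L3512 : sm gf N728 = N353 := flp_f L3511
theorem L3513 : sm gd N728 = N354 := ded_23_1 L1741 L1736 L3511
theorem L3514 : sm gd N354 = N728 := flp_d L3513
theorem L3515 : sm gg N353 = N729 := rfl
theorem L3516 : sm gg N729 = N353 := flp_g L3515
theorem L3517 : sm gd N729 = N355 := ded_24_1 L1747 L1736 L3515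
theorem L3518 : sm gd N355 = N729 := flp_d L3517
theorem L3519 : sm gb N354 = N730 := rfl
theorem L3520 : sm gb N730 = N354 := flp_b L3519
theorem L3521 : sm ge N730 = N356 := ded_15_2 L1753 L1745 L3519
theorem L3522 : sm ge N356 = N730 := flp_e L3521
theorem L3523 : sm gc N730 = N432 := ded_13_2 L2149 L1133 L1007 L1743 L3519
theorem L3524 : sm gc N432 = N730 := flp_c L3523
theorem L3525 : sm gf N730 = N364 := ded_16_2 L1795 L965 L943 L1740 L3519
theorem L3526 : sm gf N364 = N730 := flp_f L3525
theorem L3527 : sm gg N354 = N731 := rfl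
theorem L3529 : sm gc N731 = N380 := ded_21_1 L1877 L1743 L3527
theorem L3531 : sm ge N731 = N357 := ded_26_1 L1759 L1745 L3527
theorem L3532 : sm ge N357 = N731 := flp_e L3531
theorem L3545 : sm ga N356 = N733 := rfl
theorem L3546 : sm ga N733 = N356 := flp_a L3545
theorem L3547 : sm gc N733 = N436 := ded_8_2 L2180 L1755 L3545
theorem L3549 : sm gf N733 = N365 := ded_11_2 L1801 L1757 L3545
theorem L3551 : sm gg N356 = N734 := rfl
theorem L3552 : sm gg N734 = N356 := flp_g L3551
theorem L3553 : sm gc N734 = N437 := ded_21_1 L2184 L1755 L3551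
theorem L3555 : sm gb N357 = N735 := rfl
theorem L3557 : sm gb N358 = N736 := rfl
theorem L3558 : sm gb N736 = N358 := flp_b L3557
theorem L3559 : sm gc N359 = N737 := rfl
theorem L3560 : sm gc N737 = N359 := flp_c L3559
theorem L3561 : sm ge N737 = N362 := ded_19_2 L1787 L1775 L3559
theorem L3562 : sm ge N362 = N737 := flp_e L3561
theorem L3563 : sm gf N359 = N738 := rfl
theorem L3564 : sm gf N738 = N359 := flp_f L3563
theorem L3565 : sm gd N738 = N360 := ded_23_1 L1777 L1772 L3563
theorem L3566 : sm gd N360 = N738 := flp_d L3565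
theorem L3567 : sm ge N738 = N363 := ded_25_1 L1789 L1775 L3563
theorem L3568 : sm ge N363 = N738 := flp_e L3567
theorem L3569 : sm gg N449 = N738 := ded_29_1 L3564 L1978 L1975 L2235
theorem L3570 : sm gg N738 = N449 := flp_g L3569
theorem L3571 : sm gb N360 = N739 := rfl
theorem L3572 : sm gb N739 = N360 := flp_b L3571
theorem L3573 : sm ge N739 = N361 := ded_15_2 L1783 L1779 L3571
theorem L3574 : sm ge N361 = N739 := flp_e L3573
theorem L3575 : sm ga N361 = N740 := rfl
theorem L3576 : sm ga N740 = N361 := flp_a L3575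
theorem L3577 : sm gd N740 = N365 := ded_9_2 L1801 L1785 L3575
theorem L3579 : sm gc N361 = N741 := rfl
theorem L3580 : sm gc N741 = N361 := flp_c L3579
theorem L3581 : sm gg N361 = N742 := rfl
theorem L3583 : sm gd N742 = N366 := ded_24_1 L1805 L1785 L3581
theorem L3584 : sm gd N366 = N742 := flp_d L3583
theorem L3587 : sm gb N362 = N743 := rfl
theorem L3588 : sm gb N743 = N362 := flp_b L3587
theorem L3589 : sm gf N362 = N744 := rfl
theorem L3590 : sm gf N744 = N362 := flp_f L3589
theorem L3591 : sm gc N744 = N363 := ded_20_1 L1789 L1786 L3589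
theorem L3592 : sm gc N363 = N744 := flp_c L3591
theorem L3593 : sm gg N455 = N744 := ded_29_1 L3590 L1998 L1995 L2257
theorem L3594 : sm gg N744 = N455 := flp_g L3593
theorem L3595 : sm gb N363 = N745 := rfl
theorem L3596 : sm gb N745 = N363 := flp_b L3595
theorem L3597 : sm gd N745 = N364 := ded_14_2 L1795 L1791 L3595
theorem L3598 : sm gd N364 = N745 := flp_d L3597
theorem L3599 : sm ga N364 = N746 := rfl
theorem L3600 : sm ga N746 = N364 := flp_a L3599
theorem L3601 : sm gc N746 = N460 := ded_8_2 L2286 L1799 L3599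
theorem L3602 : sm gc N460 = N746 := flp_c L3601
theorem L3603 : sm ge N746 = N365 := ded_10_2 L1801 L1797 L3599
theorem L3604 : sm ge N365 = N746 := flp_e L3603
theorem L3605 : sm gg N364 = N747 := rfl
theorem L3606 : sm gg N747 = N364 := flp_g L3605
theorem L3607 : sm gc N747 = N461 := ded_21_1 L2290 L1799 L3605
theorem L3608 : sm gc N461 = N747 := flp_c L3607
theorem L3609 : sm ge N747 = N366 := ded_26_1 L1805 L1797 L3605
theorem L3610 : sm ge N366 = N747 := flp_e L3609
theorem L3611 : sm gb N747 = N461 := ded_17_1 L2290 L1213 L970 L1794 L3605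
theorem L3612 : sm gb N461 = N747 := flp_b L3611
theorem L3613 : sm gb N365 = N748 := rfl
theorem L3614 : sm gb N748 = N365 := flp_b L3613
theorem L3615 : sm gg N365 = N749 := rfl
theorem L3616 : sm gg N749 = N365 := flp_g L3615
theorem L3617 : sm ga N749 = N366 := ded_12_1 L1805 L1800 L3615
theorem L3619 : sm gc N749 = N466 := ded_21_1 L2310 L1803 L3615
theorem L3621 : sm gf N749 = N734 := ded_29_2 L3552 L3545 L3549 L3615
theorem L3622 : sm gf N734 = N749 := flp_f L3621
theorem L3623 : sm gf N366 = N750 := rfl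
theorem L3624 : sm gf N750 = N366 := flp_f L3623
theorem L3625 : sm ga N750 = N734 := ded_11_1 L3622 L3617 L3623
theorem L3626 : sm ga N734 = N750 := flp_a L3625
theorem L3627 : sm gc N750 = N467 := ded_20_1 L2316 L1807 L3623
theorem L3629 : sm gg N750 = N733 := ded_29_3 L3546 L1756 L1804 L3623
theorem L3631 : sm gc N367 = N751 := rfl
theorem L3632 : sm gc N751 = N367 := flp_c L3631
theorem L3633 : sm ga N751 = N368 := ded_8_1 L1817 L1810 L3631
theorem L3634 : sm ga N368 = N751 := flp_a L3633
theorem L3635 : sm ge N367 = N752 := rfl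
theorem L3637 : sm ga N752 = N369 := ded_10_1 L1819 L1810 L3635
theorem L3638 : sm ga N369 = N752 := flp_a L3637
theorem L3641 : sm gf N367 = N753 := rfl
theorem L3642 : sm gf N753 = N367 := flp_f L3641
theorem L3643 : sm ga N753 = N370 := ded_11_1 L1823 L1810 L3641
theorem L3644 : sm ga N370 = N753 := flp_a L3643
theorem L3645 : sm gd N753 = N659 := ded_23_1 L3199 L1813 L3641
theorem L3647 : sm gg N367 = N754 := rfl
theorem L3648 : sm gg N754 = N367 := flp_g L3647
theorem L3649 : sm ga N754 = N371 := ded_12_1 L1827 L1810 L3647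
theorem L3650 : sm ga N371 = N754 := flp_a L3649
theorem L3663 : sm gg N368 = N758 := rfl
theorem L3665 : sm gc N758 = N371 := ded_21_1 L1827 L1816 L3663
theorem L3673 : sm gf N369 = N760 := rfl
theorem L3674 : sm gf N760 = N369 := flp_f L3673
theorem L3675 : sm ge N760 = N370 := ded_25_1 L1823 L1818 L3673
theorem L3676 : sm ge N370 = N760 := flp_e L3675
theorem L3677 : sm gg N369 = N761 := rfl
theorem L3678 : sm gg N761 = N369 := flp_g L3677
theorem L3679 : sm ge N761 = N371 := ded_26_1 L1827 L1818 L3677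
theorem L3680 : sm ge N371 = N761 := flp_e L3679
theorem L3681 : sm gb N370 = N762 := rfl
theorem L3682 : sm gb N762 = N370 := flp_b L3681
theorem L3683 : sm gd N762 = N607 := ded_14_2 L2976 L1825 L3681
theorem L3684 : sm gd N607 = N762 := flp_d L3683
theorem L3685 : sm gf N762 = N375 := ded_16_2 L1849 L985 L976 L1822 L3681
theorem L3686 : sm gf N375 = N762 := flp_f L3685
theorem L3687 : sm gg N370 = N763 := rfl
theorem L3688 : sm gg N763 = N370 := flp_g L3687
theorem L3691 : sm gf N754 = N763 := ded_29_0 L3688 L1823 L1826 L3650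
theorem L3692 : sm gf N763 = N754 := flp_f L3691
theorem L3693 : sm gb N371 = N764 := rfl
theorem L3694 : sm gb N764 = N371 := flp_b L3693
theorem L3695 : sm gd N764 = N666 := ded_14_2 L3225 L1829 L3693
theorem L3697 : sm gg N764 = N376 := ded_17_2 L1853 L991 L976 L1826 L3693
theorem L3699 : sm gf N371 = N765 := rfl
theorem L3701 : sm ga N765 = N763 := ded_11_1 L3692 L3649 L3699
theorem L3702 : sm ga N763 = N765 := flp_a L3701
theorem L3703 : sm gd N765 = N667 := ded_23_1 L3229 L1829 L3699
theorem L3704 : sm gd N667 = N765 := flp_d L3703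
theorem L3705 : sm gg N765 = N753 := ded_29_3 L3643 L1823 L1826 L3699
theorem L3706 : sm gg N753 = N765 := flp_g L3705
theorem L3707 : sm gc N372 = N766 := rfl
theorem L3708 : sm gc N766 = N372 := flp_c L3707
theorem L3709 : sm ga N766 = N377 := ded_8_1 L1857 L1833 L3707
theorem L3710 : sm ga N377 = N766 := flp_a L3709
theorem L3711 : sm ge N766 = N639 := ded_19_2 L3097 L1835 L3707
theorem L3712 : sm ge N639 = N766 := flp_e L3711
theorem L3713 : sm gf N372 = N767 := rfl
theorem L3715 : sm ga N767 = N378 := ded_11_1 L1861 L1833 L3713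
theorem L3717 : sm gd N767 = N373 := ded_23_1 L1837 L1830 L3713
theorem L3718 : sm gd N373 = N767 := flp_d L3717
theorem L3719 : sm ge N767 = N589 := ded_25_1 L2890 L1835 L3713
theorem L3720 : sm ge N589 = N767 := flp_e L3719
theorem L3721 : sm gg N372 = N768 := rfl
theorem L3723 : sm ga N768 = N379 := ded_12_1 L1869 L1833 L3721
theorem L3724 : sm ga N379 = N768 := flp_a L3723
theorem L3729 : sm gb N373 = N769 := rfl
theorem L3730 : sm gb N769 = N373 := flp_b L3729
theorem L3733 : sm gb N374 = N770 := rfl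
theorem L3734 : sm gb N770 = N374 := flp_b L3733
theorem L3735 : sm ge N770 = N376 := ded_15_2 L1853 L1847 L3733
theorem L3736 : sm ge N376 = N770 := flp_e L3735
theorem L3737 : sm ga N375 = N771 := rfl
theorem L3738 : sm ga N771 = N375 := flp_a L3737
theorem L3739 : sm gd N771 = N605 := ded_9_2 L2971 L1851 L3737
theorem L3740 : sm gd N605 = N771 := flp_d L3739
theorem L3741 : sm gc N375 = N772 := rfl
theorem L3742 : sm gc N772 = N375 := flp_c L3741
theorem L3751 : sm gc N376 = N775 := rfl
theorem L3752 : sm gc N775 = N376 := flp_c L3751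
theorem L3753 : sm gf N376 = N776 := rfl
theorem L3754 : sm gf N776 = N376 := flp_f L3753
theorem L3755 : sm gd N776 = N678 := ded_23_1 L3270 L1855 L3753
theorem L3757 : sm gb N377 = N777 := rfl
theorem L3758 : sm gb N777 = N377 := flp_b L3757
theorem L3759 : sm ge N777 = N636 := ded_15_2 L3088 L1859 L3757
theorem L3760 : sm ge N636 = N777 := flp_e L3759
theorem L3761 : sm gc N777 = N384 := ded_13_2 L1903 L1029 L999 L1856 L3757
theorem L3762 : sm gc N384 = N777 := flp_c L3761
theorem L3763 : sm gd N377 = N778 := rfl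
theorem L3764 : sm gd N778 = N377 := flp_d L3763
theorem L3765 : sm gf N377 = N779 := rfl
theorem L3766 : sm gf N779 = N377 := flp_f L3765
theorem L3767 : sm gc N779 = N378 := ded_20_1 L1861 L1856 L3765
theorem L3768 : sm gc N378 = N779 := flp_c L3767
theorem L3769 : sm ge N779 = N590 := ded_25_1 L2894 L1859 L3765
theorem L3770 : sm ge N590 = N779 := flp_e L3769
theorem L3771 : sm gg N377 = N780 := rfl
theorem L3772 : sm gg N780 = N377 := flp_g L3771
theorem L3773 : sm gc N780 = N379 := ded_21_1 L1869 L1856 L3771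
theorem L3774 : sm gc N379 = N780 := flp_c L3773
theorem L3777 : sm gg N378 = N781 := rfl
theorem L3778 : sm gg N781 = N378 := flp_g L3777
theorem L3779 : sm gd N781 = N380 := ded_24_1 L1877 L1863 L3777
theorem L3780 : sm gd N380 = N781 := flp_d L3779
theorem L3781 : sm ge N781 = N591 := ded_26_1 L2897 L1865 L3777
theorem L3782 : sm ge N591 = N781 := flp_e L3781
theorem L3783 : sm gf N768 = N781 := ded_29_0 L3778 L1861 L1868 L3724
theorem L3784 : sm gf N781 = N768 := flp_f L3783
theorem L3785 : sm gf N379 = N782 := rfl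
theorem L3786 : sm gf N782 = N379 := flp_f L3785
theorem L3787 : sm ga N782 = N781 := ded_11_1 L3784 L3723 L3785
theorem L3791 : sm ge N782 = N643 := ded_25_1 L3115 L1873 L3785
theorem L3792 : sm ge N643 = N782 := flp_e L3791
theorem L3795 : sm gb N380 = N783 := rfl
theorem L3796 : sm gb N783 = N380 := flp_b L3795
theorem L3797 : sm ge N783 = N382 := ded_15_2 L1891 L1879 L3795
theorem L3798 : sm ge N382 = N783 := flp_e L3797
theorem L3799 : sm gg N783 = N508 := ded_17_2 L2531 L1320 L1007 L1876 L3795
theorem L3800 : sm gg N508 = N783 := flp_g L3799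
theorem L3801 : sm gb N381 = N784 := rfl
theorem L3802 : sm gb N784 = N381 := flp_b L3801
theorem L3803 : sm ge N784 = N383 := ded_15_2 L1897 L1887 L3801
theorem L3805 : sm gf N784 = N657 := ded_16_2 L3191 L1597 L1013 L1882 L3801
theorem L3807 : sm ga N382 = N785 := rfl
theorem L3808 : sm ga N785 = N382 := flp_a L3807
theorem L3811 : sm gg N785 = N510 := ded_12_2 L2540 L1895 L3807
theorem L3812 : sm gg N510 = N785 := flp_g L3811
theorem L3813 : sm gc N382 = N786 := rfl
theorem L3814 : sm gc N786 = N382 := flp_c L3813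
theorem L3815 : sm gg N786 = N511 := ded_21_2 L2544 L1895 L3813
theorem L3816 : sm gg N511 = N786 := flp_g L3815
theorem L3817 : sm gf N382 = N787 := rfl
theorem L3818 : sm gf N787 = N382 := flp_f L3817
theorem L3821 : sm gb N787 = N776 := ded_16_1 L3754 L1853 L1018 L1890 L3817
theorem L3829 : sm gc N383 = N789 := rfl
theorem L3830 : sm gc N789 = N383 := flp_c L3829
theorem L3831 : sm gf N789 = N689 := ded_20_2 L3322 L1901 L3829
theorem L3832 : sm gf N689 = N789 := flp_f L3831
theorem L3839 : sm ga N384 = N791 := rfl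
theorem L3840 : sm ga N791 = N384 := flp_a L3839
theorem L3841 : sm gd N791 = N635 := ded_9_2 L3085 L1905 L3839
theorem L3842 : sm gd N635 = N791 := flp_d L3841
theorem L3843 : sm ge N791 = N635 := ded_10_2 L3085 L1907 L3839
theorem L3844 : sm ge N635 = N791 := flp_e L3843
theorem L3845 : sm gf N384 = N792 := rfl
theorem L3846 : sm gf N792 = N384 := flp_f L3845
theorem L3847 : sm gd N792 = N632 := ded_23_1 L3072 L1905 L3845
theorem L3848 : sm gd N632 = N792 := flp_d L3847
theorem L3849 : sm ge N792 = N632 := ded_25_1 L3072 L1907 L3845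
theorem L3850 : sm ge N632 = N792 := flp_e L3849
theorem L3851 : sm gb N792 = N517 := ded_16_1 L2572 L1343 L1035 L1902 L3845
theorem L3852 : sm gb N517 = N792 := flp_b L3851
theorem L3853 : sm gg N384 = N793 := rfl
theorem L3854 : sm gg N793 = N384 := flp_g L3853
theorem L3855 : sm gd N793 = N637 := ded_24_1 L3091 L1905 L3853
theorem L3856 : sm gd N637 = N793 := flp_d L3855
theorem L3857 : sm ge N793 = N637 := ded_26_1 L3091 L1907 L3853
theorem L3858 : sm ge N637 = N793 := flp_e L3857
theorem L3859 : sm gb N793 = N637 := ded_17_1 L3091 L1557 L1037 L1902 L3853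
theorem L3860 : sm gb N637 = N793 := flp_b L3859
theorem L3867 : sm ge N385 = N795 := rfl
theorem L3869 : sm ga N795 = N481 := ded_10_1 L2385 L2036 L3867
theorem L3870 : sm ga N481 = N795 := flp_a L3869
theorem L3875 : sm gf N385 = N796 := rfl
theorem L3877 : sm ga N796 = N482 := ded_11_1 L2389 L2036 L3875
theorem L3881 : sm gg N385 = N797 := rfl
theorem L3882 : sm gg N797 = N385 := flp_g L3881
theorem L3883 : sm ga N797 = N483 := ded_12_1 L2393 L2036 L3881
theorem L3884 : sm ga N483 = N797 := flp_a L3883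
theorem L3885 : sm gc N797 = N479 := ded_21_1 L2377 L2039 L3881
theorem L3886 : sm gc N479 = N797 := flp_c L3885
theorem L3891 : sm ge N386 = N799 := rfl
theorem L3893 : sm ga N799 = N391 := ded_10_1 L1931 L1913 L3891
theorem L3894 : sm ga N391 = N799 := flp_a L3893
theorem L3895 : sm gf N386 = N800 := rfl
theorem L3896 : sm gf N800 = N386 := flp_f L3895
theorem L3901 : sm gg N386 = N801 := rfl
theorem L3903 : sm ga N801 = N393 := ded_12_1 L1939 L1913 L3901
theorem L3904 : sm ga N393 = N801 := flp_a L3903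
theorem L3911 : sm gf N387 = N803 := rfl
theorem L3912 : sm gf N803 = N387 := flp_f L3911
theorem L3913 : sm ga N803 = N395 := ded_11_1 L1949 L1917 L3911
theorem L3917 : sm gg N387 = N804 := rfl
theorem L3919 : sm ga N804 = N396 := ded_12_1 L1953 L1917 L3917
theorem L3921 : sm ge N804 = N389 := ded_26_1 L1923 L1914 L3917
theorem L3922 : sm ge N389 = N804 := flp_e L3921
theorem L3923 : sm gb N388 = N805 := rfl
theorem L3924 : sm gb N805 = N388 := flp_b L3923
theorem L3925 : sm gb N389 = N806 := rfl
theorem L3926 : sm gb N806 = N389 := flp_b L3925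
theorem L3927 : sm gd N390 = N807 := rfl
theorem L3937 : sm gf N390 = N809 := rfl
theorem L3938 : sm gf N809 = N390 := flp_f L3937
theorem L3939 : sm gc N809 = N392 := ded_20_1 L1935 L1926 L3937
theorem L3940 : sm gc N392 = N809 := flp_c L3939
theorem L3941 : sm gg N390 = N810 := rfl
theorem L3942 : sm gg N810 = N390 := flp_g L3941
theorem L3943 : sm gc N810 = N393 := ded_21_1 L1939 L1926 L3941
theorem L3944 : sm gc N393 = N810 := flp_c L3943
theorem L3951 : sm gf N391 = N812 := rfl
theorem L3952 : sm gf N812 = N391 := flp_f L3951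
theorem L3955 : sm gg N391 = N813 := rfl
theorem L3961 : sm gb N392 = N814 := rfl
theorem L3963 : sm gd N814 = N397 := ded_14_2 L1959 L1937 L3961
theorem L3964 : sm gd N397 = N814 := flp_d L3963
theorem L3965 : sm gf N814 = N402 := ded_16_2 L1990 L1065 L1045 L1934 L3961
theorem L3967 : sm gg N392 = N815 := rfl
theorem L3968 : sm gg N815 = N392 := flp_g L3967
theorem L3971 : sm gf N801 = N815 := ded_29_0 L3968 L1935 L1938 L3904
theorem L3993 : sm gb N395 = N820 := rfl
theorem L3998 : sm gf N820 = N405 := ded_16_2 L2008 L1079 L1049 L1948 L3993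
theorem L3999 : sm gf N405 = N820 := flp_f L3998
theorem L4006 : sm gf N396 = N822 := rfl
theorem L4007 : sm gf N822 = N396 := flp_f L4006
theorem L4012 : sm gg N822 = N803 := ded_29_3 L3913 L1949 L1952 L4006
theorem L4013 : sm gg N803 = N822 := flp_g L4012
theorem L4014 : sm ga N397 = N823 := rfl
theorem L4017 : sm gf N823 = N406 := ded_11_2 L2013 L1962 L4014
theorem L4019 : sm gg N397 = N824 := rfl
theorem L4020 : sm gg N824 = N397 := flp_g L4019
theorem L4024 : sm gb N399 = N826 := rfl
theorem L4026 : sm gf N826 = N736 := ded_16_2 L3558 L1765 L1055 L1967 L4024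
theorem L4027 : sm gf N736 = N826 := flp_f L4026
theorem L4028 : sm gc N400 = N827 := rfl
theorem L4030 : sm ga N827 = N448 := ded_8_1 L2232 L1976 L4028
theorem L4031 : sm ga N448 = N827 := flp_a L4030
theorem L4032 : sm ge N827 = N403 := ded_19_2 L1994 L1980 L4028
theorem L4033 : sm ge N403 = N827 := flp_e L4032
theorem L4034 : sm gg N827 = N737 := ded_21_2 L3560 L1978 L4028
theorem L4035 : sm gg N737 = N827 := flp_g L4034
theorem L4036 : sm gf N400 = N828 := rfl
theorem L4042 : sm ge N828 = N404 := ded_25_1 L2002 L1980 L4036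
theorem L4043 : sm ge N404 = N828 := flp_e L4042
theorem L4044 : sm gb N401 = N829 := rfl
theorem L4045 : sm gb N829 = N401 := flp_b L4044
theorem L4046 : sm ge N829 = N402 := ded_15_2 L1990 L1988 L4044
theorem L4047 : sm ge N402 = N829 := flp_e L4046
theorem L4056 : sm gg N402 = N832 := rfl
theorem L4057 : sm gg N832 = N402 := flp_g L4056
theorem L4060 : sm gb N403 = N833 := rfl
theorem L4062 : sm gd N833 = N454 := ded_14_2 L2256 L2000 L4060
theorem L4063 : sm gd N454 = N833 := flp_d L4062
theorem L4064 : sm gf N403 = N834 := rfl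
theorem L4065 : sm gf N834 = N403 := flp_f L4064
theorem L4066 : sm ga N834 = N455 := ded_11_1 L2258 L1996 L4064
theorem L4070 : sm gd N834 = N455 := ded_23_1 L2258 L2000 L4064
theorem L4071 : sm gd N455 = N834 := flp_d L4070
theorem L4072 : sm gb N404 = N835 := rfl
theorem L4073 : sm gb N835 = N404 := flp_b L4072
theorem L4074 : sm gd N835 = N405 := ded_14_2 L2008 L2006 L4072
theorem L4075 : sm gd N405 = N835 := flp_d L4074
theorem L4076 : sm ga N405 = N836 := rfl
theorem L4077 : sm ga N836 = N405 := flp_a L4076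
theorem L4079 : sm ge N836 = N406 := ded_10_2 L2013 L2010 L4076
theorem L4081 : sm gg N405 = N837 := rfl
theorem L4082 : sm gg N837 = N405 := flp_g L4081
theorem L4088 : sm gg N406 = N839 := rfl
theorem L4093 : sm gf N839 = N824 := ded_29_2 L4020 L4014 L4017 L4088
theorem L4102 : sm gd N408 = N841 := rfl
theorem L4103 : sm gd N841 = N408 := flp_d L4102
theorem L4108 : sm gc N442 = N841 := ded_28_0 L4103 L2034 L2024 L2029 L1168 L687 L1169 L2197
theorem L4110 : sm ge N408 = N842 := rfl
theorem L4112 : sm ga N842 = N411 := ded_10_1 L2043 L2018 L4110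
theorem L4113 : sm ga N411 = N842 := flp_a L4112
theorem L4116 : sm gc N842 = N411 := ded_19_1 L2043 L2035 L4110
theorem L4117 : sm gc N411 = N842 := flp_c L4116
theorem L4118 : sm gf N408 = N843 := rfl
theorem L4120 : sm ga N843 = N412 := ded_11_1 L2047 L2018 L4118
theorem L4121 : sm ga N412 = N843 := flp_a L4120
theorem L4122 : sm gc N843 = N412 := ded_20_1 L2047 L2035 L4118
theorem L4123 : sm gc N412 = N843 := flp_c L4122
theorem L4124 : sm gg N408 = N844 := rfl
theorem L4126 : sm ga N844 = N413 := ded_12_1 L2049 L2018 L4124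
theorem L4127 : sm ga N413 = N844 := flp_a L4126
theorem L4128 : sm gc N844 = N413 := ded_21_1 L2049 L2035 L4124
theorem L4129 : sm gc N413 = N844 := flp_c L4128
theorem L4130 : sm ge N410 = N845 := rfl
theorem L4136 : sm gf N410 = N846 := rfl
theorem L4137 : sm gf N846 = N410 := flp_f L4136
theorem L4138 : sm gc N846 = N444 := ded_20_1 L2206 L2028 L4136
theorem L4139 : sm gc N444 = N846 := flp_c L4138
theorem L4142 : sm gg N410 = N847 := rfl
theorem L4143 : sm gg N847 = N410 := flp_g L4142
theorem L4146 : sm gd N847 = N413 := ded_24_1 L2049 L2024 L4142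
theorem L4147 : sm gd N413 = N847 := flp_d L4146
theorem L4148 : sm gd N411 = N848 := rfl
theorem L4149 : sm gd N848 = N411 := flp_d L4148
theorem L4150 : sm gb N848 = N417 := ded_14_1 L2073 L2045 L4148
theorem L4151 : sm gb N417 = N848 := flp_b L4150
theorem L4152 : sm gf N411 = N849 := rfl
theorem L4153 : sm gf N849 = N411 := flp_f L4152
theorem L4154 : sm ge N849 = N412 := ded_25_1 L2047 L2042 L4152
theorem L4155 : sm ge N412 = N849 := flp_e L4154
theorem L4156 : sm gg N411 = N850 := rfl
theorem L4157 : sm gg N850 = N411 := flp_g L4156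
theorem L4158 : sm ge N850 = N413 := ded_26_1 L2049 L2042 L4156
theorem L4159 : sm ge N413 = N850 := flp_e L4158
theorem L4160 : sm gb N412 = N851 := rfl
theorem L4161 : sm gb N851 = N412 := flp_b L4160
theorem L4162 : sm gf N851 = N420 := ded_16_2 L2093 L1104 L1089 L2046 L4160
theorem L4163 : sm gf N420 = N851 := flp_f L4162
theorem L4164 : sm gg N412 = N852 := rfl
theorem L4165 : sm gg N852 = N412 := flp_g L4164
theorem L4166 : sm gf N844 = N852 := ded_29_0 L4165 L2047 L2048 L4127
theorem L4167 : sm gf N852 = N844 := flp_f L4166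
theorem L4168 : sm gb N413 = N853 := rfl
theorem L4169 : sm gb N853 = N413 := flp_b L4168
theorem L4170 : sm gg N853 = N421 := ded_17_2 L2095 L1110 L1089 L2048 L4168
theorem L4171 : sm gg N421 = N853 := flp_g L4170
theorem L4172 : sm gf N413 = N854 := rfl
theorem L4173 : sm gf N854 = N413 := flp_f L4172
theorem L4176 : sm gc N854 = N852 := ded_20_1 L4167 L4128 L4172
theorem L4178 : sm gg N854 = N843 := ded_29_3 L4120 L2047 L2048 L4172
theorem L4179 : sm gg N843 = N854 := flp_g L4178
theorem L4180 : sm gd N414 = N855 := rfl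
theorem L4181 : sm gd N855 = N414 := flp_d L4180
theorem L4182 : sm ga N855 = N422 := ded_9_1 L2097 L2053 L4180
theorem L4183 : sm ga N422 = N855 := flp_a L4182
theorem L4184 : sm ge N855 = N417 := ded_22_2 L2073 L1098 L1091 L2050 L4180
theorem L4185 : sm ge N417 = N855 := flp_e L4184
theorem L4186 : sm gf N414 = N856 := rfl
theorem L4188 : sm ga N856 = N423 := ded_11_1 L2103 L2053 L4186
theorem L4189 : sm ga N423 = N856 := flp_a L4188
theorem L4190 : sm gc N856 = N423 := ded_20_1 L2103 L2055 L4186
theorem L4194 : sm gg N414 = N857 := rfl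
theorem L4195 : sm gg N857 = N414 := flp_g L4194
theorem L4196 : sm ga N857 = N424 := ded_12_1 L2107 L2053 L4194
theorem L4197 : sm ga N424 = N857 := flp_a L4196
theorem L4198 : sm gc N857 = N424 := ded_21_1 L2107 L2055 L4194
theorem L4202 : sm gb N415 = N858 := rfl
theorem L4204 : sm gd N858 = N420 := ded_14_2 L2093 L2063 L4202
theorem L4210 : sm gc N417 = N860 := rfl
theorem L4211 : sm gc N860 = N417 := flp_c L4210
theorem L4212 : sm ga N860 = N429 := ded_8_1 L2139 L2075 L4210
theorem L4213 : sm ga N429 = N860 := flp_a L4212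
theorem L4214 : sm gf N417 = N861 := rfl
theorem L4215 : sm gf N861 = N417 := flp_f L4214
theorem L4216 : sm ga N861 = N430 := ded_11_1 L2141 L2075 L4214
theorem L4217 : sm ga N430 = N861 := flp_a L4216
theorem L4218 : sm gd N861 = N418 := ded_23_1 L2077 L2072 L4214
theorem L4219 : sm gd N418 = N861 := flp_d L4218
theorem L4220 : sm gg N417 = N862 := rfl
theorem L4221 : sm gg N862 = N417 := flp_g L4220
theorem L4222 : sm ga N862 = N431 := ded_12_1 L2145 L2075 L4220
theorem L4223 : sm ga N431 = N862 := flp_a L4222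
theorem L4224 : sm gd N862 = N419 := ded_24_1 L2085 L2072 L4220
theorem L4225 : sm gd N419 = N862 := flp_d L4224
theorem L4226 : sm gb N418 = N863 := rfl
theorem L4227 : sm gb N863 = N418 := flp_b L4226
theorem L4228 : sm ge N863 = N420 := ded_15_2 L2093 L2083 L4226
theorem L4229 : sm ge N420 = N863 := flp_e L4228
theorem L4230 : sm gb N419 = N864 := rfl
theorem L4231 : sm gb N864 = N419 := flp_b L4230
theorem L4232 : sm ge N864 = N421 := ded_15_2 L2095 L2091 L4230
theorem L4233 : sm ge N421 = N864 := flp_e L4232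
theorem L4234 : sm ga N420 = N865 := rfl
theorem L4235 : sm ga N865 = N420 := flp_a L4234
theorem L4236 : sm gf N865 = N606 := ded_30_4 L2973 L1509 L839 L485 L512 L514 L320 L321 L319 L163 L113 L114 L132 L274 L427 L720 L1108 L2092 L4234
theorem L4237 : sm gf N606 = N865 := flp_f L4236
theorem L4238 : sm ga N851 = N606 := ded_11_3 L4237 L4235 L4163
theorem L4239 : sm ga N606 = N851 := flp_a L4238
theorem L4240 : sm gc N607 = N865 := ded_20_3 L4236 L2973 L2974
theorem L4241 : sm gc N865 = N607 := flp_c L4240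
theorem L4242 : N322 = N705 := coi_30_5 L3407 L1699 L933 L946 L948 L581 L723 L721 L634 L1089 L2018 L4118 L4122 L4160 L4238 L4237 L4241 L2976 L3201 L3199
theorem L4243 : N705 = N322 := (eqc rfl L4242 rfl).symm
theorem L4244 : sm gb N322 = N368 := trf L4243 L3408 rfl
theorem L4245 : N368 = N367 := eqe L4244 L1815
theorem L4246 : N368 = N367 := eqc rfl L4245 rfl
theorem L4247 : sm gc N322 = N344 := trf L4243 L3407 rfl
theorem L4248 : N344 = N658 := eqe L4247 L3194
theorem L4249 : N658 = N344 := (eqc rfl L4248 rfl).symm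
theorem L4250 : sm ga N344 = N323 := trf L4249 L3196 rfl
theorem L4251 : N323 = N704 := eqe L4250 L3404
theorem L4252 : N704 = N323 := (eqc rfl L4251 rfl).symm
theorem L4253 : sm gc N344 = N322 := trf L4249 L3195 rfl
theorem L4255 : sm ga N323 = N344 := trf L4252 L3405 rfl
theorem L4257 : sm ga N367 = N751 := trf L4246 L3634 rfl
theorem L4258 : N751 = N188 := eqe L4257 L1811
theorem L4259 : N751 = N188 := eqc rfl L4258 rfl
theorem L4271 : sm gg N367 = N758 := trf L4246 L3663 rfl
theorem L4272 : N758 = N754 := eqe L4271 L3647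
theorem L4273 : N758 = N754 := eqc rfl L4272 rfl
theorem L4274 : sm gc N754 = N371 := trf L4273 L3665 rfl
theorem L4280 : sm gc N188 = N367 := trf L4259 L3632 rfl
theorem L4281 : sm gc N367 = N188 := flp_c L4280
theorem L4282 : sm gc N605 = N851 := ded_8_0 L4238 L2973 L2970
theorem L4284 : sm gc N644 = N707 := ded_19_3 L3416 L4253 L3125
theorem L4290 : sm ga N662 = N706 := ded_28_8 L3414 L3411 L4253 L1813 L4281 L978 L1606 L3210
theorem L4299 : sm ga N468 = N661 := ded_7_9 L3207 L4255 L1699 L933 L545 L396 L685 L1235 L2321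
theorem L4301 : sm gc N765 = N763 := ded_20_3 L3692 L4274 L3699
theorem L4302 : sm gc N763 = N765 := flp_c L4301
theorem L4303 : sm gc N668 = N468 := ded_8_0 L4299 L3208 L3234
theorem L4304 : sm gc N468 = N668 := flp_c L4303
theorem L4305 : sm gc N420 = N866 := rfl
theorem L4306 : sm gc N866 = N420 := flp_c L4305
theorem L4307 : sm ga N866 = N607 := ded_8_1 L4240 L4235 L4305
theorem L4309 : sm gf N866 = N605 := ded_20_2 L4282 L4162 L4305
theorem L4310 : sm gf N605 = N866 := flp_f L4309
theorem L4311 : sm gb N866 = N497 := ded_13_1 L2471 L1295 L1108 L2092 L4305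
theorem L4315 : sm ga N421 = N868 := rfl
theorem L4316 : sm ga N868 = N421 := flp_a L4315
theorem L4317 : sm gc N421 = N869 := rfl
theorem L4318 : sm gc N869 = N421 := flp_c L4317
theorem L4319 : sm gb N869 = N500 := ded_13_1 L2487 L1299 L1114 L2094 L4317
theorem L4320 : sm gb N500 = N869 := flp_b L4319
theorem L4321 : sm gf N421 = N870 := rfl
theorem L4322 : sm gf N870 = N421 := flp_f L4321
theorem L4323 : sm gc N422 = N871 := rfl
theorem L4324 : sm gc N871 = N422 := flp_c L4323
theorem L4325 : sm ge N871 = N429 := ded_19_2 L2139 L2101 L4323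
theorem L4326 : sm ge N429 = N871 := flp_e L4325
theorem L4327 : sm gf N422 = N872 := rfl
theorem L4328 : sm gf N872 = N422 := flp_f L4327
theorem L4329 : sm gd N872 = N423 := ded_23_1 L2103 L2096 L4327
theorem L4330 : sm gd N423 = N872 := flp_d L4329
theorem L4331 : sm ge N872 = N430 := ded_25_1 L2141 L2101 L4327
theorem L4332 : sm ge N430 = N872 := flp_e L4331
theorem L4333 : sm gg N422 = N873 := rfl
theorem L4334 : sm gg N873 = N422 := flp_g L4333
theorem L4335 : sm gd N873 = N424 := ded_24_1 L2107 L2096 L4333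
theorem L4336 : sm gd N424 = N873 := flp_d L4335
theorem L4337 : sm ge N873 = N431 := ded_26_1 L2145 L2101 L4333
theorem L4338 : sm ge N431 = N873 := flp_e L4337
theorem L4339 : sm gb N423 = N874 := rfl
theorem L4340 : sm gb N874 = N423 := flp_b L4339
theorem L4341 : sm ge N874 = N425 := ded_15_2 L2111 L2105 L4339
theorem L4342 : sm ge N425 = N874 := flp_e L4341
theorem L4343 : sm gf N874 = N450 := ded_16_2 L2242 L1193 L1118 L2102 L4339
theorem L4344 : sm gf N450 = N874 := flp_f L4343
theorem L4345 : sm gg N423 = N875 := rfl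
theorem L4346 : sm gg N875 = N423 := flp_g L4345
theorem L4347 : sm ge N875 = N426 := ded_26_1 L2117 L2105 L4345
theorem L4348 : sm ge N426 = N875 := flp_e L4347
theorem L4349 : sm gf N857 = N875 := ded_29_0 L4346 L2103 L2106 L4197
theorem L4350 : sm gf N875 = N857 := flp_f L4349
theorem L4351 : sm gb N424 = N876 := rfl
theorem L4352 : sm gb N876 = N424 := flp_b L4351
theorem L4353 : sm ge N876 = N427 := ded_15_2 L2123 L2109 L4351
theorem L4354 : sm ge N427 = N876 := flp_e L4353
theorem L4355 : sm gg N876 = N443 := ded_17_2 L2203 L1176 L1118 L2106 L4351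
theorem L4356 : sm gg N443 = N876 := flp_g L4355
theorem L4357 : sm gf N424 = N877 := rfl
theorem L4358 : sm gf N877 = N424 := flp_f L4357
theorem L4359 : sm ga N877 = N875 := ded_11_1 L4350 L4196 L4357
theorem L4360 : sm ga N875 = N877 := flp_a L4359
theorem L4361 : sm gc N877 = N875 := ded_20_1 L4350 L4198 L4357
theorem L4362 : sm gc N875 = N877 := flp_c L4361
theorem L4363 : sm ge N877 = N428 := ded_25_1 L2129 L2109 L4357
theorem L4364 : sm ge N428 = N877 := flp_e L4363
theorem L4367 : sm ga N425 = N878 := rfl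
theorem L4368 : sm ga N878 = N425 := flp_a L4367
theorem L4371 : sm gf N878 = N451 := ded_11_2 L2246 L2115 L4367
theorem L4372 : sm gf N451 = N878 := flp_f L4371
theorem L4373 : sm gc N425 = N879 := rfl
theorem L4374 : sm gc N879 = N425 := flp_c L4373
theorem L4375 : sm gf N879 = N452 := ded_20_2 L2250 L2115 L4373
theorem L4376 : sm gf N452 = N879 := flp_f L4375
theorem L4377 : sm gg N425 = N880 := rfl
theorem L4378 : sm gg N880 = N425 := flp_g L4377
theorem L4381 : sm gb N426 = N881 := rfl
theorem L4382 : sm gb N881 = N426 := flp_b L4381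
theorem L4385 : sm ga N427 = N882 := rfl
theorem L4386 : sm ga N882 = N427 := flp_a L4385
theorem L4387 : sm gd N882 = N439 := ded_9_2 L2188 L2125 L4385
theorem L4388 : sm gd N439 = N882 := flp_d L4387
theorem L4389 : sm gg N882 = N442 := ded_12_2 L2198 L2127 L4385
theorem L4395 : sm gb N428 = N884 := rfl
theorem L4396 : sm gb N884 = N428 := flp_b L4395
theorem L4399 : sm gb N429 = N885 := rfl
theorem L4400 : sm gb N885 = N429 := flp_b L4399
theorem L4401 : sm gc N885 = N454 := ded_13_2 L2256 L1201 L1130 L2138 L4399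
theorem L4402 : sm gc N454 = N885 := flp_c L4401
theorem L4403 : sm gd N429 = N886 := rfl
theorem L4404 : sm gd N886 = N429 := flp_d L4403
theorem L4405 : sm gf N429 = N887 := rfl
theorem L4406 : sm gf N887 = N429 := flp_f L4405
theorem L4407 : sm gc N887 = N430 := ded_20_1 L2141 L2138 L4405
theorem L4408 : sm gc N430 = N887 := flp_c L4407
theorem L4409 : sm gg N429 = N888 := rfl
theorem L4410 : sm gg N888 = N429 := flp_g L4409
theorem L4411 : sm gc N888 = N431 := ded_21_1 L2145 L2138 L4409
theorem L4412 : sm gc N431 = N888 := flp_c L4411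
theorem L4413 : sm gb N430 = N889 := rfl
theorem L4414 : sm gb N889 = N430 := flp_b L4413
theorem L4415 : sm gd N889 = N432 := ded_14_2 L2149 L2143 L4413
theorem L4416 : sm gd N432 = N889 := flp_d L4415
theorem L4417 : sm gf N889 = N457 := ded_16_2 L2270 L1203 L1130 L2140 L4413
theorem L4418 : sm gf N457 = N889 := flp_f L4417
theorem L4419 : sm gg N430 = N890 := rfl
theorem L4420 : sm gg N890 = N430 := flp_g L4419
theorem L4421 : sm gd N890 = N433 := ded_24_1 L2155 L2143 L4419
theorem L4422 : sm gd N433 = N890 := flp_d L4421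
theorem L4423 : sm gf N862 = N890 := ded_29_0 L4420 L2141 L2144 L4223
theorem L4424 : sm gf N890 = N862 := flp_f L4423
theorem L4425 : sm gb N431 = N891 := rfl
theorem L4426 : sm gb N891 = N431 := flp_b L4425
theorem L4429 : sm gg N891 = N458 := ded_17_2 L2274 L1207 L1130 L2144 L4425
theorem L4430 : sm gg N458 = N891 := flp_g L4429
theorem L4431 : sm gf N431 = N892 := rfl
theorem L4432 : sm gf N892 = N431 := flp_f L4431
theorem L4433 : sm ga N892 = N890 := ded_11_1 L4424 L4222 L4431
theorem L4434 : sm ga N890 = N892 := flp_a L4433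
theorem L4435 : sm gd N892 = N435 := ded_23_1 L2170 L2147 L4431
theorem L4436 : sm gd N435 = N892 := flp_d L4435
theorem L4437 : sm gg N892 = N861 := ded_29_3 L4216 L2141 L2144 L4431
theorem L4438 : sm gg N861 = N892 := flp_g L4437
theorem L4439 : sm ga N432 = N893 := rfl
theorem L4440 : sm ga N893 = N432 := flp_a L4439
theorem L4441 : sm ge N893 = N436 := ded_10_2 L2180 L2151 L4439
theorem L4442 : sm ge N436 = N893 := flp_e L4441
theorem L4443 : sm gf N893 = N460 := ded_11_2 L2286 L2153 L4439
theorem L4444 : sm gf N460 = N893 := flp_f L4443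
theorem L4445 : sm gg N432 = N894 := rfl
theorem L4446 : sm gg N894 = N432 := flp_g L4445
theorem L4447 : sm ge N894 = N437 := ded_26_1 L2184 L2151 L4445
theorem L4448 : sm ge N437 = N894 := flp_e L4447
theorem L4449 : sm gb N433 = N895 := rfl
theorem L4450 : sm gb N895 = N433 := flp_b L4449
theorem L4451 : sm ge N895 = N438 := ded_15_2 L2186 L2159 L4449
theorem L4452 : sm ge N438 = N895 := flp_e L4451
theorem L4465 : sm gb N435 = N898 := rfl
theorem L4466 : sm gb N898 = N435 := flp_b L4465
theorem L4467 : sm ge N898 = N441 := ded_15_2 L2196 L2176 L4465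
theorem L4468 : sm ge N441 = N898 := flp_e L4467
theorem L4469 : sm gb N436 = N899 := rfl
theorem L4470 : sm gb N899 = N436 := flp_b L4469
theorem L4471 : sm gb N437 = N900 := rfl
theorem L4472 : sm gb N900 = N437 := flp_b L4471
theorem L4473 : sm gg N900 = N438 := ded_17_2 L2186 L1148 L1143 L2183 L4471
theorem L4474 : sm gg N438 = N900 := flp_g L4473
theorem L4475 : sm ga N438 = N901 := rfl
theorem L4476 : sm ga N901 = N438 := flp_a L4475
theorem L4481 : sm gf N438 = N903 := rfl
theorem L4482 : sm gf N903 = N438 := flp_f L4481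
theorem L4483 : sm gb N903 = N870 := ded_16_1 L4322 L2095 L1151 L2185 L4481
theorem L4484 : sm gb N870 = N903 := flp_b L4483
theorem L4485 : sm gb N439 = N904 := rfl
theorem L4486 : sm gb N904 = N439 := flp_b L4485
theorem L4487 : sm gb N440 = N905 := rfl
theorem L4488 : sm gb N905 = N440 := flp_b L4487
theorem L4489 : sm gf N905 = N441 := ded_16_2 L2196 L1159 L1153 L2192 L4487
theorem L4493 : sm gc N441 = N907 := rfl
theorem L4495 : sm gb N907 = N514 := ded_13_1 L2557 L1338 L1163 L2195 L4493
theorem L4496 : sm gb N514 = N907 := flp_b L4495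
theorem L4497 : sm gg N441 = N908 := rfl
theorem L4498 : sm gg N908 = N441 := flp_g L4497
theorem L4505 : sm ge N442 = N910 := rfl
theorem L4507 : sm ga N910 = N443 := ded_10_1 L2202 L2197 L4505
theorem L4508 : sm ga N443 = N910 := flp_a L4507
theorem L4509 : sm gf N442 = N911 := rfl
theorem L4510 : sm gf N911 = N442 := flp_f L4509
theorem L4517 : sm gd N443 = N912 := rfl
theorem L4519 : sm gb N912 = N445 := ded_14_1 L2210 L2204 L4517
theorem L4520 : sm gb N445 = N912 := flp_b L4519
theorem L4523 : sm gf N443 = N913 := rfl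
theorem L4524 : sm gf N913 = N443 := flp_f L4523
theorem L4527 : sm gb N444 = N914 := rfl
theorem L4531 : sm gf N914 = N447 := ded_16_2 L2228 L1179 L1166 L2205 L4527
theorem L4532 : sm gf N447 = N914 := flp_f L4531
theorem L4533 : sm gg N444 = N915 := rfl
theorem L4534 : sm gg N915 = N444 := flp_g L4533
theorem L4537 : sm gd N915 = N471 := ded_24_1 L2335 L2208 L4533
theorem L4539 : sm gf N882 = N915 := ded_29_0 L4534 L2206 L2127 L4385
theorem L4540 : sm gf N915 = N882 := flp_f L4539
theorem L4541 : sm gc N445 = N916 := rfl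
theorem L4542 : sm gc N916 = N445 := flp_c L4541
theorem L4543 : sm ga N916 = N737 := ded_8_1 L3560 L2212 L4541
theorem L4544 : sm ga N737 = N916 := flp_a L4543
theorem L4545 : sm ge N916 = N456 := ded_19_2 L2265 L2216 L4541
theorem L4546 : sm ge N456 = N916 := flp_e L4545
theorem L4547 : sm gg N916 = N448 := ded_21_2 L2232 L2214 L4541
theorem L4548 : sm gg N448 = N916 := flp_g L4547
theorem L4549 : sm gf N445 = N917 := rfl
theorem L4550 : sm gf N917 = N445 := flp_f L4549
theorem L4551 : sm ga N917 = N738 := ded_11_1 L3564 L2212 L4549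
theorem L4552 : sm ga N738 = N917 := flp_a L4551
theorem L4553 : sm gd N917 = N446 := ded_23_1 L2218 L2209 L4549
theorem L4554 : sm gd N446 = N917 := flp_d L4553
theorem L4555 : sm ge N917 = N459 := ded_25_1 L2278 L2216 L4549
theorem L4556 : sm ge N459 = N917 := flp_e L4555
theorem L4559 : sm gb N446 = N918 := rfl
theorem L4560 : sm gb N918 = N446 := flp_b L4559
theorem L4561 : sm ge N918 = N447 := ded_15_2 L2228 L2224 L4559
theorem L4563 : sm ga N447 = N919 := rfl
theorem L4564 : sm ga N919 = N447 := flp_a L4563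
theorem L4565 : sm gd N919 = N472 := ded_9_2 L2342 L2230 L4563
theorem L4566 : sm gd N472 = N919 := flp_d L4565
theorem L4567 : sm gc N447 = N920 := rfl
theorem L4569 : sm gb N920 = N452 := ded_13_1 L2250 L1197 L1183 L2227 L4567
theorem L4577 : sm gb N448 = N922 := rfl
theorem L4578 : sm gb N922 = N448 := flp_b L4577
theorem L4579 : sm ge N922 = N454 := ded_15_2 L2256 L2234 L4577
theorem L4580 : sm ge N454 = N922 := flp_e L4579
theorem L4581 : sm gd N448 = N923 := rfl
theorem L4582 : sm gd N923 = N448 := flp_d L4581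
theorem L4583 : sm gf N448 = N924 := rfl
theorem L4584 : sm gf N924 = N448 := flp_f L4583
theorem L4585 : sm gc N924 = N449 := ded_20_1 L2236 L2231 L4583
theorem L4586 : sm gc N449 = N924 := flp_c L4585
theorem L4587 : sm ge N924 = N455 := ded_25_1 L2258 L2234 L4583
theorem L4588 : sm ge N455 = N924 := flp_e L4587
theorem L4589 : sm gb N449 = N925 := rfl
theorem L4590 : sm gb N925 = N449 := flp_b L4589
theorem L4591 : sm gd N925 = N450 := ded_14_2 L2242 L2238 L4589
theorem L4592 : sm gd N450 = N925 := flp_d L4591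
theorem L4593 : sm ge N925 = N457 := ded_15_2 L2270 L2240 L4589
theorem L4594 : sm ge N457 = N925 := flp_e L4593
theorem L4595 : sm ga N450 = N926 := rfl
theorem L4596 : sm ga N926 = N450 := flp_a L4595
theorem L4597 : sm ge N926 = N451 := ded_10_2 L2246 L2244 L4595
theorem L4598 : sm ge N451 = N926 := flp_e L4597
theorem L4599 : sm gc N450 = N927 := rfl
theorem L4600 : sm gc N927 = N450 := flp_c L4599
theorem L4601 : sm ge N927 = N452 := ded_19_2 L2250 L2244 L4599
theorem L4602 : sm ge N452 = N927 := flp_e L4601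
theorem L4603 : sm gg N450 = N928 := rfl
theorem L4604 : sm gg N928 = N450 := flp_g L4603
theorem L4607 : sm gb N451 = N929 := rfl
theorem L4609 : sm gd N929 = N465 := ded_14_2 L2308 L2248 L4607
theorem L4610 : sm gd N465 = N929 := flp_d L4609
theorem L4611 : sm gc N451 = N930 := rfl
theorem L4613 : sm ga N930 = N452 := ded_8_1 L2250 L2245 L4611
theorem L4614 : sm ga N452 = N930 := flp_a L4613
theorem L4615 : sm gg N451 = N931 := rfl
theorem L4616 : sm gg N931 = N451 := flp_g L4615
theorem L4617 : sm ga N931 = N453 := ded_12_1 L2252 L2245 L4615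
theorem L4621 : sm gf N931 = N880 := ded_29_2 L4378 L4367 L4371 L4615
theorem L4622 : sm gf N880 = N931 := flp_f L4621
theorem L4623 : sm gd N452 = N932 := rfl
theorem L4624 : sm gd N932 = N452 := flp_d L4623
theorem L4625 : sm gg N452 = N933 := rfl
theorem L4626 : sm gg N933 = N452 := flp_g L4625
theorem L4627 : sm gc N933 = N453 := ded_21_1 L2252 L2249 L4625
theorem L4628 : sm gc N453 = N933 := flp_c L4627
theorem L4629 : sm gf N453 = N934 := rfl
theorem L4631 : sm ga N934 = N880 := ded_11_1 L4622 L4617 L4629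
theorem L4632 : sm ga N880 = N934 := flp_a L4631
theorem L4633 : sm gd N934 = N467 := ded_23_1 L2316 L2254 L4629
theorem L4637 : sm ga N454 = N935 := rfl
theorem L4638 : sm ga N935 = N454 := flp_a L4637
theorem L4639 : sm gf N454 = N936 := rfl
theorem L4640 : sm gf N936 = N454 := flp_f L4639
theorem L4641 : sm gg N454 = N937 := rfl
theorem L4642 : sm gg N937 = N454 := flp_g L4641
theorem L4643 : sm gb N455 = N938 := rfl
theorem L4644 : sm gb N938 = N455 := flp_b L4643
theorem L4645 : sm gb N456 = N939 := rfl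
theorem L4646 : sm gb N939 = N456 := flp_b L4645
theorem L4647 : sm gd N939 = N743 := ded_14_2 L3588 L2268 L4645
theorem L4648 : sm gd N743 = N939 := flp_d L4647
theorem L4649 : sm gf N456 = N940 := rfl
theorem L4650 : sm gf N940 = N456 := flp_f L4649
theorem L4651 : sm ga N940 = N744 := ded_11_1 L3590 L2264 L4649
theorem L4652 : sm ga N744 = N940 := flp_a L4651
theorem L4653 : sm gc N940 = N459 := ded_20_1 L2278 L2266 L4649
theorem L4654 : sm gc N459 = N940 := flp_c L4653
theorem L4655 : sm gd N940 = N744 := ded_23_1 L3590 L2268 L4649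
theorem L4656 : sm gd N744 = N940 := flp_d L4655
theorem L4657 : sm gg N940 = N834 := ded_29_3 L4066 L2258 L2261 L4649
theorem L4658 : sm gg N834 = N940 := flp_g L4657
theorem L4659 : sm ga N457 = N941 := rfl
theorem L4660 : sm ga N941 = N457 := flp_a L4659
theorem L4661 : sm gd N941 = N460 := ded_9_2 L2286 L2272 L4659
theorem L4662 : sm gd N460 = N941 := flp_d L4661
theorem L4663 : sm gc N457 = N942 := rfl
theorem L4664 : sm gc N942 = N457 := flp_c L4663
theorem L4665 : sm gg N457 = N943 := rfl
theorem L4666 : sm gg N943 = N457 := flp_g L4665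
theorem L4667 : sm gd N943 = N461 := ded_24_1 L2290 L2272 L4665
theorem L4668 : sm gd N461 = N943 := flp_d L4667
theorem L4669 : sm ga N458 = N944 := rfl
theorem L4670 : sm ga N944 = N458 := flp_a L4669
theorem L4671 : sm gd N944 = N462 := ded_9_2 L2294 L2276 L4669
theorem L4673 : sm gc N458 = N945 := rfl
theorem L4674 : sm gc N945 = N458 := flp_c L4673
theorem L4675 : sm gf N458 = N946 := rfl
theorem L4676 : sm gf N946 = N458 := flp_f L4675
theorem L4677 : sm gd N946 = N463 := ded_23_1 L2299 L2276 L4675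
theorem L4678 : sm gd N463 = N946 := flp_d L4677
theorem L4679 : sm gb N459 = N947 := rfl
theorem L4680 : sm gb N947 = N459 := flp_b L4679
theorem L4681 : sm gd N947 = N464 := ded_14_2 L2304 L2282 L4679
theorem L4682 : sm gd N464 = N947 := flp_d L4681
theorem L4683 : sm gb N460 = N948 := rfl
theorem L4684 : sm gb N948 = N460 := flp_b L4683
theorem L4685 : sm ge N948 = N465 := ded_15_2 L2308 L2288 L4683
theorem L4686 : sm ge N465 = N948 := flp_e L4685
theorem L4687 : sm gg N460 = N949 := rfl
theorem L4688 : sm gg N949 = N460 := flp_g L4687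
theorem L4689 : sm ga N949 = N461 := ded_12_1 L2290 L2285 L4687
theorem L4691 : sm ge N949 = N466 := ded_26_1 L2310 L2288 L4687
theorem L4692 : sm ge N466 = N949 := flp_e L4691
theorem L4693 : sm gf N949 = N894 := ded_29_2 L4446 L4439 L4443 L4687
theorem L4694 : sm gf N894 = N949 := flp_f L4693
theorem L4695 : sm gf N461 = N950 := rfl
theorem L4696 : sm gf N950 = N461 := flp_f L4695
theorem L4697 : sm ga N950 = N894 := ded_11_1 L4694 L4689 L4695
theorem L4698 : sm ga N894 = N950 := flp_a L4697
theorem L4699 : sm ge N950 = N467 := ded_25_1 L2316 L2292 L4695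
theorem L4700 : sm ge N467 = N950 := flp_e L4699
theorem L4701 : sm gg N950 = N893 := ded_29_3 L4440 L2152 L2289 L4695
theorem L4702 : sm gg N893 = N950 := flp_g L4701
theorem L4716 : sm gb N463 = N953 := rfl
theorem L4717 : sm gb N953 = N463 := flp_b L4716
theorem L4718 : sm ge N953 = N470 := ded_15_2 L2331 L2302 L4716
theorem L4719 : sm ge N470 = N953 := flp_e L4718
theorem L4720 : sm gf N953 = N464 := ded_16_2 L2304 L1222 L1216 L2298 L4716
theorem L4721 : sm gf N464 = N953 := flp_f L4720
theorem L4731 : sm ga N464 = N955 := rfl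
theorem L4732 : sm ga N955 = N464 := flp_a L4731
theorem L4733 : sm ge N955 = N472 := ded_10_2 L2342 L2306 L4731
theorem L4734 : sm ge N472 = N955 := flp_e L4733
theorem L4735 : sm gc N464 = N956 := rfl
theorem L4736 : sm gc N956 = N464 := flp_c L4735
theorem L4737 : sm ge N956 = N473 := ded_19_2 L2344 L2306 L4735
theorem L4738 : sm ge N473 = N956 := flp_e L4737
theorem L4739 : sm gb N956 = N475 := ded_13_1 L2352 L1244 L1226 L2303 L4735
theorem L4740 : sm gb N475 = N956 := flp_b L4739
theorem L4741 : sm gg N464 = N957 := rfl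
theorem L4742 : sm gg N957 = N464 := flp_g L4741
theorem L4743 : sm ge N957 = N474 := ded_26_1 L2348 L2306 L4741
theorem L4744 : sm ge N474 = N957 := flp_e L4743
theorem L4745 : sm gb N957 = N837 := ded_17_1 L4082 L2008 L1230 L2303 L4741
theorem L4746 : sm gb N837 = N957 := flp_b L4745
theorem L4747 : sm ga N465 = N958 := rfl
theorem L4748 : sm ga N958 = N465 := flp_a L4747
theorem L4749 : sm gc N465 = N959 := rfl
theorem L4750 : sm gc N959 = N465 := flp_c L4749
theorem L4751 : sm gf N465 = N960 := rfl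
theorem L4752 : sm gf N960 = N465 := flp_f L4751
theorem L4753 : sm gg N465 = N961 := rfl
theorem L4754 : sm gg N961 = N465 := flp_g L4753
theorem L4755 : sm gb N466 = N962 := rfl
theorem L4756 : sm gb N962 = N466 := flp_b L4755
theorem L4757 : sm gb N467 = N963 := rfl
theorem L4758 : sm gb N963 = N467 := flp_b L4757
theorem L4759 : sm gf N468 = N964 := rfl
theorem L4761 : sm gg N468 = N965 := rfl
theorem L4762 : sm gg N965 = N468 := flp_g L4761
theorem L4763 : sm gb N469 = N966 := rfl
theorem L4764 : sm gb N966 = N469 := flp_b L4763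
theorem L4765 : sm ga N470 = N967 := rfl
theorem L4766 : sm ga N967 = N470 := flp_a L4765
theorem L4767 : sm gf N967 = N472 := ded_11_2 L2342 L2333 L4765
theorem L4768 : sm gf N472 = N967 := flp_f L4767
theorem L4769 : sm gc N470 = N968 := rfl
theorem L4770 : sm gc N968 = N470 := flp_c L4769
theorem L4771 : sm gf N968 = N473 := ded_20_2 L2344 L2333 L4769
theorem L4772 : sm gf N473 = N968 := flp_f L4771
theorem L4776 : sm gb N471 = N970 := rfl
theorem L4778 : sm gb N472 = N971 := rfl
theorem L4779 : sm gb N971 = N472 := flp_b L4778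
theorem L4780 : sm gc N472 = N972 := rfl
theorem L4781 : sm gc N972 = N472 := flp_c L4780
theorem L4782 : sm ga N972 = N473 := ded_8_1 L2344 L2341 L4780
theorem L4783 : sm ga N473 = N972 := flp_a L4782
theorem L4784 : sm gg N472 = N973 := rfl
theorem L4785 : sm gg N973 = N472 := flp_g L4784
theorem L4786 : sm ga N973 = N474 := ded_12_1 L2348 L2341 L4784
theorem L4790 : sm gd N473 = N974 := rfl
theorem L4791 : sm gd N974 = N473 := flp_d L4790
theorem L4792 : sm gb N974 = N476 := ded_14_1 L2359 L2346 L4790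
theorem L4793 : sm gb N476 = N974 := flp_b L4792
theorem L4794 : sm gg N473 = N975 := rfl
theorem L4795 : sm gg N975 = N473 := flp_g L4794
theorem L4799 : sm gf N474 = N976 := rfl
theorem L4800 : sm gf N976 = N474 := flp_f L4799
theorem L4803 : sm gg N976 = N967 := ded_29_3 L4766 L2332 L2347 L4799
theorem L4804 : sm gg N967 = N976 := flp_g L4803
theorem L4805 : sm gd N475 = N977 := rfl
theorem L4806 : sm gd N977 = N475 := flp_d L4805
theorem L4807 : sm ga N977 = N977 := ded_9_1 L4806 L2353 L4805
theorem L4810 : sm ge N476 = N978 := rfl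
theorem L4811 : sm ge N978 = N476 := flp_e L4810
theorem L4824 : sm gf N477 = N980 := rfl
theorem L4826 : sm ga N980 = N485 := ded_11_1 L2403 L2367 L4824
theorem L4828 : sm ge N980 = N478 := ded_25_1 L2371 L2364 L4824
theorem L4829 : sm ge N478 = N980 := flp_e L4828
theorem L4830 : sm gg N477 = N981 := rfl
theorem L4832 : sm ga N981 = N486 := ded_12_1 L2407 L2367 L4830
theorem L4834 : sm ge N981 = N479 := ded_26_1 L2377 L2364 L4830
theorem L4835 : sm ge N479 = N981 := flp_e L4834
theorem L4836 : sm gb N478 = N982 := rfl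
theorem L4837 : sm gb N982 = N478 := flp_b L4836
theorem L4840 : sm gf N982 = N526 := ded_16_2 L2623 L1357 L1261 L2370 L4836
theorem L4841 : sm gf N526 = N982 := flp_f L4840
theorem L4842 : sm gb N479 = N983 := rfl
theorem L4843 : sm gb N983 = N479 := flp_b L4842
theorem L4846 : sm gg N983 = N527 := ded_17_2 L2625 L1361 L1261 L2376 L4842
theorem L4847 : sm gg N527 = N983 := flp_g L4846
theorem L4862 : sm gf N481 = N989 := rfl
theorem L4863 : sm gf N989 = N481 := flp_f L4862
theorem L4866 : sm ge N989 = N482 := ded_25_1 L2389 L2384 L4862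
theorem L4867 : sm ge N482 = N989 := flp_e L4866
theorem L4868 : sm gg N481 = N990 := rfl
theorem L4869 : sm gg N990 = N481 := flp_g L4868
theorem L4874 : sm gb N482 = N991 := rfl
theorem L4875 : sm gb N991 = N482 := flp_b L4874
theorem L4876 : sm gg N482 = N992 := rfl
theorem L4877 : sm gg N992 = N482 := flp_g L4876
theorem L4878 : sm gc N992 = N488 := ded_21_1 L2417 L2391 L4876
theorem L4879 : sm gc N488 = N992 := flp_c L4878
theorem L4880 : sm gf N797 = N992 := ded_29_0 L4877 L2389 L2392 L3884
theorem L4881 : sm gf N992 = N797 := flp_f L4880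
theorem L4884 : sm gf N483 = N994 := rfl
theorem L4885 : sm gf N994 = N483 := flp_f L4884
theorem L4886 : sm ga N994 = N992 := ded_11_1 L4881 L3883 L4884
theorem L4890 : sm gg N994 = N796 := ded_29_3 L3877 L2389 L2392 L4884
theorem L4891 : sm gg N796 = N994 := flp_g L4890
theorem L4892 : sm gc N484 = N995 := rfl
theorem L4894 : sm ge N995 = N539 := ded_19_2 L2675 L2401 L4892
theorem L4896 : sm gf N484 = N996 := rfl
theorem L4898 : sm gd N996 = N485 := ded_23_1 L2403 L2396 L4896
theorem L4899 : sm gd N485 = N996 := flp_d L4898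
theorem L4902 : sm gg N484 = N997 := rfl
theorem L4903 : sm gg N997 = N484 := flp_g L4902
theorem L4904 : sm gd N997 = N486 := ded_24_1 L2407 L2396 L4902
theorem L4905 : sm gd N486 = N997 := flp_d L4904
theorem L4906 : sm ge N997 = N541 := ded_26_1 L2681 L2401 L4902
theorem L4907 : sm ge N541 = N997 := flp_e L4906
theorem L4908 : sm gb N485 = N998 := rfl
theorem L4909 : sm gb N998 = N485 := flp_b L4908
theorem L4910 : sm ge N998 = N487 := ded_15_2 L2411 L2405 L4908
theorem L4911 : sm ge N487 = N998 := flp_e L4910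
theorem L4912 : sm gf N998 = N494 := ded_16_2 L2459 L1283 L1267 L2402 L4908
theorem L4913 : sm gf N494 = N998 := flp_f L4912
theorem L4914 : sm gg N485 = N999 := rfl
theorem L4916 : sm ge N999 = N488 := ded_26_1 L2417 L2405 L4914
theorem L4917 : sm ge N488 = N999 := flp_e L4916
theorem L4920 : sm gb N486 = N1000 := rfl
theorem L4921 : sm gb N1000 = N486 := flp_b L4920
theorem L4924 : sm gg N1000 = N495 := ded_17_2 L2463 L1289 L1267 L2406 L4920
theorem L4925 : sm gg N495 = N1000 := flp_g L4924
theorem L4926 : sm gf N486 = N1001 := rfl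
theorem L4927 : sm gf N1001 = N486 := flp_f L4926
theorem L4932 : sm gg N1001 = N980 := ded_29_3 L4826 L2403 L2406 L4926
theorem L4938 : sm gb N488 = N1003 := rfl
theorem L4939 : sm gb N1003 = N488 := flp_b L4938
theorem L4942 : sm ga N489 = N1004 := rfl
theorem L4946 : sm gg N1004 = N499 := ded_12_2 L2483 L2427 L4942
theorem L4956 : sm gb N490 = N1007 := rfl
theorem L4958 : sm gd N1007 = N553 := ded_14_2 L2735 L2433 L4956
theorem L4959 : sm gd N553 = N1007 := flp_d L4958
theorem L4960 : sm gb N491 = N1008 := rfl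
theorem L4961 : sm gb N1008 = N491 := flp_b L4960
theorem L4962 : sm ge N1008 = N554 := ded_15_2 L2737 L2441 L4960
theorem L4963 : sm ge N554 = N1008 := flp_e L4962
theorem L4964 : sm gd N491 = N1009 := rfl
theorem L4965 : sm gd N1009 = N491 := flp_d L4964
theorem L4966 : sm ga N1009 = N503 := ded_9_1 L2499 L2439 L4964
theorem L4967 : sm ga N503 = N1009 := flp_a L4966
theorem L4968 : sm gc N1009 = N886 := ded_28_6 L4404 L4213 L4211 L2073 L1101 L1276 L2436 L4964
theorem L4969 : sm gc N886 = N1009 := flp_c L4968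
theorem L4970 : sm gf N491 = N1010 := rfl
theorem L4971 : sm gf N1010 = N491 := flp_f L4970
theorem L4972 : sm ga N1010 = N504 := ded_11_1 L2501 L2439 L4970
theorem L4973 : sm ga N504 = N1010 := flp_a L4972
theorem L4974 : sm gc N1010 = N492 := ded_20_1 L2443 L2436 L4970
theorem L4975 : sm gc N492 = N1010 := flp_c L4974
theorem L4976 : sm ge N1010 = N556 := ded_25_1 L2745 L2441 L4970
theorem L4977 : sm ge N556 = N1010 := flp_e L4976
theorem L4978 : sm gg N491 = N1011 := rfl
theorem L4979 : sm gg N1011 = N491 := flp_g L4978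
theorem L4980 : sm ga N1011 = N505 := ded_12_1 L2507 L2439 L4978
theorem L4981 : sm ga N505 = N1011 := flp_a L4980
theorem L4982 : sm gc N1011 = N493 := ded_21_1 L2451 L2436 L4978
theorem L4983 : sm gc N493 = N1011 := flp_c L4982
theorem L4984 : sm ge N1011 = N557 := ded_26_1 L2751 L2441 L4978
theorem L4985 : sm ge N557 = N1011 := flp_e L4984
theorem L4986 : sm gb N492 = N1012 := rfl
theorem L4987 : sm gb N1012 = N492 := flp_b L4986
theorem L4988 : sm gd N1012 = N494 := ded_14_2 L2459 L2447 L4986
theorem L4989 : sm gd N494 = N1012 := flp_d L4988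
theorem L4990 : sm ge N1012 = N558 := ded_15_2 L2757 L2449 L4986
theorem L4991 : sm ge N558 = N1012 := flp_e L4990
theorem L4992 : sm gb N493 = N1013 := rfl
theorem L4993 : sm gb N1013 = N493 := flp_b L4992
theorem L4996 : sm ge N1013 = N559 := ded_15_2 L2761 L2457 L4992
theorem L4997 : sm ge N559 = N1013 := flp_e L4996
theorem L4998 : sm ga N494 = N1014 := rfl
theorem L4999 : sm ga N1014 = N494 := flp_a L4998
theorem L5000 : sm ge N1014 = N496 := ded_10_2 L2467 L2461 L4998
theorem L5001 : sm ge N496 = N1014 := flp_e L5000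
theorem L5002 : sm gc N998 = N1014 := ded_19_3 L5000 L2475 L4911
theorem L5003 : sm gc N1014 = N998 := flp_c L5002
theorem L5004 : sm gc N494 = N1015 := rfl
theorem L5005 : sm gc N1015 = N494 := flp_c L5004
theorem L5006 : sm ga N1015 = N998 := ded_8_1 L5002 L4999 L5004
theorem L5007 : sm ga N998 = N1015 := flp_a L5006
theorem L5008 : sm ge N1015 = N497 := ded_19_2 L2471 L2461 L5004
theorem L5009 : sm ge N497 = N1015 := flp_e L5008
theorem L5010 : sm gf N1015 = N1014 := ded_20_2 L5003 L4912 L5004
theorem L5011 : sm gf N1014 = N1015 := flp_f L5010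
theorem L5012 : sm gg N494 = N1016 := rfl
theorem L5013 : sm gg N1016 = N494 := flp_g L5012
theorem L5014 : sm ge N1016 = N498 := ded_26_1 L2479 L2461 L5012
theorem L5015 : sm ge N498 = N1016 := flp_e L5014
theorem L5016 : sm ga N495 = N1017 := rfl
theorem L5017 : sm ga N1017 = N495 := flp_a L5016
theorem L5018 : sm ge N1017 = N499 := ded_10_2 L2483 L2465 L5016
theorem L5019 : sm ge N499 = N1017 := flp_e L5018
theorem L5020 : sm gc N495 = N1018 := rfl
theorem L5021 : sm gc N1018 = N495 := flp_c L5020
theorem L5022 : sm ge N1018 = N500 := ded_19_2 L2487 L2465 L5020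
theorem L5023 : sm ge N500 = N1018 := flp_e L5022
theorem L5024 : sm gf N495 = N1019 := rfl
theorem L5025 : sm gf N1019 = N495 := flp_f L5024
theorem L5026 : sm ge N1019 = N501 := ded_25_1 L2489 L2465 L5024
theorem L5027 : sm ge N501 = N1019 := flp_e L5026
theorem L5028 : sm gb N496 = N1020 := rfl
theorem L5030 : sm gd N1020 = N566 := ded_14_2 L2791 L2469 L5028
theorem L5032 : sm gc N1020 = N991 := ded_13_2 L4875 L2390 L2410 L2474 L5028
theorem L5033 : sm gc N991 = N1020 := flp_c L5032
theorem L5034 : sm gg N496 = N1021 := rfl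
theorem L5035 : sm gg N1021 = N496 := flp_g L5034
theorem L5036 : sm ga N1021 = N498 := ded_12_1 L2479 L2466 L5034
theorem L5037 : sm ga N498 = N1021 := flp_a L5036
theorem L5040 : sm gd N1021 = N568 := ded_24_1 L2797 L2469 L5034
theorem L5044 : sm gg N497 = N1022 := rfl
theorem L5045 : sm gg N1022 = N497 := flp_g L5044
theorem L5048 : sm gc N1022 = N498 := ded_21_1 L2479 L2470 L5044
theorem L5050 : sm gd N1022 = N571 := ded_24_1 L2813 L2712 L5044
theorem L5051 : sm gd N571 = N1022 := flp_d L5050
theorem L5052 : sm gf N498 = N1022 := ded_29_0 L5045 L2473 L5034 L5036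
theorem L5053 : sm gf N1022 = N498 := flp_f L5052
theorem L5054 : sm gg N1007 = N605 := ded_31_12 L4310 L4311 L5044 L5053 L2564 L2560 L1341 L1338 L759 L721 L712 L1272 L2428 L4956
theorem L5058 : sm gg N771 = N553 := ded_24_2 L4959 L5054 L3740
theorem L5059 : sm gg N553 = N771 := flp_g L5058
theorem L5067 : sm gc N499 = N1024 := rfl
theorem L5069 : sm ga N1024 = N500 := ded_8_1 L2487 L2482 L5067
theorem L5070 : sm ga N500 = N1024 := flp_a L5069
theorem L5071 : sm gf N499 = N1025 := rfl
theorem L5072 : sm gf N1025 = N499 := flp_f L5071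
theorem L5073 : sm ga N1025 = N501 := ded_11_1 L2489 L2482 L5071
theorem L5074 : sm ga N501 = N1025 := flp_a L5073
theorem L5079 : sm gd N500 = N1026 := rfl
theorem L5080 : sm gd N1026 = N500 := flp_d L5079
theorem L5081 : sm gf N500 = N1027 := rfl
theorem L5082 : sm gf N1027 = N500 := flp_f L5081
theorem L5083 : sm gc N1027 = N501 := ded_20_1 L2489 L2486 L5081
theorem L5085 : sm gg N501 = N1028 := rfl
theorem L5086 : sm gg N1028 = N501 := flp_g L5085
theorem L5091 : sm gf N1004 = N1028 := ded_29_0 L5086 L2489 L2427 L4942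
theorem L5092 : sm gf N1028 = N1004 := flp_f L5091
theorem L5093 : sm ga N502 = N1029 := rfl
theorem L5094 : sm ga N1029 = N502 := flp_a L5093
theorem L5095 : sm gc N1029 = N516 := ded_8_2 L2566 L2497 L5093
theorem L5096 : sm gc N516 = N1029 := flp_c L5095
theorem L5097 : sm ge N1029 = N578 := ded_10_2 L2842 L2495 L5093
theorem L5098 : sm ge N578 = N1029 := flp_e L5097
theorem L5099 : sm gd N502 = N1030 := rfl
theorem L5100 : sm gd N1030 = N502 := flp_d L5099
theorem L5101 : sm gb N1030 = N503 := ded_14_1 L2499 L2492 L5099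
theorem L5102 : sm gb N503 = N1030 := flp_b L5101
theorem L5103 : sm gf N502 = N1031 := rfl
theorem L5104 : sm gf N1031 = N502 := flp_f L5103
theorem L5105 : sm gc N1031 = N517 := ded_20_1 L2572 L2497 L5103
theorem L5106 : sm gc N517 = N1031 := flp_c L5105
theorem L5107 : sm ge N1031 = N580 := ded_25_1 L2850 L2495 L5103
theorem L5108 : sm ge N580 = N1031 := flp_e L5107
theorem L5109 : sm gg N502 = N1032 := rfl
theorem L5110 : sm gg N1032 = N502 := flp_g L5109
theorem L5111 : sm gc N1032 = N518 := ded_21_1 L2578 L2497 L5109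
theorem L5112 : sm gc N518 = N1032 := flp_c L5111
theorem L5113 : sm ge N1032 = N581 := ded_26_1 L2854 L2495 L5109
theorem L5114 : sm ge N581 = N1032 := flp_e L5113
theorem L5115 : sm gc N503 = N1033 := rfl
theorem L5116 : sm gc N1033 = N503 := flp_c L5115
theorem L5117 : sm ga N1033 = N886 := ded_8_1 L4969 L4966 L5115
theorem L5118 : sm ga N886 = N1033 := flp_a L5117
theorem L5119 : sm gd N1033 = N860 := ded_28_7 L4212 L2139 L1128 L643 L732 L1302 L2498 L5115
theorem L5120 : sm gd N860 = N1033 := flp_d L5119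
theorem L5121 : sm ge N503 = N1034 := rfl
theorem L5122 : sm ge N1034 = N503 := flp_e L5121
theorem L5123 : sm gd N1034 = N582 := ded_22_1 L2858 L1453 L1305 L2498 L5121
theorem L5124 : sm gd N582 = N1034 := flp_d L5123
theorem L5125 : sm gf N503 = N1035 := rfl
theorem L5126 : sm gf N1035 = N503 := flp_f L5125
theorem L5127 : sm gd N1035 = N504 := ded_23_1 L2501 L2498 L5125
theorem L5128 : sm gd N504 = N1035 := flp_d L5127
theorem L5129 : sm gg N503 = N1036 := rfl
theorem L5130 : sm gg N1036 = N503 := flp_g L5129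
theorem L5131 : sm gd N1036 = N505 := ded_24_1 L2507 L2498 L5129
theorem L5132 : sm gd N505 = N1036 := flp_d L5131
theorem L5133 : sm gb N504 = N1037 := rfl
theorem L5134 : sm gb N1037 = N504 := flp_b L5133
theorem L5135 : sm ge N1037 = N585 := ded_15_2 L2868 L2505 L5133
theorem L5136 : sm ge N585 = N1037 := flp_e L5135
theorem L5137 : sm gg N504 = N1038 := rfl
theorem L5138 : sm gg N1038 = N504 := flp_g L5137
theorem L5139 : sm gc N1038 = N506 := ded_21_1 L2513 L2503 L5137
theorem L5140 : sm gc N506 = N1038 := flp_c L5139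
theorem L5141 : sm ge N1038 = N586 := ded_26_1 L2870 L2505 L5137
theorem L5142 : sm ge N586 = N1038 := flp_e L5141
theorem L5143 : sm gf N1011 = N1038 := ded_29_0 L5138 L2501 L2506 L4981
theorem L5144 : sm gf N1038 = N1011 := flp_f L5143
theorem L5145 : sm gb N505 = N1039 := rfl
theorem L5146 : sm gb N1039 = N505 := flp_b L5145
theorem L5147 : sm ge N1039 = N587 := ded_15_2 L2876 L2511 L5145
theorem L5148 : sm ge N587 = N1039 := flp_e L5147
theorem L5149 : sm gc N1039 = N1039 := ded_13_2 L5146 L2508 L1318 L2509 L5145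
theorem L5150 : sm gf N505 = N1040 := rfl
theorem L5151 : sm gf N1040 = N505 := flp_f L5150
theorem L5152 : sm ga N1040 = N1038 := ded_11_1 L5144 L4980 L5150
theorem L5153 : sm ga N1038 = N1040 := flp_a L5152
theorem L5154 : sm gc N1040 = N507 := ded_20_1 L2521 L2509 L5150
theorem L5155 : sm gc N507 = N1040 := flp_c L5154
theorem L5156 : sm ge N1040 = N588 := ded_25_1 L2879 L2511 L5150
theorem L5157 : sm ge N588 = N1040 := flp_e L5156
theorem L5158 : sm gg N1040 = N1010 := ded_29_3 L4972 L2501 L2506 L5150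
theorem L5159 : sm gg N1010 = N1040 := flp_g L5158
theorem L5160 : sm gb N506 = N1041 := rfl
theorem L5161 : sm gb N1041 = N506 := flp_b L5160
theorem L5162 : sm gd N1041 = N508 := ded_14_2 L2531 L2515 L5160
theorem L5163 : sm gd N508 = N1041 := flp_d L5162
theorem L5164 : sm ge N1041 = N592 := ded_15_2 L2901 L2517 L5160
theorem L5165 : sm ge N592 = N1041 := flp_e L5164
theorem L5166 : sm gb N507 = N1042 := rfl
theorem L5167 : sm gb N1042 = N507 := flp_b L5166
theorem L5168 : sm gd N1042 = N509 := ded_14_2 L2535 L2525 L5166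
theorem L5169 : sm gd N509 = N1042 := flp_d L5168
theorem L5170 : sm ge N1042 = N593 := ded_15_2 L2905 L2527 L5166
theorem L5171 : sm ge N593 = N1042 := flp_e L5170
theorem L5172 : sm gf N1042 = N1042 := ded_16_2 L5167 L2521 L1318 L2520 L5166
theorem L5173 : sm ga N508 = N1043 := rfl
theorem L5174 : sm ga N1043 = N508 := flp_a L5173
theorem L5175 : sm ge N1043 = N510 := ded_10_2 L2540 L2533 L5173
theorem L5176 : sm ge N510 = N1043 := flp_e L5175
theorem L5177 : sm gc N508 = N1044 := rfl
theorem L5178 : sm gc N1044 = N508 := flp_c L5177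
theorem L5179 : sm ge N1044 = N511 := ded_19_2 L2544 L2533 L5177
theorem L5180 : sm ge N511 = N1044 := flp_e L5179
theorem L5181 : sm gf N508 = N1045 := rfl
theorem L5182 : sm gf N1045 = N508 := flp_f L5181
theorem L5183 : sm ge N1045 = N512 := ded_25_1 L2546 L2533 L5181
theorem L5185 : sm gb N1045 = N1019 := ded_16_1 L5025 L2463 L1323 L2530 L5181
theorem L5187 : sm ga N509 = N1046 := rfl
theorem L5188 : sm ga N1046 = N509 := flp_a L5187
theorem L5189 : sm ge N1046 = N513 := ded_10_2 L2552 L2537 L5187
theorem L5190 : sm ge N513 = N1046 := flp_e L5189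
theorem L5191 : sm gf N1046 = N1046 := ded_11_2 L5188 L2538 L5187
theorem L5192 : sm gc N509 = N1047 := rfl
theorem L5193 : sm gc N1047 = N509 := flp_c L5192
theorem L5194 : sm ge N1047 = N514 := ded_19_2 L2557 L2537 L5192
theorem L5195 : sm ge N514 = N1047 := flp_e L5194
theorem L5196 : sm gf N1047 = N1047 := ded_20_2 L5193 L2538 L5192
theorem L5197 : sm gg N509 = N1048 := rfl
theorem L5198 : sm gg N1048 = N509 := flp_g L5197
theorem L5199 : sm ge N1048 = N515 := ded_26_1 L2560 L2537 L5197
theorem L5200 : sm ge N515 = N1048 := flp_e L5199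
theorem L5201 : sm gb N1048 = N1016 := ded_17_1 L5013 L2459 L1332 L2534 L5197
theorem L5202 : sm gb N1016 = N1048 := flp_b L5201
theorem L5203 : sm gb N510 = N1049 := rfl
theorem L5204 : sm gb N1049 = N510 := flp_b L5203
theorem L5205 : sm gd N1049 = N618 := ded_14_2 L3015 L2542 L5203
theorem L5207 : sm gc N510 = N1050 := rfl
theorem L5208 : sm gc N1050 = N510 := flp_c L5207
theorem L5209 : sm ga N1050 = N511 := ded_8_1 L2544 L2539 L5207
theorem L5211 : sm gf N510 = N1051 := rfl
theorem L5212 : sm gf N1051 = N510 := flp_f L5211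
theorem L5213 : sm ga N1051 = N512 := ded_11_1 L2546 L2539 L5211
theorem L5217 : sm gg N787 = N1051 := ded_29_1 L5212 L3812 L3808 L3817
theorem L5218 : sm gg N1051 = N787 := flp_g L5217
theorem L5219 : sm gb N626 = N1051 := ded_31_14 L5218 L3818 L1891 L1015 L578 L346 L222 L154 L145 L296 L492 L851 L1545 L3050
theorem L5220 : sm gb N1051 = N626 := flp_b L5219
theorem L5221 : sm gg N776 = N624 := ded_17_2 L3040 L3046 L5219 L5218 L3821
theorem L5222 : sm gg N624 = N776 := flp_g L5221
theorem L5223 : N1049 = N571 := coi_16_4 L2810 L1548 L3050 L5219 L5212 L5203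
theorem L5224 : N1049 = N571 := eqc rfl L5223 rfl
theorem L5225 : sm gb N571 = N510 := trf L5224 L5204 rfl
theorem L5227 : sm gd N571 = N618 := trf L5224 L5205 rfl
theorem L5228 : N618 = N1022 := eqe L5227 L5051
theorem L5229 : N1022 = N618 := (eqc rfl L5228 rfl).symm
theorem L5232 : sm gc N618 = N498 := trf L5229 L5048 rfl
theorem L5233 : sm gc N498 = N618 := flp_c L5232
theorem L5236 : sm gf N618 = N498 := trf L5229 L5053 rfl
theorem L5237 : sm gf N498 = N618 := flp_f L5236
theorem L5238 : sm gg N618 = N497 := trf L5229 L5045 rfl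
theorem L5239 : sm gg N497 = N618 := flp_g L5238
theorem L5240 : sm gd N511 = N1052 := rfl
theorem L5241 : sm gd N1052 = N511 := flp_d L5240
theorem L5242 : sm gf N511 = N1053 := rfl
theorem L5243 : sm gf N1053 = N511 := flp_f L5242
theorem L5244 : sm gc N1053 = N512 := ded_20_1 L2546 L2543 L5242
theorem L5245 : sm gc N512 = N1053 := flp_c L5244
theorem L5246 : sm gg N512 = N1054 := rfl
theorem L5247 : sm gg N1054 = N512 := flp_g L5246
theorem L5252 : sm gf N785 = N1054 := ded_29_0 L5247 L2546 L1895 L3807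
theorem L5254 : sm gb N513 = N1055 := rfl
theorem L5255 : sm gb N1055 = N513 := flp_b L5254
theorem L5256 : sm gd N1055 = N624 := ded_14_2 L3040 L2554 L5254
theorem L5257 : sm gd N624 = N1055 := flp_d L5256
theorem L5258 : sm gg N678 = N1055 := ded_24_0 L5256 L5222 L3755
theorem L5259 : sm gg N1055 = N678 := flp_g L5258
theorem L5260 : sm gc N513 = N1056 := rfl
theorem L5261 : sm gc N1056 = N513 := flp_c L5260
theorem L5262 : sm ga N1056 = N514 := ded_8_1 L2557 L2551 L5260
theorem L5263 : sm ga N514 = N1056 := flp_a L5262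
theorem L5265 : sm gg N513 = N1057 := rfl
theorem L5266 : sm gg N1057 = N513 := flp_g L5265
theorem L5267 : sm ga N1057 = N515 := ded_12_1 L2560 L2551 L5265
theorem L5268 : sm ga N515 = N1057 := flp_a L5267
theorem L5271 : sm gf N515 = N1057 := ded_29_0 L5266 L2555 L5265 L5267
theorem L5272 : sm gf N1057 = N515 := flp_f L5271
theorem L5273 : sm gb N1057 = N620 := ded_17_1 L3025 L3272 L5258 L5255 L5265
theorem L5274 : sm gb N620 = N1057 := flp_b L5273
theorem L5275 : sm gd N514 = N1058 := rfl
theorem L5276 : sm gd N1058 = N514 := flp_d L5275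
theorem L5277 : sm gf N1058 = N1058 := ded_23_2 L5276 L2558 L5275
theorem L5278 : sm gg N514 = N1059 := rfl
theorem L5279 : sm gg N1059 = N514 := flp_g L5278
theorem L5280 : sm gc N1059 = N515 := ded_21_1 L2560 L2556 L5278
theorem L5281 : sm gc N515 = N1059 := flp_c L5280
theorem L5282 : sm gb N619 = N1059 := ded_13_5 L5280 L2563 L5233 L3015 L3016
theorem L5283 : sm gb N1059 = N619 := flp_b L5282
theorem L5284 : sm gb N516 = N1060 := rfl
theorem L5285 : sm gb N1060 = N516 := flp_b L5284
theorem L5286 : sm gd N1060 = N629 := ded_14_2 L3061 L2568 L5284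
theorem L5287 : sm gd N629 = N1060 := flp_d L5286
theorem L5288 : sm ge N1060 = N629 := ded_15_2 L3061 L2570 L5284
theorem L5289 : sm ge N629 = N1060 := flp_e L5288
theorem L5290 : sm gf N516 = N1061 := rfl
theorem L5291 : sm gf N1061 = N516 := flp_f L5290
theorem L5292 : sm ga N1061 = N517 := ded_11_1 L2572 L2565 L5290
theorem L5293 : sm ga N517 = N1061 := flp_a L5292
theorem L5294 : sm gd N1061 = N630 := ded_23_1 L3063 L2568 L5290
theorem L5295 : sm gd N630 = N1061 := flp_d L5294
theorem L5296 : sm ge N1061 = N630 := ded_25_1 L3063 L2570 L5290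
theorem L5297 : sm ge N630 = N1061 := flp_e L5296
theorem L5298 : sm gg N516 = N1062 := rfl
theorem L5299 : sm gg N1062 = N516 := flp_g L5298
theorem L5300 : sm ga N1062 = N518 := ded_12_1 L2578 L2565 L5298
theorem L5301 : sm ga N518 = N1062 := flp_a L5300
theorem L5302 : sm gd N1062 = N631 := ded_24_1 L3067 L2568 L5298
theorem L5303 : sm gd N631 = N1062 := flp_d L5302
theorem L5304 : sm ge N1062 = N631 := ded_26_1 L3067 L2570 L5298
theorem L5305 : sm ge N631 = N1062 := flp_e L5304
theorem L5306 : sm gg N517 = N1063 := rfl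
theorem L5307 : sm gg N1063 = N517 := flp_g L5306
theorem L5308 : sm gd N1063 = N633 := ded_24_1 L3075 L2574 L5306
theorem L5309 : sm gd N633 = N1063 := flp_d L5308
theorem L5310 : sm ge N1063 = N633 := ded_26_1 L3075 L2576 L5306
theorem L5311 : sm ge N633 = N1063 := flp_e L5310
theorem L5312 : sm gf N1062 = N1063 := ded_29_0 L5307 L2572 L2577 L5301
theorem L5313 : sm gf N1063 = N1062 := flp_f L5312
theorem L5314 : sm gf N518 = N1064 := rfl
theorem L5315 : sm gf N1064 = N518 := flp_f L5314
theorem L5316 : sm ga N1064 = N1063 := ded_11_1 L5313 L5300 L5314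
theorem L5317 : sm ga N1063 = N1064 := flp_a L5316
theorem L5318 : sm gd N1064 = N634 := ded_23_1 L3079 L2580 L5314
theorem L5319 : sm gd N634 = N1064 := flp_d L5318
theorem L5320 : sm ge N1064 = N634 := ded_25_1 L3079 L2582 L5314
theorem L5321 : sm ge N634 = N1064 := flp_e L5320
theorem L5322 : sm gg N1064 = N1061 := ded_29_3 L5292 L2572 L2577 L5314
theorem L5323 : sm gg N1061 = N1064 := flp_g L5322
theorem L5340 : sm gg N519 = N1068 := rfl
theorem L5342 : sm ga N1068 = N531 := ded_12_1 L2636 L2587 L5340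
theorem L5343 : sm ga N531 = N1068 := flp_a L5342
theorem L5350 : sm gf N520 = N1070 := rfl
theorem L5352 : sm ga N1070 = N533 := ded_11_1 L2643 L2591 L5350
theorem L5356 : sm ge N1070 = N521 := ded_25_1 L2595 L2588 L5350
theorem L5368 : sm gb N522 = N1073 := rfl
theorem L5369 : sm gb N1073 = N522 := flp_b L5368
theorem L5374 : sm gf N523 = N1075 := rfl
theorem L5376 : sm ga N1075 = N540 := ded_11_1 L2677 L2609 L5374
theorem L5390 : sm gb N525 = N1078 := rfl
theorem L5391 : sm gb N1078 = N525 := flp_b L5390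
theorem L5392 : sm ge N1078 = N527 := ded_15_2 L2625 L2621 L5390
theorem L5393 : sm ge N527 = N1078 := flp_e L5392
theorem L5394 : sm ga N526 = N1079 := rfl
theorem L5396 : sm gc N526 = N1080 := rfl
theorem L5397 : sm gc N1080 = N526 := flp_c L5396
theorem L5398 : sm gg N526 = N1081 := rfl
theorem L5399 : sm gg N1081 = N526 := flp_g L5398
theorem L5400 : sm gb N1081 = N771 := ded_17_1 L5058 L2735 L1408 L2622 L5398
theorem L5402 : sm ga N1020 = N1081 := ded_7_9 L5400 L3738 L1849 L986 L581 L723 L1294 L2466 L5028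
theorem L5403 : sm ga N1081 = N1020 := flp_a L5402
theorem L5404 : sm gg N1079 = N1020 := ded_12_0 L5402 L5399 L5394
theorem L5405 : sm gg N1020 = N1079 := flp_g L5404
theorem L5406 : sm ga N527 = N1082 := rfl
theorem L5407 : sm ga N1082 = N527 := flp_a L5406
theorem L5408 : sm gc N527 = N1083 := rfl
theorem L5409 : sm gc N1083 = N527 := flp_c L5408
theorem L5410 : sm gf N527 = N1084 := rfl
theorem L5411 : sm gf N1084 = N527 := flp_f L5410
theorem L5433 : sm gd N529 = N1090 := rfl
theorem L5436 : sm ge N1090 = N532 := ded_22_2 L2640 L1368 L1364 L2628 L5433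
theorem L5438 : sm gf N529 = N1091 := rfl
theorem L5439 : sm gf N1091 = N529 := flp_f L5438
theorem L5440 : sm ge N1091 = N530 := ded_25_1 L2632 L2628 L5438
theorem L5441 : sm ge N530 = N1091 := flp_e L5440
theorem L5451 : sm gg N530 = N1094 := rfl
theorem L5452 : sm gg N1094 = N530 := flp_g L5451
theorem L5455 : sm gf N1068 = N1094 := ded_29_0 L5452 L2632 L2635 L5343
theorem L5476 : sm gg N532 = N1099 := rfl
theorem L5478 : sm gd N1099 = N534 := ded_24_1 L2649 L2639 L5476
theorem L5498 : sm gf N534 = N1103 := rfl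
theorem L5506 : sm gg N1103 = N1070 := ded_29_3 L5352 L2643 L2648 L5498
theorem L5520 : sm ga N537 = N1108 := rfl
theorem L5523 : sm gc N537 = N1109 := rfl
theorem L5524 : sm gc N1109 = N537 := flp_c L5523
theorem L5526 : sm gb N1109 = N551 := ded_13_1 L2729 L1401 L1379 L2663 L5523
theorem L5528 : sm gf N537 = N1110 := rfl
theorem L5530 : sm gb N538 = N1111 := rfl
theorem L5531 : sm gb N1111 = N538 := flp_b L5530
theorem L5532 : sm gb N539 = N1112 := rfl
theorem L5534 : sm gc N1112 = N554 := ded_13_2 L2737 L1411 L1383 L2674 L5532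
theorem L5558 : sm gb N541 = N1118 := rfl
theorem L5559 : sm gb N1118 = N541 := flp_b L5558
theorem L5562 : sm gg N1118 = N559 := ded_17_2 L2761 L1421 L1383 L2680 L5558
theorem L5563 : sm gg N559 = N1118 := flp_g L5562
theorem L5564 : sm gf N541 = N1119 := rfl
theorem L5565 : sm gf N1119 = N541 := flp_f L5564
theorem L5570 : sm gg N1119 = N1075 := ded_29_3 L5376 L2677 L2680 L5564
theorem L5571 : sm gg N1075 = N1119 := flp_g L5570
theorem L5572 : sm ga N542 = N1120 := rfl
theorem L5573 : sm ga N1120 = N542 := flp_a L5572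
theorem L5574 : sm ge N1120 = N546 := ded_10_2 L2711 L2687 L5572
theorem L5578 : sm gc N542 = N1121 := rfl
theorem L5580 : sm ge N1121 = N547 := ded_19_2 L2717 L2687 L5578
theorem L5581 : sm ge N547 = N1121 := flp_e L5580
theorem L5582 : sm gf N1121 = N561 := ded_20_2 L2769 L2689 L5578
theorem L5592 : sm ga N544 = N1124 := rfl
theorem L5593 : sm ga N1124 = N544 := flp_a L5592
theorem L5594 : sm ge N1124 = N550 := ded_10_2 L2725 L2699 L5592
theorem L5595 : sm ge N550 = N1124 := flp_e L5594
theorem L5596 : sm gg N1124 = N563 := ded_12_2 L2778 L2701 L5592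
theorem L5597 : sm gg N563 = N1124 := flp_g L5596
theorem L5612 : sm gb N546 = N1128 := rfl
theorem L5613 : sm gb N1128 = N546 := flp_b L5612
theorem L5614 : sm gd N1128 = N866 := ded_14_2 L4311 L2713 L5612
theorem L5616 : sm gf N771 = N1128 := ded_31_1 L5613 L2814 L2810 L1548 L1546 L853 L852 L497 L459 L451 L781 L1404 L2734 L5059
theorem L5618 : sm gf N566 = N1081 := ded_16_4 L5400 L5616 L5613 L2714 L2790
theorem L5620 : sm ga N762 = N1128 := ded_9_3 L5614 L4307 L3684
theorem L5622 : sm gb N1079 = N753 := ded_7_8 L3643 L3681 L5620 L5613 L2711 L1393 L1359 L2622 L5394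
theorem L5623 : sm gb N753 = N1079 := flp_b L5622
theorem L5624 : sm gb N765 = N1021 := ded_17_3 L5035 L5028 L5405 L5622 L3706
theorem L5626 : sm gb N568 = N667 := ded_14_3 L3704 L5624 L5040
theorem L5627 : sm gb N667 = N568 := flp_b L5626
theorem L5628 : sm gb N574 = N763 := ded_7_8 L3702 L5624 L5036 L2564 L5268 L5273 L3022 L1536 L2825
theorem L5629 : sm gb N763 = N574 := flp_b L5628
theorem L5632 : N573 = N764 := coi_30_18 L3694 L3650 L3691 L4302 L5624 L5036 L5237 L5232 L2564 L5268 L5272 L5281 L5283 L3018 L3029 L3031 L1536 L2825 L2823 L2818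
theorem L5633 : N764 = N573 := (eqc rfl L5632 rfl).symm
theorem L5634 : sm gb N573 = N371 := trf L5633 L3694 rfl
theorem L5636 : sm gd N573 = N666 := trf L5633 L3695 rfl

end Cfsg.Agent.Helper28.SuzA
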