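import Cfsg.Agent.Helper28.SuzB1

/-! # The Suzuki group presentation, cosets of the subgroup generated by a, …, f: the coset enumeration, part 2 (helper28; generated) -/

set_option autoImplicit false

noncomputable section

namespace Cfsg.Agent.Helper28.SuzA

open Cfsg.Agent.Helper28.CosetTable

theorem L5638 : sm gg N573 = N376 := trf L5633 L3697 rfl
theorem L5639 : sm gg N376 = N573 := flp_g L5638
theorem L5640 : sm gb N1004 = N550 := ded_31_14 L2726 L2822 L5628 L3688 L1823 L977 L990 L1018 L1890 L1894 L2545 L2549 L5085 L5092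
theorem L5641 : sm gb N550 = N1004 := flp_b L5640
theorem L5642 : sm ga N666 = N575 := ded_9_1 L2829 L2821 L5636
theorem L5650 : N775 = N550 := coi_21_2 L2726 L2818 L5638 L3751
theorem L5651 : N775 = N550 := eqc rfl L5650 rfl
theorem L5652 : sm gc N550 = N376 := trf L5651 L3752 rfl
theorem L5654 : N576 = N624 := coi_29_1 L5222 L3754 L5639 L2820 L2831
theorem L5655 : N624 = N576 := (eqc rfl L5654 rfl).symm
theorem L5656 : sm gb N576 = N306 := trf L5655 L3040 rfl
theorem L5658 : sm gd N576 = N1055 := trf L5655 L5257 rfl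
theorem L5660 : sm gg N576 = N776 := trf L5655 L5222 rfl
theorem L5661 : sm gg N776 = N576 := flp_g L5660
theorem L5662 : sm gc N717 = N1004 := ded_13_0 L5640 L5652 L1853 L1721 L3461
theorem L5663 : sm gc N1004 = N717 := flp_c L5662
theorem L5666 : N1082 = N983 := coi_7_6 L4843 L2378 L2422 L4942 L5640 L2725 L1401 L1363 L2624 L5406
theorem L5667 : N1082 = N983 := eqc rfl L5666 rfl
theorem L5668 : sm ga N983 = N527 := trf L5667 L5407 rfl
theorem L5670 : sm gg N575 = N676 := ded_12_2 L3266 L3227 L5642
theorem L5671 : sm gg N676 = N575 := flp_g L5670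
theorem L5672 : sm gf N575 = N1055 := ded_29_0 L5259 L3270 L3227 L5642
theorem L5673 : sm gf N1055 = N575 := flp_f L5672
theorem L5676 : sm gc N770 = N1124 := ded_19_3 L5594 L5652 L3736
theorem L5678 : sm gc N776 = N577 := ded_20_3 L2840 L5652 L3753
theorem L5680 : sm gb N625 = N622 := ded_13_3 L3031 L1536 L2834 L5656 L3041
theorem L5681 : sm gb N622 = N625 := flp_b L5680
theorem L5682 : sm gf N983 = N1109 := ded_31_13 L5526 L2730 L2831 L5656 L3046 L3051 L1547 L1440 L1395 L1393 L1396 L1399 L2624 L4847
theorem L5683 : sm gf N1109 = N983 := flp_f L5682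
theorem L5684 : sm gf N551 = N1003 := ded_31_4 L4939 L2417 L1269 L713 L726 L751 L1333 L1895 L3817 L3821 L5661 L2832 L1445 L2731
theorem L5685 : sm gf N1003 = N551 := flp_f L5684
theorem L5686 : sm ga N776 = N1003 := ded_29_4 L5685 L2730 L2831 L5660
theorem L5687 : sm ga N1003 = N776 := flp_a L5686
theorem L5690 : sm gg N1024 = N717 := ded_21_0 L5662 L4946 L5067
theorem L5691 : sm gg N717 = N1024 := flp_g L5690
theorem L5692 : sm ga N1084 = N1109 := ded_11_3 L5683 L5668 L5410
theorem L5695 : sm gb N1084 = N676 := ded_31_14 L5671 L5672 L5255 L5265 L5272 L2563 L2479 L2415 L2411 L2416 L2421 L4842 L4846 L5410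
theorem L5696 : sm gb N676 = N1084 := flp_b L5695
theorem L5697 : sm gf N676 = N549 := ded_31_1 L2723 L1397 L780 L452 L463 L490 L849 L1528 L3012 L3272 L5258 L5673 L2830 L5670
theorem L5698 : sm gf N549 = N676 := flp_f L5697
theorem L5701 : sm gc N552 = N1003 := ded_8_2 L5687 L5678 L2837
theorem L5703 : sm gc N1110 = N983 := ded_20_3 L5682 L5524 L5528
theorem L5707 : sm gb N709 = N1024 := ded_17_5 L5690 L3462 L1717 L1698 L3421
theorem L5709 : sm gc N1108 = N1084 := ded_8_0 L5692 L5524 L5520
theorem L5710 : sm gc N1084 = N1108 := flp_c L5709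
theorem L5711 : sm ga N1083 = N1110 := ded_8_3 L5703 L5668 L5408
theorem L5715 : sm gf N1083 = N1108 := ded_20_0 L5709 L5411 L5408
theorem L5716 : sm gf N1108 = N1083 := flp_f L5715
theorem L5717 : sm gc N546 = N1129 := rfl
theorem L5718 : sm gc N1129 = N546 := flp_c L5717
theorem L5719 : sm ga N1129 = N547 := ded_8_1 L2717 L2710 L5717
theorem L5720 : sm ga N547 = N1129 := flp_a L5719
theorem L5721 : sm gf N1129 = N567 := ded_20_2 L2793 L2715 L5717
theorem L5722 : sm gf N567 = N1129 := flp_f L5721
theorem L5723 : sm gd N547 = N1130 := rfl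
theorem L5725 : sm gf N1130 = N569 := ded_23_2 L2803 L2719 L5723
theorem L5727 : sm gc N1130 = N569 := ded_28_6 L2803 L2795 L2793 L2469 L2475 L2412 L2716 L5723
theorem L5729 : sm gg N547 = N1131 := rfl
theorem L5730 : sm gg N1131 = N547 := flp_g L5729
theorem L5741 : sm gc N549 = N1133 := rfl
theorem L5742 : sm gc N1133 = N549 := flp_c L5741
theorem L5743 : sm gb N552 = N1134 := rfl
theorem L5744 : sm gb N1134 = N552 := flp_b L5743
theorem L5745 : sm gf N1134 = N553 := ded_16_2 L2735 L1405 L1400 L2732 L5743
theorem L5749 : sm gc N553 = N1135 := rfl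
theorem L5750 : sm gc N1135 = N553 := flp_c L5749
theorem L5751 : sm ga N554 = N1136 := rfl
theorem L5752 : sm ga N1136 = N554 := flp_a L5751
theorem L5753 : sm gd N554 = N1137 := rfl
theorem L5754 : sm gd N1137 = N554 := flp_d L5753
theorem L5755 : sm gb N1137 = N555 := ded_14_1 L2739 L2736 L5753
theorem L5756 : sm gb N555 = N1137 := flp_b L5755
theorem L5757 : sm gf N554 = N1138 := rfl
theorem L5758 : sm gf N1138 = N554 := flp_f L5757
theorem L5759 : sm gg N554 = N1139 := rfl
theorem L5760 : sm gg N1139 = N554 := flp_g L5759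
theorem L5761 : sm ge N555 = N1140 := rfl
theorem L5762 : sm ge N1140 = N555 := flp_e L5761
theorem L5763 : sm ga N1140 = N582 := ded_10_1 L2858 L2741 L5761
theorem L5764 : sm ga N582 = N1140 := flp_a L5763
theorem L5765 : sm gc N1140 = N582 := ded_19_1 L2858 L2742 L5761
theorem L5766 : sm gc N582 = N1140 := flp_c L5765
theorem L5767 : sm gf N555 = N1141 := rfl
theorem L5768 : sm gf N1141 = N555 := flp_f L5767
theorem L5769 : sm ga N1141 = N583 := ded_11_1 L2860 L2741 L5767
theorem L5770 : sm ga N583 = N1141 := flp_a L5769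
theorem L5771 : sm gc N1141 = N583 := ded_20_1 L2860 L2742 L5767
theorem L5772 : sm gc N583 = N1141 := flp_c L5771
theorem L5773 : sm gd N1141 = N556 := ded_23_1 L2745 L2738 L5767
theorem L5774 : sm gd N556 = N1141 := flp_d L5773
theorem L5775 : sm gg N555 = N1142 := rfl
theorem L5776 : sm gg N1142 = N555 := flp_g L5775
theorem L5777 : sm ga N1142 = N584 := ded_12_1 L2864 L2741 L5775
theorem L5778 : sm ga N584 = N1142 := flp_a L5777
theorem L5779 : sm gc N1142 = N584 := ded_21_1 L2864 L2742 L5775
theorem L5780 : sm gc N584 = N1142 := flp_c L5779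
theorem L5781 : sm gd N1142 = N557 := ded_24_1 L2751 L2738 L5775
theorem L5782 : sm gd N557 = N1142 := flp_d L5781
theorem L5783 : sm gb N556 = N1143 := rfl
theorem L5784 : sm gb N1143 = N556 := flp_b L5783
theorem L5785 : sm gb N557 = N1144 := rfl
theorem L5786 : sm gb N1144 = N557 := flp_b L5785
theorem L5787 : sm ga N558 = N1145 := rfl
theorem L5788 : sm ga N1145 = N558 := flp_a L5787
theorem L5789 : sm gd N1145 = N560 := ded_9_2 L2765 L2759 L5787
theorem L5790 : sm gd N560 = N1145 := flp_d L5789
theorem L5791 : sm gc N558 = N1146 := rfl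
theorem L5792 : sm gc N1146 = N558 := flp_c L5791
theorem L5793 : sm gg N558 = N1147 := rfl
theorem L5794 : sm gg N1147 = N558 := flp_g L5793
theorem L5795 : sm gd N1147 = N562 := ded_24_1 L2774 L2759 L5793
theorem L5796 : sm gd N562 = N1147 := flp_d L5795
theorem L5803 : sm gf N559 = N1150 := rfl
theorem L5804 : sm gf N1150 = N559 := flp_f L5803
theorem L5805 : sm gd N1150 = N565 := ded_23_1 L2787 L2763 L5803
theorem L5806 : sm gd N565 = N1150 := flp_d L5805
theorem L5807 : sm gb N560 = N1151 := rfl
theorem L5808 : sm gb N1151 = N560 := flp_b L5807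
theorem L5809 : sm ge N1151 = N566 := ded_15_2 L2791 L2767 L5807
theorem L5810 : sm ge N566 = N1151 := flp_e L5809
theorem L5811 : sm gc N560 = N1152 := rfl
theorem L5812 : sm gc N1152 = N560 := flp_c L5811
theorem L5813 : sm ga N1152 = N561 := ded_8_1 L2769 L2764 L5811
theorem L5814 : sm ga N561 = N1152 := flp_a L5813
theorem L5815 : sm ge N1152 = N567 := ded_19_2 L2793 L2767 L5811
theorem L5816 : sm ge N567 = N1152 := flp_e L5815
theorem L5817 : sm gg N560 = N1153 := rfl
theorem L5819 : sm ga N1153 = N562 := ded_12_1 L2774 L2764 L5817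
theorem L5820 : sm ga N562 = N1153 := flp_a L5819
theorem L5825 : sm gd N561 = N1154 := rfl
theorem L5826 : sm gd N1154 = N561 := flp_d L5825
theorem L5828 : sm gg N561 = N1155 := rfl
theorem L5829 : sm gg N1155 = N561 := flp_g L5828
theorem L5830 : sm gc N1155 = N562 := ded_21_1 L2774 L2768 L5828
theorem L5831 : sm gc N562 = N1155 := flp_c L5830
theorem L5832 : sm ge N1155 = N570 := ded_26_1 L2806 L2771 L5828
theorem L5833 : sm ge N570 = N1155 := flp_e L5832
theorem L5834 : sm gf N562 = N1156 := rfl
theorem L5835 : sm gf N1156 = N562 := flp_f L5834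
theorem L5838 : sm ge N1156 = N571 := ded_25_1 L2810 L2776 L5834
theorem L5840 : sm gg N1156 = N1120 := ded_29_3 L5573 L2688 L2773 L5834
theorem L5842 : sm gb N1043 = N1156 := ded_15_3 L5838 L5225 L5176
theorem L5843 : sm gb N1156 = N1043 := flp_b L5842
theorem L5849 : sm gc N563 = N1158 := rfl
theorem L5853 : sm ge N1158 = N573 := ded_19_2 L2819 L2780 L5849
theorem L5855 : sm gg N1158 = N770 := ded_21_2 L5676 L5596 L5849
theorem L5856 : sm gg N770 = N1158 := flp_g L5855
theorem L5857 : sm gb N761 = N1158 := ded_15_3 L5853 L5634 L3680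
theorem L5858 : sm gb N1158 = N761 := flp_b L5857
theorem L5859 : sm gf N563 = N1159 := rfl
theorem L5863 : sm ge N1159 = N574 := ded_25_1 L2823 L2780 L5859
theorem L5864 : sm ge N574 = N1159 := flp_e L5863
theorem L5870 : sm gf N564 = N1161 := rfl
theorem L5872 : sm gc N1161 = N565 := ded_20_1 L2787 L2781 L5870
theorem L5873 : sm gc N565 = N1161 := flp_c L5872
theorem L5874 : sm ge N1161 = N576 := ded_25_1 L2832 L2784 L5870
theorem L5876 : sm gb N602 = N1161 := ded_15_3 L5874 L5656 L2956
theorem L5877 : sm gb N1161 = N602 := flp_b L5876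
theorem L5878 : sm gg N565 = N1162 := rfl
theorem L5879 : sm gg N1162 = N565 := flp_g L5878
theorem L5882 : sm ge N1162 = N577 := ded_26_1 L2836 L2789 L5878
theorem L5883 : sm ge N577 = N1162 := flp_e L5882
theorem L5884 : sm gf N1124 = N1162 := ded_29_0 L5879 L2787 L2701 L5592
theorem L5885 : sm gf N1162 = N1124 := flp_f L5884
theorem L5886 : sm ga N566 = N1163 := rfl
theorem L5887 : sm ga N1163 = N566 := flp_a L5886
theorem L5892 : sm gg N982 = N1163 := ded_29_3 L5887 L5618 L5399 L4841
theorem L5893 : sm gg N1163 = N982 := flp_g L5892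
theorem L5894 : sm gb N1163 = N605 := ded_7_2 L2971 L1509 L839 L484 L461 L801 L1434 L2790 L5886
theorem L5905 : sm gc N566 = N1164 := rfl
theorem L5906 : sm gc N1164 = N566 := flp_c L5905
theorem L5907 : sm gg N566 = N1165 := rfl
theorem L5908 : sm gg N1165 = N566 := flp_g L5907
theorem L5915 : sm gb N1165 = N659 := ded_17_1 L3233 L5627 L2797 L2790 L5907
theorem L5916 : sm gb N659 = N1165 := flp_b L5915
theorem L5917 : sm gb N567 = N1166 := rfl
theorem L5918 : sm gb N1166 = N567 := flp_b L5917
theorem L5919 : sm gd N567 = N1167 := rfl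
theorem L5920 : sm gd N1167 = N567 := flp_d L5919
theorem L5921 : sm ga N1167 = N569 := ded_9_1 L2803 L2795 L5919
theorem L5922 : sm ga N569 = N1167 := flp_a L5921
theorem L5923 : sm gg N567 = N1168 := rfl
theorem L5924 : sm gg N1168 = N567 := flp_g L5923
theorem L5925 : sm ga N1168 = N570 := ded_12_1 L2806 L2795 L5923
theorem L5929 : sm gf N1168 = N1131 := ded_29_2 L5730 L5720 L5721 L5923
theorem L5931 : sm ge N569 = N1169 := rfl
theorem L5932 : sm ge N1169 = N569 := flp_e L5931
theorem L5934 : sm gg N569 = N1170 := rfl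
theorem L5935 : sm gg N1170 = N569 := flp_g L5934
theorem L5936 : sm gd N1170 = N570 := ded_24_1 L2806 L2802 L5934
theorem L5937 : sm gd N570 = N1170 := flp_d L5936
theorem L5938 : sm gb N570 = N1171 := rfl
theorem L5939 : sm gb N1171 = N570 := flp_b L5938
theorem L5940 : sm gg N1171 = N1171 := ded_17_2 L5939 L2806 L1438 L2805 L5938
theorem L5968 : sm gc N575 = N1175 := rfl
theorem L5969 : sm gc N1175 = N575 := flp_c L5968
theorem L5975 : sm gb N578 = N1178 := rfl
theorem L5976 : sm gb N1178 = N578 := flp_b L5975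
theorem L5977 : sm gd N578 = N1179 := rfl
theorem L5978 : sm gd N1179 = N578 := flp_d L5977
theorem L5979 : sm ga N1179 = N579 := ded_9_1 L2846 L2841 L5977
theorem L5980 : sm ga N579 = N1179 := flp_a L5979
theorem L5981 : sm gf N578 = N1180 := rfl
theorem L5982 : sm gf N1180 = N578 := flp_f L5981
theorem L5983 : sm ga N1180 = N580 := ded_11_1 L2850 L2841 L5981
theorem L5984 : sm ga N580 = N1180 := flp_a L5983
theorem L5985 : sm gc N1180 = N630 := ded_20_1 L3063 L2844 L5981
theorem L5986 : sm gc N630 = N1180 := flp_c L5985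
theorem L5987 : sm gg N578 = N1181 := rfl
theorem L5988 : sm gg N1181 = N578 := flp_g L5987
theorem L5989 : sm ga N1181 = N581 := ded_12_1 L2854 L2841 L5987
theorem L5990 : sm ga N581 = N1181 := flp_a L5989
theorem L5991 : sm gc N1181 = N631 := ded_21_1 L3067 L2844 L5987
theorem L5992 : sm gc N631 = N1181 := flp_c L5991
theorem L5993 : sm gc N579 = N1182 := rfl
theorem L5994 : sm gc N1182 = N579 := flp_c L5993
theorem L5995 : sm ge N579 = N1183 := rfl
theorem L5996 : sm ge N1183 = N579 := flp_e L5995
theorem L5997 : sm gb N1183 = N582 := ded_15_1 L2858 L2848 L5995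
theorem L5998 : sm gb N582 = N1183 := flp_b L5997
theorem L5999 : sm gf N579 = N1184 := rfl
theorem L6000 : sm gf N1184 = N579 := flp_f L5999
theorem L6001 : sm gd N1184 = N580 := ded_23_1 L2850 L2845 L5999
theorem L6002 : sm gd N580 = N1184 := flp_d L6001
theorem L6003 : sm gg N579 = N1185 := rfl
theorem L6004 : sm gg N1185 = N579 := flp_g L6003
theorem L6005 : sm gd N1185 = N581 := ded_24_1 L2854 L2845 L6003
theorem L6006 : sm gd N581 = N1185 := flp_d L6005
theorem L6007 : sm gb N580 = N1186 := rfl
theorem L6008 : sm gb N1186 = N580 := flp_b L6007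
theorem L6009 : sm gf N1186 = N585 := ded_16_2 L2868 L1455 L1448 L2849 L6007
theorem L6010 : sm gf N585 = N1186 := flp_f L6009
theorem L6011 : sm gg N580 = N1187 := rfl
theorem L6012 : sm gg N1187 = N580 := flp_g L6011
theorem L6013 : sm gc N1187 = N633 := ded_21_1 L3075 L2852 L6011
theorem L6014 : sm gc N633 = N1187 := flp_c L6013
theorem L6015 : sm gf N1181 = N1187 := ded_29_0 L6012 L2850 L2853 L5990
theorem L6016 : sm gf N1187 = N1181 := flp_f L6015
theorem L6017 : sm gb N581 = N1188 := rfl
theorem L6018 : sm gb N1188 = N581 := flp_b L6017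
theorem L6019 : sm gc N1188 = N1188 := ded_13_2 L6018 L2855 L1555 L2856 L6017
theorem L6020 : sm gg N1188 = N587 := ded_17_2 L2876 L1459 L1448 L2853 L6017
theorem L6021 : sm gg N587 = N1188 := flp_g L6020
theorem L6022 : sm gf N581 = N1189 := rfl
theorem L6023 : sm gf N1189 = N581 := flp_f L6022
theorem L6024 : sm ga N1189 = N1187 := ded_11_1 L6016 L5989 L6022
theorem L6025 : sm ga N1187 = N1189 := flp_a L6024
theorem L6026 : sm gc N1189 = N634 := ded_20_1 L3079 L2856 L6022
theorem L6027 : sm gc N634 = N1189 := flp_c L6026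
theorem L6028 : sm gg N1189 = N1180 := ded_29_3 L5983 L2850 L2853 L6022
theorem L6029 : sm gg N1180 = N1189 := flp_g L6028
theorem L6030 : sm gf N582 = N1190 := rfl
theorem L6031 : sm gf N1190 = N582 := flp_f L6030
theorem L6032 : sm ge N1190 = N583 := ded_25_1 L2860 L2857 L6030
theorem L6033 : sm ge N583 = N1190 := flp_e L6032
theorem L6034 : sm gg N582 = N1191 := rfl
theorem L6035 : sm gg N1191 = N582 := flp_g L6034
theorem L6036 : sm ge N1191 = N584 := ded_26_1 L2864 L2857 L6034
theorem L6037 : sm ge N584 = N1191 := flp_e L6036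
theorem L6038 : sm gb N583 = N1192 := rfl
theorem L6039 : sm gb N1192 = N583 := flp_b L6038
theorem L6040 : sm gd N1192 = N585 := ded_14_2 L2868 L2862 L6038
theorem L6041 : sm gd N585 = N1192 := flp_d L6040
theorem L6042 : sm gg N583 = N1193 := rfl
theorem L6043 : sm gg N1193 = N583 := flp_g L6042
theorem L6044 : sm gd N1193 = N586 := ded_24_1 L2870 L2862 L6042
theorem L6045 : sm gd N586 = N1193 := flp_d L6044
theorem L6046 : sm gf N1142 = N1193 := ded_29_0 L6043 L2860 L2863 L5778
theorem L6047 : sm gf N1193 = N1142 := flp_f L6046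
theorem L6048 : sm gb N584 = N1194 := rfl
theorem L6049 : sm gb N1194 = N584 := flp_b L6048
theorem L6050 : sm gd N1194 = N587 := ded_14_2 L2876 L2866 L6048
theorem L6051 : sm gd N587 = N1194 := flp_d L6050
theorem L6052 : sm gf N584 = N1195 := rfl
theorem L6053 : sm gf N1195 = N584 := flp_f L6052
theorem L6054 : sm ga N1195 = N1193 := ded_11_1 L6047 L5777 L6052
theorem L6055 : sm ga N1193 = N1195 := flp_a L6054
theorem L6056 : sm gc N1195 = N1193 := ded_20_1 L6047 L5779 L6052
theorem L6057 : sm gc N1193 = N1195 := flp_c L6056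
theorem L6058 : sm gd N1195 = N588 := ded_23_1 L2879 L2866 L6052
theorem L6059 : sm gd N588 = N1195 := flp_d L6058
theorem L6060 : sm gg N1195 = N1141 := ded_29_3 L5769 L2860 L2863 L6052
theorem L6061 : sm gg N1141 = N1195 := flp_g L6060
theorem L6062 : sm ga N585 = N1196 := rfl
theorem L6063 : sm ga N1196 = N585 := flp_a L6062
theorem L6064 : sm gc N585 = N1197 := rfl
theorem L6065 : sm gc N1197 = N585 := flp_c L6064
theorem L6066 : sm gb N1197 = N590 := ded_13_1 L2893 L1463 L1457 L2867 L6064
theorem L6067 : sm gb N590 = N1197 := flp_b L6066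
theorem L6068 : sm gg N585 = N1198 := rfl
theorem L6069 : sm gg N1198 = N585 := flp_g L6068
theorem L6070 : sm gb N586 = N1199 := rfl
theorem L6071 : sm gb N1199 = N586 := flp_b L6070
theorem L6072 : sm ga N587 = N1200 := rfl
theorem L6073 : sm ga N1200 = N587 := flp_a L6072
theorem L6074 : sm gc N1200 = N1200 := ded_8_2 L6073 L2877 L6072
theorem L6075 : sm gf N587 = N1201 := rfl
theorem L6076 : sm gf N1201 = N587 := flp_f L6075
theorem L6078 : sm gb N588 = N1202 := rfl
theorem L6079 : sm gb N1202 = N588 := flp_b L6078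
theorem L6080 : sm gb N589 = N1203 := rfl
theorem L6081 : sm gb N1203 = N589 := flp_b L6080
theorem L6082 : sm gd N1203 = N594 := ded_14_2 L2910 L2889 L6080
theorem L6083 : sm gd N594 = N1203 := flp_d L6082
theorem L6084 : sm gc N589 = N1204 := rfl
theorem L6086 : sm ga N1204 = N590 := ded_8_1 L2893 L2886 L6084
theorem L6087 : sm ga N590 = N1204 := flp_a L6086
theorem L6088 : sm gf N1204 = N639 := ded_20_2 L3097 L2891 L6084
theorem L6090 : sm gd N590 = N1205 := rfl
theorem L6091 : sm gd N1205 = N590 := flp_d L6090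
theorem L6094 : sm gg N590 = N1206 := rfl
theorem L6095 : sm gg N1206 = N590 := flp_g L6094
theorem L6104 : sm ga N592 = N1208 := rfl
theorem L6105 : sm ga N1208 = N592 := flp_a L6104
theorem L6106 : sm gd N1208 = N599 := ded_9_2 L2939 L2903 L6104
theorem L6107 : sm gd N599 = N1208 := flp_d L6106
theorem L6108 : sm gc N592 = N1209 := rfl
theorem L6109 : sm gc N1209 = N592 := flp_c L6108
theorem L6110 : sm gf N592 = N1210 := rfl
theorem L6111 : sm gf N1210 = N592 := flp_f L6110
theorem L6112 : sm gd N1210 = N601 := ded_23_1 L2948 L2903 L6110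
theorem L6113 : sm gd N601 = N1210 := flp_d L6112
theorem L6114 : sm gb N1210 = N1150 := ded_16_1 L5804 L2761 L1472 L2900 L6110
theorem L6115 : sm gb N1150 = N1210 := flp_b L6114
theorem L6116 : sm ga N593 = N1211 := rfl
theorem L6117 : sm ga N1211 = N593 := flp_a L6116
theorem L6121 : sm gc N593 = N1212 := rfl
theorem L6122 : sm gc N1212 = N593 := flp_c L6121
theorem L6123 : sm gf N1212 = N1212 := ded_20_2 L6122 L2908 L6121
theorem L6124 : sm gg N593 = N1213 := rfl
theorem L6125 : sm gg N1213 = N593 := flp_g L6124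
theorem L6126 : sm gd N1213 = N604 := ded_24_1 L2965 L2907 L6124
theorem L6127 : sm gd N604 = N1213 := flp_d L6126
theorem L6128 : sm gb N1213 = N1147 := ded_17_1 L5794 L2757 L1481 L2904 L6124
theorem L6129 : sm gb N1147 = N1213 := flp_b L6128
theorem L6178 : sm ga N598 = N1224 := rfl
theorem L6179 : sm ga N1224 = N598 := flp_a L6178
theorem L6180 : sm ge N1224 = N615 := ded_10_2 L3005 L2935 L6178
theorem L6181 : sm ge N615 = N1224 := flp_e L6180
theorem L6182 : sm gg N1224 = N599 := ded_12_2 L2939 L2937 L6178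
theorem L6183 : sm gg N599 = N1224 := flp_g L6182
theorem L6184 : sm gc N598 = N1225 := rfl
theorem L6186 : sm ge N1225 = N616 := ded_19_2 L3009 L2935 L6184
theorem L6188 : sm gg N1225 = N600 := ded_21_2 L2943 L2937 L6184
theorem L6190 : sm gf N598 = N1226 := rfl
theorem L6191 : sm gf N1226 = N598 := flp_f L6190
theorem L6194 : sm gb N599 = N1227 := rfl
theorem L6195 : sm gb N1227 = N599 := flp_b L6194
theorem L6196 : sm ge N1227 = N618 := ded_15_2 L3015 L2941 L6194
theorem L6198 : sm gc N1016 = N1227 := ded_19_3 L6196 L5232 L5015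
theorem L6199 : sm gc N1227 = N1016 := flp_c L6198
theorem L6200 : sm gf N1016 = N1227 := ded_25_0 L6196 L5236 L5015
theorem L6201 : sm gf N1227 = N1016 := flp_f L6200
theorem L6202 : sm gg N1015 = N1227 := ded_26_0 L6196 L5238 L5009
theorem L6203 : sm gg N1227 = N1015 := flp_g L6202
theorem L6204 : sm gc N599 = N1228 := rfl
theorem L6205 : sm gc N1228 = N599 := flp_c L6204
theorem L6206 : sm ga N1228 = N600 := ded_8_1 L2943 L2938 L6204
theorem L6207 : sm ga N600 = N1228 := flp_a L6206
theorem L6208 : sm ge N1228 = N619 := ded_19_2 L3017 L2941 L6204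
theorem L6209 : sm ge N619 = N1228 := flp_e L6208
theorem L6210 : sm gf N599 = N1229 := rfl
theorem L6211 : sm gf N1229 = N599 := flp_f L6210
theorem L6212 : sm ga N1229 = N601 := ded_11_1 L2948 L2938 L6210
theorem L6213 : sm ga N601 = N1229 := flp_a L6212
theorem L6214 : sm ge N1229 = N620 := ded_25_1 L3021 L2941 L6210
theorem L6216 : sm gg N1226 = N1229 := ded_29_1 L6211 L6183 L6179 L6190
theorem L6217 : sm gg N1229 = N1226 := flp_g L6216
theorem L6218 : sm gd N600 = N1230 := rfl
theorem L6219 : sm gd N1230 = N600 := flp_d L6218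
theorem L6220 : sm gb N1230 = N1230 := ded_14_1 L6219 L2946 L6218
theorem L6221 : sm gf N600 = N1231 := rfl
theorem L6222 : sm gf N1231 = N600 := flp_f L6221
theorem L6223 : sm gc N1231 = N601 := ded_20_1 L2948 L2942 L6221
theorem L6224 : sm gc N601 = N1231 := flp_c L6223
theorem L6225 : sm ge N1231 = N622 := ded_25_1 L3030 L2945 L6221
theorem L6226 : sm ge N622 = N1231 := flp_e L6225
theorem L6227 : sm gg N601 = N1232 := rfl
theorem L6228 : sm gg N1232 = N601 := flp_g L6227
theorem L6231 : sm ge N1232 = N623 := ded_26_1 L3034 L2950 L6227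
theorem L6232 : sm ge N623 = N1232 := flp_e L6231
theorem L6235 : sm gc N602 = N1233 := rfl
theorem L6237 : sm ga N1233 = N603 := ded_8_1 L2959 L2953 L6235
theorem L6238 : sm ga N603 = N1233 := flp_a L6237
theorem L6242 : sm gb N1233 = N1231 := ded_13_1 L6223 L2951 L5873 L5877 L6235
theorem L6252 : sm gd N603 = N1235 := rfl
theorem L6253 : sm gd N1235 = N603 := flp_d L6252
theorem L6256 : sm gg N603 = N1236 := rfl
theorem L6257 : sm gg N1236 = N603 := flp_g L6256
theorem L6258 : sm gc N1236 = N604 := ded_21_1 L2965 L2958 L6256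
theorem L6259 : sm gc N604 = N1236 := flp_c L6258
theorem L6260 : sm ge N1236 = N628 := ded_26_1 L3057 L2961 L6256
theorem L6261 : sm ge N628 = N1236 := flp_e L6260
theorem L6268 : sm gg N606 = N1239 := rfl
theorem L6269 : sm gg N1239 = N606 := flp_g L6268
theorem L6282 : sm gf N608 = N1241 := rfl
theorem L6283 : sm gf N1241 = N608 := flp_f L6282
theorem L6288 : sm gg N1241 = N866 := ded_29_3 L4307 L2975 L2978 L6282
theorem L6289 : sm gg N866 = N1241 := flp_g L6288
theorem L6290 : sm gb N1241 = N615 := ded_31_2 L3006 L3020 L5274 L5266 L2555 L5254 L5259 L3270 L1627 L885 L841 L1508 L2978 L6282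
theorem L6310 : sm gc N610 = N1246 := rfl
theorem L6311 : sm gc N1246 = N610 := flp_c L6310
theorem L6312 : sm ga N1246 = N611 := ded_8_1 L2989 L2985 L6310
theorem L6316 : sm gd N719 = N1246 := ded_28_1 L6311 L2983 L1511 L989 L1715 L3432 L3429 L3470
theorem L6317 : sm gd N1246 = N719 := flp_d L6316
theorem L6318 : sm ge N610 = N1247 := rfl
theorem L6320 : sm ga N1247 = N612 := ded_10_1 L2993 L2985 L6318
theorem L6321 : sm ga N612 = N1247 := flp_a L6320
theorem L6322 : sm gf N1247 = N673 := ded_25_2 L3252 L2987 L6318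
theorem L6336 : sm ge N611 = N1250 := rfl
theorem L6338 : sm gc N1250 = N612 := ded_19_1 L2993 L2988 L6336
theorem L6346 : sm gg N612 = N1252 := rfl
theorem L6347 : sm gg N1252 = N612 := flp_g L6346
theorem L6358 : sm gc N614 = N1255 := rfl
theorem L6359 : sm gc N1255 = N614 := flp_c L6358
theorem L6361 : sm gb N1255 = N616 := ded_13_1 L3009 L1526 L1524 L3001 L6358
theorem L6362 : sm gb N616 = N1255 := flp_b L6361
theorem L6363 : sm gf N614 = N1256 := rfl
theorem L6364 : sm gf N1256 = N614 := flp_f L6363
theorem L6365 : sm gc N615 = N1257 := rfl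
theorem L6367 : sm ga N1257 = N616 := ded_8_1 L3009 L3004 L6365
theorem L6368 : sm ga N616 = N1257 := flp_a L6367
theorem L6369 : sm gg N1257 = N619 := ded_21_2 L3017 L3007 L6365
theorem L6371 : sm gd N616 = N1258 := rfl
theorem L6373 : sm gg N1258 = N621 := ded_24_2 L3027 L3011 L6371
theorem L6374 : sm gg N621 = N1258 := flp_g L6373
theorem L6379 : sm gd N619 = N1260 := rfl
theorem L6380 : sm gd N1260 = N619 := flp_d L6379
theorem L6381 : sm ga N1260 = N621 := ded_9_1 L3027 L3019 L6379
theorem L6382 : sm ga N621 = N1260 := flp_a L6381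
theorem L6383 : sm gf N619 = N1261 := rfl
theorem L6384 : sm gf N1261 = N619 := flp_f L6383
theorem L6385 : sm ga N1261 = N622 := ded_11_1 L3030 L3019 L6383
theorem L6386 : sm ga N622 = N1261 := flp_a L6385
theorem L6391 : sm gc N621 = N1262 := rfl
theorem L6392 : sm gc N1262 = N621 := flp_c L6391
theorem L6393 : sm ge N621 = N1263 := rfl
theorem L6394 : sm ge N1263 = N621 := flp_e L6393
theorem L6396 : sm gf N621 = N1264 := rfl
theorem L6397 : sm gf N1264 = N621 := flp_f L6396
theorem L6398 : sm gd N1264 = N622 := ded_23_1 L3030 L3026 L6396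
theorem L6399 : sm gd N622 = N1264 := flp_d L6398
theorem L6400 : sm gg N622 = N1265 := rfl
theorem L6401 : sm gg N1265 = N622 := flp_g L6400
theorem L6404 : sm gc N1265 = N623 := ded_21_1 L3034 L3032 L6400
theorem L6405 : sm gc N623 = N1265 := flp_c L6404
theorem L6406 : sm gf N1257 = N1265 := ded_29_0 L6401 L3030 L3011 L6368
theorem L6407 : sm gf N1265 = N1257 := flp_f L6406
theorem L6416 : sm gd N625 = N1267 := rfl
theorem L6418 : sm ga N1267 = N627 := ded_9_1 L3053 L3044 L6416
theorem L6419 : sm ga N627 = N1267 := flp_a L6418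
theorem L6420 : sm gb N1267 = N1264 := ded_14_1 L6398 L5681 L6416
theorem L6423 : sm gg N625 = N1268 := rfl
theorem L6424 : sm gg N1268 = N625 := flp_g L6423
theorem L6425 : sm ga N1268 = N628 := ded_12_1 L3057 L3044 L6423
theorem L6426 : sm ga N628 = N1268 := flp_a L6425
theorem L6429 : sm gf N628 = N1268 := ded_29_0 L6424 L3045 L6423 L6425
theorem L6430 : sm gf N1268 = N628 := flp_f L6429
theorem L6431 : sm gc N627 = N1269 := rfl
theorem L6432 : sm gc N1269 = N627 := flp_c L6431
theorem L6433 : sm gf N1269 = N1269 := ded_20_2 L6432 L3055 L6431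
theorem L6434 : sm ge N627 = N1270 := rfl
theorem L6435 : sm ge N1270 = N627 := flp_e L6434
theorem L6438 : sm gg N627 = N1271 := rfl
theorem L6439 : sm gg N1271 = N627 := flp_g L6438
theorem L6440 : sm gd N1271 = N628 := ded_24_1 L3057 L3052 L6438
theorem L6441 : sm gd N628 = N1271 := flp_d L6440
theorem L6442 : sm gb N628 = N1272 := rfl
theorem L6443 : sm gb N1272 = N628 := flp_b L6442
theorem L6444 : sm gc N1272 = N1171 := ded_13_2 L5939 L2807 L1548 L3059 L6442
theorem L6445 : sm gc N1171 = N1272 := flp_c L6444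
theorem L6446 : sm gg N1272 = N1272 := ded_17_2 L6443 L3057 L1544 L3056 L6442
theorem L6447 : sm ga N629 = N1273 := rfl
theorem L6448 : sm ga N1273 = N629 := flp_a L6447
theorem L6449 : sm gc N629 = N1274 := rfl
theorem L6450 : sm gc N1274 = N629 := flp_c L6449
theorem L6451 : sm gf N629 = N1275 := rfl
theorem L6452 : sm gf N1275 = N629 := flp_f L6451
theorem L6453 : sm gg N629 = N1276 := rfl
theorem L6454 : sm gg N1276 = N629 := flp_g L6453
theorem L6455 : sm gb N630 = N1277 := rfl
theorem L6456 : sm gb N1277 = N630 := flp_b L6455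
theorem L6457 : sm gb N631 = N1278 := rfl
theorem L6458 : sm gb N1278 = N631 := flp_b L6457
theorem L6459 : sm ga N632 = N1279 := rfl
theorem L6460 : sm ga N1279 = N632 := flp_a L6459
theorem L6461 : sm gf N1279 = N635 := ded_11_2 L3085 L3073 L6459
theorem L6462 : sm gf N635 = N1279 := flp_f L6461
theorem L6463 : sm gc N632 = N1280 := rfl
theorem L6464 : sm gc N1280 = N632 := flp_c L6463
theorem L6465 : sm gf N1280 = N636 := ded_20_2 L3087 L3073 L6463
theorem L6466 : sm gf N636 = N1280 := flp_f L6465
theorem L6467 : sm gg N632 = N1281 := rfl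
theorem L6468 : sm gg N1281 = N632 := flp_g L6467
theorem L6469 : sm gb N633 = N1282 := rfl
theorem L6470 : sm gb N1282 = N633 := flp_b L6469
theorem L6471 : sm gb N634 = N1283 := rfl
theorem L6472 : sm gb N1283 = N634 := flp_b L6471
theorem L6473 : sm gf N1283 = N1283 := ded_16_2 L6472 L3079 L1555 L3078 L6471
theorem L6474 : sm gb N635 = N1284 := rfl
theorem L6475 : sm gb N1284 = N635 := flp_b L6474
theorem L6476 : sm gc N635 = N1285 := rfl
theorem L6477 : sm gc N1285 = N635 := flp_c L6476
theorem L6478 : sm ga N1285 = N636 := ded_8_1 L3087 L3084 L6476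
theorem L6479 : sm ga N636 = N1285 := flp_a L6478
theorem L6480 : sm gg N635 = N1286 := rfl
theorem L6481 : sm gg N1286 = N635 := flp_g L6480
theorem L6482 : sm ga N1286 = N637 := ded_12_1 L3091 L3084 L6480
theorem L6484 : sm gf N1286 = N1281 := ded_29_2 L6468 L6459 L6461 L6480
theorem L6485 : sm gf N1281 = N1286 := flp_f L6484
theorem L6490 : sm gg N636 = N1288 := rfl
theorem L6491 : sm gg N1288 = N636 := flp_g L6490
theorem L6492 : sm gc N1288 = N637 := ded_21_1 L3091 L3086 L6490
theorem L6493 : sm gc N637 = N1288 := flp_c L6492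
theorem L6494 : sm gf N637 = N1289 := rfl
theorem L6495 : sm gf N1289 = N637 := flp_f L6494
theorem L6496 : sm ga N1289 = N1281 := ded_11_1 L6485 L6482 L6494
theorem L6497 : sm ga N1281 = N1289 := flp_a L6496
theorem L6498 : sm gg N1289 = N1279 := ded_29_3 L6460 L3072 L3090 L6494
theorem L6499 : sm gg N1279 = N1289 := flp_g L6498
theorem L6520 : sm gg N639 = N1296 := rfl
theorem L6521 : sm gg N1296 = N639 := flp_g L6520
theorem L6526 : sm gf N1296 = N1206 := ded_29_2 L6095 L6087 L6088 L6520
theorem L6534 : sm ge N641 = N1299 := rfl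
theorem L6535 : sm ge N1299 = N641 := flp_e L6534
theorem L6560 : sm gg N644 = N1305 := rfl
theorem L6561 : sm gg N1305 = N644 := flp_g L6560
theorem L6562 : sm ga N1305 = N647 := ded_12_1 L3135 L3122 L6560
theorem L6563 : sm ga N647 = N1305 := flp_a L6562
theorem L6588 : sm gg N646 = N1310 := rfl
theorem L6589 : sm gg N1310 = N646 := flp_g L6588
theorem L6592 : sm gf N1305 = N1310 := ded_29_0 L6589 L3131 L3134 L6563
theorem L6593 : sm gf N1310 = N1305 := flp_f L6592
theorem L6667 : sm gf N651 = N1323 := rfl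
theorem L6671 : sm ge N1323 = N678 := ded_25_1 L3270 L3159 L6667
theorem L6672 : sm ge N678 = N1323 := flp_e L6671
theorem L6673 : sm gb N1323 = N1226 := ded_16_1 L6191 L2933 L1585 L3156 L6667
theorem L6674 : sm gb N1226 = N1323 := flp_b L6673
theorem L6713 : sm ga N655 = N1331 := rfl
theorem L6715 : sm gc N1331 = N804 := ded_8_2 L3919 L3177 L6713
theorem L6719 : sm gg N1331 = N696 := ded_12_2 L3356 L3179 L6713
theorem L6777 : sm gf N662 = N1342 := rfl
theorem L6778 : sm gf N1342 = N662 := flp_f L6777
theorem L6780 : sm gd N1342 = N663 := ded_23_1 L3213 L3210 L6777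
theorem L6787 : sm gb N663 = N1344 := rfl
theorem L6788 : sm gb N1344 = N663 := flp_b L6787
theorem L6822 : sm gg N668 = N1351 := rfl
theorem L6824 : sm ga N1351 = N671 := ded_12_1 L3244 L3234 L6822
theorem L6825 : sm ga N671 = N1351 := flp_a L6824
theorem L6826 : sm gc N1351 = N965 := ded_21_1 L4762 L4304 L6822
theorem L6842 : sm gg N670 = N1356 := rfl
theorem L6843 : sm gg N1356 = N670 := flp_g L6842
theorem L6844 : sm gf N1351 = N1356 := ded_29_0 L6843 L3242 L3243 L6825
theorem L6845 : sm gf N1356 = N1351 := flp_f L6844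
theorem L6846 : sm gb N671 = N1357 := rfl
theorem L6847 : sm gb N1357 = N671 := flp_b L6846
theorem L6848 : sm gg N1357 = N675 := ded_17_2 L3264 L1619 L1612 L3243 L6846
theorem L6849 : sm gg N675 = N1357 := flp_g L6848
theorem L6872 : sm gg N673 = N1361 := rfl
theorem L6873 : sm gg N1361 = N673 := flp_g L6872
theorem L6878 : sm gf N1361 = N1252 := ded_29_2 L6347 L6321 L6322 L6872
theorem L6879 : sm gf N1252 = N1361 := flp_f L6878
theorem L6884 : sm ga N675 = N1363 := rfl
theorem L6885 : sm ga N1363 = N675 := flp_a L6884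
theorem L6886 : sm gc N675 = N1364 := rfl
theorem L6887 : sm gc N1364 = N675 := flp_c L6886
theorem L6888 : sm gb N1364 = N677 := ded_13_1 L3268 L1627 L1623 L3263 L6886
theorem L6890 : sm gf N675 = N1365 := rfl
theorem L6891 : sm gf N1365 = N675 := flp_f L6890
theorem L6892 : sm gb N1365 = N1256 := ded_16_1 L6364 L3002 L1625 L3263 L6890
theorem L6893 : sm gb N1256 = N1365 := flp_b L6892
theorem L6894 : sm gc N676 = N1366 := rfl
theorem L6895 : sm gc N1366 = N676 := flp_c L6894
theorem L6896 : sm ga N1366 = N677 := ded_8_1 L3268 L3265 L6894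
theorem L6897 : sm ga N677 = N1366 := flp_a L6896
theorem L6898 : sm gf N1366 = N1133 := ded_20_2 L5742 L5698 L6894
theorem L6900 : sm gg N1366 = N1175 := ded_21_2 L5969 L5670 L6894
theorem L6902 : sm ga N1111 = N1365 := ded_30_19 L6891 L6886 L6888 L6897 L6898 L5742 L2723 L1407 L1405 L1379 L2663 L5520 L5716 L5409 L2625 L1362 L1404 L2671 L5530
theorem L6904 : sm gf N1363 = N1111 := ded_11_0 L6902 L6891 L6884
theorem L6906 : sm gb N1110 = N1363 := ded_16_5 L6904 L5531 L2667 L2663 L5528
theorem L6907 : sm gb N1363 = N1110 := flp_b L6906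
theorem L6943 : sm gf N681 = N1374 := rfl
theorem L6944 : sm gf N1374 = N681 := flp_f L6943
theorem L6949 : sm gg N1374 = N1246 := ded_29_3 L6312 L2990 L3285 L6943
theorem L6983 : sm gb N685 = N1381 := rfl
theorem L6984 : sm gb N1381 = N685 := flp_b L6983
theorem L7071 : sm gf N696 = N1401 := rfl
theorem L7075 : sm gc N1401 = N803 := ded_20_1 L3912 L3358 L7071
theorem L7081 : sm gg N697 = N1402 := rfl
theorem L7082 : sm gg N1402 = N697 := flp_g L7081
theorem L7087 : sm ge N1402 = N703 := ded_26_1 L3397 L3368 L7081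
theorem L7088 : sm ge N703 = N1402 := flp_e L7087
theorem L7089 : sm gf N1331 = N1402 := ded_29_0 L7082 L3364 L3179 L6713
theorem L7090 : sm gf N1402 = N1331 := flp_f L7089
theorem L7097 : sm gc N698 = N1404 := rfl
theorem L7099 : sm ge N1404 = N700 := ded_19_2 L3381 L3373 L7097
theorem L7107 : sm gc N699 = N1406 := rfl
theorem L7108 : sm gc N1406 = N699 := flp_c L7107
theorem L7109 : sm ga N1406 = N700 := ded_8_1 L3381 L3374 L7107
theorem L7110 : sm ga N700 = N1406 := flp_a L7109
theorem L7148 : sm gf N706 = N1414 := rfl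
theorem L7150 : sm ga N1414 = N1342 := ded_11_1 L6778 L4290 L7148
theorem L7155 : sm gg N706 = N1415 := rfl
theorem L7156 : sm gg N1415 = N706 := flp_g L7155
theorem L7159 : sm gc N1415 = N1415 := ded_21_1 L7156 L3414 L7155
theorem L7160 : sm gd N1415 = N709 := ded_24_1 L3422 L3410 L7155
theorem L7162 : sm gd N707 = N1416 := rfl
theorem L7166 : sm gb N1416 = N713 := ded_14_1 L3440 L3418 L7162
theorem L7167 : sm gb N713 = N1416 := flp_b L7166
theorem L7176 : sm gg N707 = N1418 := rfl
theorem L7177 : sm gg N1418 = N707 := flp_g L7176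
theorem L7180 : sm gc N1418 = N1305 := ded_21_1 L6561 L4284 L7176
theorem L7181 : sm gc N1305 = N1418 := flp_c L7180
theorem L7206 : sm gb N711 = N1423 := rfl
theorem L7207 : sm gb N1423 = N711 := flp_b L7206
theorem L7208 : sm gd N1423 = N716 := ded_14_2 L3460 L3432 L7206
theorem L7209 : sm gd N716 = N1423 := flp_d L7208
theorem L7210 : sm gb N712 = N1424 := rfl
theorem L7212 : sm gd N1424 = N717 := ded_14_2 L3462 L3438 L7210
theorem L7214 : sm gc N713 = N1425 := rfl
theorem L7215 : sm gc N1425 = N713 := flp_c L7214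
theorem L7216 : sm ga N1425 = N727 := ded_8_1 L3510 L3442 L7214
theorem L7217 : sm ga N727 = N1425 := flp_a L7216
theorem L7218 : sm gf N713 = N1426 := rfl
theorem L7220 : sm ga N1426 = N728 := ded_11_1 L3512 L3442 L7218
theorem L7224 : sm gg N713 = N1427 := rfl
theorem L7226 : sm ga N1427 = N729 := ded_12_1 L3516 L3442 L7224
theorem L7227 : sm ga N729 = N1427 := flp_a L7226
theorem L7240 : sm gc N716 = N1431 := rfl
theorem L7242 : sm gb N1431 = N772 := ded_13_1 L3742 L1849 L1715 L3459 L7240
theorem L7243 : sm gb N772 = N1431 := flp_b L7242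
theorem L7250 : sm gg N716 = N1432 := rfl
theorem L7251 : sm gg N1432 = N716 := flp_g L7250
theorem L7252 : sm gf N717 = N1433 := rfl
theorem L7253 : sm gf N1433 = N717 := flp_f L7252
theorem L7254 : sm gc N1433 = N1028 := ded_20_1 L5092 L5663 L7252
theorem L7256 : sm gg N1027 = N1433 := ded_29_1 L7253 L5691 L5069 L5081
theorem L7257 : sm gg N1433 = N1027 := flp_g L7256
theorem L7274 : sm gg N719 = N1438 := rfl
theorem L7278 : sm gd N1438 = N1374 := ded_24_1 L6949 L6317 L7274
theorem L7282 : sm gb N720 = N1439 := rfl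
theorem L7283 : sm gb N1439 = N720 := flp_b L7282
theorem L7298 : sm gf N721 = N1442 := rfl
theorem L7299 : sm gf N1442 = N721 := flp_f L7298
theorem L7302 : sm ge N1442 = N728 := ded_25_1 L3512 L3480 L7298
theorem L7303 : sm ge N728 = N1442 := flp_e L7302
theorem L7304 : sm gg N721 = N1443 := rfl
theorem L7308 : sm ge N1443 = N729 := ded_26_1 L3516 L3480 L7304
theorem L7310 : sm gb N722 = N1444 := rfl
theorem L7312 : sm ge N1444 = N724 := ded_15_2 L3490 L3484 L7310
theorem L7314 : sm gf N1444 = N739 := ded_16_2 L3572 L1777 L1727 L3481 L7310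
theorem L7315 : sm gf N739 = N1444 := flp_f L7314
theorem L7330 : sm ga N724 = N1447 := rfl
theorem L7334 : sm gf N1447 = N740 := ded_11_2 L3576 L3494 L7330
theorem L7340 : sm gg N724 = N1449 := rfl
theorem L7341 : sm gg N1449 = N724 := flp_g L7340
theorem L7342 : sm gd N1449 = N734 := ded_24_1 L3552 L3492 L7340
theorem L7352 : sm gb N727 = N1452 := rfl
theorem L7353 : sm gb N1452 = N727 := flp_b L7352
theorem L7354 : sm gc N1452 = N743 := ded_13_2 L3588 L1787 L1739 L3509 L7352
theorem L7355 : sm gc N743 = N1452 := flp_c L7354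
theorem L7356 : sm gd N727 = N1453 := rfl
theorem L7357 : sm gd N1453 = N727 := flp_d L7356
theorem L7358 : sm gf N727 = N1454 := rfl
theorem L7359 : sm gf N1454 = N727 := flp_f L7358
theorem L7360 : sm gc N1454 = N728 := ded_20_1 L3512 L3509 L7358
theorem L7361 : sm gc N728 = N1454 := flp_c L7360
theorem L7366 : sm gb N728 = N1456 := rfl
theorem L7367 : sm gb N1456 = N728 := flp_b L7366
theorem L7368 : sm gd N1456 = N730 := ded_14_2 L3520 L3514 L7366
theorem L7369 : sm gd N730 = N1456 := flp_d L7368
theorem L7370 : sm gf N1456 = N745 := ded_16_2 L3596 L1789 L1739 L3511 L7366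
theorem L7371 : sm gf N745 = N1456 := flp_f L7370
theorem L7372 : sm gg N728 = N1457 := rfl
theorem L7373 : sm gg N1457 = N728 := flp_g L7372
theorem L7376 : sm gf N1427 = N1457 := ded_29_0 L7373 L3512 L3515 L7227
theorem L7386 : sm ga N730 = N1459 := rfl
theorem L7387 : sm ga N1459 = N730 := flp_a L7386
theorem L7388 : sm gc N1459 = N893 := ded_8_2 L4440 L3524 L7386
theorem L7392 : sm gf N1459 = N746 := ded_11_2 L3600 L3526 L7386
theorem L7393 : sm gf N746 = N1459 := flp_f L7392
theorem L7394 : sm gg N730 = N1460 := rfl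
theorem L7395 : sm gg N1460 = N730 := flp_g L7394
theorem L7398 : sm ge N1460 = N734 := ded_26_1 L3552 L3522 L7394
theorem L7399 : sm ge N734 = N1460 := flp_e L7398
theorem L7416 : sm gc N735 = N1466 := rfl
theorem L7417 : sm gc N1466 = N735 := flp_c L7416
theorem L7418 : sm gb N1466 = N786 := ded_13_1 L3814 L1891 L1761 L3555 L7416
theorem L7419 : sm gb N786 = N1466 := flp_b L7418
theorem L7426 : sm gc N736 = N1469 := rfl
theorem L7427 : sm gc N1469 = N736 := flp_c L7426
theorem L7428 : sm gb N1469 = N789 := ded_13_1 L3830 L1897 L1769 L3557 L7426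
theorem L7429 : sm gb N789 = N1469 := flp_b L7428
theorem L7434 : sm gb N737 = N1471 := rfl
theorem L7436 : sm ge N1471 = N743 := ded_15_2 L3588 L3562 L7434
theorem L7438 : sm gd N737 = N1472 := rfl
theorem L7439 : sm gd N1472 = N737 := flp_d L7438
theorem L7442 : sm gf N737 = N1473 := rfl
theorem L7443 : sm gf N1473 = N737 := flp_f L7442
theorem L7444 : sm gc N1473 = N738 := ded_20_1 L3564 L3559 L7442
theorem L7445 : sm gc N738 = N1473 := flp_c L7444
theorem L7446 : sm ge N1473 = N744 := ded_25_1 L3590 L3562 L7442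
theorem L7448 : sm gg N924 = N1473 := ded_29_1 L7443 L4035 L4030 L4583
theorem L7449 : sm gg N1473 = N924 := flp_g L7448
theorem L7450 : sm gb N738 = N1474 := rfl
theorem L7452 : sm gd N1474 = N739 := ded_14_2 L3572 L3566 L7450
theorem L7453 : sm gd N739 = N1474 := flp_d L7452
theorem L7454 : sm ge N1474 = N745 := ded_15_2 L3596 L3568 L7450
theorem L7456 : sm ga N739 = N1475 := rfl
theorem L7457 : sm ga N1475 = N739 := flp_a L7456
theorem L7458 : sm ge N1475 = N740 := ded_10_2 L3576 L3574 L7456
theorem L7459 : sm ge N740 = N1475 := flp_e L7458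
theorem L7464 : sm gg N739 = N1477 := rfl
theorem L7465 : sm gg N1477 = N739 := flp_g L7464
theorem L7468 : sm gb N1477 = N928 := ded_17_1 L4604 L2242 L1780 L3571 L7464
theorem L7469 : sm gb N928 = N1477 := flp_b L7468
theorem L7474 : sm gc N740 = N1479 := rfl
theorem L7475 : sm gc N1479 = N740 := flp_c L7474
theorem L7476 : sm ga N1479 = N741 := ded_8_1 L3580 L3575 L7474
theorem L7477 : sm ga N741 = N1479 := flp_a L7476
theorem L7478 : sm gg N740 = N1480 := rfl
theorem L7479 : sm gg N1480 = N740 := flp_g L7478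
theorem L7484 : sm gf N1480 = N1449 := ded_29_2 L7341 L7330 L7334 L7478
theorem L7485 : sm gf N1449 = N1480 := flp_f L7484
theorem L7486 : sm gd N741 = N1481 := rfl
theorem L7487 : sm gd N1481 = N741 := flp_d L7486
theorem L7500 : sm ga N743 = N1484 := rfl
theorem L7501 : sm ga N1484 = N743 := flp_a L7500
theorem L7502 : sm gf N743 = N1485 := rfl
theorem L7503 : sm gf N1485 = N743 := flp_f L7502
theorem L7504 : sm gg N743 = N1486 := rfl
theorem L7505 : sm gg N1486 = N743 := flp_g L7504
theorem L7506 : sm gb N744 = N1487 := rfl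
theorem L7507 : sm gb N1487 = N744 := flp_b L7506
theorem L7508 : sm ga N745 = N1488 := rfl
theorem L7509 : sm ga N1488 = N745 := flp_a L7508
theorem L7510 : sm gd N1488 = N746 := ded_9_2 L3600 L3598 L7508
theorem L7511 : sm gd N746 = N1488 := flp_d L7510
theorem L7512 : sm gc N745 = N1489 := rfl
theorem L7513 : sm gc N1489 = N745 := flp_c L7512
theorem L7514 : sm gg N745 = N1490 := rfl
theorem L7515 : sm gg N1490 = N745 := flp_g L7514
theorem L7516 : sm gd N1490 = N747 := ded_24_1 L3606 L3598 L7514
theorem L7517 : sm gd N747 = N1490 := flp_d L7516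
theorem L7518 : sm gb N1490 = N943 := ded_17_1 L4666 L2270 L1792 L3595 L7514
theorem L7519 : sm gb N943 = N1490 := flp_b L7518
theorem L7520 : sm gb N746 = N1491 := rfl
theorem L7521 : sm gb N1491 = N746 := flp_b L7520
theorem L7524 : sm gg N746 = N1492 := rfl
theorem L7526 : sm ga N1492 = N747 := ded_12_1 L3606 L3599 L7524
theorem L7530 : sm ge N1492 = N749 := ded_26_1 L3616 L3604 L7524
theorem L7531 : sm ge N749 = N1492 := flp_e L7530
theorem L7532 : sm gf N1492 = N1460 := ded_29_2 L7395 L7386 L7392 L7524
theorem L7533 : sm gf N1460 = N1492 := flp_f L7532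
theorem L7534 : sm gf N747 = N1493 := rfl
theorem L7535 : sm gf N1493 = N747 := flp_f L7534
theorem L7536 : sm ga N1493 = N1460 := ded_11_1 L7533 L7526 L7534
theorem L7538 : sm gc N1493 = N950 := ded_20_1 L4696 L3608 L7534
theorem L7540 : sm ge N1493 = N750 := ded_25_1 L3624 L3610 L7534
theorem L7541 : sm ge N750 = N1493 := flp_e L7540
theorem L7542 : sm gg N1493 = N1459 := ded_29_3 L7387 L3525 L3605 L7534
theorem L7543 : sm gg N1459 = N1493 := flp_g L7542
theorem L7568 : sm gf N752 = N1501 := rfl
theorem L7570 : sm ga N1501 = N760 := ded_11_1 L3674 L3638 L7568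
theorem L7571 : sm ga N760 = N1501 := flp_a L7570
theorem L7574 : sm ge N1501 = N753 := ded_25_1 L3642 L3635 L7568
theorem L7575 : sm ge N753 = N1501 := flp_e L7574
theorem L7606 : sm gg N760 = N1507 := rfl
theorem L7608 : sm ge N1507 = N763 := ded_26_1 L3688 L3676 L7606
theorem L7612 : sm gb N1159 = N1507 := ded_15_3 L7608 L5629 L5864
theorem L7613 : sm gb N1507 = N1159 := flp_b L7612
theorem L7624 : sm gc N762 = N1509 := rfl
theorem L7625 : sm gc N1509 = N762 := flp_c L7624
theorem L7626 : sm gf N1509 = N772 := ded_20_2 L3742 L3686 L7624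
theorem L7627 : sm gf N772 = N1509 := flp_f L7626
theorem L7632 : sm gd N766 = N1511 := rfl
theorem L7634 : sm ga N1511 = N778 := ded_9_1 L3764 L3710 L7632
theorem L7636 : sm gc N1511 = N1453 := ded_28_6 L7357 L7217 L7215 L3440 L1708 L1830 L3707 L7632
theorem L7637 : sm gc N1453 = N1511 := flp_c L7636
theorem L7638 : sm gf N766 = N1512 := rfl
theorem L7639 : sm gf N1512 = N766 := flp_f L7638
theorem L7640 : sm ga N1512 = N779 := ded_11_1 L3766 L3710 L7638
theorem L7644 : sm ge N1512 = N1204 := ded_25_1 L6088 L3712 L7638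
theorem L7646 : sm gg N766 = N1513 := rfl
theorem L7648 : sm ga N1513 = N780 := ded_12_1 L3772 L3710 L7646
theorem L7649 : sm ga N780 = N1513 := flp_a L7648
theorem L7652 : sm ge N1513 = N1296 := ded_26_1 L6521 L3712 L7646
theorem L7654 : sm gb N767 = N1514 := rfl
theorem L7655 : sm gb N1514 = N767 := flp_b L7654
theorem L7656 : sm gd N1514 = N769 := ded_14_2 L3730 L3718 L7654
theorem L7658 : sm ge N1514 = N1203 := ded_15_2 L6081 L3720 L7654
theorem L7659 : sm ge N1203 = N1514 := flp_e L7658
theorem L7676 : sm gg N769 = N1518 := rfl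
theorem L7677 : sm gg N1518 = N769 := flp_g L7676
theorem L7682 : sm gf N770 = N1519 := rfl
theorem L7683 : sm gf N1519 = N770 := flp_f L7682
theorem L7686 : sm ge N1519 = N776 := ded_25_1 L3754 L3736 L7682
theorem L7687 : sm ge N776 = N1519 := flp_e L7686
theorem L7690 : sm gc N771 = N1520 := rfl
theorem L7691 : sm gc N1520 = N771 := flp_c L7690
theorem L7692 : sm ga N1520 = N772 := ded_8_1 L3742 L3737 L7690
theorem L7694 : sm gg N1520 = N1135 := ded_21_2 L5750 L5059 L7690
theorem L7698 : sm gg N772 = N1522 := rfl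
theorem L7699 : sm gg N1522 = N772 := flp_g L7698
theorem L7714 : sm ga N777 = N1524 := rfl
theorem L7715 : sm ga N1524 = N777 := flp_a L7714
theorem L7716 : sm gc N1524 = N791 := ded_8_2 L3840 L3762 L7714
theorem L7717 : sm gc N791 = N1524 := flp_c L7716
theorem L7718 : sm ge N1524 = N1285 := ded_10_2 L6478 L3760 L7714
theorem L7719 : sm ge N1285 = N1524 := flp_e L7718
theorem L7720 : sm gd N777 = N1525 := rfl
theorem L7721 : sm gd N1525 = N777 := flp_d L7720
theorem L7722 : sm gb N1525 = N778 := ded_14_1 L3764 L3757 L7720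
theorem L7723 : sm gb N778 = N1525 := flp_b L7722
theorem L7724 : sm gf N777 = N1526 := rfl
theorem L7725 : sm gf N1526 = N777 := flp_f L7724
theorem L7726 : sm gc N1526 = N792 := ded_20_1 L3846 L3762 L7724
theorem L7727 : sm gc N792 = N1526 := flp_c L7726
theorem L7728 : sm ge N1526 = N1280 := ded_25_1 L6465 L3760 L7724
theorem L7729 : sm ge N1280 = N1526 := flp_e L7728
theorem L7730 : sm gg N777 = N1527 := rfl
theorem L7731 : sm gg N1527 = N777 := flp_g L7730
theorem L7732 : sm gc N1527 = N793 := ded_21_1 L3854 L3762 L7730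
theorem L7733 : sm gc N793 = N1527 := flp_c L7732
theorem L7734 : sm ge N1527 = N1288 := ded_26_1 L6491 L3760 L7730
theorem L7735 : sm ge N1288 = N1527 := flp_e L7734
theorem L7736 : sm gc N778 = N1528 := rfl
theorem L7737 : sm gc N1528 = N778 := flp_c L7736
theorem L7738 : sm ga N1528 = N1453 := ded_8_1 L7637 L7634 L7736
theorem L7739 : sm ga N1453 = N1528 := flp_a L7738
theorem L7740 : sm gd N1528 = N1425 := ded_28_7 L7216 L3510 L1737 L944 L996 L1856 L3763 L7736
theorem L7741 : sm gd N1425 = N1528 := flp_d L7740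
theorem L7742 : sm ge N778 = N1529 := rfl
theorem L7743 : sm ge N1529 = N778 := flp_e L7742
theorem L7744 : sm gd N1529 = N1299 := ded_22_1 L6535 L3109 L1859 L3763 L7742
theorem L7745 : sm gd N1299 = N1529 := flp_d L7744
theorem L7746 : sm gf N778 = N1530 := rfl
theorem L7747 : sm gf N1530 = N778 := flp_f L7746
theorem L7748 : sm gd N1530 = N779 := ded_23_1 L3766 L3763 L7746
theorem L7749 : sm gd N779 = N1530 := flp_d L7748
theorem L7750 : sm gg N778 = N1531 := rfl
theorem L7751 : sm gg N1531 = N778 := flp_g L7750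
theorem L7754 : sm gb N779 = N1532 := rfl
theorem L7755 : sm gb N1532 = N779 := flp_b L7754
theorem L7756 : sm ge N1532 = N1197 := ded_15_2 L6066 L3770 L7754
theorem L7757 : sm ge N1197 = N1532 := flp_e L7756
theorem L7758 : sm gc N1532 = N1037 := ded_13_2 L5134 L2502 L1867 L3768 L7754
theorem L7759 : sm gc N1037 = N1532 := flp_c L7758
theorem L7760 : sm gg N779 = N1533 := rfl
theorem L7761 : sm gg N1533 = N779 := flp_g L7760
theorem L7762 : sm gc N1533 = N781 := ded_21_1 L3778 L3768 L7760
theorem L7763 : sm gc N781 = N1533 := flp_c L7762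
theorem L7766 : sm gf N1513 = N1533 := ded_29_0 L7761 L3766 L3771 L7649
theorem L7767 : sm gf N1533 = N1513 := flp_f L7766
theorem L7774 : sm gf N780 = N1535 := rfl
theorem L7775 : sm gf N1535 = N780 := flp_f L7774
theorem L7776 : sm ga N1535 = N1533 := ded_11_1 L7767 L7648 L7774
theorem L7778 : sm gc N1535 = N782 := ded_20_1 L3786 L3774 L7774
theorem L7779 : sm gc N782 = N1535 := flp_c L7778
theorem L7782 : sm gg N1535 = N1512 := ded_29_3 L7640 L3766 L3771 L7774
theorem L7784 : sm gb N781 = N1536 := rfl
theorem L7785 : sm gb N1536 = N781 := flp_b L7784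
theorem L7786 : sm gd N1536 = N783 := ded_14_2 L3796 L3780 L7784
theorem L7787 : sm gd N783 = N1536 := flp_d L7786
theorem L7790 : sm gg N1536 = N1041 := ded_17_2 L5161 L2513 L1867 L3777 L7784
theorem L7791 : sm gg N1041 = N1536 := flp_g L7790
theorem L7800 : sm ga N783 = N1538 := rfl
theorem L7801 : sm ga N1538 = N783 := flp_a L7800
theorem L7802 : sm ge N1538 = N785 := ded_10_2 L3808 L3798 L7800
theorem L7803 : sm ge N785 = N1538 := flp_e L7802
theorem L7806 : sm gc N783 = N1539 := rfl
theorem L7807 : sm gc N1539 = N783 := flp_c L7806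
theorem L7810 : sm gg N1539 = N1044 := ded_21_2 L5178 L3800 L7806
theorem L7812 : sm gf N783 = N1540 := rfl
theorem L7813 : sm gf N1540 = N783 := flp_f L7812
theorem L7814 : sm ge N1540 = N787 := ded_25_1 L3818 L3798 L7812
theorem L7815 : sm ge N787 = N1540 := flp_e L7814
theorem L7832 : sm gg N784 = N1543 := rfl
theorem L7833 : sm gg N1543 = N784 := flp_g L7832
theorem L7836 : sm gb N1543 = N1518 := ded_17_1 L7677 L3730 L1889 L3801 L7832
theorem L7837 : sm gb N1518 = N1543 := flp_b L7836
theorem L7868 : sm gb N791 = N1550 := rfl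
theorem L7869 : sm gb N1550 = N791 := flp_b L7868
theorem L7870 : sm gd N1550 = N1284 := ded_14_2 L6475 L3842 L7868
theorem L7871 : sm gd N1284 = N1550 := flp_d L7870
theorem L7872 : sm ge N1550 = N1284 := ded_15_2 L6475 L3844 L7868
theorem L7873 : sm ge N1284 = N1550 := flp_e L7872
theorem L7874 : sm gf N791 = N1551 := rfl
theorem L7875 : sm gf N1551 = N791 := flp_f L7874
theorem L7876 : sm ga N1551 = N792 := ded_11_1 L3846 L3839 L7874
theorem L7877 : sm ga N792 = N1551 := flp_a L7876
theorem L7878 : sm gd N1551 = N1279 := ded_23_1 L6461 L3842 L7874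
theorem L7879 : sm gd N1279 = N1551 := flp_d L7878
theorem L7880 : sm ge N1551 = N1279 := ded_25_1 L6461 L3844 L7874
theorem L7881 : sm ge N1279 = N1551 := flp_e L7880
theorem L7882 : sm gg N791 = N1552 := rfl
theorem L7883 : sm gg N1552 = N791 := flp_g L7882
theorem L7884 : sm ga N1552 = N793 := ded_12_1 L3854 L3839 L7882
theorem L7885 : sm ga N793 = N1552 := flp_a L7884
theorem L7886 : sm gd N1552 = N1286 := ded_24_1 L6481 L3842 L7882
theorem L7887 : sm gd N1286 = N1552 := flp_d L7886
theorem L7888 : sm ge N1552 = N1286 := ded_26_1 L6481 L3844 L7882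
theorem L7889 : sm ge N1286 = N1552 := flp_e L7888
theorem L7890 : sm gg N792 = N1553 := rfl
theorem L7891 : sm gg N1553 = N792 := flp_g L7890
theorem L7892 : sm gd N1553 = N1281 := ded_24_1 L6468 L3848 L7890
theorem L7893 : sm gd N1281 = N1553 := flp_d L7892
theorem L7894 : sm ge N1553 = N1281 := ded_26_1 L6468 L3850 L7890
theorem L7895 : sm ge N1281 = N1553 := flp_e L7894
theorem L7896 : sm gf N1552 = N1553 := ded_29_0 L7891 L3846 L3853 L7885
theorem L7897 : sm gf N1553 = N1552 := flp_f L7896
theorem L7898 : sm gf N793 = N1554 := rfl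
theorem L7899 : sm gf N1554 = N793 := flp_f L7898
theorem L7900 : sm ga N1554 = N1553 := ded_11_1 L7897 L7884 L7898
theorem L7901 : sm ga N1553 = N1554 := flp_a L7900
theorem L7902 : sm gd N1554 = N1289 := ded_23_1 L6495 L3856 L7898
theorem L7903 : sm gd N1289 = N1554 := flp_d L7902
theorem L7904 : sm ge N1554 = N1289 := ded_25_1 L6495 L3858 L7898
theorem L7905 : sm ge N1289 = N1554 := flp_e L7904
theorem L7906 : sm gg N1554 = N1551 := ded_29_3 L7876 L3846 L3853 L7898
theorem L7907 : sm gg N1551 = N1554 := flp_g L7906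
theorem L7940 : sm gg N795 = N1560 := rfl
theorem L7941 : sm gg N1560 = N795 := flp_g L7940
theorem L7942 : sm ga N1560 = N990 := ded_12_1 L4869 L3870 L7940
theorem L7943 : sm ga N990 = N1560 := flp_a L7942
theorem L7946 : sm ge N1560 = N797 := ded_26_1 L3882 L3867 L7940
theorem L7948 : sm gb N796 = N1561 := rfl
theorem L7949 : sm gb N1561 = N796 := flp_b L7948
theorem L7950 : sm gf N1561 = N805 := ded_16_2 L3924 L1919 L1908 L3875 L7948
theorem L7951 : sm gf N805 = N1561 := flp_f L7950
theorem L7952 : sm gb N797 = N1562 := rfl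
theorem L7954 : sm gc N1562 = N1363 := ded_13_2 L6907 L5703 L4843 L3886 L7952
theorem L7956 : sm gg N1562 = N806 := ded_17_2 L3926 L1923 L1908 L3881 L7952
theorem L7958 : sm ga N1364 = N1562 := ded_8_3 L7954 L6885 L6886
theorem L7993 : sm gf N799 = N1569 := rfl
theorem L7995 : sm ga N1569 = N812 := ded_11_1 L3952 L3894 L7993
theorem L7997 : sm ge N1569 = N800 := ded_25_1 L3896 L3891 L7993
theorem L8033 : sm gb N804 = N1577 := rfl
theorem L8034 : sm gb N1577 = N804 := flp_b L8033
theorem L8035 : sm ge N1577 = N806 := ded_15_2 L3926 L3922 L8033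
theorem L8036 : sm ge N806 = N1577 := flp_e L8035
theorem L8041 : sm gg N805 = N1580 := rfl
theorem L8042 : sm gg N1580 = N805 := flp_g L8041
theorem L8043 : sm ga N806 = N1581 := rfl
theorem L8044 : sm ga N1581 = N806 := flp_a L8043
theorem L8045 : sm gg N1581 = N1364 := ded_12_2 L7958 L7956 L8043
theorem L8047 : sm gc N1357 = N1581 := ded_21_3 L8045 L6887 L6849
theorem L8049 : sm gc N806 = N1582 := rfl
theorem L8051 : sm ga N1582 = N1357 := ded_8_1 L8047 L8044 L8049
theorem L8052 : sm ga N1357 = N1582 := flp_a L8051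
theorem L8069 : sm gf N807 = N1586 := rfl
theorem L8070 : sm gf N1586 = N807 := flp_f L8069
theorem L8071 : sm gd N1586 = N809 := ded_23_1 L3938 L3927 L8069
theorem L8072 : sm gd N809 = N1586 := flp_d L8071
theorem L8073 : sm gg N807 = N1587 := rfl
theorem L8075 : sm gd N1587 = N810 := ded_24_1 L3942 L3927 L8073
theorem L8097 : sm gg N809 = N1592 := rfl
theorem L8098 : sm gg N1592 = N809 := flp_g L8097
theorem L8099 : sm gc N1592 = N815 := ded_21_1 L3968 L3940 L8097
theorem L8100 : sm gc N815 = N1592 := flp_c L8099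
theorem L8103 : sm gb N810 = N1593 := rfl
theorem L8105 : sm gc N1593 = N1439 := ded_13_2 L7283 L3473 L1943 L3944 L8103
theorem L8147 : sm gf N813 = N1600 := rfl
theorem L8153 : sm gg N1600 = N1569 := ded_29_3 L7995 L3952 L3955 L8147
theorem L8213 : sm ga N820 = N1613 := rfl
theorem L8214 : sm ga N1613 = N820 := flp_a L8213
theorem L8218 : sm gf N1613 = N836 := ded_11_2 L4077 L3999 L8213
theorem L8253 : sm gc N826 = N1623 := rfl
theorem L8254 : sm gc N1623 = N826 := flp_c L8253
theorem L8255 : sm gf N1623 = N1469 := ded_20_2 L7427 L4027 L8253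
theorem L8256 : sm gf N1469 = N1623 := flp_f L8255
theorem L8257 : sm gg N826 = N1624 := rfl
theorem L8259 : sm gb N1624 = N1580 := ded_17_1 L8042 L3924 L1972 L4024 L8257
theorem L8265 : sm gd N827 = N1626 := rfl
theorem L8267 : sm ga N1626 = N923 := ded_9_1 L4582 L4031 L8265
theorem L8268 : sm ga N923 = N1626 := flp_a L8267
theorem L8269 : sm gg N1626 = N1472 := ded_24_2 L7439 L4035 L8265
theorem L8271 : sm ge N1626 = N923 := ded_22_2 L4582 L2233 L2000 L4033 L8265
theorem L8272 : sm ge N923 = N1626 := flp_e L8271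
theorem L8273 : sm gf N827 = N1627 := rfl
theorem L8275 : sm ga N1627 = N924 := ded_11_1 L4584 L4031 L8273
theorem L8276 : sm ga N924 = N1627 := flp_a L8275
theorem L8281 : sm gb N828 = N1628 := rfl
theorem L8285 : sm ge N1628 = N835 := ded_15_2 L4073 L4043 L8281
theorem L8297 : sm gg N829 = N1631 := rfl
theorem L8298 : sm gg N1631 = N829 := flp_g L8297
theorem L8299 : sm ge N1631 = N832 := ded_26_1 L4057 L4047 L8297
theorem L8300 : sm ge N832 = N1631 := flp_e L8299
theorem L8333 : sm ga N833 = N1638 := rfl
theorem L8335 : sm gd N1638 = N935 := ded_9_2 L4638 L4063 L8333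
theorem L8337 : sm gf N833 = N1639 := rfl
theorem L8339 : sm gd N1639 = N936 := ded_23_1 L4640 L4063 L8337
theorem L8341 : sm gg N833 = N1640 := rfl
theorem L8343 : sm gd N1640 = N937 := ded_24_1 L4642 L4063 L8341
theorem L8345 : sm gb N1640 = N1486 := ded_17_1 L7505 L3588 L1998 L4060 L8341
theorem L8346 : sm gb N1486 = N1640 := flp_b L8345
theorem L8347 : sm gb N834 = N1641 := rfl
theorem L8349 : sm gd N1641 = N938 := ded_14_2 L4644 L4071 L8347
theorem L8357 : sm gg N835 = N1644 := rfl
theorem L8358 : sm gg N1644 = N835 := flp_g L8357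
theorem L8359 : sm gd N1644 = N837 := ded_24_1 L4082 L4075 L8357
theorem L8374 : sm gf N837 = N1647 := rfl
theorem L8381 : sm gg N1647 = N1613 := ded_29_3 L8214 L3998 L4081 L8374
theorem L8414 : sm gg N841 = N1656 := rfl
theorem L8415 : sm gg N1656 = N841 := flp_g L8414
theorem L8418 : sm gc N1656 = N882 := ded_21_1 L4389 L4108 L8414
theorem L8419 : sm gc N882 = N1656 := flp_c L8418
theorem L8422 : sm gd N842 = N1657 := rfl
theorem L8424 : sm ga N1657 = N848 := ded_9_1 L4149 L4113 L8422
theorem L8428 : sm gf N842 = N1658 := rfl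
theorem L8430 : sm ga N1658 = N849 := ded_11_1 L4153 L4113 L8428
theorem L8436 : sm gg N842 = N1659 := rfl
theorem L8438 : sm ga N1659 = N850 := ded_12_1 L4157 L4113 L8436
theorem L8439 : sm ga N850 = N1659 := flp_a L8438
theorem L8440 : sm gc N1659 = N850 := ded_21_1 L4157 L4117 L8436
theorem L8441 : sm gc N850 = N1659 := flp_c L8440
theorem L8444 : sm gb N843 = N1660 := rfl
theorem L8445 : sm gb N1660 = N843 := flp_b L8444
theorem L8446 : sm gc N1660 = N1163 := ded_13_2 L5894 L4282 L4161 L4123 L8444
theorem L8448 : sm gf N1660 = N991 := ded_16_2 L4875 L2389 L2033 L4118 L8444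
theorem L8449 : sm gf N991 = N1660 := flp_f L8448
theorem L8450 : sm ga N1164 = N1660 := ded_8_3 L8446 L5887 L5905
theorem L8451 : sm ga N1660 = N1164 := flp_a L8450
theorem L8456 : sm gd N845 = N1662 := rfl
theorem L8460 : sm ge N1662 = N848 := ded_22_2 L4149 L2043 L2024 L4130 L8456
theorem L8462 : sm gf N845 = N1663 := rfl
theorem L8466 : sm ge N1663 = N846 := ded_25_1 L4137 L4130 L8462
theorem L8467 : sm ge N846 = N1663 := flp_e L8466
theorem L8482 : sm gg N846 = N1666 := rfl
theorem L8484 : sm gc N1666 = N915 := ded_21_1 L4534 L4139 L8482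
theorem L8490 : sm gb N847 = N1667 := rfl
theorem L8492 : sm gd N1667 = N853 := ded_14_2 L4169 L4147 L8490
theorem L8508 : sm gc N848 = N1669 := rfl
theorem L8509 : sm gc N1669 = N848 := flp_c L8508
theorem L8510 : sm gf N848 = N1670 := rfl
theorem L8511 : sm gf N1670 = N848 := flp_f L8510
theorem L8512 : sm gd N1670 = N849 := ded_23_1 L4153 L4148 L8510
theorem L8513 : sm gd N849 = N1670 := flp_d L8512
theorem L8514 : sm gg N848 = N1671 := rfl
theorem L8515 : sm gg N1671 = N848 := flp_g L8514
theorem L8516 : sm gd N1671 = N850 := ded_24_1 L4157 L4148 L8514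
theorem L8517 : sm gd N850 = N1671 := flp_d L8516
theorem L8518 : sm gb N849 = N1672 := rfl
theorem L8519 : sm gb N1672 = N849 := flp_b L8518
theorem L8520 : sm ge N1672 = N851 := ded_15_2 L4161 L4155 L8518
theorem L8521 : sm ge N851 = N1672 := flp_e L8520
theorem L8522 : sm gf N1672 = N863 := ded_16_2 L4227 L2077 L2045 L4152 L8518
theorem L8528 : sm gg N849 = N1673 := rfl
theorem L8529 : sm gg N1673 = N849 := flp_g L8528
theorem L8532 : sm gf N1659 = N1673 := ded_29_0 L8529 L4153 L4156 L8439
theorem L8533 : sm gf N1673 = N1659 := flp_f L8532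
theorem L8534 : sm gb N850 = N1674 := rfl
theorem L8535 : sm gb N1674 = N850 := flp_b L8534
theorem L8536 : sm ge N1674 = N853 := ded_15_2 L4169 L4159 L8534
theorem L8537 : sm ge N853 = N1674 := flp_e L8536
theorem L8538 : sm gg N1674 = N864 := ded_17_2 L4231 L2085 L2045 L4156 L8534
theorem L8539 : sm gg N864 = N1674 := flp_g L8538
theorem L8540 : sm gf N850 = N1675 := rfl
theorem L8541 : sm gf N1675 = N850 := flp_f L8540
theorem L8542 : sm ga N1675 = N1673 := ded_11_1 L8533 L8438 L8540
theorem L8546 : sm ge N1675 = N854 := ded_25_1 L4173 L4159 L8540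
theorem L8548 : sm gg N1675 = N1658 := ded_29_3 L8430 L4153 L4156 L8540
theorem L8549 : sm gg N1658 = N1675 := flp_g L8548
theorem L8550 : sm gg N851 = N1676 := rfl
theorem L8551 : sm gg N1676 = N851 := flp_g L8550
theorem L8552 : sm ga N1676 = N1239 := ded_12_1 L6269 L4239 L8550
theorem L8553 : sm ga N1239 = N1676 := flp_a L8552
theorem L8558 : sm ga N853 = N1678 := rfl
theorem L8559 : sm ga N1678 = N853 := flp_a L8558
theorem L8560 : sm gg N1678 = N868 := ded_12_2 L4316 L4171 L8558
theorem L8561 : sm gg N868 = N1678 := flp_g L8560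
theorem L8566 : sm gf N853 = N1680 := rfl
theorem L8567 : sm gf N1680 = N853 := flp_f L8566
theorem L8570 : sm gc N855 = N1682 := rfl
theorem L8571 : sm gc N1682 = N855 := flp_c L8570
theorem L8572 : sm ga N1682 = N871 := ded_8_1 L4324 L4183 L8570
theorem L8573 : sm ga N871 = N1682 := flp_a L8572
theorem L8574 : sm ge N1682 = N860 := ded_19_2 L4211 L4185 L8570
theorem L8576 : sm gf N855 = N1683 := rfl
theorem L8578 : sm ga N1683 = N872 := ded_11_1 L4328 L4183 L8576
theorem L8582 : sm ge N1683 = N861 := ded_25_1 L4215 L4185 L8576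
theorem L8584 : sm gg N855 = N1684 := rfl
theorem L8586 : sm ga N1684 = N873 := ded_12_1 L4334 L4183 L8584
theorem L8587 : sm ga N873 = N1684 := flp_a L8586
theorem L8588 : sm gd N1684 = N857 := ded_24_1 L4195 L4180 L8584
theorem L8590 : sm ge N1684 = N862 := ded_26_1 L4221 L4185 L8584
theorem L8622 : sm gb N860 = N1692 := rfl
theorem L8623 : sm gb N1692 = N860 := flp_b L8622
theorem L8624 : sm gf N860 = N1693 := rfl
theorem L8625 : sm gf N1693 = N860 := flp_f L8624
theorem L8626 : sm ga N1693 = N887 := ded_11_1 L4406 L4213 L8624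
theorem L8627 : sm ga N887 = N1693 := flp_a L8626
theorem L8628 : sm gc N1693 = N861 := ded_20_1 L4215 L4210 L8624
theorem L8629 : sm gc N861 = N1693 := flp_c L8628
theorem L8630 : sm gg N860 = N1694 := rfl
theorem L8631 : sm gg N1694 = N860 := flp_g L8630
theorem L8632 : sm ga N1694 = N888 := ded_12_1 L4410 L4213 L8630
theorem L8633 : sm ga N888 = N1694 := flp_a L8632
theorem L8634 : sm gc N1694 = N862 := ded_21_1 L4221 L4210 L8630
theorem L8635 : sm gc N862 = N1694 := flp_c L8634
theorem L8636 : sm gb N861 = N1695 := rfl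
theorem L8637 : sm gb N1695 = N861 := flp_b L8636
theorem L8638 : sm gd N1695 = N863 := ded_14_2 L4227 L4219 L8636
theorem L8639 : sm gd N863 = N1695 := flp_d L8638
theorem L8640 : sm gb N862 = N1696 := rfl
theorem L8641 : sm gb N1696 = N862 := flp_b L8640
theorem L8642 : sm gd N1696 = N864 := ded_14_2 L4231 L4225 L8640
theorem L8643 : sm gd N864 = N1696 := flp_d L8642
theorem L8644 : sm ga N863 = N1697 := rfl
theorem L8645 : sm ga N1697 = N863 := flp_a L8644
theorem L8646 : sm ge N1697 = N865 := ded_10_2 L4235 L4229 L8644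
theorem L8647 : sm ge N865 = N1697 := flp_e L8646
theorem L8652 : sm gc N863 = N1698 := rfl
theorem L8653 : sm gc N1698 = N863 := flp_c L8652
theorem L8656 : sm ge N1698 = N866 := ded_19_2 L4306 L4229 L8652
theorem L8660 : sm gb N1698 = N1015 := ded_13_1 L5005 L2459 L2081 L4226 L8652
theorem L8662 : sm gg N863 = N1699 := rfl
theorem L8663 : sm gg N1699 = N863 := flp_g L8662
theorem L8666 : sm ga N864 = N1700 := rfl
theorem L8667 : sm ga N1700 = N864 := flp_a L8666
theorem L8668 : sm ge N1700 = N868 := ded_10_2 L4316 L4233 L8666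
theorem L8669 : sm ge N868 = N1700 := flp_e L8668
theorem L8670 : sm gc N864 = N1701 := rfl
theorem L8671 : sm gc N1701 = N864 := flp_c L8670
theorem L8674 : sm gb N1701 = N1018 := ded_13_1 L5021 L2463 L2089 L4230 L8670
theorem L8675 : sm gb N1018 = N1701 := flp_b L8674
theorem L8676 : sm gf N864 = N1702 := rfl
theorem L8677 : sm gf N1702 = N864 := flp_f L8676
theorem L8680 : sm gb N865 = N1703 := rfl
theorem L8681 : sm gb N1703 = N865 := flp_b L8680
theorem L8682 : sm gc N1703 = N1344 := ded_13_2 L6788 L3214 L2977 L4240 L8680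
theorem L8683 : sm gc N1344 = N1703 := flp_c L8682
theorem L8684 : sm gg N865 = N1704 := rfl
theorem L8685 : sm gg N1704 = N865 := flp_g L8684
theorem L8690 : sm gf N1676 = N1704 := ded_29_0 L8685 L4236 L6268 L8553
theorem L8691 : sm gf N1704 = N1676 := flp_f L8690
theorem L8698 : sm gf N868 = N1707 := rfl
theorem L8699 : sm gf N1707 = N868 := flp_f L8698
theorem L8700 : sm ga N1707 = N870 := ded_11_1 L4322 L4315 L8698
theorem L8702 : sm gg N1680 = N1707 := ded_29_1 L8699 L8561 L8559 L8566
theorem L8712 : sm gg N870 = N1710 := rfl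
theorem L8714 : sm ga N1710 = N1680 := ded_12_1 L8702 L8700 L8712
theorem L8718 : sm gb N871 = N1711 := rfl
theorem L8719 : sm gb N1711 = N871 := flp_b L8718
theorem L8720 : sm ge N1711 = N885 := ded_15_2 L4400 L4326 L8718
theorem L8721 : sm ge N885 = N1711 := flp_e L8720
theorem L8722 : sm gc N1711 = N922 := ded_13_2 L4578 L2232 L2099 L4323 L8718
theorem L8723 : sm gc N922 = N1711 := flp_c L8722
theorem L8724 : sm gd N871 = N1712 := rfl
theorem L8725 : sm gd N1712 = N871 := flp_d L8724
theorem L8726 : sm gc N1712 = N1712 := ded_28_6 L8725 L8573 L8571 L4181 L2054 L2096 L4323 L8724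
theorem L8727 : sm gf N871 = N1713 := rfl
theorem L8728 : sm gf N1713 = N871 := flp_f L8727
theorem L8729 : sm gc N1713 = N872 := ded_20_1 L4328 L4323 L8727
theorem L8730 : sm gc N872 = N1713 := flp_c L8729
theorem L8731 : sm ge N1713 = N887 := ded_25_1 L4406 L4326 L8727
theorem L8732 : sm ge N887 = N1713 := flp_e L8731
theorem L8733 : sm gg N871 = N1714 := rfl
theorem L8734 : sm gg N1714 = N871 := flp_g L8733
theorem L8735 : sm gc N1714 = N873 := ded_21_1 L4334 L4323 L8733
theorem L8736 : sm gc N873 = N1714 := flp_c L8735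
theorem L8737 : sm ge N1714 = N888 := ded_26_1 L4410 L4326 L8733
theorem L8738 : sm ge N888 = N1714 := flp_e L8737
theorem L8739 : sm gb N872 = N1715 := rfl
theorem L8740 : sm gb N1715 = N872 := flp_b L8739
theorem L8741 : sm gd N1715 = N874 := ded_14_2 L4340 L4330 L8739
theorem L8742 : sm gd N874 = N1715 := flp_d L8741
theorem L8743 : sm ge N1715 = N889 := ded_15_2 L4414 L4332 L8739
theorem L8744 : sm ge N889 = N1715 := flp_e L8743
theorem L8745 : sm gf N1715 = N925 := ded_16_2 L4590 L2236 L2099 L4327 L8739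
theorem L8746 : sm gf N925 = N1715 := flp_f L8745
theorem L8747 : sm gg N872 = N1716 := rfl
theorem L8748 : sm gg N1716 = N872 := flp_g L8747
theorem L8749 : sm gd N1716 = N875 := ded_24_1 L4346 L4330 L8747
theorem L8750 : sm gd N875 = N1716 := flp_d L8749
theorem L8751 : sm ge N1716 = N890 := ded_26_1 L4420 L4332 L8747
theorem L8752 : sm ge N890 = N1716 := flp_e L8751
theorem L8753 : sm gf N1684 = N1716 := ded_29_0 L8748 L4328 L4333 L8587
theorem L8754 : sm gf N1716 = N1684 := flp_f L8753
theorem L8763 : sm gf N873 = N1718 := rfl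
theorem L8764 : sm gf N1718 = N873 := flp_f L8763
theorem L8765 : sm ga N1718 = N1716 := ded_11_1 L8754 L8586 L8763
theorem L8766 : sm ga N1716 = N1718 := flp_a L8765
theorem L8767 : sm gd N1718 = N877 := ded_23_1 L4358 L4336 L8763
theorem L8768 : sm gd N877 = N1718 := flp_d L8767
theorem L8769 : sm ge N1718 = N892 := ded_25_1 L4432 L4338 L8763
theorem L8770 : sm ge N892 = N1718 := flp_e L8769
theorem L8771 : sm gg N1718 = N1683 := ded_29_3 L8578 L4328 L4333 L8763
theorem L8772 : sm gg N1683 = N1718 := flp_g L8771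
theorem L8773 : sm ga N874 = N1719 := rfl
theorem L8774 : sm ga N1719 = N874 := flp_a L8773
theorem L8775 : sm ge N1719 = N878 := ded_10_2 L4368 L4342 L8773
theorem L8776 : sm ge N878 = N1719 := flp_e L8775
theorem L8779 : sm gc N874 = N1720 := rfl
theorem L8780 : sm gc N1720 = N874 := flp_c L8779
theorem L8781 : sm ge N1720 = N879 := ded_19_2 L4374 L4342 L8779
theorem L8782 : sm ge N879 = N1720 := flp_e L8781
theorem L8783 : sm gf N1720 = N927 := ded_20_2 L4600 L4344 L8779
theorem L8785 : sm gg N874 = N1721 := rfl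
theorem L8786 : sm gg N1721 = N874 := flp_g L8785
theorem L8787 : sm ge N1721 = N880 := ded_26_1 L4378 L4342 L8785
theorem L8788 : sm ge N880 = N1721 := flp_e L8787
theorem L8789 : sm gb N875 = N1722 := rfl
theorem L8790 : sm gb N1722 = N875 := flp_b L8789
theorem L8793 : sm ga N876 = N1723 := rfl
theorem L8795 : sm ge N1723 = N882 := ded_10_2 L4386 L4354 L8793
theorem L8796 : sm ge N882 = N1723 := flp_e L8795
theorem L8797 : sm gg N1723 = N910 := ded_12_2 L4507 L4356 L8793
theorem L8798 : sm gg N910 = N1723 := flp_g L8797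
theorem L8803 : sm gb N877 = N1725 := rfl
theorem L8804 : sm gb N1725 = N877 := flp_b L8803
theorem L8817 : sm gd N879 = N1728 := rfl
theorem L8819 : sm gf N1728 = N932 := ded_23_2 L4624 L4376 L8817
theorem L8821 : sm gg N879 = N1729 := rfl
theorem L8823 : sm gc N1729 = N880 := ded_21_1 L4378 L4373 L8821
theorem L8843 : sm gb N882 = N1734 := rfl
theorem L8844 : sm gb N1734 = N882 := flp_b L8843
theorem L8845 : sm gd N1734 = N904 := ded_14_2 L4486 L4388 L8843
theorem L8867 : sm ga N885 = N1739 := rfl
theorem L8868 : sm ga N1739 = N885 := flp_a L8867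
theorem L8869 : sm gc N1739 = N935 := ded_8_2 L4638 L4402 L8867
theorem L8870 : sm gc N935 = N1739 := flp_c L8869
theorem L8871 : sm gd N885 = N1740 := rfl
theorem L8872 : sm gd N1740 = N885 := flp_d L8871
theorem L8873 : sm gb N1740 = N886 := ded_14_1 L4404 L4399 L8871
theorem L8874 : sm gb N886 = N1740 := flp_b L8873
theorem L8875 : sm gf N885 = N1741 := rfl
theorem L8876 : sm gf N1741 = N885 := flp_f L8875
theorem L8877 : sm gc N1741 = N936 := ded_20_1 L4640 L4402 L8875
theorem L8878 : sm gc N936 = N1741 := flp_c L8877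
theorem L8879 : sm gg N885 = N1742 := rfl
theorem L8880 : sm gg N1742 = N885 := flp_g L8879
theorem L8881 : sm gc N1742 = N937 := ded_21_1 L4642 L4402 L8879
theorem L8882 : sm gc N937 = N1742 := flp_c L8881
theorem L8883 : sm ge N886 = N1743 := rfl
theorem L8884 : sm ge N1743 = N886 := flp_e L8883
theorem L8885 : sm gf N886 = N1744 := rfl
theorem L8886 : sm gf N1744 = N886 := flp_f L8885
theorem L8887 : sm gd N1744 = N887 := ded_23_1 L4406 L4403 L8885
theorem L8888 : sm gd N887 = N1744 := flp_d L8887
theorem L8889 : sm gg N886 = N1745 := rfl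
theorem L8890 : sm gg N1745 = N886 := flp_g L8889
theorem L8891 : sm gd N1745 = N888 := ded_24_1 L4410 L4403 L8889
theorem L8892 : sm gd N888 = N1745 := flp_d L8891
theorem L8893 : sm gb N887 = N1746 := rfl
theorem L8894 : sm gb N1746 = N887 := flp_b L8893
theorem L8895 : sm gg N887 = N1747 := rfl
theorem L8896 : sm gg N1747 = N887 := flp_g L8895
theorem L8897 : sm gc N1747 = N890 := ded_21_1 L4420 L4408 L8895
theorem L8898 : sm gc N890 = N1747 := flp_c L8897
theorem L8899 : sm gf N1694 = N1747 := ded_29_0 L8896 L4406 L4409 L8633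
theorem L8900 : sm gf N1747 = N1694 := flp_f L8899
theorem L8901 : sm gb N888 = N1748 := rfl
theorem L8902 : sm gb N1748 = N888 := flp_b L8901
theorem L8903 : sm gf N888 = N1749 := rfl
theorem L8904 : sm gf N1749 = N888 := flp_f L8903
theorem L8905 : sm ga N1749 = N1747 := ded_11_1 L8900 L8632 L8903
theorem L8906 : sm ga N1747 = N1749 := flp_a L8905
theorem L8907 : sm gc N1749 = N892 := ded_20_1 L4432 L4412 L8903
theorem L8908 : sm gc N892 = N1749 := flp_c L8907
theorem L8909 : sm gg N1749 = N1693 := ded_29_3 L8626 L4406 L4409 L8903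
theorem L8910 : sm gg N1693 = N1749 := flp_g L8909
theorem L8911 : sm ga N889 = N1750 := rfl
theorem L8912 : sm ga N1750 = N889 := flp_a L8911
theorem L8913 : sm gd N1750 = N893 := ded_9_2 L4440 L4416 L8911
theorem L8914 : sm gd N893 = N1750 := flp_d L8913
theorem L8915 : sm gf N1750 = N941 := ded_11_2 L4660 L4418 L8911
theorem L8916 : sm gf N941 = N1750 := flp_f L8915
theorem L8917 : sm gc N889 = N1751 := rfl
theorem L8918 : sm gc N1751 = N889 := flp_c L8917
theorem L8919 : sm gf N1751 = N942 := ded_20_2 L4664 L4418 L8917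
theorem L8920 : sm gf N942 = N1751 := flp_f L8919
theorem L8921 : sm gg N889 = N1752 := rfl
theorem L8922 : sm gg N1752 = N889 := flp_g L8921
theorem L8925 : sm gb N890 = N1753 := rfl
theorem L8926 : sm gb N1753 = N890 := flp_b L8925
theorem L8927 : sm gd N1753 = N895 := ded_14_2 L4450 L4422 L8925
theorem L8928 : sm gd N895 = N1753 := flp_d L8927
theorem L8929 : sm ga N891 = N1754 := rfl
theorem L8933 : sm gg N1754 = N944 := ded_12_2 L4670 L4430 L8929
theorem L8943 : sm gb N892 = N1757 := rfl
theorem L8944 : sm gb N1757 = N892 := flp_b L8943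
theorem L8947 : sm gb N893 = N1758 := rfl
theorem L8948 : sm gb N1758 = N893 := flp_b L8947
theorem L8951 : sm gb N894 = N1759 := rfl
theorem L8953 : sm ge N1759 = N900 := ded_15_2 L4472 L4448 L8951
theorem L8955 : sm gg N1759 = N895 := ded_17_2 L4450 L2155 L2148 L4445 L8951
theorem L8956 : sm gg N895 = N1759 := flp_g L8955
theorem L8961 : sm gc N895 = N1761 := rfl
theorem L8965 : sm gb N1761 = N1044 := ded_13_1 L5178 L2531 L2157 L4449 L8961
theorem L8966 : sm gb N1044 = N1761 := flp_b L8965
theorem L8967 : sm gf N895 = N1762 := rfl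
theorem L8969 : sm ge N1762 = N903 := ded_25_1 L4482 L4452 L8967
theorem L8970 : sm ge N903 = N1762 := flp_e L8969
theorem L8971 : sm gb N1762 = N1702 := ded_16_1 L8677 L4231 L2160 L4449 L8967
theorem L8987 : sm gc N898 = N1766 := rfl
theorem L8991 : sm gb N1766 = N1047 := ded_13_1 L5193 L2535 L2174 L4465 L8987
theorem L8992 : sm gb N1047 = N1766 := flp_b L8991
theorem L9015 : sm ga N900 = N1772 := rfl
theorem L9016 : sm ga N1772 = N900 := flp_a L9015
theorem L9017 : sm gg N1772 = N901 := ded_12_2 L4476 L4474 L9015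
theorem L9018 : sm gg N901 = N1772 := flp_g L9017
theorem L9023 : sm gf N900 = N1774 := rfl
theorem L9025 : sm gb N901 = N1775 := rfl
theorem L9026 : sm gb N1775 = N901 := flp_b L9025
theorem L9031 : sm gf N901 = N1777 := rfl
theorem L9032 : sm gf N1777 = N901 := flp_f L9031
theorem L9033 : sm ga N1777 = N903 := ded_11_1 L4482 L4475 L9031
theorem L9035 : sm gg N1774 = N1777 := ded_29_1 L9032 L9018 L9016 L9023
theorem L9045 : sm gg N903 = N1780 := rfl
theorem L9046 : sm gg N1780 = N903 := flp_g L9045
theorem L9049 : sm gf N1772 = N1780 := ded_29_0 L9046 L4482 L4474 L9015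
theorem L9050 : sm gf N1780 = N1772 := flp_f L9049
theorem L9053 : sm gc N904 = N1782 := rfl
theorem L9054 : sm gc N1782 = N904 := flp_c L9053
theorem L9056 : sm gf N904 = N1783 := rfl
theorem L9057 : sm gf N1783 = N904 := flp_f L9056
theorem L9058 : sm gg N904 = N1784 := rfl
theorem L9059 : sm gg N1784 = N904 := flp_g L9058
theorem L9060 : sm gb N1784 = N965 := ded_17_1 L4762 L2322 L2191 L4485 L9058
theorem L9061 : sm gb N965 = N1784 := flp_b L9060
theorem L9071 : sm gg N905 = N1787 := rfl
theorem L9072 : sm gg N1787 = N905 := flp_g L9071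
theorem L9085 : sm gd N907 = N1791 := rfl
theorem L9087 : sm gb N1791 = N1058 := ded_14_1 L5276 L4496 L9085
theorem L9088 : sm gb N1058 = N1791 := flp_b L9087
theorem L9089 : sm gg N907 = N1792 := rfl
theorem L9091 : sm gc N1792 = N908 := ded_21_1 L4498 L4493 L9089
theorem L9092 : sm gc N908 = N1792 := flp_c L9091
theorem L9093 : sm gb N1792 = N1257 := ded_17_1 L6369 L5282 L5279 L4496 L9089
theorem L9117 : sm gd N910 = N1798 := rfl
theorem L9118 : sm gd N1798 = N910 := flp_d L9117
theorem L9121 : sm ge N1798 = N944 := ded_22_2 L4671 L2296 L2200 L4505 L9117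
theorem L9122 : sm ge N944 = N1798 := flp_e L9121
theorem L9123 : sm gf N910 = N1799 := rfl
theorem L9125 : sm ga N1799 = N913 := ded_11_1 L4524 L4508 L9123
theorem L9127 : sm ge N1799 = N911 := ded_25_1 L4510 L4505 L9123
theorem L9128 : sm ge N911 = N1799 := flp_e L9127
theorem L9159 : sm ga N914 = N1805 := rfl
theorem L9163 : sm gf N1805 = N919 := ded_11_2 L4564 L4532 L9159
theorem L9169 : sm gg N914 = N1807 := rfl
theorem L9170 : sm gg N1807 = N914 := flp_g L9169
theorem L9177 : sm gb N916 = N1809 := rfl
theorem L9178 : sm gb N1809 = N916 := flp_b L9177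
theorem L9179 : sm ge N1809 = N939 := ded_15_2 L4646 L4546 L9177
theorem L9180 : sm ge N939 = N1809 := flp_e L9179
theorem L9181 : sm gd N916 = N1810 := rfl
theorem L9182 : sm gd N1810 = N916 := flp_d L9181
theorem L9183 : sm ga N1810 = N1472 := ded_9_1 L7439 L4544 L9181
theorem L9185 : sm gg N1810 = N923 := ded_24_2 L4582 L4548 L9181
theorem L9187 : sm ge N1810 = N1472 := ded_22_2 L7439 L3561 L2268 L4546 L9181
theorem L9189 : sm gc N1626 = N1810 := ded_28_0 L9182 L4542 L2210 L1174 L1188 L2231 L4581 L8268
theorem L9191 : sm gf N916 = N1811 := rfl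
theorem L9192 : sm gf N1811 = N916 := flp_f L9191
theorem L9193 : sm ga N1811 = N1473 := ded_11_1 L7443 L4544 L9191
theorem L9194 : sm ga N1473 = N1811 := flp_a L9193
theorem L9197 : sm ge N1811 = N940 := ded_25_1 L4650 L4546 L9191
theorem L9201 : sm gb N917 = N1812 := rfl
theorem L9203 : sm gd N1812 = N918 := ded_14_2 L4560 L4554 L9201
theorem L9204 : sm gd N918 = N1812 := flp_d L9203
theorem L9205 : sm ge N1812 = N947 := ded_15_2 L4680 L4556 L9201
theorem L9211 : sm gc N918 = N1814 := rfl
theorem L9215 : sm gb N1814 = N927 := ded_13_1 L4600 L2242 L2222 L4559 L9211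
theorem L9217 : sm gg N918 = N1815 := rfl
theorem L9218 : sm gg N1815 = N918 := flp_g L9217
theorem L9221 : sm gb N1815 = N1631 := ded_17_1 L8298 L4045 L2226 L4559 L9217
theorem L9222 : sm gb N1631 = N1815 := flp_b L9221
theorem L9231 : sm gg N919 = N1818 := rfl
theorem L9235 : sm gd N1818 = N973 := ded_24_1 L4785 L4566 L9231
theorem L9237 : sm gf N1818 = N1807 := ded_29_2 L9170 L9159 L9163 L9231
theorem L9238 : sm gf N1807 = N1818 := flp_f L9237
theorem L9255 : sm ga N922 = N1822 := rfl
theorem L9256 : sm ga N1822 = N922 := flp_a L9255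
theorem L9257 : sm ge N1822 = N935 := ded_10_2 L4638 L4580 L9255
theorem L9258 : sm ge N935 = N1822 := flp_e L9257
theorem L9259 : sm gd N922 = N1823 := rfl
theorem L9260 : sm gd N1823 = N922 := flp_d L9259
theorem L9261 : sm gb N1823 = N923 := ded_14_1 L4582 L4577 L9259
theorem L9262 : sm gb N923 = N1823 := flp_b L9261
theorem L9263 : sm gf N922 = N1824 := rfl
theorem L9264 : sm gf N1824 = N922 := flp_f L9263
theorem L9265 : sm ge N1824 = N936 := ded_25_1 L4640 L4580 L9263
theorem L9266 : sm ge N936 = N1824 := flp_e L9265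
theorem L9267 : sm gg N922 = N1825 := rfl
theorem L9268 : sm gg N1825 = N922 := flp_g L9267
theorem L9269 : sm ge N1825 = N937 := ded_26_1 L4642 L4580 L9267
theorem L9270 : sm ge N937 = N1825 := flp_e L9269
theorem L9271 : sm gf N923 = N1826 := rfl
theorem L9272 : sm gf N1826 = N923 := flp_f L9271
theorem L9273 : sm gd N1826 = N924 := ded_23_1 L4584 L4581 L9271
theorem L9274 : sm gd N924 = N1826 := flp_d L9273
theorem L9275 : sm gb N924 = N1827 := rfl
theorem L9276 : sm gb N1827 = N924 := flp_b L9275
theorem L9277 : sm ge N1827 = N938 := ded_15_2 L4644 L4588 L9275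
theorem L9278 : sm ge N938 = N1827 := flp_e L9277
theorem L9279 : sm ga N925 = N1828 := rfl
theorem L9280 : sm ga N1828 = N925 := flp_a L9279
theorem L9285 : sm gc N925 = N1829 := rfl
theorem L9286 : sm gc N1829 = N925 := flp_c L9285
theorem L9287 : sm ge N1829 = N942 := ded_19_2 L4664 L4594 L9285
theorem L9288 : sm ge N942 = N1829 := flp_e L9287
theorem L9289 : sm gg N925 = N1830 := rfl
theorem L9290 : sm gg N1830 = N925 := flp_g L9289
theorem L9291 : sm gd N1830 = N928 := ded_24_1 L4604 L4592 L9289
theorem L9292 : sm gd N928 = N1830 := flp_d L9291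
theorem L9293 : sm ge N1830 = N943 := ded_26_1 L4666 L4594 L9289
theorem L9313 : sm gd N927 = N1834 := rfl
theorem L9314 : sm gd N1834 = N927 := flp_d L9313
theorem L9315 : sm gg N927 = N1835 := rfl
theorem L9316 : sm gg N1835 = N927 := flp_g L9315
theorem L9319 : sm ge N1835 = N933 := ded_26_1 L4626 L4602 L9315
theorem L9320 : sm ge N933 = N1835 := flp_e L9319
theorem L9321 : sm gf N928 = N1836 := rfl
theorem L9322 : sm gf N1836 = N928 := flp_f L9321
theorem L9327 : sm gg N1836 = N1719 := ded_29_3 L8774 L4343 L4603 L9321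
theorem L9328 : sm gg N1719 = N1836 := flp_g L9327
theorem L9345 : sm gd N930 = N1842 := rfl
theorem L9347 : sm ga N1842 = N932 := ded_9_1 L4624 L4614 L9345
theorem L9349 : sm gc N1842 = N1481 := ded_28_6 L7487 L7477 L7475 L3577 L1802 L2248 L4611 L9345
theorem L9350 : sm gc N1481 = N1842 := flp_c L9349
theorem L9363 : sm gc N932 = N1845 := rfl
theorem L9365 : sm ga N1845 = N1481 := ded_8_1 L9350 L9347 L9363
theorem L9389 : sm gb N935 = N1851 := rfl
theorem L9390 : sm gb N1851 = N935 := flp_b L9389
theorem L9391 : sm gf N935 = N1852 := rfl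
theorem L9392 : sm gf N1852 = N935 := flp_f L9391
theorem L9393 : sm ga N1852 = N936 := ded_11_1 L4640 L4637 L9391
theorem L9394 : sm ga N936 = N1852 := flp_a L9393
theorem L9395 : sm gg N935 = N1853 := rfl
theorem L9396 : sm gg N1853 = N935 := flp_g L9395
theorem L9397 : sm ga N1853 = N937 := ded_12_1 L4642 L4637 L9395
theorem L9398 : sm ga N937 = N1853 := flp_a L9397
theorem L9399 : sm gb N936 = N1854 := rfl
theorem L9400 : sm gb N1854 = N936 := flp_b L9399
theorem L9401 : sm gf N1854 = N938 := ded_16_2 L4644 L2258 L2255 L4639 L9399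
theorem L9402 : sm gf N938 = N1854 := flp_f L9401
theorem L9403 : sm gg N936 = N1855 := rfl
theorem L9404 : sm gg N1855 = N936 := flp_g L9403
theorem L9405 : sm gf N1853 = N1855 := ded_29_0 L9404 L4640 L4641 L9398
theorem L9406 : sm gf N1855 = N1853 := flp_f L9405
theorem L9407 : sm gb N937 = N1856 := rfl
theorem L9408 : sm gb N1856 = N937 := flp_b L9407
theorem L9409 : sm gd N1856 = N1486 := ded_14_2 L8346 L8343 L9407
theorem L9410 : sm gd N1486 = N1856 := flp_d L9409
theorem L9411 : sm gg N1856 = N939 := ded_17_2 L4646 L2262 L2255 L4641 L9407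
theorem L9412 : sm gg N939 = N1856 := flp_g L9411
theorem L9413 : sm gf N937 = N1857 := rfl
theorem L9414 : sm gf N1857 = N937 := flp_f L9413
theorem L9415 : sm ga N1857 = N1855 := ded_11_1 L9406 L9397 L9413
theorem L9416 : sm ga N1855 = N1857 := flp_a L9415
theorem L9417 : sm gg N1857 = N1852 := ded_29_3 L9393 L4640 L4641 L9413
theorem L9418 : sm gg N1852 = N1857 := flp_g L9417
theorem L9419 : sm ga N938 = N1858 := rfl
theorem L9420 : sm ga N1858 = N938 := flp_a L9419
theorem L9421 : sm gc N938 = N1859 := rfl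
theorem L9422 : sm gc N1859 = N938 := flp_c L9421
theorem L9423 : sm gb N1859 = N942 := ded_13_1 L4664 L2270 L2260 L4643 L9421
theorem L9424 : sm gb N942 = N1859 := flp_b L9423
theorem L9425 : sm gg N938 = N1860 := rfl
theorem L9426 : sm gg N1860 = N938 := flp_g L9425
theorem L9427 : sm ga N939 = N1861 := rfl
theorem L9428 : sm ga N1861 = N939 := flp_a L9427
theorem L9429 : sm gd N1861 = N1484 := ded_9_2 L7501 L4648 L9427
theorem L9430 : sm gd N1484 = N1861 := flp_d L9429
theorem L9431 : sm gc N939 = N1862 := rfl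
theorem L9432 : sm gc N1862 = N939 := flp_c L9431
theorem L9433 : sm gb N1862 = N945 := ded_13_1 L4674 L2274 L2266 L4645 L9431
theorem L9435 : sm gf N939 = N1863 := rfl
theorem L9436 : sm gf N1863 = N939 := flp_f L9435
theorem L9437 : sm gd N1863 = N1485 := ded_23_1 L7503 L4648 L9435
theorem L9438 : sm gd N1485 = N1863 := flp_d L9437
theorem L9439 : sm gb N940 = N1864 := rfl
theorem L9440 : sm gb N1864 = N940 := flp_b L9439
theorem L9441 : sm gd N1864 = N1487 := ded_14_2 L7507 L4656 L9439
theorem L9442 : sm gd N1487 = N1864 := flp_d L9441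
theorem L9443 : sm gb N941 = N1865 := rfl
theorem L9444 : sm gb N1865 = N941 := flp_b L9443
theorem L9445 : sm gd N1865 = N948 := ded_14_2 L4684 L4662 L9443
theorem L9446 : sm gd N948 = N1865 := flp_d L9445
theorem L9447 : sm gc N941 = N1866 := rfl
theorem L9448 : sm gc N1866 = N941 := flp_c L9447
theorem L9449 : sm ga N1866 = N942 := ded_8_1 L4664 L4659 L9447
theorem L9450 : sm ga N942 = N1866 := flp_a L9449
theorem L9451 : sm gg N941 = N1867 := rfl
theorem L9453 : sm ga N1867 = N943 := ded_12_1 L4666 L4659 L9451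
theorem L9455 : sm gd N1867 = N949 := ded_24_1 L4688 L4662 L9451
theorem L9456 : sm gd N949 = N1867 := flp_d L9455
theorem L9457 : sm gf N1867 = N1752 := ded_29_2 L8922 L8911 L8915 L9451
theorem L9458 : sm gf N1752 = N1867 := flp_f L9457
theorem L9459 : sm gd N942 = N1868 := rfl
theorem L9460 : sm gd N1868 = N942 := flp_d L9459
theorem L9461 : sm gg N942 = N1869 := rfl
theorem L9462 : sm gg N1869 = N942 := flp_g L9461
theorem L9463 : sm gc N1869 = N943 := ded_21_1 L4666 L4663 L9461
theorem L9464 : sm gc N943 = N1869 := flp_c L9463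
theorem L9465 : sm gf N943 = N1870 := rfl
theorem L9466 : sm gf N1870 = N943 := flp_f L9465
theorem L9467 : sm ga N1870 = N1752 := ded_11_1 L9458 L9453 L9465
theorem L9468 : sm ga N1752 = N1870 := flp_a L9467
theorem L9469 : sm gd N1870 = N950 := ded_23_1 L4696 L4668 L9465
theorem L9470 : sm gd N950 = N1870 := flp_d L9469
theorem L9471 : sm gg N1870 = N1750 := ded_29_3 L8912 L4417 L4665 L9465
theorem L9472 : sm gg N1750 = N1870 := flp_g L9471
theorem L9491 : sm gf N945 = N1875 := rfl
theorem L9493 : sm gc N1875 = N946 := ded_20_1 L4676 L4673 L9491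
theorem L9495 : sm gb N946 = N1876 := rfl
theorem L9497 : sm gd N1876 = N953 := ded_14_2 L4717 L4678 L9495
theorem L9498 : sm gd N953 = N1876 := flp_d L9497
theorem L9499 : sm gf N1876 = N947 := ded_16_2 L4680 L2278 L2273 L4675 L9495
theorem L9501 : sm gg N946 = N1877 := rfl
theorem L9502 : sm gg N1877 = N946 := flp_g L9501
theorem L9507 : sm gf N1754 = N1877 := ded_29_0 L9502 L4676 L4430 L8929
theorem L9508 : sm gf N1877 = N1754 := flp_f L9507
theorem L9509 : sm ga N947 = N1878 := rfl
theorem L9510 : sm ga N1878 = N947 := flp_a L9509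
theorem L9511 : sm gd N1878 = N955 := ded_9_2 L4732 L4682 L9509
theorem L9512 : sm gd N955 = N1878 := flp_d L9511
theorem L9513 : sm gc N947 = N1879 := rfl
theorem L9514 : sm gc N1879 = N947 := flp_c L9513
theorem L9515 : sm gg N947 = N1880 := rfl
theorem L9516 : sm gg N1880 = N947 := flp_g L9515
theorem L9519 : sm gb N1880 = N1644 := ded_17_1 L8358 L4073 L2284 L4679 L9515
theorem L9520 : sm gb N1644 = N1880 := flp_b L9519
theorem L9521 : sm ga N948 = N1881 := rfl
theorem L9522 : sm ga N1881 = N948 := flp_a L9521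
theorem L9523 : sm ge N1881 = N958 := ded_10_2 L4748 L4686 L9521
theorem L9524 : sm ge N958 = N1881 := flp_e L9523
theorem L9537 : sm gb N949 = N1885 := rfl
theorem L9539 : sm ge N1885 = N962 := ded_15_2 L4756 L4692 L9537
theorem L9541 : sm gb N950 = N1886 := rfl
theorem L9542 : sm gb N1886 = N950 := flp_b L9541
theorem L9557 : sm ga N953 = N1890 := rfl
theorem L9559 : sm ge N1890 = N967 := ded_10_2 L4766 L4719 L9557
theorem L9560 : sm ge N967 = N1890 := flp_e L9559
theorem L9561 : sm gf N1890 = N955 := ded_11_2 L4732 L4721 L9557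
theorem L9563 : sm gc N953 = N1891 := rfl
theorem L9564 : sm gc N1891 = N953 := flp_c L9563
theorem L9565 : sm ge N1891 = N968 := ded_19_2 L4770 L4719 L9563
theorem L9566 : sm ge N968 = N1891 := flp_e L9565
theorem L9570 : sm gg N953 = N1892 := rfl
theorem L9571 : sm gg N1892 = N953 := flp_g L9570
theorem L9578 : sm gb N955 = N1894 := rfl
theorem L9579 : sm gb N1894 = N955 := flp_b L9578
theorem L9580 : sm ge N1894 = N971 := ded_15_2 L4779 L4734 L9578
theorem L9582 : sm gc N955 = N1895 := rfl
theorem L9583 : sm gc N1895 = N955 := flp_c L9582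
theorem L9584 : sm ga N1895 = N956 := ded_8_1 L4736 L4731 L9582
theorem L9585 : sm ga N956 = N1895 := flp_a L9584
theorem L9586 : sm ge N1895 = N972 := ded_19_2 L4781 L4734 L9582
theorem L9587 : sm ge N972 = N1895 := flp_e L9586
theorem L9588 : sm gg N955 = N1896 := rfl
theorem L9589 : sm gg N1896 = N955 := flp_g L9588
theorem L9590 : sm ga N1896 = N957 := ded_12_1 L4742 L4731 L9588
theorem L9592 : sm ge N1896 = N973 := ded_26_1 L4785 L4734 L9588
theorem L9593 : sm ge N973 = N1896 := flp_e L9592
theorem L9594 : sm gf N1896 = N1892 := ded_29_2 L9571 L9557 L9561 L9588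
theorem L9595 : sm gf N1892 = N1896 := flp_f L9594
theorem L9596 : sm gd N956 = N1897 := rfl
theorem L9597 : sm gd N1897 = N956 := flp_d L9596
theorem L9598 : sm gb N1897 = N977 := ded_14_1 L4806 L4740 L9596
theorem L9599 : sm gb N977 = N1897 := flp_b L9598
theorem L9600 : sm gg N956 = N1898 := rfl
theorem L9601 : sm gg N1898 = N956 := flp_g L9600
theorem L9604 : sm ge N1898 = N975 := ded_26_1 L4795 L4738 L9600
theorem L9607 : sm gf N957 = N1899 := rfl
theorem L9609 : sm ga N1899 = N1892 := ded_11_1 L9595 L9590 L9607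
theorem L9611 : sm ge N1899 = N976 := ded_25_1 L4800 L4744 L9607
theorem L9612 : sm ge N976 = N1899 := flp_e L9611
theorem L9615 : sm gc N958 = N1900 := rfl
theorem L9616 : sm gc N1900 = N958 := flp_c L9615
theorem L9619 : sm gf N958 = N1901 := rfl
theorem L9621 : sm ga N1901 = N960 := ded_11_1 L4752 L4747 L9619
theorem L9622 : sm ga N960 = N1901 := flp_a L9621
theorem L9641 : sm gb N961 = N1907 := rfl
theorem L9642 : sm gb N1907 = N961 := flp_b L9641
theorem L9643 : sm gg N1907 = N962 := ded_17_2 L4756 L2310 L2307 L4753 L9641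
theorem L9644 : sm gg N962 = N1907 := flp_g L9643
theorem L9667 : sm gb N964 = N1915 := rfl
theorem L9669 : sm gf N1915 = N966 := ded_16_2 L4764 L2324 L2321 L4759 L9667
theorem L9677 : sm gf N965 = N1917 := rfl
theorem L9678 : sm gf N1917 = N965 := flp_f L9677
theorem L9681 : sm gc N1917 = N1356 := ded_20_1 L6845 L6826 L9677
theorem L9682 : sm gc N1356 = N1917 := flp_c L9681
theorem L9690 : sm gg N966 = N1920 := rfl
theorem L9692 : sm gb N1920 = N1787 := ded_17_1 L9072 L4488 L2328 L4763 L9690
theorem L9694 : sm gb N967 = N1921 := rfl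
theorem L9695 : sm gb N1921 = N967 := flp_b L9694
theorem L9696 : sm gc N1128 = N1921 := ded_30_1 L9695 L4766 L2332 L2343 L2345 L1253 L1254 L1252 L706 L414 L338 L330 L544 L932 L1710 L1714 L1848 L3737 L5616
theorem L9700 : sm gf N1921 = N1520 := ded_20_2 L7691 L5616 L9696
theorem L9701 : sm gf N1520 = N1921 := flp_f L9700
theorem L9702 : sm gc N967 = N1922 := rfl
theorem L9706 : sm gf N1922 = N972 := ded_20_2 L4781 L4768 L9702
theorem L9708 : sm gb N1922 = N1129 := ded_13_1 L5718 L5612 L9696 L9695 L9702
theorem L9709 : sm gb N1129 = N1922 := flp_b L9708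
theorem L9728 : sm gf N970 = N1928 := rfl
theorem L9730 : sm gb N1928 = N1783 := ded_16_1 L9057 L4486 L2339 L4776 L9728
theorem L9736 : sm gc N971 = N1930 := rfl
theorem L9737 : sm gc N1930 = N971 := flp_c L9736
theorem L9738 : sm gf N971 = N1931 := rfl
theorem L9739 : sm gf N1931 = N971 := flp_f L9738
theorem L9740 : sm gb N1931 = N1520 := ded_16_1 L9701 L9695 L4767 L4778 L9738
theorem L9742 : sm gc N1901 = N1931 := ded_30_1 L9740 L7692 L7627 L7625 L3682 L3644 L3642 L4281 L977 L570 L577 L949 L1752 L3545 L3549 L1802 L2307 L4747 L9619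
theorem L9746 : N1930 = N958 := coi_20_0 L9619 L9742 L9739 L9736
theorem L9747 : N1930 = N958 := eqc rfl L9746 rfl
theorem L9748 : sm gc N958 = N971 := trf L9747 L9737 rfl
theorem L9749 : N971 = N1900 := eqe L9748 L9615
theorem L9750 : N1900 = N971 := (eqc rfl L9749 rfl).symm
theorem L9754 : sm gc N971 = N958 := trf L9750 L9616 rfl
theorem L9765 : sm gc N1881 = N1894 := ded_19_3 L9580 L9754 L9524
theorem L9777 : sm gb N972 = N1933 := rfl
theorem L9778 : sm gb N1933 = N972 := flp_b L9777
theorem L9781 : sm gf N1933 = N1166 := ded_16_2 L5918 L5722 L9709 L9706 L9777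
theorem L9785 : sm gd N972 = N1934 := rfl
theorem L9786 : sm gd N1934 = N972 := flp_d L9785
theorem L9787 : sm ga N1934 = N974 := ded_9_1 L4791 L4783 L9785
theorem L9788 : sm ga N974 = N1934 := flp_a L9787
theorem L9789 : sm gg N972 = N1935 := rfl
theorem L9790 : sm gg N1935 = N972 := flp_g L9789
theorem L9793 : sm gc N1935 = N973 := ded_21_1 L4785 L4780 L9789
theorem L9794 : sm gc N973 = N1935 := flp_c L9793
theorem L9799 : sm gc N974 = N1937 := rfl
theorem L9800 : sm gc N1937 = N974 := flp_c L9799
theorem L9802 : sm ge N974 = N1938 := rfl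
theorem L9803 : sm ge N1938 = N974 := flp_e L9802
theorem L9804 : sm gb N1938 = N978 := ded_15_1 L4811 L4793 L9802
theorem L9805 : sm gb N978 = N1938 := flp_b L9804
theorem L9806 : sm gg N974 = N1939 := rfl
theorem L9807 : sm gg N1939 = N974 := flp_g L9806
theorem L9808 : sm gd N1939 = N975 := ded_24_1 L4795 L4790 L9806
theorem L9809 : sm gd N975 = N1939 := flp_d L9808
theorem L9823 : sm gc N977 = N1942 := rfl
theorem L9824 : sm gc N1942 = N977 := flp_c L9823
theorem L9825 : sm ga N1942 = N1942 := ded_8_1 L9824 L4807 L9823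
theorem L9828 : sm gd N1942 = N1942 := ded_28_7 L9825 L9824 L4806 L2352 L1245 L2351 L4805 L9823
theorem L9829 : sm ge N977 = N1943 := rfl
theorem L9830 : sm ge N1943 = N977 := flp_e L9829
theorem L9834 : sm gd N1943 = N978 := ded_22_1 L4811 L2359 L2355 L4805 L9829
theorem L9858 : sm gb N980 = N1947 := rfl
theorem L9860 : sm ge N1947 = N982 := ded_15_2 L4837 L4829 L9858
theorem L9864 : sm gb N981 = N1948 := rfl
theorem L9865 : sm gb N1948 = N981 := flp_b L9864
theorem L9866 : sm ge N1948 = N983 := ded_15_2 L4843 L4835 L9864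
theorem L9870 : sm ga N1078 = N1948 := ded_10_3 L9866 L5668 L5393
theorem L9872 : sm gc N982 = N1949 := rfl
theorem L9873 : sm gc N1949 = N982 := flp_c L9872
theorem L9874 : sm gf N1949 = N1080 := ded_20_2 L5397 L4841 L9872
theorem L9875 : sm gf N1080 = N1949 := flp_f L9874
theorem L9876 : sm gg N1949 = N1660 := ded_21_2 L8446 L5893 L9872
theorem L9877 : sm gg N1660 = N1949 := flp_g L9876
theorem L9938 : sm gg N989 = N1964 := rfl
theorem L9939 : sm gg N1964 = N989 := flp_g L9938
theorem L9942 : sm ge N1964 = N992 := ded_26_1 L4877 L4867 L9938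
theorem L9944 : sm gf N1560 = N1964 := ded_29_0 L9939 L4863 L4868 L7943
theorem L9945 : sm gf N1964 = N1560 := flp_f L9944
theorem L9960 : sm ga N991 = N1967 := rfl
theorem L9961 : sm ga N1967 = N991 := flp_a L9960
theorem L9962 : sm gc N1967 = N1081 := ded_8_2 L5403 L5032 L9960
theorem L9964 : sm gf N1967 = N1164 := ded_11_2 L8450 L8448 L9960
theorem L9965 : sm gf N1164 = N1967 := flp_f L9964
theorem L9966 : sm gg N1080 = N1967 := ded_29_3 L9961 L8449 L9877 L9874
theorem L9970 : sm gg N991 = N1968 := rfl
theorem L9971 : sm gg N1968 = N991 := flp_g L9970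
theorem L9972 : sm ga N1968 = N1080 := ded_12_1 L9966 L9961 L9970
theorem L9974 : sm gc N1968 = N1079 := ded_21_1 L5404 L5032 L9970
theorem L9976 : sm gb N1509 = N1968 := ded_30_2 L9972 L9875 L9873 L4837 L2372 L1269 L1262 L2033 L2019 L2046 L4123 L8444 L8451 L9965 L9962 L5400 L3738 L3686 L7624
theorem L9980 : sm gb N1772 = N1522 := ded_31_14 L7699 L7627 L9976 L9971 L8449 L8445 L4179 L4173 L4168 L4170 L4321 L4484 L9045 L9050
theorem L9984 : sm gg N1431 = N1775 := ded_17_4 L9026 L9018 L9980 L7699 L7243
theorem L9988 : sm gc N1775 = N1432 := ded_21_1 L7251 L7240 L9984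
theorem L9992 : sm gb N992 = N1969 := rfl
theorem L9994 : sm gc N1969 = N1134 := ded_13_2 L5744 L5701 L4939 L4879 L9992
theorem L9998 : sm gf N1135 = N1969 := ded_20_0 L9994 L5745 L5749
theorem L10010 : sm gb N995 = N1974 := rfl
theorem L10014 : sm gc N1974 = N1008 := ded_13_2 L4961 L2437 L2399 L4892 L10010
theorem L10030 : sm gb N996 = N1978 := rfl
theorem L10032 : sm gd N1978 = N998 := ded_14_2 L4909 L4899 L10030
theorem L10033 : sm gd N998 = N1978 := flp_d L10032
theorem L10036 : sm gf N1978 = N1012 := ded_16_2 L4987 L2443 L2399 L4896 L10030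
theorem L10046 : sm gb N997 = N1980 := rfl
theorem L10048 : sm gd N1980 = N1000 := ded_14_2 L4921 L4905 L10046
theorem L10049 : sm gd N1000 = N1980 := flp_d L10048
theorem L10050 : sm ge N1980 = N1118 := ded_15_2 L5559 L4907 L10046
theorem L10051 : sm ge N1118 = N1980 := flp_e L10050
theorem L10054 : sm gf N997 = N1981 := rfl
theorem L10055 : sm gf N1981 = N997 := flp_f L10054
theorem L10058 : sm gd N1981 = N1001 := ded_23_1 L4927 L4905 L10054
theorem L10060 : sm ge N1981 = N1119 := ded_25_1 L5565 L4907 L10054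
theorem L10061 : sm ge N1119 = N1981 := flp_e L10060
theorem L10064 : sm gg N998 = N1982 := rfl
theorem L10065 : sm gg N1982 = N998 := flp_g L10064
theorem L10066 : sm ga N1982 = N1227 := ded_12_1 L6203 L5006 L10064
theorem L10067 : sm ga N1227 = N1982 := flp_a L10066
theorem L10070 : sm gb N999 = N1983 := rfl
theorem L10072 : sm ge N1983 = N1003 := ded_15_2 L4939 L4917 L10070
theorem L10073 : sm ge N1003 = N1983 := flp_e L10072
theorem L10076 : sm ga N1519 = N1983 := ded_10_3 L10072 L5687 L7687
theorem L10077 : sm ga N1983 = N1519 := flp_a L10076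
theorem L10080 : sm ga N1000 = N1984 := rfl
theorem L10081 : sm ga N1984 = N1000 := flp_a L10080
theorem L10084 : sm gg N1984 = N1017 := ded_12_2 L5017 L4925 L10080
theorem L10085 : sm gg N1017 = N1984 := flp_g L10084
theorem L10086 : sm gb N1984 = N1124 := ded_7_2 L5593 L2697 L2619 L5390 L9870 L9865 L4832 L4920 L10080
theorem L10087 : sm gb N1124 = N1984 := flp_b L10086
theorem L10090 : sm gc N1000 = N1985 := rfl
theorem L10091 : sm gc N1985 = N1000 := flp_c L10090
theorem L10096 : sm gg N1985 = N1018 := ded_21_2 L5021 L4925 L10090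
theorem L10097 : sm gg N1018 = N1985 := flp_g L10096
theorem L10098 : sm gf N1000 = N1986 := rfl
theorem L10124 : sm ga N1008 = N1990 := rfl
theorem L10125 : sm ga N1990 = N1008 := flp_a L10124
theorem L10126 : sm ge N1990 = N1136 := ded_10_2 L5752 L4963 L10124
theorem L10127 : sm ge N1136 = N1990 := flp_e L10126
theorem L10128 : sm gd N1008 = N1991 := rfl
theorem L10129 : sm gd N1991 = N1008 := flp_d L10128
theorem L10130 : sm gb N1991 = N1009 := ded_14_1 L4965 L4960 L10128
theorem L10131 : sm gb N1009 = N1991 := flp_b L10130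
theorem L10132 : sm gf N1008 = N1992 := rfl
theorem L10133 : sm gf N1992 = N1008 := flp_f L10132
theorem L10134 : sm ge N1992 = N1138 := ded_25_1 L5758 L4963 L10132
theorem L10135 : sm ge N1138 = N1992 := flp_e L10134
theorem L10136 : sm gg N1008 = N1993 := rfl
theorem L10137 : sm gg N1993 = N1008 := flp_g L10136
theorem L10138 : sm ge N1993 = N1139 := ded_26_1 L5760 L4963 L10136
theorem L10139 : sm ge N1139 = N1993 := flp_e L10138
theorem L10140 : sm ge N1009 = N1994 := rfl
theorem L10141 : sm ge N1994 = N1009 := flp_e L10140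
theorem L10142 : sm ga N1994 = N1034 := ded_10_1 L5122 L4967 L10140
theorem L10143 : sm ga N1034 = N1994 := flp_a L10142
theorem L10144 : sm gc N1994 = N1743 := ded_19_1 L8884 L4969 L10140
theorem L10145 : sm gc N1743 = N1994 := flp_c L10144
theorem L10146 : sm gd N1994 = N1140 := ded_22_1 L5762 L2739 L2441 L4964 L10140
theorem L10147 : sm gd N1140 = N1994 := flp_d L10146
theorem L10148 : sm gf N1009 = N1995 := rfl
theorem L10149 : sm gf N1995 = N1009 := flp_f L10148
theorem L10150 : sm ga N1995 = N1035 := ded_11_1 L5126 L4967 L10148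
theorem L10151 : sm ga N1035 = N1995 := flp_a L10150
theorem L10152 : sm gc N1995 = N1744 := ded_20_1 L8886 L4969 L10148
theorem L10153 : sm gc N1744 = N1995 := flp_c L10152
theorem L10154 : sm gd N1995 = N1010 := ded_23_1 L4971 L4964 L10148
theorem L10155 : sm gd N1010 = N1995 := flp_d L10154
theorem L10156 : sm gg N1009 = N1996 := rfl
theorem L10157 : sm gg N1996 = N1009 := flp_g L10156
theorem L10158 : sm ga N1996 = N1036 := ded_12_1 L5130 L4967 L10156
theorem L10159 : sm ga N1036 = N1996 := flp_a L10158
theorem L10160 : sm gc N1996 = N1745 := ded_21_1 L8890 L4969 L10156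
theorem L10161 : sm gc N1745 = N1996 := flp_c L10160
theorem L10162 : sm gd N1996 = N1011 := ded_24_1 L4979 L4964 L10156
theorem L10163 : sm gd N1011 = N1996 := flp_d L10162
theorem L10164 : sm gb N1010 = N1997 := rfl
theorem L10165 : sm gb N1997 = N1010 := flp_b L10164
theorem L10166 : sm ge N1997 = N1143 := ded_15_2 L5784 L4977 L10164
theorem L10167 : sm ge N1143 = N1997 := flp_e L10166
theorem L10168 : sm gb N1011 = N1998 := rfl
theorem L10169 : sm gb N1998 = N1011 := flp_b L10168
theorem L10170 : sm ge N1998 = N1144 := ded_15_2 L5786 L4985 L10168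
theorem L10171 : sm ge N1144 = N1998 := flp_e L10170
theorem L10172 : sm ga N1012 = N1999 := rfl
theorem L10173 : sm ga N1999 = N1012 := flp_a L10172
theorem L10174 : sm gd N1999 = N1014 := ded_9_2 L4999 L4989 L10172
theorem L10175 : sm gd N1014 = N1999 := flp_d L10174
theorem L10176 : sm ge N1999 = N1145 := ded_10_2 L5788 L4991 L10172
theorem L10177 : sm ge N1145 = N1999 := flp_e L10176
theorem L10178 : sm gc N1012 = N2000 := rfl
theorem L10179 : sm gc N2000 = N1012 := flp_c L10178
theorem L10180 : sm ge N2000 = N1146 := ded_19_2 L5792 L4991 L10178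
theorem L10181 : sm ge N1146 = N2000 := flp_e L10180
theorem L10182 : sm gg N1012 = N2001 := rfl
theorem L10183 : sm gg N2001 = N1012 := flp_g L10182
theorem L10184 : sm gd N2001 = N1016 := ded_24_1 L5013 L4989 L10182
theorem L10185 : sm gd N1016 = N2001 := flp_d L10184
theorem L10186 : sm ge N2001 = N1147 := ded_26_1 L5794 L4991 L10182
theorem L10187 : sm ge N1147 = N2001 := flp_e L10186
theorem L10198 : sm gf N1013 = N2004 := rfl
theorem L10199 : sm gf N2004 = N1013 := flp_f L10198
theorem L10202 : sm ge N2004 = N1150 := ded_25_1 L5804 L4997 L10198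
theorem L10203 : sm ge N1150 = N2004 := flp_e L10202
theorem L10210 : sm gg N1014 = N2006 := rfl
theorem L10211 : sm gg N2006 = N1014 := flp_g L10210
theorem L10212 : sm ga N2006 = N1016 := ded_12_1 L5013 L4998 L10210
theorem L10214 : sm gc N2006 = N1982 := ded_21_1 L10065 L5002 L10210
theorem L10215 : sm gc N1982 = N2006 := flp_c L10214
theorem L10218 : sm gf N1982 = N2006 := ded_29_0 L10211 L5011 L6202 L10067
theorem L10222 : sm gd N1015 = N2007 := rfl
theorem L10223 : sm gd N2007 = N1015 := flp_d L10222
theorem L10224 : sm ga N2007 = N1978 := ded_9_1 L10032 L5007 L10222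
theorem L10225 : sm ga N1978 = N2007 := flp_a L10224
theorem L10226 : sm gf N2007 = N1999 := ded_23_2 L10174 L5011 L10222
theorem L10227 : sm gf N1999 = N2007 := flp_f L10226
theorem L10228 : sm gb N1017 = N2008 := rfl
theorem L10229 : sm gb N2008 = N1017 := flp_b L10228
theorem L10234 : sm ga N2008 = N2008 := ded_7_1 L10229 L5017 L2463 L1290 L746 L1291 L2462 L5016 L10228
theorem L10245 : sm gf N1017 = N2010 := rfl
theorem L10246 : sm gf N2010 = N1017 := flp_f L10245
theorem L10247 : sm ga N2010 = N1019 := ded_11_1 L5025 L5016 L10245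
theorem L10249 : sm ge N2010 = N1025 := ded_25_1 L5072 L5019 L10245
theorem L10251 : sm gg N1986 = N2010 := ded_29_1 L10246 L10085 L10081 L10098
theorem L10253 : sm gb N2010 = N1310 := ded_31_2 L6589 L3131 L1569 L1578 L1584 L2932 L2936 L2947 L2951 L5878 L5885 L10087 L10084 L10245
theorem L10273 : sm gd N1024 = N2014 := rfl
theorem L10275 : sm ga N2014 = N1026 := ded_9_1 L5080 L5070 L10273
theorem L10276 : sm ga N1026 = N2014 := flp_a L10275
theorem L10277 : sm gb N2014 = N1415 := ded_14_1 L7160 L5707 L10273
theorem L10278 : sm gb N1415 = N2014 := flp_b L10277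
theorem L10279 : sm gg N2014 = N1424 := ded_24_2 L7212 L5691 L10273
theorem L10303 : sm gb N1029 = N2020 := rfl
theorem L10304 : sm gb N2020 = N1029 := flp_b L10303
theorem L10305 : sm ge N2020 = N1178 := ded_15_2 L5976 L5098 L10303
theorem L10306 : sm ge N1178 = N2020 := flp_e L10305
theorem L10307 : sm gd N1029 = N2021 := rfl
theorem L10308 : sm gd N2021 = N1029 := flp_d L10307
theorem L10309 : sm ga N2021 = N1030 := ded_9_1 L5100 L5093 L10307
theorem L10310 : sm ga N1030 = N2021 := flp_a L10309
theorem L10311 : sm gf N1029 = N2022 := rfl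
theorem L10312 : sm gf N2022 = N1029 := flp_f L10311
theorem L10313 : sm ga N2022 = N1031 := ded_11_1 L5104 L5093 L10311
theorem L10314 : sm ga N1031 = N2022 := flp_a L10313
theorem L10315 : sm gc N2022 = N1061 := ded_20_1 L5291 L5096 L10311
theorem L10316 : sm gc N1061 = N2022 := flp_c L10315
theorem L10317 : sm ge N2022 = N1180 := ded_25_1 L5982 L5098 L10311
theorem L10318 : sm ge N1180 = N2022 := flp_e L10317
theorem L10319 : sm gg N1029 = N2023 := rfl
theorem L10320 : sm gg N2023 = N1029 := flp_g L10319
theorem L10321 : sm ga N2023 = N1032 := ded_12_1 L5110 L5093 L10319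
theorem L10322 : sm ga N1032 = N2023 := flp_a L10321
theorem L10323 : sm gc N2023 = N1062 := ded_21_1 L5299 L5096 L10319
theorem L10324 : sm gc N1062 = N2023 := flp_c L10323
theorem L10325 : sm ge N2023 = N1181 := ded_26_1 L5988 L5098 L10319
theorem L10326 : sm ge N1181 = N2023 := flp_e L10325
theorem L10327 : sm gc N1030 = N2024 := rfl
theorem L10328 : sm gc N2024 = N1030 := flp_c L10327
theorem L10329 : sm ge N1030 = N2025 := rfl
theorem L10330 : sm ge N2025 = N1030 := flp_e L10329
theorem L10331 : sm gb N2025 = N1034 := ded_15_1 L5122 L5102 L10329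
theorem L10332 : sm gb N1034 = N2025 := flp_b L10331
theorem L10333 : sm gd N2025 = N1183 := ded_22_1 L5996 L2846 L2495 L5099 L10329
theorem L10334 : sm gd N1183 = N2025 := flp_d L10333
theorem L10335 : sm gf N1030 = N2026 := rfl
theorem L10336 : sm gf N2026 = N1030 := flp_f L10335
theorem L10337 : sm gd N2026 = N1031 := ded_23_1 L5104 L5099 L10335
theorem L10338 : sm gd N1031 = N2026 := flp_d L10337
theorem L10339 : sm gg N1030 = N2027 := rfl
theorem L10340 : sm gg N2027 = N1030 := flp_g L10339
theorem L10341 : sm gd N2027 = N1032 := ded_24_1 L5110 L5099 L10339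
theorem L10342 : sm gd N1032 = N2027 := flp_d L10341
theorem L10343 : sm gb N1031 = N2028 := rfl
theorem L10344 : sm gb N2028 = N1031 := flp_b L10343
theorem L10345 : sm ge N2028 = N1186 := ded_15_2 L6008 L5108 L10343
theorem L10346 : sm ge N1186 = N2028 := flp_e L10345
theorem L10347 : sm gf N2028 = N1037 := ded_16_2 L5134 L2501 L2492 L5103 L10343
theorem L10348 : sm gf N1037 = N2028 := flp_f L10347
theorem L10349 : sm gg N1031 = N2029 := rfl
theorem L10350 : sm gg N2029 = N1031 := flp_g L10349
theorem L10351 : sm gc N2029 = N1063 := ded_21_1 L5307 L5106 L10349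
theorem L10352 : sm gc N1063 = N2029 := flp_c L10351
theorem L10353 : sm ge N2029 = N1187 := ded_26_1 L6012 L5108 L10349
theorem L10354 : sm ge N1187 = N2029 := flp_e L10353
theorem L10355 : sm gf N2023 = N2029 := ded_29_0 L10350 L5104 L5109 L10322
theorem L10356 : sm gf N2029 = N2023 := flp_f L10355
theorem L10357 : sm gb N1032 = N2030 := rfl
theorem L10358 : sm gb N2030 = N1032 := flp_b L10357
theorem L10359 : sm ge N2030 = N1188 := ded_15_2 L6018 L5114 L10357
theorem L10360 : sm ge N1188 = N2030 := flp_e L10359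
theorem L10361 : sm gc N2030 = N2030 := ded_13_2 L10358 L5111 L2583 L5112 L10357
theorem L10362 : sm gg N2030 = N1039 := ded_17_2 L5146 L2507 L2492 L5109 L10357
theorem L10363 : sm gg N1039 = N2030 := flp_g L10362
theorem L10364 : sm gf N1032 = N2031 := rfl
theorem L10365 : sm gf N2031 = N1032 := flp_f L10364
theorem L10366 : sm ga N2031 = N2029 := ded_11_1 L10356 L10321 L10364
theorem L10367 : sm ga N2029 = N2031 := flp_a L10366
theorem L10368 : sm gc N2031 = N1064 := ded_20_1 L5315 L5112 L10364
theorem L10369 : sm gc N1064 = N2031 := flp_c L10368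
theorem L10370 : sm ge N2031 = N1189 := ded_25_1 L6023 L5114 L10364
theorem L10371 : sm ge N1189 = N2031 := flp_e L10370
theorem L10372 : sm gg N2031 = N2022 := ded_29_3 L10313 L5104 L5109 L10364
theorem L10373 : sm gg N2022 = N2031 := flp_g L10372
theorem L10374 : sm gb N1033 = N2032 := rfl
theorem L10375 : sm gb N2032 = N1033 := flp_b L10374
theorem L10376 : sm gd N2032 = N1692 := ded_14_2 L8623 L5120 L10374
theorem L10377 : sm gd N1692 = N2032 := flp_d L10376
theorem L10378 : sm ge N1033 = N2033 := rfl
theorem L10379 : sm ge N2033 = N1033 := flp_e L10378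
theorem L10380 : sm ga N2033 = N1743 := ded_10_1 L8884 L5118 L10378
theorem L10381 : sm ga N1743 = N2033 := flp_a L10380
theorem L10382 : sm gc N2033 = N1034 := ded_19_1 L5122 L5115 L10378
theorem L10383 : sm gc N1034 = N2033 := flp_c L10382
theorem L10384 : sm gf N1033 = N2034 := rfl
theorem L10385 : sm gf N2034 = N1033 := flp_f L10384
theorem L10386 : sm ga N2034 = N1744 := ded_11_1 L8886 L5118 L10384
theorem L10387 : sm ga N1744 = N2034 := flp_a L10386
theorem L10388 : sm gc N2034 = N1035 := ded_20_1 L5126 L5115 L10384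
theorem L10389 : sm gc N1035 = N2034 := flp_c L10388
theorem L10390 : sm gd N2034 = N1693 := ded_23_1 L8625 L5120 L10384
theorem L10391 : sm gd N1693 = N2034 := flp_d L10390
theorem L10392 : sm gg N1033 = N2035 := rfl
theorem L10393 : sm gg N2035 = N1033 := flp_g L10392
theorem L10394 : sm ga N2035 = N1745 := ded_12_1 L8890 L5118 L10392
theorem L10395 : sm ga N1745 = N2035 := flp_a L10394
theorem L10396 : sm gc N2035 = N1036 := ded_21_1 L5130 L5115 L10392
theorem L10397 : sm gc N1036 = N2035 := flp_c L10396
theorem L10398 : sm gd N2035 = N1694 := ded_24_1 L8631 L5120 L10392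
theorem L10399 : sm gd N1694 = N2035 := flp_d L10398
theorem L10400 : sm gf N1034 = N2036 := rfl
theorem L10401 : sm gf N2036 = N1034 := flp_f L10400
theorem L10402 : sm gd N2036 = N1190 := ded_23_1 L6031 L5124 L10400
theorem L10403 : sm gd N1190 = N2036 := flp_d L10402
theorem L10404 : sm ge N2036 = N1035 := ded_25_1 L5126 L5121 L10400
theorem L10405 : sm ge N1035 = N2036 := flp_e L10404
theorem L10406 : sm gg N1034 = N2037 := rfl
theorem L10407 : sm gg N2037 = N1034 := flp_g L10406
theorem L10408 : sm gd N2037 = N1191 := ded_24_1 L6035 L5124 L10406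
theorem L10409 : sm gd N1191 = N2037 := flp_d L10408
theorem L10410 : sm ge N2037 = N1036 := ded_26_1 L5130 L5121 L10406
theorem L10411 : sm ge N1036 = N2037 := flp_e L10410
theorem L10412 : sm gb N1035 = N2038 := rfl
theorem L10413 : sm gb N2038 = N1035 := flp_b L10412
theorem L10414 : sm gd N2038 = N1037 := ded_14_2 L5134 L5128 L10412
theorem L10415 : sm gd N1037 = N2038 := flp_d L10414
theorem L10416 : sm gg N1035 = N2039 := rfl
theorem L10417 : sm gg N2039 = N1035 := flp_g L10416
theorem L10418 : sm gd N2039 = N1038 := ded_24_1 L5138 L5128 L10416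
theorem L10419 : sm gd N1038 = N2039 := flp_d L10418
theorem L10420 : sm gf N1996 = N2039 := ded_29_0 L10417 L5126 L5129 L10159
theorem L10421 : sm gf N2039 = N1996 := flp_f L10420
theorem L10422 : sm gb N1036 = N2040 := rfl
theorem L10423 : sm gb N2040 = N1036 := flp_b L10422
theorem L10424 : sm gd N2040 = N1039 := ded_14_2 L5146 L5132 L10422
theorem L10425 : sm gd N1039 = N2040 := flp_d L10424
theorem L10426 : sm gf N1036 = N2041 := rfl
theorem L10427 : sm gf N2041 = N1036 := flp_f L10426
theorem L10428 : sm ga N2041 = N2039 := ded_11_1 L10421 L10158 L10426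
theorem L10429 : sm ga N2039 = N2041 := flp_a L10428
theorem L10430 : sm gd N2041 = N1040 := ded_23_1 L5151 L5132 L10426
theorem L10431 : sm gd N1040 = N2041 := flp_d L10430
theorem L10432 : sm gg N2041 = N1995 := ded_29_3 L10150 L5126 L5129 L10426
theorem L10433 : sm gg N1995 = N2041 := flp_g L10432
theorem L10434 : sm ga N1037 = N2042 := rfl
theorem L10435 : sm ga N2042 = N1037 := flp_a L10434
theorem L10436 : sm ge N2042 = N1196 := ded_10_2 L6063 L5136 L10434
theorem L10437 : sm ge N1196 = N2042 := flp_e L10436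
theorem L10438 : sm gg N1037 = N2043 := rfl
theorem L10439 : sm gg N2043 = N1037 := flp_g L10438
theorem L10440 : sm ge N2043 = N1198 := ded_26_1 L6069 L5136 L10438
theorem L10441 : sm ge N1198 = N2043 := flp_e L10440
theorem L10442 : sm gb N1038 = N2044 := rfl
theorem L10443 : sm gb N2044 = N1038 := flp_b L10442
theorem L10444 : sm ge N2044 = N1199 := ded_15_2 L6071 L5142 L10442
theorem L10445 : sm ge N1199 = N2044 := flp_e L10444
theorem L10446 : sm ga N1039 = N2045 := rfl
theorem L10447 : sm ga N2045 = N1039 := flp_a L10446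
theorem L10448 : sm gc N2045 = N2045 := ded_8_2 L10447 L5149 L10446
theorem L10449 : sm ge N2045 = N1200 := ded_10_2 L6073 L5148 L10446
theorem L10450 : sm ge N1200 = N2045 := flp_e L10449
theorem L10451 : sm gf N1039 = N2046 := rfl
theorem L10452 : sm gf N2046 = N1039 := flp_f L10451
theorem L10454 : sm ge N2046 = N1201 := ded_25_1 L6076 L5148 L10451
theorem L10455 : sm ge N1201 = N2046 := flp_e L10454
theorem L10456 : sm gb N1040 = N2047 := rfl
theorem L10457 : sm gb N2047 = N1040 := flp_b L10456
theorem L10458 : sm ge N2047 = N1202 := ded_15_2 L6079 L5157 L10456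
theorem L10459 : sm ge N1202 = N2047 := flp_e L10458
theorem L10460 : sm ga N1041 = N2048 := rfl
theorem L10461 : sm ga N2048 = N1041 := flp_a L10460
theorem L10462 : sm gd N2048 = N1043 := ded_9_2 L5174 L5163 L10460
theorem L10463 : sm gd N1043 = N2048 := flp_d L10462
theorem L10464 : sm ge N2048 = N1208 := ded_10_2 L6105 L5165 L10460
theorem L10465 : sm ge N1208 = N2048 := flp_e L10464
theorem L10466 : sm gc N1041 = N2049 := rfl
theorem L10467 : sm gc N2049 = N1041 := flp_c L10466
theorem L10468 : sm ge N2049 = N1209 := ded_19_2 L6109 L5165 L10466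
theorem L10469 : sm ge N1209 = N2049 := flp_e L10468
theorem L10470 : sm gf N1041 = N2050 := rfl
theorem L10471 : sm gf N2050 = N1041 := flp_f L10470
theorem L10472 : sm gd N2050 = N1045 := ded_23_1 L5182 L5163 L10470
theorem L10473 : sm gd N1045 = N2050 := flp_d L10472
theorem L10474 : sm ge N2050 = N1210 := ded_25_1 L6111 L5165 L10470
theorem L10475 : sm ge N1210 = N2050 := flp_e L10474
theorem L10476 : sm gb N2050 = N2004 := ded_16_1 L10199 L4993 L2518 L5160 L10470
theorem L10477 : sm gb N2004 = N2050 := flp_b L10476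
theorem L10478 : sm ga N1042 = N2051 := rfl
theorem L10479 : sm ga N2051 = N1042 := flp_a L10478
theorem L10480 : sm gd N2051 = N1046 := ded_9_2 L5188 L5169 L10478
theorem L10481 : sm gd N1046 = N2051 := flp_d L10480
theorem L10485 : sm gc N1042 = N2052 := rfl
theorem L10486 : sm gc N2052 = N1042 := flp_c L10485
theorem L10487 : sm ge N2052 = N1212 := ded_19_2 L6122 L5171 L10485
theorem L10488 : sm ge N1212 = N2052 := flp_e L10487
theorem L10489 : sm gf N2052 = N2052 := ded_20_2 L10486 L5172 L10485
theorem L10490 : sm gg N1042 = N2053 := rfl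
theorem L10491 : sm gg N2053 = N1042 := flp_g L10490
theorem L10492 : sm gd N2053 = N1048 := ded_24_1 L5198 L5169 L10490
theorem L10493 : sm gd N1048 = N2053 := flp_d L10492
theorem L10494 : sm ge N2053 = N1213 := ded_26_1 L6125 L5171 L10490
theorem L10495 : sm ge N1213 = N2053 := flp_e L10494
theorem L10496 : sm gb N2053 = N2001 := ded_17_1 L10183 L4987 L2529 L5166 L10490
theorem L10497 : sm gb N2001 = N2053 := flp_b L10496
theorem L10514 : sm gd N1044 = N2056 := rfl
theorem L10515 : sm gd N2056 = N1044 := flp_d L10514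
theorem L10516 : sm gf N1044 = N2057 := rfl
theorem L10517 : sm gf N2057 = N1044 := flp_f L10516
theorem L10518 : sm gc N2057 = N1045 := ded_20_1 L5182 L5177 L10516
theorem L10519 : sm gc N1045 = N2057 := flp_c L10518
theorem L10530 : sm gb N1046 = N2059 := rfl
theorem L10531 : sm gb N2059 = N1046 := flp_b L10530
theorem L10532 : sm ge N2059 = N1055 := ded_15_2 L5255 L5190 L10530
theorem L10536 : sm gg N1323 = N2059 := ded_26_0 L10532 L5259 L6672
theorem L10538 : sm gc N1046 = N2060 := rfl
theorem L10539 : sm gc N2060 = N1046 := flp_c L10538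
theorem L10540 : sm ga N2060 = N1047 := ded_8_1 L5193 L5187 L10538
theorem L10542 : sm ge N2060 = N1056 := ded_19_2 L5261 L5190 L10538
theorem L10543 : sm ge N1056 = N2060 := flp_e L10542
theorem L10545 : sm gg N1046 = N2061 := rfl
theorem L10546 : sm gg N2061 = N1046 := flp_g L10545
theorem L10547 : sm ga N2061 = N1048 := ded_12_1 L5198 L5187 L10545
theorem L10551 : sm gf N1048 = N2061 := ded_29_0 L10546 L5191 L10545 L10547
theorem L10552 : sm gf N2061 = N1048 := flp_f L10551
theorem L10553 : sm gb N2061 = N1229 := ded_17_1 L6217 L6674 L10536 L10531 L10545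
theorem L10554 : sm gb N1229 = N2061 := flp_b L10553
theorem L10555 : sm gd N1047 = N2062 := rfl
theorem L10556 : sm gd N2062 = N1047 := flp_d L10555
theorem L10557 : sm gf N2062 = N2062 := ded_23_2 L10556 L5196 L10555
theorem L10558 : sm gg N1047 = N2063 := rfl
theorem L10559 : sm gg N2063 = N1047 := flp_g L10558
theorem L10560 : sm gc N2063 = N1048 := ded_21_1 L5198 L5192 L10558
theorem L10561 : sm gc N1048 = N2063 := flp_c L10560
theorem L10562 : sm ge N2063 = N1059 := ded_26_1 L5279 L5195 L10558
theorem L10563 : sm ge N1059 = N2063 := flp_e L10562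
theorem L10564 : sm gb N1228 = N2063 := ded_13_5 L10560 L5201 L6198 L6195 L6204
theorem L10565 : sm gb N2063 = N1228 := flp_b L10564
theorem L10600 : sm gc N1055 = N2072 := rfl
theorem L10601 : sm gc N2072 = N1055 := flp_c L10600
theorem L10602 : sm gf N2072 = N1175 := ded_20_2 L5969 L5672 L10600
theorem L10603 : sm gf N1175 = N2072 := flp_f L10602
theorem L10606 : sm gb N1056 = N2073 := rfl
theorem L10607 : sm gb N2073 = N1056 := flp_b L10606
theorem L10608 : sm gd N1056 = N2074 := rfl
theorem L10610 : sm ga N2074 = N1058 := ded_9_1 L5276 L5263 L10608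
theorem L10613 : sm gg N1056 = N2075 := rfl
theorem L10615 : sm ga N2075 = N1059 := ded_12_1 L5279 L5263 L10613
theorem L10621 : sm gc N1058 = N2076 := rfl
theorem L10622 : sm gc N2076 = N1058 := flp_c L10621
theorem L10623 : sm gf N2076 = N2076 := ded_20_2 L10622 L5277 L10621
theorem L10624 : sm ge N1058 = N2077 := rfl
theorem L10625 : sm ge N2077 = N1058 := flp_e L10624
theorem L10627 : sm gg N1058 = N2078 := rfl
theorem L10628 : sm gg N2078 = N1058 := flp_g L10627
theorem L10629 : sm gd N2078 = N1059 := ded_24_1 L5279 L5275 L10627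
theorem L10630 : sm gd N1059 = N2078 := flp_d L10629
theorem L10631 : sm gb N1260 = N2078 := ded_14_3 L10629 L5283 L6379
theorem L10632 : sm gb N2078 = N1260 := flp_b L10631
theorem L10633 : sm ga N1060 = N2079 := rfl
theorem L10635 : sm gd N2079 = N1273 := ded_9_2 L6448 L5287 L10633
theorem L10637 : sm ge N2079 = N1273 := ded_10_2 L6448 L5289 L10633
theorem L10638 : sm ge N1273 = N2079 := flp_e L10637
theorem L10639 : sm gb N2079 = N1273 := ded_7_2 L6448 L3061 L1550 L855 L764 L1342 L2565 L5284 L10633
theorem L10640 : sm gb N1273 = N2079 := flp_b L10639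
theorem L10641 : sm gc N1060 = N2080 := rfl
theorem L10642 : sm gc N2080 = N1060 := flp_c L10641
theorem L10643 : sm ge N2080 = N1274 := ded_19_2 L6450 L5289 L10641
theorem L10644 : sm ge N1274 = N2080 := flp_e L10643
theorem L10645 : sm gf N1060 = N2081 := rfl
theorem L10646 : sm gf N2081 = N1060 := flp_f L10645
theorem L10647 : sm gd N2081 = N1275 := ded_23_1 L6452 L5287 L10645
theorem L10648 : sm gd N1275 = N2081 := flp_d L10647
theorem L10649 : sm ge N2081 = N1275 := ded_25_1 L6452 L5289 L10645
theorem L10650 : sm ge N1275 = N2081 := flp_e L10649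
theorem L10651 : sm gg N1060 = N2082 := rfl
theorem L10652 : sm gg N2082 = N1060 := flp_g L10651
theorem L10653 : sm gd N2082 = N1276 := ded_24_1 L6454 L5287 L10651
theorem L10654 : sm gd N1276 = N2082 := flp_d L10653
theorem L10655 : sm ge N2082 = N1276 := ded_26_1 L6454 L5289 L10651
theorem L10656 : sm ge N1276 = N2082 := flp_e L10655
theorem L10657 : sm gb N1061 = N2083 := rfl
theorem L10658 : sm gb N2083 = N1061 := flp_b L10657
theorem L10659 : sm gd N2083 = N1277 := ded_14_2 L6456 L5295 L10657
theorem L10660 : sm gd N1277 = N2083 := flp_d L10659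
theorem L10661 : sm ge N2083 = N1277 := ded_15_2 L6456 L5297 L10657
theorem L10662 : sm ge N1277 = N2083 := flp_e L10661
theorem L10663 : sm gb N1062 = N2084 := rfl
theorem L10664 : sm gb N2084 = N1062 := flp_b L10663
theorem L10665 : sm gd N2084 = N1278 := ded_14_2 L6458 L5303 L10663
theorem L10666 : sm gd N1278 = N2084 := flp_d L10665
theorem L10667 : sm ge N2084 = N1278 := ded_15_2 L6458 L5305 L10663
theorem L10668 : sm ge N1278 = N2084 := flp_e L10667
theorem L10669 : sm gb N1063 = N2085 := rfl
theorem L10670 : sm gb N2085 = N1063 := flp_b L10669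
theorem L10671 : sm gd N2085 = N1282 := ded_14_2 L6470 L5309 L10669
theorem L10672 : sm gd N1282 = N2085 := flp_d L10671
theorem L10673 : sm ge N2085 = N1282 := ded_15_2 L6470 L5311 L10669
theorem L10674 : sm ge N1282 = N2085 := flp_e L10673
theorem L10675 : sm gb N1064 = N2086 := rfl
theorem L10676 : sm gb N2086 = N1064 := flp_b L10675
theorem L10677 : sm gd N2086 = N1283 := ded_14_2 L6472 L5319 L10675
theorem L10678 : sm gd N1283 = N2086 := flp_d L10677
theorem L10679 : sm ge N2086 = N1283 := ded_15_2 L6472 L5321 L10675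
theorem L10680 : sm ge N1283 = N2086 := flp_e L10679
theorem L10681 : sm gf N2086 = N2086 := ded_16_2 L10676 L5315 L2583 L5314 L10675
theorem L10760 : sm ga N1073 = N2102 := rfl
theorem L10761 : sm ga N2102 = N1073 := flp_a L10760
theorem L10762 : sm gc N1073 = N2103 := rfl
theorem L10763 : sm gc N2103 = N1073 := flp_c L10762
theorem L10764 : sm gb N2103 = N1083 := ded_13_1 L5409 L2625 L2605 L5368 L10762
theorem L10766 : sm ga N1381 = N2103 := ded_7_9 L10764 L5711 L6906 L6885 L3264 L1620 L1639 L3307 L6983
theorem L10768 : sm gc N2102 = N1381 := ded_8_0 L10766 L10763 L10760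
theorem L10772 : sm gb N1582 = N2102 := ded_13_5 L10768 L6984 L3309 L3925 L8049
theorem L10774 : sm gb N1108 = N1351 := ded_7_6 L6824 L6846 L8052 L10772 L10761 L5369 L2602 L2663 L5520
theorem L10776 : N1784 = N1366 := coi_13_4 L6895 L5696 L5710 L10774 L6826 L9061
theorem L10777 : N1784 = N1366 := eqc rfl L10776 rfl
theorem L10780 : sm gg N1366 = N904 := trf L10777 L9059 rfl
theorem L10781 : N904 = N1175 := eqe L10780 L6900
theorem L10782 : N1175 = N904 := (eqc rfl L10781 rfl).symm
theorem L10786 : sm gc N904 = N575 := trf L10782 L5969 rfl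
theorem L10787 : N575 = N1782 := eqe L10786 L9053
theorem L10788 : N1782 = N575 := (eqc rfl L10787 rfl).symm
theorem L10789 : sm gf N904 = N2072 := trf L10782 L10603 rfl
theorem L10790 : N2072 = N1783 := eqe L10789 L9056
theorem L10791 : N2072 = N1783 := eqc rfl L10790 rfl
theorem L10794 : sm gc N1783 = N1055 := trf L10791 L10601 rfl
theorem L10799 : sm gc N575 = N904 := trf L10788 L9054 rfl
theorem L10800 : sm gc N904 = N575 := flp_c L10799
theorem L10805 : sm gc N2073 = N1928 := ded_13_4 L9730 L10794 L5255 L5260 L10606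
theorem L10806 : sm gc N1928 = N2073 := flp_c L10805
theorem L10811 : sm gc N2014 = N1734 := ded_28_0 L8845 L10800 L2829 L1444 L1301 L2486 L5079 L10276
theorem L10817 : N1656 = N2014 := coi_13_3 L10277 L7159 L10278 L10811 L8844 L8419
theorem L10818 : N2014 = N1656 := (eqc rfl L10817 rfl).symm
theorem L10830 : sm gg N1656 = N1424 := trf L10818 L10279 rfl
theorem L10831 : N1424 = N841 := eqe L10830 L8415
theorem L10832 : N1424 = N841 := eqc rfl L10831 rfl
theorem L10839 : sm gd N841 = N717 := trf L10832 L7212 rfl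
theorem L10840 : N717 = N408 := eqe L10839 L4103
theorem L10841 : N717 = N408 := eqc rfl L10840 rfl
theorem L10845 : sm gb N408 = N348 := trf L10841 L3462 rfl
theorem L10846 : N348 = N243 := eqe L10845 L2032
theorem L10847 : N348 = N243 := eqc rfl L10846 rfl
theorem L10848 : sm gc N408 = N1004 := trf L10841 L5662 rfl
theorem L10849 : N1004 = N208 := eqe L10848 L2034
theorem L10850 : N1004 = N208 := eqc rfl L10849 rfl
theorem L10854 : sm gf N408 = N1433 := trf L10841 L7252 rfl
theorem L10855 : N1433 = N843 := eqe L10854 L4118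
theorem L10856 : N1433 = N843 := eqc rfl L10855 rfl
theorem L10864 : sm gc N843 = N1028 := trf L10856 L7254 rfl
theorem L10865 : N1028 = N412 := eqe L10864 L4122
theorem L10866 : N1028 = N412 := eqc rfl L10865 rfl
theorem L10867 : sm gg N843 = N1027 := trf L10856 L7257 rfl
theorem L10868 : N1027 = N854 := eqe L10867 L4179
theorem L10869 : N1027 = N854 := eqc rfl L10868 rfl
theorem L10876 : sm gc N854 = N501 := trf L10869 L5083 rfl
theorem L10877 : N501 = N852 := eqe L10876 L4176
theorem L10878 : N852 = N501 := (eqc rfl L10877 rfl).symm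
theorem L10885 : sm gf N854 = N500 := trf L10869 L5082 rfl
theorem L10886 : N500 = N413 := eqe L10885 L4173
theorem L10887 : N500 = N413 := eqc rfl L10886 rfl
theorem L10889 : sm gb N413 = N869 := trf L10887 L4320 rfl
theorem L10890 : N869 = N853 := eqe L10889 L4168
theorem L10891 : N869 = N853 := eqc rfl L10890 rfl
theorem L10892 : sm gc N413 = N251 := trf L10887 L2487 rfl
theorem L10893 : N251 = N844 := eqe L10892 L4129
theorem L10894 : N844 = N251 := (eqc rfl L10893 rfl).symm
theorem L10896 : sm ge N413 = N1018 := trf L10887 L5023 rfl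
theorem L10897 : N1018 = N850 := eqe L10896 L4159
theorem L10898 : N1018 = N850 := eqc rfl L10897 rfl
theorem L10903 : sm gb N850 = N1701 := trf L10898 L8675 rfl
theorem L10904 : N1701 = N1674 := eqe L10903 L8534
theorem L10905 : N1701 = N1674 := eqc rfl L10904 rfl
theorem L10906 : sm gc N850 = N495 := trf L10898 L5021 rfl
theorem L10907 : N495 = N1659 := eqe L10906 L8441
theorem L10908 : N1659 = N495 := (eqc rfl L10907 rfl).symm
theorem L10913 : sm gg N850 = N1985 := trf L10898 L10097 rfl
theorem L10914 : N1985 = N411 := eqe L10913 L4157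
theorem L10915 : N1985 = N411 := eqc rfl L10914 rfl
theorem L10917 : sm gc N411 = N1000 := trf L10915 L10091 rfl
theorem L10918 : N1000 = N842 := eqe L10917 L4117
theorem L10919 : N1000 = N842 := eqc rfl L10918 rfl
theorem L10927 : sm gd N842 = N1980 := trf L10919 L10049 rfl
theorem L10928 : N1980 = N1657 := eqe L10927 L8422
theorem L10929 : N1980 = N1657 := eqc rfl L10928 rfl
theorem L10933 : sm gf N842 = N1986 := trf L10919 L10098 rfl
theorem L10934 : N1986 = N1658 := eqe L10933 L8428
theorem L10935 : N1986 = N1658 := eqc rfl L10934 rfl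
theorem L10944 : sm gg N1658 = N2010 := trf L10935 L10251 rfl
theorem L10945 : N2010 = N1675 := eqe L10944 L8549
theorem L10946 : N2010 = N1675 := eqc rfl L10945 rfl
theorem L10947 : sm ga N1675 = N1019 := trf L10946 L10247 rfl
theorem L10948 : N1019 = N1673 := eqe L10947 L8542
theorem L10949 : N1673 = N1019 := (eqc rfl L10948 rfl).symm
theorem L10950 : sm gb N1675 = N1310 := trf L10946 L10253 rfl
theorem L10951 : sm gb N1310 = N1675 := flp_b L10950
theorem L10952 : sm ge N1675 = N1025 := trf L10946 L10249 rfl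
theorem L10953 : N1025 = N854 := eqe L10952 L8546
theorem L10954 : N1025 = N854 := eqc rfl L10953 rfl
theorem L10955 : sm gf N1675 = N1017 := trf L10946 L10246 rfl
theorem L10956 : N1017 = N850 := eqe L10955 L8541
theorem L10957 : N1017 = N850 := eqc rfl L10956 rfl
theorem L10960 : sm gb N850 = N2008 := trf L10957 L10228 rfl
theorem L10961 : N2008 = N1674 := eqe L10960 L8534
theorem L10962 : N2008 = N1674 := eqc rfl L10961 rfl
theorem L10969 : sm ge N850 = N499 := trf L10957 L5018 rfl
theorem L10970 : N499 = N413 := eqe L10969 L4158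
theorem L10971 : N499 = N413 := eqc rfl L10970 rfl
theorem L10981 : sm gd N413 = N283 := trf L10971 L2484 rfl
theorem L10982 : N283 = N847 := eqe L10981 L4147
theorem L10983 : N847 = N283 := (eqc rfl L10982 rfl).symm
theorem L10989 : sm gb N283 = N1667 := trf L10983 L8490 rfl
theorem L10990 : N1667 = N572 := eqe L10989 L2815
theorem L10991 : N1667 = N572 := eqc rfl L10990 rfl
theorem L10995 : sm gd N283 = N413 := trf L10983 L4146 rfl
theorem L11003 : sm gg N283 = N410 := trf L10983 L4143 rfl
theorem L11004 : N410 = N550 := eqe L11003 L2727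
theorem L11005 : N550 = N410 := (eqc rfl L11004 rfl).symm
theorem L11009 : sm gb N410 = N208 := trf L11005 L5641 L10850
theorem L11010 : N208 = N209 := eqe L11009 L2026
theorem L11011 : N209 = N208 := (eqc rfl L11010 rfl).symm
theorem L11016 : sm ge N410 = N1124 := trf L11005 L5595 rfl
theorem L11017 : N1124 = N845 := eqe L11016 L4130
theorem L11018 : N1124 = N845 := eqc rfl L11017 rfl
theorem L11019 : sm gf N410 = N577 := trf L11005 L2839 rfl
theorem L11020 : N577 = N846 := eqe L11019 L4136
theorem L11021 : N846 = N577 := (eqc rfl L11020 rfl).symm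
theorem L11035 : sm ge N577 = N1663 := trf L11021 L8467 rfl
theorem L11036 : N1663 = N1162 := eqe L11035 L5883
theorem L11037 : N1663 = N1162 := eqc rfl L11036 rfl
theorem L11040 : sm gg N577 = N1666 := trf L11021 L8482 rfl
theorem L11041 : N1666 = N285 := eqe L11040 L2836
theorem L11042 : N1666 = N285 := eqc rfl L11041 rfl
theorem L11044 : sm gc N285 = N915 := trf L11042 L8484 rfl
theorem L11045 : N915 = N576 := eqe L11044 L2834
theorem L11046 : N915 = N576 := eqc rfl L11045 rfl
theorem L11055 : sm gd N576 = N471 := trf L11046 L4537 rfl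
theorem L11056 : N471 = N1055 := eqe L11055 L5658
theorem L11057 : N1055 = N471 := (eqc rfl L11056 rfl).symm
theorem L11061 : sm gf N576 = N882 := trf L11046 L4540 rfl
theorem L11062 : N882 = N284 := eqe L11061 L2832
theorem L11063 : N882 = N284 := eqc rfl L11062 rfl
theorem L11074 : sm ge N284 = N1723 := trf L11063 L8796 rfl
theorem L11075 : N1723 = N564 := eqe L11074 L2784
theorem L11076 : N1723 = N564 := eqc rfl L11075 rfl
theorem L11077 : sm gg N284 = N442 := trf L11063 L4389 rfl
theorem L11078 : N442 = N551 := eqe L11077 L2731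
theorem L11079 : N551 = N442 := (eqc rfl L11078 rfl).symm
theorem L11092 : sm gf N442 = N1003 := trf L11079 L5684 rfl
theorem L11093 : N1003 = N911 := eqe L11092 L4509
theorem L11094 : N1003 = N911 := eqc rfl L11093 rfl
theorem L11106 : sm ge N911 = N1983 := trf L11094 L10073 rfl
theorem L11107 : N1983 = N1799 := eqe L11106 L9128
theorem L11108 : N1983 = N1799 := eqc rfl L11107 rfl
theorem L11110 : sm ga N1799 = N1519 := trf L11108 L10077 rfl
theorem L11111 : N1519 = N913 := eqe L11110 L9125
theorem L11112 : N1519 = N913 := eqc rfl L11111 rfl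
theorem L11124 : sm gf N913 = N770 := trf L11112 L7683 rfl
theorem L11125 : N770 = N443 := eqe L11124 L4524
theorem L11126 : N770 = N443 := eqc rfl L11125 rfl
theorem L11130 : sm gb N443 = N374 := trf L11126 L3734 rfl
theorem L11131 : N374 = N224 := eqe L11130 L2203
theorem L11132 : N374 = N224 := eqc rfl L11131 rfl
theorem L11138 : sm gg N443 = N1158 := trf L11126 L5856 rfl
theorem L11139 : N1158 = N876 := eqe L11138 L4356
theorem L11140 : N1158 = N876 := eqc rfl L11139 rfl
theorem L11143 : sm gb N876 = N761 := trf L11140 L5858 rfl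
theorem L11144 : N761 = N424 := eqe L11143 L4352
theorem L11145 : N761 = N424 := eqc rfl L11144 rfl
theorem L11162 : sm gg N424 = N369 := trf L11145 L3678 rfl
theorem L11163 : N369 = N213 := eqe L11162 L2107
theorem L11164 : N369 = N213 := eqc rfl L11163 rfl
theorem L11165 : sm ga N213 = N752 := trf L11164 L3638 rfl
theorem L11166 : N752 = N414 := eqe L11165 L2053
theorem L11167 : N752 = N414 := eqc rfl L11166 rfl
theorem L11168 : sm gb N213 = N189 := trf L11164 L1820 rfl
theorem L11169 : N189 = N120 := eqe L11168 L1117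
theorem L11170 : N189 = N120 := eqc rfl L11169 rfl
theorem L11178 : sm gf N213 = N760 := trf L11164 L3673 rfl
theorem L11179 : N760 = N423 := eqe L11178 L2102
theorem L11180 : N760 = N423 := eqc rfl L11179 rfl
theorem L11181 : sm ga N423 = N1501 := trf L11180 L7571 rfl
theorem L11182 : N1501 = N856 := eqe L11181 L4189
theorem L11183 : N1501 = N856 := eqc rfl L11182 rfl
theorem L11191 : sm ge N423 = N370 := trf L11180 L3675 rfl
theorem L11192 : N370 = N214 := eqe L11191 L2104
theorem L11193 : N370 = N214 := eqc rfl L11192 rfl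
theorem L11194 : sm gg N423 = N1507 := trf L11180 L7606 rfl
theorem L11195 : N1507 = N875 := eqe L11194 L4345
theorem L11196 : N1507 = N875 := eqc rfl L11195 rfl
theorem L11198 : sm gb N875 = N1159 := trf L11196 L7613 rfl
theorem L11199 : N1159 = N1722 := eqe L11198 L8789
theorem L11200 : N1722 = N1159 := (eqc rfl L11199 rfl).symm
theorem L11202 : sm ge N875 = N763 := trf L11196 L7608 rfl
theorem L11203 : N763 = N426 := eqe L11202 L4347
theorem L11204 : N763 = N426 := eqc rfl L11203 rfl
theorem L11206 : sm ga N426 = N765 := trf L11204 L3702 rfl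
theorem L11207 : N765 = N428 := eqe L11206 L2131
theorem L11208 : N765 = N428 := eqc rfl L11207 rfl
theorem L11209 : sm gb N426 = N574 := trf L11204 L5629 rfl
theorem L11210 : N574 = N881 := eqe L11209 L4381
theorem L11211 : N881 = N574 := (eqc rfl L11210 rfl).symm
theorem L11216 : sm gf N426 = N754 := trf L11204 L3692 rfl
theorem L11217 : N754 = N416 := eqe L11216 L2121
theorem L11218 : N754 = N416 := eqc rfl L11217 rfl
theorem L11229 : sm gg N416 = N367 := trf L11218 L3648 rfl
theorem L11230 : N367 = N209 := eqe L11229 L2065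
theorem L11231 : N367 = N208 := eqc rfl L11230 L11011
theorem L11243 : sm ge N208 = N414 := trf L11231 L3635 L11167
theorem L11244 : N414 = N411 := eqe L11243 L2042
theorem L11245 : N414 = N411 := eqc rfl L11244 rfl
theorem L11246 : sm gf N208 = N753 := trf L11231 L3641 rfl
theorem L11247 : N753 = N412 := eqe L11246 L2046
theorem L11248 : N753 = N412 := eqc rfl L11247 rfl
theorem L11249 : sm ga N412 = N214 := trf L11248 L3643 L11193
theorem L11250 : N214 = N843 := eqe L11249 L4121
theorem L11251 : N843 = N214 := (eqc rfl L11250 rfl).symm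
theorem L11252 : sm gb N412 = N1079 := trf L11248 L5623 rfl
theorem L11253 : N1079 = N851 := eqe L11252 L4160
theorem L11254 : N1079 = N851 := eqc rfl L11253 rfl
theorem L11257 : sm gd N412 = N659 := trf L11248 L3645 rfl
theorem L11258 : sm gd N659 = N412 := flp_d L11257
theorem L11259 : sm ge N412 = N856 := trf L11248 L7575 L11183
theorem L11260 : N856 = N849 := eqe L11259 L4155
theorem L11261 : N856 = N849 := eqc rfl L11260 rfl
theorem L11262 : sm gg N412 = N428 := trf L11248 L3706 L11208
theorem L11263 : N428 = N852 := eqe L11262 L4164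
theorem L11264 : N501 = N428 := (eqc rfl L11263 L10878).symm
theorem L11265 : sm ga N428 = N854 := trf L11264 L5074 L10954
theorem L11266 : N854 = N426 := eqe L11265 L2130
theorem L11267 : N854 = N426 := eqc rfl L11266 rfl
theorem L11268 : sm gb N428 = N512 := trf L11264 L2550 rfl
theorem L11269 : N512 = N884 := eqe L11268 L4395
theorem L11270 : N884 = N512 := (eqc rfl L11269 rfl).symm
theorem L11271 : sm gd N428 = N285 := trf L11264 L2490 rfl
theorem L11272 : N285 = N222 := eqe L11271 L2134
theorem L11273 : N285 = N222 := eqc rfl L11272 rfl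
theorem L11274 : sm ge N428 = N1019 := trf L11264 L5027 rfl
theorem L11275 : N1019 = N877 := eqe L11274 L4364
theorem L11276 : N1019 = N877 := eqc rfl L11275 rfl
theorem L11277 : sm gf N428 = N251 := trf L11264 L2489 rfl
theorem L11278 : N251 = N215 := eqe L11277 L2129
theorem L11279 : N251 = N215 := eqc rfl L11278 rfl
theorem L11280 : sm gg N428 = N412 := trf L11264 L5085 L10866
theorem L11281 : N412 = N415 := eqe L11280 L2136
theorem L11282 : N415 = N412 := (eqc rfl L11281 rfl).symm
theorem L11285 : sm gb N412 = N858 := trf L11282 L4202 rfl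
theorem L11286 : N858 = N851 := eqe L11285 L4160
theorem L11287 : N858 = N851 := eqc rfl L11286 rfl
theorem L11290 : sm gd N412 = N211 := trf L11282 L2062 rfl
theorem L11291 : N211 = N659 := eqe L11290 L11257
theorem L11292 : N659 = N211 := (eqc rfl L11291 rfl).symm
theorem L11297 : N852 = N428 := L10878.trans L11264
theorem L11301 : sm gb N211 = N1165 := trf L11292 L5916 rfl
theorem L11302 : N1165 = N420 := eqe L11301 L2092
theorem L11303 : N1165 = N420 := eqc rfl L11302 rfl
theorem L11307 : sm gd N211 = N412 := trf L11292 L11258 rfl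
theorem L11308 : sm gd N412 = N211 := flp_d L11307
theorem L11313 : sm gg N211 = N667 := trf L11292 L3233 rfl
theorem L11314 : N667 = N222 := eqe L11313 L1165
theorem L11315 : N667 = N222 := eqc rfl L11314 rfl
theorem L11317 : sm gb N222 = N568 := trf L11315 L5627 rfl
theorem L11318 : N568 = N441 := eqe L11317 L2195
theorem L11319 : N568 = N441 := eqc rfl L11318 rfl
theorem L11327 : sm gf N222 = N325 := trf L11315 L3229 rfl
theorem L11328 : N325 = N118 := eqe L11327 L1159
theorem L11329 : N325 = N118 := eqc rfl L11328 rfl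
theorem L11341 : sm gg N118 = N167 := trf L11329 L1611 rfl
theorem L11342 : N167 = N65 := eqe L11341 L650
theorem L11343 : N167 = N65 := eqc rfl L11342 rfl
theorem L11345 : sm gb N65 = N92 := trf L11343 L879 rfl
theorem L11346 : N92 = N40 := eqe L11345 L380
theorem L11347 : N92 = N40 := eqc rfl L11346 rfl
theorem L11352 : sm ge N65 = N316 := trf L11343 L1571 rfl
theorem L11353 : N316 = N116 := eqe L11352 L639
theorem L11354 : N316 = N116 := eqc rfl L11353 rfl
theorem L11359 : sm gb N116 = N164 := trf L11354 L1569 rfl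
theorem L11360 : N164 = N67 := eqe L11359 L641
theorem L11361 : N164 = N67 := eqc rfl L11360 rfl
theorem L11368 : sm gf N116 = N646 := trf L11354 L3130 rfl
theorem L11369 : N646 = N217 := eqe L11368 L1131
theorem L11370 : N646 = N217 := eqc rfl L11369 rfl
theorem L11383 : sm gg N217 = N1310 := trf L11370 L6588 rfl
theorem L11384 : N1310 = N433 := eqe L11383 L2154
theorem L11385 : N1310 = N433 := eqc rfl L11384 rfl
theorem L11387 : sm gb N433 = N1675 := trf L11385 L10951 rfl
theorem L11388 : N1675 = N895 := eqe L11387 L4449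
theorem L11389 : N1675 = N895 := eqc rfl L11388 rfl
theorem L11391 : sm gf N433 = N1305 := trf L11385 L6593 rfl
theorem L11392 : N1305 = N419 := eqe L11391 L2161
theorem L11393 : N1305 = N419 := eqc rfl L11392 rfl
theorem L11395 : sm gc N419 = N1418 := trf L11393 L7181 rfl
theorem L11396 : N1418 = N249 := eqe L11395 L2088
theorem L11397 : N1418 = N249 := eqc rfl L11396 rfl
theorem L11407 : sm gg N249 = N707 := trf L11397 L7177 rfl
theorem L11408 : N707 = N131 := eqe L11407 L1289
theorem L11409 : N707 = N131 := eqc rfl L11408 rfl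
theorem L11411 : sm gb N131 = N346 := trf L11409 L3417 rfl
theorem L11412 : N346 = N244 := eqe L11411 L1267
theorem L11413 : N346 = N244 := eqc rfl L11412 rfl
theorem L11415 : sm gd N131 = N1416 := trf L11409 L7162 rfl
theorem L11416 : N1416 = N247 := eqe L11415 L1276
theorem L11417 : N1416 = N247 := eqc rfl L11416 rfl
theorem L11418 : sm ge N131 = N344 := trf L11409 L3416 rfl
theorem L11419 : N344 = N74 := eqe L11418 L717
theorem L11420 : N344 = N74 := eqc rfl L11419 rfl
theorem L11428 : sm gb N74 = N178 := trf L11420 L1699 rfl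
theorem L11429 : N178 = N130 := eqe L11428 L712
theorem L11430 : N178 = N130 := eqc rfl L11429 rfl
theorem L11432 : sm gd N74 = N706 := trf L11420 L3410 rfl
theorem L11433 : N706 = N47 := eqe L11432 L429
theorem L11434 : N706 = N47 := eqc rfl L11433 rfl
theorem L11440 : sm gb N47 = N345 := trf L11434 L3412 rfl
theorem L11441 : N345 = N79 := eqe L11440 L451
theorem L11442 : N345 = N79 := eqc rfl L11441 rfl
theorem L11447 : sm gf N47 = N1414 := trf L11434 L7148 rfl
theorem L11448 : N1414 = N81 := eqe L11447 L458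
theorem L11449 : N1414 = N81 := eqc rfl L11448 rfl
theorem L11462 : sm ga N81 = N1342 := trf L11449 L7150 rfl
theorem L11463 : N1342 = N49 := eqe L11462 L460
theorem L11464 : N1342 = N49 := eqc rfl L11463 rfl
theorem L11468 : sm gd N49 = N663 := trf L11464 L6780 rfl
theorem L11469 : N663 = N76 := eqe L11468 L438
theorem L11470 : N663 = N76 := eqc rfl L11469 rfl
theorem L11473 : sm gb N76 = N1344 := trf L11470 L6787 rfl
theorem L11474 : N1344 = N106 := eqe L11473 L582
theorem L11475 : N1344 = N106 := eqc rfl L11474 rfl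
theorem L11485 : sm gc N106 = N1703 := trf L11475 L8683 rfl
theorem L11486 : N1703 = N181 := eqe L11485 L949
theorem L11487 : N1703 = N181 := eqc rfl L11486 rfl
theorem L11488 : sm gb N181 = N865 := trf L11487 L8681 rfl
theorem L11489 : N865 = N356 := eqe L11488 L1752
theorem L11490 : N865 = N356 := eqc rfl L11489 rfl
theorem L11491 : sm ga N356 = N420 := trf L11490 L4235 rfl
theorem L11492 : N420 = N733 := eqe L11491 L3545
theorem L11493 : N733 = N420 := (eqc rfl L11492 rfl).symm
theorem L11500 : sm ge N356 = N1697 := trf L11490 L8647 rfl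
theorem L11501 : N1697 = N730 := eqe L11500 L3522
theorem L11502 : N1697 = N730 := eqc rfl L11501 rfl
theorem L11506 : sm gg N356 = N1704 := trf L11490 L8684 rfl
theorem L11507 : N1704 = N734 := eqe L11506 L3551
theorem L11508 : N1704 = N734 := eqc rfl L11507 rfl
theorem L11515 : sm gf N734 = N1676 := trf L11508 L8691 rfl
theorem L11516 : N1676 = N749 := eqe L11515 L3622
theorem L11517 : N1676 = N749 := eqc rfl L11516 rfl
theorem L11524 : sm gg N749 = N851 := trf L11517 L8551 rfl
theorem L11525 : N851 = N365 := eqe L11524 L3616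
theorem L11526 : N851 = N365 := eqc rfl L11525 rfl
theorem L11528 : sm gb N365 = N412 := trf L11526 L4161 rfl
theorem L11529 : N412 = N748 := eqe L11528 L3613
theorem L11530 : N748 = N412 := (eqc rfl L11529 rfl).symm
theorem L11537 : sm ge N365 = N1672 := trf L11526 L8521 rfl
theorem L11538 : N1672 = N746 := eqe L11537 L3604
theorem L11539 : N1672 = N746 := eqc rfl L11538 rfl
theorem L11545 : sm gb N746 = N849 := trf L11539 L8519 rfl
theorem L11546 : N849 = N1491 := eqe L11545 L7520
theorem L11547 : N1491 = N849 := (eqc rfl L11546 rfl).symm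
theorem L11551 : sm gf N746 = N863 := trf L11539 L8522 rfl
theorem L11552 : N863 = N1459 := eqe L11551 L7393
theorem L11553 : N1459 = N863 := (eqc rfl L11552 rfl).symm
theorem L11556 : sm gc N863 = N893 := trf L11553 L7388 rfl
theorem L11557 : N893 = N1698 := eqe L11556 L8652
theorem L11558 : N1698 = N893 := (eqc rfl L11557 rfl).symm
theorem L11560 : sm gf N863 = N746 := trf L11553 L7392 rfl
theorem L11561 : sm gf N746 = N863 := flp_f L11560
theorem L11562 : sm gg N863 = N1493 := trf L11553 L7543 rfl
theorem L11563 : N1493 = N1699 := eqe L11562 L8662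
theorem L11564 : N1699 = N1493 := (eqc rfl L11563 rfl).symm
theorem L11568 : sm gg N1493 = N863 := trf L11564 L8663 rfl
theorem L11571 : sm gb N893 = N1015 := trf L11558 L8660 rfl
theorem L11572 : N1015 = N1758 := eqe L11571 L8947
theorem L11573 : N1758 = N1015 := (eqc rfl L11572 rfl).symm
theorem L11574 : sm gc N893 = N863 := trf L11558 L8653 rfl
theorem L11575 : sm gc N863 = N893 := flp_c L11574
theorem L11576 : sm ge N893 = N866 := trf L11558 L8656 rfl
theorem L11577 : N866 = N436 := eqe L11576 L4441
theorem L11578 : N866 = N436 := eqc rfl L11577 rfl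
theorem L11581 : sm gb N436 = N497 := trf L11578 L4311 rfl
theorem L11582 : N497 = N899 := eqe L11581 L4469
theorem L11583 : N899 = N497 := (eqc rfl L11582 rfl).symm
theorem L11590 : sm gg N436 = N1241 := trf L11578 L6289 rfl
theorem L11591 : N1241 = N467 := eqe L11590 L2320
theorem L11592 : N1241 = N467 := eqc rfl L11591 rfl
theorem L11594 : sm gb N467 = N615 := trf L11592 L6290 rfl
theorem L11595 : N615 = N963 := eqe L11594 L4757
theorem L11596 : N963 = N615 := (eqc rfl L11595 rfl).symm
theorem L11601 : sm gf N467 = N608 := trf L11592 L6283 rfl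
theorem L11602 : N608 = N236 := eqe L11601 L2316
theorem L11603 : N608 = N236 := eqc rfl L11602 rfl
theorem L11605 : sm gb N236 = N690 := trf L11603 L3326 rfl
theorem L11606 : N690 = N366 := eqe L11605 L1809
theorem L11607 : N690 = N366 := eqc rfl L11606 rfl
theorem L11615 : sm gg N236 = N298 := trf L11603 L2979 rfl
theorem L11616 : N298 = N125 := eqe L11615 L1234
theorem L11617 : N298 = N125 := eqc rfl L11616 rfl
theorem L11619 : sm gb N125 = N156 := trf L11617 L1509 rfl
theorem L11620 : N156 = N68 := eqe L11619 L684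
theorem L11621 : N156 = N68 := eqc rfl L11620 rfl
theorem L11626 : sm ge N125 = N594 := trf L11617 L2912 rfl
theorem L11627 : N594 = N232 := eqe L11626 L1215
theorem L11628 : N594 = N232 := eqc rfl L11627 rfl
theorem L11631 : sm gb N232 = N293 := trf L11628 L2910 rfl
theorem L11632 : N293 = N123 := eqe L11631 L1213
theorem L11633 : N293 = N123 := eqc rfl L11632 rfl
theorem L11635 : sm gd N232 = N1203 := trf L11628 L6083 rfl
theorem L11636 : N1203 = N457 := eqe L11635 L2272
theorem L11637 : N1203 = N457 := eqc rfl L11636 rfl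
theorem L11640 : sm gb N457 = N589 := trf L11637 L6081 rfl
theorem L11641 : N589 = N230 := eqe L11640 L2270
theorem L11642 : N589 = N230 := eqc rfl L11641 rfl
theorem L11643 : sm ge N457 = N1514 := trf L11637 L7659 rfl
theorem L11644 : N1514 = N925 := eqe L11643 L4594
theorem L11645 : N1514 = N925 := eqc rfl L11644 rfl
theorem L11646 : sm gb N925 = N767 := trf L11645 L7655 rfl
theorem L11647 : N767 = N449 := eqe L11646 L4590
theorem L11648 : N767 = N449 := eqc rfl L11647 rfl
theorem L11649 : sm gd N925 = N769 := trf L11645 L7656 rfl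
theorem L11650 : N769 = N450 := eqe L11649 L4591
theorem L11651 : N769 = N450 := eqc rfl L11650 rfl
theorem L11655 : sm gb N450 = N373 := trf L11651 L3730 rfl
theorem L11656 : N373 = N227 := eqe L11655 L2242
theorem L11657 : N373 = N227 := eqc rfl L11656 rfl
theorem L11663 : sm gg N450 = N1518 := trf L11651 L7676 rfl
theorem L11664 : N1518 = N928 := eqe L11663 L4603
theorem L11665 : N1518 = N928 := eqc rfl L11664 rfl
theorem L11669 : sm gb N928 = N1543 := trf L11665 L7837 rfl
theorem L11670 : N1543 = N1477 := eqe L11669 L7469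
theorem L11671 : N1543 = N1477 := eqc rfl L11670 rfl
theorem L11676 : sm gg N1477 = N784 := trf L11671 L7833 rfl
theorem L11677 : N784 = N739 := eqe L11676 L7465
theorem L11678 : N784 = N739 := eqc rfl L11677 rfl
theorem L11682 : sm gb N739 = N381 := trf L11678 L3802 rfl
theorem L11683 : N381 = N360 := eqe L11682 L3572
theorem L11684 : N381 = N360 := eqc rfl L11683 rfl
theorem L11691 : sm ge N739 = N383 := trf L11678 L3803 rfl
theorem L11692 : N383 = N361 := eqe L11691 L3573
theorem L11693 : N383 = N361 := eqc rfl L11692 rfl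
theorem L11694 : sm gf N739 = N657 := trf L11678 L3805 rfl
theorem L11695 : N657 = N1444 := eqe L11694 L7315
theorem L11696 : N1444 = N657 := (eqc rfl L11695 rfl).symm
theorem L11700 : sm ge N657 = N724 := trf L11696 L7312 rfl
theorem L11701 : N724 = N335 := eqe L11700 L3192
theorem L11702 : N724 = N335 := eqc rfl L11701 rfl
theorem L11703 : sm gf N657 = N739 := trf L11696 L7314 rfl
theorem L11704 : sm gf N739 = N657 := flp_f L11703
theorem L11708 : sm gb N335 = N351 := trf L11702 L3490 rfl
theorem L11709 : N351 = N172 := eqe L11708 L1654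
theorem L11710 : N351 = N172 := eqc rfl L11709 rfl
theorem L11714 : sm gd N335 = N356 := trf L11702 L3491 rfl
theorem L11715 : N356 = N383 := eqe L11714 L1899
theorem L11716 : N361 = N356 := (eqc rfl L11715 L11693).symm
theorem L11720 : sm gg N335 = N1449 := trf L11702 L7340 rfl
theorem L11721 : N1449 = N690 := eqe L11720 L3323
theorem L11722 : N1449 = N366 := eqc rfl L11721 L11607
theorem L11726 : sm gd N366 = N734 := trf L11722 L7342 rfl
theorem L11727 : N734 = N742 := eqe L11726 L3584
theorem L11728 : N742 = N734 := (eqc rfl L11727 rfl).symm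
theorem L11729 : sm gf N366 = N1480 := trf L11722 L7485 rfl
theorem L11730 : N1480 = N750 := eqe L11729 L3623
theorem L11731 : N1480 = N750 := eqc rfl L11730 rfl
theorem L11735 : sm gg N750 = N740 := trf L11731 L7479 rfl
theorem L11736 : N740 = N733 := eqe L11735 L3629
theorem L11737 : N740 = N420 := eqc rfl L11736 L11493
theorem L11748 : N858 = N365 := L11287.trans L11526
theorem L11749 : sm ge N420 = N1475 := trf L11737 L7459 rfl
theorem L11750 : N1475 = N863 := eqe L11749 L4229
theorem L11751 : N1475 = N863 := eqc rfl L11750 rfl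
theorem L11756 : sm ga N863 = N739 := trf L11751 L7457 rfl
theorem L11757 : N739 = N1697 := eqe L11756 L8644
theorem L11758 : N739 = N730 := eqc rfl L11757 L11502
theorem L11759 : sm gb N730 = N360 := trf L11758 L3572 rfl
theorem L11760 : N360 = N354 := eqe L11759 L3520
theorem L11761 : N360 = N354 := eqc rfl L11760 rfl
theorem L11765 : sm gd N730 = N1474 := trf L11758 L7453 rfl
theorem L11766 : N1474 = N1456 := eqe L11765 L7369
theorem L11767 : N1474 = N1456 := eqc rfl L11766 rfl
theorem L11769 : sm gf N730 = N657 := trf L11758 L11704 rfl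
theorem L11770 : N657 = N364 := eqe L11769 L3525
theorem L11771 : N657 = N364 := eqc rfl L11770 rfl
theorem L11772 : sm gg N730 = N1477 := trf L11758 L7464 rfl
theorem L11773 : N1477 = N1460 := eqe L11772 L7394
theorem L11774 : N1477 = N1460 := eqc rfl L11773 rfl
theorem L11775 : sm gb N1460 = N928 := trf L11774 L7468 rfl
theorem L11776 : sm gb N928 = N1460 := flp_b L11775
theorem L11790 : sm ge N364 = N335 := trf L11771 L3192 rfl
theorem L11791 : N335 = N187 := eqe L11790 L1796
theorem L11792 : N335 = N187 := eqc rfl L11791 rfl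
theorem L11801 : sm gb N187 = N172 := trf L11792 L1654 rfl
theorem L11802 : N172 = N102 := eqe L11801 L973
theorem L11803 : N172 = N102 := eqc rfl L11802 rfl
theorem L11804 : sm gc N187 = N689 := trf L11792 L3321 rfl
theorem L11805 : N689 = N125 := eqe L11804 L974
theorem L11806 : N689 = N125 := eqc rfl L11805 rfl
theorem L11821 : sm gf N125 = N789 := trf L11806 L3832 rfl
theorem L11822 : N789 = N219 := eqe L11821 L1146
theorem L11823 : N789 = N219 := eqc rfl L11822 rfl
theorem L11831 : sm gb N219 = N1469 := trf L11823 L7429 rfl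
theorem L11832 : N1469 = N117 := eqe L11831 L1144
theorem L11833 : N1469 = N117 := eqc rfl L11832 rfl
theorem L11849 : sm gf N117 = N1623 := trf L11833 L8256 rfl
theorem L11850 : N1623 = N65 := eqe L11849 L646
theorem L11851 : N1623 = N65 := eqc rfl L11850 rfl
theorem L11852 : sm gc N65 = N826 := trf L11851 L8254 rfl
theorem L11853 : N826 = N45 := eqe L11852 L381
theorem L11854 : N826 = N45 := eqc rfl L11853 rfl
theorem L11868 : sm gg N45 = N1624 := trf L11854 L8257 rfl
theorem L11869 : N1624 = N77 := eqe L11868 L439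
theorem L11870 : N1624 = N77 := eqc rfl L11869 rfl
theorem L11871 : sm gb N77 = N1580 := trf L11870 L8259 rfl
theorem L11872 : N1580 = N77 := eqe L11871 L443
theorem L11873 : N1580 = N77 := eqc rfl L11872 rfl
theorem L11874 : sm gg N77 = N805 := trf L11873 L8042 rfl
theorem L11875 : N805 = N45 := eqe L11874 L440
theorem L11876 : N805 = N45 := eqc rfl L11875 rfl
theorem L11892 : sm gf N45 = N1561 := trf L11876 L7951 rfl
theorem L11893 : N1561 = N76 := eqe L11892 L435
theorem L11894 : N1561 = N76 := eqc rfl L11893 rfl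
theorem L11895 : sm gb N76 = N796 := trf L11894 L7949 rfl
theorem L11896 : N796 = N106 := eqe L11895 L582
theorem L11897 : N796 = N106 := eqc rfl L11896 rfl
theorem L11898 : sm ga N106 = N482 := trf L11897 L3877 rfl
theorem L11899 : N482 = N190 := eqe L11898 L987
theorem L11900 : N482 = N190 := eqc rfl L11899 rfl
theorem L11913 : sm gg N106 = N994 := trf L11897 L4891 rfl
theorem L11914 : N994 = N195 := eqe L11913 L1014
theorem L11915 : N994 = N195 := eqc rfl L11914 rfl
theorem L11916 : sm ga N195 = N992 := trf L11915 L4886 rfl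
theorem L11917 : N992 = N196 := eqe L11916 L1023
theorem L11918 : N992 = N196 := eqc rfl L11917 rfl
theorem L11931 : sm gf N195 = N483 := trf L11915 L4885 rfl
theorem L11932 : N483 = N191 := eqe L11931 L1019
theorem L11933 : N483 = N191 := eqc rfl L11932 rfl
theorem L11934 : sm ga N191 = N797 := trf L11933 L3884 rfl
theorem L11935 : N797 = N107 := eqe L11934 L992
theorem L11936 : N797 = N107 := eqc rfl L11935 rfl
theorem L11949 : sm gg N191 = N243 := trf L11933 L2393 rfl
theorem L11950 : N243 = N104 := eqe L11949 L991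
theorem L11951 : N243 = N104 := eqc rfl L11950 rfl
theorem L11960 : sm ge N104 = N481 := trf L11951 L2384 rfl
theorem L11961 : N481 = N189 := eqe L11960 L980
theorem L11962 : N481 = N120 := eqc rfl L11961 L11170
theorem L11964 : sm ga N120 = N795 := trf L11962 L3870 rfl
theorem L11965 : N795 = N203 := eqe L11964 L1059
theorem L11966 : N795 = N203 := eqc rfl L11965 rfl
theorem L11970 : sm gc N120 = N244 := trf L11962 L2386 rfl
theorem L11971 : N244 = N224 := eqe L11970 L1175
theorem L11972 : N244 = N224 := eqc rfl L11971 rfl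
theorem L11976 : sm gf N120 = N989 := trf L11962 L4862 rfl
theorem L11977 : N989 = N227 := eqe L11976 L1192
theorem L11978 : N989 = N227 := eqc rfl L11977 rfl
theorem L11992 : sm ge N227 = N190 := trf L11978 L4866 L11900
theorem L11993 : N190 = N121 := eqe L11992 L1194
theorem L11994 : N190 = N121 := eqc rfl L11993 rfl
theorem L11995 : sm gg N227 = N1964 := trf L11978 L9938 rfl
theorem L11996 : N1964 = N360 := eqe L11995 L1780
theorem L11997 : N1964 = N354 := eqc rfl L11996 L11761
theorem L12004 : sm ge N354 = N196 := trf L11997 L9942 L11918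
theorem L12005 : N196 = N181 := eqe L12004 L1744
theorem L12006 : N196 = N181 := eqc rfl L12005 rfl
theorem L12007 : sm gf N354 = N1560 := trf L11997 L9945 rfl
theorem L12008 : N1560 = N180 := eqe L12007 L1741
theorem L12009 : N1560 = N180 := eqc rfl L12008 rfl
theorem L12012 : N346 = N224 := L11413.trans L11972
theorem L12016 : sm ge N180 = N107 := trf L12009 L7946 L11936
theorem L12017 : N107 = N99 := eqe L12016 L941
theorem L12018 : N107 = N99 := eqc rfl L12017 rfl
theorem L12019 : sm gg N180 = N203 := trf L12009 L7941 L11966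
theorem L12020 : N203 = N355 := eqe L12019 L1746
theorem L12021 : N355 = N203 := (eqc rfl L12020 rfl).symm
theorem L12025 : sm gb N203 = N396 := trf L12021 L1957 rfl
theorem L12026 : N396 = N391 := eqe L12025 L1933
theorem L12027 : N396 = N391 := eqc rfl L12026 rfl
theorem L12028 : sm gc N203 = N194 := trf L12021 L1748 rfl
theorem L12029 : N194 = N183 := eqe L12028 L1060
theorem L12030 : N194 = N183 := eqc rfl L12029 rfl
theorem L12031 : sm gd N203 = N729 := trf L12021 L3518 rfl
theorem L12032 : N729 = N400 := eqe L12031 L1973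
theorem L12033 : N729 = N400 := eqc rfl L12032 rfl
theorem L12040 : sm gg N203 = N180 := trf L12021 L1747 rfl
theorem L12041 : N180 = N183 := eqe L12040 L1062
theorem L12042 : N183 = N180 := (eqc rfl L12041 rfl).symm
theorem L12051 : sm gd N180 = N359 := trf L12042 L1772 rfl
theorem L12052 : N359 = N353 := eqe L12051 L1736
theorem L12053 : N359 = N353 := eqc rfl L12052 rfl
theorem L12054 : sm ge N180 = N100 := trf L12042 L955 rfl
theorem L12055 : N100 = N99 := eqe L12054 L941
theorem L12056 : N100 = N99 := eqc rfl L12055 rfl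
theorem L12061 : N194 = N180 := L12030.trans L12042
theorem L12062 : sm ga N99 = N119 := trf L12056 L656 rfl
theorem L12063 : N119 = N178 := eqe L12062 L932
theorem L12064 : N130 = N119 := (eqc rfl L12063 L11430).symm
theorem L12065 : sm gb N99 = N179 := trf L12056 L939 rfl
theorem L12066 : N179 = N57 := eqe L12065 L545
theorem L12067 : N179 = N57 := eqc rfl L12066 rfl
theorem L12068 : sm gc N99 = N110 := trf L12056 L608 rfl
theorem L12069 : N110 = N60 := eqe L12068 L546
theorem L12070 : N110 = N60 := eqc rfl L12069 rfl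
theorem L12073 : sm gf N99 = N184 := trf L12056 L956 rfl
theorem L12074 : N184 = N181 := eqe L12073 L946
theorem L12075 : N184 = N181 := eqc rfl L12074 rfl
theorem L12088 : N351 = N102 := L11710.trans L11803
theorem L12090 : sm gg N181 = N121 := trf L12075 L961 rfl
theorem L12091 : N121 = N357 := eqe L12090 L1758
theorem L12092 : N357 = N121 := (eqc rfl L12091 rfl).symm
theorem L12096 : sm gb N121 = N735 := trf L12092 L3555 rfl
theorem L12097 : N735 = N228 := eqe L12096 L1196
theorem L12098 : N735 = N228 := eqc rfl L12097 rfl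
theorem L12099 : sm gc N121 = N195 := trf L12092 L1760 rfl
theorem L12100 : N195 = N225 := eqe L12099 L1183
theorem L12101 : N225 = N195 := (eqc rfl L12100 rfl).symm
theorem L12105 : sm ge N121 = N731 := trf L12092 L3532 rfl
theorem L12106 : N731 = N227 := eqe L12105 L1195
theorem L12107 : N731 = N227 := eqc rfl L12106 rfl
theorem L12108 : N348 = N104 := L10847.trans L11951
theorem L12109 : sm gf N121 = N104 := trf L12092 L1763 L12108
theorem L12110 : N104 = N66 := eqe L12109 L664
theorem L12111 : N104 = N66 := eqc rfl L12110 rfl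
theorem L12112 : sm gg N121 = N181 := trf L12092 L1759 rfl
theorem L12113 : sm gg N181 = N121 := flp_g L12112
theorem L12117 : N178 = N119 := L11430.trans L12064
theorem L12122 : sm gg N66 = N191 := trf L12111 L990 rfl
theorem L12123 : N191 = N119 := eqe L12122 L659
theorem L12124 : N191 = N119 := eqc rfl L12123 rfl
theorem L12131 : sm gd N119 = N169 := trf L12124 L994 rfl
theorem L12132 : N169 = N69 := eqe L12131 L657
theorem L12133 : N169 = N69 := eqc rfl L12132 rfl
theorem L12137 : sm ga N69 = N94 := trf L12133 L886 rfl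
theorem L12138 : N94 = N57 := eqe L12137 L395
theorem L12139 : N94 = N57 := eqc rfl L12138 rfl
theorem L12149 : sm gf N69 = N158 := trf L12133 L888 rfl
theorem L12150 : N158 = N127 := eqe L12149 L688
theorem L12151 : N158 = N127 := eqc rfl L12150 rfl
theorem L12154 : sm gb N127 = N302 := trf L12151 L1525 rfl
theorem L12155 : N302 = N239 := eqe L12154 L1241
theorem L12156 : N302 = N239 := eqc rfl L12155 rfl
theorem L12162 : sm ge N127 = N295 := trf L12151 L1498 rfl
theorem L12163 : N295 = N234 := eqe L12162 L1228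
theorem L12164 : N295 = N234 := eqc rfl L12163 rfl
theorem L12165 : sm gg N127 = N86 := trf L12151 L848 rfl
theorem L12166 : N86 = N112 := eqe L12165 L694
theorem L12167 : N112 = N86 := (eqc rfl L12166 rfl).symm
theorem L12173 : sm gc N86 = N64 := trf L12167 L621 rfl
theorem L12174 : N64 = N157 := eqe L12173 L842
theorem L12175 : N157 = N64 := (eqc rfl L12174 rfl).symm
theorem L12177 : sm ge N86 = N206 := trf L12167 L1085 rfl
theorem L12178 : N206 = N153 := eqe L12177 L819
theorem L12179 : N206 = N153 := eqc rfl L12178 rfl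
theorem L12180 : sm gf N86 = N62 := trf L12167 L618 rfl
theorem L12181 : N62 = N53 := eqe L12180 L485
theorem L12182 : N62 = N53 := eqc rfl L12181 rfl
theorem L12183 : sm gg N86 = N127 := trf L12167 L695 rfl
theorem L12184 : sm gg N127 = N86 := flp_g L12183
theorem L12190 : sm gc N53 = N38 := trf L12182 L360 rfl
theorem L12191 : N38 = N93 := eqe L12190 L512
theorem L12192 : N93 = N38 := (eqc rfl L12191 rfl).symm
theorem L12194 : sm ge N53 = N111 := trf L12182 L609 rfl
theorem L12195 : N111 = N91 := eqe L12194 L509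
theorem L12196 : N111 = N91 := eqc rfl L12195 rfl
theorem L12204 : sm gc N91 = N63 := trf L12196 L613 rfl
theorem L12205 : N63 = N165 := eqe L12204 L868
theorem L12206 : N165 = N63 := (eqc rfl L12205 rfl).symm
theorem L12207 : sm gd N91 = N205 := trf L12196 L1072 rfl
theorem L12208 : N205 = N163 := eqe L12207 L863
theorem L12209 : N205 = N163 := eqc rfl L12208 rfl
theorem L12211 : sm gg N91 = N101 := trf L12196 L615 rfl
theorem L12212 : N101 = N166 := eqe L12211 L874
theorem L12213 : N166 = N101 := (eqc rfl L12212 rfl).symm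
theorem L12219 : sm gd N101 = N315 := trf L12213 L1567 rfl
theorem L12220 : N315 = N185 := eqe L12219 L962
theorem L12221 : N315 = N185 := eqc rfl L12220 rfl
theorem L12224 : sm gg N101 = N91 := trf L12213 L875 rfl
theorem L12225 : sm gg N91 = N101 := flp_g L12224
theorem L12232 : sm gc N185 = N642 := trf L12221 L3113 rfl
theorem L12233 : N642 = N362 := eqe L12232 L1786
theorem L12234 : N642 = N362 := eqc rfl L12233 rfl
theorem L12237 : sm gf N185 = N643 := trf L12221 L3114 rfl
theorem L12238 : N643 = N363 := eqe L12237 L1788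
theorem L12239 : N643 = N363 := eqc rfl L12238 rfl
theorem L12242 : sm ga N363 = N591 := trf L12239 L3116 rfl
theorem L12243 : N591 = N459 := eqe L12242 L2280
theorem L12244 : N591 = N459 := eqc rfl L12243 rfl
theorem L12250 : sm ge N363 = N782 := trf L12239 L3792 rfl
theorem L12251 : N782 = N738 := eqe L12250 L3568
theorem L12252 : N782 = N738 := eqc rfl L12251 rfl
theorem L12254 : sm ga N738 = N781 := trf L12252 L3787 rfl
theorem L12255 : N781 = N917 := eqe L12254 L4552
theorem L12256 : N917 = N781 := (eqc rfl L12255 rfl).symm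
theorem L12260 : sm gc N738 = N1535 := trf L12252 L7779 rfl
theorem L12261 : N1535 = N1473 := eqe L12260 L7445
theorem L12262 : N1535 = N1473 := eqc rfl L12261 rfl
theorem L12263 : N381 = N354 := L11684.trans L11761
theorem L12269 : sm ga N1473 = N1533 := trf L12262 L7776 rfl
theorem L12270 : N1533 = N1811 := eqe L12269 L9194
theorem L12271 : N1811 = N1533 := (eqc rfl L12270 rfl).symm
theorem L12273 : sm gf N1473 = N780 := trf L12262 L7775 rfl
theorem L12274 : N780 = N737 := eqe L12273 L7443
theorem L12275 : N780 = N737 := eqc rfl L12274 rfl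
theorem L12276 : sm gg N1473 = N1512 := trf L12262 L7782 rfl
theorem L12277 : N1512 = N924 := eqe L12276 L7449
theorem L12278 : N1512 = N924 := eqc rfl L12277 rfl
theorem L12279 : sm ga N924 = N779 := trf L12278 L7640 rfl
theorem L12280 : N779 = N1627 := eqe L12279 L8276
theorem L12281 : N1627 = N779 := (eqc rfl L12280 rfl).symm
theorem L12283 : sm ge N924 = N1204 := trf L12278 L7644 rfl
theorem L12284 : N1204 = N455 := eqe L12283 L4587
theorem L12285 : N1204 = N455 := eqc rfl L12284 rfl
theorem L12286 : sm gf N924 = N766 := trf L12278 L7639 rfl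
theorem L12287 : N766 = N448 := eqe L12286 L4584
theorem L12288 : N766 = N448 := eqc rfl L12287 rfl
theorem L12289 : sm ga N448 = N377 := trf L12288 L3709 rfl
theorem L12290 : N377 = N827 := eqe L12289 L4031
theorem L12291 : N827 = N377 := (eqc rfl L12290 rfl).symm
theorem L12295 : sm gc N448 = N372 := trf L12288 L3708 rfl
theorem L12296 : N372 = N226 := eqe L12295 L2232
theorem L12297 : N372 = N226 := eqc rfl L12296 rfl
theorem L12298 : sm gd N448 = N1511 := trf L12288 L7632 rfl
theorem L12299 : N1511 = N923 := eqe L12298 L4581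
theorem L12300 : N1511 = N923 := eqc rfl L12299 rfl
theorem L12301 : sm ge N448 = N639 := trf L12288 L3711 rfl
theorem L12302 : N639 = N229 := eqe L12301 L2233
theorem L12303 : N639 = N229 := eqc rfl L12302 rfl
theorem L12304 : sm gg N448 = N1513 := trf L12288 L7646 rfl
theorem L12305 : N1513 = N916 := eqe L12304 L4548
theorem L12306 : N1513 = N916 := eqc rfl L12305 rfl
theorem L12311 : sm ge N916 = N1296 := trf L12306 L7652 rfl
theorem L12312 : N1296 = N456 := eqe L12311 L4545
theorem L12313 : N1296 = N456 := eqc rfl L12312 rfl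
theorem L12318 : sm gf N456 = N1206 := trf L12313 L6526 rfl
theorem L12319 : N1206 = N940 := eqe L12318 L4649
theorem L12320 : N1206 = N940 := eqc rfl L12319 rfl
theorem L12326 : sm gg N940 = N590 := trf L12320 L6095 rfl
theorem L12327 : N590 = N834 := eqe L12326 L4657
theorem L12328 : N834 = N590 := (eqc rfl L12327 rfl).symm
theorem L12331 : sm gb N590 = N1641 := trf L12328 L8347 rfl
theorem L12332 : N1641 = N1197 := eqe L12331 L6067
theorem L12333 : N1641 = N1197 := eqc rfl L12332 rfl
theorem L12337 : sm gd N590 = N455 := trf L12328 L4070 rfl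
theorem L12338 : N455 = N1205 := eqe L12337 L6090
theorem L12339 : N1205 = N455 := (eqc rfl L12338 rfl).symm
theorem L12341 : sm gf N590 = N403 := trf L12328 L4065 rfl
theorem L12342 : N403 = N314 := eqe L12341 L2894
theorem L12343 : N403 = N314 := eqc rfl L12342 rfl
theorem L12344 : sm gg N590 = N940 := trf L12328 L4658 rfl
theorem L12345 : sm gg N940 = N590 := flp_g L12344
theorem L12348 : sm gb N314 = N833 := trf L12343 L4060 rfl
theorem L12349 : N833 = N636 := eqe L12348 L3089
theorem L12350 : N833 = N636 := eqc rfl L12349 rfl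
theorem L12352 : sm gd N314 = N229 := trf L12343 L1999 rfl
theorem L12353 : N229 = N641 := eqe L12352 L3108
theorem L12354 : N641 = N229 := (eqc rfl L12353 rfl).symm
theorem L12366 : sm gd N229 = N314 := trf L12354 L3109 rfl
theorem L12367 : sm gd N314 = N229 := flp_d L12366
theorem L12368 : sm ge N229 = N1299 := trf L12354 L6534 rfl
theorem L12369 : N1299 = N448 := eqe L12368 L2234
theorem L12370 : N1299 = N448 := eqc rfl L12369 rfl
theorem L12376 : sm gd N448 = N1529 := trf L12370 L7745 rfl
theorem L12377 : N1529 = N923 := eqe L12376 L4581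
theorem L12378 : N1529 = N923 := eqc rfl L12377 rfl
theorem L12379 : sm ge N923 = N778 := trf L12378 L7743 rfl
theorem L12380 : N778 = N1626 := eqe L12379 L8272
theorem L12381 : N1626 = N778 := (eqc rfl L12380 rfl).symm
theorem L12384 : sm gc N778 = N1810 := trf L12381 L9189 rfl
theorem L12385 : N1810 = N1528 := eqe L12384 L7736
theorem L12386 : N1810 = N1528 := eqc rfl L12385 rfl
theorem L12388 : sm ge N778 = N923 := trf L12381 L8271 rfl
theorem L12389 : sm ge N923 = N778 := flp_e L12388
theorem L12390 : sm gg N778 = N1472 := trf L12381 L8269 rfl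
theorem L12391 : N1472 = N1531 := eqe L12390 L7750
theorem L12392 : N1531 = N1472 := (eqc rfl L12391 rfl).symm
theorem L12394 : sm gg N1472 = N778 := trf L12392 L7751 rfl
theorem L12396 : sm ga N1528 = N1472 := trf L12386 L9183 rfl
theorem L12397 : N1472 = N1453 := eqe L12396 L7738
theorem L12398 : N1472 = N1453 := eqc rfl L12397 rfl
theorem L12399 : sm gd N1528 = N916 := trf L12386 L9182 rfl
theorem L12400 : N916 = N1425 := eqe L12399 L7740
theorem L12401 : N1425 = N916 := (eqc rfl L12400 rfl).symm
theorem L12402 : sm ge N1528 = N1453 := trf L12386 L9187 L12398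
theorem L12403 : sm ge N1453 = N1528 := flp_e L12402
theorem L12404 : sm gg N1528 = N923 := trf L12386 L9185 rfl
theorem L12405 : sm gg N923 = N1528 := flp_g L12404
theorem L12406 : sm ga N916 = N727 := trf L12401 L7216 rfl
theorem L12407 : N727 = N737 := eqe L12406 L4543
theorem L12408 : N737 = N727 := (eqc rfl L12407 rfl).symm
theorem L12409 : sm gc N916 = N713 := trf L12401 L7215 rfl
theorem L12410 : N713 = N445 := eqe L12409 L4542
theorem L12411 : N713 = N445 := eqc rfl L12410 rfl
theorem L12412 : sm gd N916 = N1528 := trf L12401 L7741 rfl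
theorem L12413 : sm gd N1528 = N916 := flp_d L12412
theorem L12416 : sm gb N445 = N247 := trf L12411 L7167 L11417
theorem L12417 : N247 = N912 := eqe L12416 L4520
theorem L12418 : N912 = N247 := (eqc rfl L12417 rfl).symm
theorem L12423 : sm gf N445 = N1426 := trf L12411 L7218 rfl
theorem L12424 : N1426 = N917 := eqe L12423 L4549
theorem L12425 : N1426 = N781 := eqc rfl L12424 L12256
theorem L12426 : sm gg N445 = N1427 := trf L12411 L7224 rfl
theorem L12427 : N1427 = N226 := eqe L12426 L2213
theorem L12428 : N1427 = N226 := eqc rfl L12427 rfl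
theorem L12431 : sm gf N226 = N1457 := trf L12428 L7376 rfl
theorem L12432 : N1457 = N449 := eqe L12431 L2235
theorem L12433 : N1457 = N449 := eqc rfl L12432 rfl
theorem L12438 : sm gg N449 = N728 := trf L12433 L7373 rfl
theorem L12439 : N728 = N738 := eqe L12438 L3569
theorem L12440 : N738 = N728 := (eqc rfl L12439 rfl).symm
theorem L12444 : sm gc N728 = N1473 := trf L12440 L7445 rfl
theorem L12445 : N1473 = N1454 := eqe L12444 L7361
theorem L12446 : N1473 = N1454 := eqc rfl L12445 rfl
theorem L12448 : sm ge N728 = N363 := trf L12440 L3567 rfl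
theorem L12449 : N363 = N1442 := eqe L12448 L7303
theorem L12450 : N1442 = N363 := (eqc rfl L12449 rfl).symm
theorem L12452 : sm gg N728 = N449 := trf L12440 L3570 rfl
theorem L12453 : sm gg N449 = N728 := flp_g L12452
theorem L12456 : sm ge N363 = N728 := trf L12450 L7302 rfl
theorem L12457 : sm ge N728 = N363 := flp_e L12456
theorem L12458 : sm gf N363 = N721 := trf L12450 L7299 rfl
theorem L12459 : N721 = N185 := eqe L12458 L1789
theorem L12460 : N721 = N185 := eqc rfl L12459 rfl
theorem L12469 : sm gg N185 = N1443 := trf L12460 L7304 rfl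
theorem L12470 : N1443 = N205 := eqe L12469 L1077
theorem L12471 : N1443 = N163 := eqc rfl L12470 L12209
theorem L12478 : sm ge N163 = N400 := trf L12471 L7308 L12033
theorem L12479 : N400 = N192 := eqe L12478 L1001
theorem L12480 : N400 = N192 := eqc rfl L12479 rfl
theorem L12489 : sm gf N192 = N828 := trf L12480 L4036 rfl
theorem L12490 : N828 = N378 := eqe L12489 L1860
theorem L12491 : N828 = N378 := eqc rfl L12490 rfl
theorem L12496 : sm gb N378 = N1628 := trf L12491 L8281 rfl
theorem L12497 : N1628 = N253 := eqe L12496 L1866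
theorem L12498 : N1628 = N253 := eqc rfl L12497 rfl
theorem L12506 : sm ge N253 = N835 := trf L12498 L8285 rfl
theorem L12507 : N835 = N151 := eqe L12506 L1310
theorem L12508 : N835 = N151 := eqc rfl L12507 rfl
theorem L12522 : sm gg N151 = N1644 := trf L12508 L8357 rfl
theorem L12523 : N1644 = N291 := eqe L12522 L1468
theorem L12524 : N1644 = N291 := eqc rfl L12523 rfl
theorem L12525 : sm gb N291 = N1880 := trf L12524 L9520 rfl
theorem L12526 : N1880 = N592 := eqe L12525 L2900
theorem L12527 : N1880 = N592 := eqc rfl L12526 rfl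
theorem L12528 : sm gd N291 = N837 := trf L12524 L8359 rfl
theorem L12529 : N837 = N154 := eqe L12528 L1470
theorem L12530 : N837 = N154 := eqc rfl L12529 rfl
theorem L12534 : sm gb N154 = N957 := trf L12530 L4746 rfl
theorem L12535 : N957 = N296 := eqe L12534 L1499
theorem L12536 : N957 = N296 := eqc rfl L12535 rfl
theorem L12541 : sm gf N154 = N1647 := trf L12530 L8374 rfl
theorem L12542 : N1647 = N147 := eqe L12541 L828
theorem L12543 : N1647 = N147 := eqc rfl L12542 rfl
theorem L12552 : sm gg N147 = N1613 := trf L12543 L8381 rfl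
theorem L12553 : N1613 = N80 := eqe L12552 L795
theorem L12554 : N1613 = N80 := eqc rfl L12553 rfl
theorem L12562 : sm gf N80 = N836 := trf L12554 L8218 rfl
theorem L12563 : N836 = N146 := eqe L12562 L787
theorem L12564 : N836 = N146 := eqc rfl L12563 rfl
theorem L12571 : sm ge N146 = N406 := trf L12564 L4079 rfl
theorem L12572 : N406 = N81 := eqe L12571 L792
theorem L12573 : N406 = N81 := eqc rfl L12572 rfl
theorem L12584 : sm gg N81 = N839 := trf L12573 L4088 rfl
theorem L12585 : N839 = N88 := eqe L12584 L498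
theorem L12586 : N839 = N88 := eqc rfl L12585 rfl
theorem L12596 : sm gf N88 = N824 := trf L12586 L4093 rfl
theorem L12597 : N824 = N50 := eqe L12596 L493
theorem L12598 : N824 = N50 := eqc rfl L12597 rfl
theorem L12608 : sm gg N50 = N397 := trf L12598 L4020 rfl
theorem L12609 : N397 = N26 := eqe L12608 L297
theorem L12610 : N397 = N26 := eqc rfl L12609 rfl
theorem L12616 : sm gd N26 = N814 := trf L12610 L3964 rfl
theorem L12617 : N814 = N45 := eqe L12616 L277
theorem L12618 : N814 = N45 := eqc rfl L12617 rfl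
theorem L12633 : sm gf N45 = N402 := trf L12618 L3965 rfl
theorem L12634 : N402 = N76 := eqe L12633 L435
theorem L12635 : N402 = N76 := eqc rfl L12634 rfl
theorem L12644 : sm gg N76 = N832 := trf L12635 L4056 rfl
theorem L12645 : N832 = N137 := eqe L12644 L747
theorem L12646 : N832 = N137 := eqc rfl L12645 rfl
theorem L12655 : sm ge N137 = N1631 := trf L12646 L8300 rfl
theorem L12656 : N1631 = N255 := eqe L12655 L1322
theorem L12657 : N1631 = N255 := eqc rfl L12656 rfl
theorem L12664 : sm gb N255 = N1815 := trf L12657 L9222 rfl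
theorem L12665 : N1815 = N508 := eqe L12664 L2530
theorem L12666 : N1815 = N508 := eqc rfl L12665 rfl
theorem L12669 : sm gg N508 = N918 := trf L12666 L9218 rfl
theorem L12670 : N918 = N783 := eqe L12669 L3800
theorem L12671 : N918 = N783 := eqc rfl L12670 rfl
theorem L12678 : sm gc N783 = N1814 := trf L12671 L9211 rfl
theorem L12679 : N1814 = N1539 := eqe L12678 L7806
theorem L12680 : N1814 = N1539 := eqc rfl L12679 rfl
theorem L12681 : sm gd N783 = N1812 := trf L12671 L9204 rfl
theorem L12682 : N1812 = N1536 := eqe L12681 L7787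
theorem L12683 : N1812 = N1536 := eqc rfl L12682 rfl
theorem L12684 : sm ge N783 = N447 := trf L12671 L4561 rfl
theorem L12685 : N447 = N382 := eqe L12684 L3797
theorem L12686 : N447 = N382 := eqc rfl L12685 rfl
theorem L12688 : sm ga N382 = N919 := trf L12686 L4563 rfl
theorem L12689 : N919 = N785 := eqe L12688 L3807
theorem L12690 : N919 = N785 := eqc rfl L12689 rfl
theorem L12692 : sm gc N382 = N920 := trf L12686 L4567 rfl
theorem L12693 : N920 = N786 := eqe L12692 L3813
theorem L12694 : N920 = N786 := eqc rfl L12693 rfl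
theorem L12697 : sm gf N382 = N914 := trf L12686 L4532 rfl
theorem L12698 : N914 = N787 := eqe L12697 L3817
theorem L12699 : N914 = N787 := eqc rfl L12698 rfl
theorem L12713 : sm gg N787 = N1807 := trf L12699 L9169 rfl
theorem L12714 : N1807 = N1051 := eqe L12713 L5217
theorem L12715 : N1807 = N1051 := eqc rfl L12714 rfl
theorem L12722 : sm gf N1051 = N1818 := trf L12715 L9238 rfl
theorem L12723 : N1818 = N510 := eqe L12722 L5212
theorem L12724 : N1818 = N510 := eqc rfl L12723 rfl
theorem L12726 : sm gd N510 = N973 := trf L12724 L9235 rfl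
theorem L12727 : N973 = N303 := eqe L12726 L2541
theorem L12728 : N973 = N303 := eqc rfl L12727 rfl
theorem L12730 : sm ga N303 = N474 := trf L12728 L4786 rfl
theorem L12731 : N474 = N159 := eqe L12730 L1530
theorem L12732 : N474 = N159 := eqc rfl L12731 rfl
theorem L12736 : sm gc N303 = N1935 := trf L12728 L9794 rfl
theorem L12737 : N1935 = N619 := eqe L12736 L3016
theorem L12738 : N1935 = N619 := eqc rfl L12737 rfl
theorem L12739 : sm ge N303 = N1896 := trf L12728 L9593 rfl
theorem L12740 : N1896 = N599 := eqe L12739 L2941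
theorem L12741 : N1896 = N599 := eqc rfl L12740 rfl
theorem L12743 : sm gg N303 = N472 := trf L12728 L4785 rfl
theorem L12744 : N472 = N615 := eqe L12743 L3007
theorem L12745 : N615 = N472 := (eqc rfl L12744 rfl).symm
theorem L12747 : sm gc N472 = N1257 := trf L12745 L6365 rfl
theorem L12748 : N1257 = N972 := eqe L12747 L4780
theorem L12749 : N1257 = N972 := eqc rfl L12748 rfl
theorem L12752 : sm ge N472 = N1224 := trf L12745 L6181 rfl
theorem L12753 : N1224 = N955 := eqe L12752 L4734
theorem L12754 : N1224 = N955 := eqc rfl L12753 rfl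
theorem L12755 : sm gf N472 = N623 := trf L12745 L3037 rfl
theorem L12756 : N623 = N967 := eqe L12755 L4768
theorem L12757 : N967 = N623 := (eqc rfl L12756 rfl).symm
theorem L12758 : sm gg N472 = N303 := trf L12745 L3006 rfl
theorem L12759 : sm gg N303 = N472 := flp_g L12758
theorem L12765 : sm gc N623 = N1922 := trf L12757 L9702 rfl
theorem L12766 : N1922 = N1265 := eqe L12765 L6405
theorem L12767 : N1922 = N1265 := eqc rfl L12766 rfl
theorem L12769 : sm ge N623 = N1890 := trf L12757 L9560 rfl
theorem L12770 : N1890 = N1232 := eqe L12769 L6232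
theorem L12771 : N1890 = N1232 := eqc rfl L12770 rfl
theorem L12772 : sm gf N623 = N472 := trf L12757 L4767 rfl
theorem L12774 : sm gg N623 = N976 := trf L12757 L4804 rfl
theorem L12775 : N976 = N305 := eqe L12774 L3034
theorem L12776 : N976 = N305 := eqc rfl L12775 rfl
theorem L12785 : sm ge N305 = N1899 := trf L12776 L9612 rfl
theorem L12786 : N1899 = N601 := eqe L12785 L2950
theorem L12787 : N1899 = N601 := eqc rfl L12786 rfl
theorem L12789 : sm ga N601 = N1892 := trf L12787 L9609 rfl
theorem L12790 : N1892 = N1229 := eqe L12789 L6213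
theorem L12791 : N1892 = N1229 := eqc rfl L12790 rfl
theorem L12796 : sm gg N1229 = N953 := trf L12791 L9571 rfl
theorem L12797 : N953 = N1226 := eqe L12796 L6217
theorem L12798 : N1226 = N953 := (eqc rfl L12797 rfl).symm
theorem L12805 : sm gf N953 = N598 := trf L12798 L6191 rfl
theorem L12806 : N598 = N464 := eqe L12805 L4720
theorem L12807 : N598 = N464 := eqc rfl L12806 rfl
theorem L12808 : sm gg N953 = N1229 := trf L12798 L6216 rfl
theorem L12812 : sm gc N464 = N1225 := trf L12807 L6184 rfl
theorem L12813 : N1225 = N956 := eqe L12812 L4735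
theorem L12814 : N1225 = N956 := eqc rfl L12813 rfl
theorem L12826 : sm ge N956 = N616 := trf L12814 L6186 rfl
theorem L12827 : N616 = N473 := eqe L12826 L4737
theorem L12828 : N616 = N473 := eqc rfl L12827 rfl
theorem L12829 : sm gg N956 = N600 := trf L12814 L6188 rfl
theorem L12830 : N600 = N1898 := eqe L12829 L9600
theorem L12831 : N1898 = N600 := (eqc rfl L12830 rfl).symm
theorem L12834 : sm ge N600 = N975 := trf L12831 L9604 rfl
theorem L12835 : N975 = N304 := eqe L12834 L2944
theorem L12836 : N975 = N304 := eqc rfl L12835 rfl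
theorem L12837 : sm gg N600 = N956 := trf L12831 L9601 rfl
theorem L12838 : sm gg N956 = N600 := flp_g L12837
theorem L12842 : sm gd N304 = N1939 := trf L12836 L9809 rfl
theorem L12843 : N1939 = N621 := eqe L12842 L3026
theorem L12844 : N1939 = N621 := eqc rfl L12843 rfl
theorem L12849 : sm gg N621 = N974 := trf L12844 L9807 rfl
theorem L12850 : N974 = N1258 := eqe L12849 L6374
theorem L12851 : N1258 = N974 := (eqc rfl L12850 rfl).symm
theorem L12853 : sm gg N974 = N621 := trf L12851 L6373 rfl
theorem L12854 : sm gg N621 = N974 := flp_g L12853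
theorem L12856 : sm gb N473 = N1255 := trf L12828 L6362 rfl
theorem L12857 : N1255 = N241 := eqe L12856 L2345
theorem L12858 : N1255 = N241 := eqc rfl L12857 rfl
theorem L12863 : sm gg N473 = N304 := trf L12828 L3010 rfl
theorem L12864 : sm gg N304 = N473 := flp_g L12863
theorem L12876 : sm gc N241 = N614 := trf L12858 L6359 rfl
theorem L12877 : N614 = N129 := eqe L12876 L1252
theorem L12878 : N614 = N129 := eqc rfl L12877 rfl
theorem L12890 : sm gf N129 = N1256 := trf L12878 L6363 rfl
theorem L12891 : N1256 = N129 := eqe L12890 L709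
theorem L12892 : N1256 = N129 := eqc rfl L12891 rfl
theorem L12894 : sm gb N129 = N1365 := trf L12892 L6893 rfl
theorem L12895 : N1365 = N72 := eqe L12894 L706
theorem L12896 : N1365 = N72 := eqc rfl L12895 rfl
theorem L12900 : sm gf N72 = N675 := trf L12896 L6891 rfl
theorem L12901 : N675 = N43 := eqe L12900 L413
theorem L12902 : N675 = N43 := eqc rfl L12901 rfl
theorem L12916 : sm gg N43 = N1357 := trf L12902 L6849 rfl
theorem L12917 : N1357 = N21 := eqe L12916 L259
theorem L12918 : N1357 = N21 := eqc rfl L12917 rfl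
theorem L12922 : sm gb N21 = N671 := trf L12918 L6847 rfl
theorem L12923 : N671 = N13 := eqe L12922 L123
theorem L12924 : N671 = N13 := eqc rfl L12923 rfl
theorem L12925 : sm gc N21 = N1581 := trf L12918 L8047 rfl
theorem L12926 : N1581 = N40 := eqe L12925 L247
theorem L12927 : N1581 = N40 := eqc rfl L12926 rfl
theorem L12928 : sm ga N40 = N806 := trf L12927 L8044 rfl
theorem L12946 : sm gg N13 = N326 := trf L12924 L3244 rfl
theorem L12947 : N326 = N13 := eqe L12946 L86
theorem L12948 : N326 = N13 := eqc rfl L12947 rfl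
theorem L12964 : sm gf N13 = N670 := trf L12948 L3241 rfl
theorem L12965 : N670 = N19 := eqe L12964 L115
theorem L12966 : N670 = N19 := eqc rfl L12965 rfl
theorem L12982 : sm gg N19 = N1356 := trf L12966 L6842 rfl
theorem L12983 : N1356 = N16 := eqe L12982 L116
theorem L12984 : N1356 = N16 := eqc rfl L12983 rfl
theorem L12986 : sm gc N16 = N1917 := trf L12984 L9682 rfl
theorem L12987 : N1917 = N28 := eqe L12986 L156
theorem L12988 : N1917 = N28 := eqc rfl L12987 rfl
theorem L12993 : sm gf N28 = N965 := trf L12988 L9678 rfl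
theorem L12994 : N965 = N14 := eqe L12993 L154
theorem L12995 : N965 = N14 := eqc rfl L12994 rfl
theorem L13008 : sm gg N14 = N468 := trf L12995 L4762 rfl
theorem L13009 : N468 = N14 := eqe L13008 L89
theorem L13010 : N468 = N14 := eqc rfl L13009 rfl
theorem L13022 : sm gf N14 = N964 := trf L13010 L4759 rfl
theorem L13023 : N964 = N28 := eqe L13022 L153
theorem L13024 : N964 = N28 := eqc rfl L13023 rfl
theorem L13026 : sm gb N28 = N1915 := trf L13024 L9667 rfl
theorem L13027 : N1915 = N53 := eqe L13026 L309
theorem L13028 : N1915 = N53 := eqc rfl L13027 rfl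
theorem L13039 : sm gf N53 = N966 := trf L13028 L9669 rfl
theorem L13040 : N966 = N86 := eqe L13039 L486
theorem L13041 : N966 = N86 := eqc rfl L13040 rfl
theorem L13057 : sm gg N86 = N1920 := trf L13041 L9690 rfl
theorem L13058 : N1920 = N127 := eqe L13057 L12183
theorem L13059 : N1920 = N127 := eqc rfl L13058 rfl
theorem L13060 : sm gb N127 = N1787 := trf L13059 L9692 rfl
theorem L13061 : N1787 = N239 := eqe L13060 L1241
theorem L13062 : N1787 = N239 := eqc rfl L13061 rfl
theorem L13069 : sm gg N239 = N905 := trf L13062 L9072 rfl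
theorem L13070 : N905 = N474 := eqe L13069 L2347
theorem L13071 : N905 = N159 := eqc rfl L13070 L12732
theorem L13087 : sm gf N159 = N441 := trf L13071 L4489 rfl
theorem L13088 : N441 = N305 := eqe L13087 L1534
theorem L13089 : N441 = N305 := eqc rfl L13088 rfl
theorem L13095 : sm gc N305 = N907 := trf L13089 L4493 rfl
theorem L13096 : N907 = N622 := eqe L13095 L3032
theorem L13097 : N907 = N622 := eqc rfl L13096 rfl
theorem L13099 : sm ge N305 = N898 := trf L13089 L4468 rfl
theorem L13100 : N898 = N601 := eqe L13099 L2950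
theorem L13101 : N898 = N601 := eqc rfl L13100 rfl
theorem L13102 : sm gg N305 = N908 := trf L13089 L4497 rfl
theorem L13103 : N908 = N623 := eqe L13102 L3033
theorem L13104 : N908 = N623 := eqc rfl L13103 rfl
theorem L13110 : sm gc N623 = N1792 := trf L13104 L9092 rfl
theorem L13111 : N1792 = N1265 := eqe L13110 L6405
theorem L13112 : N1792 = N1265 := eqc rfl L13111 rfl
theorem L13131 : sm gb N1265 = N972 := trf L13112 L9093 L12749
theorem L13132 : sm gb N972 = N1265 := flp_b L13131
theorem L13133 : N1265 = N1933 := eqe L13132 L9777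
theorem L13134 : N1933 = N1265 := (eqc rfl L13133 rfl).symm
theorem L13138 : sm gb N1265 = N972 := trf L13134 L9778 rfl
theorem L13139 : sm gb N972 = N1265 := flp_b L13138
theorem L13143 : sm gf N1265 = N1166 := trf L13134 L9781 rfl
theorem L13144 : N1166 = N1257 := eqe L13143 L6407
theorem L13145 : N1166 = N972 := eqc rfl L13144 L12749
theorem L13146 : sm gb N972 = N567 := trf L13145 L5918 rfl
theorem L13147 : N567 = N1265 := eqe L13146 L13139
theorem L13148 : N1265 = N567 := (eqc rfl L13147 rfl).symm
theorem L13152 : sm gb N567 = N972 := trf L13148 L13138 rfl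
theorem L13153 : sm gb N972 = N567 := flp_b L13152
theorem L13154 : sm gc N567 = N623 := trf L13148 L6404 rfl
theorem L13155 : N623 = N280 := eqe L13154 L2793
theorem L13156 : N623 = N280 := eqc rfl L13155 rfl
theorem L13160 : sm gg N567 = N622 := trf L13148 L6401 rfl
theorem L13161 : N622 = N1168 := eqe L13160 L5923
theorem L13162 : N1168 = N622 := (eqc rfl L13161 rfl).symm
theorem L13163 : sm ga N622 = N570 := trf L13162 L5925 rfl
theorem L13164 : N570 = N1261 := eqe L13163 L6386
theorem L13165 : N1261 = N570 := (eqc rfl L13164 rfl).symm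
theorem L13166 : N568 = N305 := L11319.trans L13089
theorem L13168 : sm gf N622 = N1131 := trf L13162 L5929 rfl
theorem L13169 : N1131 = N304 := eqe L13168 L3030
theorem L13170 : N1131 = N304 := eqc rfl L13169 rfl
theorem L13171 : sm gg N622 = N567 := trf L13162 L5924 rfl
theorem L13172 : sm gg N567 = N622 := flp_g L13171
theorem L13179 : sm gg N304 = N547 := trf L13170 L5730 rfl
theorem L13180 : N547 = N473 := eqe L13179 L12864
theorem L13181 : N547 = N473 := eqc rfl L13180 rfl
theorem L13186 : sm gc N473 = N271 := trf L13181 L2717 rfl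
theorem L13187 : N271 = N239 := eqe L13186 L2344
theorem L13188 : N271 = N239 := eqc rfl L13187 rfl
theorem L13189 : sm gd N473 = N1130 := trf L13181 L5723 rfl
theorem L13190 : N1130 = N974 := eqe L13189 L4790
theorem L13191 : N1130 = N974 := eqc rfl L13190 rfl
theorem L13192 : sm ge N473 = N1121 := trf L13181 L5581 rfl
theorem L13193 : N1121 = N956 := eqe L13192 L4738
theorem L13194 : N1121 = N956 := eqc rfl L13193 rfl
theorem L13195 : sm gf N473 = N281 := trf L13181 L2718 rfl
theorem L13196 : N281 = N968 := eqe L13195 L4772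
theorem L13197 : N968 = N281 := (eqc rfl L13196 rfl).symm
theorem L13198 : N1922 = N567 := L12767.trans L13148
theorem L13207 : sm ge N281 = N1891 := trf L13197 L9566 rfl
theorem L13208 : N1891 = N561 := eqe L13207 L2771
theorem L13209 : N1891 = N561 := eqc rfl L13208 rfl
theorem L13210 : sm gf N281 = N473 := trf L13197 L4771 rfl
theorem L13211 : sm gf N473 = N281 := flp_f L13210
theorem L13214 : sm gc N561 = N953 := trf L13209 L9564 rfl
theorem L13215 : N953 = N278 := eqe L13214 L2769
theorem L13216 : N953 = N278 := eqc rfl L13215 rfl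
theorem L13219 : sm ga N278 = N1232 := trf L13216 L9557 L12771
theorem L13220 : N1232 = N560 := eqe L13219 L2764
theorem L13221 : N1232 = N560 := eqc rfl L13220 rfl
theorem L13225 : sm gd N278 = N1876 := trf L13216 L9498 rfl
theorem L13226 : N1876 = N558 := eqe L13225 L2759
theorem L13227 : N1876 = N558 := eqc rfl L13226 rfl
theorem L13229 : sm gf N278 = N464 := trf L13216 L4720 rfl
theorem L13230 : N464 = N542 := eqe L13229 L2689
theorem L13231 : N542 = N464 := (eqc rfl L13230 rfl).symm
theorem L13232 : sm gg N278 = N1229 := trf L13216 L12808 rfl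
theorem L13233 : N1229 = N562 := eqe L13232 L2773
theorem L13234 : N1229 = N562 := eqc rfl L13233 rfl
theorem L13235 : sm ga N562 = N601 := trf L13234 L6212 rfl
theorem L13236 : N601 = N1153 := eqe L13235 L5820
theorem L13237 : N1153 = N601 := (eqc rfl L13236 rfl).symm
theorem L13238 : sm gb N562 = N2061 := trf L13234 L10554 rfl
theorem L13239 : N2061 = N604 := eqe L13238 L2969
theorem L13240 : N2061 = N604 := eqc rfl L13239 rfl
theorem L13241 : sm ge N562 = N620 := trf L13234 L6214 rfl
theorem L13242 : N620 = N282 := eqe L13241 L2775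
theorem L13243 : N620 = N282 := eqc rfl L13242 rfl
theorem L13244 : sm gf N562 = N599 := trf L13234 L6211 rfl
theorem L13245 : N599 = N1156 := eqe L13244 L5834
theorem L13246 : N1156 = N599 := (eqc rfl L13245 rfl).symm
theorem L13250 : sm gb N599 = N1043 := trf L13246 L5843 rfl
theorem L13251 : N1043 = N1227 := eqe L13250 L6194
theorem L13252 : N1227 = N1043 := (eqc rfl L13251 rfl).symm
theorem L13253 : sm ge N599 = N571 := trf L13246 L5838 rfl
theorem L13254 : N571 = N303 := eqe L13253 L2940
theorem L13255 : N571 = N303 := eqc rfl L13254 rfl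
theorem L13256 : sm gf N599 = N562 := trf L13246 L5835 rfl
theorem L13257 : sm gf N562 = N599 := flp_f L13256
theorem L13258 : sm gg N599 = N1120 := trf L13246 L5840 rfl
theorem L13259 : N1120 = N1224 := eqe L13258 L6183
theorem L13260 : N1120 = N955 := eqc rfl L13259 L12754
theorem L13262 : sm ge N955 = N546 := trf L13260 L5574 rfl
theorem L13263 : N546 = N472 := eqe L13262 L4733
theorem L13264 : N546 = N472 := eqc rfl L13263 rfl
theorem L13267 : N1890 = N560 := L12771.trans L13221
theorem L13273 : sm gd N472 = N497 := trf L13264 L2712 rfl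
theorem L13274 : N497 = N919 := eqe L13273 L4566
theorem L13275 : N785 = N497 := (eqc rfl L13274 L12690).symm
theorem L13279 : sm ga N497 = N382 := trf L13275 L3808 rfl
theorem L13280 : N382 = N487 := eqe L13279 L2476
theorem L13281 : N487 = N382 := (eqc rfl L13280 rfl).symm
theorem L13289 : sm ge N497 = N1538 := trf L13275 L7803 rfl
theorem L13290 : N1538 = N1015 := eqe L13289 L5009
theorem L13291 : N1538 = N1015 := eqc rfl L13290 rfl
theorem L13292 : sm gf N497 = N1054 := trf L13275 L5252 rfl
theorem L13293 : N1054 = N496 := eqe L13292 L2473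
theorem L13294 : N1054 = N496 := eqc rfl L13293 rfl
theorem L13295 : sm gg N497 = N510 := trf L13275 L3811 rfl
theorem L13296 : N510 = N618 := eqe L13295 L5239
theorem L13297 : N618 = N510 := (eqc rfl L13296 rfl).symm
theorem L13303 : sm gc N510 = N498 := trf L13297 L5232 rfl
theorem L13304 : N498 = N1050 := eqe L13303 L5207
theorem L13305 : N1050 = N498 := (eqc rfl L13304 rfl).symm
theorem L13308 : sm gf N510 = N498 := trf L13297 L5236 rfl
theorem L13309 : N498 = N1051 := eqe L13308 L5211
theorem L13310 : N1051 = N498 := (eqc rfl L13309 rfl).symm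
theorem L13311 : sm gg N510 = N497 := trf L13297 L5238 rfl
theorem L13312 : sm gg N497 = N510 := flp_g L13311
theorem L13313 : sm ga N498 = N512 := trf L13310 L5213 rfl
theorem L13314 : N512 = N1021 := eqe L13313 L5037
theorem L13315 : N1021 = N512 := (eqc rfl L13314 rfl).symm
theorem L13316 : sm gb N498 = N626 := trf L13310 L5220 rfl
theorem L13317 : N626 = N515 := eqe L13316 L2564
theorem L13318 : N626 = N515 := eqc rfl L13317 rfl
theorem L13325 : sm gf N498 = N510 := trf L13310 L5212 rfl
theorem L13326 : sm gf N510 = N498 := flp_f L13325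
theorem L13327 : sm gg N498 = N787 := trf L13310 L5218 rfl
theorem L13328 : N787 = N250 := eqe L13327 L2479
theorem L13329 : N787 = N250 := eqc rfl L13328 rfl
theorem L13339 : sm ge N250 = N1540 := trf L13329 L7815 rfl
theorem L13340 : N1540 = N494 := eqe L13339 L2461
theorem L13341 : N1540 = N494 := eqc rfl L13340 rfl
theorem L13347 : sm gf N494 = N783 := trf L13341 L7813 rfl
theorem L13348 : N783 = N998 := eqe L13347 L4913
theorem L13349 : N998 = N783 := (eqc rfl L13348 rfl).symm
theorem L13355 : sm gc N783 = N1014 := trf L13349 L5002 rfl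
theorem L13356 : N1014 = N1539 := eqe L13355 L7806
theorem L13357 : N1539 = N1014 := (eqc rfl L13356 rfl).symm
theorem L13358 : sm gd N783 = N1978 := trf L13349 L10033 rfl
theorem L13359 : N1978 = N1536 := eqe L13358 L7787
theorem L13360 : N1978 = N1536 := eqc rfl L13359 rfl
theorem L13362 : sm gf N783 = N494 := trf L13349 L4912 rfl
theorem L13363 : sm gf N494 = N783 := flp_f L13362
theorem L13364 : sm gg N783 = N1982 := trf L13349 L10064 rfl
theorem L13365 : N1982 = N508 := eqe L13364 L3799
theorem L13366 : N1982 = N508 := eqc rfl L13365 rfl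
theorem L13368 : sm gc N508 = N2006 := trf L13366 L10215 rfl
theorem L13369 : N2006 = N1044 := eqe L13368 L5177
theorem L13370 : N2006 = N1044 := eqc rfl L13369 rfl
theorem L13372 : sm gf N508 = N1044 := trf L13366 L10218 L13370
theorem L13373 : N1044 = N1045 := eqe L13372 L5181
theorem L13374 : N1045 = N1044 := (eqc rfl L13373 rfl).symm
theorem L13378 : sm gb N1044 = N877 := trf L13374 L5185 L11276
theorem L13379 : N877 = N1761 := eqe L13378 L8966
theorem L13380 : N1761 = N877 := (eqc rfl L13379 rfl).symm
theorem L13381 : sm gc N1044 = N2057 := trf L13374 L10519 rfl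
theorem L13382 : N2057 = N508 := eqe L13381 L5178
theorem L13383 : N2057 = N508 := eqc rfl L13382 rfl
theorem L13384 : sm gd N1044 = N2050 := trf L13374 L10473 rfl
theorem L13385 : N2050 = N2056 := eqe L13384 L10514
theorem L13386 : N2056 = N2050 := (eqc rfl L13385 rfl).symm
theorem L13387 : sm ge N1044 = N512 := trf L13374 L5183 rfl
theorem L13388 : N512 = N511 := eqe L13387 L5179
theorem L13389 : N512 = N511 := eqc rfl L13388 rfl
theorem L13394 : sm gc N511 = N1053 := trf L13389 L5245 rfl
theorem L13395 : N1053 = N257 := eqe L13394 L2544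
theorem L13396 : N1053 = N257 := eqc rfl L13395 rfl
theorem L13397 : sm gd N511 = N305 := trf L13389 L2547 rfl
theorem L13398 : N305 = N1052 := eqe L13397 L5240
theorem L13399 : N1052 = N305 := (eqc rfl L13398 rfl).symm
theorem L13402 : sm gg N511 = N496 := trf L13389 L5246 L13294
theorem L13403 : N496 = N786 := eqe L13402 L3816
theorem L13404 : N786 = N496 := (eqc rfl L13403 rfl).symm
theorem L13406 : sm gb N496 = N1466 := trf L13404 L7419 rfl
theorem L13407 : N1466 = N1020 := eqe L13406 L5028
theorem L13408 : N1466 = N1020 := eqc rfl L13407 rfl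
theorem L13418 : N1021 = N511 := L13315.trans L13389
theorem L13421 : sm gc N1020 = N228 := trf L13408 L7417 L12098
theorem L13422 : N228 = N991 := eqe L13421 L5032
theorem L13423 : N991 = N228 := (eqc rfl L13422 rfl).symm
theorem L13429 : sm gc N228 = N1020 := trf L13423 L5033 rfl
theorem L13430 : N1020 = N452 := eqe L13429 L2249
theorem L13431 : N1020 = N452 := eqc rfl L13430 rfl
theorem L13439 : sm gg N228 = N1968 := trf L13423 L9970 rfl
theorem L13440 : N1968 = N453 := eqe L13439 L2251
theorem L13441 : N1968 = N453 := eqc rfl L13440 rfl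
theorem L13448 : N1079 = N365 := L11254.trans L11526
theorem L13449 : sm gc N453 = N365 := trf L13441 L9974 L13448
theorem L13450 : N365 = N933 := eqe L13449 L4628
theorem L13451 : N933 = N365 := (eqc rfl L13450 rfl).symm
theorem L13458 : sm gc N365 = N453 := trf L13451 L4627 rfl
theorem L13459 : N453 = N235 := eqe L13458 L1802
theorem L13460 : N453 = N235 := eqc rfl L13459 rfl
theorem L13463 : sm ge N365 = N1835 := trf L13451 L9320 rfl
theorem L13464 : N1835 = N746 := eqe L13463 L3604
theorem L13465 : N1835 = N746 := eqc rfl L13464 rfl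
theorem L13469 : sm gg N365 = N452 := trf L13451 L4626 rfl
theorem L13470 : N452 = N749 := eqe L13469 L3615
theorem L13471 : N749 = N452 := (eqc rfl L13470 rfl).symm
theorem L13472 : sm ga N452 = N366 := trf L13471 L3617 rfl
theorem L13473 : N366 = N930 := eqe L13472 L4614
theorem L13474 : N930 = N366 := (eqc rfl L13473 rfl).symm
theorem L13477 : N920 = N496 := L12694.trans L13404
theorem L13479 : sm gc N452 = N466 := trf L13471 L3619 rfl
theorem L13480 : N466 = N228 := eqe L13479 L2250
theorem L13481 : N466 = N228 := eqc rfl L13480 rfl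
theorem L13482 : sm ge N452 = N1492 := trf L13471 L7531 rfl
theorem L13483 : N1492 = N927 := eqe L13482 L4602
theorem L13484 : N1492 = N927 := eqc rfl L13483 rfl
theorem L13485 : sm gf N452 = N734 := trf L13471 L3621 rfl
theorem L13486 : N734 = N879 := eqe L13485 L4376
theorem L13487 : N879 = N734 := (eqc rfl L13486 rfl).symm
theorem L13488 : sm gg N452 = N365 := trf L13471 L3616 rfl
theorem L13489 : sm gg N365 = N452 := flp_g L13488
theorem L13496 : sm gc N734 = N425 := trf L13487 L4374 rfl
theorem L13497 : N425 = N437 := eqe L13496 L3553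
theorem L13498 : N437 = N425 := (eqc rfl L13497 rfl).symm
theorem L13499 : sm gd N734 = N1728 := trf L13487 L8817 rfl
theorem L13501 : sm ge N734 = N1720 := trf L13487 L8782 rfl
theorem L13502 : N1720 = N1460 := eqe L13501 L7399
theorem L13503 : N1720 = N1460 := eqc rfl L13502 rfl
theorem L13504 : sm gf N734 = N452 := trf L13487 L4375 rfl
theorem L13506 : sm gg N734 = N1729 := trf L13487 L8821 rfl
theorem L13507 : N1729 = N356 := eqe L13506 L3552
theorem L13508 : N1729 = N356 := eqc rfl L13507 rfl
theorem L13511 : sm gc N356 = N880 := trf L13508 L8823 rfl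
theorem L13512 : N880 = N219 := eqe L13511 L1754
theorem L13513 : N880 = N219 := eqc rfl L13512 rfl
theorem L13515 : sm ga N219 = N934 := trf L13513 L4632 rfl
theorem L13516 : N934 = N436 := eqe L13515 L2179
theorem L13517 : N934 = N436 := eqc rfl L13516 rfl
theorem L13522 : sm ge N219 = N1721 := trf L13513 L8788 rfl
theorem L13523 : N1721 = N432 := eqe L13522 L2151
theorem L13524 : N1721 = N432 := eqc rfl L13523 rfl
theorem L13525 : sm gf N219 = N931 := trf L13513 L4622 rfl
theorem L13526 : N931 = N125 := eqe L13525 L1145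
theorem L13527 : N931 = N125 := eqc rfl L13526 rfl
theorem L13539 : sm gg N125 = N451 := trf L13527 L4616 rfl
theorem L13540 : N451 = N236 := eqe L13539 L1233
theorem L13541 : N451 = N236 := eqc rfl L13540 rfl
theorem L13544 : sm gb N236 = N929 := trf L13541 L4607 rfl
theorem L13545 : N929 = N366 := eqe L13544 L1809
theorem L13546 : N929 = N366 := eqc rfl L13545 rfl
theorem L13550 : sm ge N236 = N926 := trf L13541 L4598 rfl
theorem L13551 : N926 = N461 := eqe L13550 L2292
theorem L13552 : N926 = N461 := eqc rfl L13551 rfl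
theorem L13553 : sm gf N236 = N878 := trf L13541 L4372 rfl
theorem L13554 : N878 = N467 := eqe L13553 L2315
theorem L13555 : N878 = N467 := eqc rfl L13554 rfl
theorem L13560 : N963 = N472 := L11596.trans L12745
theorem L13565 : sm ge N467 = N1719 := trf L13555 L8776 rfl
theorem L13566 : N1719 = N950 := eqe L13565 L4700
theorem L13567 : N1719 = N950 := eqc rfl L13566 rfl
theorem L13569 : sm ga N950 = N874 := trf L13567 L8774 rfl
theorem L13570 : N874 = N894 := eqe L13569 L4697
theorem L13571 : N894 = N874 := (eqc rfl L13570 rfl).symm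
theorem L13573 : sm gg N950 = N1836 := trf L13567 L9328 rfl
theorem L13574 : N1836 = N893 := eqe L13573 L4701
theorem L13575 : N1836 = N893 := eqc rfl L13574 rfl
theorem L13578 : sm gf N893 = N928 := trf L13575 L9322 rfl
theorem L13579 : N928 = N460 := eqe L13578 L4443
theorem L13580 : N928 = N460 := eqc rfl L13579 rfl
theorem L13583 : sm gb N460 = N1460 := trf L13580 L11776 rfl
theorem L13584 : N1460 = N948 := eqe L13583 L4683
theorem L13585 : N1460 = N948 := eqc rfl L13584 rfl
theorem L13587 : sm gd N460 = N1830 := trf L13580 L9292 rfl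
theorem L13588 : N1830 = N941 := eqe L13587 L4662
theorem L13589 : N1830 = N941 := eqc rfl L13588 rfl
theorem L13591 : sm gg N460 = N450 := trf L13580 L4604 rfl
theorem L13592 : N450 = N949 := eqe L13591 L4687
theorem L13593 : N949 = N450 := (eqc rfl L13592 rfl).symm
theorem L13596 : sm gb N450 = N1885 := trf L13593 L9537 rfl
theorem L13597 : N1885 = N227 := eqe L13596 L2242
theorem L13598 : N1885 = N227 := eqc rfl L13597 rfl
theorem L13600 : sm gd N450 = N1867 := trf L13593 L9456 rfl
theorem L13601 : N1867 = N925 := eqe L13600 L4592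
theorem L13602 : N1867 = N925 := eqc rfl L13601 rfl
theorem L13605 : sm gg N450 = N460 := trf L13593 L4688 rfl
theorem L13606 : sm gg N460 = N450 := flp_g L13605
theorem L13607 : sm ga N925 = N943 := trf L13602 L9453 rfl
theorem L13608 : N943 = N1828 := eqe L13607 L9279
theorem L13609 : N1828 = N943 := (eqc rfl L13608 rfl).symm
theorem L13610 : sm gf N925 = N1752 := trf L13602 L9457 rfl
theorem L13611 : N1752 = N1715 := eqe L13610 L8746
theorem L13612 : N1752 = N1715 := eqc rfl L13611 rfl
theorem L13615 : sm ga N1715 = N1870 := trf L13612 L9468 rfl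
theorem L13616 : sm ga N1870 = N1715 := flp_a L13615
theorem L13618 : sm gg N1715 = N889 := trf L13612 L8922 rfl
theorem L13619 : sm gg N889 = N1715 := flp_g L13618
theorem L13620 : sm ga N943 = N925 := trf L13609 L9280 rfl
theorem L13621 : sm ga N925 = N943 := flp_a L13620
theorem L13625 : sm ge N227 = N962 := trf L13598 L9539 rfl
theorem L13626 : N962 = N121 := eqe L13625 L1194
theorem L13627 : N962 = N121 := eqc rfl L13626 rfl
theorem L13639 : sm gg N121 = N1907 := trf L13627 L9644 rfl
theorem L13640 : N1907 = N181 := eqe L13639 L12112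
theorem L13641 : N1907 = N181 := eqc rfl L13640 rfl
theorem L13642 : sm gb N181 = N961 := trf L13641 L9642 rfl
theorem L13643 : N961 = N356 := eqe L13642 L1752
theorem L13644 : N961 = N356 := eqc rfl L13643 rfl
theorem L13659 : sm gg N356 = N465 := trf L13644 L4754 rfl
theorem L13660 : N465 = N734 := eqe L13659 L3551
theorem L13661 : N734 = N465 := (eqc rfl L13660 rfl).symm
theorem L13662 : sm ga N465 = N750 := trf L13661 L3626 rfl
theorem L13663 : N750 = N958 := eqe L13662 L4747
theorem L13664 : N958 = N750 := (eqc rfl L13663 rfl).symm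
theorem L13668 : sm gc N465 = N425 := trf L13661 L3553 L13498
theorem L13669 : N425 = N959 := eqe L13668 L4749
theorem L13670 : N959 = N425 := (eqc rfl L13669 rfl).symm
theorem L13671 : sm gd N465 = N1728 := trf L13661 L13499 rfl
theorem L13672 : N1728 = N929 := eqe L13671 L4610
theorem L13673 : N1728 = N366 := eqc rfl L13672 L13546
theorem L13675 : sm gf N465 = N452 := trf L13661 L13504 rfl
theorem L13676 : N452 = N960 := eqe L13675 L4751
theorem L13677 : N960 = N452 := (eqc rfl L13676 rfl).symm
theorem L13678 : sm gg N465 = N356 := trf L13661 L3552 rfl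
theorem L13679 : sm gg N356 = N465 := flp_g L13678
theorem L13680 : sm ga N452 = N1901 := trf L13677 L9622 rfl
theorem L13681 : N1901 = N930 := eqe L13680 L4614
theorem L13682 : N1901 = N366 := eqc rfl L13681 L13474
theorem L13695 : sm gf N452 = N465 := trf L13677 L4752 rfl
theorem L13696 : sm gf N465 = N452 := flp_f L13695
theorem L13705 : N1720 = N948 := L13503.trans L13585
theorem L13727 : sm gc N366 = N1931 := trf L13682 L9742 rfl
theorem L13728 : N1931 = N236 := eqe L13727 L1806
theorem L13729 : N1931 = N236 := eqc rfl L13728 rfl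
theorem L13734 : sm gb N236 = N1520 := trf L13729 L9740 rfl
theorem L13735 : N1520 = N366 := eqe L13734 L1809
theorem L13736 : N1520 = N366 := eqc rfl L13735 rfl
theorem L13746 : sm gg N366 = N1135 := trf L13736 L7694 rfl
theorem L13747 : N1135 = N187 := eqe L13746 L1805
theorem L13748 : N1135 = N187 := eqc rfl L13747 rfl
theorem L13755 : sm gf N187 = N1969 := trf L13748 L9998 rfl
theorem L13756 : N1969 = N356 := eqe L13755 L1757
theorem L13757 : N1969 = N356 := eqc rfl L13756 rfl
theorem L13760 : sm gc N356 = N1134 := trf L13757 L9994 rfl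
theorem L13761 : N1134 = N219 := eqe L13760 L1754
theorem L13762 : N1134 = N219 := eqc rfl L13761 rfl
theorem L13767 : sm gb N219 = N552 := trf L13762 L5744 rfl
theorem L13768 : N552 = N117 := eqe L13767 L1144
theorem L13769 : N552 = N117 := eqc rfl L13768 rfl
theorem L13798 : sm gg N117 = N574 := trf L13769 L2826 rfl
theorem L13799 : N574 = N220 := eqe L13798 L1147
theorem L13800 : N574 = N220 := eqc rfl L13799 rfl
theorem L13807 : sm ge N220 = N1159 := trf L13800 L5864 rfl
theorem L13808 : N1159 = N433 := eqe L13807 L2159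
theorem L13809 : N1159 = N433 := eqc rfl L13808 rfl
theorem L13810 : sm gf N220 = N283 := trf L13800 L2823 rfl
theorem L13811 : N283 = N212 := eqe L13810 L1152
theorem L13812 : N283 = N212 := eqc rfl L13811 rfl
theorem L13813 : sm ga N212 = N149 := trf L13812 L1442 rfl
theorem L13814 : N149 = N118 := eqe L13813 L1111
theorem L13815 : N149 = N118 := eqc rfl L13814 rfl
theorem L13816 : sm gb N212 = N572 := trf L13812 L2815 rfl
theorem L13817 : N572 = N421 := eqe L13816 L2094
theorem L13818 : N572 = N421 := eqc rfl L13817 rfl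
theorem L13822 : sm gd N212 = N413 := trf L13812 L10995 rfl
theorem L13823 : N413 = N416 := eqe L13822 L2071
theorem L13824 : N416 = N413 := (eqc rfl L13823 rfl).symm
theorem L13825 : sm ge N212 = N563 := trf L13812 L2780 rfl
theorem L13826 : N563 = N419 := eqe L13825 L2091
theorem L13827 : N563 = N419 := eqc rfl L13826 rfl
theorem L13829 : sm ga N419 = N279 := trf L13827 L2778 rfl
theorem L13830 : N279 = N218 := eqe L13829 L2086
theorem L13831 : N279 = N218 := eqc rfl L13830 rfl
theorem L13839 : sm gg N419 = N845 := trf L13827 L5597 L11018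
theorem L13840 : N845 = N210 := eqe L13839 L2085
theorem L13841 : N845 = N210 := eqc rfl L13840 rfl
theorem L13849 : sm gd N210 = N1662 := trf L13841 L8456 rfl
theorem L13850 : N1662 = N417 := eqe L13849 L2072
theorem L13851 : N1662 = N417 := eqc rfl L13850 rfl
theorem L13853 : sm gf N210 = N1162 := trf L13841 L8462 L11037
theorem L13854 : N1162 = N418 := eqe L13853 L2076
theorem L13855 : N1162 = N418 := eqc rfl L13854 rfl
theorem L13864 : sm gg N418 = N565 := trf L13855 L5879 rfl
theorem L13865 : N565 = N435 := eqe L13864 L2178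
theorem L13866 : N565 = N435 := eqc rfl L13865 rfl
theorem L13873 : sm gd N435 = N1150 := trf L13866 L5806 rfl
theorem L13874 : N1150 = N892 := eqe L13873 L4436
theorem L13875 : N1150 = N892 := eqc rfl L13874 rfl
theorem L13878 : sm gb N892 = N1210 := trf L13875 L6115 rfl
theorem L13879 : N1210 = N1757 := eqe L13878 L8943
theorem L13880 : N1757 = N1210 := (eqc rfl L13879 rfl).symm
theorem L13881 : sm ge N892 = N2004 := trf L13875 L10203 rfl
theorem L13882 : N2004 = N1718 := eqe L13881 L8770
theorem L13883 : N2004 = N1718 := eqc rfl L13882 rfl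
theorem L13884 : sm gf N892 = N559 := trf L13875 L5804 rfl
theorem L13885 : N559 = N431 := eqe L13884 L4432
theorem L13886 : N559 = N431 := eqc rfl L13885 rfl
theorem L13888 : sm gb N431 = N277 := trf L13886 L2761 rfl
theorem L13889 : N277 = N891 := eqe L13888 L4425
theorem L13890 : N891 = N277 := (eqc rfl L13889 rfl).symm
theorem L13895 : sm ge N431 = N1013 := trf L13886 L4997 rfl
theorem L13896 : N1013 = N873 := eqe L13895 L4338
theorem L13897 : N1013 = N873 := eqc rfl L13896 rfl
theorem L13898 : sm gg N431 = N1118 := trf L13886 L5563 rfl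
theorem L13899 : N1118 = N216 := eqe L13898 L2145
theorem L13900 : N1118 = N216 := eqc rfl L13899 rfl
theorem L13907 : sm ge N216 = N1657 := trf L13900 L10051 L10929
theorem L13908 : N1657 = N422 := eqe L13907 L2101
theorem L13909 : N1657 = N422 := eqc rfl L13908 rfl
theorem L13910 : sm ga N422 = N848 := trf L13909 L8424 rfl
theorem L13911 : N848 = N855 := eqe L13910 L4183
theorem L13912 : N855 = N848 := (eqc rfl L13911 rfl).symm
theorem L13915 : sm ga N848 = N422 := trf L13912 L4182 rfl
theorem L13916 : sm ga N422 = N848 := flp_a L13915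
theorem L13918 : sm gc N848 = N1682 := trf L13912 L8570 rfl
theorem L13919 : N1682 = N1669 := eqe L13918 L8508
theorem L13920 : N1682 = N1669 := eqc rfl L13919 rfl
theorem L13924 : sm gf N848 = N1683 := trf L13912 L8576 rfl
theorem L13925 : N1683 = N1670 := eqe L13924 L8510
theorem L13926 : N1683 = N1670 := eqc rfl L13925 rfl
theorem L13927 : sm gg N848 = N1684 := trf L13912 L8584 rfl
theorem L13928 : N1684 = N1671 := eqe L13927 L8514
theorem L13929 : N1684 = N1671 := eqc rfl L13928 rfl
theorem L13930 : sm ga N1671 = N873 := trf L13929 L8586 rfl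
theorem L13931 : sm ga N873 = N1671 := flp_a L13930
theorem L13932 : sm gd N1671 = N857 := trf L13929 L8588 rfl
theorem L13933 : N857 = N850 := eqe L13932 L8516
theorem L13934 : N857 = N850 := eqc rfl L13933 rfl
theorem L13935 : sm ge N1671 = N862 := trf L13929 L8590 rfl
theorem L13936 : sm ge N862 = N1671 := flp_e L13935
theorem L13937 : sm gf N1671 = N1716 := trf L13929 L8753 rfl
theorem L13938 : sm gf N1716 = N1671 := flp_f L13937
theorem L13939 : sm ga N850 = N424 := trf L13934 L4196 rfl
theorem L13940 : N424 = N1659 := eqe L13939 L8439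
theorem L13941 : N495 = N424 := (eqc rfl L13940 L10908).symm
theorem L13947 : N1659 = N424 := L10908.trans L13941
theorem L13949 : sm gf N850 = N875 := trf L13934 L4349 rfl
theorem L13950 : N875 = N1675 := eqe L13949 L8540
theorem L13951 : N895 = N875 := (eqc rfl L13950 L11389).symm
theorem L13958 : N1722 = N433 := L11200.trans L13809
theorem L13960 : sm gd N875 = N1753 := trf L13951 L8928 rfl
theorem L13961 : N1753 = N1716 := eqe L13960 L8750
theorem L13962 : N1753 = N1716 := eqc rfl L13961 rfl
theorem L13968 : sm gg N875 = N1759 := trf L13951 L8956 rfl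
theorem L13969 : N1759 = N423 := eqe L13968 L4346
theorem L13970 : N1759 = N423 := eqc rfl L13969 rfl
theorem L13972 : sm ge N423 = N900 := trf L13970 L8953 rfl
theorem L13973 : N900 = N214 := eqe L13972 L2104
theorem L13974 : N900 = N214 := eqc rfl L13973 rfl
theorem L13981 : sm gf N214 = N1774 := trf L13974 L9023 rfl
theorem L13982 : N1774 = N115 := eqe L13981 L1120
theorem L13983 : N1774 = N115 := eqc rfl L13982 rfl
theorem L13989 : sm gg N115 = N1777 := trf L13983 L9035 rfl
theorem L13990 : N1777 = N215 := eqe L13989 L1123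
theorem L13991 : N1777 = N215 := eqc rfl L13990 rfl
theorem L13992 : sm ga N215 = N903 := trf L13991 L9033 rfl
theorem L13993 : N903 = N416 := eqe L13992 L2067
theorem L13994 : N903 = N413 := eqc rfl L13993 L13824
theorem L13995 : sm gf N215 = N901 := trf L13991 L9032 rfl
theorem L13996 : N901 = N428 := eqe L13995 L2128
theorem L13997 : N901 = N428 := eqc rfl L13996 rfl
theorem L13999 : sm gb N428 = N1775 := trf L13997 L9025 rfl
theorem L14000 : N1775 = N884 := eqe L13999 L4395
theorem L14001 : N884 = N511 := L11270.trans L13389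
theorem L14002 : N1775 = N511 := eqc rfl L14000 L14001
theorem L14012 : N881 = N220 := L11211.trans L13800
theorem L14037 : sm gc N511 = N1432 := trf L14002 L9988 rfl
theorem L14038 : N1432 = N257 := eqe L14037 L2544
theorem L14039 : N1432 = N257 := eqc rfl L14038 rfl
theorem L14047 : sm gg N257 = N716 := trf L14039 L7251 rfl
theorem L14048 : N716 = N382 := eqe L14047 L1895
theorem L14049 : N716 = N382 := eqc rfl L14048 rfl
theorem L14056 : sm gd N382 = N1423 := trf L14049 L7209 rfl
theorem L14057 : N1423 = N302 := eqe L14056 L1892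
theorem L14058 : N1423 = N239 := eqc rfl L14057 L12156
theorem L14065 : sm gb N239 = N711 := trf L14058 L7207 rfl
theorem L14066 : N711 = N127 := eqe L14065 L1242
theorem L14067 : N711 = N127 := eqc rfl L14066 rfl
theorem L14077 : sm gf N127 = N79 := trf L14067 L3428 L11442
theorem L14078 : N79 = N69 := eqe L14077 L689
theorem L14079 : N79 = N69 := eqc rfl L14078 rfl
theorem L14080 : sm gg N127 = N726 := trf L14067 L3508 rfl
theorem L14081 : N726 = N86 := eqe L14080 L12184
theorem L14082 : N726 = N86 := eqc rfl L14081 rfl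
theorem L14095 : sm gf N86 = N352 := trf L14082 L3502 rfl
theorem L14096 : N352 = N53 := eqe L14095 L485
theorem L14097 : N352 = N53 := eqc rfl L14096 rfl
theorem L14104 : sm gc N53 = N720 := trf L14097 L3474 rfl
theorem L14105 : N720 = N93 := eqe L14104 L512
theorem L14106 : N720 = N38 := eqc rfl L14105 L12192
theorem L14114 : sm gb N38 = N1439 := trf L14106 L7282 rfl
theorem L14115 : N1439 = N56 := eqe L14114 L329
theorem L14116 : N1439 = N56 := eqc rfl L14115 rfl
theorem L14124 : sm gg N38 = N349 := trf L14106 L3472 rfl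
theorem L14125 : N349 = N33 := eqe L14124 L239
theorem L14126 : N349 = N33 := eqc rfl L14125 rfl
theorem L14140 : sm gf N33 = N719 := trf L14126 L3467 rfl
theorem L14141 : N719 = N59 := eqe L14140 L337
theorem L14142 : N719 = N59 := eqc rfl L14141 rfl
theorem L14154 : sm gg N59 = N1438 := trf L14142 L7274 rfl
theorem L14155 : N1438 = N42 := eqe L14154 L342
theorem L14156 : N1438 = N42 := eqc rfl L14155 rfl
theorem L14159 : sm gd N42 = N1374 := trf L14156 L7278 rfl
theorem L14160 : N1374 = N22 := eqe L14159 L256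
theorem L14161 : N1374 = N22 := eqc rfl L14160 rfl
theorem L14169 : sm gf N22 = N681 := trf L14161 L6944 rfl
theorem L14170 : N681 = N12 := eqe L14169 L126
theorem L14171 : N681 = N12 := eqc rfl L14170 rfl
theorem L14184 : sm gg N12 = N330 := trf L14171 L3286 rfl
theorem L14185 : N330 = N23 := eqe L14184 L128
theorem L14186 : N330 = N23 := eqc rfl L14185 rfl
theorem L14196 : sm gf N23 = N611 := trf L14186 L2991 rfl
theorem L14197 : N611 = N44 := eqe L14196 L265
theorem L14198 : N611 = N44 := eqc rfl L14197 rfl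
theorem L14207 : sm ge N44 = N1250 := trf L14198 L6336 rfl
theorem L14208 : N1250 = N44 := eqe L14207 L271
theorem L14209 : N1250 = N44 := eqc rfl L14208 rfl
theorem L14211 : sm gc N44 = N612 := trf L14209 L6338 rfl
theorem L14212 : N612 = N39 := eqe L14211 L269
theorem L14213 : N612 = N39 := eqc rfl L14212 rfl
theorem L14226 : sm gg N39 = N1252 := trf L14213 L6346 rfl
theorem L14227 : N1252 = N44 := eqe L14226 L273
theorem L14228 : N1252 = N44 := eqc rfl L14227 rfl
theorem L14235 : sm gf N44 = N1361 := trf L14228 L6879 rfl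
theorem L14236 : N1361 = N23 := eqe L14235 L266
theorem L14237 : N1361 = N23 := eqc rfl L14236 rfl
theorem L14244 : sm gg N23 = N673 := trf L14237 L6873 rfl
theorem L14245 : N673 = N12 := eqe L14244 L129
theorem L14246 : N673 = N12 := eqc rfl L14245 rfl
theorem L14257 : sm ge N12 = N327 := trf L14246 L3252 rfl
theorem L14258 : N327 = N12 := eqe L14257 L81
theorem L14259 : N327 = N12 := eqc rfl L14258 rfl
theorem L14265 : sm gf N12 = N610 := trf L14259 L2987 rfl
theorem L14266 : N610 = N22 := eqe L14265 L125
theorem L14267 : N610 = N22 := eqc rfl L14266 rfl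
theorem L14274 : sm gd N22 = N299 := trf L14267 L2983 rfl
theorem L14275 : N299 = N42 := eqe L14274 L257
theorem L14276 : N299 = N42 := eqc rfl L14275 rfl
theorem L14288 : sm gg N42 = N334 := trf L14276 L1652 rfl
theorem L14289 : N334 = N59 := eqe L14288 L341
theorem L14290 : N334 = N59 := eqc rfl L14289 rfl
theorem L14300 : sm gf N59 = N171 := trf L14290 L1646 rfl
theorem L14301 : N171 = N33 := eqe L14300 L338
theorem L14302 : N171 = N33 := eqc rfl L14301 rfl
theorem L14304 : sm gb N33 = N333 := trf L14302 L1639 rfl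
theorem L14305 : N333 = N19 := eqe L14304 L182
theorem L14306 : N333 = N19 := eqc rfl L14305 rfl
theorem L14326 : sm gg N19 = N177 := trf L14306 L1643 rfl
theorem L14327 : N177 = N16 := eqe L14326 L116
theorem L14328 : N177 = N16 := eqc rfl L14327 rfl
theorem L14332 : sm gb N16 = N98 := trf L14328 L929 rfl
theorem L14333 : N98 = N30 := eqe L14332 L162
theorem L14334 : N98 = N30 := eqc rfl L14333 rfl
theorem L14342 : sm gf N16 = N343 := trf L14328 L1693 rfl
theorem L14343 : N343 = N9 := eqe L14342 L96
theorem L14344 : N343 = N9 := eqc rfl L14343 rfl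
theorem L14356 : sm gg N9 = N703 := trf L14344 L3396 rfl
theorem L14357 : N703 = N9 := eqe L14356 L64
theorem L14358 : N703 = N9 := eqc rfl L14357 rfl
theorem L14369 : sm ge N9 = N1402 := trf L14358 L7088 rfl
theorem L14370 : N1402 = N15 := eqe L14369 L90
theorem L14371 : N1402 = N15 := eqc rfl L14370 rfl
theorem L14379 : sm gf N15 = N1331 := trf L14371 L7090 rfl
theorem L14380 : N1331 = N29 := eqe L14379 L157
theorem L14381 : N1331 = N29 := eqc rfl L14380 rfl
theorem L14384 : sm gc N29 = N804 := trf L14381 L6715 rfl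
theorem L14385 : N804 = N52 := eqe L14384 L306
theorem L14386 : N804 = N52 := eqc rfl L14385 rfl
theorem L14388 : sm gg N29 = N696 := trf L14381 L6719 rfl
theorem L14389 : N696 = N37 := eqe L14388 L233
theorem L14390 : N696 = N37 := eqc rfl L14389 rfl
theorem L14402 : sm gf N37 = N1401 := trf L14390 L7071 rfl
theorem L14403 : N1401 = N25 := eqe L14402 L230
theorem L14404 : N1401 = N25 := eqc rfl L14403 rfl
theorem L14406 : sm gc N25 = N803 := trf L14404 L7075 rfl
theorem L14407 : N803 = N46 := eqe L14406 L283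
theorem L14408 : N803 = N46 := eqc rfl L14407 rfl
theorem L14420 : sm gg N46 = N822 := trf L14408 L4013 rfl
theorem L14421 : N822 = N46 := eqe L14420 L284
theorem L14422 : N822 = N46 := eqc rfl L14421 rfl
theorem L14430 : sm gf N46 = N391 := trf L14422 L4007 L12027
theorem L14431 : N391 = N61 := eqe L14430 L356
theorem L14432 : N391 = N61 := eqc rfl L14431 rfl
theorem L14447 : sm gg N61 = N813 := trf L14432 L3955 rfl
theorem L14448 : N813 = N52 := eqe L14447 L357
theorem L14449 : N813 = N52 := eqc rfl L14448 rfl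
theorem L14459 : sm gf N52 = N1600 := trf L14449 L8147 rfl
theorem L14460 : N1600 = N27 := eqe L14459 L304
theorem L14461 : N1600 = N27 := eqc rfl L14460 rfl
theorem L14468 : sm gg N27 = N1569 := trf L14461 L8153 rfl
theorem L14469 : N1569 = N27 := eqe L14468 L152
theorem L14470 : N1569 = N27 := eqc rfl L14469 rfl
theorem L14472 : sm ge N27 = N800 := trf L14470 L7997 rfl
theorem L14473 : N800 = N14 := eqe L14472 L149
theorem L14474 : N800 = N14 := eqc rfl L14473 rfl
theorem L14482 : sm gf N14 = N386 := trf L14474 L3896 rfl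
theorem L14483 : N386 = N28 := eqe L14482 L153
theorem L14484 : N386 = N28 := eqc rfl L14483 rfl
theorem L14497 : sm gg N28 = N801 := trf L14484 L3901 rfl
theorem L14498 : N801 = N36 := eqe L14497 L223
theorem L14499 : N801 = N36 := eqc rfl L14498 rfl
theorem L14511 : sm gf N36 = N815 := trf L14499 L3971 rfl
theorem L14512 : N815 = N24 := eqe L14511 L220
theorem L14513 : N815 = N24 := eqc rfl L14512 rfl
theorem L14518 : sm gc N24 = N1592 := trf L14513 L8100 rfl
theorem L14519 : N1592 = N13 := eqe L14518 L133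
theorem L14520 : N1592 = N13 := eqc rfl L14519 rfl
theorem L14528 : sm gg N13 = N809 := trf L14520 L8098 rfl
theorem L14529 : N809 = N13 := eqe L14528 L86
theorem L14530 : N809 = N13 := eqc rfl L14529 rfl
theorem L14536 : sm gd N13 = N1586 := trf L14530 L8072 rfl
theorem L14537 : N1586 = N7 := eqe L14536 L83
theorem L14538 : N1586 = N7 := eqc rfl L14537 rfl
theorem L14545 : sm gf N7 = N807 := trf L14538 L8070 rfl
theorem L14546 : N807 = N11 := eqe L14545 L76
theorem L14547 : N807 = N11 := eqc rfl L14546 rfl
theorem L14559 : sm gg N11 = N1587 := trf L14547 L8073 rfl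
theorem L14560 : N1587 = N10 := eqe L14559 L77
theorem L14561 : N1587 = N10 := eqc rfl L14560 rfl
theorem L14562 : sm gd N10 = N810 := trf L14561 L8075 rfl
theorem L14563 : N810 = N16 := eqe L14562 L98
theorem L14564 : N810 = N16 := eqc rfl L14563 rfl
theorem L14566 : sm gb N16 = N1593 := trf L14564 L8103 rfl
theorem L14567 : N1593 = N30 := eqe L14566 L162
theorem L14568 : N1593 = N30 := eqc rfl L14567 rfl
theorem L14573 : sm gc N30 = N56 := trf L14568 L8105 L14116
theorem L14574 : N56 = N55 := eqe L14573 L318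
theorem L14575 : N56 = N55 := eqc rfl L14574 rfl
theorem L14583 : sm gd N55 = N31 := trf L14575 L325 rfl
theorem L14584 : N31 = N97 := eqe L14583 L533
theorem L14585 : N97 = N31 := (eqc rfl L14584 rfl).symm
theorem L14586 : sm ge N55 = N96 := trf L14575 L529 rfl
theorem L14587 : N96 = N95 := eqe L14586 L522
theorem L14588 : N96 = N95 := eqc rfl L14587 rfl
theorem L14595 : sm gc N95 = N174 := trf L14588 L912 rfl
theorem L14596 : N174 = N54 := eqe L14595 L519
theorem L14597 : N174 = N54 := eqc rfl L14596 rfl
theorem L14598 : sm gd N95 = N95 := trf L14588 L527 L14588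
theorem L14599 : N95 = N173 := eqe L14598 L904
theorem L14600 : N173 = N95 := (eqc rfl L14599 rfl).symm
theorem L14611 : sm gd N95 = N95 := trf L14600 L905 rfl
theorem L14616 : sm gg N95 = N338 := trf L14600 L1666 rfl
theorem L14617 : N338 = N174 := eqe L14616 L908
theorem L14618 : N338 = N54 := eqc rfl L14617 L14597
theorem L14627 : sm ge N54 = N694 := trf L14618 L3349 rfl
theorem L14628 : N694 = N30 := eqe L14627 L314
theorem L14629 : N694 = N30 := eqc rfl L14628 rfl
theorem L14638 : sm gd N30 = N340 := trf L14629 L3346 rfl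
theorem L14639 : N340 = N17 := eqe L14638 L164
theorem L14640 : N340 = N17 := eqc rfl L14639 rfl
theorem L14646 : sm gb N17 = N698 := trf L14640 L3370 rfl
theorem L14647 : N698 = N10 := eqe L14646 L100
theorem L14648 : N698 = N10 := eqc rfl L14647 rfl
theorem L14674 : sm gc N10 = N1404 := trf L14648 L7097 rfl
theorem L14675 : N1404 = N5 := eqe L14674 L67
theorem L14676 : N1404 = N5 := eqc rfl L14675 rfl
theorem L14690 : sm ge N5 = N700 := trf L14676 L7099 rfl
theorem L14691 : N700 = N5 := eqe L14690 L31
theorem L14692 : N700 = N5 := eqc rfl L14691 rfl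
theorem L14693 : sm ga N5 = N1406 := trf L14692 L7110 rfl
theorem L14694 : N1406 = N6 := eqe L14693 L54
theorem L14695 : N1406 = N6 := eqc rfl L14694 rfl
theorem L14712 : sm gc N6 = N699 := trf L14695 L7108 rfl
theorem L14713 : N699 = N11 := eqe L14712 L70
theorem L14714 : N699 = N11 := eqc rfl L14713 rfl
theorem L14717 : sm gb N11 = N519 := trf L14714 L3379 rfl
theorem L14718 : N519 = N18 := eqe L14717 L105
theorem L14719 : N519 = N18 := eqc rfl L14718 rfl
theorem L14754 : sm gg N18 = N1068 := trf L14719 L5340 rfl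
theorem L14755 : N1068 = N20 := eqe L14754 L209
theorem L14756 : N1068 = N20 := eqc rfl L14755 rfl
theorem L14772 : sm gf N20 = N1094 := trf L14756 L5455 rfl
theorem L14773 : N1094 = N39 := eqe L14772 L241
theorem L14774 : N1094 = N39 := eqc rfl L14773 rfl
theorem L14781 : sm gg N39 = N530 := trf L14774 L5452 rfl
theorem L14782 : N530 = N44 := eqe L14781 L273
theorem L14783 : N530 = N44 := eqc rfl L14782 rfl
theorem L14794 : sm ge N44 = N1091 := trf L14783 L5441 rfl
theorem L14795 : N1091 = N44 := eqe L14794 L271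
theorem L14796 : N1091 = N44 := eqc rfl L14795 rfl
theorem L14801 : sm gf N44 = N529 := trf L14796 L5439 rfl
theorem L14802 : N529 = N23 := eqe L14801 L266
theorem L14803 : N529 = N23 := eqc rfl L14802 rfl
theorem L14809 : sm gd N23 = N1090 := trf L14803 L5433 rfl
theorem L14810 : N1090 = N43 := eqe L14809 L263
theorem L14811 : N1090 = N43 := eqc rfl L14810 rfl
theorem L14822 : sm ge N43 = N532 := trf L14811 L5436 rfl
theorem L14823 : N532 = N71 := eqe L14822 L410
theorem L14824 : N532 = N71 := eqc rfl L14823 rfl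
theorem L14838 : sm gg N71 = N1099 := trf L14824 L5476 rfl
theorem L14839 : N1099 = N41 := eqe L14838 L405
theorem L14840 : N1099 = N41 := eqc rfl L14839 rfl
theorem L14844 : sm gd N41 = N534 := trf L14840 L5478 rfl
theorem L14845 : N534 = N41 := eqe L14844 L253
theorem L14846 : N534 = N41 := eqc rfl L14845 rfl
theorem L14859 : sm gf N41 = N1103 := trf L14846 L5498 rfl
theorem L14860 : N1103 = N70 := eqe L14859 L399
theorem L14861 : N1103 = N70 := eqc rfl L14860 rfl
theorem L14872 : sm gg N70 = N1070 := trf L14861 L5506 rfl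
theorem L14873 : N1070 = N103 := eqe L14872 L565
theorem L14874 : N1070 = N103 := eqc rfl L14873 rfl
theorem L14887 : sm ge N103 = N521 := trf L14874 L5356 rfl
theorem L14888 : N521 = N59 := eqe L14887 L563
theorem L14889 : N521 = N59 := eqc rfl L14888 rfl
theorem L14895 : sm gc N59 = N262 := trf L14889 L2598 rfl
theorem L14896 : N262 = N102 := eqe L14895 L557
theorem L14897 : N262 = N102 := eqc rfl L14896 rfl
theorem L14914 : sm gg N102 = N274 := trf L14897 L1409 rfl
theorem L14915 : N274 = N68 := eqe L14914 L559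
theorem L14916 : N274 = N68 := eqc rfl L14915 rfl
theorem L14924 : sm gf N68 = N144 := trf L14916 L1405 rfl
theorem L14925 : N144 = N40 := eqe L14924 L390
theorem L14926 : N144 = N40 := eqc rfl L14925 rfl
theorem L14927 : sm ga N40 = N263 := trf L14926 L1363 rfl
theorem L14928 : N263 = N806 := eqe L14927 L12928
theorem L14929 : N806 = N263 := (eqc rfl L14928 rfl).symm
theorem L14947 : sm ge N263 = N1577 := trf L14929 L8036 rfl
theorem L14948 : N1577 = N525 := eqe L14947 L2621
theorem L14949 : N1577 = N525 := eqc rfl L14948 rfl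
theorem L14980 : sm gb N525 = N52 := trf L14949 L8034 L14386
theorem L14981 : N52 = N1078 := eqe L14980 L5390
theorem L14982 : N1078 = N52 := (eqc rfl L14981 rfl).symm
theorem L14986 : sm gb N52 = N525 := trf L14982 L5391 rfl
theorem L14987 : N525 = N91 := eqe L14986 L506
theorem L14988 : N525 = N91 := eqc rfl L14987 rfl
theorem L15004 : sm gg N91 = N261 := trf L14988 L2617 rfl
theorem L15005 : N261 = N101 := eqe L15004 L12225
theorem L15006 : N261 = N101 := eqc rfl L15005 rfl
theorem L15007 : sm ga N101 = N142 := trf L15006 L1354 rfl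
theorem L15008 : N142 = N124 := eqe L15007 L678
theorem L15009 : N142 = N124 := eqc rfl L15008 rfl
theorem L15014 : sm gd N101 = N523 := trf L15006 L2606 rfl
theorem L15015 : N523 = N185 := eqe L15014 L962
theorem L15016 : N523 = N185 := eqc rfl L15015 rfl
theorem L15019 : sm ga N185 = N268 := trf L15016 L2608 rfl
theorem L15020 : N268 = N231 := eqe L15019 L1209
theorem L15021 : N268 = N231 := eqc rfl L15020 rfl
theorem L15030 : sm gf N185 = N1075 := trf L15016 L5374 rfl
theorem L15031 : N1075 = N363 := eqe L15030 L1788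
theorem L15032 : N1075 = N363 := eqc rfl L15031 rfl
theorem L15042 : sm gg N363 = N1119 := trf L15032 L5571 rfl
theorem L15043 : N1119 = N230 := eqe L15042 L1793
theorem L15044 : N1119 = N230 := eqc rfl L15043 rfl
theorem L15049 : sm ge N230 = N1981 := trf L15044 L10061 rfl
theorem L15050 : N1981 = N449 := eqe L15049 L2240
theorem L15051 : N1981 = N449 := eqc rfl L15050 rfl
theorem L15055 : sm gd N449 = N1001 := trf L15051 L10058 rfl
theorem L15056 : N1001 = N227 := eqe L15055 L2237
theorem L15057 : N1001 = N227 := eqc rfl L15056 rfl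
theorem L15058 : sm gf N449 = N997 := trf L15051 L10055 rfl
theorem L15059 : N997 = N226 := eqe L15058 L2236
theorem L15060 : N997 = N226 := eqc rfl L15059 rfl
theorem L15072 : sm gg N226 = N484 := trf L15060 L4903 rfl
theorem L15073 : N484 = N445 := eqe L15072 L2214
theorem L15074 : N484 = N445 := eqc rfl L15073 rfl
theorem L15079 : sm gc N445 = N995 := trf L15074 L4892 rfl
theorem L15080 : N995 = N916 := eqe L15079 L4541
theorem L15081 : N995 = N916 := eqc rfl L15080 rfl
theorem L15121 : sm gb N916 = N1974 := trf L15081 L10010 rfl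
theorem L15122 : N1974 = N1809 := eqe L15121 L9177
theorem L15123 : N1974 = N1809 := eqc rfl L15122 rfl
theorem L15127 : sm ge N916 = N539 := trf L15081 L4894 rfl
theorem L15128 : N539 = N456 := eqe L15127 L4545
theorem L15129 : N539 = N456 := eqc rfl L15128 rfl
theorem L15132 : sm gb N456 = N1112 := trf L15129 L5532 rfl
theorem L15133 : N1112 = N939 := eqe L15132 L4645
theorem L15134 : N1112 = N939 := eqc rfl L15133 rfl
theorem L15150 : sm gc N939 = N554 := trf L15134 L5534 rfl
theorem L15151 : N554 = N1862 := eqe L15150 L9431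
theorem L15152 : N1862 = N554 := (eqc rfl L15151 rfl).symm
theorem L15154 : sm gb N554 = N945 := trf L15152 L9433 rfl
theorem L15155 : N945 = N275 := eqe L15154 L2737
theorem L15156 : N945 = N275 := eqc rfl L15155 rfl
theorem L15157 : sm gc N554 = N939 := trf L15152 L9432 rfl
theorem L15158 : sm gc N939 = N554 := flp_c L15157
theorem L15171 : sm gf N275 = N1875 := trf L15156 L9491 rfl
theorem L15172 : N1875 = N556 := eqe L15171 L2744
theorem L15173 : N1875 = N556 := eqc rfl L15172 rfl
theorem L15178 : sm gc N556 = N946 := trf L15173 L9493 rfl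
theorem L15179 : N946 = N276 := eqe L15178 L2748
theorem L15180 : N946 = N276 := eqc rfl L15179 rfl
theorem L15190 : sm gg N276 = N1877 := trf L15180 L9501 rfl
theorem L15191 : N1877 = N292 := eqe L15190 L1481
theorem L15192 : N1877 = N292 := eqc rfl L15191 rfl
theorem L15199 : sm gf N292 = N1754 := trf L15192 L9508 rfl
theorem L15200 : N1754 = N152 := eqe L15199 L1475
theorem L15201 : N1754 = N152 := eqc rfl L15200 rfl
theorem L15206 : sm gg N152 = N944 := trf L15201 L8933 rfl
theorem L15207 : N944 = N83 := eqe L15206 L812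
theorem L15208 : N944 = N83 := eqc rfl L15207 rfl
theorem L15217 : sm ge N83 = N1798 := trf L15208 L9122 rfl
theorem L15218 : N1798 = N134 := eqe L15217 L737
theorem L15219 : N1798 = N134 := eqc rfl L15218 rfl
theorem L15222 : sm gd N134 = N910 := trf L15219 L9118 rfl
theorem L15223 : N910 = N75 := eqe L15222 L733
theorem L15224 : N910 = N75 := eqc rfl L15223 rfl
theorem L15236 : sm gg N75 = N564 := trf L15224 L8798 L11076
theorem L15237 : N564 = N136 := eqe L15236 L742
theorem L15238 : N564 = N136 := eqc rfl L15237 rfl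
theorem L15244 : sm ge N136 = N284 := trf L15238 L2783 rfl
theorem L15245 : N284 = N77 := eqe L15244 L744
theorem L15246 : N284 = N77 := eqc rfl L15245 rfl
theorem L15257 : sm gf N77 = N576 := trf L15246 L2831 rfl
theorem L15258 : N576 = N138 := eqe L15257 L753
theorem L15259 : N576 = N138 := eqc rfl L15258 rfl
theorem L15263 : sm gb N138 = N306 := trf L15259 L5656 rfl
theorem L15264 : N306 = N258 := eqe L15263 L1337
theorem L15265 : N306 = N258 := eqc rfl L15264 rfl
theorem L15267 : sm gd N138 = N471 := trf L15259 L5658 L11057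
theorem L15268 : N471 = N88 := eqe L15267 L757
theorem L15269 : N471 = N88 := eqc rfl L15268 rfl
theorem L15274 : sm gb N88 = N970 := trf L15269 L4776 rfl
theorem L15275 : N970 = N160 := eqe L15274 L851
theorem L15276 : N970 = N160 := eqc rfl L15275 rfl
theorem L15360 : sm gf N160 = N1928 := trf L15276 L9728 rfl
theorem L15361 : N1928 = N160 := eqe L15360 L853
theorem L15362 : N1928 = N160 := eqc rfl L15361 rfl
theorem L15371 : sm gc N160 = N2073 := trf L15362 L10806 rfl
theorem L15372 : N2073 = N307 := eqe L15371 L1541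
theorem L15373 : N2073 = N307 := eqc rfl L15372 rfl
theorem L15374 : sm gb N307 = N1056 := trf L15373 L10607 rfl
theorem L15375 : N1056 = N307 := eqe L15374 L1544
theorem L15376 : N1056 = N307 := eqc rfl L15375 rfl
theorem L15378 : sm ga N307 = N514 := trf L15376 L5262 rfl
theorem L15379 : N514 = N625 := eqe L15378 L3044
theorem L15380 : N625 = N514 := (eqc rfl L15379 rfl).symm
theorem L15384 : sm gd N307 = N2074 := trf L15376 L10608 rfl
theorem L15385 : N2074 = N627 := eqe L15384 L3052
theorem L15386 : N2074 = N627 := eqc rfl L15385 rfl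
theorem L15387 : sm ge N307 = N2060 := trf L15376 L10543 rfl
theorem L15388 : N2060 = N603 := eqe L15387 L2961
theorem L15389 : N2060 = N603 := eqc rfl L15388 rfl
theorem L15391 : sm gg N307 = N2075 := trf L15376 L10613 rfl
theorem L15392 : N2075 = N628 := eqe L15391 L3056
theorem L15393 : N2075 = N628 := eqc rfl L15392 rfl
theorem L15394 : sm ga N628 = N1059 := trf L15393 L10615 rfl
theorem L15395 : N1059 = N1268 := eqe L15394 L6426
theorem L15396 : N1268 = N1059 := (eqc rfl L15395 rfl).symm
theorem L15410 : sm ga N1059 = N628 := trf L15396 L6425 rfl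
theorem L15411 : sm ga N628 = N1059 := flp_a L15410
theorem L15413 : sm gf N1059 = N628 := trf L15396 L6430 rfl
theorem L15414 : sm gf N628 = N1059 := flp_f L15413
theorem L15416 : sm ga N603 = N1047 := trf L15389 L10540 rfl
theorem L15417 : N1047 = N1233 := eqe L15416 L6238
theorem L15418 : N1233 = N1047 := (eqc rfl L15417 rfl).symm
theorem L15419 : sm gc N603 = N1046 := trf L15389 L10539 rfl
theorem L15420 : N1046 = N297 := eqe L15419 L2959
theorem L15421 : N1046 = N297 := eqc rfl L15420 rfl
theorem L15423 : sm ga N297 = N509 := trf L15421 L5188 rfl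
theorem L15424 : N509 = N602 := eqe L15423 L2953
theorem L15425 : N602 = N509 := (eqc rfl L15424 rfl).symm
theorem L15429 : sm gd N297 = N2051 := trf L15421 L10481 rfl
theorem L15430 : N2051 = N593 := eqe L15429 L2907
theorem L15431 : N2051 = N593 := eqc rfl L15430 rfl
theorem L15435 : sm ga N593 = N1042 := trf L15431 L10479 rfl
theorem L15436 : N1042 = N1211 := eqe L15435 L6116
theorem L15437 : N1211 = N1042 := (eqc rfl L15436 rfl).symm
theorem L15440 : sm ga N1042 = N593 := trf L15437 L6117 rfl
theorem L15441 : sm ga N593 = N1042 := flp_a L15440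
theorem L15547 : sm ga N509 = N297 := trf L15425 L2954 rfl
theorem L15548 : sm ga N297 = N509 := flp_a L15547
theorem L15562 : sm ga N1047 = N603 := trf L15418 L6237 rfl
theorem L15563 : sm ga N603 = N1047 := flp_a L15562
theorem L15564 : sm gb N1047 = N1231 := trf L15418 L6242 rfl
theorem L15565 : N1231 = N1766 := eqe L15564 L8992
theorem L15566 : N1766 = N1231 := (eqc rfl L15565 rfl).symm
theorem L15569 : sm gb N1231 = N1047 := trf L15566 L8991 rfl
theorem L15570 : sm gb N1047 = N1231 := flp_b L15569
theorem L15573 : sm ga N627 = N1058 := trf L15386 L10610 rfl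
theorem L15574 : N1058 = N1267 := eqe L15573 L6419
theorem L15575 : N1267 = N1058 := (eqc rfl L15574 rfl).symm
theorem L15577 : sm ga N1058 = N627 := trf L15575 L6418 rfl
theorem L15578 : sm ga N627 = N1058 := flp_a L15577
theorem L15579 : sm gb N1058 = N1264 := trf L15575 L6420 rfl
theorem L15580 : N1264 = N1791 := eqe L15579 L9088
theorem L15581 : N1791 = N1264 := (eqc rfl L15580 rfl).symm
theorem L15584 : sm gb N1264 = N1058 := trf L15581 L9087 rfl
theorem L15585 : sm gb N1058 = N1264 := flp_b L15584
theorem L15592 : sm ga N514 = N307 := trf L15380 L3043 rfl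
theorem L15593 : sm ga N307 = N514 := flp_a L15592
theorem L15601 : sm ga N258 = N160 := trf L15265 L1539 rfl
theorem L15602 : sm ga N160 = N258 := flp_a L15601
theorem L15678 : sm gc N1809 = N1008 := trf L15123 L10014 rfl
theorem L15679 : sm gc N1008 = N1809 := flp_c L15678
theorem L15692 : sm gg N227 = N980 := trf L15057 L4932 rfl
theorem L15693 : N980 = N360 := eqe L15692 L1780
theorem L15694 : N980 = N354 := eqc rfl L15693 L11761
theorem L15697 : sm gb N354 = N1947 := trf L15694 L9858 rfl
theorem L15698 : N1947 = N730 := eqe L15697 L3519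
theorem L15699 : N1947 = N730 := eqc rfl L15698 rfl
theorem L15704 : sm ge N730 = N982 := trf L15699 L9860 rfl
theorem L15705 : N982 = N356 := eqe L15704 L3521
theorem L15706 : N982 = N356 := eqc rfl L15705 rfl
theorem L15722 : sm gg N356 = N1163 := trf L15706 L5892 rfl
theorem L15723 : N1163 = N465 := eqe L15722 L13679
theorem L15724 : N1163 = N465 := eqc rfl L15723 rfl
theorem L15725 : sm ga N465 = N566 := trf L15724 L5887 rfl
theorem L15726 : N566 = N958 := eqe L15725 L4747
theorem L15727 : N750 = N566 := (eqc rfl L15726 L13664).symm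
theorem L15775 : sm gc N566 = N467 := trf L15727 L3627 rfl
theorem L15776 : N467 = N1164 := eqe L15775 L5905
theorem L15777 : N1164 = N467 := (eqc rfl L15776 rfl).symm
theorem L15781 : sm ge N566 = N1493 := trf L15727 L7541 rfl
theorem L15782 : N1493 = N1151 := eqe L15781 L5810
theorem L15783 : N1493 = N1151 := eqc rfl L15782 rfl
theorem L15784 : sm gf N566 = N366 := trf L15727 L3624 rfl
theorem L15785 : sm gf N366 = N566 := flp_f L15784
theorem L15788 : sm ga N1151 = N948 := trf L15783 L7536 L13585
theorem L15789 : sm ga N948 = N1151 := flp_a L15788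
theorem L15790 : N1151 = N1881 := eqe L15789 L9521
theorem L15791 : N1881 = N1151 := (eqc rfl L15790 rfl).symm
theorem L15793 : sm gc N1151 = N950 := trf L15783 L7538 rfl
theorem L15794 : sm gc N950 = N1151 := flp_c L15793
theorem L15795 : sm gf N1151 = N747 := trf L15783 L7535 rfl
theorem L15796 : sm gf N747 = N1151 := flp_f L15795
theorem L15797 : sm gg N1151 = N863 := trf L15783 L11568 rfl
theorem L15798 : sm gg N863 = N1151 := flp_g L15797
theorem L15799 : sm ga N1151 = N948 := trf L15791 L9522 rfl
theorem L15800 : sm ga N948 = N1151 := flp_a L15799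
theorem L15801 : sm gc N1151 = N1894 := trf L15791 L9765 rfl
theorem L15802 : N1894 = N950 := eqe L15801 L15793
theorem L15803 : N1894 = N950 := eqc rfl L15802 rfl
theorem L15804 : N958 = N566 := L13664.trans L15727
theorem L15809 : sm gb N950 = N955 := trf L15803 L9579 rfl
theorem L15810 : N955 = N1886 := eqe L15809 L9541
theorem L15811 : N1886 = N955 := (eqc rfl L15810 rfl).symm
theorem L15813 : sm gb N955 = N950 := trf L15811 L9542 rfl
theorem L15814 : sm gb N950 = N955 := flp_b L15813
theorem L15821 : sm gc N467 = N566 := trf L15777 L5906 rfl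
theorem L15822 : sm gc N566 = N467 := flp_c L15821
theorem L15864 : sm gb N231 = N145 := trf L15021 L1382 rfl
theorem L15865 : sm gb N145 = N231 := flp_b L15864
theorem L15887 : sm gb N124 = N80 := trf L15009 L777 rfl
theorem L15888 : sm gb N80 = N124 := flp_b L15887
theorem L16427 : sm gg N54 = N95 := trf L14597 L909 rfl
theorem L16428 : sm gg N95 = N54 := flp_g L16427
theorem L16432 : sm gd N31 = N55 := trf L14585 L534 rfl
theorem L16433 : sm gd N55 = N31 := flp_d L16432
theorem L16553 : N729 = N192 := L12033.trans L12480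
theorem L16607 : sm gg N30 = N55 := trf L14334 L539 rfl
theorem L16608 : sm gg N55 = N30 := flp_g L16607
theorem L16746 : sm gb N69 = N47 := trf L14079 L452 rfl
theorem L16747 : sm gb N47 = N69 := flp_b L16746
theorem L16751 : sm gb N413 = N870 := trf L13994 L4483 rfl
theorem L16752 : N870 = N853 := eqe L16751 L4168
theorem L16753 : N870 = N853 := eqc rfl L16752 rfl
theorem L16756 : sm ge N413 = N1762 := trf L13994 L8970 rfl
theorem L16757 : N1762 = N850 := eqe L16756 L4159
theorem L16758 : N1762 = N850 := eqc rfl L16757 rfl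
theorem L16762 : sm gb N850 = N1702 := trf L16758 L8971 rfl
theorem L16763 : N1702 = N1674 := eqe L16762 L8534
theorem L16764 : N1702 = N1674 := eqc rfl L16763 rfl
theorem L16767 : N1675 = N875 := L11389.trans L13951
theorem L16769 : sm gf N1674 = N864 := trf L16764 L8677 rfl
theorem L16770 : sm gf N864 = N1674 := flp_f L16769
theorem L16779 : N1667 = N421 := L10991.trans L13818
theorem L16781 : sm gf N853 = N421 := trf L16753 L4322 rfl
theorem L16782 : N421 = N1680 := eqe L16781 L8566
theorem L16783 : N1680 = N421 := (eqc rfl L16782 rfl).symm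
theorem L16784 : sm gg N853 = N1710 := trf L16753 L8712 rfl
theorem L16785 : N1710 = N421 := eqe L16784 L4170
theorem L16786 : N1710 = N421 := eqc rfl L16785 rfl
theorem L16787 : sm ga N421 = N421 := trf L16786 L8714 L16783
theorem L16788 : N421 = N868 := eqe L16787 L4315
theorem L16789 : N868 = N421 := (eqc rfl L16788 rfl).symm
theorem L16792 : sm ga N421 = N421 := trf L16789 L4316 rfl
theorem L16802 : sm ge N421 = N1700 := trf L16789 L8669 rfl
theorem L16803 : N1700 = N864 := eqe L16802 L4233
theorem L16804 : N1700 = N864 := eqc rfl L16803 rfl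
theorem L16806 : sm gg N421 = N1678 := trf L16789 L8561 rfl
theorem L16807 : N1678 = N853 := eqe L16806 L4171
theorem L16808 : N1678 = N853 := eqc rfl L16807 rfl
theorem L16809 : sm ga N853 = N853 := trf L16808 L8559 rfl
theorem L16812 : sm ga N864 = N864 := trf L16804 L8667 rfl
theorem L16815 : sm gf N421 = N853 := trf L16783 L8567 rfl
theorem L16816 : sm gf N853 = N421 := flp_f L16815
theorem L16857 : sm gb N1716 = N890 := trf L13962 L8926 rfl
theorem L16858 : sm gb N890 = N1716 := flp_b L16857
theorem L16859 : sm gb N424 = N249 := trf L13941 L2463 rfl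
theorem L16860 : sm gb N249 = N424 := flp_b L16859
theorem L16864 : sm ga N1670 = N872 := trf L13926 L8578 rfl
theorem L16865 : sm ga N872 = N1670 := flp_a L16864
theorem L16867 : sm ge N1670 = N861 := trf L13926 L8582 rfl
theorem L16868 : sm ge N861 = N1670 := flp_e L16867
theorem L16869 : sm gg N1670 = N1718 := trf L13926 L8772 rfl
theorem L16870 : sm gg N1718 = N1670 := flp_g L16869
theorem L16871 : sm ga N1669 = N871 := trf L13920 L8572 rfl
theorem L16872 : sm ga N871 = N1669 := flp_a L16871
theorem L16873 : sm ge N1669 = N860 := trf L13920 L8574 rfl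
theorem L16874 : sm ge N860 = N1669 := flp_e L16873
theorem L16881 : sm gb N873 = N493 := trf L13897 L4993 rfl
theorem L16882 : sm gb N493 = N873 := flp_b L16881
theorem L16889 : sm gb N277 = N431 := trf L13890 L4426 rfl
theorem L16890 : sm gb N431 = N277 := flp_b L16889
theorem L16891 : sm gb N1718 = N2050 := trf L13883 L10477 rfl
theorem L16892 : sm gb N2050 = N1718 := flp_b L16891
theorem L16894 : sm gb N1210 = N892 := trf L13880 L8944 rfl
theorem L16895 : sm gb N892 = N1210 := flp_b L16894
theorem L16897 : sm ge N417 = N848 := trf L13851 L8460 rfl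
theorem L16898 : sm ge N848 = N417 := flp_e L16897
theorem L16907 : sm gb N218 = N147 := trf L13831 L1431 rfl
theorem L16908 : sm gb N147 = N218 := flp_b L16907
theorem L16912 : N844 = N215 := L10894.trans L11279
theorem L16915 : sm gd N413 = N212 := trf L13824 L2070 rfl
theorem L16916 : sm gd N212 = N413 := flp_d L16915
theorem L16932 : sm gb N118 = N82 := trf L13815 L804 rfl
theorem L16933 : sm gb N82 = N118 := flp_b L16932
theorem L16962 : sm gf N366 = N932 := trf L13673 L8819 rfl
theorem L16963 : N932 = N566 := eqe L16962 L15785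
theorem L16964 : N932 = N566 := eqc rfl L16963 rfl
theorem L16970 : sm gc N566 = N1845 := trf L16964 L9363 rfl
theorem L16971 : N1845 = N467 := eqe L16970 L15822
theorem L16972 : N1845 = N467 := eqc rfl L16971 rfl
theorem L16983 : sm ga N467 = N1481 := trf L16972 L9365 rfl
theorem L16984 : N1481 = N437 := eqe L16983 L2317
theorem L16985 : N1481 = N425 := eqc rfl L16984 L13498
theorem L17003 : N742 = N465 := L11728.trans L13661
theorem L17010 : sm gc N425 = N1842 := trf L16985 L9350 rfl
theorem L17011 : sm gc N1842 = N425 := flp_c L17010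
theorem L17020 : sm gc N425 = N465 := trf L13670 L4750 rfl
theorem L17021 : N465 = N1842 := eqe L17020 L17010
theorem L17022 : N1842 = N465 := (eqc rfl L17021 rfl).symm
theorem L17032 : N919 = N497 := L12690.trans L13275
theorem L17040 : sm gc N465 = N425 := trf L17022 L17011 rfl
theorem L17041 : sm gc N425 = N465 := flp_c L17040
theorem L17052 : sm ga N566 = N465 := trf L15804 L4748 rfl
theorem L17053 : sm ga N465 = N566 := flp_a L17052
theorem L17072 : sm ge N941 = N943 := trf L13589 L9293 rfl
theorem L17073 : sm ge N943 = N941 := flp_e L17072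
theorem L17074 : sm gg N941 = N925 := trf L13589 L9290 rfl
theorem L17075 : sm gg N925 = N941 := flp_g L17074
theorem L17082 : sm gg N948 = N730 := trf L13585 L7395 rfl
theorem L17083 : sm gg N730 = N948 := flp_g L17082
theorem L17084 : sm ga N874 = N950 := trf L13571 L4698 rfl
theorem L17085 : sm ga N950 = N874 := flp_a L17084
theorem L17091 : sm ga N461 = N450 := trf L13552 L4596 rfl
theorem L17092 : sm ga N450 = N461 := flp_a L17091
theorem L17111 : sm gg N432 = N874 := trf L13524 L8786 rfl
theorem L17112 : sm gg N874 = N432 := flp_g L17111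
theorem L17118 : sm gd N436 = N467 := trf L13517 L4633 rfl
theorem L17119 : sm gd N467 = N436 := flp_d L17118
theorem L17121 : sm gc N948 = N874 := trf L13705 L8780 rfl
theorem L17122 : sm gc N874 = N948 := flp_c L17121
theorem L17123 : sm gf N948 = N927 := trf L13705 L8783 rfl
theorem L17124 : sm gf N927 = N948 := flp_f L17123
theorem L17125 : sm ga N425 = N467 := trf L13498 L2318 rfl
theorem L17126 : sm ga N467 = N425 := flp_a L17125
theorem L17128 : sm gg N425 = N219 := trf L13498 L2184 rfl
theorem L17129 : sm gg N219 = N425 := flp_g L17128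
theorem L17136 : sm ga N927 = N747 := trf L13484 L7526 rfl
theorem L17137 : sm ga N747 = N927 := flp_a L17136
theorem L17140 : sm ga N228 = N236 := trf L13481 L2311 rfl
theorem L17141 : sm ga N236 = N228 := flp_a L17140
theorem L17144 : sm ga N366 = N452 := trf L13474 L4613 rfl
theorem L17145 : sm ga N452 = N366 := flp_a L17144
theorem L17150 : sm gg N746 = N927 := trf L13465 L9316 rfl
theorem L17151 : sm gg N927 = N746 := flp_g L17150
theorem L17153 : sm gd N235 = N236 := trf L13460 L2253 rfl
theorem L17154 : sm gd N236 = N235 := flp_d L17153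
theorem L17155 : sm gg N235 = N228 := trf L13460 L2252 rfl
theorem L17156 : sm gg N228 = N235 := flp_g L17155
theorem L17164 : sm gd N452 = N566 := trf L13431 L5030 rfl
theorem L17165 : sm gd N566 = N452 := flp_d L17164
theorem L17172 : N1814 = N1014 := L12680.trans L13357
theorem L17180 : sm gd N305 = N511 := trf L13399 L5241 rfl
theorem L17181 : sm gd N511 = N305 := flp_d L17180
theorem L17197 : sm gf N257 = N511 := trf L13396 L5243 rfl
theorem L17198 : sm gf N511 = N257 := flp_f L17197
theorem L17221 : sm gd N2050 = N1044 := trf L13386 L10515 rfl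
theorem L17222 : sm gd N1044 = N2050 := flp_d L17221
theorem L17223 : sm gf N508 = N1044 := trf L13383 L10517 rfl
theorem L17224 : sm gf N1044 = N508 := flp_f L17223
theorem L17225 : sm gb N877 = N1044 := trf L13380 L8965 rfl
theorem L17226 : N1044 = N1725 := eqe L17225 L8803
theorem L17227 : N1725 = N1044 := (eqc rfl L17226 rfl).symm
theorem L17228 : sm gb N1044 = N877 := trf L17227 L8804 rfl
theorem L17229 : sm gb N877 = N1044 := flp_b L17228
theorem L17236 : sm ga N1044 = N1016 := trf L13370 L10212 rfl
theorem L17237 : sm ga N1016 = N1044 := flp_a L17236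
theorem L17242 : sm ga N1536 = N2007 := trf L13360 L10225 rfl
theorem L17243 : sm ga N2007 = N1536 := flp_a L17242
theorem L17244 : sm gf N1536 = N1012 := trf L13360 L10036 rfl
theorem L17245 : sm gf N1012 = N1536 := flp_f L17244
theorem L17246 : sm gc N1014 = N783 := trf L13357 L7807 rfl
theorem L17247 : sm gc N783 = N1014 := flp_c L17246
theorem L17248 : sm gg N1014 = N1044 := trf L13357 L7810 rfl
theorem L17249 : sm gg N1044 = N1014 := flp_g L17248
theorem L17257 : sm ga N515 = N308 := trf L13318 L3048 rfl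
theorem L17258 : sm ga N308 = N515 := flp_a L17257
theorem L17259 : sm gf N515 = N308 := trf L13318 L3051 rfl
theorem L17260 : sm gf N308 = N515 := flp_f L17259
theorem L17269 : sm gg N511 = N496 := trf L13418 L5035 rfl
theorem L17270 : sm gg N496 = N511 := flp_g L17269
theorem L17271 : sm ga N498 = N511 := trf L13305 L5209 rfl
theorem L17272 : sm ga N511 = N498 := flp_a L17271
theorem L17276 : sm gc N498 = N510 := trf L13305 L5208 rfl
theorem L17277 : sm gc N510 = N498 := flp_c L17276
theorem L17285 : sm ga N1015 = N783 := trf L13291 L7801 rfl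
theorem L17286 : sm ga N783 = N1015 := flp_a L17285
theorem L17292 : sm ga N382 = N497 := trf L13281 L2477 rfl
theorem L17293 : sm ga N497 = N382 := flp_a L17292
theorem L17294 : sm gc N382 = N496 := trf L13281 L2474 rfl
theorem L17295 : sm gc N496 = N382 := flp_c L17294
theorem L17298 : sm gf N382 = N250 := trf L13281 L2414 rfl
theorem L17299 : sm gf N250 = N382 := flp_f L17298
theorem L17303 : sm gb N303 = N510 := trf L13255 L5225 rfl
theorem L17304 : sm gb N510 = N303 := flp_b L17303
theorem L17308 : sm gb N1043 = N599 := trf L13252 L6195 rfl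
theorem L17309 : sm gb N599 = N1043 := flp_b L17308
theorem L17310 : sm gc N1043 = N1016 := trf L13252 L6199 rfl
theorem L17311 : sm gc N1016 = N1043 := flp_c L17310
theorem L17312 : sm gf N1043 = N1016 := trf L13252 L6201 rfl
theorem L17313 : sm gf N1016 = N1043 := flp_f L17312
theorem L17314 : sm gg N1043 = N1015 := trf L13252 L6203 rfl
theorem L17315 : sm gg N1015 = N1043 := flp_g L17314
theorem L17324 : sm gf N282 = N303 := trf L13243 L3021 rfl
theorem L17325 : sm gf N303 = N282 := flp_f L17324
theorem L17327 : sm ga N604 = N1048 := trf L13240 L10547 rfl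
theorem L17328 : sm ga N1048 = N604 := flp_a L17327
theorem L17329 : sm gf N604 = N1048 := trf L13240 L10552 rfl
theorem L17330 : sm gf N1048 = N604 := flp_f L17329
theorem L17331 : sm ga N601 = N562 := trf L13237 L5819 rfl
theorem L17332 : sm ga N562 = N601 := flp_a L17331
theorem L17341 : sm gf N464 = N278 := trf L13231 L2688 rfl
theorem L17342 : sm gf N278 = N464 := flp_f L17341
theorem L17343 : sm gf N558 = N947 := trf L13227 L9499 rfl
theorem L17344 : sm gf N947 = N558 := flp_f L17343
theorem L17350 : sm gg N560 = N601 := trf L13221 L6228 rfl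
theorem L17351 : sm gg N601 = N560 := flp_g L17350
theorem L17358 : sm gf N956 = N561 := trf L13194 L5582 rfl
theorem L17359 : sm gf N561 = N956 := flp_f L17358
theorem L17360 : sm gc N974 = N569 := trf L13191 L5727 rfl
theorem L17361 : N569 = N1937 := eqe L17360 L9799
theorem L17362 : N1937 = N569 := (eqc rfl L17361 rfl).symm
theorem L17363 : sm gf N974 = N569 := trf L13191 L5725 rfl
theorem L17364 : sm gf N569 = N974 := flp_f L17363
theorem L17366 : sm gc N569 = N974 := trf L17362 L9800 rfl
theorem L17367 : sm gc N974 = N569 := flp_c L17366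
theorem L17368 : sm gf N239 = N148 := trf L13188 L1394 rfl
theorem L17369 : sm gf N148 = N239 := flp_f L17368
theorem L17386 : sm ga N570 = N622 := trf L13165 L6385 rfl
theorem L17387 : sm ga N622 = N570 := flp_a L17386
theorem L17388 : sm gf N570 = N619 := trf L13165 L6384 rfl
theorem L17389 : sm gf N619 = N570 := flp_f L17388
theorem L17396 : sm gf N280 = N472 := trf L13156 L12772 rfl
theorem L17397 : sm gf N472 = N280 := flp_f L17396
theorem L17419 : sm gb N601 = N435 := trf L13101 L4466 rfl
theorem L17420 : sm gb N435 = N601 := flp_b L17419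
theorem L17427 : sm gb N622 = N514 := trf L13097 L4495 rfl
theorem L17428 : sm gb N514 = N622 := flp_b L17427
theorem L17514 : sm gf N560 = N955 := trf L13267 L9561 rfl
theorem L17515 : sm gf N955 = N560 := flp_f L17514
theorem L17516 : sm gf N567 = N972 := trf L13198 L9706 rfl
theorem L17517 : sm gf N972 = N567 := flp_f L17516
theorem L17524 : sm gg N599 = N955 := trf L12741 L9589 rfl
theorem L17525 : sm gg N955 = N599 := flp_g L17524
theorem L17526 : sm gg N619 = N972 := trf L12738 L9790 rfl
theorem L17527 : sm gg N972 = N619 := flp_g L17526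
theorem L17544 : sm gb N496 = N452 := trf L13477 L4569 rfl
theorem L17545 : sm gb N452 = N496 := flp_b L17544
theorem L17552 : sm gd N497 = N472 := trf L17032 L4565 rfl
theorem L17553 : sm gd N472 = N497 := flp_d L17552
theorem L17557 : sm ge N1536 = N947 := trf L12683 L9205 rfl
theorem L17558 : sm ge N947 = N1536 := flp_e L17557
theorem L17559 : sm gb N1014 = N927 := trf L17172 L9215 rfl
theorem L17560 : sm gb N927 = N1014 := flp_b L17559
theorem L17620 : sm gg N296 = N464 := trf L12536 L4742 rfl
theorem L17621 : sm gg N464 = N296 := flp_g L17620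
theorem L17623 : sm gg N592 = N947 := trf L12527 L9516 rfl
theorem L17624 : sm gg N947 = N592 := flp_g L17623
theorem L17633 : sm ga N1454 = N1533 := trf L12446 L9194 L12271
theorem L17634 : sm ga N1533 = N1454 := flp_a L17633
theorem L17635 : sm ge N1454 = N744 := trf L12446 L7446 rfl
theorem L17636 : sm ge N744 = N1454 := flp_e L17635
theorem L17638 : sm gg N1454 = N924 := trf L12446 L7449 rfl
theorem L17639 : sm gg N924 = N1454 := flp_g L17638
theorem L17644 : sm ga N781 = N728 := trf L12425 L7220 rfl
theorem L17645 : sm ga N728 = N781 := flp_a L17644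
theorem L17647 : sm gb N247 = N445 := trf L12418 L4519 rfl
theorem L17648 : sm gb N445 = N247 := flp_b L17647
theorem L17649 : sm ga N727 = N916 := trf L12408 L4544 rfl
theorem L17650 : sm ga N916 = N727 := flp_a L17649
theorem L17651 : sm gb N727 = N1471 := trf L12408 L7434 rfl
theorem L17652 : N1471 = N1452 := eqe L17651 L7352
theorem L17653 : N1471 = N1452 := eqc rfl L17652 rfl
theorem L17656 : sm ge N727 = N362 := trf L12408 L3561 rfl
theorem L17657 : sm ge N362 = N727 := flp_e L17656
theorem L17664 : N780 = N727 := L12275.trans L12408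
theorem L17665 : sm ge N1452 = N743 := trf L17653 L7436 rfl
theorem L17666 : sm ge N743 = N1452 := flp_e L17665
theorem L17669 : sm gg N1453 = N778 := trf L12398 L12394 rfl
theorem L17670 : sm gg N778 = N1453 := flp_g L17669
theorem L17673 : sm ga N636 = N1638 := trf L12350 L8333 rfl
theorem L17674 : N1638 = N1285 := eqe L17673 L6479
theorem L17675 : N1638 = N1285 := eqc rfl L17674 rfl
theorem L17676 : sm gd N636 = N454 := trf L12350 L4062 rfl
theorem L17677 : sm gd N454 = N636 := flp_d L17676
theorem L17681 : sm gf N636 = N1639 := trf L12350 L8337 rfl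
theorem L17682 : N1639 = N1280 := eqe L17681 L6466
theorem L17683 : N1639 = N1280 := eqc rfl L17682 rfl
theorem L17684 : sm gg N636 = N1640 := trf L12350 L8341 rfl
theorem L17685 : N1640 = N1288 := eqe L17684 L6490
theorem L17686 : N1640 = N1288 := eqc rfl L17685 rfl
theorem L17687 : sm gb N1288 = N1486 := trf L17686 L8345 rfl
theorem L17688 : sm gb N1486 = N1288 := flp_b L17687
theorem L17689 : sm gd N1288 = N937 := trf L17686 L8343 rfl
theorem L17690 : sm gd N937 = N1288 := flp_d L17689
theorem L17691 : sm gd N1280 = N936 := trf L17683 L8339 rfl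
theorem L17692 : sm gd N936 = N1280 := flp_d L17691
theorem L17694 : sm gd N1285 = N935 := trf L17675 L8335 rfl
theorem L17695 : sm gd N935 = N1285 := flp_d L17694
theorem L17696 : sm gd N455 = N590 := trf L12339 L6091 rfl
theorem L17697 : sm gd N590 = N455 := flp_d L17696
theorem L17704 : sm gd N1197 = N938 := trf L12333 L8349 rfl
theorem L17705 : sm gd N938 = N1197 := flp_d L17704
theorem L17714 : sm ga N229 = N314 := trf L12303 L3098 rfl
theorem L17715 : sm ga N314 = N229 := flp_a L17714
theorem L17721 : sm ga N923 = N778 := trf L12300 L7634 rfl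
theorem L17722 : sm ga N778 = N923 := flp_a L17721
theorem L17723 : sm gc N923 = N1453 := trf L12300 L7636 rfl
theorem L17724 : sm gc N1453 = N923 := flp_c L17723
theorem L17725 : sm ga N226 = N192 := trf L12297 L1832 rfl
theorem L17726 : sm ga N192 = N226 := flp_a L17725
theorem L17730 : sm ga N377 = N448 := trf L12291 L4030 rfl
theorem L17731 : sm ga N448 = N377 := flp_a L17730
theorem L17733 : sm ga N455 = N590 := trf L12285 L6086 rfl
theorem L17734 : sm ga N590 = N455 := flp_a L17733
theorem L17737 : sm ga N779 = N924 := trf L12281 L8275 rfl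
theorem L17738 : sm ga N924 = N779 := flp_a L17737
theorem L17745 : sm gg N727 = N377 := trf L17664 L3772 rfl
theorem L17746 : sm gg N377 = N727 := flp_g L17745
theorem L17753 : sm ge N1533 = N940 := trf L12271 L9197 rfl
theorem L17754 : sm ge N940 = N1533 := flp_e L17753
theorem L17755 : sm gf N1533 = N916 := trf L12271 L9192 rfl
theorem L17756 : sm gf N916 = N1533 := flp_f L17755
theorem L17759 : sm gf N781 = N445 := trf L12256 L4550 rfl
theorem L17760 : sm gf N445 = N781 := flp_f L17759
theorem L17763 : sm ge N459 = N781 := trf L12244 L3782 rfl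
theorem L17764 : sm ge N781 = N459 := flp_e L17763
theorem L17766 : sm gg N459 = N290 := trf L12244 L2897 rfl
theorem L17767 : sm gg N290 = N459 := flp_g L17766
theorem L17768 : sm gg N362 = N314 := trf L12234 L3111 rfl
theorem L17769 : sm gg N314 = N362 := flp_g L17768
theorem L17775 : sm ga N163 = N122 := trf L12209 L1074 rfl
theorem L17776 : sm ga N122 = N163 := flp_a L17775
theorem L17777 : sm gg N163 = N185 := trf L12209 L1076 rfl
theorem L17778 : sm gg N185 = N163 := flp_g L17777
theorem L17779 : sm gb N63 = N95 := trf L12206 L872 rfl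
theorem L17780 : sm gb N95 = N63 := flp_b L17779
theorem L17781 : sm gc N63 = N91 := trf L12206 L869 rfl
theorem L17782 : sm gc N91 = N63 := flp_c L17781
theorem L17786 : sm gb N38 = N55 := trf L12192 L514 rfl
theorem L17787 : sm gb N55 = N38 := flp_b L17786
theorem L17788 : sm gc N38 = N53 := trf L12192 L513 rfl
theorem L17789 : sm gc N53 = N38 := flp_c L17788
theorem L17793 : sm gc N153 = N113 := trf L12179 L1082 rfl
theorem L17794 : sm gc N113 = N153 := flp_c L17793
theorem L17798 : sm gc N64 = N86 := trf L12175 L843 rfl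
theorem L17799 : sm gc N86 = N64 := flp_c L17798
theorem L17804 : sm gg N234 = N153 := trf L12164 L1496 rfl
theorem L17805 : sm gg N153 = N234 := flp_g L17804
theorem L17807 : sm gd N239 = N382 := trf L12156 L1893 rfl
theorem L17808 : sm gd N382 = N239 := flp_d L17807
theorem L17809 : sm gg N239 = N159 := trf L12156 L1527 rfl
theorem L17810 : sm gg N159 = N239 := flp_g L17809
theorem L17821 : sm gg N57 = N53 := trf L12139 L517 rfl
theorem L17822 : sm gg N53 = N57 := flp_g L17821
theorem L17828 : sm gc N227 = N380 := trf L12107 L3529 rfl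
theorem L17829 : sm gc N380 = N227 := flp_c L17828
theorem L17840 : sm gc N195 = N121 := trf L12101 L1182 rfl
theorem L17841 : sm gc N121 = N195 := flp_c L17840
theorem L17842 : sm gd N195 = N127 := trf L12101 L1184 rfl
theorem L17843 : sm gd N127 = N195 := flp_d L17842
theorem L17844 : sm gf N195 = N119 := trf L12101 L1179 rfl
theorem L17845 : sm gf N119 = N195 := flp_f L17844
theorem L17864 : sm ga N60 = N66 := trf L12070 L603 rfl
theorem L17865 : sm ga N66 = N60 := flp_a L17864
theorem L17868 : sm gd N57 = N99 := trf L12067 L937 rfl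
theorem L17869 : sm gd N99 = N57 := flp_d L17868
theorem L17872 : sm gb N119 = N74 := trf L12064 L713 rfl
theorem L17873 : sm gb N74 = N119 := flp_b L17872
theorem L17876 : sm ga N353 = N445 := trf L12053 L2212 rfl
theorem L17877 : sm ga N445 = N353 := flp_a L17876
theorem L17878 : sm ge N353 = N185 := trf L12053 L1774 rfl
theorem L17879 : sm ge N185 = N353 := flp_e L17878
theorem L17895 : sm gg N192 = N353 := trf L16553 L3516 rfl
theorem L17896 : sm gg N353 = N192 := flp_g L17895
theorem L17901 : sm gg N180 = N105 := trf L12061 L1009 rfl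
theorem L17902 : sm gg N105 = N180 := flp_g L17901
theorem L17909 : sm gg N99 = N60 := trf L12018 L584 rfl
theorem L17910 : sm gg N60 = N99 := flp_g L17909
theorem L17914 : sm ga N181 = N195 := trf L12006 L1022 rfl
theorem L17915 : sm ga N195 = N181 := flp_a L17914
theorem L17927 : sm ga N121 = N106 := trf L11994 L986 rfl
theorem L17928 : sm ga N106 = N121 := flp_a L17927
theorem L17945 : sm gb N224 = N131 := trf L11972 L1266 rfl
theorem L17946 : sm gb N131 = N224 := flp_b L17945
theorem L18029 : sm ge N1456 = N745 := trf L11767 L7454 rfl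
theorem L18030 : sm ge N745 = N1456 := flp_e L18029
theorem L18031 : sm gg N354 = N227 := trf L11761 L1781 rfl
theorem L18032 : sm gg N227 = N354 := flp_g L18031
theorem L18034 : sm gd N465 = N366 := trf L17003 L3583 rfl
theorem L18035 : sm gd N366 = N465 := flp_d L18034
theorem L18040 : sm gd N356 = N187 := trf L11716 L1784 rfl
theorem L18041 : sm gd N187 = N356 := flp_d L18040
theorem L18042 : sm gd N102 = N181 := trf L12088 L1730 rfl
theorem L18043 : sm gd N181 = N102 := flp_d L18042
theorem L18051 : sm ga N354 = N380 := trf L12263 L1884 rfl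
theorem L18052 : sm ga N380 = N354 := flp_a L18051
theorem L18057 : sm ga N227 = N193 := trf L11657 L1838 rfl
theorem L18058 : sm ga N193 = N227 := flp_a L18057
theorem L18061 : sm ga N449 = N378 := trf L11648 L3715 rfl
theorem L18062 : sm ga N378 = N449 := flp_a L18061
theorem L18064 : sm ga N230 = N290 := trf L11642 L2887 rfl
theorem L18065 : sm ga N290 = N230 := flp_a L18064
theorem L18067 : sm ga N123 = N153 := trf L11633 L1483 rfl
theorem L18068 : sm ga N153 = N123 := flp_a L18067
theorem L18072 : sm ga N68 = N86 := trf L11621 L839 rfl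
theorem L18073 : sm ga N86 = N68 := flp_a L18072
theorem L18080 : sm gb N472 = N467 := trf L13560 L4758 rfl
theorem L18081 : sm gb N467 = N472 := flp_b L18080
theorem L18092 : sm gb N497 = N436 := trf L11583 L4470 rfl
theorem L18093 : sm gb N436 = N497 := flp_b L18092
theorem L18095 : sm gb N1015 = N893 := trf L11573 L8948 rfl
theorem L18096 : sm gb N893 = N1015 := flp_b L18095
theorem L18098 : sm gb N849 = N746 := trf L11547 L7521 rfl
theorem L18099 : sm gb N746 = N849 := flp_b L18098
theorem L18104 : sm gb N412 = N365 := trf L11530 L3614 rfl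
theorem L18105 : sm gb N365 = N412 := flp_b L18104
theorem L18129 : sm ga N730 = N863 := trf L11502 L8645 rfl
theorem L18130 : sm ga N863 = N730 := flp_a L18129
theorem L18135 : sm ga N420 = N356 := trf L11493 L3546 rfl
theorem L18136 : sm ga N356 = N420 := flp_a L18135
theorem L18140 : sm gc N420 = N436 := trf L11493 L3547 rfl
theorem L18141 : sm gc N436 = N420 := flp_c L18140
theorem L18142 : sm gf N420 = N365 := trf L11493 L3549 rfl
theorem L18143 : sm gf N365 = N420 := flp_f L18142
theorem L18154 : sm ga N119 = N99 := trf L12117 L933 rfl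
theorem L18155 : sm ga N99 = N119 := flp_a L18154
theorem L18162 : sm ga N224 = N180 := trf L12012 L1706 rfl
theorem L18163 : sm ga N180 = N224 := flp_a L18162
theorem L18173 : N1673 = N877 := L10949.trans L11276
theorem L18177 : sm gf N875 = N850 := trf L16767 L8541 rfl
theorem L18178 : sm gf N850 = N875 := flp_f L18177
theorem L18207 : sm ga N67 = N91 := trf L11361 L865 rfl
theorem L18208 : sm ga N91 = N67 := flp_a L18207
theorem L18214 : sm ga N40 = N53 := trf L11347 L511 rfl
theorem L18215 : sm ga N53 = N40 := flp_a L18214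
theorem L18222 : sm ga N305 = N282 := trf L13166 L2798 rfl
theorem L18223 : sm ga N282 = N305 := flp_a L18222
theorem L18224 : sm gg N305 = N280 := trf L13166 L2797 rfl
theorem L18225 : sm gg N280 = N305 := flp_g L18224
theorem L18229 : sm gg N420 = N566 := trf L11303 L5908 rfl
theorem L18230 : sm gg N566 = N420 := flp_g L18229
theorem L18233 : sm gd N365 = N420 := trf L11748 L4204 rfl
theorem L18234 : sm gd N420 = N365 := flp_d L18233
theorem L18240 : sm gb N215 = N133 := trf L11279 L1299 rfl
theorem L18241 : sm gb N133 = N215 := flp_b L18240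
theorem L18247 : sm gb N222 = N305 := trf L11273 L1537 rfl
theorem L18248 : sm gb N305 = N222 := flp_b L18247
theorem L18249 : sm gb N511 = N428 := trf L14001 L4396 rfl
theorem L18250 : sm gb N428 = N511 := flp_b L18249
theorem L18261 : sm gf N426 = N413 := trf L11267 L4173 rfl
theorem L18262 : sm gf N413 = N426 := flp_f L18261
theorem L18264 : sm ga N849 = N423 := trf L11261 L4188 rfl
theorem L18265 : sm ga N423 = N849 := flp_a L18264
theorem L18266 : sm gc N849 = N423 := trf L11261 L4190 rfl
theorem L18267 : sm gc N423 = N849 := flp_c L18266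
theorem L18271 : sm ga N214 = N412 := trf L11251 L4120 rfl
theorem L18272 : sm ga N412 = N214 := flp_a L18271
theorem L18274 : sm gc N214 = N412 := trf L11251 L4122 rfl
theorem L18275 : sm gc N412 = N214 := flp_c L18274
theorem L18278 : sm ga N411 = N213 := trf L11245 L2052 rfl
theorem L18279 : sm ga N213 = N411 := flp_a L18278
theorem L18280 : sm gc N411 = N213 := trf L11245 L2054 rfl
theorem L18281 : sm gc N213 = N411 := flp_c L18280
theorem L18310 : sm gb N220 = N426 := trf L14012 L4382 rfl
theorem L18311 : sm gb N426 = N220 := flp_b L18310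
theorem L18315 : sm gb N433 = N875 := trf L13958 L8790 rfl
theorem L18316 : sm gb N875 = N433 := flp_b L18315
theorem L18325 : sm ga N120 = N105 := trf L11170 L982 rfl
theorem L18326 : sm ga N105 = N120 := flp_a L18325
theorem L18331 : sm gf N224 = N380 := trf L11132 L1880 rfl
theorem L18332 : sm gf N380 = N224 := flp_f L18331
theorem L18345 : sm ga N208 = N115 := trf L11011 L1093 rfl
theorem L18346 : sm ga N115 = N208 := flp_a L18345
theorem L18347 : sm gc N208 = N115 := trf L11011 L1096 rfl
theorem L18348 : sm gc N115 = N208 := flp_c L18347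
theorem L18349 : sm gd N208 = N114 := trf L11011 L1092 rfl
theorem L18350 : sm gd N114 = N208 := flp_d L18349
theorem L18353 : sm gd N421 = N853 := trf L16779 L8492 rfl
theorem L18354 : sm gd N853 = N421 := flp_d L18353
theorem L18358 : sm ga N1674 = N1674 := trf L10962 L10234 L10962
theorem L18364 : sm gg N877 = N849 := trf L18173 L8529 rfl
theorem L18365 : sm gg N849 = N877 := flp_g L18364
theorem L18375 : sm ga N424 = N850 := trf L13947 L8438 rfl
theorem L18376 : sm ga N850 = N424 := flp_a L18375
theorem L18377 : sm gc N424 = N850 := trf L13947 L8440 rfl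
theorem L18378 : sm gc N850 = N424 := flp_c L18377
theorem L18380 : sm gc N1674 = N864 := trf L10905 L8671 rfl
theorem L18381 : sm gc N864 = N1674 := flp_c L18380
theorem L18386 : sm ga N215 = N413 := trf L16912 L4126 rfl
theorem L18387 : sm ga N413 = N215 := flp_a L18386
theorem L18388 : sm gc N215 = N413 := trf L16912 L4128 rfl
theorem L18389 : sm gc N413 = N215 := flp_c L18388
theorem L18391 : sm gc N853 = N421 := trf L10891 L4318 rfl
theorem L18392 : sm gc N421 = N853 := flp_c L18391
theorem L18402 : sm gg N428 = N412 := trf L11297 L4165 rfl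
theorem L18403 : sm gg N412 = N428 := flp_g L18402
theorem L18414 : sm gf N1488 = N1695 := ded_23_2 L8638 L11560 L7511
theorem L18415 : sm gf N1695 = N1488 := flp_f L18414
theorem L18416 : sm ge N1823 = N1525 := ded_15_2 L7722 L12388 L9262
theorem L18417 : sm ge N1525 = N1823 := flp_e L18416
theorem L18418 : sm ge N1826 = N1530 := ded_25_3 L7747 L12388 L9271
theorem L18419 : sm ge N1530 = N1826 := flp_e L18418
theorem L18420 : sm gg N1865 = N1456 := ded_17_4 L7367 L12452 L4589 L17075 L9443
theorem L18421 : sm gg N1456 = N1865 := flp_g L18420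
theorem L18422 : sm gg N1895 = N1228 := ded_12_2 L6206 L12837 L9585
theorem L18423 : sm gg N1228 = N1895 := flp_g L18422
theorem L18424 : sm gg N1897 = N1230 := ded_24_2 L6219 L12837 L9596
theorem L18425 : sm gg N1230 = N1897 := flp_g L18424
theorem L18426 : sm gg N1231 = N1152 := ded_29_3 L5813 L17359 L12838 L6221
theorem L18427 : sm gg N1152 = N1231 := flp_g L18426
theorem L18428 : sm ga N1155 = N1231 := ded_29_4 L6222 L12837 L17358 L5828
theorem L18429 : sm ga N1231 = N1155 := flp_a L18428
theorem L18430 : sm gf N1228 = N1155 := ded_29_0 L5829 L17359 L12838 L6207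
theorem L18431 : sm gf N1155 = N1228 := flp_f L18430
theorem L18432 : sm gf N1895 = N1152 := ded_27_5 L18427 L6222 L12837 L17358 L5828 L18431 L18423
theorem L18433 : sm gf N1152 = N1895 := flp_f L18432
theorem L18434 : sm gb N1895 = N1152 := ded_31_11 L18427 L6222 L2946 L12837 L17358 L2772 L5828 L18431 L10564 L10559 L5196 L15570 L18426 L18433
theorem L18435 : sm gb N1152 = N1895 := flp_b L18434
theorem L18436 : sm gg N1260 = N1934 := ded_12_2 L9787 L12853 L6382
theorem L18437 : sm gg N1934 = N1260 := flp_g L18436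
theorem L18438 : N1262 = N1170 := coi_21_2 L5935 L17366 L12853 L6391
theorem L18439 : N1262 = N1170 := eqc rfl L18438 rfl
theorem L18440 : sm gc N1170 = N621 := trf L18439 L6392 rfl
theorem L18441 : sm gc N621 = N1170 := flp_c L18440
theorem L18442 : sm gg N1263 = N1938 := ded_26_2 L9803 L12853 L6393
theorem L18443 : sm gg N1938 = N1263 := flp_g L18442
theorem L18444 : sm gf N1260 = N1170 := ded_29_0 L5935 L17364 L12853 L6382
theorem L18445 : sm gf N1170 = N1260 := flp_f L18444
theorem L18446 : sm ga N1170 = N1264 := ded_29_4 L6397 L12854 L17363 L5934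
theorem L18447 : sm ga N1264 = N1170 := flp_a L18446
theorem L18448 : sm gg N1264 = N1167 := ded_29_3 L5921 L17364 L12853 L6396
theorem L18449 : sm gg N1167 = N1264 := flp_g L18448
theorem L18450 : sm gf N1934 = N1167 := ded_29_0 L18449 L6397 L12854 L9788
theorem L18451 : sm gf N1167 = N1934 := flp_f L18450
theorem L18452 : sm gb N1934 = N1167 := ded_31_11 L18449 L6397 L3028 L12854 L17363 L2804 L5934 L18445 L10631 L10628 L5277 L15585 L18448 L18451
theorem L18453 : sm gb N1167 = N1934 := flp_b L18452
theorem L18454 : sm gf N1272 = N1171 := ded_31_7 L5939 L2806 L13210 L2345 L1255 L1254 L2346 L12863 L3029 L17427 L5278 L15413 L6442 L6446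
theorem L18455 : sm gf N1171 = N1272 := flp_f L18454
theorem L18456 : sm gf N1147 = N1208 := ded_23_2 L6106 L13256 L5796
theorem L18457 : sm gf N1208 = N1147 := flp_f L18456
theorem L18458 : sm gc N1264 = N1260 := ded_28_0 L6380 L3017 L2542 L17277 L2480 L2808 L5937 L18446
theorem L18459 : sm gc N1260 = N1264 := flp_c L18458
theorem L18460 : sm ge N1695 = N1488 := ded_22_4 L7510 L3603 L18233 L4229 L8639
theorem L18461 : sm ge N1488 = N1695 := flp_e L18460
theorem L18462 : sm ge N1870 = N1750 := ded_10_2 L8912 L8744 L13615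
theorem L18463 : sm ge N1750 = N1870 := flp_e L18462
theorem L18464 : sm ga N1829 = N1869 := ded_8_3 L9463 L13620 L9285
theorem L18465 : sm ga N1869 = N1829 := flp_a L18464
theorem L18466 : sm gc N1167 = N1934 := ded_28_4 L9786 L4781 L17553 L17293 L17294 L2468 L2792 L5919
theorem L18467 : sm gc N1934 = N1167 := flp_c L18466
theorem L18468 : sm gc N1861 = N1136 := ded_8_2 L5752 L15157 L9427
theorem L18469 : sm gc N1136 = N1861 := flp_c L18468
theorem L18470 : sm gc N1863 = N1138 := ded_20_3 L5758 L15157 L9435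
theorem L18471 : sm gc N1138 = N1863 := flp_c L18470
theorem L18472 : sm gc N1856 = N1139 := ded_21_3 L5760 L15157 L9412
theorem L18473 : sm gc N1139 = N1856 := flp_c L18472
theorem L18474 : sm ga N1271 = N2078 := ded_9_3 L10629 L15410 L6441
theorem L18475 : sm ga N2078 = N1271 := flp_a L18474
theorem L18476 : sm ga N1236 = N2063 := ded_10_3 L10562 L15410 L6261
theorem L18477 : sm ga N2063 = N1236 := flp_a L18476
theorem L18478 : sm ga N1272 = N1272 := ded_7_3 L6443 L15411 L5283 L3018 L1533 L3019 L5282 L15410 L6442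
theorem L18479 : sm gf N1271 = N2078 := ded_23_2 L10629 L15413 L6441
theorem L18480 : sm gf N2078 = N1271 := flp_f L18479
theorem L18481 : sm gf N1236 = N2063 := ded_25_2 L10562 L15413 L6261
theorem L18482 : sm gf N2063 = N1236 := flp_f L18481
theorem L18483 : sm ga N1212 = N2052 := ded_8_3 L10486 L15440 L6121
theorem L18484 : sm ga N2052 = N1212 := flp_a L18483
theorem L18485 : sm ga N1213 = N2053 := ded_12_3 L10491 L15440 L6124
theorem L18486 : sm ga N2053 = N1213 := flp_a L18485
theorem L18487 : sm gf N1213 = N2053 := ded_29_2 L10491 L15440 L2908 L6124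
theorem L18488 : sm gf N2053 = N1213 := flp_f L18487
theorem L18489 : sm gb N1208 = N2048 := ded_7_6 L10461 L5161 L2523 L5166 L15440 L2905 L1476 L2900 L6104
theorem L18490 : sm gb N2048 = N1208 := flp_b L18489
theorem L18491 : sm ga N1235 = N2062 := ded_9_3 L10556 L15562 L6252
theorem L18493 : sm ga N1269 = N2076 := ded_8_3 L10622 L15577 L6431
theorem L18494 : sm ga N2076 = N1269 := flp_a L18493
theorem L18497 : sm gd N1269 = N1269 := ded_28_1 L6432 L3053 L1542 L1340 L2556 L5275 L15577 L6431
theorem L18498 : sm gd N2076 = N2076 := ded_28_1 L10622 L5276 L2557 L1339 L1541 L3052 L15578 L10621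
theorem L18499 : sm ga N1171 = N1171 := ded_7_7 L5939 L17386 L17427 L15592 L1544 L15593 L17428 L17387 L5938
theorem L18500 : sm gb N1870 = N1878 := ded_14_3 L9511 L15813 L9470
theorem L18501 : sm gb N1878 = N1870 := flp_b L18500
theorem L18502 : sm gg N1878 = N1208 := ded_31_9 L18457 L6129 L6125 L2908 L2905 L1480 L1415 L15865 L1207 L1202 L2269 L4665 L9465 L18500
theorem L18503 : sm gg N1208 = N1878 := flp_g L18502
theorem L18504 : sm ga N1696 = N1696 := ded_9_3 L8642 L16812 L8643
theorem L18505 : sm gb N1488 = N1670 := ded_7_0 L16864 L8739 L13615 L18500 L9510 L4680 L2279 L3595 L7508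
theorem L18506 : sm gb N1670 = N1488 := flp_b L18505
theorem L18507 : sm gc N1748 = N1144 := ded_13_4 L5786 L2754 L16889 L4412 L8901
theorem L18508 : sm gc N1144 = N1748 := flp_c L18507
theorem L18509 : sm ge N1490 = N1865 := ded_15_2 L9444 L17072 L7519
theorem L18510 : sm ge N1865 = N1490 := flp_e L18509
theorem L18511 : sm ge N1869 = N1866 := ded_19_2 L9448 L17072 L9464
theorem L18512 : sm ge N1866 = N1869 := flp_e L18511
theorem L18513 : sm gg N1829 = N1866 := ded_21_2 L9448 L17074 L9285
theorem L18514 : sm gg N1866 = N1829 := flp_g L18513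
theorem L18515 : sm gf N1834 = N1865 := ded_23_2 L9445 L17123 L9313
theorem L18516 : sm gf N1865 = N1834 := flp_f L18515
theorem L18517 : sm ga N1490 = N1834 := ded_9_3 L9314 L17136 L7517
theorem L18518 : sm ga N1834 = N1490 := flp_a L18517
theorem L18519 : sm gg N1834 = N1488 := ded_24_2 L7510 L17150 L9313
theorem L18520 : sm gg N1488 = N1834 := flp_g L18519
theorem L18521 : sm ga N2001 = N2050 := ded_9_3 L17221 L17236 L10185
theorem L18522 : sm ga N2050 = N2001 := flp_a L18521
theorem L18523 : sm gg N1999 = N2050 := ded_24_0 L17221 L17249 L10175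
theorem L18524 : sm gg N2050 = N1999 := flp_g L18523
theorem L18525 : sm ge N2007 = N1878 := ded_10_2 L9510 L17558 L17242
theorem L18526 : sm ge N1878 = N2007 := flp_e L18525
theorem L18527 : sm gg N2007 = N2048 := ded_12_2 L10461 L7791 L17242
theorem L18528 : sm gg N2048 = N2007 := flp_g L18527
theorem L18529 : sm gf N2001 = N2048 := ded_29_2 L18528 L17243 L17244 L10182
theorem L18530 : sm gf N2048 = N2001 := flp_f L18529
theorem L18531 : sm ga N1147 = N1210 := ded_9_3 L6112 L17331 L5796
theorem L18532 : sm ga N1210 = N1147 := flp_a L18531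
theorem L18533 : sm gf N1878 = N1145 := ded_11_2 L5788 L17343 L9509
theorem L18534 : sm gf N1145 = N1878 := flp_f L18533
theorem L18535 : sm gf N1879 = N1146 := ded_20_2 L5792 L17343 L9513
theorem L18536 : sm gf N1146 = N1879 := flp_f L18535
theorem L18537 : sm gg N1210 = N1145 := ded_29_3 L5788 L17343 L17624 L6110
theorem L18538 : sm gg N1145 = N1210 := flp_g L18537
theorem L18539 : sm gf N1154 = N1897 := ded_23_2 L9597 L17358 L5825
theorem L18541 : sm gf N1169 = N1938 := ded_25_2 L9803 L17363 L5931
theorem L18543 : sm gc N1938 = N1169 := ded_19_3 L5932 L17366 L9802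
theorem L18545 : sm gb N1834 = N1999 := ded_14_3 L10174 L17559 L9313
theorem L18546 : sm gb N1999 = N1834 := flp_b L18545
theorem L18547 : sm gg N1879 = N1209 := ded_21_2 L6109 L17623 L9513
theorem L18548 : sm gg N1209 = N1879 := flp_g L18547
theorem L18549 : sm gb N1750 = N2007 := ded_31_8 L18527 L18530 L10497 L10491 L5172 L5167 L2528 L2443 L17647 L2213 L2235 L4589 L17075 L8916
theorem L18550 : sm gb N2007 = N1750 := flp_b L18549
theorem L18551 : sm ga N1530 = N1826 := ded_11_3 L9272 L17721 L7746
theorem L18552 : sm ga N1826 = N1530 := flp_a L18551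
theorem L18553 : sm ga N1695 = N1456 := ded_10_3 L18029 L7508 L18461
theorem L18554 : sm ga N1456 = N1695 := flp_a L18553
theorem L18555 : sm gb N1136 = N2104 := rfl
theorem L18556 : sm gb N2104 = N1136 := flp_b L18555
theorem L18557 : sm gd N1136 = N2105 := rfl
theorem L18558 : sm gd N2105 = N1136 := flp_d L18557
theorem L18559 : sm ga N2105 = N1137 := ded_9_1 L5754 L5751 L18557
theorem L18560 : sm ga N1137 = N2105 := flp_a L18559
theorem L18561 : sm gf N1136 = N2106 := rfl
theorem L18562 : sm gf N2106 = N1136 := flp_f L18561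
theorem L18563 : sm ga N2106 = N1138 := ded_11_1 L5758 L5751 L18561
theorem L18564 : sm ga N1138 = N2106 := flp_a L18563
theorem L18565 : sm gg N1136 = N2107 := rfl
theorem L18566 : sm gg N2107 = N1136 := flp_g L18565
theorem L18567 : sm ga N2107 = N1139 := ded_12_1 L5760 L5751 L18565
theorem L18568 : sm ga N1139 = N2107 := flp_a L18567
theorem L18569 : sm gc N1137 = N2108 := rfl
theorem L18570 : sm gc N2108 = N1137 := flp_c L18569
theorem L18571 : sm gb N2108 = N1182 := ded_13_1 L5994 L2847 L2742 L5756 L18569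
theorem L18572 : sm gb N1182 = N2108 := flp_b L18571
theorem L18573 : sm ge N1137 = N2109 := rfl
theorem L18574 : sm ge N2109 = N1137 := flp_e L18573
theorem L18575 : sm gb N2109 = N1140 := ded_15_1 L5762 L5756 L18573
theorem L18576 : sm gb N1140 = N2109 := flp_b L18575
theorem L18577 : sm gf N1137 = N2110 := rfl
theorem L18578 : sm gf N2110 = N1137 := flp_f L18577
theorem L18579 : sm gd N2110 = N1138 := ded_23_1 L5758 L5753 L18577
theorem L18580 : sm gd N1138 = N2110 := flp_d L18579
theorem L18581 : sm gg N1137 = N2111 := rfl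
theorem L18582 : sm gg N2111 = N1137 := flp_g L18581
theorem L18583 : sm gd N2111 = N1139 := ded_24_1 L5760 L5753 L18581
theorem L18584 : sm gd N1139 = N2111 := flp_d L18583
theorem L18585 : sm gb N1138 = N2112 := rfl
theorem L18586 : sm gb N2112 = N1138 := flp_b L18585
theorem L18587 : sm gf N2112 = N1143 := ded_16_2 L5784 L2745 L2736 L5757 L18585
theorem L18588 : sm gf N1143 = N2112 := flp_f L18587
theorem L18589 : sm gg N1138 = N2113 := rfl
theorem L18590 : sm gg N2113 = N1138 := flp_g L18589
theorem L18591 : sm gf N2107 = N2113 := ded_29_0 L18590 L5758 L5759 L18568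
theorem L18592 : sm gf N2113 = N2107 := flp_f L18591
theorem L18593 : sm gb N1139 = N2114 := rfl
theorem L18594 : sm gb N2114 = N1139 := flp_b L18593
theorem L18595 : sm gg N2114 = N1144 := ded_17_2 L5786 L2751 L2736 L5759 L18593
theorem L18596 : sm gg N1144 = N2114 := flp_g L18595
theorem L18597 : sm gf N1139 = N2115 := rfl
theorem L18598 : sm gf N2115 = N1139 := flp_f L18597
theorem L18599 : sm ga N2115 = N2113 := ded_11_1 L18592 L18567 L18597
theorem L18600 : sm ga N2113 = N2115 := flp_a L18599
theorem L18601 : sm gg N2115 = N2106 := ded_29_3 L18563 L5758 L5759 L18597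
theorem L18602 : sm gg N2106 = N2115 := flp_g L18601
theorem L18603 : sm gf N1140 = N2116 := rfl
theorem L18604 : sm gf N2116 = N1140 := flp_f L18603
theorem L18605 : sm ga N2116 = N1190 := ded_11_1 L6031 L5764 L18603
theorem L18606 : sm ga N1190 = N2116 := flp_a L18605
theorem L18607 : sm gc N2116 = N1190 := ded_20_1 L6031 L5766 L18603
theorem L18608 : sm gc N1190 = N2116 := flp_c L18607
theorem L18609 : sm ge N2116 = N1141 := ded_25_1 L5768 L5761 L18603
theorem L18610 : sm ge N1141 = N2116 := flp_e L18609
theorem L18611 : sm gg N1140 = N2117 := rfl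
theorem L18612 : sm gg N2117 = N1140 := flp_g L18611
theorem L18613 : sm ga N2117 = N1191 := ded_12_1 L6035 L5764 L18611
theorem L18614 : sm ga N1191 = N2117 := flp_a L18613
theorem L18615 : sm gc N2117 = N1191 := ded_21_1 L6035 L5766 L18611
theorem L18616 : sm gc N1191 = N2117 := flp_c L18615
theorem L18617 : sm ge N2117 = N1142 := ded_26_1 L5776 L5761 L18611
theorem L18618 : sm ge N1142 = N2117 := flp_e L18617
theorem L18619 : sm gb N1141 = N2118 := rfl
theorem L18620 : sm gb N2118 = N1141 := flp_b L18619
theorem L18621 : sm gd N2118 = N1143 := ded_14_2 L5784 L5774 L18619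
theorem L18622 : sm gd N1143 = N2118 := flp_d L18621
theorem L18623 : sm gb N1142 = N2119 := rfl
theorem L18624 : sm gb N2119 = N1142 := flp_b L18623
theorem L18625 : sm gd N2119 = N1144 := ded_14_2 L5786 L5782 L18623
theorem L18626 : sm gd N1144 = N2119 := flp_d L18625
theorem L18627 : sm ga N1143 = N2120 := rfl
theorem L18628 : sm ga N2120 = N1143 := flp_a L18627
theorem L18629 : sm gc N1143 = N2121 := rfl
theorem L18630 : sm gc N2121 = N1143 := flp_c L18629
theorem L18631 : sm gb N2121 = N1146 := ded_13_1 L5792 L2757 L2749 L5783 L18629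
theorem L18632 : sm gb N1146 = N2121 := flp_b L18631
theorem L18633 : sm gg N1143 = N2122 := rfl
theorem L18634 : sm gg N2122 = N1143 := flp_g L18633
theorem L18635 : sm ga N1144 = N2123 := rfl
theorem L18636 : sm ga N2123 = N1144 := flp_a L18635
theorem L18637 : sm gf N1144 = N2124 := rfl
theorem L18638 : sm gf N2124 = N1144 := flp_f L18637
theorem L18639 : sm gb N1145 = N2125 := rfl
theorem L18640 : sm gb N2125 = N1145 := flp_b L18639
theorem L18641 : sm gd N2125 = N1151 := ded_14_2 L5808 L5790 L18639
theorem L18642 : sm gd N1151 = N2125 := flp_d L18641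
theorem L18643 : sm ge N2125 = N1834 := ded_15_2 L18545 L10176 L18639
theorem L18644 : sm ge N1834 = N2125 := flp_e L18643
theorem L18645 : sm gf N2125 = N1490 := ded_16_2 L7518 L9465 L18500 L18533 L18639
theorem L18646 : sm gf N1490 = N2125 := flp_f L18645
theorem L18647 : sm gg N2125 = N1695 := ded_17_2 L8637 L4438 L16895 L18537 L18639
theorem L18648 : sm gg N1695 = N2125 := flp_g L18647
theorem L18649 : sm ga N2125 = N1865 := ded_7_1 L9444 L4660 L2270 L18064 L1463 L1417 L2756 L5787 L18639
theorem L18650 : sm ga N1865 = N2125 := flp_a L18649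
theorem L18651 : sm gc N1145 = N2126 := rfl
theorem L18652 : sm gc N2126 = N1145 := flp_c L18651
theorem L18653 : sm ga N2126 = N1146 := ded_8_1 L5792 L5787 L18651
theorem L18654 : sm ga N1146 = N2126 := flp_a L18653
theorem L18655 : sm gd N1146 = N2127 := rfl
theorem L18656 : sm gd N2127 = N1146 := flp_d L18655
theorem L18657 : sm gg N1146 = N2128 := rfl
theorem L18658 : sm gg N2128 = N1146 := flp_g L18657
theorem L18659 : sm gc N2128 = N1147 := ded_21_1 L5794 L5791 L18657
theorem L18660 : sm gc N1147 = N2128 := flp_c L18659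
theorem L18661 : sm gd N1152 = N2129 := rfl
theorem L18662 : sm gd N2129 = N1152 := flp_d L18661
theorem L18663 : sm ga N2129 = N1154 := ded_9_1 L5826 L5814 L18661
theorem L18664 : sm ga N1154 = N2129 := flp_a L18663
theorem L18665 : sm gc N1154 = N2130 := rfl
theorem L18666 : sm gc N2130 = N1154 := flp_c L18665
theorem L18667 : sm ge N1154 = N2131 := rfl
theorem L18668 : sm ge N2131 = N1154 := flp_e L18667
theorem L18670 : sm gd N2131 = N1169 := ded_22_1 L5932 L2803 L2771 L5825 L18667
theorem L18671 : sm gd N1169 = N2131 := flp_d L18670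
theorem L18672 : sm gg N1154 = N2132 := rfl
theorem L18673 : sm gg N2132 = N1154 := flp_g L18672
theorem L18674 : sm gd N2132 = N1155 := ded_24_1 L5829 L5825 L18672
theorem L18675 : sm gd N1155 = N2132 := flp_d L18674
theorem L18676 : sm gb N1155 = N2133 := rfl
theorem L18677 : sm gb N2133 = N1155 := flp_b L18676
theorem L18678 : sm ge N2133 = N1171 := ded_15_2 L5939 L5833 L18676
theorem L18679 : sm ge N1171 = N2133 := flp_e L18678
theorem L18680 : sm gg N2133 = N2133 := ded_17_2 L18677 L5829 L2772 L5828 L18676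
theorem L18681 : sm ga N2133 = N2133 := ded_7_1 L18677 L18428 L15569 L15562 L2963 L15563 L15570 L18429 L18676
theorem L18682 : sm ge N1167 = N2134 := rfl
theorem L18683 : sm ge N2134 = N1167 := flp_e L18682
theorem L18684 : sm ga N2134 = N1169 := ded_10_1 L5932 L5922 L18682
theorem L18686 : sm gg N1169 = N2135 := rfl
theorem L18687 : sm gg N2135 = N1169 := flp_g L18686
theorem L18688 : sm gc N2135 = N1263 := ded_21_1 L18442 L18543 L18686
theorem L18689 : sm gc N1263 = N2135 := flp_c L18688
theorem L18690 : sm ge N2135 = N1170 := ded_26_1 L5935 L5931 L18686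
theorem L18691 : sm ge N1170 = N2135 := flp_e L18690
theorem L18692 : sm gb N1170 = N2136 := rfl
theorem L18693 : sm gb N2136 = N1170 := flp_b L18692
theorem L18694 : sm gd N2136 = N1171 := ded_14_2 L5939 L5937 L18692
theorem L18695 : sm gd N1171 = N2136 := flp_d L18694
theorem L18696 : sm gc N2136 = N2136 := ded_13_2 L18693 L18440 L3028 L18441 L18692
theorem L18697 : sm gg N2136 = N2136 := ded_17_2 L18693 L5935 L2804 L5934 L18692
theorem L18698 : sm ga N2136 = N2136 := ded_7_1 L18693 L18446 L15584 L15577 L3054 L15578 L15585 L18447 L18692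
theorem L18699 : sm ga N1178 = N2137 := rfl
theorem L18700 : sm ga N2137 = N1178 := flp_a L18699
theorem L18701 : sm gc N1178 = N2138 := rfl
theorem L18702 : sm gc N2138 = N1178 := flp_c L18701
theorem L18703 : sm gb N2138 = N1274 := ded_13_1 L6450 L3061 L2844 L5975 L18701
theorem L18704 : sm gb N1274 = N2138 := flp_b L18703
theorem L18705 : sm gd N1178 = N2139 := rfl
theorem L18706 : sm gd N2139 = N1178 := flp_d L18705
theorem L18707 : sm gb N2139 = N1179 := ded_14_1 L5978 L5975 L18705
theorem L18708 : sm gb N1179 = N2139 := flp_b L18707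
theorem L18709 : sm gf N1178 = N2140 := rfl
theorem L18710 : sm gf N2140 = N1178 := flp_f L18709
theorem L18711 : sm gg N1178 = N2141 := rfl
theorem L18712 : sm gg N2141 = N1178 := flp_g L18711
theorem L18713 : sm gc N1179 = N2142 := rfl
theorem L18714 : sm gc N2142 = N1179 := flp_c L18713
theorem L18715 : sm ga N2142 = N1182 := ded_8_1 L5994 L5980 L18713
theorem L18716 : sm ga N1182 = N2142 := flp_a L18715
theorem L18717 : sm gd N2024 = N2142 := ded_28_1 L18714 L5978 L2843 L2568 L5096 L10307 L10309 L10327
theorem L18718 : sm gd N2142 = N2024 := flp_d L18717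
theorem L18719 : sm ge N1179 = N2143 := rfl
theorem L18720 : sm ge N2143 = N1179 := flp_e L18719
theorem L18721 : sm ga N2143 = N1183 := ded_10_1 L5996 L5980 L18719
theorem L18722 : sm ga N1183 = N2143 := flp_a L18721
theorem L18723 : sm gf N1179 = N2144 := rfl
theorem L18724 : sm gf N2144 = N1179 := flp_f L18723
theorem L18725 : sm ga N2144 = N1184 := ded_11_1 L6000 L5980 L18723
theorem L18726 : sm ga N1184 = N2144 := flp_a L18725
theorem L18727 : sm gd N2144 = N1180 := ded_23_1 L5982 L5977 L18723
theorem L18728 : sm gd N1180 = N2144 := flp_d L18727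
theorem L18729 : sm gg N1179 = N2145 := rfl
theorem L18730 : sm gg N2145 = N1179 := flp_g L18729
theorem L18731 : sm ga N2145 = N1185 := ded_12_1 L6004 L5980 L18729
theorem L18732 : sm ga N1185 = N2145 := flp_a L18731
theorem L18733 : sm gd N2145 = N1181 := ded_24_1 L5988 L5977 L18729
theorem L18734 : sm gd N1181 = N2145 := flp_d L18733
theorem L18735 : sm gb N1180 = N2146 := rfl
theorem L18736 : sm gb N2146 = N1180 := flp_b L18735
theorem L18737 : sm gb N1181 = N2147 := rfl
theorem L18738 : sm gb N2147 = N1181 := flp_b L18737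
theorem L18739 : sm gd N1182 = N2148 := rfl
theorem L18740 : sm gd N2148 = N1182 := flp_d L18739
theorem L18741 : sm ga N2148 = N2024 := ded_9_1 L18717 L18715 L18739
theorem L18742 : sm ga N2024 = N2148 := flp_a L18741
theorem L18743 : sm gc N2021 = N2148 := ded_28_0 L18740 L5994 L2846 L1450 L1345 L2497 L5099 L10310
theorem L18744 : sm gc N2148 = N2021 := flp_c L18743
theorem L18745 : sm ge N1182 = N2149 := rfl
theorem L18746 : sm ge N2149 = N1182 := flp_e L18745
theorem L18747 : sm gc N2149 = N1183 := ded_19_1 L5996 L5993 L18745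
theorem L18748 : sm gc N1183 = N2149 := flp_c L18747
theorem L18749 : sm gf N1182 = N2150 := rfl
theorem L18750 : sm gf N2150 = N1182 := flp_f L18749
theorem L18751 : sm gc N2150 = N1184 := ded_20_1 L6000 L5993 L18749
theorem L18752 : sm gc N1184 = N2150 := flp_c L18751
theorem L18753 : sm gg N1182 = N2151 := rfl
theorem L18754 : sm gg N2151 = N1182 := flp_g L18753
theorem L18755 : sm gc N2151 = N1185 := ded_21_1 L6004 L5993 L18753
theorem L18756 : sm gc N1185 = N2151 := flp_c L18755
theorem L18757 : sm gf N1183 = N2152 := rfl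
theorem L18758 : sm gf N2152 = N1183 := flp_f L18757
theorem L18759 : sm ge N2152 = N1184 := ded_25_1 L6000 L5995 L18757
theorem L18760 : sm ge N1184 = N2152 := flp_e L18759
theorem L18761 : sm gg N1183 = N2153 := rfl
theorem L18762 : sm gg N2153 = N1183 := flp_g L18761
theorem L18763 : sm ge N2153 = N1185 := ded_26_1 L6004 L5995 L18761
theorem L18764 : sm ge N1185 = N2153 := flp_e L18763
theorem L18765 : sm gb N1184 = N2154 := rfl
theorem L18766 : sm gb N2154 = N1184 := flp_b L18765
theorem L18767 : sm gd N2154 = N1186 := ded_14_2 L6008 L6002 L18765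
theorem L18768 : sm gd N1186 = N2154 := flp_d L18767
theorem L18769 : sm gf N2154 = N1192 := ded_16_2 L6039 L2860 L2848 L5999 L18765
theorem L18770 : sm gf N1192 = N2154 := flp_f L18769
theorem L18771 : sm gg N1184 = N2155 := rfl
theorem L18772 : sm gg N2155 = N1184 := flp_g L18771
theorem L18773 : sm gd N2155 = N1187 := ded_24_1 L6012 L6002 L18771
theorem L18774 : sm gd N1187 = N2155 := flp_d L18773
theorem L18775 : sm gf N2145 = N2155 := ded_29_0 L18772 L6000 L6003 L18732
theorem L18776 : sm gf N2155 = N2145 := flp_f L18775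
theorem L18777 : sm gb N1185 = N2156 := rfl
theorem L18778 : sm gb N2156 = N1185 := flp_b L18777
theorem L18779 : sm gd N2156 = N1188 := ded_14_2 L6018 L6006 L18777
theorem L18780 : sm gd N1188 = N2156 := flp_d L18779
theorem L18781 : sm gg N2156 = N1194 := ded_17_2 L6049 L2864 L2848 L6003 L18777
theorem L18782 : sm gg N1194 = N2156 := flp_g L18781
theorem L18783 : sm gf N1185 = N2157 := rfl
theorem L18784 : sm gf N2157 = N1185 := flp_f L18783
theorem L18785 : sm ga N2157 = N2155 := ded_11_1 L18776 L18731 L18783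
theorem L18786 : sm ga N2155 = N2157 := flp_a L18785
theorem L18787 : sm gd N2157 = N1189 := ded_23_1 L6023 L6006 L18783
theorem L18788 : sm gd N1189 = N2157 := flp_d L18787
theorem L18789 : sm gg N2157 = N2144 := ded_29_3 L18725 L6000 L6003 L18783
theorem L18790 : sm gg N2144 = N2157 := flp_g L18789
theorem L18791 : sm ga N1186 = N2158 := rfl
theorem L18792 : sm ga N2158 = N1186 := flp_a L18791
theorem L18793 : sm gf N2158 = N1196 := ded_11_2 L6063 L6010 L18791
theorem L18794 : sm gf N1196 = N2158 := flp_f L18793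
theorem L18795 : sm gc N1186 = N2159 := rfl
theorem L18796 : sm gc N2159 = N1186 := flp_c L18795
theorem L18797 : sm gf N2159 = N1197 := ded_20_2 L6065 L6010 L18795
theorem L18798 : sm gf N1197 = N2159 := flp_f L18797
theorem L18799 : sm gb N2159 = N1280 := ded_13_1 L6464 L3071 L2852 L6007 L18795
theorem L18800 : sm gb N1280 = N2159 := flp_b L18799
theorem L18801 : sm gd N1854 = N2159 := ded_23_3 L18797 L17704 L9402
theorem L18802 : sm gd N2159 = N1854 := flp_d L18801
theorem L18803 : sm gg N1186 = N2160 := rfl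
theorem L18804 : sm gg N2160 = N1186 := flp_g L18803
theorem L18805 : sm gb N1187 = N2161 := rfl
theorem L18806 : sm gb N2161 = N1187 := flp_b L18805
theorem L18807 : sm ga N1188 = N2162 := rfl
theorem L18808 : sm ga N2162 = N1188 := flp_a L18807
theorem L18809 : sm gc N2162 = N2162 := ded_8_2 L18808 L6019 L18807
theorem L18810 : sm gg N2162 = N1200 := ded_12_2 L6073 L6021 L18807
theorem L18811 : sm gg N1200 = N2162 := flp_g L18810
theorem L18812 : sm gf N1188 = N2163 := rfl
theorem L18813 : sm gf N2163 = N1188 := flp_f L18812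
theorem L18814 : sm gc N2163 = N2163 := ded_20_1 L18813 L6019 L18812
theorem L18815 : sm gb N1189 = N2164 := rfl
theorem L18816 : sm gb N2164 = N1189 := flp_b L18815
theorem L18817 : sm gb N1190 = N2165 := rfl
theorem L18818 : sm gb N2165 = N1190 := flp_b L18817
theorem L18819 : sm ge N2165 = N1192 := ded_15_2 L6039 L6033 L18817
theorem L18820 : sm ge N1192 = N2165 := flp_e L18819
theorem L18821 : sm gg N1190 = N2166 := rfl
theorem L18822 : sm gg N2166 = N1190 := flp_g L18821
theorem L18823 : sm ge N2166 = N1193 := ded_26_1 L6043 L6033 L18821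
theorem L18824 : sm ge N1193 = N2166 := flp_e L18823
theorem L18825 : sm gf N2117 = N2166 := ded_29_0 L18822 L6031 L6034 L18614
theorem L18826 : sm gf N2166 = N2117 := flp_f L18825
theorem L18827 : sm gb N1191 = N2167 := rfl
theorem L18828 : sm gb N2167 = N1191 := flp_b L18827
theorem L18829 : sm ge N2167 = N1194 := ded_15_2 L6049 L6037 L18827
theorem L18830 : sm ge N1194 = N2167 := flp_e L18829
theorem L18831 : sm gf N1191 = N2168 := rfl
theorem L18832 : sm gf N2168 = N1191 := flp_f L18831
theorem L18833 : sm ga N2168 = N2166 := ded_11_1 L18826 L18613 L18831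
theorem L18834 : sm ga N2166 = N2168 := flp_a L18833
theorem L18835 : sm gc N2168 = N2166 := ded_20_1 L18826 L18615 L18831
theorem L18836 : sm gc N2166 = N2168 := flp_c L18835
theorem L18837 : sm ge N2168 = N1195 := ded_25_1 L6053 L6037 L18831
theorem L18838 : sm ge N1195 = N2168 := flp_e L18837
theorem L18839 : sm gg N2168 = N2116 := ded_29_3 L18605 L6031 L6034 L18831
theorem L18840 : sm gg N2116 = N2168 := flp_g L18839
theorem L18841 : sm ga N1192 = N2169 := rfl
theorem L18842 : sm ga N2169 = N1192 := flp_a L18841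
theorem L18843 : sm gd N2169 = N1196 := ded_9_2 L6063 L6041 L18841
theorem L18844 : sm gd N1196 = N2169 := flp_d L18843
theorem L18845 : sm gc N1192 = N2170 := rfl
theorem L18846 : sm gc N2170 = N1192 := flp_c L18845
theorem L18847 : sm gg N1192 = N2171 := rfl
theorem L18848 : sm gg N2171 = N1192 := flp_g L18847
theorem L18849 : sm gd N2171 = N1198 := ded_24_1 L6069 L6041 L18847
theorem L18850 : sm gd N1198 = N2171 := flp_d L18849
theorem L18851 : sm gb N1193 = N2172 := rfl
theorem L18852 : sm gb N2172 = N1193 := flp_b L18851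
theorem L18853 : sm gd N2172 = N1199 := ded_14_2 L6071 L6045 L18851
theorem L18854 : sm gd N1199 = N2172 := flp_d L18853
theorem L18855 : sm ga N1194 = N2173 := rfl
theorem L18856 : sm ga N2173 = N1194 := flp_a L18855
theorem L18857 : sm gd N2173 = N1200 := ded_9_2 L6073 L6051 L18855
theorem L18858 : sm gd N1200 = N2173 := flp_d L18857
theorem L18859 : sm gc N1194 = N2174 := rfl
theorem L18860 : sm gc N2174 = N1194 := flp_c L18859
theorem L18861 : sm gf N1194 = N2175 := rfl
theorem L18862 : sm gf N2175 = N1194 := flp_f L18861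
theorem L18863 : sm gd N2175 = N1201 := ded_23_1 L6076 L6051 L18861
theorem L18864 : sm gd N1201 = N2175 := flp_d L18863
theorem L18865 : sm gb N1195 = N2176 := rfl
theorem L18866 : sm gb N2176 = N1195 := flp_b L18865
theorem L18867 : sm gd N2176 = N1202 := ded_14_2 L6079 L6059 L18865
theorem L18868 : sm gd N1202 = N2176 := flp_d L18867
theorem L18869 : sm gb N1196 = N2177 := rfl
theorem L18870 : sm gb N2177 = N1196 := flp_b L18869
theorem L18871 : sm gc N1196 = N2178 := rfl
theorem L18872 : sm gc N2178 = N1196 := flp_c L18871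
theorem L18873 : sm ga N2178 = N1197 := ded_8_1 L6065 L6062 L18871
theorem L18874 : sm ga N1197 = N2178 := flp_a L18873
theorem L18875 : sm gd N1858 = N2178 := ded_9_0 L18873 L17704 L9419
theorem L18876 : sm gd N2178 = N1858 := flp_d L18875
theorem L18877 : sm gg N1196 = N2179 := rfl
theorem L18878 : sm gg N2179 = N1196 := flp_g L18877
theorem L18879 : sm ga N2179 = N1198 := ded_12_1 L6069 L6062 L18877
theorem L18880 : sm ga N1198 = N2179 := flp_a L18879
theorem L18881 : sm gf N2179 = N2160 := ded_29_2 L18804 L18791 L18793 L18877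
theorem L18882 : sm gf N2160 = N2179 := flp_f L18881
theorem L18883 : sm gg N1197 = N2180 := rfl
theorem L18884 : sm gg N2180 = N1197 := flp_g L18883
theorem L18885 : sm gc N2180 = N1198 := ded_21_1 L6069 L6064 L18883
theorem L18886 : sm gc N1198 = N2180 := flp_c L18885
theorem L18887 : sm gd N2180 = N1860 := ded_24_1 L9426 L17705 L18883
theorem L18888 : sm gd N1860 = N2180 := flp_d L18887
theorem L18889 : sm gb N1198 = N2181 := rfl
theorem L18890 : sm gb N2181 = N1198 := flp_b L18889
theorem L18891 : sm gg N2181 = N1199 := ded_17_2 L6071 L2870 L2867 L6068 L18889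
theorem L18892 : sm gg N1199 = N2181 := flp_g L18891
theorem L18893 : sm gf N1198 = N2182 := rfl
theorem L18894 : sm gf N2182 = N1198 := flp_f L18893
theorem L18895 : sm ga N2182 = N2160 := ded_11_1 L18882 L18879 L18893
theorem L18896 : sm ga N2160 = N2182 := flp_a L18895
theorem L18897 : sm gg N2182 = N2158 := ded_29_3 L18792 L6009 L6068 L18893
theorem L18898 : sm gg N2158 = N2182 := flp_g L18897
theorem L18899 : sm ga N1199 = N2183 := rfl
theorem L18900 : sm ga N2183 = N1199 := flp_a L18899
theorem L18901 : sm gc N1199 = N2184 := rfl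
theorem L18902 : sm gc N2184 = N1199 := flp_c L18901
theorem L18903 : sm gb N2184 = N1209 := ded_13_1 L6109 L2901 L2872 L6070 L18901
theorem L18904 : sm gb N1209 = N2184 := flp_b L18903
theorem L18905 : sm gf N1199 = N2185 := rfl
theorem L18906 : sm gf N2185 = N1199 := flp_f L18905
theorem L18907 : sm gb N2185 = N2124 := ded_16_1 L18638 L5786 L2873 L6070 L18905
theorem L18908 : sm gb N2124 = N2185 := flp_b L18907
theorem L18909 : sm gb N1200 = N2186 := rfl
theorem L18910 : sm gb N2186 = N1200 := flp_b L18909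
theorem L18911 : sm gf N1200 = N2187 := rfl
theorem L18912 : sm gf N2187 = N1200 := flp_f L18911
theorem L18913 : sm ga N2187 = N1201 := ded_11_1 L6076 L6072 L18911
theorem L18916 : sm gg N2163 = N2187 := ded_29_1 L18912 L18811 L18808 L18812
theorem L18918 : sm gb N1201 = N2188 := rfl
theorem L18919 : sm gb N2188 = N1201 := flp_b L18918
theorem L18920 : sm gf N2188 = N1202 := ded_16_2 L6079 L2879 L2875 L6075 L18918
theorem L18921 : sm gf N1202 = N2188 := flp_f L18920
theorem L18922 : sm gg N1201 = N2189 := rfl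
theorem L18923 : sm gg N2189 = N1201 := flp_g L18922
theorem L18924 : sm ga N2189 = N2163 := ded_12_1 L18916 L18913 L18922
theorem L18925 : sm ga N2163 = N2189 := flp_a L18924
theorem L18927 : sm gf N2162 = N2189 := ded_29_0 L18923 L6076 L6021 L18807
theorem L18929 : sm ga N1202 = N2190 := rfl
theorem L18930 : sm ga N2190 = N1202 := flp_a L18929
theorem L18931 : sm gc N1202 = N2191 := rfl
theorem L18932 : sm gc N2191 = N1202 := flp_c L18931
theorem L18933 : sm gb N2191 = N1212 := ded_13_1 L6122 L2905 L2883 L6078 L18931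
theorem L18934 : sm gb N1212 = N2191 := flp_b L18933
theorem L18935 : sm gg N1202 = N2192 := rfl
theorem L18936 : sm gg N2192 = N1202 := flp_g L18935
theorem L18937 : sm gb N2192 = N2122 := ded_17_1 L18634 L5784 L2885 L6078 L18935
theorem L18938 : sm gb N2122 = N2192 := flp_b L18937
theorem L18939 : sm gc N1208 = N2193 := rfl
theorem L18940 : sm gc N2193 = N1208 := flp_c L18939
theorem L18941 : sm ga N2193 = N1209 := ded_8_1 L6109 L6104 L18939
theorem L18942 : sm ga N1209 = N2193 := flp_a L18941
theorem L18943 : sm gf N2193 = N2128 := ded_20_2 L18659 L18456 L18939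
theorem L18944 : sm gf N2128 = N2193 := flp_f L18943
theorem L18945 : sm gd N1209 = N2194 := rfl
theorem L18946 : sm gd N2194 = N1209 := flp_d L18945
theorem L18947 : sm gf N1209 = N2195 := rfl
theorem L18948 : sm gf N2195 = N1209 := flp_f L18947
theorem L18949 : sm ga N2195 = N2128 := ded_11_1 L18944 L18941 L18947
theorem L18950 : sm ga N2128 = N2195 := flp_a L18949
theorem L18951 : sm gc N2195 = N1210 := ded_20_1 L6111 L6108 L18947
theorem L18952 : sm gc N1210 = N2195 := flp_c L18951
theorem L18953 : sm gg N2195 = N2126 := ded_29_3 L18653 L18536 L18547 L18947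
theorem L18954 : sm gg N2126 = N2195 := flp_g L18953
theorem L18955 : sm gd N1212 = N2196 := rfl
theorem L18956 : sm gd N2196 = N1212 := flp_d L18955
theorem L18958 : sm gg N1212 = N2197 := rfl
theorem L18959 : sm gg N2197 = N1212 := flp_g L18958
theorem L18960 : sm gc N2197 = N1213 := ded_21_1 L6125 L6121 L18958
theorem L18961 : sm gc N1213 = N2197 := flp_c L18960
theorem L18962 : sm gd N1228 = N2198 := rfl
theorem L18963 : sm gd N2198 = N1228 := flp_d L18962
theorem L18964 : sm ga N2198 = N1230 := ded_9_1 L6219 L6207 L18962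
theorem L18965 : sm ga N1230 = N2198 := flp_a L18964
theorem L18966 : sm gf N2198 = N2132 := ded_23_2 L18674 L18431 L18962
theorem L18967 : sm gf N2132 = N2198 := flp_f L18966
theorem L18968 : sm gc N1230 = N2199 := rfl
theorem L18969 : sm gc N2199 = N1230 := flp_c L18968
theorem L18970 : sm ge N1230 = N2200 := rfl
theorem L18971 : sm ge N2200 = N1230 := flp_e L18970
theorem L18973 : sm gd N2200 = N1263 := ded_22_1 L6394 L3027 L2945 L6218 L18970
theorem L18974 : sm gd N1263 = N2200 := flp_d L18973
theorem L18975 : sm gf N1230 = N2201 := rfl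
theorem L18976 : sm gf N2201 = N1230 := flp_f L18975
theorem L18979 : sm gd N2201 = N1231 := ded_23_1 L6222 L6218 L18975
theorem L18981 : sm gg N2201 = N2129 := ded_29_3 L18663 L18539 L18424 L18975
theorem L18982 : sm gg N2129 = N2201 := flp_g L18981
theorem L18983 : sm gb N2062 = N2201 := ded_14_3 L18979 L15569 L10555
theorem L18984 : sm gb N2201 = N2062 := flp_b L18983
theorem L18985 : sm gc N1235 = N2202 := rfl
theorem L18986 : sm gc N2202 = N1235 := flp_c L18985
theorem L18988 : sm ge N1235 = N2203 := rfl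
theorem L18989 : sm ge N2203 = N1235 := flp_e L18988
theorem L18992 : sm gd N2203 = N1270 := ded_22_1 L6435 L3053 L2961 L6252 L18988
theorem L18993 : sm gd N1270 = N2203 := flp_d L18992
theorem L18994 : sm gg N1235 = N2204 := rfl
theorem L18995 : sm gg N2204 = N1235 := flp_g L18994
theorem L18996 : sm gd N2204 = N1236 := ded_24_1 L6257 L6252 L18994
theorem L18997 : sm gd N1236 = N2204 := flp_d L18996
theorem L18998 : sm gb N1236 = N2205 := rfl
theorem L18999 : sm gb N2205 = N1236 := flp_b L18998
theorem L19000 : sm ge N2205 = N1272 := ded_15_2 L6443 L6261 L18998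
theorem L19001 : sm ge N1272 = N2205 := flp_e L19000
theorem L19002 : sm gc N2205 = N2133 := ded_13_2 L18677 L5830 L2969 L6259 L18998
theorem L19003 : sm gc N2133 = N2205 := flp_c L19002
theorem L19004 : sm gf N2205 = N2133 := ded_16_2 L18677 L18431 L10564 L18482 L18998
theorem L19005 : sm gf N2133 = N2205 := flp_f L19004
theorem L19006 : sm gg N2205 = N2205 := ded_17_2 L18999 L6257 L2963 L6256 L18998
theorem L19007 : sm ga N2205 = N2205 := ded_7_1 L18999 L18476 L10565 L6206 L2946 L6207 L10564 L18477 L18998
theorem L19008 : sm ge N1260 = N2206 := rfl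
theorem L19009 : sm ge N2206 = N1260 := flp_e L19008
theorem L19010 : sm ga N2206 = N1263 := ded_10_1 L6394 L6382 L19008
theorem L19011 : sm ga N1263 = N2206 := flp_a L19010
theorem L19014 : sm gf N1263 = N2207 := rfl
theorem L19015 : sm gf N2207 = N1263 := flp_f L19014
theorem L19020 : sm ge N2207 = N1264 := ded_25_1 L6397 L6393 L19014
theorem L19022 : sm gg N2207 = N2134 := ded_29_3 L18684 L18541 L18443 L19014
theorem L19024 : sm gb N2077 = N2207 := ded_15_3 L19020 L15584 L10624
theorem L19025 : sm gb N2207 = N2077 := flp_b L19024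
theorem L19026 : sm gb N1269 = N2208 := rfl
theorem L19027 : sm gb N2208 = N1269 := flp_b L19026
theorem L19028 : sm gd N2208 = N2208 := ded_14_2 L19027 L18497 L19026
theorem L19029 : sm gc N2208 = N2208 := ded_13_2 L19027 L6432 L3054 L6431 L19026
theorem L19030 : sm ga N2208 = N2208 := ded_28_8 L19029 L19028 L19029 L19028 L19029 L19028 L19029 L19028
theorem L19031 : sm ge N1269 = N2209 := rfl
theorem L19032 : sm ge N2209 = N1269 := flp_e L19031
theorem L19033 : sm gc N2209 = N1270 := ded_19_1 L6435 L6431 L19031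
theorem L19034 : sm gc N1270 = N2209 := flp_c L19033
theorem L19036 : sm gg N1269 = N2210 := rfl
theorem L19037 : sm gg N2210 = N1269 := flp_g L19036
theorem L19038 : sm gc N2210 = N1271 := ded_21_1 L6439 L6431 L19036
theorem L19039 : sm gc N1271 = N2210 := flp_c L19038
theorem L19040 : sm gd N2210 = N2210 := ded_24_1 L19037 L18497 L19036
theorem L19041 : sm gg N1270 = N2211 := rfl
theorem L19042 : sm gg N2211 = N1270 := flp_g L19041
theorem L19043 : sm ge N2211 = N1271 := ded_26_1 L6439 L6434 L19041
theorem L19044 : sm ge N1271 = N2211 := flp_e L19043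
theorem L19045 : sm gb N1271 = N2212 := rfl
theorem L19046 : sm gb N2212 = N1271 := flp_b L19045
theorem L19047 : sm gd N2212 = N1272 := ded_14_2 L6443 L6441 L19045
theorem L19048 : sm gd N1272 = N2212 := flp_d L19047
theorem L19049 : sm gf N2212 = N2136 := ded_16_2 L18693 L18445 L10631 L18480 L19045
theorem L19050 : sm gf N2136 = N2212 := flp_f L19049
theorem L19051 : sm gg N2212 = N2212 := ded_17_2 L19046 L6439 L3054 L6438 L19045
theorem L19052 : sm ga N2212 = N2212 := ded_7_1 L19046 L18474 L10632 L6381 L3028 L6382 L10631 L18475 L19045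
theorem L19053 : sm gc N2212 = N2212 := ded_28_6 L19047 L18478 L6444 L18695 L18696 L18694 L6445 L19048
theorem L19054 : sm gb N2210 = N2210 := ded_13_3 L19038 L19045 L19053 L19046 L19039
theorem L19055 : sm gg N2208 = N2208 := ded_17_4 L19027 L19036 L19054 L19037 L19026
theorem L19056 : sm gc N1273 = N2213 := rfl
theorem L19057 : sm gc N2213 = N1273 := flp_c L19056
theorem L19058 : sm ga N2213 = N1274 := ded_8_1 L6450 L6447 L19056
theorem L19059 : sm ga N1274 = N2213 := flp_a L19058
theorem L19060 : sm gf N1273 = N2214 := rfl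
theorem L19061 : sm gf N2214 = N1273 := flp_f L19060
theorem L19062 : sm ga N2214 = N1275 := ded_11_1 L6452 L6447 L19060
theorem L19063 : sm ga N1275 = N2214 := flp_a L19062
theorem L19064 : sm gg N1273 = N2215 := rfl
theorem L19065 : sm gg N2215 = N1273 := flp_g L19064
theorem L19066 : sm ga N2215 = N1276 := ded_12_1 L6454 L6447 L19064
theorem L19067 : sm ga N1276 = N2215 := flp_a L19066
theorem L19068 : sm gd N1274 = N2216 := rfl
theorem L19069 : sm gd N2216 = N1274 := flp_d L19068
theorem L19070 : sm gf N1274 = N2217 := rfl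
theorem L19071 : sm gf N2217 = N1274 := flp_f L19070
theorem L19072 : sm gc N2217 = N1275 := ded_20_1 L6452 L6449 L19070
theorem L19073 : sm gc N1275 = N2217 := flp_c L19072
theorem L19074 : sm gg N1274 = N2218 := rfl
theorem L19075 : sm gg N2218 = N1274 := flp_g L19074
theorem L19076 : sm gc N2218 = N1276 := ded_21_1 L6454 L6449 L19074
theorem L19077 : sm gc N1276 = N2218 := flp_c L19076
theorem L19078 : sm gb N1275 = N2219 := rfl
theorem L19079 : sm gb N2219 = N1275 := flp_b L19078
theorem L19080 : sm gf N2219 = N1277 := ded_16_2 L6456 L3063 L3060 L6451 L19078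
theorem L19081 : sm gf N1277 = N2219 := flp_f L19080
theorem L19082 : sm gg N1275 = N2220 := rfl
theorem L19083 : sm gg N2220 = N1275 := flp_g L19082
theorem L19084 : sm gf N2215 = N2220 := ded_29_0 L19083 L6452 L6453 L19067
theorem L19085 : sm gf N2220 = N2215 := flp_f L19084
theorem L19086 : sm gb N1276 = N2221 := rfl
theorem L19087 : sm gb N2221 = N1276 := flp_b L19086
theorem L19088 : sm gg N2221 = N1278 := ded_17_2 L6458 L3067 L3060 L6453 L19086
theorem L19089 : sm gg N1278 = N2221 := flp_g L19088
theorem L19090 : sm gf N1276 = N2222 := rfl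
theorem L19091 : sm gf N2222 = N1276 := flp_f L19090
theorem L19092 : sm ga N2222 = N2220 := ded_11_1 L19085 L19066 L19090
theorem L19094 : sm gg N2222 = N2214 := ded_29_3 L19062 L6452 L6453 L19090
theorem L19095 : sm gg N2214 = N2222 := flp_g L19094
theorem L19096 : sm ga N1277 = N2223 := rfl
theorem L19097 : sm ga N2223 = N1277 := flp_a L19096
theorem L19098 : sm gc N1277 = N2224 := rfl
theorem L19099 : sm gc N2224 = N1277 := flp_c L19098
theorem L19100 : sm gg N1277 = N2225 := rfl
theorem L19101 : sm gg N2225 = N1277 := flp_g L19100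
theorem L19102 : sm ga N1278 = N2226 := rfl
theorem L19103 : sm ga N2226 = N1278 := flp_a L19102
theorem L19104 : sm gc N1278 = N2227 := rfl
theorem L19105 : sm gc N2227 = N1278 := flp_c L19104
theorem L19106 : sm gf N1278 = N2228 := rfl
theorem L19107 : sm gf N2228 = N1278 := flp_f L19106
theorem L19108 : sm gb N1279 = N2229 := rfl
theorem L19109 : sm gb N2229 = N1279 := flp_b L19108
theorem L19110 : sm gc N1279 = N2230 := rfl
theorem L19111 : sm gc N2230 = N1279 := flp_c L19110
theorem L19112 : sm ga N2230 = N1280 := ded_8_1 L6464 L6459 L19110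
theorem L19113 : sm ga N1280 = N2230 := flp_a L19112
theorem L19114 : sm gf N2230 = N1285 := ded_20_2 L6477 L6462 L19110
theorem L19115 : sm gf N1285 = N2230 := flp_f L19114
theorem L19116 : sm gd N1852 = N2230 := ded_9_0 L19112 L17691 L9394
theorem L19117 : sm gd N2230 = N1852 := flp_d L19116
theorem L19118 : sm gg N1280 = N2231 := rfl
theorem L19119 : sm gg N2231 = N1280 := flp_g L19118
theorem L19122 : sm gd N2231 = N1855 := ded_24_1 L9404 L17692 L19118
theorem L19123 : sm gd N1855 = N2231 := flp_d L19122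
theorem L19124 : sm gb N1281 = N2232 := rfl
theorem L19125 : sm gb N2232 = N1281 := flp_b L19124
theorem L19126 : sm gg N2232 = N1282 := ded_17_2 L6470 L3075 L3070 L6467 L19124
theorem L19127 : sm gg N1282 = N2232 := flp_g L19126
theorem L19128 : sm ga N1282 = N2233 := rfl
theorem L19129 : sm ga N2233 = N1282 := flp_a L19128
theorem L19130 : sm gc N1282 = N2234 := rfl
theorem L19131 : sm gc N2234 = N1282 := flp_c L19130
theorem L19132 : sm gf N1282 = N2235 := rfl
theorem L19133 : sm gf N2235 = N1282 := flp_f L19132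
theorem L19134 : sm gb N2235 = N2228 := ded_16_1 L19107 L6458 L3076 L6469 L19132
theorem L19135 : sm gb N2228 = N2235 := flp_b L19134
theorem L19136 : sm ga N1283 = N2236 := rfl
theorem L19137 : sm ga N2236 = N1283 := flp_a L19136
theorem L19138 : sm gf N2236 = N2236 := ded_11_2 L19137 L6473 L19136
theorem L19139 : sm gc N1283 = N2237 := rfl
theorem L19140 : sm gc N2237 = N1283 := flp_c L19139
theorem L19142 : sm gg N1283 = N2238 := rfl
theorem L19143 : sm gg N2238 = N1283 := flp_g L19142
theorem L19144 : sm gb N2238 = N2225 := ded_17_1 L19101 L6456 L3083 L6471 L19142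
theorem L19145 : sm gb N2225 = N2238 := flp_b L19144
theorem L19146 : sm ga N1284 = N2239 := rfl
theorem L19147 : sm ga N2239 = N1284 := flp_a L19146
theorem L19148 : sm gc N1284 = N2240 := rfl
theorem L19149 : sm gc N2240 = N1284 := flp_c L19148
theorem L19150 : sm gf N1284 = N2241 := rfl
theorem L19151 : sm gf N2241 = N1284 := flp_f L19150
theorem L19152 : sm gg N1284 = N2242 := rfl
theorem L19153 : sm gg N2242 = N1284 := flp_g L19152
theorem L19154 : sm gb N1285 = N2243 := rfl
theorem L19155 : sm gb N2243 = N1285 := flp_b L19154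
theorem L19156 : sm gd N2243 = N1851 := ded_14_2 L9390 L17695 L19154
theorem L19157 : sm gd N1851 = N2243 := flp_d L19156
theorem L19158 : sm gg N1285 = N2244 := rfl
theorem L19159 : sm gg N2244 = N1285 := flp_g L19158
theorem L19160 : sm ga N2244 = N1288 := ded_12_1 L6491 L6479 L19158
theorem L19162 : sm gc N2244 = N1286 := ded_21_1 L6481 L6476 L19158
theorem L19163 : sm gc N1286 = N2244 := flp_c L19162
theorem L19164 : sm gd N2244 = N1853 := ded_24_1 L9396 L17695 L19158
theorem L19165 : sm gd N1853 = N2244 := flp_d L19164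
theorem L19166 : sm gf N2244 = N2231 := ded_29_2 L19119 L19113 L19114 L19158
theorem L19167 : sm gf N2231 = N2244 := flp_f L19166
theorem L19168 : sm gb N1286 = N2245 := rfl
theorem L19169 : sm gb N2245 = N1286 := flp_b L19168
theorem L19170 : sm gf N1288 = N2246 := rfl
theorem L19171 : sm gf N2246 = N1288 := flp_f L19170
theorem L19172 : sm ga N2246 = N2231 := ded_11_1 L19167 L19160 L19170
theorem L19173 : sm ga N2231 = N2246 := flp_a L19172
theorem L19174 : sm gc N2246 = N1289 := ded_20_1 L6495 L6493 L19170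
theorem L19175 : sm gc N1289 = N2246 := flp_c L19174
theorem L19176 : sm gd N2246 = N1857 := ded_23_1 L9414 L17690 L19170
theorem L19177 : sm gd N1857 = N2246 := flp_d L19176
theorem L19178 : sm gg N2246 = N2230 := ded_29_3 L19112 L6465 L6490 L19170
theorem L19179 : sm gg N2230 = N2246 := flp_g L19178
theorem L19180 : sm gb N1289 = N2247 := rfl
theorem L19181 : sm gb N2247 = N1289 := flp_b L19180
theorem L19182 : sm ga N1452 = N2248 := rfl
theorem L19183 : sm ga N2248 = N1452 := flp_a L19182
theorem L19184 : sm gc N2248 = N1484 := ded_8_2 L7501 L7355 L19182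
theorem L19185 : sm gc N1484 = N2248 := flp_c L19184
theorem L19186 : sm ge N2248 = N1484 := ded_10_2 L7501 L17666 L19182
theorem L19187 : sm ge N1484 = N2248 := flp_e L19186
theorem L19188 : sm gd N1452 = N2249 := rfl
theorem L19189 : sm gd N2249 = N1452 := flp_d L19188
theorem L19190 : sm gb N2249 = N1453 := ded_14_1 L7357 L7352 L19188
theorem L19191 : sm gb N1453 = N2249 := flp_b L19190
theorem L19192 : sm gf N1452 = N2250 := rfl
theorem L19193 : sm gf N2250 = N1452 := flp_f L19192
theorem L19194 : sm gc N2250 = N1485 := ded_20_1 L7503 L7355 L19192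
theorem L19195 : sm gc N1485 = N2250 := flp_c L19194
theorem L19196 : sm ge N2250 = N1485 := ded_25_1 L7503 L17666 L19192
theorem L19197 : sm ge N1485 = N2250 := flp_e L19196
theorem L19198 : sm gg N1452 = N2251 := rfl
theorem L19199 : sm gg N2251 = N1452 := flp_g L19198
theorem L19200 : sm gc N2251 = N1486 := ded_21_1 L7505 L7355 L19198
theorem L19201 : sm gc N1486 = N2251 := flp_c L19200
theorem L19202 : sm ge N2251 = N1486 := ded_26_1 L7505 L17666 L19198
theorem L19203 : sm ge N1486 = N2251 := flp_e L19202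
theorem L19204 : sm gb N2251 = N1527 := ded_17_1 L7731 L3758 L17746 L7352 L19198
theorem L19205 : sm gb N1527 = N2251 := flp_b L19204
theorem L19206 : sm gf N1453 = N2252 := rfl
theorem L19207 : sm gf N2252 = N1453 := flp_f L19206
theorem L19208 : sm gc N2252 = N1826 := ded_20_1 L9272 L17723 L19206
theorem L19209 : sm gc N1826 = N2252 := flp_c L19208
theorem L19210 : sm gd N2252 = N1454 := ded_23_1 L7359 L7356 L19206
theorem L19211 : sm gd N1454 = N2252 := flp_d L19210
theorem L19212 : sm gg N2252 = N1826 := ded_29_3 L18552 L7747 L17670 L19206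
theorem L19213 : sm gg N1826 = N2252 := flp_g L19212
theorem L19214 : sm gb N1454 = N2253 := rfl
theorem L19215 : sm gb N2253 = N1454 := flp_b L19214
theorem L19216 : sm ge N2253 = N1487 := ded_15_2 L7507 L17636 L19214
theorem L19217 : sm ge N1487 = N2253 := flp_e L19216
theorem L19218 : sm gc N1456 = N2254 := rfl
theorem L19219 : sm gc N2254 = N1456 := flp_c L19218
theorem L19220 : sm ge N2254 = N1489 := ded_19_2 L7513 L18030 L19218
theorem L19221 : sm ge N1489 = N2254 := flp_e L19220
theorem L19222 : sm gf N2254 = N1489 := ded_20_2 L7513 L7371 L19218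
theorem L19223 : sm gf N1489 = N2254 := flp_f L19222
theorem L19224 : sm gb N1484 = N2255 := rfl
theorem L19225 : sm gb N2255 = N1484 := flp_b L19224
theorem L19226 : sm gf N1484 = N2256 := rfl
theorem L19227 : sm gf N2256 = N1484 := flp_f L19226
theorem L19228 : sm ga N2256 = N1485 := ded_11_1 L7503 L7500 L19226
theorem L19229 : sm ga N1485 = N2256 := flp_a L19228
theorem L19230 : sm gg N1484 = N2257 := rfl
theorem L19231 : sm gg N2257 = N1484 := flp_g L19230
theorem L19232 : sm ga N2257 = N1486 := ded_12_1 L7505 L7500 L19230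
theorem L19233 : sm ga N1486 = N2257 := flp_a L19232
theorem L19234 : sm gb N1485 = N2258 := rfl
theorem L19235 : sm gb N2258 = N1485 := flp_b L19234
theorem L19236 : sm gf N2258 = N1487 := ded_16_2 L7507 L3590 L3587 L7502 L19234
theorem L19237 : sm gf N1487 = N2258 := flp_f L19236
theorem L19238 : sm gg N1485 = N2259 := rfl
theorem L19239 : sm gg N2259 = N1485 := flp_g L19238
theorem L19240 : sm gf N2257 = N2259 := ded_29_0 L19239 L7503 L7504 L19233
theorem L19241 : sm gf N2259 = N2257 := flp_f L19240
theorem L19242 : sm gf N1486 = N2260 := rfl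
theorem L19243 : sm gf N2260 = N1486 := flp_f L19242
theorem L19244 : sm ga N2260 = N2259 := ded_11_1 L19241 L19232 L19242
theorem L19245 : sm ga N2259 = N2260 := flp_a L19244
theorem L19246 : sm gg N2260 = N2256 := ded_29_3 L19228 L7503 L7504 L19242
theorem L19247 : sm gg N2256 = N2260 := flp_g L19246
theorem L19248 : sm ga N1487 = N2261 := rfl
theorem L19249 : sm ga N2261 = N1487 := flp_a L19248
theorem L19250 : sm gc N1487 = N2262 := rfl
theorem L19251 : sm gc N2262 = N1487 := flp_c L19250
theorem L19252 : sm gb N2262 = N1489 := ded_13_1 L7513 L3596 L3592 L7506 L19250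
theorem L19253 : sm gb N1489 = N2262 := flp_b L19252
theorem L19254 : sm gg N1487 = N2263 := rfl
theorem L19255 : sm gg N2263 = N1487 := flp_g L19254
theorem L19256 : sm gb N2263 = N1860 := ded_17_1 L9426 L4644 L3593 L7506 L19254
theorem L19257 : sm gb N1860 = N2263 := flp_b L19256
theorem L19258 : sm gc N1488 = N2264 := rfl
theorem L19259 : sm gc N2264 = N1488 := flp_c L19258
theorem L19260 : sm ga N2264 = N1489 := ded_8_1 L7513 L7508 L19258
theorem L19261 : sm ga N1489 = N2264 := flp_a L19260
theorem L19262 : sm gd N1489 = N2265 := rfl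
theorem L19263 : sm gd N2265 = N1489 := flp_d L19262
theorem L19264 : sm gg N1489 = N2266 := rfl
theorem L19265 : sm gg N2266 = N1489 := flp_g L19264
theorem L19266 : sm gc N2266 = N1490 := ded_21_1 L7515 L7512 L19264
theorem L19267 : sm gc N1490 = N2266 := flp_c L19266
theorem L19268 : sm gb N1524 = N2267 := rfl
theorem L19269 : sm gb N2267 = N1524 := flp_b L19268
theorem L19270 : sm ge N2267 = N2243 := ded_15_2 L19155 L7719 L19268
theorem L19271 : sm ge N2243 = N2267 := flp_e L19270
theorem L19272 : sm gd N1524 = N2268 := rfl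
theorem L19273 : sm gd N2268 = N1524 := flp_d L19272
theorem L19274 : sm ga N2268 = N1525 := ded_9_1 L7721 L7714 L19272
theorem L19275 : sm ga N1525 = N2268 := flp_a L19274
theorem L19276 : sm gc N2268 = N1740 := ded_28_6 L8872 L8867 L8869 L17695 L6477 L3842 L7717 L19272
theorem L19277 : sm gc N1740 = N2268 := flp_c L19276
theorem L19278 : sm gf N1524 = N2269 := rfl
theorem L19279 : sm gf N2269 = N1524 := flp_f L19278
theorem L19280 : sm ga N2269 = N1526 := ded_11_1 L7725 L7714 L19278
theorem L19281 : sm ga N1526 = N2269 := flp_a L19280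
theorem L19282 : sm gc N2269 = N1551 := ded_20_1 L7875 L7717 L19278
theorem L19283 : sm gc N1551 = N2269 := flp_c L19282
theorem L19284 : sm ge N2269 = N2230 := ded_25_1 L19114 L7719 L19278
theorem L19285 : sm ge N2230 = N2269 := flp_e L19284
theorem L19286 : sm gg N1524 = N2270 := rfl
theorem L19287 : sm gg N2270 = N1524 := flp_g L19286
theorem L19288 : sm ga N2270 = N1527 := ded_12_1 L7731 L7714 L19286
theorem L19289 : sm ga N1527 = N2270 := flp_a L19288
theorem L19290 : sm gc N2270 = N1552 := ded_21_1 L7883 L7717 L19286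
theorem L19291 : sm gc N1552 = N2270 := flp_c L19290
theorem L19292 : sm ge N2270 = N2244 := ded_26_1 L19159 L7719 L19286
theorem L19293 : sm ge N2244 = N2270 := flp_e L19292
theorem L19294 : sm gc N1525 = N2271 := rfl
theorem L19295 : sm gc N2271 = N1525 := flp_c L19294
theorem L19296 : sm ga N2271 = N1740 := ded_8_1 L19277 L19274 L19294
theorem L19297 : sm ga N1740 = N2271 := flp_a L19296
theorem L19298 : sm gd N2271 = N1739 := ded_28_7 L8868 L4401 L17677 L3087 L1905 L3762 L7720 L19294
theorem L19299 : sm gd N1739 = N2271 := flp_d L19298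
theorem L19300 : sm gf N1525 = N2272 := rfl
theorem L19301 : sm gf N2272 = N1525 := flp_f L19300
theorem L19302 : sm gd N2272 = N1526 := ded_23_1 L7725 L7720 L19300
theorem L19303 : sm gd N1526 = N2272 := flp_d L19302
theorem L19304 : sm gg N1525 = N2273 := rfl
theorem L19305 : sm gg N2273 = N1525 := flp_g L19304
theorem L19306 : sm gd N2273 = N1527 := ded_24_1 L7731 L7720 L19304
theorem L19307 : sm gd N1527 = N2273 := flp_d L19306
theorem L19308 : sm gb N1526 = N2274 := rfl
theorem L19309 : sm gb N2274 = N1526 := flp_b L19308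
theorem L19310 : sm ge N2274 = N2159 := ded_15_2 L18799 L7729 L19308
theorem L19311 : sm ge N2159 = N2274 := flp_e L19310
theorem L19312 : sm gc N2274 = N2028 := ded_13_2 L10344 L5105 L3852 L7727 L19308
theorem L19313 : sm gc N2028 = N2274 := flp_c L19312
theorem L19314 : sm gf N2274 = N1532 := ded_16_2 L7755 L3766 L3757 L7724 L19308
theorem L19315 : sm gf N1532 = N2274 := flp_f L19314
theorem L19316 : sm gg N1526 = N2275 := rfl
theorem L19317 : sm gg N2275 = N1526 := flp_g L19316
theorem L19318 : sm gc N2275 = N1553 := ded_21_1 L7891 L7727 L19316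
theorem L19319 : sm gc N1553 = N2275 := flp_c L19318
theorem L19320 : sm ge N2275 = N2231 := ded_26_1 L19119 L7729 L19316
theorem L19321 : sm ge N2231 = N2275 := flp_e L19320
theorem L19322 : sm gf N2270 = N2275 := ded_29_0 L19317 L7725 L7730 L19289
theorem L19323 : sm gf N2275 = N2270 := flp_f L19322
theorem L19324 : sm gf N1527 = N2276 := rfl
theorem L19325 : sm gf N2276 = N1527 := flp_f L19324
theorem L19326 : sm ga N2276 = N2275 := ded_11_1 L19323 L19288 L19324
theorem L19327 : sm ga N2275 = N2276 := flp_a L19326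
theorem L19328 : sm gc N2276 = N1554 := ded_20_1 L7899 L7733 L19324
theorem L19329 : sm gc N1554 = N2276 := flp_c L19328
theorem L19330 : sm ge N2276 = N2246 := ded_25_1 L19171 L7735 L19324
theorem L19331 : sm ge N2246 = N2276 := flp_e L19330
theorem L19332 : sm gg N2276 = N2269 := ded_29_3 L19280 L7725 L7730 L19324
theorem L19333 : sm gg N2269 = N2276 := flp_g L19332
theorem L19334 : sm gb N1528 = N2277 := rfl
theorem L19335 : sm gb N2277 = N1528 := flp_b L19334
theorem L19336 : sm gd N2277 = N1809 := ded_14_2 L9178 L12412 L19334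
theorem L19337 : sm gd N1809 = N2277 := flp_d L19336
theorem L19338 : sm ge N2277 = N2249 := ded_15_2 L19190 L12403 L19334
theorem L19339 : sm ge N2249 = N2277 := flp_e L19338
theorem L19340 : sm gf N1528 = N2278 := rfl
theorem L19341 : sm gf N2278 = N1528 := flp_f L19340
theorem L19342 : sm ga N2278 = N2252 := ded_11_1 L19207 L7739 L19340
theorem L19343 : sm ga N2252 = N2278 := flp_a L19342
theorem L19344 : sm gc N2278 = N1530 := ded_20_1 L7747 L7736 L19340
theorem L19345 : sm gc N1530 = N2278 := flp_c L19344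
theorem L19346 : sm gd N2278 = N1533 := ded_23_1 L17755 L12412 L19340
theorem L19347 : sm gd N1533 = N2278 := flp_d L19346
theorem L19348 : sm ge N2278 = N2252 := ded_25_1 L19207 L12403 L19340
theorem L19349 : sm ge N2252 = N2278 := flp_e L19348
theorem L19350 : sm gg N2278 = N1530 := ded_29_3 L18551 L9272 L12405 L19340
theorem L19351 : sm gg N1530 = N2278 := flp_g L19350
theorem L19352 : sm gb N1530 = N2279 := rfl
theorem L19353 : sm gb N2279 = N1530 := flp_b L19352
theorem L19354 : sm gd N2279 = N1532 := ded_14_2 L7755 L7749 L19352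
theorem L19355 : sm gd N1532 = N2279 := flp_d L19354
theorem L19356 : sm ga N1532 = N2280 := rfl
theorem L19357 : sm ga N2280 = N1532 := flp_a L19356
theorem L19358 : sm gc N2280 = N2042 := ded_8_2 L10435 L7759 L19356
theorem L19359 : sm gc N2042 = N2280 := flp_c L19358
theorem L19360 : sm ge N2280 = N2178 := ded_10_2 L18873 L7757 L19356
theorem L19361 : sm ge N2178 = N2280 := flp_e L19360
theorem L19362 : sm gg N1532 = N2281 := rfl
theorem L19363 : sm gg N2281 = N1532 := flp_g L19362
theorem L19364 : sm gc N2281 = N2043 := ded_21_1 L10439 L7759 L19362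
theorem L19365 : sm gc N2043 = N2281 := flp_c L19364
theorem L19366 : sm ge N2281 = N2180 := ded_26_1 L18884 L7757 L19362
theorem L19367 : sm ge N2180 = N2281 := flp_e L19366
theorem L19368 : sm gb N1533 = N2282 := rfl
theorem L19369 : sm gb N2282 = N1533 := flp_b L19368
theorem L19370 : sm ge N2282 = N1864 := ded_15_2 L9440 L17754 L19368
theorem L19371 : sm ge N1864 = N2282 := flp_e L19370
theorem L19372 : sm gc N1536 = N2283 := rfl
theorem L19373 : sm gc N2283 = N1536 := flp_c L19372
theorem L19374 : sm ge N2283 = N1879 := ded_19_2 L9514 L17558 L19372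
theorem L19375 : sm ge N1879 = N2283 := flp_e L19374
theorem L19376 : sm gf N2283 = N2000 := ded_20_2 L10179 L17245 L19372
theorem L19377 : sm gf N2000 = N2283 := flp_f L19376
theorem L19378 : sm gg N2283 = N2049 := ded_21_2 L10467 L7791 L19372
theorem L19379 : sm gg N2049 = N2283 := flp_g L19378
theorem L19380 : sm ga N1550 = N2284 := rfl
theorem L19381 : sm ga N2284 = N1550 := flp_a L19380
theorem L19382 : sm gd N2284 = N2239 := ded_9_2 L19147 L7871 L19380
theorem L19383 : sm gd N2239 = N2284 := flp_d L19382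
theorem L19384 : sm ge N2284 = N2239 := ded_10_2 L19147 L7873 L19380
theorem L19385 : sm ge N2239 = N2284 := flp_e L19384
theorem L19386 : sm gb N2284 = N2239 := ded_7_2 L19147 L6475 L3085 L1557 L1031 L1902 L3839 L7868 L19380
theorem L19387 : sm gb N2239 = N2284 := flp_b L19386
theorem L19388 : sm gc N1550 = N2285 := rfl
theorem L19389 : sm gc N2285 = N1550 := flp_c L19388
theorem L19390 : sm ge N2285 = N2240 := ded_19_2 L19149 L7873 L19388
theorem L19391 : sm ge N2240 = N2285 := flp_e L19390
theorem L19392 : sm gf N1550 = N2286 := rfl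
theorem L19393 : sm gf N2286 = N1550 := flp_f L19392
theorem L19394 : sm gd N2286 = N2241 := ded_23_1 L19151 L7871 L19392
theorem L19395 : sm gd N2241 = N2286 := flp_d L19394
theorem L19396 : sm ge N2286 = N2241 := ded_25_1 L19151 L7873 L19392
theorem L19397 : sm ge N2241 = N2286 := flp_e L19396
theorem L19398 : sm gg N1550 = N2287 := rfl
theorem L19399 : sm gg N2287 = N1550 := flp_g L19398
theorem L19400 : sm gd N2287 = N2242 := ded_24_1 L19153 L7871 L19398
theorem L19401 : sm gd N2242 = N2287 := flp_d L19400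
theorem L19402 : sm ge N2287 = N2242 := ded_26_1 L19153 L7873 L19398
theorem L19403 : sm ge N2242 = N2287 := flp_e L19402
theorem L19404 : sm gb N1551 = N2288 := rfl
theorem L19405 : sm gb N2288 = N1551 := flp_b L19404
theorem L19406 : sm gd N2288 = N2229 := ded_14_2 L19109 L7879 L19404
theorem L19407 : sm gd N2229 = N2288 := flp_d L19406
theorem L19408 : sm ge N2288 = N2229 := ded_15_2 L19109 L7881 L19404
theorem L19409 : sm ge N2229 = N2288 := flp_e L19408
theorem L19410 : sm gb N1552 = N2289 := rfl
theorem L19411 : sm gb N2289 = N1552 := flp_b L19410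
theorem L19412 : sm gd N2289 = N2245 := ded_14_2 L19169 L7887 L19410
theorem L19413 : sm gd N2245 = N2289 := flp_d L19412
theorem L19414 : sm ge N2289 = N2245 := ded_15_2 L19169 L7889 L19410
theorem L19415 : sm ge N2245 = N2289 := flp_e L19414
theorem L19416 : sm gb N1553 = N2290 := rfl
theorem L19417 : sm gb N2290 = N1553 := flp_b L19416
theorem L19418 : sm gd N2290 = N2232 := ded_14_2 L19125 L7893 L19416
theorem L19419 : sm gd N2232 = N2290 := flp_d L19418
theorem L19420 : sm ge N2290 = N2232 := ded_15_2 L19125 L7895 L19416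
theorem L19421 : sm ge N2232 = N2290 := flp_e L19420
theorem L19422 : sm gg N2290 = N2085 := ded_17_2 L10670 L5307 L3852 L7890 L19416
theorem L19423 : sm gg N2085 = N2290 := flp_g L19422
theorem L19424 : sm gb N1554 = N2291 := rfl
theorem L19425 : sm gb N2291 = N1554 := flp_b L19424
theorem L19426 : sm gd N2291 = N2247 := ded_14_2 L19181 L7903 L19424
theorem L19427 : sm gd N2247 = N2291 := flp_d L19426
theorem L19428 : sm ge N2291 = N2247 := ded_15_2 L19181 L7905 L19424
theorem L19429 : sm ge N2247 = N2291 := flp_e L19428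
theorem L19430 : sm gf N2291 = N2247 := ded_16_2 L19181 L6495 L3860 L7898 L19424
theorem L19431 : sm gf N2247 = N2291 := flp_f L19430
theorem L19432 : sm gb N1669 = N2292 := rfl
theorem L19433 : sm gb N2292 = N1669 := flp_b L19432
theorem L19434 : sm ge N2292 = N1692 := ded_15_2 L8623 L16874 L19432
theorem L19435 : sm ge N1692 = N2292 := flp_e L19434
theorem L19436 : sm gc N2292 = N1692 := ded_13_2 L8623 L4211 L4151 L8508 L19432
theorem L19437 : sm gc N1692 = N2292 := flp_c L19436
theorem L19438 : sm gd N1669 = N2293 := rfl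
theorem L19439 : sm gd N2293 = N1669 := flp_d L19438
theorem L19440 : sm ga N2293 = N1712 := ded_9_1 L8725 L16872 L19438
theorem L19441 : sm ga N1712 = N2293 := flp_a L19440
theorem L19442 : sm gc N2293 = N2293 := ded_28_0 L19439 L8509 L4149 L18280 L2096 L4323 L8724 L19441
theorem L19443 : sm gf N1669 = N2294 := rfl
theorem L19444 : sm gf N2294 = N1669 := flp_f L19443
theorem L19445 : sm ga N2294 = N1713 := ded_11_1 L8728 L16872 L19443
theorem L19446 : sm ga N1713 = N2294 := flp_a L19445
theorem L19447 : sm gc N2294 = N1670 := ded_20_1 L8511 L8508 L19443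
theorem L19448 : sm gc N1670 = N2294 := flp_c L19447
theorem L19449 : sm ge N2294 = N1693 := ded_25_1 L8625 L16874 L19443
theorem L19450 : sm ge N1693 = N2294 := flp_e L19449
theorem L19451 : sm gg N1669 = N2295 := rfl
theorem L19452 : sm gg N2295 = N1669 := flp_g L19451
theorem L19453 : sm ga N2295 = N1714 := ded_12_1 L8734 L16872 L19451
theorem L19454 : sm ga N1714 = N2295 := flp_a L19453
theorem L19455 : sm gc N2295 = N1671 := ded_21_1 L8515 L8508 L19451
theorem L19456 : sm gc N1671 = N2295 := flp_c L19455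
theorem L19457 : sm ge N2295 = N1694 := ded_26_1 L8631 L16874 L19451
theorem L19458 : sm ge N1694 = N2295 := flp_e L19457
theorem L19459 : sm gb N1671 = N2296 := rfl
theorem L19460 : sm gb N2296 = N1671 := flp_b L19459
theorem L19461 : sm gd N2296 = N1674 := ded_14_2 L8535 L8517 L19459
theorem L19462 : sm gd N1674 = N2296 := flp_d L19461
theorem L19463 : sm ge N2296 = N1696 := ded_15_2 L8641 L13936 L19459
theorem L19464 : sm ge N1696 = N2296 := flp_e L19463
theorem L19465 : sm gf N2296 = N1696 := ded_16_2 L8641 L4423 L16858 L13938 L19459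
theorem L19466 : sm gf N1696 = N2296 := flp_f L19465
theorem L19467 : sm gg N2296 = N1696 := ded_17_2 L8641 L4221 L4151 L8514 L19459
theorem L19468 : sm gg N1696 = N2296 := flp_g L19467
theorem L19469 : sm ga N2296 = N2296 := ded_7_1 L19460 L13930 L16881 L2452 L1318 L2453 L16882 L13931 L19459
theorem L19470 : sm ga N1692 = N2297 := rfl
theorem L19471 : sm ga N2297 = N1692 := flp_a L19470
theorem L19472 : sm gf N1692 = N2298 := rfl
theorem L19473 : sm gf N2298 = N1692 := flp_f L19472
theorem L19474 : sm gg N1692 = N2299 := rfl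
theorem L19475 : sm gg N2299 = N1692 := flp_g L19474
theorem L19476 : sm gb N1693 = N2300 := rfl
theorem L19477 : sm gb N2300 = N1693 := flp_b L19476
theorem L19478 : sm gb N1694 = N2301 := rfl
theorem L19479 : sm gb N2301 = N1694 := flp_b L19478
theorem L19480 : sm gc N1695 = N2302 := rfl
theorem L19481 : sm gc N2302 = N1695 := flp_c L19480
theorem L19482 : sm ga N2302 = N2254 := ded_8_1 L19219 L18554 L19480
theorem L19483 : sm ga N2254 = N2302 := flp_a L19482
theorem L19484 : sm ge N2302 = N2264 := ded_19_2 L19259 L18461 L19480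
theorem L19485 : sm ge N2264 = N2302 := flp_e L19484
theorem L19486 : sm gf N2302 = N2264 := ded_20_2 L19259 L18414 L19480
theorem L19487 : sm gf N2264 = N2302 := flp_f L19486
theorem L19488 : sm gc N1696 = N2303 := rfl
theorem L19489 : sm gc N2303 = N1696 := flp_c L19488
theorem L19491 : sm ga N1711 = N2304 := rfl
theorem L19492 : sm ga N2304 = N1711 := flp_a L19491
theorem L19493 : sm gc N2304 = N1822 := ded_8_2 L9256 L8723 L19491
theorem L19494 : sm gc N1822 = N2304 := flp_c L19493
theorem L19495 : sm ge N2304 = N1739 := ded_10_2 L8868 L8721 L19491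
theorem L19496 : sm ge N1739 = N2304 := flp_e L19495
theorem L19497 : sm gd N1711 = N2305 := rfl
theorem L19498 : sm gd N2305 = N1711 := flp_d L19497
theorem L19499 : sm gb N2305 = N1712 := ded_14_1 L8725 L8718 L19497
theorem L19500 : sm gb N1712 = N2305 := flp_b L19499
theorem L19501 : sm gf N1711 = N2306 := rfl
theorem L19502 : sm gf N2306 = N1711 := flp_f L19501
theorem L19503 : sm gc N2306 = N1824 := ded_20_1 L9264 L8723 L19501
theorem L19504 : sm gc N1824 = N2306 := flp_c L19503
theorem L19505 : sm ge N2306 = N1741 := ded_25_1 L8876 L8721 L19501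
theorem L19506 : sm ge N1741 = N2306 := flp_e L19505
theorem L19507 : sm gg N1711 = N2307 := rfl
theorem L19508 : sm gg N2307 = N1711 := flp_g L19507
theorem L19509 : sm gc N2307 = N1825 := ded_21_1 L9268 L8723 L19507
theorem L19510 : sm gc N1825 = N2307 := flp_c L19509
theorem L19511 : sm ge N2307 = N1742 := ded_26_1 L8880 L8721 L19507
theorem L19512 : sm ge N1742 = N2307 := flp_e L19511
theorem L19513 : sm ge N1712 = N2308 := rfl
theorem L19514 : sm ge N2308 = N1712 := flp_e L19513
theorem L19515 : sm gc N2308 = N2308 := ded_19_1 L19514 L8726 L19513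
theorem L19516 : sm gd N2308 = N1743 := ded_22_1 L8884 L4404 L4326 L8724 L19513
theorem L19517 : sm gd N1743 = N2308 := flp_d L19516
theorem L19518 : sm gf N1712 = N2309 := rfl
theorem L19519 : sm gf N2309 = N1712 := flp_f L19518
theorem L19520 : sm gc N2309 = N2309 := ded_20_1 L19519 L8726 L19518
theorem L19521 : sm gd N2309 = N1713 := ded_23_1 L8728 L8724 L19518
theorem L19522 : sm gd N1713 = N2309 := flp_d L19521
theorem L19523 : sm gg N1712 = N2310 := rfl
theorem L19524 : sm gg N2310 = N1712 := flp_g L19523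
theorem L19525 : sm gc N2310 = N2310 := ded_21_1 L19524 L8726 L19523
theorem L19526 : sm gd N2310 = N1714 := ded_24_1 L8734 L8724 L19523
theorem L19527 : sm gd N1714 = N2310 := flp_d L19526
theorem L19528 : sm gb N1713 = N2311 := rfl
theorem L19529 : sm gb N2311 = N1713 := flp_b L19528
theorem L19530 : sm ge N2311 = N1746 := ded_15_2 L8894 L8732 L19528
theorem L19531 : sm ge N1746 = N2311 := flp_e L19530
theorem L19532 : sm gg N1713 = N2312 := rfl
theorem L19533 : sm gg N2312 = N1713 := flp_g L19532
theorem L19534 : sm gc N2312 = N1716 := ded_21_1 L8748 L8730 L19532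
theorem L19535 : sm gc N1716 = N2312 := flp_c L19534
theorem L19536 : sm ge N2312 = N1747 := ded_26_1 L8896 L8732 L19532
theorem L19537 : sm ge N1747 = N2312 := flp_e L19536
theorem L19538 : sm gf N2295 = N2312 := ded_29_0 L19533 L8728 L8733 L19454
theorem L19539 : sm gf N2312 = N2295 := flp_f L19538
theorem L19540 : sm gb N1714 = N2313 := rfl
theorem L19541 : sm gb N2313 = N1714 := flp_b L19540
theorem L19542 : sm ge N2313 = N1748 := ded_15_2 L8902 L8738 L19540
theorem L19543 : sm ge N1748 = N2313 := flp_e L19542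
theorem L19544 : sm gc N2313 = N1998 := ded_13_2 L10169 L4982 L16882 L8736 L19540
theorem L19545 : sm gc N1998 = N2313 := flp_c L19544
theorem L19546 : sm gf N1714 = N2314 := rfl
theorem L19547 : sm gf N2314 = N1714 := flp_f L19546
theorem L19548 : sm ga N2314 = N2312 := ded_11_1 L19539 L19453 L19546
theorem L19549 : sm ga N2312 = N2314 := flp_a L19548
theorem L19550 : sm gc N2314 = N1718 := ded_20_1 L8764 L8736 L19546
theorem L19551 : sm gc N1718 = N2314 := flp_c L19550
theorem L19552 : sm ge N2314 = N1749 := ded_25_1 L8904 L8738 L19546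
theorem L19553 : sm ge N1749 = N2314 := flp_e L19552
theorem L19554 : sm gg N2314 = N2294 := ded_29_3 L19445 L8728 L8733 L19546
theorem L19555 : sm gg N2294 = N2314 := flp_g L19554
theorem L19556 : sm gc N1715 = N2315 := rfl
theorem L19557 : sm gc N2315 = N1715 := flp_c L19556
theorem L19558 : sm ge N2315 = N1751 := ded_19_2 L8918 L8744 L19556
theorem L19559 : sm ge N1751 = N2315 := flp_e L19558
theorem L19560 : sm gf N2315 = N1829 := ded_20_2 L9286 L8746 L19556
theorem L19561 : sm gf N1829 = N2315 := flp_f L19560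
theorem L19562 : sm gg N2315 = N1751 := ded_21_2 L8918 L13619 L19556
theorem L19563 : sm gg N1751 = N2315 := flp_g L19562
theorem L19564 : sm gb N1739 = N2316 := rfl
theorem L19565 : sm gb N2316 = N1739 := flp_b L19564
theorem L19566 : sm gf N1739 = N2317 := rfl
theorem L19567 : sm gf N2317 = N1739 := flp_f L19566
theorem L19568 : sm ga N2317 = N1741 := ded_11_1 L8876 L8867 L19566
theorem L19569 : sm ga N1741 = N2317 := flp_a L19568
theorem L19570 : sm gc N2317 = N1852 := ded_20_1 L9392 L8870 L19566
theorem L19571 : sm gc N1852 = N2317 := flp_c L19570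
theorem L19572 : sm gg N1739 = N2318 := rfl
theorem L19573 : sm gg N2318 = N1739 := flp_g L19572
theorem L19574 : sm ga N2318 = N1742 := ded_12_1 L8880 L8867 L19572
theorem L19575 : sm ga N1742 = N2318 := flp_a L19574
theorem L19576 : sm gc N2318 = N1853 := ded_21_1 L9396 L8870 L19572
theorem L19577 : sm gc N1853 = N2318 := flp_c L19576
theorem L19578 : sm ge N1740 = N2319 := rfl
theorem L19579 : sm ge N2319 = N1740 := flp_e L19578
theorem L19580 : sm gb N2319 = N1743 := ded_15_1 L8884 L8874 L19578
theorem L19581 : sm gb N1743 = N2319 := flp_b L19580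
theorem L19582 : sm gf N1740 = N2320 := rfl
theorem L19583 : sm gf N2320 = N1740 := flp_f L19582
theorem L19584 : sm gd N2320 = N1741 := ded_23_1 L8876 L8871 L19582
theorem L19585 : sm gd N1741 = N2320 := flp_d L19584
theorem L19586 : sm gg N1740 = N2321 := rfl
theorem L19587 : sm gg N2321 = N1740 := flp_g L19586
theorem L19588 : sm gd N2321 = N1742 := ded_24_1 L8880 L8871 L19586
theorem L19589 : sm gd N1742 = N2321 := flp_d L19588
theorem L19590 : sm gb N1741 = N2322 := rfl
theorem L19591 : sm gb N2322 = N1741 := flp_b L19590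
theorem L19592 : sm gf N2322 = N1746 := ded_16_2 L8894 L4406 L4399 L8875 L19590
theorem L19593 : sm gf N1746 = N2322 := flp_f L19592
theorem L19594 : sm gg N1741 = N2323 := rfl
theorem L19595 : sm gg N2323 = N1741 := flp_g L19594
theorem L19598 : sm gf N2318 = N2323 := ded_29_0 L19595 L8876 L8879 L19575
theorem L19599 : sm gf N2323 = N2318 := flp_f L19598
theorem L19600 : sm gb N1742 = N2324 := rfl
theorem L19601 : sm gb N2324 = N1742 := flp_b L19600
theorem L19602 : sm gc N2324 = N2114 := ded_13_2 L18594 L18473 L9408 L8882 L19600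
theorem L19603 : sm gc N2114 = N2324 := flp_c L19602
theorem L19604 : sm gg N2324 = N1748 := ded_17_2 L8902 L4410 L4399 L8879 L19600
theorem L19605 : sm gg N1748 = N2324 := flp_g L19604
theorem L19606 : sm gf N1742 = N2325 := rfl
theorem L19607 : sm gf N2325 = N1742 := flp_f L19606
theorem L19610 : sm gc N2325 = N1857 := ded_20_1 L9414 L8882 L19606
theorem L19611 : sm gc N1857 = N2325 := flp_c L19610
theorem L19612 : sm gg N2325 = N2317 := ded_29_3 L19568 L8876 L8879 L19606
theorem L19613 : sm gg N2317 = N2325 := flp_g L19612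
theorem L19614 : sm gf N1743 = N2326 := rfl
theorem L19615 : sm gf N2326 = N1743 := flp_f L19614
theorem L19616 : sm ge N2326 = N1744 := ded_25_1 L8886 L8883 L19614
theorem L19617 : sm ge N1744 = N2326 := flp_e L19616
theorem L19618 : sm gg N1743 = N2327 := rfl
theorem L19619 : sm gg N2327 = N1743 := flp_g L19618
theorem L19620 : sm ge N2327 = N1745 := ded_26_1 L8890 L8883 L19618
theorem L19621 : sm ge N1745 = N2327 := flp_e L19620
theorem L19622 : sm gb N1744 = N2328 := rfl
theorem L19623 : sm gb N2328 = N1744 := flp_b L19622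
theorem L19624 : sm gd N2328 = N1746 := ded_14_2 L8894 L8888 L19622
theorem L19625 : sm gd N1746 = N2328 := flp_d L19624
theorem L19626 : sm gg N1744 = N2329 := rfl
theorem L19627 : sm gg N2329 = N1744 := flp_g L19626
theorem L19628 : sm gc N2329 = N2041 := ded_21_1 L10432 L10152 L19626
theorem L19629 : sm gc N2041 = N2329 := flp_c L19628
theorem L19630 : sm gd N2329 = N1747 := ded_24_1 L8896 L8888 L19626
theorem L19631 : sm gd N1747 = N2329 := flp_d L19630
theorem L19632 : sm gf N2035 = N2329 := ded_29_0 L19627 L8886 L8889 L10395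
theorem L19633 : sm gf N2329 = N2035 := flp_f L19632
theorem L19634 : sm gb N1745 = N2330 := rfl
theorem L19635 : sm gb N2330 = N1745 := flp_b L19634
theorem L19636 : sm gd N2330 = N1748 := ded_14_2 L8902 L8892 L19634
theorem L19637 : sm gd N1748 = N2330 := flp_d L19636
theorem L19638 : sm gf N1745 = N2331 := rfl
theorem L19639 : sm gf N2331 = N1745 := flp_f L19638
theorem L19640 : sm ga N2331 = N2329 := ded_11_1 L19633 L10394 L19638
theorem L19641 : sm ga N2329 = N2331 := flp_a L19640
theorem L19642 : sm gc N2331 = N2039 := ded_20_1 L10421 L10160 L19638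
theorem L19643 : sm gc N2039 = N2331 := flp_c L19642
theorem L19644 : sm gd N2331 = N1749 := ded_23_1 L8904 L8892 L19638
theorem L19645 : sm gd N1749 = N2331 := flp_d L19644
theorem L19646 : sm gg N2331 = N2034 := ded_29_3 L10386 L8886 L8889 L19638
theorem L19647 : sm gg N2034 = N2331 := flp_g L19646
theorem L19648 : sm ga N1746 = N2332 := rfl
theorem L19649 : sm ga N2332 = N1746 := flp_a L19648
theorem L19650 : sm gc N1746 = N2333 := rfl
theorem L19651 : sm gc N2333 = N1746 := flp_c L19650
theorem L19652 : sm gb N2333 = N1751 := ded_13_1 L8918 L4414 L4408 L8893 L19650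
theorem L19653 : sm gb N1751 = N2333 := flp_b L19652
theorem L19654 : sm gg N1746 = N2334 := rfl
theorem L19655 : sm gg N2334 = N1746 := flp_g L19654
theorem L19656 : sm gb N1747 = N2335 := rfl
theorem L19657 : sm gb N2335 = N1747 := flp_b L19656
theorem L19658 : sm ga N1748 = N2336 := rfl
theorem L19659 : sm ga N2336 = N1748 := flp_a L19658
theorem L19660 : sm gc N2336 = N2123 := ded_8_2 L18636 L18508 L19658
theorem L19661 : sm gc N2123 = N2336 := flp_c L19660
theorem L19662 : sm gf N1748 = N2337 := rfl
theorem L19663 : sm gf N2337 = N1748 := flp_f L19662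
theorem L19664 : sm gc N2337 = N2124 := ded_20_1 L18638 L18508 L19662
theorem L19665 : sm gc N2124 = N2337 := flp_c L19664
theorem L19666 : sm gb N1749 = N2338 := rfl
theorem L19667 : sm gb N2338 = N1749 := flp_b L19666
theorem L19668 : sm gc N1750 = N2339 := rfl
theorem L19669 : sm gc N2339 = N1750 := flp_c L19668
theorem L19670 : sm ga N2339 = N1751 := ded_8_1 L8918 L8911 L19668
theorem L19671 : sm ga N1751 = N2339 := flp_a L19670
theorem L19672 : sm gf N2339 = N1866 := ded_20_2 L9448 L8916 L19668
theorem L19673 : sm gf N1866 = N2339 := flp_f L19672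
theorem L19674 : sm gd N1751 = N2340 := rfl
theorem L19675 : sm gd N2340 = N1751 := flp_d L19674
theorem L19676 : sm gf N2340 = N1868 := ded_23_2 L9460 L8920 L19674
theorem L19677 : sm gf N1868 = N2340 := flp_f L19676
theorem L19678 : sm ga N1809 = N2341 := rfl
theorem L19679 : sm ga N2341 = N1809 := flp_a L19678
theorem L19680 : sm gc N2341 = N1990 := ded_8_2 L10125 L15679 L19678
theorem L19681 : sm gc N1990 = N2341 := flp_c L19680
theorem L19682 : sm ge N2341 = N1861 := ded_10_2 L9428 L9180 L19678
theorem L19683 : sm ge N1861 = N2341 := flp_e L19682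
theorem L19684 : sm gf N1809 = N2342 := rfl
theorem L19685 : sm gf N2342 = N1809 := flp_f L19684
theorem L19686 : sm gc N2342 = N1992 := ded_20_1 L10133 L15679 L19684
theorem L19687 : sm gc N1992 = N2342 := flp_c L19686
theorem L19688 : sm ge N2342 = N1863 := ded_25_1 L9436 L9180 L19684
theorem L19689 : sm ge N1863 = N2342 := flp_e L19688
theorem L19690 : sm gg N1809 = N2343 := rfl
theorem L19691 : sm gg N2343 = N1809 := flp_g L19690
theorem L19692 : sm gc N2343 = N1993 := ded_21_1 L10137 L15679 L19690
theorem L19693 : sm gc N1993 = N2343 := flp_c L19692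
theorem L19694 : sm ge N2343 = N1856 := ded_26_1 L9411 L9180 L19690
theorem L19695 : sm ge N1856 = N2343 := flp_e L19694
theorem L19696 : sm gb N2343 = N1825 := ded_17_1 L9268 L4578 L4548 L9177 L19690
theorem L19697 : sm gb N1825 = N2343 := flp_b L19696
theorem L19698 : sm gb N1822 = N2344 := rfl
theorem L19699 : sm gb N2344 = N1822 := flp_b L19698
theorem L19700 : sm ge N2344 = N1851 := ded_15_2 L9390 L9258 L19698
theorem L19701 : sm ge N1851 = N2344 := flp_e L19700
theorem L19702 : sm gd N1822 = N2345 := rfl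
theorem L19703 : sm gd N2345 = N1822 := flp_d L19702
theorem L19704 : sm ga N2345 = N1823 := ded_9_1 L9260 L9255 L19702
theorem L19705 : sm ga N1823 = N2345 := flp_a L19704
theorem L19706 : sm ge N2345 = N2268 := ded_22_2 L19273 L7718 L17694 L9258 L19702
theorem L19707 : sm ge N2268 = N2345 := flp_e L19706
theorem L19708 : sm gc N2319 = N2345 := ded_19_3 L19706 L19276 L19578
theorem L19710 : sm gf N1822 = N2346 := rfl
theorem L19711 : sm gf N2346 = N1822 := flp_f L19710
theorem L19712 : sm ga N2346 = N1824 := ded_11_1 L9264 L9255 L19710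
theorem L19713 : sm ga N1824 = N2346 := flp_a L19712
theorem L19714 : sm ge N2346 = N1852 := ded_25_1 L9392 L9258 L19710
theorem L19715 : sm ge N1852 = N2346 := flp_e L19714
theorem L19716 : sm gg N1822 = N2347 := rfl
theorem L19717 : sm gg N2347 = N1822 := flp_g L19716
theorem L19718 : sm ga N2347 = N1825 := ded_12_1 L9268 L9255 L19716
theorem L19719 : sm ga N1825 = N2347 := flp_a L19718
theorem L19720 : sm ge N2347 = N1853 := ded_26_1 L9396 L9258 L19716
theorem L19721 : sm ge N1853 = N2347 := flp_e L19720
theorem L19722 : sm gc N1823 = N2348 := rfl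
theorem L19723 : sm gc N2348 = N1823 := flp_c L19722
theorem L19724 : sm ga N2348 = N2319 := ded_8_1 L19708 L19704 L19722
theorem L19725 : sm ga N2319 = N2348 := flp_a L19724
theorem L19726 : sm ge N2348 = N2271 := ded_19_2 L19295 L18417 L19722
theorem L19727 : sm ge N2271 = N2348 := flp_e L19726
theorem L19728 : sm gf N1823 = N2349 := rfl
theorem L19729 : sm gf N2349 = N1823 := flp_f L19728
theorem L19730 : sm gd N2349 = N1824 := ded_23_1 L9264 L9259 L19728
theorem L19731 : sm gd N1824 = N2349 := flp_d L19730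
theorem L19732 : sm ge N2349 = N2272 := ded_25_1 L19301 L18417 L19728
theorem L19733 : sm ge N2272 = N2349 := flp_e L19732
theorem L19734 : sm gg N1823 = N2350 := rfl
theorem L19735 : sm gg N2350 = N1823 := flp_g L19734
theorem L19736 : sm gd N2350 = N1825 := ded_24_1 L9268 L9259 L19734
theorem L19737 : sm gd N1825 = N2350 := flp_d L19736
theorem L19738 : sm ge N2350 = N2273 := ded_26_1 L19305 L18417 L19734
theorem L19739 : sm ge N2273 = N2350 := flp_e L19738
theorem L19740 : sm gb N1824 = N2351 := rfl
theorem L19741 : sm gb N2351 = N1824 := flp_b L19740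
theorem L19742 : sm ge N2351 = N1854 := ded_15_2 L9400 L9266 L19740
theorem L19743 : sm ge N1854 = N2351 := flp_e L19742
theorem L19744 : sm gf N2351 = N1827 := ded_16_2 L9276 L4584 L4577 L9263 L19740
theorem L19745 : sm gf N1827 = N2351 := flp_f L19744
theorem L19746 : sm gg N1824 = N2352 := rfl
theorem L19747 : sm gg N2352 = N1824 := flp_g L19746
theorem L19748 : sm ge N2352 = N1855 := ded_26_1 L9404 L9266 L19746
theorem L19749 : sm ge N1855 = N2352 := flp_e L19748
theorem L19750 : sm gf N2347 = N2352 := ded_29_0 L19747 L9264 L9267 L19719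
theorem L19751 : sm gf N2352 = N2347 := flp_f L19750
theorem L19752 : sm gf N1825 = N2353 := rfl
theorem L19753 : sm gf N2353 = N1825 := flp_f L19752
theorem L19754 : sm ga N2353 = N2352 := ded_11_1 L19751 L19718 L19752
theorem L19755 : sm ga N2352 = N2353 := flp_a L19754
theorem L19756 : sm ge N2353 = N1857 := ded_25_1 L9414 L9270 L19752
theorem L19757 : sm ge N1857 = N2353 := flp_e L19756
theorem L19758 : sm gg N2353 = N2346 := ded_29_3 L19712 L9264 L9267 L19752
theorem L19759 : sm gg N2346 = N2353 := flp_g L19758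
theorem L19760 : sm gb N1826 = N2354 := rfl
theorem L19761 : sm gb N2354 = N1826 := flp_b L19760
theorem L19762 : sm gd N2354 = N1827 := ded_14_2 L9276 L9274 L19760
theorem L19763 : sm gd N1827 = N2354 := flp_d L19762
theorem L19764 : sm ge N2354 = N2279 := ded_15_2 L19353 L18419 L19760
theorem L19765 : sm ge N2279 = N2354 := flp_e L19764
theorem L19766 : sm ga N1827 = N2355 := rfl
theorem L19767 : sm ga N2355 = N1827 := flp_a L19766
theorem L19768 : sm ge N2355 = N1858 := ded_10_2 L9420 L9278 L19766
theorem L19769 : sm ge N1858 = N2355 := flp_e L19768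
theorem L19770 : sm gc N1827 = N2356 := rfl
theorem L19771 : sm gc N2356 = N1827 := flp_c L19770
theorem L19772 : sm ge N2356 = N1859 := ded_19_2 L9422 L9278 L19770
theorem L19773 : sm ge N1859 = N2356 := flp_e L19772
theorem L19774 : sm gb N2356 = N1829 := ded_13_1 L9286 L4590 L4586 L9275 L19770
theorem L19775 : sm gb N1829 = N2356 := flp_b L19774
theorem L19776 : sm gg N1827 = N2357 := rfl
theorem L19777 : sm gg N2357 = N1827 := flp_g L19776
theorem L19778 : sm ge N2357 = N1860 := ded_26_1 L9426 L9278 L19776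
theorem L19779 : sm ge N1860 = N2357 := flp_e L19778
theorem L19780 : sm gd N1829 = N2358 := rfl
theorem L19781 : sm gd N2358 = N1829 := flp_d L19780
theorem L19782 : sm gc N1834 = N2359 := rfl
theorem L19783 : sm gc N2359 = N1834 := flp_c L19782
theorem L19784 : sm ga N2359 = N2266 := ded_8_1 L19266 L18517 L19782
theorem L19785 : sm ga N2266 = N2359 := flp_a L19784
theorem L19786 : sm gg N2359 = N2264 := ded_21_2 L19259 L18520 L19782
theorem L19787 : sm gg N2264 = N2359 := flp_g L19786
theorem L19788 : sm ga N1851 = N2360 := rfl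
theorem L19789 : sm ga N2360 = N1851 := flp_a L19788
theorem L19790 : sm gc N1851 = N2361 := rfl
theorem L19791 : sm gc N2361 = N1851 := flp_c L19790
theorem L19792 : sm gf N1851 = N2362 := rfl
theorem L19793 : sm gf N2362 = N1851 := flp_f L19792
theorem L19794 : sm gg N1851 = N2363 := rfl
theorem L19795 : sm gg N2363 = N1851 := flp_g L19794
theorem L19796 : sm gb N1852 = N2364 := rfl
theorem L19797 : sm gb N2364 = N1852 := flp_b L19796
theorem L19798 : sm gb N1853 = N2365 := rfl
theorem L19799 : sm gb N2365 = N1853 := flp_b L19798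
theorem L19800 : sm ga N1854 = N2366 := rfl
theorem L19801 : sm ga N2366 = N1854 := flp_a L19800
theorem L19802 : sm gf N2366 = N1858 := ded_11_2 L9420 L9402 L19800
theorem L19803 : sm gf N1858 = N2366 := flp_f L19802
theorem L19804 : sm gc N1854 = N2367 := rfl
theorem L19805 : sm gc N2367 = N1854 := flp_c L19804
theorem L19806 : sm gf N2367 = N1859 := ded_20_2 L9422 L9402 L19804
theorem L19807 : sm gf N1859 = N2367 := flp_f L19806
theorem L19808 : sm gg N1854 = N2368 := rfl
theorem L19809 : sm gg N2368 = N1854 := flp_g L19808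
theorem L19810 : sm gb N1855 = N2369 := rfl
theorem L19811 : sm gb N2369 = N1855 := flp_b L19810
theorem L19812 : sm ga N1856 = N2370 := rfl
theorem L19813 : sm ga N2370 = N1856 := flp_a L19812
theorem L19814 : sm gc N2370 = N2107 := ded_8_2 L18567 L18473 L19812
theorem L19815 : sm gc N2107 = N2370 := flp_c L19814
theorem L19816 : sm gd N2370 = N2257 := ded_9_2 L19232 L9410 L19812
theorem L19817 : sm gd N2257 = N2370 := flp_d L19816
theorem L19818 : sm gg N2370 = N1861 := ded_12_2 L9428 L9412 L19812
theorem L19819 : sm gg N1861 = N2370 := flp_g L19818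
theorem L19820 : sm gf N1856 = N2371 := rfl
theorem L19821 : sm gf N2371 = N1856 := flp_f L19820
theorem L19822 : sm gc N2371 = N2115 := ded_20_1 L18598 L18473 L19820
theorem L19823 : sm gc N2115 = N2371 := flp_c L19822
theorem L19824 : sm gd N2371 = N2260 := ded_23_1 L19243 L9410 L19820
theorem L19825 : sm gd N2260 = N2371 := flp_d L19824
theorem L19826 : sm gb N1857 = N2372 := rfl
theorem L19827 : sm gb N2372 = N1857 := flp_b L19826
theorem L19828 : sm gb N1858 = N2373 := rfl
theorem L19829 : sm gb N2373 = N1858 := flp_b L19828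
theorem L19830 : sm gc N1858 = N2374 := rfl
theorem L19831 : sm gc N2374 = N1858 := flp_c L19830
theorem L19832 : sm ga N2374 = N1859 := ded_8_1 L9422 L9419 L19830
theorem L19833 : sm ga N1859 = N2374 := flp_a L19832
theorem L19834 : sm gg N1858 = N2375 := rfl
theorem L19835 : sm gg N2375 = N1858 := flp_g L19834
theorem L19836 : sm ga N2375 = N1860 := ded_12_1 L9426 L9419 L19834
theorem L19837 : sm ga N1860 = N2375 := flp_a L19836
theorem L19838 : sm gf N2375 = N2368 := ded_29_2 L19809 L19800 L19802 L19834
theorem L19839 : sm gf N2368 = N2375 := flp_f L19838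
theorem L19840 : sm gd N1859 = N2376 := rfl
theorem L19841 : sm gd N2376 = N1859 := flp_d L19840
theorem L19842 : sm gb N2376 = N1868 := ded_14_1 L9460 L9424 L19840
theorem L19843 : sm gb N1868 = N2376 := flp_b L19842
theorem L19844 : sm gg N1859 = N2377 := rfl
theorem L19845 : sm gg N2377 = N1859 := flp_g L19844
theorem L19846 : sm gc N2377 = N1860 := ded_21_1 L9426 L9421 L19844
theorem L19847 : sm gc N1860 = N2377 := flp_c L19846
theorem L19848 : sm gf N1860 = N2378 := rfl
theorem L19849 : sm gf N2378 = N1860 := flp_f L19848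
theorem L19850 : sm ga N2378 = N2368 := ded_11_1 L19839 L19836 L19848
theorem L19851 : sm ga N2368 = N2378 := flp_a L19850
theorem L19852 : sm gg N2378 = N2366 := ded_29_3 L19801 L9401 L9425 L19848
theorem L19853 : sm gg N2366 = N2378 := flp_g L19852
theorem L19854 : sm gb N1861 = N2379 := rfl
theorem L19855 : sm gb N2379 = N1861 := flp_b L19854
theorem L19856 : sm gd N2379 = N2255 := ded_14_2 L19225 L9430 L19854
theorem L19857 : sm gd N2255 = N2379 := flp_d L19856
theorem L19858 : sm gf N1861 = N2380 := rfl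
theorem L19859 : sm gf N2380 = N1861 := flp_f L19858
theorem L19860 : sm ga N2380 = N1863 := ded_11_1 L9436 L9427 L19858
theorem L19861 : sm ga N1863 = N2380 := flp_a L19860
theorem L19862 : sm gc N2380 = N2106 := ded_20_1 L18562 L18469 L19858
theorem L19863 : sm gc N2106 = N2380 := flp_c L19862
theorem L19864 : sm gd N2380 = N2256 := ded_23_1 L19227 L9430 L19858
theorem L19865 : sm gd N2256 = N2380 := flp_d L19864
theorem L19866 : sm gg N2371 = N2380 := ded_29_1 L19859 L19819 L19813 L19820
theorem L19867 : sm gg N2380 = N2371 := flp_g L19866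
theorem L19868 : sm gb N1863 = N2381 := rfl
theorem L19869 : sm gb N2381 = N1863 := flp_b L19868
theorem L19870 : sm gd N2381 = N2258 := ded_14_2 L19235 L9438 L19868
theorem L19871 : sm gd N2258 = N2381 := flp_d L19870
theorem L19872 : sm gf N2381 = N1864 := ded_16_2 L9440 L4650 L4645 L9435 L19868
theorem L19873 : sm gf N1864 = N2381 := flp_f L19872
theorem L19874 : sm gg N1863 = N2382 := rfl
theorem L19875 : sm gg N2382 = N1863 := flp_g L19874
theorem L19876 : sm ga N2382 = N2371 := ded_12_1 L19866 L19860 L19874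
theorem L19877 : sm ga N2371 = N2382 := flp_a L19876
theorem L19878 : sm gc N2382 = N2113 := ded_21_1 L18590 L18471 L19874
theorem L19879 : sm gc N2113 = N2382 := flp_c L19878
theorem L19880 : sm gd N2382 = N2259 := ded_24_1 L19239 L9438 L19874
theorem L19881 : sm gd N2259 = N2382 := flp_d L19880
theorem L19882 : sm gf N2370 = N2382 := ded_29_0 L19875 L9436 L9412 L19812
theorem L19884 : sm ga N1864 = N2383 := rfl
theorem L19885 : sm ga N2383 = N1864 := flp_a L19884
theorem L19886 : sm gd N2383 = N2261 := ded_9_2 L19249 L9442 L19884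
theorem L19887 : sm gd N2261 = N2383 := flp_d L19886
theorem L19888 : sm gc N1864 = N2384 := rfl
theorem L19889 : sm gc N2384 = N1864 := flp_c L19888
theorem L19890 : sm gb N2384 = N1879 := ded_13_1 L9514 L4680 L4654 L9439 L19888
theorem L19891 : sm gb N1879 = N2384 := flp_b L19890
theorem L19892 : sm gg N1864 = N2385 := rfl
theorem L19893 : sm gg N2385 = N1864 := flp_g L19892
theorem L19894 : sm gd N2385 = N2263 := ded_24_1 L19255 L9442 L19892
theorem L19895 : sm gd N2263 = N2385 := flp_d L19894
theorem L19896 : sm gb N2385 = N2180 := ded_17_1 L18884 L6066 L12344 L9439 L19892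
theorem L19897 : sm gb N2180 = N2385 := flp_b L19896
theorem L19898 : sm gc N1865 = N2386 := rfl
theorem L19899 : sm gc N2386 = N1865 := flp_c L19898
theorem L19900 : sm ge N2386 = N2266 := ded_19_2 L19266 L18509 L19898
theorem L19901 : sm ge N2266 = N2386 := flp_e L19900
theorem L19902 : sm gf N2386 = N2359 := ded_20_2 L19783 L18515 L19898
theorem L19903 : sm gf N2359 = N2386 := flp_f L19902
theorem L19904 : sm gg N2386 = N2254 := ded_21_2 L19219 L18421 L19898
theorem L19905 : sm gg N2254 = N2386 := flp_g L19904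
theorem L19906 : sm gb N1866 = N2387 := rfl
theorem L19907 : sm gb N2387 = N1866 := flp_b L19906
theorem L19908 : sm gd N1866 = N2388 := rfl
theorem L19909 : sm gd N2388 = N1866 := flp_d L19908
theorem L19910 : sm ga N2388 = N1868 := ded_9_1 L9460 L9450 L19908
theorem L19911 : sm ga N1868 = N2388 := flp_a L19910
theorem L19912 : sm gg N2388 = N2358 := ded_24_2 L19781 L18513 L19908
theorem L19913 : sm gg N2358 = N2388 := flp_g L19912
theorem L19914 : sm gc N2388 = N2265 := ded_28_6 L19263 L19261 L19259 L7510 L3601 L4662 L9447 L19908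

end Cfsg.Agent.Helper28.SuzA
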