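import Cfsg.Agent.Helper28.SuzB2

/-! # The Suzuki group presentation, cosets of the subgroup generated by a, …, f: the coset enumeration, part 3 (helper28; generated) -/

set_option autoImplicit false

noncomputable section

namespace Cfsg.Agent.Helper28.SuzA

open Cfsg.Agent.Helper28.CosetTable

theorem L19915 : sm gc N2265 = N2388 := flp_c L19914
theorem L19916 : sm gc N1868 = N2389 := rfl
theorem L19917 : sm gc N2389 = N1868 := flp_c L19916
theorem L19918 : sm ga N2389 = N2265 := ded_8_1 L19915 L19910 L19916
theorem L19919 : sm ga N2265 = N2389 := flp_a L19918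
theorem L19920 : sm gd N2389 = N2264 := ded_28_7 L19260 L7513 L3597 L1798 L2272 L4663 L9459 L19916
theorem L19921 : sm gd N2264 = N2389 := flp_d L19920
theorem L19922 : sm ge N1868 = N2390 := rfl
theorem L19923 : sm ge N2390 = N1868 := flp_e L19922
theorem L19924 : sm gg N1868 = N2391 := rfl
theorem L19925 : sm gg N2391 = N1868 := flp_g L19924
theorem L19926 : sm ga N2391 = N2358 := ded_12_1 L19913 L19910 L19924
theorem L19927 : sm ga N2358 = N2391 := flp_a L19926
theorem L19928 : sm gd N2391 = N1869 := ded_24_1 L9462 L9459 L19924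
theorem L19929 : sm gd N1869 = N2391 := flp_d L19928
theorem L19930 : sm gb N1869 = N2392 := rfl
theorem L19931 : sm gb N2392 = N1869 := flp_b L19930
theorem L19932 : sm ge N2392 = N2387 := ded_15_2 L19907 L18512 L19930
theorem L19933 : sm ge N2387 = N2392 := flp_e L19932
theorem L19934 : sm gf N1869 = N2393 := rfl
theorem L19935 : sm gf N2393 = N1869 := flp_f L19934
theorem L19936 : sm ga N2393 = N2315 := ded_11_1 L19560 L18464 L19934
theorem L19937 : sm ga N2315 = N2393 := flp_a L19936
theorem L19938 : sm gc N2393 = N1870 := ded_20_1 L9466 L9464 L19934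
theorem L19939 : sm gc N1870 = N2393 := flp_c L19938
theorem L19940 : sm ge N2393 = N2339 := ded_25_1 L19672 L18512 L19934
theorem L19941 : sm ge N2339 = N2393 := flp_e L19940
theorem L19942 : sm gg N2393 = N2339 := ded_29_3 L19670 L8919 L9461 L19934
theorem L19943 : sm gg N2339 = N2393 := flp_g L19942
theorem L19944 : sm gc N1878 = N2394 := rfl
theorem L19945 : sm gc N2394 = N1878 := flp_c L19944
theorem L19946 : sm ga N2394 = N1879 := ded_8_1 L9514 L9509 L19944
theorem L19947 : sm ga N1879 = N2394 := flp_a L19946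
theorem L19948 : sm gf N2394 = N2126 := ded_20_2 L18652 L18534 L19944
theorem L19949 : sm gf N2126 = N2394 := flp_f L19948
theorem L19950 : sm gg N2394 = N2193 := ded_21_2 L18940 L18503 L19944
theorem L19951 : sm gg N2193 = N2394 := flp_g L19950
theorem L19952 : sm gd N1879 = N2395 := rfl
theorem L19953 : sm gd N2395 = N1879 := flp_d L19952
theorem L19954 : sm gf N2395 = N2127 := ded_23_2 L18656 L18536 L19952
theorem L19955 : sm gf N2127 = N2395 := flp_f L19954
theorem L19956 : sm gg N2395 = N2194 := ded_24_2 L18946 L18548 L19952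
theorem L19957 : sm gg N2194 = N2395 := flp_g L19956
theorem L19958 : sm gd N1895 = N2396 := rfl
theorem L19959 : sm gd N2396 = N1895 := flp_d L19958
theorem L19962 : sm gb N2396 = N2129 := ded_14_1 L18662 L18435 L19958
theorem L19963 : sm gb N2129 = N2396 := flp_b L19962
theorem L19964 : sm gf N2396 = N2129 := ded_23_2 L18662 L18433 L19958
theorem L19965 : sm gf N2129 = N2396 := flp_f L19964
theorem L19966 : sm gg N2396 = N2198 := ded_24_2 L18963 L18423 L19958
theorem L19967 : sm gg N2198 = N2396 := flp_g L19966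
theorem L19968 : sm gc N1897 = N2397 := rfl
theorem L19969 : sm gc N2397 = N1897 := flp_c L19968
theorem L19970 : sm gf N2397 = N2130 := ded_20_2 L18666 L18539 L19968
theorem L19971 : sm gf N2130 = N2397 := flp_f L19970
theorem L19972 : sm gg N2397 = N2199 := ded_21_2 L18969 L18425 L19968
theorem L19973 : sm gg N2199 = N2397 := flp_g L19972
theorem L19974 : sm ge N1897 = N2398 := rfl
theorem L19978 : sm gf N2398 = N2131 := ded_25_2 L18668 L18539 L19974
theorem L19979 : sm gf N2131 = N2398 := flp_f L19978
theorem L19980 : sm gg N2398 = N2200 := ded_26_2 L18971 L18425 L19974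
theorem L19984 : sm ge N1934 = N2399 := rfl
theorem L19985 : sm ge N2399 = N1934 := flp_e L19984
theorem L19986 : sm ga N2399 = N1938 := ded_10_1 L9803 L9788 L19984
theorem L19987 : sm ga N1938 = N2399 := flp_a L19986
theorem L19996 : sm gb N1942 = N2400 := rfl
theorem L19997 : sm gb N2400 = N1942 := flp_b L19996
theorem L19998 : sm gd N2400 = N2400 := ded_14_2 L19997 L9828 L19996
theorem L19999 : sm ge N1942 = N2401 := rfl
theorem L20002 : sm gc N2401 = N1943 := ded_19_1 L9830 L9823 L19999
theorem L20006 : sm gb N1990 = N2402 := rfl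
theorem L20007 : sm gb N2402 = N1990 := flp_b L20006
theorem L20008 : sm ge N2402 = N2104 := ded_15_2 L18556 L10127 L20006
theorem L20009 : sm ge N2104 = N2402 := flp_e L20008
theorem L20010 : sm gd N1990 = N2403 := rfl
theorem L20011 : sm gd N2403 = N1990 := flp_d L20010
theorem L20012 : sm ga N2403 = N1991 := ded_9_1 L10129 L10124 L20010
theorem L20013 : sm ga N1991 = N2403 := flp_a L20012
theorem L20014 : sm gf N1990 = N2404 := rfl
theorem L20015 : sm gf N2404 = N1990 := flp_f L20014
theorem L20016 : sm ga N2404 = N1992 := ded_11_1 L10133 L10124 L20014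
theorem L20017 : sm ga N1992 = N2404 := flp_a L20016
theorem L20018 : sm ge N2404 = N2106 := ded_25_1 L18562 L10127 L20014
theorem L20019 : sm ge N2106 = N2404 := flp_e L20018
theorem L20020 : sm gg N1990 = N2405 := rfl
theorem L20021 : sm gg N2405 = N1990 := flp_g L20020
theorem L20022 : sm ga N2405 = N1993 := ded_12_1 L10137 L10124 L20020
theorem L20023 : sm ga N1993 = N2405 := flp_a L20022
theorem L20024 : sm ge N2405 = N2107 := ded_26_1 L18566 L10127 L20020
theorem L20025 : sm ge N2107 = N2405 := flp_e L20024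
theorem L20026 : sm gc N1991 = N2406 := rfl
theorem L20027 : sm gc N2406 = N1991 := flp_c L20026
theorem L20028 : sm gb N2406 = N2268 := ded_13_1 L19276 L8873 L4969 L10131 L20026
theorem L20029 : sm gb N2268 = N2406 := flp_b L20028
theorem L20030 : sm gd N2267 = N2406 := ded_14_0 L20028 L19273 L19268
theorem L20031 : sm gd N2406 = N2267 := flp_d L20030
theorem L20032 : sm ge N1991 = N2407 := rfl
theorem L20033 : sm ge N2407 = N1991 := flp_e L20032
theorem L20034 : sm gb N2407 = N1994 := ded_15_1 L10141 L10131 L20032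
theorem L20035 : sm gb N1994 = N2407 := flp_b L20034
theorem L20036 : sm gd N2407 = N2109 := ded_22_1 L18574 L5754 L4963 L10128 L20032
theorem L20037 : sm gd N2109 = N2407 := flp_d L20036
theorem L20038 : sm gf N1991 = N2408 := rfl
theorem L20039 : sm gf N2408 = N1991 := flp_f L20038
theorem L20040 : sm gd N2408 = N1992 := ded_23_1 L10133 L10128 L20038
theorem L20041 : sm gd N1992 = N2408 := flp_d L20040
theorem L20042 : sm gg N1991 = N2409 := rfl
theorem L20043 : sm gg N2409 = N1991 := flp_g L20042
theorem L20044 : sm gd N2409 = N1993 := ded_24_1 L10137 L10128 L20042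
theorem L20045 : sm gd N1993 = N2409 := flp_d L20044
theorem L20046 : sm gb N1992 = N2410 := rfl
theorem L20047 : sm gb N2410 = N1992 := flp_b L20046
theorem L20048 : sm ge N2410 = N2112 := ded_15_2 L18586 L10135 L20046
theorem L20049 : sm ge N2112 = N2410 := flp_e L20048
theorem L20050 : sm gf N2410 = N1997 := ded_16_2 L10165 L4971 L4960 L10132 L20046
theorem L20051 : sm gf N1997 = N2410 := flp_f L20050
theorem L20052 : sm gg N1992 = N2411 := rfl
theorem L20053 : sm gg N2411 = N1992 := flp_g L20052
theorem L20054 : sm ge N2411 = N2113 := ded_26_1 L18590 L10135 L20052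
theorem L20055 : sm ge N2113 = N2411 := flp_e L20054
theorem L20056 : sm gf N2405 = N2411 := ded_29_0 L20053 L10133 L10136 L20023
theorem L20057 : sm gf N2411 = N2405 := flp_f L20056
theorem L20058 : sm gb N1993 = N2412 := rfl
theorem L20059 : sm gb N2412 = N1993 := flp_b L20058
theorem L20060 : sm ge N2412 = N2114 := ded_15_2 L18594 L10139 L20058
theorem L20061 : sm ge N2114 = N2412 := flp_e L20060
theorem L20062 : sm gg N2412 = N1998 := ded_17_2 L10169 L4979 L4960 L10136 L20058
theorem L20063 : sm gg N1998 = N2412 := flp_g L20062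
theorem L20064 : sm gf N1993 = N2413 := rfl
theorem L20065 : sm gf N2413 = N1993 := flp_f L20064
theorem L20066 : sm ga N2413 = N2411 := ded_11_1 L20057 L20022 L20064
theorem L20067 : sm ga N2411 = N2413 := flp_a L20066
theorem L20068 : sm ge N2413 = N2115 := ded_25_1 L18598 L10139 L20064
theorem L20069 : sm ge N2115 = N2413 := flp_e L20068
theorem L20070 : sm gg N2413 = N2404 := ded_29_3 L20016 L10133 L10136 L20064
theorem L20071 : sm gg N2404 = N2413 := flp_g L20070
theorem L20072 : sm gf N1994 = N2414 := rfl
theorem L20073 : sm gf N2414 = N1994 := flp_f L20072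
theorem L20074 : sm ga N2414 = N2036 := ded_11_1 L10401 L10143 L20072
theorem L20075 : sm ga N2036 = N2414 := flp_a L20074
theorem L20076 : sm gc N2414 = N2326 := ded_20_1 L19615 L10145 L20072
theorem L20077 : sm gc N2326 = N2414 := flp_c L20076
theorem L20078 : sm gd N2414 = N2116 := ded_23_1 L18604 L10147 L20072
theorem L20079 : sm gd N2116 = N2414 := flp_d L20078
theorem L20080 : sm ge N2414 = N1995 := ded_25_1 L10149 L10140 L20072
theorem L20081 : sm ge N1995 = N2414 := flp_e L20080
theorem L20082 : sm gg N1994 = N2415 := rfl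
theorem L20083 : sm gg N2415 = N1994 := flp_g L20082
theorem L20084 : sm ga N2415 = N2037 := ded_12_1 L10407 L10143 L20082
theorem L20085 : sm ga N2037 = N2415 := flp_a L20084
theorem L20086 : sm gc N2415 = N2327 := ded_21_1 L19619 L10145 L20082
theorem L20087 : sm gc N2327 = N2415 := flp_c L20086
theorem L20088 : sm gd N2415 = N2117 := ded_24_1 L18612 L10147 L20082
theorem L20089 : sm gd N2117 = N2415 := flp_d L20088
theorem L20090 : sm ge N2415 = N1996 := ded_26_1 L10157 L10140 L20082
theorem L20091 : sm ge N1996 = N2415 := flp_e L20090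
theorem L20092 : sm gb N1995 = N2416 := rfl
theorem L20093 : sm gb N2416 = N1995 := flp_b L20092
theorem L20094 : sm gd N2416 = N1997 := ded_14_2 L10165 L10155 L20092
theorem L20095 : sm gd N1997 = N2416 := flp_d L20094
theorem L20096 : sm gb N1996 = N2417 := rfl
theorem L20097 : sm gb N2417 = N1996 := flp_b L20096
theorem L20098 : sm gd N2417 = N1998 := ded_14_2 L10169 L10163 L20096
theorem L20099 : sm gd N1998 = N2417 := flp_d L20098
theorem L20100 : sm ga N1997 = N2418 := rfl
theorem L20101 : sm ga N2418 = N1997 := flp_a L20100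
theorem L20102 : sm ge N2418 = N2120 := ded_10_2 L18628 L10167 L20100
theorem L20103 : sm ge N2120 = N2418 := flp_e L20102
theorem L20104 : sm gc N1997 = N2419 := rfl
theorem L20105 : sm gc N2419 = N1997 := flp_c L20104
theorem L20106 : sm ge N2419 = N2121 := ded_19_2 L18630 L10167 L20104
theorem L20107 : sm ge N2121 = N2419 := flp_e L20106
theorem L20108 : sm gb N2419 = N2000 := ded_13_1 L10179 L4987 L4975 L10164 L20104
theorem L20109 : sm gb N2000 = N2419 := flp_b L20108
theorem L20110 : sm gg N1997 = N2420 := rfl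
theorem L20111 : sm gg N2420 = N1997 := flp_g L20110
theorem L20112 : sm ge N2420 = N2122 := ded_26_1 L18634 L10167 L20110
theorem L20113 : sm ge N2122 = N2420 := flp_e L20112
theorem L20114 : sm ga N1998 = N2421 := rfl
theorem L20115 : sm ga N2421 = N1998 := flp_a L20114
theorem L20116 : sm ge N2421 = N2123 := ded_10_2 L18636 L10171 L20114
theorem L20117 : sm ge N2123 = N2421 := flp_e L20116
theorem L20118 : sm gf N1998 = N2422 := rfl
theorem L20119 : sm gf N2422 = N1998 := flp_f L20118
theorem L20120 : sm ge N2422 = N2124 := ded_25_1 L18638 L10171 L20118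
theorem L20121 : sm ge N2124 = N2422 := flp_e L20120
theorem L20122 : sm gc N1999 = N2423 := rfl
theorem L20123 : sm gc N2423 = N1999 := flp_c L20122
theorem L20124 : sm ga N2423 = N2000 := ded_8_1 L10179 L10172 L20122
theorem L20125 : sm ga N2000 = N2423 := flp_a L20124
theorem L20126 : sm ge N2423 = N2126 := ded_19_2 L18652 L10177 L20122
theorem L20127 : sm ge N2126 = N2423 := flp_e L20126
theorem L20128 : sm gd N2000 = N2424 := rfl
theorem L20129 : sm gd N2424 = N2000 := flp_d L20128
theorem L20130 : sm gg N2000 = N2425 := rfl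
theorem L20131 : sm gg N2425 = N2000 := flp_g L20130
theorem L20132 : sm gc N2425 = N2001 := ded_21_1 L10183 L10178 L20130
theorem L20133 : sm gc N2001 = N2425 := flp_c L20132
theorem L20134 : sm ge N2425 = N2128 := ded_26_1 L18658 L10181 L20130
theorem L20135 : sm ge N2128 = N2425 := flp_e L20134
theorem L20136 : sm gc N2007 = N2426 := rfl
theorem L20137 : sm gc N2426 = N2007 := flp_c L20136
theorem L20138 : sm ga N2426 = N2283 := ded_8_1 L19373 L17242 L20136
theorem L20139 : sm ga N2283 = N2426 := flp_a L20138
theorem L20140 : sm ge N2426 = N2394 := ded_19_2 L19945 L18526 L20136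
theorem L20141 : sm ge N2394 = N2426 := flp_e L20140
theorem L20142 : sm gf N2426 = N2423 := ded_20_2 L20123 L10227 L20136
theorem L20143 : sm gf N2423 = N2426 := flp_f L20142
theorem L20144 : sm ga N2020 = N2427 := rfl
theorem L20145 : sm ga N2427 = N2020 := flp_a L20144
theorem L20146 : sm ge N2427 = N2137 := ded_10_2 L18700 L10306 L20144
theorem L20147 : sm ge N2137 = N2427 := flp_e L20146
theorem L20148 : sm gc N2020 = N2428 := rfl
theorem L20149 : sm gc N2428 = N2020 := flp_c L20148
theorem L20150 : sm ge N2428 = N2138 := ded_19_2 L18702 L10306 L20148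
theorem L20151 : sm ge N2138 = N2428 := flp_e L20150
theorem L20152 : sm gb N2428 = N2080 := ded_13_1 L10642 L5285 L5096 L10303 L20148
theorem L20153 : sm gb N2080 = N2428 := flp_b L20152
theorem L20154 : sm gd N2020 = N2429 := rfl
theorem L20155 : sm gd N2429 = N2020 := flp_d L20154
theorem L20156 : sm gb N2429 = N2021 := ded_14_1 L10308 L10303 L20154
theorem L20157 : sm gb N2021 = N2429 := flp_b L20156
theorem L20158 : sm gf N2020 = N2430 := rfl
theorem L20159 : sm gf N2430 = N2020 := flp_f L20158
theorem L20160 : sm ge N2430 = N2140 := ded_25_1 L18710 L10306 L20158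
theorem L20161 : sm ge N2140 = N2430 := flp_e L20160
theorem L20162 : sm gg N2020 = N2431 := rfl
theorem L20163 : sm gg N2431 = N2020 := flp_g L20162
theorem L20164 : sm ge N2431 = N2141 := ded_26_1 L18712 L10306 L20162
theorem L20165 : sm ge N2141 = N2431 := flp_e L20164
theorem L20166 : sm ge N2021 = N2432 := rfl
theorem L20167 : sm ge N2432 = N2021 := flp_e L20166
theorem L20168 : sm ga N2432 = N2025 := ded_10_1 L10330 L10310 L20166
theorem L20169 : sm ga N2025 = N2432 := flp_a L20168
theorem L20170 : sm gd N2432 = N2143 := ded_22_1 L18720 L5978 L5098 L10307 L20166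
theorem L20171 : sm gd N2143 = N2432 := flp_d L20170
theorem L20172 : sm gf N2021 = N2433 := rfl
theorem L20173 : sm gf N2433 = N2021 := flp_f L20172
theorem L20174 : sm ga N2433 = N2026 := ded_11_1 L10336 L10310 L20172
theorem L20175 : sm ga N2026 = N2433 := flp_a L20174
theorem L20176 : sm gd N2433 = N2022 := ded_23_1 L10312 L10307 L20172
theorem L20177 : sm gd N2022 = N2433 := flp_d L20176
theorem L20178 : sm gg N2021 = N2434 := rfl
theorem L20179 : sm gg N2434 = N2021 := flp_g L20178
theorem L20180 : sm ga N2434 = N2027 := ded_12_1 L10340 L10310 L20178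
theorem L20181 : sm ga N2027 = N2434 := flp_a L20180
theorem L20182 : sm gd N2434 = N2023 := ded_24_1 L10320 L10307 L20178
theorem L20183 : sm gd N2023 = N2434 := flp_d L20182
theorem L20184 : sm gb N2022 = N2435 := rfl
theorem L20185 : sm gb N2435 = N2022 := flp_b L20184
theorem L20186 : sm ge N2435 = N2146 := ded_15_2 L18736 L10318 L20184
theorem L20187 : sm ge N2146 = N2435 := flp_e L20186
theorem L20188 : sm gb N2023 = N2436 := rfl
theorem L20189 : sm gb N2436 = N2023 := flp_b L20188
theorem L20190 : sm ge N2436 = N2147 := ded_15_2 L18738 L10326 L20188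
theorem L20191 : sm ge N2147 = N2436 := flp_e L20190
theorem L20192 : sm gb N2024 = N2437 := rfl
theorem L20193 : sm gb N2437 = N2024 := flp_b L20192
theorem L20194 : sm gc N2437 = N2032 := ded_13_2 L10375 L5116 L5102 L10327 L20192
theorem L20195 : sm gc N2032 = N2437 := flp_c L20194
theorem L20196 : sm ge N2024 = N2438 := rfl
theorem L20197 : sm ge N2438 = N2024 := flp_e L20196
theorem L20198 : sm gc N2438 = N2025 := ded_19_1 L10330 L10327 L20196
theorem L20199 : sm gc N2025 = N2438 := flp_c L20198
theorem L20200 : sm gf N2024 = N2439 := rfl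
theorem L20201 : sm gf N2439 = N2024 := flp_f L20200
theorem L20202 : sm gc N2439 = N2026 := ded_20_1 L10336 L10327 L20200
theorem L20203 : sm gc N2026 = N2439 := flp_c L20202
theorem L20204 : sm gg N2024 = N2440 := rfl
theorem L20205 : sm gg N2440 = N2024 := flp_g L20204
theorem L20206 : sm gc N2440 = N2027 := ded_21_1 L10340 L10327 L20204
theorem L20207 : sm gc N2027 = N2440 := flp_c L20206
theorem L20208 : sm gf N2025 = N2441 := rfl
theorem L20209 : sm gf N2441 = N2025 := flp_f L20208
theorem L20210 : sm gd N2441 = N2152 := ded_23_1 L18758 L10334 L20208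
theorem L20211 : sm gd N2152 = N2441 := flp_d L20210
theorem L20212 : sm ge N2441 = N2026 := ded_25_1 L10336 L10329 L20208
theorem L20213 : sm ge N2026 = N2441 := flp_e L20212
theorem L20214 : sm gg N2025 = N2442 := rfl
theorem L20215 : sm gg N2442 = N2025 := flp_g L20214
theorem L20216 : sm gd N2442 = N2153 := ded_24_1 L18762 L10334 L20214
theorem L20217 : sm gd N2153 = N2442 := flp_d L20216
theorem L20218 : sm ge N2442 = N2027 := ded_26_1 L10340 L10329 L20214
theorem L20219 : sm ge N2027 = N2442 := flp_e L20218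
theorem L20220 : sm gb N2026 = N2443 := rfl
theorem L20221 : sm gb N2443 = N2026 := flp_b L20220
theorem L20222 : sm gd N2443 = N2028 := ded_14_2 L10344 L10338 L20220
theorem L20223 : sm gd N2028 = N2443 := flp_d L20222
theorem L20224 : sm gf N2443 = N2038 := ded_16_2 L10413 L5126 L5102 L10335 L20220
theorem L20225 : sm gf N2038 = N2443 := flp_f L20224
theorem L20226 : sm gg N2026 = N2444 := rfl
theorem L20227 : sm gg N2444 = N2026 := flp_g L20226
theorem L20228 : sm gd N2444 = N2029 := ded_24_1 L10350 L10338 L20226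
theorem L20229 : sm gd N2029 = N2444 := flp_d L20228
theorem L20230 : sm gf N2434 = N2444 := ded_29_0 L20227 L10336 L10339 L20181
theorem L20231 : sm gf N2444 = N2434 := flp_f L20230
theorem L20232 : sm gb N2027 = N2445 := rfl
theorem L20233 : sm gb N2445 = N2027 := flp_b L20232
theorem L20234 : sm gd N2445 = N2030 := ded_14_2 L10358 L10342 L20232
theorem L20235 : sm gd N2030 = N2445 := flp_d L20234
theorem L20236 : sm gg N2445 = N2040 := ded_17_2 L10423 L5130 L5102 L10339 L20232
theorem L20237 : sm gg N2040 = N2445 := flp_g L20236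
theorem L20238 : sm gf N2027 = N2446 := rfl
theorem L20239 : sm gf N2446 = N2027 := flp_f L20238
theorem L20240 : sm ga N2446 = N2444 := ded_11_1 L20231 L20180 L20238
theorem L20241 : sm ga N2444 = N2446 := flp_a L20240
theorem L20242 : sm gd N2446 = N2031 := ded_23_1 L10365 L10342 L20238
theorem L20243 : sm gd N2031 = N2446 := flp_d L20242
theorem L20244 : sm gg N2446 = N2433 := ded_29_3 L20174 L10336 L10339 L20238
theorem L20245 : sm gg N2433 = N2446 := flp_g L20244
theorem L20246 : sm ga N2028 = N2447 := rfl
theorem L20247 : sm ga N2447 = N2028 := flp_a L20246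
theorem L20248 : sm ge N2447 = N2158 := ded_10_2 L18792 L10346 L20246
theorem L20249 : sm ge N2158 = N2447 := flp_e L20248
theorem L20250 : sm gf N2447 = N2042 := ded_11_2 L10435 L10348 L20246
theorem L20251 : sm gf N2042 = N2447 := flp_f L20250
theorem L20252 : sm gg N2028 = N2448 := rfl
theorem L20253 : sm gg N2448 = N2028 := flp_g L20252
theorem L20254 : sm ge N2448 = N2160 := ded_26_1 L18804 L10346 L20252
theorem L20255 : sm ge N2160 = N2448 := flp_e L20254
theorem L20256 : sm gb N2029 = N2449 := rfl
theorem L20257 : sm gb N2449 = N2029 := flp_b L20256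
theorem L20258 : sm ge N2449 = N2161 := ded_15_2 L18806 L10354 L20256
theorem L20259 : sm ge N2161 = N2449 := flp_e L20258
theorem L20260 : sm ga N2030 = N2450 := rfl
theorem L20261 : sm ga N2450 = N2030 := flp_a L20260
theorem L20263 : sm ge N2450 = N2162 := ded_10_2 L18808 L10360 L20260
theorem L20264 : sm ge N2162 = N2450 := flp_e L20263
theorem L20265 : sm gg N2450 = N2045 := ded_12_2 L10447 L10363 L20260
theorem L20266 : sm gg N2045 = N2450 := flp_g L20265
theorem L20267 : sm gf N2030 = N2451 := rfl
theorem L20268 : sm gf N2451 = N2030 := flp_f L20267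
theorem L20270 : sm ge N2451 = N2163 := ded_25_1 L18813 L10360 L20267
theorem L20271 : sm ge N2163 = N2451 := flp_e L20270
theorem L20272 : sm gb N2031 = N2452 := rfl
theorem L20273 : sm gb N2452 = N2031 := flp_b L20272
theorem L20274 : sm ge N2452 = N2164 := ded_15_2 L18816 L10371 L20272
theorem L20275 : sm ge N2164 = N2452 := flp_e L20274
theorem L20276 : sm ga N2032 = N2453 := rfl
theorem L20277 : sm ga N2453 = N2032 := flp_a L20276
theorem L20278 : sm gd N2453 = N2297 := ded_9_2 L19471 L10377 L20276
theorem L20279 : sm gd N2297 = N2453 := flp_d L20278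
theorem L20280 : sm ge N2032 = N2454 := rfl
theorem L20281 : sm ge N2454 = N2032 := flp_e L20280
theorem L20282 : sm gb N2454 = N2033 := ded_15_1 L10379 L10374 L20280
theorem L20283 : sm gb N2033 = N2454 := flp_b L20282
theorem L20284 : sm gf N2032 = N2455 := rfl
theorem L20285 : sm gf N2455 = N2032 := flp_f L20284
theorem L20286 : sm gd N2455 = N2298 := ded_23_1 L19473 L10377 L20284
theorem L20287 : sm gd N2298 = N2455 := flp_d L20286
theorem L20288 : sm gg N2032 = N2456 := rfl
theorem L20289 : sm gg N2456 = N2032 := flp_g L20288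
theorem L20290 : sm gd N2456 = N2299 := ded_24_1 L19475 L10377 L20288
theorem L20291 : sm gd N2299 = N2456 := flp_d L20290
theorem L20292 : sm gd N2033 = N2457 := rfl
theorem L20293 : sm gd N2457 = N2033 := flp_d L20292
theorem L20294 : sm ga N2457 = N2308 := ded_9_1 L19516 L10381 L20292
theorem L20295 : sm ga N2308 = N2457 := flp_a L20294
theorem L20296 : sm ge N2457 = N2293 := ded_22_2 L19439 L16873 L5120 L10378 L20292
theorem L20297 : sm ge N2293 = N2457 := flp_e L20296
theorem L20298 : sm gc N2457 = N2457 := ded_28_0 L20293 L10382 L5123 L5766 L10147 L10144 L19517 L20295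
theorem L20299 : sm gf N2033 = N2458 := rfl
theorem L20300 : sm gf N2458 = N2033 := flp_f L20299
theorem L20301 : sm ga N2458 = N2326 := ded_11_1 L19615 L10381 L20299
theorem L20302 : sm ga N2326 = N2458 := flp_a L20301
theorem L20303 : sm gc N2458 = N2036 := ded_20_1 L10401 L10383 L20299
theorem L20304 : sm gc N2036 = N2458 := flp_c L20303
theorem L20305 : sm ge N2458 = N2034 := ded_25_1 L10385 L10378 L20299
theorem L20306 : sm ge N2034 = N2458 := flp_e L20305
theorem L20307 : sm gg N2033 = N2459 := rfl
theorem L20308 : sm gg N2459 = N2033 := flp_g L20307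
theorem L20309 : sm ga N2459 = N2327 := ded_12_1 L19619 L10381 L20307
theorem L20310 : sm ga N2327 = N2459 := flp_a L20309
theorem L20311 : sm gc N2459 = N2037 := ded_21_1 L10407 L10383 L20307
theorem L20312 : sm gc N2037 = N2459 := flp_c L20311
theorem L20313 : sm ge N2459 = N2035 := ded_26_1 L10393 L10378 L20307
theorem L20314 : sm ge N2035 = N2459 := flp_e L20313
theorem L20315 : sm gb N2034 = N2460 := rfl
theorem L20316 : sm gb N2460 = N2034 := flp_b L20315
theorem L20317 : sm gd N2460 = N2300 := ded_14_2 L19477 L10391 L20315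
theorem L20318 : sm gd N2300 = N2460 := flp_d L20317
theorem L20319 : sm gb N2035 = N2461 := rfl
theorem L20320 : sm gb N2461 = N2035 := flp_b L20319
theorem L20321 : sm gd N2461 = N2301 := ded_14_2 L19479 L10399 L20319
theorem L20323 : sm gb N2036 = N2462 := rfl
theorem L20324 : sm gb N2462 = N2036 := flp_b L20323
theorem L20325 : sm gd N2462 = N2165 := ded_14_2 L18818 L10403 L20323
theorem L20326 : sm gd N2165 = N2462 := flp_d L20325
theorem L20327 : sm ge N2462 = N2038 := ded_15_2 L10413 L10405 L20323
theorem L20328 : sm ge N2038 = N2462 := flp_e L20327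
theorem L20329 : sm gg N2036 = N2463 := rfl
theorem L20330 : sm gg N2463 = N2036 := flp_g L20329
theorem L20331 : sm gd N2463 = N2166 := ded_24_1 L18822 L10403 L20329
theorem L20332 : sm gd N2166 = N2463 := flp_d L20331
theorem L20333 : sm ge N2463 = N2039 := ded_26_1 L10417 L10405 L20329
theorem L20334 : sm ge N2039 = N2463 := flp_e L20333
theorem L20335 : sm gf N2415 = N2463 := ded_29_0 L20330 L10401 L10406 L20085
theorem L20336 : sm gf N2463 = N2415 := flp_f L20335
theorem L20337 : sm gb N2037 = N2464 := rfl
theorem L20338 : sm gb N2464 = N2037 := flp_b L20337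
theorem L20339 : sm gd N2464 = N2167 := ded_14_2 L18828 L10409 L20337
theorem L20340 : sm gd N2167 = N2464 := flp_d L20339
theorem L20341 : sm ge N2464 = N2040 := ded_15_2 L10423 L10411 L20337
theorem L20342 : sm ge N2040 = N2464 := flp_e L20341
theorem L20343 : sm gf N2037 = N2465 := rfl
theorem L20344 : sm gf N2465 = N2037 := flp_f L20343
theorem L20345 : sm ga N2465 = N2463 := ded_11_1 L20336 L20084 L20343
theorem L20346 : sm ga N2463 = N2465 := flp_a L20345
theorem L20347 : sm gd N2465 = N2168 := ded_23_1 L18832 L10409 L20343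
theorem L20348 : sm gd N2168 = N2465 := flp_d L20347
theorem L20349 : sm ge N2465 = N2041 := ded_25_1 L10427 L10411 L20343
theorem L20350 : sm ge N2041 = N2465 := flp_e L20349
theorem L20351 : sm gg N2465 = N2414 := ded_29_3 L20074 L10401 L10406 L20343
theorem L20352 : sm gg N2414 = N2465 := flp_g L20351
theorem L20353 : sm ga N2038 = N2466 := rfl
theorem L20354 : sm ga N2466 = N2038 := flp_a L20353
theorem L20355 : sm gd N2466 = N2042 := ded_9_2 L10435 L10415 L20353
theorem L20356 : sm gd N2042 = N2466 := flp_d L20355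
theorem L20357 : sm gc N2038 = N2467 := rfl
theorem L20358 : sm gc N2467 = N2038 := flp_c L20357
theorem L20359 : sm gg N2038 = N2468 := rfl
theorem L20360 : sm gg N2468 = N2038 := flp_g L20359
theorem L20361 : sm gd N2468 = N2043 := ded_24_1 L10439 L10415 L20359
theorem L20362 : sm gd N2043 = N2468 := flp_d L20361
theorem L20363 : sm gb N2039 = N2469 := rfl
theorem L20364 : sm gb N2469 = N2039 := flp_b L20363
theorem L20365 : sm gd N2469 = N2044 := ded_14_2 L10443 L10419 L20363
theorem L20366 : sm gd N2044 = N2469 := flp_d L20365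
theorem L20367 : sm ga N2040 = N2470 := rfl
theorem L20368 : sm ga N2470 = N2040 := flp_a L20367
theorem L20369 : sm gd N2470 = N2045 := ded_9_2 L10447 L10425 L20367
theorem L20370 : sm gd N2045 = N2470 := flp_d L20369
theorem L20371 : sm gc N2040 = N2471 := rfl
theorem L20372 : sm gc N2471 = N2040 := flp_c L20371
theorem L20373 : sm gf N2040 = N2472 := rfl
theorem L20374 : sm gf N2472 = N2040 := flp_f L20373
theorem L20375 : sm gd N2472 = N2046 := ded_23_1 L10452 L10425 L20373
theorem L20376 : sm gd N2046 = N2472 := flp_d L20375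
theorem L20377 : sm gb N2041 = N2473 := rfl
theorem L20378 : sm gb N2473 = N2041 := flp_b L20377
theorem L20379 : sm gd N2473 = N2047 := ded_14_2 L10457 L10431 L20377
theorem L20380 : sm gd N2047 = N2473 := flp_d L20379
theorem L20381 : sm gb N2042 = N2474 := rfl
theorem L20382 : sm gb N2474 = N2042 := flp_b L20381
theorem L20383 : sm ge N2474 = N2177 := ded_15_2 L18870 L10437 L20381
theorem L20384 : sm ge N2177 = N2474 := flp_e L20383
theorem L20385 : sm gg N2042 = N2475 := rfl
theorem L20386 : sm gg N2475 = N2042 := flp_g L20385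
theorem L20387 : sm ga N2475 = N2043 := ded_12_1 L10439 L10434 L20385
theorem L20388 : sm ga N2043 = N2475 := flp_a L20387
theorem L20389 : sm ge N2475 = N2179 := ded_26_1 L18878 L10437 L20385
theorem L20390 : sm ge N2179 = N2475 := flp_e L20389
theorem L20391 : sm gf N2475 = N2448 := ded_29_2 L20253 L20246 L20250 L20385
theorem L20392 : sm gf N2448 = N2475 := flp_f L20391
theorem L20393 : sm gb N2043 = N2476 := rfl
theorem L20394 : sm gb N2476 = N2043 := flp_b L20393
theorem L20395 : sm ge N2476 = N2181 := ded_15_2 L18890 L10441 L20393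
theorem L20396 : sm ge N2181 = N2476 := flp_e L20395
theorem L20397 : sm gg N2476 = N2044 := ded_17_2 L10443 L5138 L5133 L10438 L20393
theorem L20398 : sm gg N2044 = N2476 := flp_g L20397
theorem L20399 : sm gf N2043 = N2477 := rfl
theorem L20400 : sm gf N2477 = N2043 := flp_f L20399
theorem L20401 : sm ga N2477 = N2448 := ded_11_1 L20392 L20387 L20399
theorem L20402 : sm ga N2448 = N2477 := flp_a L20401
theorem L20403 : sm ge N2477 = N2182 := ded_25_1 L18894 L10441 L20399
theorem L20404 : sm ge N2182 = N2477 := flp_e L20403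
theorem L20405 : sm gg N2477 = N2447 := ded_29_3 L20247 L10347 L10438 L20399
theorem L20406 : sm gg N2447 = N2477 := flp_g L20405
theorem L20407 : sm ga N2044 = N2478 := rfl
theorem L20408 : sm ga N2478 = N2044 := flp_a L20407
theorem L20409 : sm ge N2478 = N2183 := ded_10_2 L18900 L10445 L20407
theorem L20410 : sm ge N2183 = N2478 := flp_e L20409
theorem L20411 : sm gc N2044 = N2479 := rfl
theorem L20412 : sm gc N2479 = N2044 := flp_c L20411
theorem L20413 : sm ge N2479 = N2184 := ded_19_2 L18902 L10445 L20411
theorem L20414 : sm ge N2184 = N2479 := flp_e L20413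
theorem L20415 : sm gb N2479 = N2049 := ded_13_1 L10467 L5161 L5140 L10442 L20411
theorem L20416 : sm gb N2049 = N2479 := flp_b L20415
theorem L20417 : sm gf N2044 = N2480 := rfl
theorem L20418 : sm gf N2480 = N2044 := flp_f L20417
theorem L20419 : sm ge N2480 = N2185 := ded_25_1 L18906 L10445 L20417
theorem L20420 : sm ge N2185 = N2480 := flp_e L20419
theorem L20421 : sm gb N2480 = N2422 := ded_16_1 L20119 L10169 L5143 L10442 L20417
theorem L20422 : sm gb N2422 = N2480 := flp_b L20421
theorem L20423 : sm gb N2045 = N2481 := rfl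
theorem L20424 : sm gb N2481 = N2045 := flp_b L20423
theorem L20425 : sm ge N2481 = N2186 := ded_15_2 L18910 L10450 L20423
theorem L20426 : sm ge N2186 = N2481 := flp_e L20425
theorem L20427 : sm gf N2045 = N2482 := rfl
theorem L20428 : sm gf N2482 = N2045 := flp_f L20427
theorem L20431 : sm gc N2482 = N2482 := ded_20_1 L20428 L10448 L20427
theorem L20432 : sm ge N2482 = N2187 := ded_25_1 L18912 L10450 L20427
theorem L20433 : sm ge N2187 = N2482 := flp_e L20432
theorem L20434 : sm gg N2451 = N2482 := ded_29_1 L20428 L20266 L20261 L20267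
theorem L20436 : sm gb N2046 = N2483 := rfl
theorem L20437 : sm gb N2483 = N2046 := flp_b L20436
theorem L20438 : sm ge N2483 = N2188 := ded_15_2 L18919 L10455 L20436
theorem L20439 : sm ge N2188 = N2483 := flp_e L20438
theorem L20440 : sm gf N2483 = N2047 := ded_16_2 L10457 L5151 L5145 L10451 L20436
theorem L20441 : sm gf N2047 = N2483 := flp_f L20440
theorem L20442 : sm gg N2046 = N2484 := rfl
theorem L20443 : sm gg N2484 = N2046 := flp_g L20442
theorem L20447 : sm ge N2484 = N2189 := ded_26_1 L18923 L10455 L20442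
theorem L20448 : sm ge N2189 = N2484 := flp_e L20447
theorem L20449 : sm gf N2450 = N2484 := ded_29_0 L20443 L10452 L10363 L20260
theorem L20451 : sm ga N2047 = N2485 := rfl
theorem L20452 : sm ga N2485 = N2047 := flp_a L20451
theorem L20453 : sm ge N2485 = N2190 := ded_10_2 L18930 L10459 L20451
theorem L20454 : sm ge N2190 = N2485 := flp_e L20453
theorem L20455 : sm gc N2047 = N2486 := rfl
theorem L20456 : sm gc N2486 = N2047 := flp_c L20455
theorem L20457 : sm ge N2486 = N2191 := ded_19_2 L18932 L10459 L20455
theorem L20458 : sm ge N2191 = N2486 := flp_e L20457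
theorem L20459 : sm gb N2486 = N2052 := ded_13_1 L10486 L5167 L5155 L10456 L20455
theorem L20460 : sm gb N2052 = N2486 := flp_b L20459
theorem L20461 : sm gg N2047 = N2487 := rfl
theorem L20462 : sm gg N2487 = N2047 := flp_g L20461
theorem L20463 : sm ge N2487 = N2192 := ded_26_1 L18936 L10459 L20461
theorem L20464 : sm ge N2192 = N2487 := flp_e L20463
theorem L20465 : sm gb N2487 = N2420 := ded_17_1 L20111 L10165 L5159 L10456 L20461
theorem L20466 : sm gb N2420 = N2487 := flp_b L20465
theorem L20467 : sm gc N2048 = N2488 := rfl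
theorem L20468 : sm gc N2488 = N2048 := flp_c L20467
theorem L20469 : sm ga N2488 = N2049 := ded_8_1 L10467 L10460 L20467
theorem L20470 : sm ga N2049 = N2488 := flp_a L20469
theorem L20471 : sm ge N2488 = N2193 := ded_19_2 L18940 L10465 L20467
theorem L20472 : sm ge N2193 = N2488 := flp_e L20471
theorem L20473 : sm gf N2488 = N2425 := ded_20_2 L20132 L18529 L20467
theorem L20474 : sm gf N2425 = N2488 := flp_f L20473
theorem L20475 : sm gg N2488 = N2426 := ded_21_2 L20137 L18527 L20467
theorem L20476 : sm gg N2426 = N2488 := flp_g L20475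
theorem L20477 : sm gd N2049 = N2489 := rfl
theorem L20478 : sm gd N2489 = N2049 := flp_d L20477
theorem L20479 : sm gf N2049 = N2490 := rfl
theorem L20480 : sm gf N2490 = N2049 := flp_f L20479
theorem L20481 : sm ga N2490 = N2425 := ded_11_1 L20474 L20469 L20479
theorem L20482 : sm ga N2425 = N2490 := flp_a L20481
theorem L20483 : sm gc N2490 = N2050 := ded_20_1 L10471 L10466 L20479
theorem L20484 : sm gc N2050 = N2490 := flp_c L20483
theorem L20485 : sm ge N2490 = N2195 := ded_25_1 L18948 L10469 L20479
theorem L20486 : sm ge N2195 = N2490 := flp_e L20485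
theorem L20487 : sm gg N2490 = N2423 := ded_29_3 L20124 L19377 L19378 L20479
theorem L20488 : sm gg N2423 = N2490 := flp_g L20487
theorem L20489 : sm gd N2052 = N2491 := rfl
theorem L20490 : sm gd N2491 = N2052 := flp_d L20489
theorem L20491 : sm ga N2491 = N2196 := ded_9_1 L18956 L18483 L20489
theorem L20492 : sm ga N2196 = N2491 := flp_a L20491
theorem L20494 : sm gg N2052 = N2492 := rfl
theorem L20495 : sm gg N2492 = N2052 := flp_g L20494
theorem L20496 : sm ga N2492 = N2197 := ded_12_1 L18959 L18483 L20494
theorem L20497 : sm ga N2197 = N2492 := flp_a L20496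
theorem L20498 : sm gc N2492 = N2053 := ded_21_1 L10491 L10485 L20494
theorem L20499 : sm gc N2053 = N2492 := flp_c L20498
theorem L20500 : sm ge N2492 = N2197 := ded_26_1 L18959 L10488 L20494
theorem L20501 : sm ge N2197 = N2492 := flp_e L20500
theorem L20502 : sm gf N2197 = N2492 := ded_29_0 L20495 L10489 L20494 L20496
theorem L20503 : sm gf N2492 = N2197 := flp_f L20502
theorem L20504 : sm gc N2062 = N2493 := rfl
theorem L20505 : sm gc N2493 = N2062 := flp_c L20504
theorem L20506 : sm ga N2493 = N2202 := ded_8_1 L18986 L18491 L20504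
theorem L20507 : sm ga N2202 = N2493 := flp_a L20506
theorem L20509 : sm ge N2062 = N2494 := rfl
theorem L20510 : sm ge N2494 = N2062 := flp_e L20509
theorem L20511 : sm ga N2494 = N2203 := ded_10_1 L18989 L18491 L20509
theorem L20512 : sm ga N2203 = N2494 := flp_a L20511
theorem L20513 : sm gf N2494 = N2494 := ded_25_2 L20510 L10557 L20509
theorem L20514 : sm gd N2494 = N2077 := ded_22_1 L10625 L5276 L5195 L10555 L20509
theorem L20515 : sm gd N2077 = N2494 := flp_d L20514
theorem L20516 : sm gg N2062 = N2495 := rfl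
theorem L20517 : sm gg N2495 = N2062 := flp_g L20516
theorem L20518 : sm ga N2495 = N2204 := ded_12_1 L18995 L18491 L20516
theorem L20519 : sm ga N2204 = N2495 := flp_a L20518
theorem L20520 : sm gd N2495 = N2063 := ded_24_1 L10559 L10555 L20516
theorem L20522 : sm gf N2204 = N2495 := ded_29_0 L20517 L10557 L20516 L20518
theorem L20523 : sm gf N2495 = N2204 := flp_f L20522
theorem L20524 : sm gb N2495 = N2198 := ded_17_1 L19967 L19962 L18982 L18984 L20516
theorem L20525 : sm gb N2198 = N2495 := flp_b L20524
theorem L20526 : sm gb N2076 = N2496 := rfl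
theorem L20527 : sm gb N2496 = N2076 := flp_b L20526
theorem L20528 : sm gd N2496 = N2496 := ded_14_2 L20527 L18498 L20526
theorem L20529 : sm gc N2496 = N2078 := ded_13_2 L10632 L18459 L15584 L10621 L20526
theorem L20530 : sm gc N2078 = N2496 := flp_c L20529
theorem L20531 : sm ga N2496 = N2210 := ded_28_8 L19038 L6440 L3058 L2562 L5281 L10630 L20530 L20528
theorem L20532 : sm ga N2210 = N2496 := flp_a L20531
theorem L20533 : sm gf N2210 = N2496 := ded_20_0 L20529 L18480 L19039
theorem L20534 : sm gf N2496 = N2210 := flp_f L20533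
theorem L20535 : sm gg N2076 = N2496 := ded_21_0 L20529 L10628 L10621
theorem L20536 : sm gg N2496 = N2076 := flp_g L20535
theorem L20537 : sm ge N2076 = N2497 := rfl
theorem L20538 : sm ge N2497 = N2076 := flp_e L20537
theorem L20539 : sm ga N2497 = N2209 := ded_10_1 L19032 L18493 L20537
theorem L20540 : sm ga N2209 = N2497 := flp_a L20539
theorem L20544 : sm gg N2077 = N2498 := rfl
theorem L20545 : sm gg N2498 = N2077 := flp_g L20544
theorem L20548 : sm ge N2498 = N2078 := ded_26_1 L10628 L10624 L20544
theorem L20554 : sm gc N2079 = N2499 := rfl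
theorem L20555 : sm gc N2499 = N2079 := flp_c L20554
theorem L20556 : sm ga N2499 = N2080 := ded_8_1 L10642 L10633 L20554
theorem L20557 : sm ga N2080 = N2499 := flp_a L20556
theorem L20558 : sm ge N2499 = N2213 := ded_19_2 L19057 L10638 L20554
theorem L20559 : sm ge N2213 = N2499 := flp_e L20558
theorem L20560 : sm gf N2079 = N2500 := rfl
theorem L20561 : sm gf N2500 = N2079 := flp_f L20560
theorem L20562 : sm ga N2500 = N2081 := ded_11_1 L10646 L10633 L20560
theorem L20563 : sm ga N2081 = N2500 := flp_a L20562
theorem L20566 : sm ge N2500 = N2214 := ded_25_1 L19061 L10638 L20560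
theorem L20567 : sm ge N2214 = N2500 := flp_e L20566
theorem L20568 : sm gg N2079 = N2501 := rfl
theorem L20569 : sm gg N2501 = N2079 := flp_g L20568
theorem L20570 : sm ga N2501 = N2082 := ded_12_1 L10652 L10633 L20568
theorem L20571 : sm ga N2082 = N2501 := flp_a L20570
theorem L20576 : sm gd N2080 = N2502 := rfl
theorem L20577 : sm gd N2502 = N2080 := flp_d L20576
theorem L20578 : sm gf N2080 = N2503 := rfl
theorem L20579 : sm gf N2503 = N2080 := flp_f L20578
theorem L20580 : sm gc N2503 = N2081 := ded_20_1 L10646 L10641 L20578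
theorem L20581 : sm gc N2081 = N2503 := flp_c L20580
theorem L20582 : sm ge N2503 = N2217 := ded_25_1 L19071 L10644 L20578
theorem L20583 : sm ge N2217 = N2503 := flp_e L20582
theorem L20584 : sm gg N2080 = N2504 := rfl
theorem L20585 : sm gg N2504 = N2080 := flp_g L20584
theorem L20586 : sm gc N2504 = N2082 := ded_21_1 L10652 L10641 L20584
theorem L20587 : sm gc N2082 = N2504 := flp_c L20586
theorem L20588 : sm ge N2504 = N2218 := ded_26_1 L19075 L10644 L20584
theorem L20589 : sm ge N2218 = N2504 := flp_e L20588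
theorem L20590 : sm gb N2081 = N2505 := rfl
theorem L20591 : sm gb N2505 = N2081 := flp_b L20590
theorem L20592 : sm gd N2505 = N2219 := ded_14_2 L19079 L10648 L20590
theorem L20593 : sm gd N2219 = N2505 := flp_d L20592
theorem L20594 : sm ge N2505 = N2219 := ded_15_2 L19079 L10650 L20590
theorem L20595 : sm ge N2219 = N2505 := flp_e L20594
theorem L20596 : sm gf N2505 = N2083 := ded_16_2 L10658 L5291 L5284 L10645 L20590
theorem L20597 : sm gf N2083 = N2505 := flp_f L20596
theorem L20598 : sm gg N2081 = N2506 := rfl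
theorem L20599 : sm gg N2506 = N2081 := flp_g L20598
theorem L20600 : sm gd N2506 = N2220 := ded_24_1 L19083 L10648 L20598
theorem L20601 : sm gd N2220 = N2506 := flp_d L20600
theorem L20606 : sm gb N2082 = N2507 := rfl
theorem L20607 : sm gb N2507 = N2082 := flp_b L20606
theorem L20608 : sm gd N2507 = N2221 := ded_14_2 L19087 L10654 L20606
theorem L20609 : sm gd N2221 = N2507 := flp_d L20608
theorem L20610 : sm ge N2507 = N2221 := ded_15_2 L19087 L10656 L20606
theorem L20611 : sm ge N2221 = N2507 := flp_e L20610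
theorem L20612 : sm gg N2507 = N2084 := ded_17_2 L10664 L5299 L5284 L10651 L20606
theorem L20613 : sm gg N2084 = N2507 := flp_g L20612
theorem L20614 : sm gf N2082 = N2508 := rfl
theorem L20618 : sm gd N2508 = N2222 := ded_23_1 L19091 L10654 L20614
theorem L20619 : sm gd N2222 = N2508 := flp_d L20618
theorem L20622 : sm gg N2508 = N2500 := ded_29_3 L20562 L10646 L10651 L20614
theorem L20624 : sm ga N2083 = N2509 := rfl
theorem L20625 : sm ga N2509 = N2083 := flp_a L20624
theorem L20626 : sm gd N2509 = N2223 := ded_9_2 L19097 L10660 L20624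
theorem L20627 : sm gd N2223 = N2509 := flp_d L20626
theorem L20628 : sm ge N2509 = N2223 := ded_10_2 L19097 L10662 L20624
theorem L20629 : sm ge N2223 = N2509 := flp_e L20628
theorem L20630 : sm gc N2083 = N2510 := rfl
theorem L20631 : sm gc N2510 = N2083 := flp_c L20630
theorem L20632 : sm ge N2510 = N2224 := ded_19_2 L19099 L10662 L20630
theorem L20633 : sm ge N2224 = N2510 := flp_e L20632
theorem L20634 : sm gg N2083 = N2511 := rfl
theorem L20635 : sm gg N2511 = N2083 := flp_g L20634
theorem L20636 : sm gd N2511 = N2225 := ded_24_1 L19101 L10660 L20634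
theorem L20637 : sm gd N2225 = N2511 := flp_d L20636
theorem L20638 : sm ge N2511 = N2225 := ded_26_1 L19101 L10662 L20634
theorem L20639 : sm ge N2225 = N2511 := flp_e L20638
theorem L20640 : sm ga N2084 = N2512 := rfl
theorem L20641 : sm ga N2512 = N2084 := flp_a L20640
theorem L20642 : sm gd N2512 = N2226 := ded_9_2 L19103 L10666 L20640
theorem L20643 : sm gd N2226 = N2512 := flp_d L20642
theorem L20644 : sm ge N2512 = N2226 := ded_10_2 L19103 L10668 L20640
theorem L20645 : sm ge N2226 = N2512 := flp_e L20644
theorem L20646 : sm gc N2084 = N2513 := rfl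
theorem L20647 : sm gc N2513 = N2084 := flp_c L20646
theorem L20648 : sm ge N2513 = N2227 := ded_19_2 L19105 L10668 L20646
theorem L20649 : sm ge N2227 = N2513 := flp_e L20648
theorem L20650 : sm gf N2084 = N2514 := rfl
theorem L20651 : sm gf N2514 = N2084 := flp_f L20650
theorem L20652 : sm gd N2514 = N2228 := ded_23_1 L19107 L10666 L20650
theorem L20653 : sm gd N2228 = N2514 := flp_d L20652
theorem L20654 : sm ge N2514 = N2228 := ded_25_1 L19107 L10668 L20650
theorem L20655 : sm ge N2228 = N2514 := flp_e L20654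
theorem L20656 : sm ga N2085 = N2515 := rfl
theorem L20657 : sm ga N2515 = N2085 := flp_a L20656
theorem L20658 : sm gd N2515 = N2233 := ded_9_2 L19129 L10672 L20656
theorem L20659 : sm gd N2233 = N2515 := flp_d L20658
theorem L20660 : sm ge N2515 = N2233 := ded_10_2 L19129 L10674 L20656
theorem L20661 : sm ge N2233 = N2515 := flp_e L20660
theorem L20662 : sm gc N2085 = N2516 := rfl
theorem L20663 : sm gc N2516 = N2085 := flp_c L20662
theorem L20664 : sm ge N2516 = N2234 := ded_19_2 L19131 L10674 L20662
theorem L20665 : sm ge N2234 = N2516 := flp_e L20664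
theorem L20666 : sm gf N2085 = N2517 := rfl
theorem L20667 : sm gf N2517 = N2085 := flp_f L20666
theorem L20668 : sm gd N2517 = N2235 := ded_23_1 L19133 L10672 L20666
theorem L20669 : sm gd N2235 = N2517 := flp_d L20668
theorem L20670 : sm ge N2517 = N2235 := ded_25_1 L19133 L10674 L20666
theorem L20671 : sm ge N2235 = N2517 := flp_e L20670
theorem L20672 : sm gb N2517 = N2514 := ded_16_1 L20651 L10664 L5312 L10669 L20666
theorem L20673 : sm gb N2514 = N2517 := flp_b L20672
theorem L20674 : sm ga N2086 = N2518 := rfl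
theorem L20675 : sm ga N2518 = N2086 := flp_a L20674
theorem L20676 : sm gd N2518 = N2236 := ded_9_2 L19137 L10678 L20674
theorem L20677 : sm gd N2236 = N2518 := flp_d L20676
theorem L20678 : sm ge N2518 = N2236 := ded_10_2 L19137 L10680 L20674
theorem L20679 : sm ge N2236 = N2518 := flp_e L20678
theorem L20680 : sm gf N2518 = N2518 := ded_11_2 L20675 L10681 L20674
theorem L20681 : sm gc N2086 = N2519 := rfl
theorem L20682 : sm gc N2519 = N2086 := flp_c L20681
theorem L20686 : sm gg N2086 = N2520 := rfl
theorem L20688 : sm gd N2520 = N2238 := ded_24_1 L19143 L10678 L20686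
theorem L20692 : sm gb N2520 = N2511 := ded_17_1 L20635 L10658 L5323 L10675 L20686
theorem L20694 : sm ga N2104 = N2521 := rfl
theorem L20695 : sm ga N2521 = N2104 := flp_a L20694
theorem L20696 : sm gb N2521 = N2137 := ded_7_2 L18700 L5976 L2842 L1449 L1413 L2736 L5751 L18555 L20694
theorem L20697 : sm gb N2137 = N2521 := flp_b L20696
theorem L20698 : sm gc N2104 = N2522 := rfl
theorem L20699 : sm gc N2522 = N2104 := flp_c L20698
theorem L20700 : sm gd N2104 = N2523 := rfl
theorem L20701 : sm gd N2523 = N2104 := flp_d L20700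
theorem L20702 : sm gb N2523 = N2105 := ded_14_1 L18558 L18555 L20700
theorem L20703 : sm gb N2105 = N2523 := flp_b L20702
theorem L20704 : sm gf N2104 = N2524 := rfl
theorem L20705 : sm gf N2524 = N2104 := flp_f L20704
theorem L20706 : sm gg N2104 = N2525 := rfl
theorem L20707 : sm gg N2525 = N2104 := flp_g L20706
theorem L20708 : sm gc N2105 = N2526 := rfl
theorem L20709 : sm gc N2526 = N2105 := flp_c L20708
theorem L20710 : sm ga N2526 = N2108 := ded_8_1 L18570 L18560 L20708
theorem L20711 : sm ga N2108 = N2526 := flp_a L20710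
theorem L20712 : sm ge N2105 = N2527 := rfl
theorem L20713 : sm ge N2527 = N2105 := flp_e L20712
theorem L20714 : sm ga N2527 = N2109 := ded_10_1 L18574 L18560 L20712
theorem L20715 : sm ga N2109 = N2527 := flp_a L20714
theorem L20716 : sm gf N2105 = N2528 := rfl
theorem L20717 : sm gf N2528 = N2105 := flp_f L20716
theorem L20718 : sm ga N2528 = N2110 := ded_11_1 L18578 L18560 L20716
theorem L20719 : sm ga N2110 = N2528 := flp_a L20718
theorem L20720 : sm gd N2528 = N2106 := ded_23_1 L18562 L18557 L20716
theorem L20721 : sm gd N2106 = N2528 := flp_d L20720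
theorem L20722 : sm gg N2105 = N2529 := rfl
theorem L20723 : sm gg N2529 = N2105 := flp_g L20722
theorem L20724 : sm ga N2529 = N2111 := ded_12_1 L18582 L18560 L20722
theorem L20725 : sm ga N2111 = N2529 := flp_a L20724
theorem L20726 : sm gd N2529 = N2107 := ded_24_1 L18566 L18557 L20722
theorem L20727 : sm gd N2107 = N2529 := flp_d L20726
theorem L20728 : sm gb N2106 = N2530 := rfl
theorem L20729 : sm gb N2530 = N2106 := flp_b L20728
theorem L20730 : sm gb N2107 = N2531 := rfl
theorem L20731 : sm gb N2531 = N2107 := flp_b L20730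
theorem L20732 : sm gd N2108 = N2532 := rfl
theorem L20733 : sm gd N2532 = N2108 := flp_d L20732
theorem L20734 : sm gb N2532 = N2148 := ded_14_1 L18740 L18572 L20732
theorem L20735 : sm gb N2148 = N2532 := flp_b L20734
theorem L20736 : sm ge N2108 = N2533 := rfl
theorem L20737 : sm ge N2533 = N2108 := flp_e L20736
theorem L20738 : sm gb N2533 = N2149 := ded_15_1 L18746 L18572 L20736
theorem L20739 : sm gb N2149 = N2533 := flp_b L20738
theorem L20740 : sm gc N2533 = N2109 := ded_19_1 L18574 L18569 L20736
theorem L20741 : sm gc N2109 = N2533 := flp_c L20740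
theorem L20742 : sm gf N2108 = N2534 := rfl
theorem L20743 : sm gf N2534 = N2108 := flp_f L20742
theorem L20744 : sm gc N2534 = N2110 := ded_20_1 L18578 L18569 L20742
theorem L20745 : sm gc N2110 = N2534 := flp_c L20744
theorem L20746 : sm gg N2108 = N2535 := rfl
theorem L20747 : sm gg N2535 = N2108 := flp_g L20746
theorem L20750 : sm gf N2109 = N2536 := rfl
theorem L20751 : sm gf N2536 = N2109 := flp_f L20750
theorem L20752 : sm ge N2536 = N2110 := ded_25_1 L18578 L18573 L20750
theorem L20753 : sm ge N2110 = N2536 := flp_e L20752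
theorem L20754 : sm gg N2109 = N2537 := rfl
theorem L20755 : sm gg N2537 = N2109 := flp_g L20754
theorem L20756 : sm ge N2537 = N2111 := ded_26_1 L18582 L18573 L20754
theorem L20757 : sm ge N2111 = N2537 := flp_e L20756
theorem L20758 : sm gb N2110 = N2538 := rfl
theorem L20759 : sm gb N2538 = N2110 := flp_b L20758
theorem L20760 : sm gd N2538 = N2112 := ded_14_2 L18586 L18580 L20758
theorem L20761 : sm gd N2112 = N2538 := flp_d L20760
theorem L20762 : sm gf N2538 = N2118 := ded_16_2 L18620 L5768 L5756 L18577 L20758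
theorem L20763 : sm gf N2118 = N2538 := flp_f L20762
theorem L20764 : sm gg N2110 = N2539 := rfl
theorem L20765 : sm gg N2539 = N2110 := flp_g L20764
theorem L20766 : sm gd N2539 = N2113 := ded_24_1 L18590 L18580 L20764
theorem L20767 : sm gd N2113 = N2539 := flp_d L20766
theorem L20768 : sm gf N2529 = N2539 := ded_29_0 L20765 L18578 L18581 L20725
theorem L20769 : sm gf N2539 = N2529 := flp_f L20768
theorem L20770 : sm gb N2111 = N2540 := rfl
theorem L20771 : sm gb N2540 = N2111 := flp_b L20770
theorem L20772 : sm gd N2540 = N2114 := ded_14_2 L18594 L18584 L20770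
theorem L20773 : sm gd N2114 = N2540 := flp_d L20772
theorem L20774 : sm gg N2540 = N2119 := ded_17_2 L18624 L5776 L5756 L18581 L20770
theorem L20775 : sm gg N2119 = N2540 := flp_g L20774
theorem L20776 : sm gf N2111 = N2541 := rfl
theorem L20777 : sm gf N2541 = N2111 := flp_f L20776
theorem L20778 : sm ga N2541 = N2539 := ded_11_1 L20769 L20724 L20776
theorem L20780 : sm gd N2541 = N2115 := ded_23_1 L18598 L18584 L20776
theorem L20781 : sm gd N2115 = N2541 := flp_d L20780
theorem L20782 : sm gg N2541 = N2528 := ded_29_3 L20718 L18578 L18581 L20776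
theorem L20784 : sm ga N2112 = N2542 := rfl
theorem L20785 : sm ga N2542 = N2112 := flp_a L20784
theorem L20786 : sm gf N2542 = N2120 := ded_11_2 L18628 L18588 L20784
theorem L20787 : sm gf N2120 = N2542 := flp_f L20786
theorem L20788 : sm gc N2112 = N2543 := rfl
theorem L20789 : sm gc N2543 = N2112 := flp_c L20788
theorem L20790 : sm gf N2543 = N2121 := ded_20_2 L18630 L18588 L20788
theorem L20791 : sm gf N2121 = N2543 := flp_f L20790
theorem L20792 : sm gg N2112 = N2544 := rfl
theorem L20793 : sm gg N2544 = N2112 := flp_g L20792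
theorem L20794 : sm gb N2113 = N2545 := rfl
theorem L20795 : sm gb N2545 = N2113 := flp_b L20794
theorem L20796 : sm ga N2114 = N2546 := rfl
theorem L20797 : sm ga N2546 = N2114 := flp_a L20796
theorem L20798 : sm gg N2546 = N2123 := ded_12_2 L18636 L18596 L20796
theorem L20799 : sm gg N2123 = N2546 := flp_g L20798
theorem L20800 : sm gf N2114 = N2547 := rfl
theorem L20801 : sm gf N2547 = N2114 := flp_f L20800
theorem L20802 : sm gb N2115 = N2548 := rfl
theorem L20803 : sm gb N2548 = N2115 := flp_b L20802
theorem L20804 : sm gb N2116 = N2549 := rfl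
theorem L20805 : sm gb N2549 = N2116 := flp_b L20804
theorem L20806 : sm ge N2549 = N2118 := ded_15_2 L18620 L18610 L20804
theorem L20807 : sm ge N2118 = N2549 := flp_e L20806
theorem L20808 : sm gb N2117 = N2550 := rfl
theorem L20809 : sm gb N2550 = N2117 := flp_b L20808
theorem L20810 : sm ge N2550 = N2119 := ded_15_2 L18624 L18618 L20808
theorem L20811 : sm ge N2119 = N2550 := flp_e L20810
theorem L20812 : sm ga N2118 = N2551 := rfl
theorem L20813 : sm ga N2551 = N2118 := flp_a L20812
theorem L20814 : sm gd N2551 = N2120 := ded_9_2 L18628 L18622 L20812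
theorem L20815 : sm gd N2120 = N2551 := flp_d L20814
theorem L20816 : sm gc N2118 = N2552 := rfl
theorem L20817 : sm gc N2552 = N2118 := flp_c L20816
theorem L20818 : sm gb N2552 = N2170 := ded_13_1 L18846 L6039 L5772 L18619 L20816
theorem L20819 : sm gb N2170 = N2552 := flp_b L20818
theorem L20820 : sm gg N2118 = N2553 := rfl
theorem L20821 : sm gg N2553 = N2118 := flp_g L20820
theorem L20822 : sm gd N2553 = N2122 := ded_24_1 L18634 L18622 L20820
theorem L20823 : sm gd N2122 = N2553 := flp_d L20822
theorem L20824 : sm ga N2119 = N2554 := rfl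
theorem L20825 : sm ga N2554 = N2119 := flp_a L20824
theorem L20826 : sm gd N2554 = N2123 := ded_9_2 L18636 L18626 L20824
theorem L20827 : sm gd N2123 = N2554 := flp_d L20826
theorem L20828 : sm gc N2119 = N2555 := rfl
theorem L20829 : sm gc N2555 = N2119 := flp_c L20828
theorem L20830 : sm gb N2555 = N2174 := ded_13_1 L18860 L6049 L5780 L18623 L20828
theorem L20831 : sm gb N2174 = N2555 := flp_b L20830
theorem L20832 : sm gf N2119 = N2556 := rfl
theorem L20833 : sm gf N2556 = N2119 := flp_f L20832
theorem L20834 : sm gd N2556 = N2124 := ded_23_1 L18638 L18626 L20832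
theorem L20835 : sm gd N2124 = N2556 := flp_d L20834
theorem L20836 : sm gb N2120 = N2557 := rfl
theorem L20837 : sm gb N2557 = N2120 := flp_b L20836
theorem L20838 : sm gc N2120 = N2558 := rfl
theorem L20839 : sm gc N2558 = N2120 := flp_c L20838
theorem L20840 : sm ga N2558 = N2121 := ded_8_1 L18630 L18627 L20838
theorem L20841 : sm ga N2121 = N2558 := flp_a L20840
theorem L20842 : sm gg N2120 = N2559 := rfl
theorem L20843 : sm gg N2559 = N2120 := flp_g L20842
theorem L20844 : sm ga N2559 = N2122 := ded_12_1 L18634 L18627 L20842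
theorem L20845 : sm ga N2122 = N2559 := flp_a L20844
theorem L20846 : sm gf N2559 = N2544 := ded_29_2 L20793 L20784 L20786 L20842
theorem L20847 : sm gf N2544 = N2559 := flp_f L20846
theorem L20848 : sm gd N2121 = N2560 := rfl
theorem L20849 : sm gd N2560 = N2121 := flp_d L20848
theorem L20850 : sm gb N2560 = N2127 := ded_14_1 L18656 L18632 L20848
theorem L20851 : sm gb N2127 = N2560 := flp_b L20850
theorem L20852 : sm gg N2121 = N2561 := rfl
theorem L20853 : sm gg N2561 = N2121 := flp_g L20852
theorem L20854 : sm gc N2561 = N2122 := ded_21_1 L18634 L18629 L20852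
theorem L20855 : sm gc N2122 = N2561 := flp_c L20854
theorem L20856 : sm gf N2122 = N2562 := rfl
theorem L20857 : sm gf N2562 = N2122 := flp_f L20856
theorem L20858 : sm ga N2562 = N2544 := ded_11_1 L20847 L20844 L20856
theorem L20859 : sm ga N2544 = N2562 := flp_a L20858
theorem L20860 : sm gg N2562 = N2542 := ded_29_3 L20785 L18587 L18633 L20856
theorem L20861 : sm gg N2542 = N2562 := flp_g L20860
theorem L20862 : sm gb N2123 = N2563 := rfl
theorem L20863 : sm gb N2563 = N2123 := flp_b L20862
theorem L20864 : sm gf N2123 = N2564 := rfl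
theorem L20865 : sm gf N2564 = N2123 := flp_f L20864
theorem L20866 : sm ga N2564 = N2124 := ded_11_1 L18638 L18635 L20864
theorem L20867 : sm ga N2124 = N2564 := flp_a L20866
theorem L20868 : sm gg N2547 = N2564 := ded_29_1 L20865 L20799 L20797 L20800
theorem L20869 : sm gg N2564 = N2547 := flp_g L20868
theorem L20870 : sm gg N2124 = N2565 := rfl
theorem L20871 : sm gg N2565 = N2124 := flp_g L20870
theorem L20874 : sm gf N2546 = N2565 := ded_29_0 L20871 L18638 L18596 L20796
theorem L20876 : sm gc N2125 = N2566 := rfl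
theorem L20877 : sm gc N2566 = N2125 := flp_c L20876
theorem L20878 : sm ga N2566 = N2386 := ded_8_1 L19899 L18650 L20876
theorem L20879 : sm ga N2386 = N2566 := flp_a L20878
theorem L20880 : sm ge N2566 = N2359 := ded_19_2 L19783 L18644 L20876
theorem L20881 : sm ge N2359 = N2566 := flp_e L20880
theorem L20882 : sm gf N2566 = N2266 := ded_20_2 L19266 L18646 L20876
theorem L20883 : sm gf N2266 = N2566 := flp_f L20882
theorem L20884 : sm gg N2566 = N2302 := ded_21_2 L19481 L18648 L20876
theorem L20885 : sm gg N2302 = N2566 := flp_g L20884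
theorem L20886 : sm gb N2126 = N2567 := rfl
theorem L20887 : sm gb N2567 = N2126 := flp_b L20886
theorem L20888 : sm gd N2126 = N2568 := rfl
theorem L20889 : sm gd N2568 = N2126 := flp_d L20888
theorem L20890 : sm ga N2568 = N2127 := ded_9_1 L18656 L18654 L20888
theorem L20891 : sm ga N2127 = N2568 := flp_a L20890
theorem L20892 : sm gc N2127 = N2569 := rfl
theorem L20893 : sm gc N2569 = N2127 := flp_c L20892
theorem L20894 : sm ge N2127 = N2570 := rfl
theorem L20895 : sm ge N2570 = N2127 := flp_e L20894
theorem L20896 : sm gg N2127 = N2571 := rfl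
theorem L20897 : sm gg N2571 = N2127 := flp_g L20896
theorem L20898 : sm gd N2571 = N2128 := ded_24_1 L18658 L18655 L20896
theorem L20899 : sm gd N2128 = N2571 := flp_d L20898
theorem L20900 : sm gb N2128 = N2572 := rfl
theorem L20901 : sm gb N2572 = N2128 := flp_b L20900
theorem L20902 : sm gc N2129 = N2573 := rfl
theorem L20903 : sm gc N2573 = N2129 := flp_c L20902
theorem L20904 : sm ga N2573 = N2130 := ded_8_1 L18666 L18664 L20902
theorem L20906 : sm gd N2569 = N2573 := ded_28_1 L20903 L18662 L5812 L5790 L18651 L20888 L20890 L20892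
theorem L20907 : sm gd N2573 = N2569 := flp_d L20906
theorem L20908 : sm ge N2129 = N2574 := rfl
theorem L20909 : sm ge N2574 = N2129 := flp_e L20908
theorem L20910 : sm ga N2574 = N2131 := ded_10_1 L18668 L18664 L20908
theorem L20914 : sm gb N2130 = N2575 := rfl
theorem L20917 : sm gd N2130 = N2576 := rfl
theorem L20918 : sm gd N2576 = N2130 := flp_d L20917
theorem L20921 : sm gc N2568 = N2576 := ded_28_0 L20918 L18666 L5826 L2769 L2759 L5791 L18655 L20891
theorem L20922 : sm gc N2576 = N2568 := flp_c L20921
theorem L20923 : sm ge N2130 = N2577 := rfl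
theorem L20924 : sm ge N2577 = N2130 := flp_e L20923
theorem L20927 : sm gg N2130 = N2578 := rfl
theorem L20928 : sm gg N2578 = N2130 := flp_g L20927
theorem L20929 : sm gc N2578 = N2132 := ded_21_1 L18673 L18665 L20927
theorem L20930 : sm gc N2132 = N2578 := flp_c L20929
theorem L20931 : sm gg N2131 = N2579 := rfl
theorem L20933 : sm gd N2579 = N2135 := ded_24_1 L18687 L18671 L20931
theorem L20934 : sm gd N2135 = N2579 := flp_d L20933
theorem L20935 : sm ge N2579 = N2132 := ded_26_1 L18673 L18667 L20931
theorem L20936 : sm ge N2132 = N2579 := flp_e L20935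
theorem L20937 : sm gb N2132 = N2580 := rfl
theorem L20938 : sm gb N2580 = N2132 := flp_b L20937
theorem L20939 : sm gd N2580 = N2133 := ded_14_2 L18677 L18675 L20937
theorem L20943 : sm gb N2135 = N2581 := rfl
theorem L20944 : sm gb N2581 = N2135 := flp_b L20943
theorem L20945 : sm ge N2581 = N2136 := ded_15_2 L18693 L18691 L20943
theorem L20950 : sm gc N2137 = N2582 := rfl
theorem L20951 : sm gc N2582 = N2137 := flp_c L20950
theorem L20952 : sm ga N2582 = N2138 := ded_8_1 L18702 L18699 L20950
theorem L20953 : sm ga N2138 = N2582 := flp_a L20952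
theorem L20954 : sm gd N2137 = N2583 := rfl
theorem L20955 : sm gd N2583 = N2137 := flp_d L20954
theorem L20956 : sm ga N2583 = N2139 := ded_9_1 L18706 L18699 L20954
theorem L20957 : sm ga N2139 = N2583 := flp_a L20956
theorem L20958 : sm gf N2137 = N2584 := rfl
theorem L20959 : sm gf N2584 = N2137 := flp_f L20958
theorem L20960 : sm ga N2584 = N2140 := ded_11_1 L18710 L18699 L20958
theorem L20961 : sm ga N2140 = N2584 := flp_a L20960
theorem L20962 : sm gg N2137 = N2585 := rfl
theorem L20963 : sm gg N2585 = N2137 := flp_g L20962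
theorem L20964 : sm ga N2585 = N2141 := ded_12_1 L18712 L18699 L20962
theorem L20965 : sm ga N2141 = N2585 := flp_a L20964
theorem L20966 : sm gd N2138 = N2586 := rfl
theorem L20967 : sm gd N2586 = N2138 := flp_d L20966
theorem L20968 : sm gb N2586 = N2216 := ded_14_1 L19069 L18704 L20966
theorem L20969 : sm gb N2216 = N2586 := flp_b L20968
theorem L20970 : sm gf N2138 = N2587 := rfl
theorem L20971 : sm gf N2587 = N2138 := flp_f L20970
theorem L20972 : sm gc N2587 = N2140 := ded_20_1 L18710 L18701 L20970
theorem L20973 : sm gc N2140 = N2587 := flp_c L20972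
theorem L20974 : sm gg N2138 = N2588 := rfl
theorem L20975 : sm gg N2588 = N2138 := flp_g L20974
theorem L20976 : sm gc N2588 = N2141 := ded_21_1 L18712 L18701 L20974
theorem L20977 : sm gc N2141 = N2588 := flp_c L20976
theorem L20978 : sm gc N2139 = N2589 := rfl
theorem L20979 : sm gc N2589 = N2139 := flp_c L20978
theorem L20980 : sm ge N2139 = N2590 := rfl
theorem L20981 : sm ge N2590 = N2139 := flp_e L20980
theorem L20982 : sm gb N2590 = N2143 := ded_15_1 L18720 L18708 L20980
theorem L20983 : sm gb N2143 = N2590 := flp_b L20982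
theorem L20984 : sm gf N2139 = N2591 := rfl
theorem L20985 : sm gf N2591 = N2139 := flp_f L20984
theorem L20986 : sm gd N2591 = N2140 := ded_23_1 L18710 L18705 L20984
theorem L20987 : sm gd N2140 = N2591 := flp_d L20986
theorem L20988 : sm gg N2139 = N2592 := rfl
theorem L20989 : sm gg N2592 = N2139 := flp_g L20988
theorem L20990 : sm gd N2592 = N2141 := ded_24_1 L18712 L18705 L20988
theorem L20991 : sm gd N2141 = N2592 := flp_d L20990
theorem L20992 : sm gb N2140 = N2593 := rfl
theorem L20993 : sm gb N2593 = N2140 := flp_b L20992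
theorem L20994 : sm gf N2593 = N2146 := ded_16_2 L18736 L5982 L5975 L18709 L20992
theorem L20995 : sm gf N2146 = N2593 := flp_f L20994
theorem L20996 : sm gg N2140 = N2594 := rfl
theorem L20997 : sm gg N2594 = N2140 := flp_g L20996
theorem L20998 : sm gf N2585 = N2594 := ded_29_0 L20997 L18710 L18711 L20965
theorem L21000 : sm gb N2141 = N2595 := rfl
theorem L21001 : sm gb N2595 = N2141 := flp_b L21000
theorem L21002 : sm gg N2595 = N2147 := ded_17_2 L18738 L5988 L5975 L18711 L21000
theorem L21003 : sm gg N2147 = N2595 := flp_g L21002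
theorem L21004 : sm gf N2141 = N2596 := rfl
theorem L21005 : sm gf N2596 = N2141 := flp_f L21004
theorem L21008 : sm gg N2596 = N2584 := ded_29_3 L20960 L18710 L18711 L21004
theorem L21009 : sm gg N2584 = N2596 := flp_g L21008
theorem L21010 : sm gb N2142 = N2597 := rfl
theorem L21011 : sm gb N2597 = N2142 := flp_b L21010
theorem L21012 : sm gd N2597 = N2437 := ded_14_2 L20193 L18717 L21010
theorem L21013 : sm gd N2437 = N2597 := flp_d L21012
theorem L21014 : sm ge N2142 = N2598 := rfl
theorem L21015 : sm ge N2598 = N2142 := flp_e L21014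
theorem L21016 : sm ga N2598 = N2149 := ded_10_1 L18746 L18716 L21014
theorem L21017 : sm ga N2149 = N2598 := flp_a L21016
theorem L21018 : sm gc N2598 = N2143 := ded_19_1 L18720 L18713 L21014
theorem L21019 : sm gc N2143 = N2598 := flp_c L21018
theorem L21020 : sm gf N2142 = N2599 := rfl
theorem L21021 : sm gf N2599 = N2142 := flp_f L21020
theorem L21022 : sm ga N2599 = N2150 := ded_11_1 L18750 L18716 L21020
theorem L21023 : sm ga N2150 = N2599 := flp_a L21022
theorem L21024 : sm gc N2599 = N2144 := ded_20_1 L18724 L18713 L21020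
theorem L21025 : sm gc N2144 = N2599 := flp_c L21024
theorem L21026 : sm gd N2599 = N2439 := ded_23_1 L20201 L18717 L21020
theorem L21027 : sm gd N2439 = N2599 := flp_d L21026
theorem L21028 : sm gg N2142 = N2600 := rfl
theorem L21029 : sm gg N2600 = N2142 := flp_g L21028
theorem L21030 : sm ga N2600 = N2151 := ded_12_1 L18754 L18716 L21028
theorem L21031 : sm ga N2151 = N2600 := flp_a L21030
theorem L21034 : sm gd N2600 = N2440 := ded_24_1 L20205 L18717 L21028
theorem L21035 : sm gd N2440 = N2600 := flp_d L21034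
theorem L21036 : sm gf N2143 = N2601 := rfl
theorem L21037 : sm gf N2601 = N2143 := flp_f L21036
theorem L21038 : sm ga N2601 = N2152 := ded_11_1 L18758 L18722 L21036
theorem L21039 : sm ga N2152 = N2601 := flp_a L21038
theorem L21040 : sm ge N2601 = N2144 := ded_25_1 L18724 L18719 L21036
theorem L21041 : sm ge N2144 = N2601 := flp_e L21040
theorem L21042 : sm gg N2143 = N2602 := rfl
theorem L21043 : sm gg N2602 = N2143 := flp_g L21042
theorem L21044 : sm ga N2602 = N2153 := ded_12_1 L18762 L18722 L21042
theorem L21045 : sm ga N2153 = N2602 := flp_a L21044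
theorem L21046 : sm ge N2602 = N2145 := ded_26_1 L18730 L18719 L21042
theorem L21047 : sm ge N2145 = N2602 := flp_e L21046
theorem L21048 : sm gb N2144 = N2603 := rfl
theorem L21049 : sm gb N2603 = N2144 := flp_b L21048
theorem L21050 : sm gd N2603 = N2146 := ded_14_2 L18736 L18728 L21048
theorem L21051 : sm gd N2146 = N2603 := flp_d L21050
theorem L21052 : sm gb N2145 = N2604 := rfl
theorem L21053 : sm gb N2604 = N2145 := flp_b L21052
theorem L21054 : sm gd N2604 = N2147 := ded_14_2 L18738 L18734 L21052
theorem L21055 : sm gd N2147 = N2604 := flp_d L21054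
theorem L21056 : sm ga N2146 = N2605 := rfl
theorem L21057 : sm ga N2605 = N2146 := flp_a L21056
theorem L21058 : sm gc N2146 = N2606 := rfl
theorem L21059 : sm gc N2606 = N2146 := flp_c L21058
theorem L21060 : sm gb N2606 = N2224 := ded_13_1 L19099 L6456 L5986 L18735 L21058
theorem L21061 : sm gb N2224 = N2606 := flp_b L21060
theorem L21062 : sm gg N2146 = N2607 := rfl
theorem L21063 : sm gg N2607 = N2146 := flp_g L21062
theorem L21064 : sm ga N2147 = N2608 := rfl
theorem L21065 : sm ga N2608 = N2147 := flp_a L21064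
theorem L21066 : sm gc N2147 = N2609 := rfl
theorem L21067 : sm gc N2609 = N2147 := flp_c L21066
theorem L21068 : sm gb N2609 = N2227 := ded_13_1 L19105 L6458 L5992 L18737 L21066
theorem L21069 : sm gb N2227 = N2609 := flp_b L21068
theorem L21070 : sm gf N2147 = N2610 := rfl
theorem L21071 : sm gf N2610 = N2147 := flp_f L21070
theorem L21072 : sm ge N2148 = N2611 := rfl
theorem L21073 : sm ge N2611 = N2148 := flp_e L21072
theorem L21074 : sm ga N2611 = N2438 := ded_10_1 L20197 L18742 L21072
theorem L21075 : sm ga N2438 = N2611 := flp_a L21074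
theorem L21076 : sm gc N2611 = N2432 := ded_19_1 L20167 L18743 L21072
theorem L21077 : sm gc N2432 = N2611 := flp_c L21076
theorem L21078 : sm gf N2148 = N2612 := rfl
theorem L21079 : sm gf N2612 = N2148 := flp_f L21078
theorem L21080 : sm ga N2612 = N2439 := ded_11_1 L20201 L18742 L21078
theorem L21082 : sm gc N2612 = N2433 := ded_20_1 L20173 L18743 L21078
theorem L21083 : sm gc N2433 = N2612 := flp_c L21082
theorem L21084 : sm gd N2612 = N2150 := ded_23_1 L18750 L18739 L21078
theorem L21086 : sm gg N2148 = N2613 := rfl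
theorem L21087 : sm gg N2613 = N2148 := flp_g L21086
theorem L21088 : sm ga N2613 = N2440 := ded_12_1 L20205 L18742 L21086
theorem L21089 : sm ga N2440 = N2613 := flp_a L21088
theorem L21092 : sm gd N2613 = N2151 := ded_24_1 L18754 L18739 L21086
theorem L21093 : sm gd N2151 = N2613 := flp_d L21092
theorem L21094 : sm gd N2149 = N2614 := rfl
theorem L21095 : sm gd N2614 = N2149 := flp_d L21094
theorem L21096 : sm gf N2149 = N2615 := rfl
theorem L21097 : sm gf N2615 = N2149 := flp_f L21096
theorem L21098 : sm gc N2615 = N2152 := ded_20_1 L18758 L18748 L21096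
theorem L21099 : sm gc N2152 = N2615 := flp_c L21098
theorem L21100 : sm ge N2615 = N2150 := ded_25_1 L18750 L18745 L21096
theorem L21101 : sm ge N2150 = N2615 := flp_e L21100
theorem L21102 : sm gg N2149 = N2616 := rfl
theorem L21103 : sm gg N2616 = N2149 := flp_g L21102
theorem L21104 : sm gc N2616 = N2153 := ded_21_1 L18762 L18748 L21102
theorem L21105 : sm gc N2153 = N2616 := flp_c L21104
theorem L21106 : sm ge N2616 = N2151 := ded_26_1 L18754 L18745 L21102
theorem L21107 : sm ge N2151 = N2616 := flp_e L21106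
theorem L21108 : sm gb N2150 = N2617 := rfl
theorem L21109 : sm gb N2617 = N2150 := flp_b L21108
theorem L21110 : sm gg N2150 = N2618 := rfl
theorem L21111 : sm gg N2618 = N2150 := flp_g L21110
theorem L21112 : sm gc N2618 = N2155 := ded_21_1 L18772 L18752 L21110
theorem L21113 : sm gc N2155 = N2618 := flp_c L21112
theorem L21114 : sm gf N2600 = N2618 := ded_29_0 L21111 L18750 L18753 L21031
theorem L21115 : sm gf N2618 = N2600 := flp_f L21114
theorem L21116 : sm gb N2151 = N2619 := rfl
theorem L21117 : sm gb N2619 = N2151 := flp_b L21116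
theorem L21118 : sm gf N2151 = N2620 := rfl
theorem L21119 : sm gf N2620 = N2151 := flp_f L21118
theorem L21120 : sm ga N2620 = N2618 := ded_11_1 L21115 L21030 L21118
theorem L21121 : sm ga N2618 = N2620 := flp_a L21120
theorem L21126 : sm gb N2152 = N2621 := rfl
theorem L21127 : sm gb N2621 = N2152 := flp_b L21126
theorem L21128 : sm ge N2621 = N2154 := ded_15_2 L18766 L18760 L21126
theorem L21129 : sm ge N2154 = N2621 := flp_e L21128
theorem L21130 : sm gf N2621 = N2165 := ded_16_2 L18818 L6031 L5998 L18757 L21126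
theorem L21131 : sm gf N2165 = N2621 := flp_f L21130
theorem L21132 : sm gg N2152 = N2622 := rfl
theorem L21133 : sm gg N2622 = N2152 := flp_g L21132
theorem L21134 : sm ge N2622 = N2155 := ded_26_1 L18772 L18760 L21132
theorem L21135 : sm ge N2155 = N2622 := flp_e L21134
theorem L21136 : sm gf N2602 = N2622 := ded_29_0 L21133 L18758 L18761 L21045
theorem L21137 : sm gf N2622 = N2602 := flp_f L21136
theorem L21138 : sm gb N2153 = N2623 := rfl
theorem L21139 : sm gb N2623 = N2153 := flp_b L21138
theorem L21140 : sm ge N2623 = N2156 := ded_15_2 L18778 L18764 L21138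
theorem L21141 : sm ge N2156 = N2623 := flp_e L21140
theorem L21142 : sm gg N2623 = N2167 := ded_17_2 L18828 L6035 L5998 L18761 L21138
theorem L21143 : sm gg N2167 = N2623 := flp_g L21142
theorem L21144 : sm gf N2153 = N2624 := rfl
theorem L21145 : sm gf N2624 = N2153 := flp_f L21144
theorem L21146 : sm ga N2624 = N2622 := ded_11_1 L21137 L21044 L21144
theorem L21147 : sm ga N2622 = N2624 := flp_a L21146
theorem L21148 : sm ge N2624 = N2157 := ded_25_1 L18784 L18764 L21144
theorem L21149 : sm ge N2157 = N2624 := flp_e L21148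
theorem L21150 : sm gg N2624 = N2601 := ded_29_3 L21038 L18758 L18761 L21144
theorem L21151 : sm gg N2601 = N2624 := flp_g L21150
theorem L21152 : sm ga N2154 = N2625 := rfl
theorem L21153 : sm ga N2625 = N2154 := flp_a L21152
theorem L21154 : sm gd N2625 = N2158 := ded_9_2 L18792 L18768 L21152
theorem L21155 : sm gd N2158 = N2625 := flp_d L21154
theorem L21156 : sm gf N2625 = N2169 := ded_11_2 L18842 L18770 L21152
theorem L21157 : sm gf N2169 = N2625 := flp_f L21156
theorem L21158 : sm gc N2154 = N2626 := rfl
theorem L21159 : sm gc N2626 = N2154 := flp_c L21158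
theorem L21160 : sm gf N2626 = N2170 := ded_20_2 L18846 L18770 L21158
theorem L21161 : sm gf N2170 = N2626 := flp_f L21160
theorem L21162 : sm gg N2154 = N2627 := rfl
theorem L21163 : sm gg N2627 = N2154 := flp_g L21162
theorem L21164 : sm gd N2627 = N2160 := ded_24_1 L18804 L18768 L21162
theorem L21165 : sm gd N2160 = N2627 := flp_d L21164
theorem L21166 : sm gb N2155 = N2628 := rfl
theorem L21167 : sm gb N2628 = N2155 := flp_b L21166
theorem L21168 : sm gd N2628 = N2161 := ded_14_2 L18806 L18774 L21166
theorem L21169 : sm gd N2161 = N2628 := flp_d L21168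
theorem L21170 : sm ga N2156 = N2629 := rfl
theorem L21171 : sm ga N2629 = N2156 := flp_a L21170
theorem L21172 : sm gd N2629 = N2162 := ded_9_2 L18808 L18780 L21170
theorem L21173 : sm gd N2162 = N2629 := flp_d L21172
theorem L21174 : sm gg N2629 = N2173 := ded_12_2 L18856 L18782 L21170
theorem L21175 : sm gg N2173 = N2629 := flp_g L21174
theorem L21176 : sm gc N2156 = N2630 := rfl
theorem L21177 : sm gc N2630 = N2156 := flp_c L21176
theorem L21178 : sm gg N2630 = N2174 := ded_21_2 L18860 L18782 L21176
theorem L21179 : sm gg N2174 = N2630 := flp_g L21178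
theorem L21180 : sm gf N2156 = N2631 := rfl
theorem L21181 : sm gf N2631 = N2156 := flp_f L21180
theorem L21182 : sm gd N2631 = N2163 := ded_23_1 L18813 L18780 L21180
theorem L21183 : sm gd N2163 = N2631 := flp_d L21182
theorem L21184 : sm gb N2157 = N2632 := rfl
theorem L21185 : sm gb N2632 = N2157 := flp_b L21184
theorem L21186 : sm gd N2632 = N2164 := ded_14_2 L18816 L18788 L21184
theorem L21187 : sm gd N2164 = N2632 := flp_d L21186
theorem L21188 : sm gb N2158 = N2633 := rfl
theorem L21189 : sm gb N2633 = N2158 := flp_b L21188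
theorem L21190 : sm gc N2158 = N2634 := rfl
theorem L21191 : sm gc N2634 = N2158 := flp_c L21190
theorem L21192 : sm ga N2634 = N2159 := ded_8_1 L18796 L18791 L21190
theorem L21193 : sm ga N2159 = N2634 := flp_a L21192
theorem L21194 : sm gf N2634 = N2178 := ded_20_2 L18872 L18794 L21190
theorem L21195 : sm gf N2178 = N2634 := flp_f L21194
theorem L21196 : sm gd N2366 = N2634 := ded_9_0 L21192 L18802 L19800
theorem L21197 : sm gd N2634 = N2366 := flp_d L21196
theorem L21198 : sm gg N2159 = N2635 := rfl
theorem L21199 : sm gg N2635 = N2159 := flp_g L21198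
theorem L21200 : sm gc N2635 = N2160 := ded_21_1 L18804 L18795 L21198
theorem L21201 : sm gc N2160 = N2635 := flp_c L21200
theorem L21202 : sm gd N2635 = N2368 := ded_24_1 L19809 L18801 L21198
theorem L21203 : sm gd N2368 = N2635 := flp_d L21202
theorem L21204 : sm gb N2160 = N2636 := rfl
theorem L21205 : sm gb N2636 = N2160 := flp_b L21204
theorem L21206 : sm gg N2636 = N2161 := ded_17_2 L18806 L6012 L6007 L18803 L21204
theorem L21207 : sm gg N2161 = N2636 := flp_g L21206
theorem L21208 : sm ga N2161 = N2637 := rfl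
theorem L21209 : sm ga N2637 = N2161 := flp_a L21208
theorem L21210 : sm gc N2161 = N2638 := rfl
theorem L21211 : sm gc N2638 = N2161 := flp_c L21210
theorem L21212 : sm gb N2638 = N2234 := ded_13_1 L19131 L6470 L6014 L18805 L21210
theorem L21213 : sm gb N2234 = N2638 := flp_b L21212
theorem L21214 : sm gf N2161 = N2639 := rfl
theorem L21215 : sm gf N2639 = N2161 := flp_f L21214
theorem L21216 : sm gb N2639 = N2610 := ded_16_1 L21071 L18738 L6015 L18805 L21214
theorem L21217 : sm gb N2610 = N2639 := flp_b L21216
theorem L21218 : sm gb N2162 = N2640 := rfl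
theorem L21219 : sm gb N2640 = N2162 := flp_b L21218
theorem L21220 : sm gb N2163 = N2641 := rfl
theorem L21221 : sm gb N2641 = N2163 := flp_b L21220
theorem L21222 : sm gf N2641 = N2164 := ded_16_2 L18816 L6023 L6017 L18812 L21220
theorem L21223 : sm gf N2164 = N2641 := flp_f L21222
theorem L21224 : sm ga N2164 = N2642 := rfl
theorem L21225 : sm ga N2642 = N2164 := flp_a L21224
theorem L21226 : sm gc N2164 = N2643 := rfl
theorem L21227 : sm gc N2643 = N2164 := flp_c L21226
theorem L21228 : sm gb N2643 = N2237 := ded_13_1 L19140 L6472 L6027 L18815 L21226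
theorem L21229 : sm gb N2237 = N2643 := flp_b L21228
theorem L21230 : sm gg N2164 = N2644 := rfl
theorem L21231 : sm gg N2644 = N2164 := flp_g L21230
theorem L21232 : sm gb N2644 = N2607 := ded_17_1 L21063 L18736 L6029 L18815 L21230
theorem L21233 : sm gb N2607 = N2644 := flp_b L21232
theorem L21234 : sm ga N2165 = N2645 := rfl
theorem L21235 : sm ga N2645 = N2165 := flp_a L21234
theorem L21236 : sm ge N2645 = N2169 := ded_10_2 L18842 L18820 L21234
theorem L21237 : sm ge N2169 = N2645 := flp_e L21236
theorem L21238 : sm gc N2165 = N2646 := rfl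
theorem L21239 : sm gc N2646 = N2165 := flp_c L21238
theorem L21240 : sm ge N2646 = N2170 := ded_19_2 L18846 L18820 L21238
theorem L21241 : sm ge N2170 = N2646 := flp_e L21240
theorem L21242 : sm gg N2165 = N2647 := rfl
theorem L21243 : sm gg N2647 = N2165 := flp_g L21242
theorem L21244 : sm ge N2647 = N2171 := ded_26_1 L18848 L18820 L21242
theorem L21245 : sm ge N2171 = N2647 := flp_e L21244
theorem L21246 : sm gb N2166 = N2648 := rfl
theorem L21247 : sm gb N2648 = N2166 := flp_b L21246
theorem L21248 : sm ge N2648 = N2172 := ded_15_2 L18852 L18824 L21246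
theorem L21249 : sm ge N2172 = N2648 := flp_e L21248
theorem L21250 : sm ga N2167 = N2649 := rfl
theorem L21251 : sm ga N2649 = N2167 := flp_a L21250
theorem L21252 : sm ge N2649 = N2173 := ded_10_2 L18856 L18830 L21250
theorem L21253 : sm ge N2173 = N2649 := flp_e L21252
theorem L21254 : sm gc N2167 = N2650 := rfl
theorem L21255 : sm gc N2650 = N2167 := flp_c L21254
theorem L21256 : sm ge N2650 = N2174 := ded_19_2 L18860 L18830 L21254
theorem L21257 : sm ge N2174 = N2650 := flp_e L21256
theorem L21258 : sm gf N2167 = N2651 := rfl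
theorem L21259 : sm gf N2651 = N2167 := flp_f L21258
theorem L21260 : sm ge N2651 = N2175 := ded_25_1 L18862 L18830 L21258
theorem L21261 : sm ge N2175 = N2651 := flp_e L21260
theorem L21262 : sm gb N2168 = N2652 := rfl
theorem L21263 : sm gb N2652 = N2168 := flp_b L21262
theorem L21264 : sm ge N2652 = N2176 := ded_15_2 L18866 L18838 L21262
theorem L21265 : sm ge N2176 = N2652 := flp_e L21264
theorem L21266 : sm gb N2169 = N2653 := rfl
theorem L21267 : sm gb N2653 = N2169 := flp_b L21266
theorem L21268 : sm gd N2653 = N2177 := ded_14_2 L18870 L18844 L21266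
theorem L21269 : sm gd N2177 = N2653 := flp_d L21268
theorem L21270 : sm gc N2169 = N2654 := rfl
theorem L21271 : sm gc N2654 = N2169 := flp_c L21270
theorem L21272 : sm ga N2654 = N2170 := ded_8_1 L18846 L18841 L21270
theorem L21273 : sm ga N2170 = N2654 := flp_a L21272
theorem L21274 : sm gg N2169 = N2655 := rfl
theorem L21275 : sm gg N2655 = N2169 := flp_g L21274
theorem L21276 : sm ga N2655 = N2171 := ded_12_1 L18848 L18841 L21274
theorem L21277 : sm ga N2171 = N2655 := flp_a L21276
theorem L21278 : sm gd N2655 = N2179 := ded_24_1 L18878 L18844 L21274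
theorem L21279 : sm gd N2179 = N2655 := flp_d L21278
theorem L21280 : sm gf N2655 = N2627 := ded_29_2 L21163 L21152 L21156 L21274
theorem L21281 : sm gf N2627 = N2655 := flp_f L21280
theorem L21282 : sm gd N2170 = N2656 := rfl
theorem L21283 : sm gd N2656 = N2170 := flp_d L21282
theorem L21284 : sm gg N2170 = N2657 := rfl
theorem L21285 : sm gg N2657 = N2170 := flp_g L21284
theorem L21286 : sm gc N2657 = N2171 := ded_21_1 L18848 L18845 L21284
theorem L21287 : sm gc N2171 = N2657 := flp_c L21286
theorem L21288 : sm gb N2171 = N2658 := rfl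
theorem L21289 : sm gb N2658 = N2171 := flp_b L21288
theorem L21290 : sm gd N2658 = N2181 := ded_14_2 L18890 L18850 L21288
theorem L21291 : sm gd N2181 = N2658 := flp_d L21290
theorem L21292 : sm gg N2658 = N2172 := ded_17_2 L18852 L6043 L6038 L18847 L21288
theorem L21293 : sm gg N2172 = N2658 := flp_g L21292
theorem L21294 : sm gf N2171 = N2659 := rfl
theorem L21295 : sm gf N2659 = N2171 := flp_f L21294
theorem L21298 : sm gd N2659 = N2182 := ded_23_1 L18894 L18850 L21294
theorem L21299 : sm gd N2182 = N2659 := flp_d L21298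
theorem L21300 : sm gg N2659 = N2625 := ded_29_3 L21153 L18769 L18847 L21294
theorem L21301 : sm gg N2625 = N2659 := flp_g L21300
theorem L21302 : sm ga N2172 = N2660 := rfl
theorem L21303 : sm ga N2660 = N2172 := flp_a L21302
theorem L21304 : sm gd N2660 = N2183 := ded_9_2 L18900 L18854 L21302
theorem L21305 : sm gd N2183 = N2660 := flp_d L21304
theorem L21306 : sm gc N2172 = N2661 := rfl
theorem L21307 : sm gc N2661 = N2172 := flp_c L21306
theorem L21308 : sm gf N2172 = N2662 := rfl
theorem L21309 : sm gf N2662 = N2172 := flp_f L21308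
theorem L21310 : sm gd N2662 = N2185 := ded_23_1 L18906 L18854 L21308
theorem L21311 : sm gd N2185 = N2662 := flp_d L21310
theorem L21312 : sm gb N2662 = N2556 := ded_16_1 L20833 L18624 L6046 L18851 L21308
theorem L21313 : sm gb N2556 = N2662 := flp_b L21312
theorem L21314 : sm gb N2173 = N2663 := rfl
theorem L21315 : sm gb N2663 = N2173 := flp_b L21314
theorem L21316 : sm gd N2663 = N2186 := ded_14_2 L18910 L18858 L21314
theorem L21317 : sm gd N2186 = N2663 := flp_d L21316
theorem L21318 : sm gc N2173 = N2664 := rfl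
theorem L21319 : sm gc N2664 = N2173 := flp_c L21318
theorem L21320 : sm ga N2664 = N2174 := ded_8_1 L18860 L18855 L21318
theorem L21321 : sm ga N2174 = N2664 := flp_a L21320
theorem L21322 : sm gf N2173 = N2665 := rfl
theorem L21326 : sm gd N2665 = N2187 := ded_23_1 L18912 L18858 L21322
theorem L21327 : sm gd N2187 = N2665 := flp_d L21326
theorem L21330 : sm gd N2174 = N2666 := rfl
theorem L21331 : sm gd N2666 = N2174 := flp_d L21330
theorem L21332 : sm gf N2174 = N2667 := rfl
theorem L21333 : sm gf N2667 = N2174 := flp_f L21332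
theorem L21336 : sm gb N2175 = N2668 := rfl
theorem L21337 : sm gb N2668 = N2175 := flp_b L21336
theorem L21338 : sm gd N2668 = N2188 := ded_14_2 L18919 L18864 L21336
theorem L21339 : sm gd N2188 = N2668 := flp_d L21338
theorem L21340 : sm gf N2668 = N2176 := ded_16_2 L18866 L6053 L6048 L18861 L21336
theorem L21341 : sm gf N2176 = N2668 := flp_f L21340
theorem L21342 : sm gg N2175 = N2669 := rfl
theorem L21343 : sm gg N2669 = N2175 := flp_g L21342
theorem L21348 : sm gf N2629 = N2669 := ded_29_0 L21343 L18862 L18782 L21170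
theorem L21350 : sm ga N2176 = N2670 := rfl
theorem L21351 : sm ga N2670 = N2176 := flp_a L21350
theorem L21352 : sm gd N2670 = N2190 := ded_9_2 L18930 L18868 L21350
theorem L21353 : sm gd N2190 = N2670 := flp_d L21352
theorem L21354 : sm gc N2176 = N2671 := rfl
theorem L21355 : sm gc N2671 = N2176 := flp_c L21354
theorem L21356 : sm gb N2671 = N2661 := ded_13_1 L21307 L18852 L6057 L18865 L21354
theorem L21357 : sm gb N2661 = N2671 := flp_b L21356
theorem L21358 : sm gg N2176 = N2672 := rfl
theorem L21360 : sm gd N2672 = N2192 := ded_24_1 L18936 L18868 L21358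
theorem L21361 : sm gd N2192 = N2672 := flp_d L21360
theorem L21362 : sm gb N2672 = N2553 := ded_17_1 L20821 L18620 L6061 L18865 L21358
theorem L21363 : sm gb N2553 = N2672 := flp_b L21362
theorem L21364 : sm ga N2177 = N2673 := rfl
theorem L21365 : sm ga N2673 = N2177 := flp_a L21364
theorem L21366 : sm gc N2177 = N2674 := rfl
theorem L21367 : sm gc N2674 = N2177 := flp_c L21366
theorem L21368 : sm gf N2177 = N2675 := rfl
theorem L21369 : sm gf N2675 = N2177 := flp_f L21368
theorem L21370 : sm gg N2177 = N2676 := rfl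
theorem L21371 : sm gg N2676 = N2177 := flp_g L21370
theorem L21372 : sm gb N2178 = N2677 := rfl
theorem L21373 : sm gb N2677 = N2178 := flp_b L21372
theorem L21374 : sm gd N2677 = N2373 := ded_14_2 L19829 L18875 L21372
theorem L21375 : sm gd N2373 = N2677 := flp_d L21374
theorem L21376 : sm gg N2178 = N2678 := rfl
theorem L21377 : sm gg N2678 = N2178 := flp_g L21376
theorem L21378 : sm ga N2678 = N2180 := ded_12_1 L18884 L18874 L21376
theorem L21379 : sm ga N2180 = N2678 := flp_a L21378
theorem L21380 : sm gc N2678 = N2179 := ded_21_1 L18878 L18871 L21376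
theorem L21381 : sm gc N2179 = N2678 := flp_c L21380
theorem L21382 : sm gd N2678 = N2375 := ded_24_1 L19835 L18875 L21376
theorem L21383 : sm gd N2375 = N2678 := flp_d L21382
theorem L21384 : sm gf N2678 = N2635 := ded_29_2 L21199 L21193 L21194 L21376
theorem L21385 : sm gf N2635 = N2678 := flp_f L21384
theorem L21386 : sm gb N2179 = N2679 := rfl
theorem L21387 : sm gb N2679 = N2179 := flp_b L21386
theorem L21388 : sm gf N2180 = N2680 := rfl
theorem L21389 : sm gf N2680 = N2180 := flp_f L21388
theorem L21390 : sm ga N2680 = N2635 := ded_11_1 L21385 L21378 L21388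
theorem L21391 : sm ga N2635 = N2680 := flp_a L21390
theorem L21392 : sm gc N2680 = N2182 := ded_20_1 L18894 L18886 L21388
theorem L21393 : sm gc N2182 = N2680 := flp_c L21392
theorem L21394 : sm gd N2680 = N2378 := ded_23_1 L19849 L18888 L21388
theorem L21395 : sm gd N2378 = N2680 := flp_d L21394
theorem L21396 : sm gg N2680 = N2634 := ded_29_3 L21192 L18797 L18883 L21388
theorem L21397 : sm gg N2634 = N2680 := flp_g L21396
theorem L21398 : sm ga N2181 = N2681 := rfl
theorem L21399 : sm ga N2681 = N2181 := flp_a L21398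
theorem L21400 : sm gg N2681 = N2183 := ded_12_2 L18900 L18892 L21398
theorem L21401 : sm gg N2183 = N2681 := flp_g L21400
theorem L21402 : sm gc N2181 = N2682 := rfl
theorem L21403 : sm gc N2682 = N2181 := flp_c L21402
theorem L21404 : sm gg N2682 = N2184 := ded_21_2 L18902 L18892 L21402
theorem L21405 : sm gg N2184 = N2682 := flp_g L21404
theorem L21406 : sm gf N2181 = N2683 := rfl
theorem L21407 : sm gf N2683 = N2181 := flp_f L21406
theorem L21408 : sm gb N2182 = N2684 := rfl
theorem L21409 : sm gb N2684 = N2182 := flp_b L21408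
theorem L21410 : sm gb N2183 = N2685 := rfl
theorem L21411 : sm gb N2685 = N2183 := flp_b L21410
theorem L21412 : sm gc N2183 = N2686 := rfl
theorem L21413 : sm gc N2686 = N2183 := flp_c L21412
theorem L21414 : sm ga N2686 = N2184 := ded_8_1 L18902 L18899 L21412
theorem L21415 : sm ga N2184 = N2686 := flp_a L21414
theorem L21416 : sm gf N2183 = N2687 := rfl
theorem L21417 : sm gf N2687 = N2183 := flp_f L21416
theorem L21418 : sm ga N2687 = N2185 := ded_11_1 L18906 L18899 L21416
theorem L21419 : sm ga N2185 = N2687 := flp_a L21418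
theorem L21420 : sm gg N2683 = N2687 := ded_29_1 L21417 L21401 L21399 L21406
theorem L21421 : sm gg N2687 = N2683 := flp_g L21420
theorem L21422 : sm gd N2184 = N2688 := rfl
theorem L21423 : sm gd N2688 = N2184 := flp_d L21422
theorem L21424 : sm gb N2688 = N2194 := ded_14_1 L18946 L18904 L21422
theorem L21425 : sm gb N2194 = N2688 := flp_b L21424
theorem L21426 : sm gf N2184 = N2689 := rfl
theorem L21427 : sm gf N2689 = N2184 := flp_f L21426
theorem L21428 : sm gc N2689 = N2185 := ded_20_1 L18906 L18901 L21426
theorem L21429 : sm gc N2185 = N2689 := flp_c L21428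
theorem L21430 : sm gg N2185 = N2690 := rfl
theorem L21431 : sm gg N2690 = N2185 := flp_g L21430
theorem L21432 : sm ga N2690 = N2683 := ded_12_1 L21420 L21418 L21430
theorem L21433 : sm ga N2683 = N2690 := flp_a L21432
theorem L21434 : sm gf N2681 = N2690 := ded_29_0 L21431 L18906 L18892 L21398
theorem L21435 : sm gf N2690 = N2681 := flp_f L21434
theorem L21436 : sm ga N2186 = N2691 := rfl
theorem L21437 : sm ga N2691 = N2186 := flp_a L21436
theorem L21438 : sm gc N2186 = N2692 := rfl
theorem L21439 : sm gc N2692 = N2186 := flp_c L21438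
theorem L21441 : sm gf N2186 = N2693 := rfl
theorem L21442 : sm gf N2693 = N2186 := flp_f L21441
theorem L21443 : sm gg N2186 = N2694 := rfl
theorem L21444 : sm gg N2694 = N2186 := flp_g L21443
theorem L21445 : sm gb N2187 = N2695 := rfl
theorem L21446 : sm gb N2695 = N2187 := flp_b L21445
theorem L21447 : sm ga N2188 = N2696 := rfl
theorem L21448 : sm ga N2696 = N2188 := flp_a L21447
theorem L21449 : sm gf N2696 = N2190 := ded_11_2 L18930 L18921 L21447
theorem L21450 : sm gf N2190 = N2696 := flp_f L21449
theorem L21451 : sm gc N2188 = N2697 := rfl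
theorem L21452 : sm gc N2697 = N2188 := flp_c L21451
theorem L21453 : sm gf N2697 = N2191 := ded_20_2 L18932 L18921 L21451
theorem L21454 : sm gf N2191 = N2697 := flp_f L21453
theorem L21456 : sm gg N2188 = N2698 := rfl
theorem L21457 : sm gg N2698 = N2188 := flp_g L21456
theorem L21458 : sm gb N2189 = N2699 := rfl
theorem L21459 : sm gb N2699 = N2189 := flp_b L21458
theorem L21460 : sm gb N2190 = N2700 := rfl
theorem L21461 : sm gb N2700 = N2190 := flp_b L21460
theorem L21462 : sm gc N2190 = N2701 := rfl
theorem L21463 : sm gc N2701 = N2190 := flp_c L21462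
theorem L21464 : sm ga N2701 = N2191 := ded_8_1 L18932 L18929 L21462
theorem L21465 : sm ga N2191 = N2701 := flp_a L21464
theorem L21466 : sm gg N2190 = N2702 := rfl
theorem L21467 : sm gg N2702 = N2190 := flp_g L21466
theorem L21472 : sm gd N2191 = N2703 := rfl
theorem L21473 : sm gd N2703 = N2191 := flp_d L21472
theorem L21474 : sm gb N2703 = N2196 := ded_14_1 L18956 L18934 L21472
theorem L21475 : sm gb N2196 = N2703 := flp_b L21474
theorem L21476 : sm gg N2191 = N2704 := rfl
theorem L21477 : sm gg N2704 = N2191 := flp_g L21476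
theorem L21478 : sm gc N2704 = N2192 := ded_21_1 L18936 L18931 L21476
theorem L21479 : sm gc N2192 = N2704 := flp_c L21478
theorem L21480 : sm gf N2192 = N2705 := rfl
theorem L21481 : sm gf N2705 = N2192 := flp_f L21480
theorem L21484 : sm gg N2705 = N2696 := ded_29_3 L21448 L18920 L18935 L21480
theorem L21485 : sm gg N2696 = N2705 := flp_g L21484
theorem L21486 : sm gb N2193 = N2706 := rfl
theorem L21487 : sm gb N2706 = N2193 := flp_b L21486
theorem L21488 : sm gd N2193 = N2707 := rfl
theorem L21489 : sm gd N2707 = N2193 := flp_d L21488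
theorem L21490 : sm ga N2707 = N2194 := ded_9_1 L18946 L18942 L21488
theorem L21492 : sm gf N2707 = N2571 := ded_23_2 L20898 L18944 L21488
theorem L21493 : sm gf N2571 = N2707 := flp_f L21492
theorem L21494 : sm gc N2194 = N2708 := rfl
theorem L21495 : sm gc N2708 = N2194 := flp_c L21494
theorem L21496 : sm ge N2194 = N2709 := rfl
theorem L21497 : sm ge N2709 = N2194 := flp_e L21496
theorem L21498 : sm gf N2194 = N2710 := rfl
theorem L21499 : sm gf N2710 = N2194 := flp_f L21498
theorem L21502 : sm gd N2710 = N2195 := ded_23_1 L18948 L18945 L21498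
theorem L21503 : sm gd N2195 = N2710 := flp_d L21502
theorem L21504 : sm gg N2710 = N2568 := ded_29_3 L20890 L19955 L19956 L21498
theorem L21506 : sm gb N2195 = N2711 := rfl
theorem L21507 : sm gb N2711 = N2195 := flp_b L21506
theorem L21508 : sm gc N2711 = N2338 := ded_13_2 L19667 L8907 L16895 L18952 L21506
theorem L21509 : sm gc N2338 = N2711 := flp_c L21508
theorem L21510 : sm gc N2196 = N2712 := rfl
theorem L21511 : sm gc N2712 = N2196 := flp_c L21510
theorem L21513 : sm gd N2712 = N2493 := ded_28_7 L20506 L18986 L6253 L2959 L2907 L6121 L18955 L21510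
theorem L21514 : sm gd N2493 = N2712 := flp_d L21513
theorem L21515 : sm ge N2196 = N2713 := rfl
theorem L21516 : sm ge N2713 = N2196 := flp_e L21515
theorem L21518 : sm gg N2196 = N2714 := rfl
theorem L21519 : sm gg N2714 = N2196 := flp_g L21518
theorem L21520 : sm gd N2714 = N2197 := ded_24_1 L18959 L18955 L21518
theorem L21521 : sm gd N2197 = N2714 := flp_d L21520
theorem L21522 : sm gb N2197 = N2715 := rfl
theorem L21523 : sm gb N2715 = N2197 := flp_b L21522
theorem L21524 : sm gc N2715 = N2572 := ded_13_2 L20901 L18659 L6129 L18961 L21522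
theorem L21525 : sm gc N2572 = N2715 := flp_c L21524
theorem L21526 : sm gc N2198 = N2716 := rfl
theorem L21527 : sm gc N2716 = N2198 := flp_c L21526
theorem L21528 : sm ga N2716 = N2199 := ded_8_1 L18969 L18965 L21526
theorem L21530 : sm gf N2716 = N2578 := ded_20_2 L20929 L18967 L21526
theorem L21531 : sm gf N2578 = N2716 := flp_f L21530
theorem L21532 : sm gd N2708 = N2716 := ded_28_1 L21527 L18963 L6205 L6107 L18939 L21488 L21490 L21494
theorem L21534 : sm ge N2198 = N2717 := rfl
theorem L21535 : sm ge N2717 = N2198 := flp_e L21534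
theorem L21538 : sm gf N2717 = N2579 := ded_25_2 L20935 L18967 L21534
theorem L21539 : sm gf N2579 = N2717 := flp_f L21538
theorem L21542 : sm gb N2199 = N2718 := rfl
theorem L21545 : sm gd N2199 = N2719 := rfl
theorem L21546 : sm gd N2719 = N2199 := flp_d L21545
theorem L21547 : sm ga N2719 = N2708 := ded_9_1 L21532 L21528 L21545
theorem L21551 : sm ge N2199 = N2720 := rfl
theorem L21552 : sm ge N2720 = N2199 := flp_e L21551
theorem L21555 : sm gf N2199 = N2721 := rfl
theorem L21556 : sm gf N2721 = N2199 := flp_f L21555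
theorem L21559 : sm gc N2721 = N2201 := ded_20_1 L18976 L18968 L21555
theorem L21560 : sm gc N2201 = N2721 := flp_c L21559
theorem L21561 : sm gg N2721 = N2573 := ded_29_3 L20904 L19971 L19972 L21555
theorem L21562 : sm gg N2573 = N2721 := flp_g L21561
theorem L21563 : sm gf N2200 = N2722 := rfl
theorem L21567 : sm gd N2722 = N2207 := ded_23_1 L19015 L18974 L21563
theorem L21568 : sm gd N2207 = N2722 := flp_d L21567
theorem L21571 : sm gg N2722 = N2574 := ded_29_3 L20910 L19979 L19980 L21563
theorem L21572 : sm gg N2574 = N2722 := flp_g L21571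
theorem L21573 : sm gb N2494 = N2722 := ded_14_3 L21567 L19025 L20515
theorem L21574 : sm gb N2722 = N2494 := flp_b L21573
theorem L21575 : sm gb N2202 = N2723 := rfl
theorem L21578 : sm gd N2202 = N2724 := rfl
theorem L21579 : sm gd N2724 = N2202 := flp_d L21578
theorem L21580 : sm ga N2724 = N2712 := ded_9_1 L21513 L20506 L21578
theorem L21581 : sm ga N2712 = N2724 := flp_a L21580
theorem L21583 : sm gc N2491 = N2724 := ded_28_0 L21579 L18986 L6253 L2959 L2907 L6121 L18955 L20492
theorem L21585 : sm ge N2202 = N2725 := rfl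
theorem L21586 : sm ge N2725 = N2202 := flp_e L21585
theorem L21587 : sm gc N2725 = N2203 := ded_19_1 L18989 L18985 L21585
theorem L21588 : sm gc N2203 = N2725 := flp_c L21587
theorem L21590 : sm gg N2202 = N2726 := rfl
theorem L21591 : sm gg N2726 = N2202 := flp_g L21590
theorem L21592 : sm gc N2726 = N2204 := ded_21_1 L18995 L18985 L21590
theorem L21593 : sm gc N2204 = N2726 := flp_c L21592
theorem L21594 : sm gg N2203 = N2727 := rfl
theorem L21595 : sm gg N2727 = N2203 := flp_g L21594
theorem L21596 : sm gd N2727 = N2211 := ded_24_1 L19042 L18993 L21594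
theorem L21597 : sm gd N2211 = N2727 := flp_d L21596
theorem L21600 : sm gb N2204 = N2728 := rfl
theorem L21601 : sm gb N2728 = N2204 := flp_b L21600
theorem L21602 : sm gd N2728 = N2205 := ded_14_2 L18999 L18997 L21600
theorem L21603 : sm gd N2205 = N2728 := flp_d L21602
theorem L21604 : sm gf N2728 = N2580 := ded_16_2 L20938 L18967 L20525 L20523 L21600
theorem L21605 : sm gf N2580 = N2728 := flp_f L21604
theorem L21607 : sm ga N2728 = N2728 := ded_7_1 L21601 L20519 L20524 L18964 L6220 L18965 L20525 L20518 L21600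
theorem L21608 : sm ge N2208 = N2729 := rfl
theorem L21609 : sm ge N2729 = N2208 := flp_e L21608
theorem L21611 : sm gb N2729 = N2209 := ded_15_1 L19032 L19026 L21608
theorem L21612 : sm gb N2209 = N2729 := flp_b L21611
theorem L21615 : sm gf N2208 = N2730 := rfl
theorem L21616 : sm gf N2730 = N2208 := flp_f L21615
theorem L21617 : sm ga N2730 = N2730 := ded_11_1 L21616 L19030 L21615
theorem L21618 : sm gc N2730 = N2730 := ded_20_1 L21616 L19029 L21615
theorem L21619 : sm gd N2730 = N2730 := ded_23_1 L21616 L19028 L21615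
theorem L21620 : sm gg N2730 = N2730 := ded_29_3 L21617 L21616 L19055 L21615
theorem L21621 : sm gb N2730 = N2730 := ded_16_1 L21616 L19027 L6433 L19026 L21615
theorem L21622 : sm gd N2209 = N2731 := rfl
theorem L21623 : sm gd N2731 = N2209 := flp_d L21622
theorem L21626 : sm gg N2209 = N2732 := rfl
theorem L21627 : sm gg N2732 = N2209 := flp_g L21626
theorem L21628 : sm gc N2732 = N2211 := ded_21_1 L19042 L19034 L21626
theorem L21629 : sm gc N2211 = N2732 := flp_c L21628
theorem L21630 : sm ge N2732 = N2210 := ded_26_1 L19037 L19031 L21626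
theorem L21633 : sm gb N2211 = N2733 := rfl
theorem L21634 : sm gb N2733 = N2211 := flp_b L21633
theorem L21635 : sm ge N2733 = N2212 := ded_15_2 L19046 L19044 L21633
theorem L21642 : sm gb N2213 = N2734 := rfl
theorem L21643 : sm gb N2734 = N2213 := flp_b L21642
theorem L21644 : sm gd N2213 = N2735 := rfl
theorem L21645 : sm gd N2735 = N2213 := flp_d L21644
theorem L21646 : sm ga N2735 = N2216 := ded_9_1 L19069 L19059 L21644
theorem L21647 : sm ga N2216 = N2735 := flp_a L21646
theorem L21648 : sm gf N2213 = N2736 := rfl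
theorem L21649 : sm gf N2736 = N2213 := flp_f L21648
theorem L21650 : sm ga N2736 = N2217 := ded_11_1 L19071 L19059 L21648
theorem L21652 : sm gc N2736 = N2214 := ded_20_1 L19061 L19056 L21648
theorem L21653 : sm gc N2214 = N2736 := flp_c L21652
theorem L21654 : sm gg N2213 = N2737 := rfl
theorem L21656 : sm ga N2737 = N2218 := ded_12_1 L19075 L19059 L21654
theorem L21657 : sm ga N2218 = N2737 := flp_a L21656
theorem L21658 : sm gc N2737 = N2215 := ded_21_1 L19065 L19056 L21654
theorem L21659 : sm gc N2215 = N2737 := flp_c L21658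
theorem L21660 : sm gb N2214 = N2738 := rfl
theorem L21661 : sm gb N2738 = N2214 := flp_b L21660
theorem L21662 : sm gb N2215 = N2739 := rfl
theorem L21663 : sm gb N2739 = N2215 := flp_b L21662
theorem L21664 : sm gc N2216 = N2740 := rfl
theorem L21665 : sm gc N2740 = N2216 := flp_c L21664
theorem L21666 : sm ge N2216 = N2741 := rfl
theorem L21667 : sm ge N2741 = N2216 := flp_e L21666
theorem L21668 : sm gf N2216 = N2742 := rfl
theorem L21669 : sm gf N2742 = N2216 := flp_f L21668
theorem L21670 : sm gd N2742 = N2217 := ded_23_1 L19071 L19068 L21668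
theorem L21671 : sm gd N2217 = N2742 := flp_d L21670
theorem L21672 : sm gg N2216 = N2743 := rfl
theorem L21673 : sm gg N2743 = N2216 := flp_g L21672
theorem L21674 : sm gd N2743 = N2218 := ded_24_1 L19075 L19068 L21672
theorem L21675 : sm gd N2218 = N2743 := flp_d L21674
theorem L21676 : sm gb N2217 = N2744 := rfl
theorem L21677 : sm gb N2744 = N2217 := flp_b L21676
theorem L21678 : sm gg N2217 = N2745 := rfl
theorem L21679 : sm gg N2745 = N2217 := flp_g L21678
theorem L21680 : sm gc N2745 = N2220 := ded_21_1 L19083 L19073 L21678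
theorem L21681 : sm gc N2220 = N2745 := flp_c L21680
theorem L21682 : sm gf N2737 = N2745 := ded_29_0 L21679 L19071 L19074 L21657
theorem L21684 : sm gb N2218 = N2746 := rfl
theorem L21685 : sm gb N2746 = N2218 := flp_b L21684
theorem L21686 : sm gf N2218 = N2747 := rfl
theorem L21687 : sm gf N2747 = N2218 := flp_f L21686
theorem L21690 : sm gc N2747 = N2222 := ded_20_1 L19091 L19077 L21686
theorem L21691 : sm gc N2222 = N2747 := flp_c L21690
theorem L21692 : sm gg N2747 = N2736 := ded_29_3 L21650 L19071 L19074 L21686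
theorem L21693 : sm gg N2736 = N2747 := flp_g L21692
theorem L21694 : sm ga N2219 = N2748 := rfl
theorem L21695 : sm ga N2748 = N2219 := flp_a L21694
theorem L21696 : sm gf N2748 = N2223 := ded_11_2 L19097 L19081 L21694
theorem L21697 : sm gf N2223 = N2748 := flp_f L21696
theorem L21698 : sm gc N2219 = N2749 := rfl
theorem L21699 : sm gc N2749 = N2219 := flp_c L21698
theorem L21700 : sm gf N2749 = N2224 := ded_20_2 L19099 L19081 L21698
theorem L21701 : sm gf N2224 = N2749 := flp_f L21700
theorem L21702 : sm gg N2219 = N2750 := rfl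
theorem L21703 : sm gg N2750 = N2219 := flp_g L21702
theorem L21704 : sm gb N2220 = N2751 := rfl
theorem L21705 : sm gb N2751 = N2220 := flp_b L21704
theorem L21706 : sm ga N2221 = N2752 := rfl
theorem L21707 : sm ga N2752 = N2221 := flp_a L21706
theorem L21708 : sm gg N2752 = N2226 := ded_12_2 L19103 L19089 L21706
theorem L21709 : sm gg N2226 = N2752 := flp_g L21708
theorem L21710 : sm gc N2221 = N2753 := rfl
theorem L21711 : sm gc N2753 = N2221 := flp_c L21710
theorem L21712 : sm gg N2753 = N2227 := ded_21_2 L19105 L19089 L21710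
theorem L21713 : sm gg N2227 = N2753 := flp_g L21712
theorem L21714 : sm gf N2221 = N2754 := rfl
theorem L21715 : sm gf N2754 = N2221 := flp_f L21714
theorem L21716 : sm gb N2222 = N2755 := rfl
theorem L21717 : sm gb N2755 = N2222 := flp_b L21716
theorem L21718 : sm gb N2223 = N2756 := rfl
theorem L21719 : sm gb N2756 = N2223 := flp_b L21718
theorem L21720 : sm gc N2223 = N2757 := rfl
theorem L21721 : sm gc N2757 = N2223 := flp_c L21720
theorem L21722 : sm ga N2757 = N2224 := ded_8_1 L19099 L19096 L21720
theorem L21723 : sm ga N2224 = N2757 := flp_a L21722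
theorem L21724 : sm gg N2223 = N2758 := rfl
theorem L21725 : sm gg N2758 = N2223 := flp_g L21724
theorem L21726 : sm ga N2758 = N2225 := ded_12_1 L19101 L19096 L21724
theorem L21727 : sm ga N2225 = N2758 := flp_a L21726
theorem L21728 : sm gf N2758 = N2750 := ded_29_2 L21703 L21694 L21696 L21724
theorem L21729 : sm gf N2750 = N2758 := flp_f L21728
theorem L21730 : sm gd N2224 = N2759 := rfl
theorem L21731 : sm gd N2759 = N2224 := flp_d L21730
theorem L21732 : sm gg N2224 = N2760 := rfl
theorem L21733 : sm gg N2760 = N2224 := flp_g L21732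
theorem L21734 : sm gc N2760 = N2225 := ded_21_1 L19101 L19098 L21732
theorem L21735 : sm gc N2225 = N2760 := flp_c L21734
theorem L21736 : sm gf N2225 = N2761 := rfl
theorem L21737 : sm gf N2761 = N2225 := flp_f L21736
theorem L21738 : sm ga N2761 = N2750 := ded_11_1 L21729 L21726 L21736
theorem L21740 : sm gg N2761 = N2748 := ded_29_3 L21695 L19080 L19100 L21736
theorem L21741 : sm gg N2748 = N2761 := flp_g L21740
theorem L21742 : sm gb N2226 = N2762 := rfl
theorem L21743 : sm gb N2762 = N2226 := flp_b L21742
theorem L21744 : sm ga N2762 = N2762 := ded_7_1 L21743 L19103 L6458 L3068 L1555 L3069 L6457 L19102 L21742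
theorem L21745 : sm gc N2226 = N2763 := rfl
theorem L21746 : sm gc N2763 = N2226 := flp_c L21745
theorem L21747 : sm ga N2763 = N2227 := ded_8_1 L19105 L19102 L21745
theorem L21748 : sm ga N2227 = N2763 := flp_a L21747
theorem L21749 : sm gf N2226 = N2764 := rfl
theorem L21750 : sm gf N2764 = N2226 := flp_f L21749
theorem L21751 : sm ga N2764 = N2228 := ded_11_1 L19107 L19102 L21749
theorem L21752 : sm ga N2228 = N2764 := flp_a L21751
theorem L21753 : sm gg N2754 = N2764 := ded_29_1 L21750 L21709 L21707 L21714
theorem L21754 : sm gg N2764 = N2754 := flp_g L21753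
theorem L21755 : sm gd N2227 = N2765 := rfl
theorem L21756 : sm gd N2765 = N2227 := flp_d L21755
theorem L21757 : sm gf N2227 = N2766 := rfl
theorem L21758 : sm gf N2766 = N2227 := flp_f L21757
theorem L21759 : sm gc N2766 = N2228 := ded_20_1 L19107 L19104 L21757
theorem L21760 : sm gc N2228 = N2766 := flp_c L21759
theorem L21761 : sm gg N2228 = N2767 := rfl
theorem L21762 : sm gg N2767 = N2228 := flp_g L21761
theorem L21763 : sm ga N2767 = N2754 := ded_12_1 L21753 L21751 L21761
theorem L21765 : sm gf N2752 = N2767 := ded_29_0 L21762 L19107 L19089 L21706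
theorem L21766 : sm gf N2767 = N2752 := flp_f L21765
theorem L21767 : sm ga N2229 = N2768 := rfl
theorem L21768 : sm ga N2768 = N2229 := flp_a L21767
theorem L21769 : sm gc N2229 = N2769 := rfl
theorem L21770 : sm gc N2769 = N2229 := flp_c L21769
theorem L21771 : sm gf N2229 = N2770 := rfl
theorem L21772 : sm gf N2770 = N2229 := flp_f L21771
theorem L21773 : sm gb N2770 = N2241 := ded_16_1 L19151 L6475 L6462 L19108 L21771
theorem L21774 : sm gb N2241 = N2770 := flp_b L21773
theorem L21775 : sm gg N2229 = N2771 := rfl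
theorem L21776 : sm gg N2771 = N2229 := flp_g L21775
theorem L21777 : sm gb N2230 = N2772 := rfl
theorem L21778 : sm gb N2772 = N2230 := flp_b L21777
theorem L21779 : sm gd N2772 = N2364 := ded_14_2 L19797 L19116 L21777
theorem L21780 : sm gd N2364 = N2772 := flp_d L21779
theorem L21781 : sm gb N2231 = N2773 := rfl
theorem L21782 : sm gb N2773 = N2231 := flp_b L21781
theorem L21783 : sm gd N2773 = N2369 := ded_14_2 L19811 L19123 L21781
theorem L21784 : sm gd N2369 = N2773 := flp_d L21783
theorem L21785 : sm ga N2232 = N2774 := rfl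
theorem L21786 : sm ga N2774 = N2232 := flp_a L21785
theorem L21787 : sm gg N2774 = N2233 := ded_12_2 L19129 L19127 L21785
theorem L21788 : sm gg N2233 = N2774 := flp_g L21787
theorem L21789 : sm gc N2232 = N2775 := rfl
theorem L21790 : sm gc N2775 = N2232 := flp_c L21789
theorem L21791 : sm gg N2775 = N2234 := ded_21_2 L19131 L19127 L21789
theorem L21792 : sm gg N2234 = N2775 := flp_g L21791
theorem L21793 : sm gf N2232 = N2776 := rfl
theorem L21794 : sm gf N2776 = N2232 := flp_f L21793
theorem L21795 : sm gb N2233 = N2777 := rfl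
theorem L21796 : sm gb N2777 = N2233 := flp_b L21795
theorem L21797 : sm gc N2233 = N2778 := rfl
theorem L21798 : sm gc N2778 = N2233 := flp_c L21797
theorem L21799 : sm ga N2778 = N2234 := ded_8_1 L19131 L19128 L21797
theorem L21800 : sm ga N2234 = N2778 := flp_a L21799
theorem L21801 : sm gf N2233 = N2779 := rfl
theorem L21802 : sm gf N2779 = N2233 := flp_f L21801
theorem L21803 : sm ga N2779 = N2235 := ded_11_1 L19133 L19128 L21801
theorem L21804 : sm ga N2235 = N2779 := flp_a L21803
theorem L21805 : sm gg N2776 = N2779 := ded_29_1 L21802 L21788 L21786 L21793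
theorem L21806 : sm gg N2779 = N2776 := flp_g L21805
theorem L21807 : sm gd N2234 = N2780 := rfl
theorem L21808 : sm gd N2780 = N2234 := flp_d L21807
theorem L21809 : sm gf N2234 = N2781 := rfl
theorem L21810 : sm gf N2781 = N2234 := flp_f L21809
theorem L21811 : sm gc N2781 = N2235 := ded_20_1 L19133 L19130 L21809
theorem L21812 : sm gc N2235 = N2781 := flp_c L21811
theorem L21813 : sm gg N2235 = N2782 := rfl
theorem L21814 : sm gg N2782 = N2235 := flp_g L21813
theorem L21815 : sm ga N2782 = N2776 := ded_12_1 L21805 L21803 L21813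
theorem L21816 : sm ga N2776 = N2782 := flp_a L21815
theorem L21817 : sm gf N2774 = N2782 := ded_29_0 L21814 L19133 L19127 L21785
theorem L21819 : sm gb N2236 = N2783 := rfl
theorem L21820 : sm gb N2783 = N2236 := flp_b L21819
theorem L21821 : sm gc N2236 = N2784 := rfl
theorem L21822 : sm gc N2784 = N2236 := flp_c L21821
theorem L21823 : sm ga N2784 = N2237 := ded_8_1 L19140 L19136 L21821
theorem L21824 : sm ga N2237 = N2784 := flp_a L21823
theorem L21825 : sm gf N2784 = N2784 := ded_20_2 L21822 L19138 L21821
theorem L21826 : sm gg N2236 = N2785 := rfl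
theorem L21827 : sm gg N2785 = N2236 := flp_g L21826
theorem L21828 : sm ga N2785 = N2238 := ded_12_1 L19143 L19136 L21826
theorem L21830 : sm gf N2238 = N2785 := ded_29_0 L21827 L19138 L21826 L21828
theorem L21832 : sm gd N2237 = N2786 := rfl
theorem L21833 : sm gd N2786 = N2237 := flp_d L21832
theorem L21835 : sm gg N2237 = N2787 := rfl
theorem L21836 : sm gg N2787 = N2237 := flp_g L21835
theorem L21837 : sm gc N2787 = N2238 := ded_21_1 L19143 L19139 L21835
theorem L21838 : sm gc N2238 = N2787 := flp_c L21837
theorem L21839 : sm gc N2239 = N2788 := rfl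
theorem L21840 : sm gc N2788 = N2239 := flp_c L21839
theorem L21841 : sm ga N2788 = N2240 := ded_8_1 L19149 L19146 L21839
theorem L21842 : sm ga N2240 = N2788 := flp_a L21841
theorem L21843 : sm gf N2239 = N2789 := rfl
theorem L21844 : sm gf N2789 = N2239 := flp_f L21843
theorem L21845 : sm ga N2789 = N2241 := ded_11_1 L19151 L19146 L21843
theorem L21847 : sm gg N2239 = N2790 := rfl
theorem L21848 : sm gg N2790 = N2239 := flp_g L21847
theorem L21849 : sm ga N2790 = N2242 := ded_12_1 L19153 L19146 L21847
theorem L21850 : sm ga N2242 = N2790 := flp_a L21849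
theorem L21851 : sm gb N2240 = N2791 := rfl
theorem L21852 : sm gb N2791 = N2240 := flp_b L21851
theorem L21853 : sm gc N2791 = N2243 := ded_13_2 L19155 L6477 L6474 L19148 L21851
theorem L21854 : sm gc N2243 = N2791 := flp_c L21853
theorem L21855 : sm gd N2240 = N2792 := rfl
theorem L21856 : sm gd N2792 = N2240 := flp_d L21855
theorem L21857 : sm gf N2240 = N2793 := rfl
theorem L21858 : sm gf N2793 = N2240 := flp_f L21857
theorem L21859 : sm gc N2793 = N2241 := ded_20_1 L19151 L19148 L21857
theorem L21860 : sm gc N2241 = N2793 := flp_c L21859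
theorem L21861 : sm gg N2240 = N2794 := rfl
theorem L21862 : sm gg N2794 = N2240 := flp_g L21861
theorem L21863 : sm gc N2794 = N2242 := ded_21_1 L19153 L19148 L21861
theorem L21864 : sm gc N2242 = N2794 := flp_c L21863
theorem L21865 : sm gg N2241 = N2795 := rfl
theorem L21866 : sm gg N2795 = N2241 := flp_g L21865
theorem L21867 : sm gf N2790 = N2795 := ded_29_0 L21866 L19151 L19152 L21850
theorem L21868 : sm gf N2795 = N2790 := flp_f L21867
theorem L21869 : sm gb N2242 = N2796 := rfl
theorem L21870 : sm gb N2796 = N2242 := flp_b L21869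
theorem L21871 : sm gg N2796 = N2245 := ded_17_2 L19169 L6481 L6474 L19152 L21869
theorem L21872 : sm gg N2245 = N2796 := flp_g L21871
theorem L21873 : sm gf N2242 = N2797 := rfl
theorem L21874 : sm gf N2797 = N2242 := flp_f L21873
theorem L21875 : sm ga N2797 = N2795 := ded_11_1 L21868 L21849 L21873
theorem L21877 : sm gg N2797 = N2789 := ded_29_3 L21845 L19151 L19152 L21873
theorem L21878 : sm gg N2789 = N2797 := flp_g L21877
theorem L21879 : sm ga N2243 = N2798 := rfl
theorem L21880 : sm ga N2798 = N2243 := flp_a L21879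
theorem L21881 : sm gd N2798 = N2360 := ded_9_2 L19789 L19157 L21879
theorem L21882 : sm gd N2360 = N2798 := flp_d L21881
theorem L21883 : sm gb N2798 = N2360 := ded_7_2 L19789 L9390 L4638 L2256 L17714 L3089 L6479 L19154 L21879
theorem L21884 : sm gb N2360 = N2798 := flp_b L21883
theorem L21885 : sm gf N2243 = N2799 := rfl
theorem L21886 : sm gf N2799 = N2243 := flp_f L21885
theorem L21887 : sm gd N2799 = N2362 := ded_23_1 L19793 L19157 L21885
theorem L21888 : sm gd N2362 = N2799 := flp_d L21887
theorem L21889 : sm gg N2243 = N2800 := rfl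
theorem L21890 : sm gg N2800 = N2243 := flp_g L21889
theorem L21891 : sm gd N2800 = N2363 := ded_24_1 L19795 L19157 L21889
theorem L21892 : sm gd N2363 = N2800 := flp_d L21891
theorem L21893 : sm gb N2244 = N2801 := rfl
theorem L21894 : sm gb N2801 = N2244 := flp_b L21893
theorem L21895 : sm gd N2801 = N2365 := ded_14_2 L19799 L19165 L21893
theorem L21896 : sm gd N2365 = N2801 := flp_d L21895
theorem L21897 : sm ga N2245 = N2802 := rfl
theorem L21899 : sm gc N2245 = N2803 := rfl
theorem L21900 : sm gc N2803 = N2245 := flp_c L21899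
theorem L21901 : sm gf N2245 = N2804 := rfl
theorem L21902 : sm gf N2804 = N2245 := flp_f L21901
theorem L21903 : sm gb N2804 = N2776 := ded_16_1 L21794 L19125 L6485 L19168 L21901
theorem L21904 : sm gb N2776 = N2804 := flp_b L21903
theorem L21905 : sm gb N2246 = N2805 := rfl
theorem L21906 : sm gb N2805 = N2246 := flp_b L21905
theorem L21907 : sm gd N2805 = N2372 := ded_14_2 L19827 L19177 L21905
theorem L21908 : sm gd N2372 = N2805 := flp_d L21907
theorem L21909 : sm ga N2247 = N2806 := rfl
theorem L21910 : sm ga N2806 = N2247 := flp_a L21909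
theorem L21911 : sm gc N2247 = N2807 := rfl
theorem L21912 : sm gc N2807 = N2247 := flp_c L21911
theorem L21913 : sm gg N2247 = N2808 := rfl
theorem L21914 : sm gg N2808 = N2247 := flp_g L21913
theorem L21915 : sm gb N2808 = N2771 := ded_17_1 L21776 L19109 L6499 L19180 L21913
theorem L21916 : sm gb N2771 = N2808 := flp_b L21915
theorem L21917 : sm gb N2248 = N2809 := rfl
theorem L21918 : sm gb N2809 = N2248 := flp_b L21917
theorem L21919 : sm ge N2809 = N2255 := ded_15_2 L19225 L19187 L21917
theorem L21921 : sm gd N2248 = N2810 := rfl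
theorem L21922 : sm gd N2810 = N2248 := flp_d L21921
theorem L21923 : sm ga N2810 = N2249 := ded_9_1 L19189 L19182 L21921
theorem L21924 : sm ga N2249 = N2810 := flp_a L21923
theorem L21925 : sm gc N2810 = N2532 := ded_28_6 L20733 L20711 L20709 L18558 L18469 L9429 L19185 L21921
theorem L21926 : sm gc N2532 = N2810 := flp_c L21925
theorem L21927 : sm gf N2248 = N2811 := rfl
theorem L21928 : sm gf N2811 = N2248 := flp_f L21927
theorem L21929 : sm ga N2811 = N2250 := ded_11_1 L19193 L19182 L21927
theorem L21930 : sm ga N2250 = N2811 := flp_a L21929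
theorem L21931 : sm gc N2811 = N2256 := ded_20_1 L19227 L19185 L21927
theorem L21932 : sm gc N2256 = N2811 := flp_c L21931
theorem L21933 : sm ge N2811 = N2256 := ded_25_1 L19227 L19187 L21927
theorem L21934 : sm ge N2256 = N2811 := flp_e L21933
theorem L21935 : sm gg N2248 = N2812 := rfl
theorem L21936 : sm gg N2812 = N2248 := flp_g L21935
theorem L21941 : sm ge N2812 = N2257 := ded_26_1 L19231 L19187 L21935
theorem L21942 : sm ge N2257 = N2812 := flp_e L21941
theorem L21943 : sm gc N2249 = N2813 := rfl
theorem L21944 : sm gc N2813 = N2249 := flp_c L21943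
theorem L21945 : sm ga N2813 = N2532 := ded_8_1 L21926 L21923 L21943
theorem L21946 : sm ga N2532 = N2813 := flp_a L21945
theorem L21947 : sm gb N2813 = N2348 := ded_13_1 L19723 L9261 L17723 L19191 L21943
theorem L21948 : sm gb N2348 = N2813 := flp_b L21947
theorem L21949 : sm gd N2813 = N2526 := ded_28_7 L20710 L18570 L5754 L15157 L4647 L7355 L19188 L21943
theorem L21950 : sm gd N2526 = N2813 := flp_d L21949
theorem L21951 : sm ga N2437 = N2454 := ded_7_5 L20282 L10380 L19581 L19725 L21948 L21945 L20734 L18741 L20192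
theorem L21952 : sm ga N2454 = N2437 := flp_a L21951
theorem L21953 : sm gc N2454 = N2453 := ded_8_2 L20277 L20195 L21951
theorem L21954 : sm gc N2453 = N2454 := flp_c L21953
theorem L21955 : sm ge N2453 = N2437 := ded_10_0 L21951 L20281 L20276
theorem L21956 : sm ge N2437 = N2453 := flp_e L21955
theorem L21957 : sm gb N2453 = N2438 := ded_13_1 L20198 L10331 L10383 L20283 L21953
theorem L21958 : sm gb N2438 = N2453 := flp_b L21957
theorem L21959 : sm gf N2249 = N2814 := rfl
theorem L21960 : sm gf N2814 = N2249 := flp_f L21959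
theorem L21961 : sm gd N2814 = N2250 := ded_23_1 L19193 L19188 L21959
theorem L21962 : sm gd N2250 = N2814 := flp_d L21961
theorem L21963 : sm gg N2249 = N2815 := rfl
theorem L21964 : sm gg N2815 = N2249 := flp_g L21963
theorem L21965 : sm gd N2815 = N2251 := ded_24_1 L19199 L19188 L21963
theorem L21966 : sm gd N2251 = N2815 := flp_d L21965
theorem L21967 : sm gb N2815 = N2273 := ded_17_1 L19305 L7722 L17670 L19191 L21963
theorem L21968 : sm gb N2273 = N2815 := flp_b L21967
theorem L21969 : sm gb N2250 = N2816 := rfl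
theorem L21970 : sm gb N2816 = N2250 := flp_b L21969
theorem L21971 : sm ge N2816 = N2258 := ded_15_2 L19235 L19197 L21969
theorem L21972 : sm ge N2258 = N2816 := flp_e L21971
theorem L21973 : sm gf N2816 = N2253 := ded_16_2 L19215 L7359 L7352 L19192 L21969
theorem L21974 : sm gf N2253 = N2816 := flp_f L21973
theorem L21975 : sm gg N2250 = N2817 := rfl
theorem L21976 : sm gg N2817 = N2250 := flp_g L21975
theorem L21979 : sm ge N2817 = N2259 := ded_26_1 L19239 L19197 L21975
theorem L21980 : sm ge N2259 = N2817 := flp_e L21979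
theorem L21983 : sm gf N2251 = N2818 := rfl
theorem L21984 : sm gf N2818 = N2251 := flp_f L21983
theorem L21987 : sm gc N2818 = N2260 := ded_20_1 L19243 L19201 L21983
theorem L21989 : sm ge N2818 = N2260 := ded_25_1 L19243 L19203 L21983
theorem L21990 : sm ge N2260 = N2818 := flp_e L21989
theorem L21991 : sm gg N2818 = N2811 := ded_29_3 L21929 L19193 L19198 L21983
theorem L21992 : sm gg N2811 = N2818 := flp_g L21991
theorem L21993 : sm gb N2252 = N2819 := rfl
theorem L21994 : sm gb N2819 = N2252 := flp_b L21993
theorem L21995 : sm gd N2819 = N2253 := ded_14_2 L19215 L19211 L21993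
theorem L21996 : sm gd N2253 = N2819 := flp_d L21995
theorem L21997 : sm ga N2253 = N2820 := rfl
theorem L21998 : sm ga N2820 = N2253 := flp_a L21997
theorem L21999 : sm ge N2820 = N2261 := ded_10_2 L19249 L19217 L21997
theorem L22000 : sm ge N2261 = N2820 := flp_e L21999
theorem L22001 : sm gc N2253 = N2821 := rfl
theorem L22002 : sm gc N2821 = N2253 := flp_c L22001
theorem L22003 : sm ge N2821 = N2262 := ded_19_2 L19251 L19217 L22001
theorem L22004 : sm ge N2262 = N2821 := flp_e L22003
theorem L22005 : sm gb N2821 = N2254 := ded_13_1 L19219 L7367 L7361 L19214 L22001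
theorem L22006 : sm gb N2254 = N2821 := flp_b L22005
theorem L22007 : sm gg N2253 = N2822 := rfl
theorem L22008 : sm gg N2822 = N2253 := flp_g L22007
theorem L22009 : sm ge N2822 = N2263 := ded_26_1 L19255 L19217 L22007
theorem L22010 : sm ge N2263 = N2822 := flp_e L22009
theorem L22011 : sm gb N2822 = N2357 := ded_17_1 L19777 L9276 L17639 L19214 L22007
theorem L22012 : sm gb N2357 = N2822 := flp_b L22011
theorem L22013 : sm gd N2254 = N2823 := rfl
theorem L22014 : sm gd N2823 = N2254 := flp_d L22013
theorem L22015 : sm gf N2823 = N2265 := ded_23_2 L19263 L19223 L22013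
theorem L22016 : sm gf N2265 = N2823 := flp_f L22015
theorem L22017 : sm ga N2255 = N2824 := rfl
theorem L22018 : sm ga N2824 = N2255 := flp_a L22017
theorem L22019 : sm gc N2255 = N2825 := rfl
theorem L22020 : sm gc N2825 = N2255 := flp_c L22019
theorem L22021 : sm gf N2255 = N2826 := rfl
theorem L22022 : sm gf N2826 = N2255 := flp_f L22021
theorem L22023 : sm gg N2255 = N2827 := rfl
theorem L22024 : sm gg N2827 = N2255 := flp_g L22023
theorem L22025 : sm gb N2256 = N2828 := rfl
theorem L22026 : sm gb N2828 = N2256 := flp_b L22025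
theorem L22027 : sm gb N2257 = N2829 := rfl
theorem L22028 : sm gb N2829 = N2257 := flp_b L22027
theorem L22029 : sm ga N2258 = N2830 := rfl
theorem L22030 : sm ga N2830 = N2258 := flp_a L22029
theorem L22031 : sm gf N2830 = N2261 := ded_11_2 L19249 L19237 L22029
theorem L22032 : sm gf N2261 = N2830 := flp_f L22031
theorem L22033 : sm gc N2258 = N2831 := rfl
theorem L22034 : sm gc N2831 = N2258 := flp_c L22033
theorem L22035 : sm gf N2831 = N2262 := ded_20_2 L19251 L19237 L22033
theorem L22036 : sm gf N2262 = N2831 := flp_f L22035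
theorem L22037 : sm gg N2258 = N2832 := rfl
theorem L22038 : sm gg N2832 = N2258 := flp_g L22037
theorem L22039 : sm gb N2259 = N2833 := rfl
theorem L22040 : sm gb N2833 = N2259 := flp_b L22039
theorem L22041 : sm gb N2260 = N2834 := rfl
theorem L22042 : sm gb N2834 = N2260 := flp_b L22041
theorem L22043 : sm gf N2834 = N2805 := ded_16_2 L21906 L19171 L17687 L19242 L22041
theorem L22044 : sm gf N2805 = N2834 := flp_f L22043
theorem L22045 : sm gb N2261 = N2835 := rfl
theorem L22046 : sm gb N2835 = N2261 := flp_b L22045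
theorem L22047 : sm gc N2261 = N2836 := rfl
theorem L22048 : sm gc N2836 = N2261 := flp_c L22047
theorem L22049 : sm ga N2836 = N2262 := ded_8_1 L19251 L19248 L22047
theorem L22050 : sm ga N2262 = N2836 := flp_a L22049
theorem L22051 : sm gg N2261 = N2837 := rfl
theorem L22052 : sm gg N2837 = N2261 := flp_g L22051
theorem L22053 : sm ga N2837 = N2263 := ded_12_1 L19255 L19248 L22051
theorem L22054 : sm ga N2263 = N2837 := flp_a L22053
theorem L22055 : sm gf N2837 = N2832 := ded_29_2 L22038 L22029 L22031 L22051
theorem L22056 : sm gf N2832 = N2837 := flp_f L22055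
theorem L22057 : sm gd N2262 = N2838 := rfl
theorem L22058 : sm gd N2838 = N2262 := flp_d L22057
theorem L22059 : sm gb N2838 = N2265 := ded_14_1 L19263 L19253 L22057
theorem L22060 : sm gb N2265 = N2838 := flp_b L22059
theorem L22061 : sm gg N2262 = N2839 := rfl
theorem L22062 : sm gg N2839 = N2262 := flp_g L22061
theorem L22063 : sm gc N2839 = N2263 := ded_21_1 L19255 L19250 L22061
theorem L22064 : sm gc N2263 = N2839 := flp_c L22063
theorem L22065 : sm gf N2263 = N2840 := rfl
theorem L22066 : sm gf N2840 = N2263 := flp_f L22065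
theorem L22067 : sm ga N2840 = N2832 := ded_11_1 L22056 L22053 L22065
theorem L22068 : sm ga N2832 = N2840 := flp_a L22067
theorem L22069 : sm gg N2840 = N2830 := ded_29_3 L22030 L19236 L19254 L22065
theorem L22070 : sm gg N2830 = N2840 := flp_g L22069
theorem L22071 : sm gb N2264 = N2841 := rfl
theorem L22072 : sm gb N2841 = N2264 := flp_b L22071
theorem L22073 : sm ge N2265 = N2842 := rfl
theorem L22074 : sm ge N2842 = N2265 := flp_e L22073
theorem L22075 : sm gg N2265 = N2843 := rfl
theorem L22076 : sm gg N2843 = N2265 := flp_g L22075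
theorem L22077 : sm gc N2843 = N2358 := ded_21_1 L19913 L19914 L22075
theorem L22078 : sm gc N2358 = N2843 := flp_c L22077
theorem L22079 : sm gd N2843 = N2266 := ded_24_1 L19265 L19262 L22075
theorem L22080 : sm gd N2266 = N2843 := flp_d L22079
theorem L22081 : sm gb N2266 = N2844 := rfl
theorem L22082 : sm gb N2844 = N2266 := flp_b L22081
theorem L22083 : sm gc N2844 = N2392 := ded_13_2 L19931 L9463 L7519 L19267 L22081
theorem L22084 : sm gc N2392 = N2844 := flp_c L22083
theorem L22085 : sm ga N2267 = N2845 := rfl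
theorem L22086 : sm ga N2845 = N2267 := flp_a L22085
theorem L22087 : sm ge N2845 = N2798 := ded_10_2 L21880 L19271 L22085
theorem L22088 : sm ge N2798 = N2845 := flp_e L22087
theorem L22089 : sm gc N2267 = N2846 := rfl
theorem L22090 : sm gc N2846 = N2267 := flp_c L22089
theorem L22091 : sm ge N2846 = N2791 := ded_19_2 L21853 L19271 L22089
theorem L22092 : sm ge N2791 = N2846 := flp_e L22091
theorem L22093 : sm gb N2846 = N2285 := ded_13_1 L19389 L7869 L7717 L19268 L22089
theorem L22094 : sm gb N2285 = N2846 := flp_b L22093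
theorem L22095 : sm gf N2267 = N2847 := rfl
theorem L22096 : sm gf N2847 = N2267 := flp_f L22095
theorem L22097 : sm ge N2847 = N2799 := ded_25_1 L21886 L19271 L22095
theorem L22098 : sm ge N2799 = N2847 := flp_e L22097
theorem L22099 : sm gg N2267 = N2848 := rfl
theorem L22100 : sm gg N2848 = N2267 := flp_g L22099
theorem L22101 : sm ge N2848 = N2800 := ded_26_1 L21890 L19271 L22099
theorem L22102 : sm ge N2800 = N2848 := flp_e L22101
theorem L22103 : sm gf N2268 = N2849 := rfl
theorem L22104 : sm gf N2849 = N2268 := flp_f L22103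
theorem L22105 : sm ga N2849 = N2272 := ded_11_1 L19301 L19275 L22103
theorem L22106 : sm ga N2272 = N2849 := flp_a L22105
theorem L22107 : sm gc N2849 = N2320 := ded_20_1 L19583 L19277 L22103
theorem L22108 : sm gc N2320 = N2849 := flp_c L22107
theorem L22109 : sm gd N2849 = N2269 := ded_23_1 L19279 L19272 L22103
theorem L22110 : sm gd N2269 = N2849 := flp_d L22109
theorem L22111 : sm gg N2268 = N2850 := rfl
theorem L22112 : sm gg N2850 = N2268 := flp_g L22111
theorem L22113 : sm ga N2850 = N2273 := ded_12_1 L19305 L19275 L22111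
theorem L22114 : sm ga N2273 = N2850 := flp_a L22113
theorem L22115 : sm gc N2850 = N2321 := ded_21_1 L19587 L19277 L22111
theorem L22117 : sm gd N2850 = N2270 := ded_24_1 L19287 L19272 L22111
theorem L22118 : sm gd N2270 = N2850 := flp_d L22117
theorem L22119 : sm gb N2269 = N2851 := rfl
theorem L22120 : sm gb N2851 = N2269 := flp_b L22119
theorem L22121 : sm ge N2851 = N2772 := ded_15_2 L21778 L19285 L22119
theorem L22122 : sm ge N2772 = N2851 := flp_e L22121
theorem L22123 : sm gb N2270 = N2852 := rfl
theorem L22124 : sm gb N2852 = N2270 := flp_b L22123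
theorem L22125 : sm ge N2852 = N2801 := ded_15_2 L21894 L19293 L22123
theorem L22126 : sm ge N2801 = N2852 := flp_e L22125
theorem L22127 : sm gb N2271 = N2853 := rfl
theorem L22129 : sm gd N2853 = N2316 := ded_14_2 L19565 L19299 L22127
theorem L22130 : sm gd N2316 = N2853 := flp_d L22129
theorem L22131 : sm ge N2853 = N2813 := ded_15_2 L21947 L19726 L22127
theorem L22132 : sm ge N2813 = N2853 := flp_e L22131
theorem L22133 : sm gc N2853 = N2277 := ded_13_2 L19335 L7737 L7723 L19294 L22127
theorem L22134 : sm gc N2277 = N2853 := flp_c L22133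
theorem L22135 : sm ga N2316 = N2846 := ded_28_8 L22090 L20030 L20027 L10129 L15679 L19337 L22134 L22129
theorem L22136 : sm ga N2846 = N2316 := flp_a L22135
theorem L22137 : sm gc N2845 = N2316 := ded_28_0 L22130 L22133 L19336 L15678 L10128 L20026 L20031 L22085
theorem L22138 : sm gc N2316 = N2845 := flp_c L22137
theorem L22139 : sm gb N2361 = N2845 := ded_13_5 L22137 L19565 L8869 L9389 L19790
theorem L22140 : sm gb N2845 = N2361 := flp_b L22139
theorem L22141 : sm ge N2360 = N2361 := ded_15_0 L22139 L22087 L21883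
theorem L22142 : sm ge N2361 = N2360 := flp_e L22141
theorem L22143 : sm ga N2344 = N2361 := ded_7_9 L22139 L22086 L19269 L7715 L3758 L17730 L4577 L9255 L19698
theorem L22144 : sm ga N2361 = N2344 := flp_a L22143
theorem L22145 : sm gc N2344 = N2360 := ded_19_3 L22141 L19791 L19701
theorem L22146 : sm gc N2360 = N2344 := flp_c L22145
theorem L22147 : sm gf N2271 = N2854 := rfl
theorem L22148 : sm gf N2854 = N2271 := flp_f L22147
theorem L22149 : sm ga N2854 = N2320 := ded_11_1 L19583 L19297 L22147
theorem L22151 : sm gc N2854 = N2272 := ded_20_1 L19301 L19294 L22147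
theorem L22152 : sm gc N2272 = N2854 := flp_c L22151
theorem L22153 : sm gd N2854 = N2317 := ded_23_1 L19567 L19299 L22147
theorem L22155 : sm gg N2271 = N2855 := rfl
theorem L22156 : sm gg N2855 = N2271 := flp_g L22155
theorem L22157 : sm ga N2855 = N2321 := ded_12_1 L19587 L19297 L22155
theorem L22158 : sm ga N2321 = N2855 := flp_a L22157
theorem L22161 : sm gd N2855 = N2318 := ded_24_1 L19573 L19299 L22155
theorem L22162 : sm gd N2318 = N2855 := flp_d L22161
theorem L22163 : sm gb N2272 = N2856 := rfl
theorem L22164 : sm gb N2856 = N2272 := flp_b L22163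
theorem L22165 : sm gd N2856 = N2274 := ded_14_2 L19309 L19303 L22163
theorem L22166 : sm gd N2274 = N2856 := flp_d L22165
theorem L22167 : sm gf N2856 = N2279 := ded_16_2 L19353 L7747 L7723 L19300 L22163
theorem L22168 : sm gf N2279 = N2856 := flp_f L22167
theorem L22169 : sm gg N2272 = N2857 := rfl
theorem L22170 : sm gg N2857 = N2272 := flp_g L22169
theorem L22171 : sm gd N2857 = N2275 := ded_24_1 L19317 L19303 L22169
theorem L22172 : sm gd N2275 = N2857 := flp_d L22171
theorem L22173 : sm gf N2850 = N2857 := ded_29_0 L22170 L19301 L19304 L22114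
theorem L22174 : sm gf N2857 = N2850 := flp_f L22173
theorem L22175 : sm gf N2273 = N2858 := rfl
theorem L22176 : sm gf N2858 = N2273 := flp_f L22175
theorem L22177 : sm ga N2858 = N2857 := ded_11_1 L22174 L22113 L22175
theorem L22178 : sm ga N2857 = N2858 := flp_a L22177
theorem L22179 : sm gd N2858 = N2276 := ded_23_1 L19325 L19307 L22175
theorem L22180 : sm gd N2276 = N2858 := flp_d L22179
theorem L22181 : sm gg N2858 = N2849 := ded_29_3 L22105 L19301 L19304 L22175
theorem L22182 : sm gg N2849 = N2858 := flp_g L22181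
theorem L22183 : sm ga N2274 = N2859 := rfl
theorem L22184 : sm ga N2859 = N2274 := flp_a L22183
theorem L22185 : sm gc N2859 = N2447 := ded_8_2 L20247 L19313 L22183
theorem L22186 : sm gc N2447 = N2859 := flp_c L22185
theorem L22187 : sm ge N2859 = N2634 := ded_10_2 L21192 L19311 L22183
theorem L22188 : sm ge N2634 = N2859 := flp_e L22187
theorem L22189 : sm gf N2859 = N2280 := ded_11_2 L19357 L19315 L22183
theorem L22190 : sm gf N2280 = N2859 := flp_f L22189
theorem L22191 : sm gg N2274 = N2860 := rfl
theorem L22192 : sm gg N2860 = N2274 := flp_g L22191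
theorem L22193 : sm gc N2860 = N2448 := ded_21_1 L20253 L19313 L22191
theorem L22194 : sm gc N2448 = N2860 := flp_c L22193
theorem L22195 : sm ge N2860 = N2635 := ded_26_1 L21199 L19311 L22191
theorem L22196 : sm ge N2635 = N2860 := flp_e L22195
theorem L22197 : sm gb N2275 = N2861 := rfl
theorem L22198 : sm gb N2861 = N2275 := flp_b L22197
theorem L22199 : sm ge N2861 = N2773 := ded_15_2 L21782 L19321 L22197
theorem L22200 : sm ge N2773 = N2861 := flp_e L22199
theorem L22201 : sm gb N2276 = N2862 := rfl
theorem L22202 : sm gb N2862 = N2276 := flp_b L22201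
theorem L22203 : sm ge N2862 = N2805 := ded_15_2 L21906 L19331 L22201
theorem L22204 : sm ge N2805 = N2862 := flp_e L22203
theorem L22205 : sm ga N2277 = N2863 := rfl
theorem L22206 : sm ga N2863 = N2277 := flp_a L22205
theorem L22207 : sm gd N2863 = N2341 := ded_9_2 L19679 L19337 L22205
theorem L22208 : sm gd N2341 = N2863 := flp_d L22207
theorem L22209 : sm ge N2863 = N2810 := ded_10_2 L21923 L19339 L22205
theorem L22210 : sm ge N2810 = N2863 := flp_e L22209
theorem L22211 : sm gf N2277 = N2864 := rfl
theorem L22212 : sm gf N2864 = N2277 := flp_f L22211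
theorem L22213 : sm gd N2864 = N2342 := ded_23_1 L19685 L19337 L22211
theorem L22214 : sm gd N2342 = N2864 := flp_d L22213
theorem L22215 : sm ge N2864 = N2814 := ded_25_1 L21960 L19339 L22211
theorem L22216 : sm ge N2814 = N2864 := flp_e L22215
theorem L22217 : sm gg N2277 = N2865 := rfl
theorem L22218 : sm gg N2865 = N2277 := flp_g L22217
theorem L22219 : sm gd N2865 = N2343 := ded_24_1 L19691 L19337 L22217
theorem L22220 : sm gd N2343 = N2865 := flp_d L22219
theorem L22221 : sm ge N2865 = N2815 := ded_26_1 L21964 L19339 L22217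
theorem L22222 : sm ge N2815 = N2865 := flp_e L22221
theorem L22223 : sm gb N2865 = N2350 := ded_17_1 L19735 L9261 L12405 L19334 L22217
theorem L22224 : sm gb N2350 = N2865 := flp_b L22223
theorem L22225 : sm gb N2278 = N2866 := rfl
theorem L22226 : sm gb N2866 = N2278 := flp_b L22225
theorem L22227 : sm gd N2866 = N2282 := ded_14_2 L19369 L19347 L22225
theorem L22228 : sm gd N2282 = N2866 := flp_d L22227
theorem L22229 : sm ge N2866 = N2819 := ded_15_2 L21994 L19349 L22225
theorem L22230 : sm ge N2819 = N2866 := flp_e L22229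
theorem L22231 : sm ga N2279 = N2867 := rfl
theorem L22232 : sm ga N2867 = N2279 := flp_a L22231
theorem L22233 : sm gd N2867 = N2280 := ded_9_2 L19357 L19355 L22231
theorem L22234 : sm gd N2280 = N2867 := flp_d L22233
theorem L22235 : sm gc N2279 = N2868 := rfl
theorem L22236 : sm gc N2868 = N2279 := flp_c L22235
theorem L22237 : sm gg N2279 = N2869 := rfl
theorem L22238 : sm gg N2869 = N2279 := flp_g L22237
theorem L22239 : sm gd N2869 = N2281 := ded_24_1 L19363 L19355 L22237
theorem L22240 : sm gd N2281 = N2869 := flp_d L22239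
theorem L22241 : sm gb N2280 = N2870 := rfl
theorem L22242 : sm gb N2870 = N2280 := flp_b L22241
theorem L22243 : sm ge N2870 = N2677 := ded_15_2 L21373 L19361 L22241
theorem L22244 : sm ge N2677 = N2870 := flp_e L22243
theorem L22245 : sm gg N2280 = N2871 := rfl
theorem L22246 : sm gg N2871 = N2280 := flp_g L22245
theorem L22247 : sm ga N2871 = N2281 := ded_12_1 L19363 L19356 L22245
theorem L22248 : sm ga N2281 = N2871 := flp_a L22247
theorem L22249 : sm gc N2871 = N2475 := ded_21_1 L20386 L19359 L22245
theorem L22250 : sm gc N2475 = N2871 := flp_c L22249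
theorem L22251 : sm ge N2871 = N2678 := ded_26_1 L21377 L19361 L22245
theorem L22252 : sm ge N2678 = N2871 := flp_e L22251
theorem L22253 : sm gf N2871 = N2860 := ded_29_2 L22192 L22183 L22189 L22245
theorem L22254 : sm gf N2860 = N2871 := flp_f L22253
theorem L22255 : sm gb N2281 = N2872 := rfl
theorem L22256 : sm gb N2872 = N2281 := flp_b L22255
theorem L22257 : sm ge N2872 = N2385 := ded_15_2 L19896 L19367 L22255
theorem L22258 : sm ge N2385 = N2872 := flp_e L22257
theorem L22259 : sm gg N2872 = N2282 := ded_17_2 L19369 L7761 L7754 L19362 L22255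
theorem L22260 : sm gg N2282 = N2872 := flp_g L22259
theorem L22261 : sm gf N2281 = N2873 := rfl
theorem L22262 : sm gf N2873 = N2281 := flp_f L22261
theorem L22263 : sm ga N2873 = N2860 := ded_11_1 L22254 L22247 L22261
theorem L22264 : sm ga N2860 = N2873 := flp_a L22263
theorem L22265 : sm gc N2873 = N2477 := ded_20_1 L20400 L19365 L22261
theorem L22266 : sm gc N2477 = N2873 := flp_c L22265
theorem L22267 : sm ge N2873 = N2680 := ded_25_1 L21389 L19367 L22261
theorem L22268 : sm ge N2680 = N2873 := flp_e L22267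
theorem L22269 : sm gg N2873 = N2859 := ded_29_3 L22184 L19314 L19362 L22261
theorem L22270 : sm gg N2859 = N2873 := flp_g L22269
theorem L22271 : sm ga N2282 = N2874 := rfl
theorem L22272 : sm ga N2874 = N2282 := flp_a L22271
theorem L22273 : sm ge N2874 = N2383 := ded_10_2 L19885 L19371 L22271
theorem L22274 : sm ge N2383 = N2874 := flp_e L22273
theorem L22275 : sm gc N2282 = N2875 := rfl
theorem L22276 : sm gc N2875 = N2282 := flp_c L22275
theorem L22277 : sm ge N2875 = N2384 := ded_19_2 L19889 L19371 L22275
theorem L22278 : sm ge N2384 = N2875 := flp_e L22277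
theorem L22279 : sm gb N2875 = N2283 := ded_13_1 L19373 L7785 L7763 L19368 L22275
theorem L22280 : sm gb N2283 = N2875 := flp_b L22279
theorem L22281 : sm gf N2282 = N2876 := rfl
theorem L22282 : sm gf N2876 = N2282 := flp_f L22281
theorem L22283 : sm ge N2876 = N2381 := ded_25_1 L19872 L19371 L22281
theorem L22284 : sm ge N2381 = N2876 := flp_e L22283
theorem L22285 : sm gb N2876 = N2342 := ded_16_1 L19685 L9178 L17756 L19368 L22281
theorem L22286 : sm gb N2342 = N2876 := flp_b L22285
theorem L22287 : sm gd N2283 = N2877 := rfl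
theorem L22288 : sm gd N2877 = N2283 := flp_d L22287
theorem L22289 : sm gf N2877 = N2424 := ded_23_2 L20129 L19377 L22287
theorem L22290 : sm gf N2424 = N2877 := flp_f L22289
theorem L22291 : sm gg N2877 = N2489 := ded_24_2 L20478 L19379 L22287
theorem L22292 : sm gg N2489 = N2877 := flp_g L22291
theorem L22293 : sm gc N2877 = N2424 := ded_28_6 L20129 L20125 L20123 L10174 L17246 L7787 L19372 L22287
theorem L22294 : sm gc N2424 = N2877 := flp_c L22293
theorem L22295 : sm gc N2284 = N2878 := rfl
theorem L22296 : sm gc N2878 = N2284 := flp_c L22295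
theorem L22297 : sm ga N2878 = N2285 := ded_8_1 L19389 L19380 L22295
theorem L22298 : sm ga N2285 = N2878 := flp_a L22297
theorem L22299 : sm ge N2878 = N2788 := ded_19_2 L21840 L19385 L22295
theorem L22300 : sm ge N2788 = N2878 := flp_e L22299
theorem L22301 : sm gb N2297 = N2878 := ded_7_0 L22297 L22094 L22136 L19565 L8868 L4400 L4213 L8622 L19470
theorem L22302 : sm gb N2878 = N2297 := flp_b L22301
theorem L22303 : sm gd N2878 = N2438 := ded_14_2 L21958 L20278 L22301
theorem L22304 : sm gd N2438 = N2878 := flp_d L22303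
theorem L22305 : sm gd N2611 = N2285 := ded_9_2 L22298 L22303 L21075
theorem L22306 : sm gd N2285 = N2611 := flp_d L22305
theorem L22307 : sm gd N2598 = N2788 := ded_22_5 L22300 L22303 L20197 L18717 L21014
theorem L22308 : sm gd N2788 = N2598 := flp_d L22307
theorem L22309 : N2614 = N2240 := coi_28_8 L21842 L21840 L19383 L22295 L22303 L20198 L10333 L18748 L21094
theorem L22310 : N2614 = N2240 := eqc rfl L22309 rfl
theorem L22311 : sm gd N2240 = N2149 := trf L22310 L21095 rfl
theorem L22312 : N2149 = N2792 := eqe L22311 L21855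
theorem L22313 : N2792 = N2149 := (eqc rfl L22312 rfl).symm
theorem L22314 : sm gd N2149 = N2240 := trf L22313 L21856 rfl
theorem L22315 : sm gd N2240 = N2149 := flp_d L22314
theorem L22316 : sm gd N2791 = N2533 := ded_14_2 L20738 L22314 L21851
theorem L22317 : sm gd N2533 = N2791 := flp_d L22316
theorem L22318 : sm gd N2793 = N2615 := ded_23_3 L21097 L22314 L21857
theorem L22319 : sm gd N2615 = N2793 := flp_d L22318
theorem L22320 : sm gd N2794 = N2616 := ded_24_3 L21103 L22314 L21861
theorem L22321 : sm gd N2616 = N2794 := flp_d L22320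
theorem L22322 : sm gf N2284 = N2879 := rfl
theorem L22323 : sm gf N2879 = N2284 := flp_f L22322
theorem L22324 : sm ga N2879 = N2286 := ded_11_1 L19393 L19380 L22322
theorem L22325 : sm ga N2286 = N2879 := flp_a L22324
theorem L22326 : sm gd N2879 = N2789 := ded_23_1 L21844 L19383 L22322
theorem L22327 : sm gd N2789 = N2879 := flp_d L22326
theorem L22328 : sm ge N2879 = N2789 := ded_25_1 L21844 L19385 L22322
theorem L22329 : sm ge N2789 = N2879 := flp_e L22328
theorem L22330 : sm gg N2284 = N2880 := rfl
theorem L22332 : sm ga N2880 = N2287 := ded_12_1 L19399 L19380 L22330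
theorem L22333 : sm ga N2287 = N2880 := flp_a L22332
theorem L22334 : sm gd N2880 = N2790 := ded_24_1 L21848 L19383 L22330
theorem L22335 : sm gd N2790 = N2880 := flp_d L22334
theorem L22336 : sm ge N2880 = N2790 := ded_26_1 L21848 L19385 L22330
theorem L22337 : sm ge N2790 = N2880 := flp_e L22336
theorem L22338 : sm gf N2285 = N2881 := rfl
theorem L22339 : sm gf N2881 = N2285 := flp_f L22338
theorem L22340 : sm gc N2881 = N2286 := ded_20_1 L19393 L19388 L22338
theorem L22341 : sm gc N2286 = N2881 := flp_c L22340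
theorem L22342 : sm ge N2881 = N2793 := ded_25_1 L21858 L19391 L22338
theorem L22343 : sm ge N2793 = N2881 := flp_e L22342
theorem L22344 : sm gg N2285 = N2882 := rfl
theorem L22345 : sm gg N2882 = N2285 := flp_g L22344
theorem L22346 : sm gc N2882 = N2287 := ded_21_1 L19399 L19388 L22344
theorem L22347 : sm gc N2287 = N2882 := flp_c L22346
theorem L22348 : sm ge N2882 = N2794 := ded_26_1 L21862 L19391 L22344
theorem L22349 : sm ge N2794 = N2882 := flp_e L22348
theorem L22350 : sm gb N2286 = N2883 := rfl
theorem L22351 : sm gb N2883 = N2286 := flp_b L22350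
theorem L22352 : sm gd N2883 = N2770 := ded_14_2 L21773 L19395 L22350
theorem L22353 : sm gd N2770 = N2883 := flp_d L22352
theorem L22354 : sm ge N2883 = N2770 := ded_15_2 L21773 L19397 L22350
theorem L22355 : sm ge N2770 = N2883 := flp_e L22354
theorem L22356 : sm gf N2883 = N2288 := ded_16_2 L19405 L7875 L7868 L19392 L22350
theorem L22357 : sm gf N2288 = N2883 := flp_f L22356
theorem L22358 : sm gg N2286 = N2884 := rfl
theorem L22359 : sm gg N2884 = N2286 := flp_g L22358
theorem L22364 : sm gf N2880 = N2884 := ded_29_0 L22359 L19393 L19398 L22333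
theorem L22365 : sm gf N2884 = N2880 := flp_f L22364
theorem L22366 : sm gb N2287 = N2885 := rfl
theorem L22367 : sm gb N2885 = N2287 := flp_b L22366
theorem L22368 : sm gd N2885 = N2796 := ded_14_2 L21870 L19401 L22366
theorem L22369 : sm gd N2796 = N2885 := flp_d L22368
theorem L22370 : sm ge N2885 = N2796 := ded_15_2 L21870 L19403 L22366
theorem L22371 : sm ge N2796 = N2885 := flp_e L22370
theorem L22372 : sm gg N2885 = N2289 := ded_17_2 L19411 L7883 L7868 L19398 L22366
theorem L22373 : sm gg N2289 = N2885 := flp_g L22372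
theorem L22374 : sm gf N2287 = N2886 := rfl
theorem L22375 : sm gf N2886 = N2287 := flp_f L22374
theorem L22376 : sm ga N2886 = N2884 := ded_11_1 L22365 L22332 L22374
theorem L22378 : sm gd N2886 = N2797 := ded_23_1 L21874 L19401 L22374
theorem L22379 : sm gd N2797 = N2886 := flp_d L22378
theorem L22382 : sm gg N2886 = N2879 := ded_29_3 L22324 L19393 L19398 L22374
theorem L22383 : sm gg N2879 = N2886 := flp_g L22382
theorem L22384 : sm ga N2288 = N2887 := rfl
theorem L22385 : sm ga N2887 = N2288 := flp_a L22384
theorem L22386 : sm gd N2887 = N2768 := ded_9_2 L21768 L19407 L22384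
theorem L22387 : sm gd N2768 = N2887 := flp_d L22386
theorem L22388 : sm ge N2887 = N2768 := ded_10_2 L21768 L19409 L22384
theorem L22389 : sm ge N2768 = N2887 := flp_e L22388
theorem L22390 : sm gc N2288 = N2888 := rfl
theorem L22391 : sm gc N2888 = N2288 := flp_c L22390
theorem L22392 : sm ge N2888 = N2769 := ded_19_2 L21770 L19409 L22390
theorem L22393 : sm ge N2769 = N2888 := flp_e L22392
theorem L22394 : sm gg N2288 = N2889 := rfl
theorem L22395 : sm gg N2889 = N2288 := flp_g L22394
theorem L22396 : sm gd N2889 = N2771 := ded_24_1 L21776 L19407 L22394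
theorem L22397 : sm gd N2771 = N2889 := flp_d L22396
theorem L22398 : sm ge N2889 = N2771 := ded_26_1 L21776 L19409 L22394
theorem L22406 : sm gc N2289 = N2891 := rfl
theorem L22407 : sm gc N2891 = N2289 := flp_c L22406
theorem L22408 : sm ge N2891 = N2803 := ded_19_2 L21900 L19415 L22406
theorem L22409 : sm ge N2803 = N2891 := flp_e L22408
theorem L22410 : sm gf N2289 = N2892 := rfl
theorem L22411 : sm gf N2892 = N2289 := flp_f L22410
theorem L22412 : sm gd N2892 = N2804 := ded_23_1 L21902 L19413 L22410
theorem L22413 : sm gd N2804 = N2892 := flp_d L22412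
theorem L22416 : sm ga N2290 = N2893 := rfl
theorem L22417 : sm ga N2893 = N2290 := flp_a L22416
theorem L22418 : sm gd N2893 = N2774 := ded_9_2 L21786 L19419 L22416
theorem L22419 : sm gd N2774 = N2893 := flp_d L22418
theorem L22420 : sm ge N2893 = N2774 := ded_10_2 L21786 L19421 L22416
theorem L22421 : sm ge N2774 = N2893 := flp_e L22420
theorem L22422 : sm gg N2893 = N2515 := ded_12_2 L20657 L19423 L22416
theorem L22423 : sm gg N2515 = N2893 := flp_g L22422
theorem L22424 : sm gc N2290 = N2894 := rfl
theorem L22425 : sm gc N2894 = N2290 := flp_c L22424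
theorem L22426 : sm ge N2894 = N2775 := ded_19_2 L21790 L19421 L22424
theorem L22427 : sm ge N2775 = N2894 := flp_e L22426
theorem L22428 : sm gg N2894 = N2516 := ded_21_2 L20663 L19423 L22424
theorem L22429 : sm gg N2516 = N2894 := flp_g L22428
theorem L22430 : sm gf N2290 = N2895 := rfl
theorem L22431 : sm gf N2895 = N2290 := flp_f L22430
theorem L22436 : sm gb N2895 = N2892 := ded_16_1 L22411 L19411 L7896 L19416 L22430
theorem L22437 : sm gb N2892 = N2895 := flp_b L22436
theorem L22438 : sm ga N2291 = N2896 := rfl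
theorem L22439 : sm ga N2896 = N2291 := flp_a L22438
theorem L22440 : sm gd N2896 = N2806 := ded_9_2 L21910 L19427 L22438
theorem L22441 : sm gd N2806 = N2896 := flp_d L22440
theorem L22442 : sm ge N2896 = N2806 := ded_10_2 L21910 L19429 L22438
theorem L22443 : sm ge N2806 = N2896 := flp_e L22442
theorem L22444 : sm gf N2896 = N2806 := ded_11_2 L21910 L19431 L22438
theorem L22445 : sm gf N2806 = N2896 := flp_f L22444
theorem L22446 : sm gc N2291 = N2897 := rfl
theorem L22447 : sm gc N2897 = N2291 := flp_c L22446
theorem L22448 : sm ge N2897 = N2807 := ded_19_2 L21912 L19429 L22446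
theorem L22449 : sm ge N2807 = N2897 := flp_e L22448
theorem L22450 : sm gf N2897 = N2807 := ded_20_2 L21912 L19431 L22446
theorem L22451 : sm gf N2807 = N2897 := flp_f L22450
theorem L22452 : sm gg N2291 = N2898 := rfl
theorem L22453 : sm gg N2898 = N2291 := flp_g L22452
theorem L22454 : sm gd N2898 = N2808 := ded_24_1 L21914 L19427 L22452
theorem L22455 : sm gd N2808 = N2898 := flp_d L22454
theorem L22456 : sm ge N2898 = N2808 := ded_26_1 L21914 L19429 L22452
theorem L22457 : sm ge N2808 = N2898 := flp_e L22456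
theorem L22458 : sm gb N2898 = N2889 := ded_17_1 L22395 L19405 L7907 L19424 L22452
theorem L22459 : sm gb N2889 = N2898 := flp_b L22458
theorem L22460 : sm ga N2292 = N2899 := rfl
theorem L22461 : sm ga N2899 = N2292 := flp_a L22460
theorem L22462 : sm gc N2899 = N2297 := ded_8_2 L19471 L19437 L22460
theorem L22463 : sm gc N2297 = N2899 := flp_c L22462
theorem L22464 : sm ge N2899 = N2297 := ded_10_2 L19471 L19435 L22460
theorem L22465 : sm ge N2297 = N2899 := flp_e L22464
theorem L22466 : sm gb N2788 = N2899 := ded_13_5 L22462 L22301 L22296 L19386 L21839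
theorem L22467 : sm gb N2899 = N2788 := flp_b L22466
theorem L22468 : sm gd N2292 = N2900 := rfl
theorem L22469 : sm gd N2900 = N2292 := flp_d L22468
theorem L22470 : sm gb N2900 = N2293 := ded_14_1 L19439 L19432 L22468
theorem L22471 : sm gb N2293 = N2900 := flp_b L22470
theorem L22472 : sm gf N2292 = N2901 := rfl
theorem L22473 : sm gf N2901 = N2292 := flp_f L22472
theorem L22474 : sm gc N2901 = N2298 := ded_20_1 L19473 L19437 L22472
theorem L22475 : sm gc N2298 = N2901 := flp_c L22474
theorem L22476 : sm ge N2901 = N2298 := ded_25_1 L19473 L19435 L22472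
theorem L22477 : sm ge N2298 = N2901 := flp_e L22476
theorem L22478 : sm gg N2292 = N2902 := rfl
theorem L22479 : sm gg N2902 = N2292 := flp_g L22478
theorem L22484 : sm gf N2293 = N2903 := rfl
theorem L22485 : sm gf N2903 = N2293 := flp_f L22484
theorem L22486 : sm ga N2903 = N2309 := ded_11_1 L19519 L19441 L22484
theorem L22487 : sm ga N2309 = N2903 := flp_a L22486
theorem L22488 : sm gc N2903 = N2903 := ded_20_1 L22485 L19442 L22484
theorem L22489 : sm gd N2903 = N2294 := ded_23_1 L19444 L19438 L22484
theorem L22490 : sm gd N2294 = N2903 := flp_d L22489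
theorem L22491 : sm gg N2293 = N2904 := rfl
theorem L22492 : sm gg N2904 = N2293 := flp_g L22491
theorem L22493 : sm ga N2904 = N2310 := ded_12_1 L19524 L19441 L22491
theorem L22494 : sm ga N2310 = N2904 := flp_a L22493
theorem L22495 : sm gc N2904 = N2904 := ded_21_1 L22492 L19442 L22491
theorem L22496 : sm gd N2904 = N2295 := ded_24_1 L19452 L19438 L22491
theorem L22497 : sm gd N2295 = N2904 := flp_d L22496
theorem L22498 : sm gb N2294 = N2905 := rfl
theorem L22499 : sm gb N2905 = N2294 := flp_b L22498
theorem L22500 : sm ge N2905 = N2300 := ded_15_2 L19477 L19450 L22498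
theorem L22501 : sm ge N2300 = N2905 := flp_e L22500
theorem L22502 : sm gc N2905 = N2841 := ded_13_2 L22072 L19259 L18505 L19448 L22498
theorem L22503 : sm gc N2841 = N2905 := flp_c L22502
theorem L22504 : sm gb N2295 = N2906 := rfl
theorem L22505 : sm gb N2906 = N2295 := flp_b L22504
theorem L22506 : sm ge N2906 = N2301 := ded_15_2 L19479 L19458 L22504
theorem L22507 : sm ge N2301 = N2906 := flp_e L22506
theorem L22508 : sm gc N2296 = N2907 := rfl
theorem L22509 : sm gc N2907 = N2296 := flp_c L22508
theorem L22517 : sm gf N2297 = N2908 := rfl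
theorem L22518 : sm gf N2908 = N2297 := flp_f L22517
theorem L22519 : sm ga N2908 = N2298 := ded_11_1 L19473 L19470 L22517
theorem L22520 : sm ga N2298 = N2908 := flp_a L22519
theorem L22521 : sm gg N2297 = N2909 := rfl
theorem L22522 : sm gg N2909 = N2297 := flp_g L22521
theorem L22523 : sm ga N2909 = N2299 := ded_12_1 L19475 L19470 L22521
theorem L22524 : sm ga N2299 = N2909 := flp_a L22523
theorem L22525 : sm gb N2298 = N2910 := rfl
theorem L22526 : sm gb N2910 = N2298 := flp_b L22525
theorem L22527 : sm gf N2910 = N2300 := ded_16_2 L19477 L8625 L8622 L19472 L22525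
theorem L22528 : sm gf N2300 = N2910 := flp_f L22527
theorem L22529 : sm gg N2298 = N2911 := rfl
theorem L22530 : sm gg N2911 = N2298 := flp_g L22529
theorem L22531 : sm gf N2909 = N2911 := ded_29_0 L22530 L19473 L19474 L22524
theorem L22532 : sm gf N2911 = N2909 := flp_f L22531
theorem L22533 : sm gb N2299 = N2912 := rfl
theorem L22534 : sm gb N2912 = N2299 := flp_b L22533
theorem L22535 : sm gg N2912 = N2301 := ded_17_2 L19479 L8631 L8622 L19474 L22533
theorem L22536 : sm gg N2301 = N2912 := flp_g L22535
theorem L22537 : sm gf N2299 = N2913 := rfl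
theorem L22538 : sm gf N2913 = N2299 := flp_f L22537
theorem L22539 : sm ga N2913 = N2911 := ded_11_1 L22532 L22523 L22537
theorem L22540 : sm ga N2911 = N2913 := flp_a L22539
theorem L22541 : sm gg N2913 = N2908 := ded_29_3 L22519 L19473 L19474 L22537
theorem L22543 : sm ga N2300 = N2914 := rfl
theorem L22544 : sm ga N2914 = N2300 := flp_a L22543
theorem L22545 : sm gc N2300 = N2915 := rfl
theorem L22546 : sm gc N2915 = N2300 := flp_c L22545
theorem L22547 : sm ge N2915 = N2841 := ded_19_2 L22503 L22500 L22545
theorem L22548 : sm ge N2841 = N2915 := flp_e L22547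
theorem L22549 : sm gb N2915 = N2302 := ded_13_1 L19481 L8637 L8629 L19476 L22545
theorem L22550 : sm gb N2302 = N2915 := flp_b L22549
theorem L22551 : sm gg N2300 = N2916 := rfl
theorem L22552 : sm gg N2916 = N2300 := flp_g L22551
theorem L22553 : sm ga N2301 = N2917 := rfl
theorem L22554 : sm ga N2917 = N2301 := flp_a L22553
theorem L22555 : sm gc N2301 = N2918 := rfl
theorem L22556 : sm gc N2918 = N2301 := flp_c L22555
theorem L22557 : sm gb N2918 = N2303 := ded_13_1 L19489 L8641 L8635 L19478 L22555
theorem L22559 : sm gf N2301 = N2919 := rfl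
theorem L22560 : sm gf N2919 = N2301 := flp_f L22559
theorem L22561 : sm gd N2302 = N2920 := rfl
theorem L22562 : sm gd N2920 = N2302 := flp_d L22561
theorem L22563 : sm ga N2920 = N2823 := ded_9_1 L22014 L19483 L22561
theorem L22564 : sm ga N2823 = N2920 := flp_a L22563
theorem L22567 : sm gc N2920 = N2340 := ded_28_6 L19675 L19671 L19669 L8913 L11574 L8639 L19480 L22561
theorem L22572 : sm gb N2304 = N2922 := rfl
theorem L22573 : sm gb N2922 = N2304 := flp_b L22572
theorem L22574 : sm ge N2922 = N2316 := ded_15_2 L19565 L19496 L22572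
theorem L22575 : sm ge N2316 = N2922 := flp_e L22574
theorem L22576 : sm gc N2922 = N2798 := ded_13_2 L21883 L22146 L19699 L19494 L22572
theorem L22577 : sm gc N2798 = N2922 := flp_c L22576
theorem L22578 : sm ga N2922 = N2791 := ded_7_1 L21852 L21842 L22466 L22461 L19433 L16871 L8718 L19491 L22572
theorem L22579 : sm ga N2791 = N2922 := flp_a L22578
theorem L22580 : sm gd N2304 = N2923 := rfl
theorem L22581 : sm gd N2923 = N2304 := flp_d L22580
theorem L22582 : sm ga N2923 = N2305 := ded_9_1 L19498 L19491 L22580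
theorem L22583 : sm ga N2305 = N2923 := flp_a L22582
theorem L22584 : sm gf N2304 = N2924 := rfl
theorem L22585 : sm gf N2924 = N2304 := flp_f L22584
theorem L22586 : sm ga N2924 = N2306 := ded_11_1 L19502 L19491 L22584
theorem L22587 : sm ga N2306 = N2924 := flp_a L22586
theorem L22588 : sm gc N2924 = N2346 := ded_20_1 L19711 L19494 L22584
theorem L22589 : sm gc N2346 = N2924 := flp_c L22588
theorem L22590 : sm ge N2924 = N2317 := ded_25_1 L19567 L19496 L22584
theorem L22591 : sm ge N2317 = N2924 := flp_e L22590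
theorem L22592 : sm gg N2304 = N2925 := rfl
theorem L22593 : sm gg N2925 = N2304 := flp_g L22592
theorem L22594 : sm ga N2925 = N2307 := ded_12_1 L19508 L19491 L22592
theorem L22595 : sm ga N2307 = N2925 := flp_a L22594
theorem L22596 : sm gc N2925 = N2347 := ded_21_1 L19717 L19494 L22592
theorem L22597 : sm gc N2347 = N2925 := flp_c L22596
theorem L22598 : sm ge N2925 = N2318 := ded_26_1 L19573 L19496 L22592
theorem L22599 : sm ge N2318 = N2925 := flp_e L22598
theorem L22600 : sm gc N2305 = N2926 := rfl
theorem L22601 : sm gc N2926 = N2305 := flp_c L22600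
theorem L22602 : sm gb N2926 = N2926 := ded_13_1 L22601 L19499 L8726 L19500 L22600
theorem L22603 : sm ge N2305 = N2927 := rfl
theorem L22604 : sm ge N2927 = N2305 := flp_e L22603
theorem L22605 : sm gb N2927 = N2308 := ded_15_1 L19514 L19500 L22603
theorem L22606 : sm gb N2308 = N2927 := flp_b L22605
theorem L22607 : sm gd N2927 = N2319 := ded_22_1 L19579 L8872 L8721 L19497 L22603
theorem L22608 : sm gd N2319 = N2927 := flp_d L22607
theorem L22609 : sm gf N2305 = N2928 := rfl
theorem L22610 : sm gf N2928 = N2305 := flp_f L22609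
theorem L22611 : sm gd N2928 = N2306 := ded_23_1 L19502 L19497 L22609
theorem L22612 : sm gd N2306 = N2928 := flp_d L22611
theorem L22613 : sm gg N2305 = N2929 := rfl
theorem L22614 : sm gg N2929 = N2305 := flp_g L22613
theorem L22615 : sm gd N2929 = N2307 := ded_24_1 L19508 L19497 L22613
theorem L22616 : sm gd N2307 = N2929 := flp_d L22615
theorem L22617 : sm gb N2306 = N2930 := rfl
theorem L22618 : sm gb N2930 = N2306 := flp_b L22617
theorem L22619 : sm ge N2930 = N2322 := ded_15_2 L19591 L19506 L22617
theorem L22620 : sm ge N2322 = N2930 := flp_e L22619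
theorem L22621 : sm gf N2930 = N2311 := ded_16_2 L19529 L8728 L8718 L19501 L22617
theorem L22622 : sm gf N2311 = N2930 := flp_f L22621
theorem L22623 : sm gg N2306 = N2931 := rfl
theorem L22624 : sm gg N2931 = N2306 := flp_g L22623
theorem L22627 : sm ge N2931 = N2323 := ded_26_1 L19595 L19506 L22623
theorem L22629 : sm gf N2925 = N2931 := ded_29_0 L22624 L19502 L19507 L22595
theorem L22630 : sm gf N2931 = N2925 := flp_f L22629
theorem L22631 : sm gb N2307 = N2932 := rfl
theorem L22632 : sm gb N2932 = N2307 := flp_b L22631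
theorem L22633 : sm ge N2932 = N2324 := ded_15_2 L19601 L19512 L22631
theorem L22634 : sm ge N2324 = N2932 := flp_e L22633
theorem L22635 : sm gc N2932 = N2412 := ded_13_2 L20059 L19693 L19696 L19510 L22631
theorem L22636 : sm gc N2412 = N2932 := flp_c L22635
theorem L22637 : sm gg N2932 = N2313 := ded_17_2 L19541 L8734 L8718 L19507 L22631
theorem L22638 : sm gg N2313 = N2932 := flp_g L22637
theorem L22639 : sm gf N2307 = N2933 := rfl
theorem L22640 : sm gf N2933 = N2307 := flp_f L22639
theorem L22641 : sm ga N2933 = N2931 := ded_11_1 L22630 L22594 L22639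
theorem L22642 : sm ga N2931 = N2933 := flp_a L22641
theorem L22643 : sm gc N2933 = N2353 := ded_20_1 L19753 L19510 L22639
theorem L22644 : sm gc N2353 = N2933 := flp_c L22643
theorem L22645 : sm ge N2933 = N2325 := ded_25_1 L19607 L19512 L22639
theorem L22646 : sm ge N2325 = N2933 := flp_e L22645
theorem L22647 : sm gg N2933 = N2924 := ded_29_3 L22586 L19502 L19507 L22639
theorem L22648 : sm gg N2924 = N2933 := flp_g L22647
theorem L22649 : sm gf N2308 = N2934 := rfl
theorem L22650 : sm gf N2934 = N2308 := flp_f L22649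
theorem L22651 : sm gc N2934 = N2934 := ded_20_1 L22650 L19515 L22649
theorem L22652 : sm gd N2934 = N2326 := ded_23_1 L19615 L19517 L22649
theorem L22653 : sm gd N2326 = N2934 := flp_d L22652
theorem L22654 : sm ge N2934 = N2309 := ded_25_1 L19519 L19513 L22649
theorem L22655 : sm ge N2309 = N2934 := flp_e L22654
theorem L22656 : sm gg N2308 = N2935 := rfl
theorem L22657 : sm gg N2935 = N2308 := flp_g L22656
theorem L22658 : sm gc N2935 = N2935 := ded_21_1 L22657 L19515 L22656
theorem L22659 : sm gd N2935 = N2327 := ded_24_1 L19619 L19517 L22656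
theorem L22660 : sm gd N2327 = N2935 := flp_d L22659
theorem L22661 : sm ge N2935 = N2310 := ded_26_1 L19524 L19513 L22656
theorem L22662 : sm ge N2310 = N2935 := flp_e L22661
theorem L22663 : sm gb N2309 = N2936 := rfl
theorem L22664 : sm gb N2936 = N2309 := flp_b L22663
theorem L22665 : sm gd N2936 = N2311 := ded_14_2 L19529 L19522 L22663
theorem L22666 : sm gd N2311 = N2936 := flp_d L22665
theorem L22667 : sm gg N2309 = N2937 := rfl
theorem L22668 : sm gg N2937 = N2309 := flp_g L22667
theorem L22669 : sm gc N2937 = N2937 := ded_21_1 L22668 L19520 L22667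
theorem L22670 : sm gd N2937 = N2312 := ded_24_1 L19533 L19522 L22667
theorem L22671 : sm gd N2312 = N2937 := flp_d L22670
theorem L22672 : sm gf N2904 = N2937 := ded_29_0 L22668 L19519 L19523 L22494
theorem L22673 : sm gf N2937 = N2904 := flp_f L22672
theorem L22674 : sm gb N2310 = N2938 := rfl
theorem L22675 : sm gb N2938 = N2310 := flp_b L22674
theorem L22676 : sm gd N2938 = N2313 := ded_14_2 L19541 L19527 L22674
theorem L22677 : sm gd N2313 = N2938 := flp_d L22676
theorem L22678 : sm gf N2310 = N2939 := rfl
theorem L22679 : sm gf N2939 = N2310 := flp_f L22678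
theorem L22680 : sm ga N2939 = N2937 := ded_11_1 L22673 L22493 L22678
theorem L22681 : sm ga N2937 = N2939 := flp_a L22680
theorem L22682 : sm gc N2939 = N2939 := ded_20_1 L22679 L19525 L22678
theorem L22683 : sm gd N2939 = N2314 := ded_23_1 L19547 L19527 L22678
theorem L22684 : sm gd N2314 = N2939 := flp_d L22683
theorem L22685 : sm gg N2939 = N2903 := ded_29_3 L22486 L19519 L19523 L22678
theorem L22686 : sm gg N2903 = N2939 := flp_g L22685
theorem L22687 : sm ga N2311 = N2940 := rfl
theorem L22688 : sm ga N2940 = N2311 := flp_a L22687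
theorem L22689 : sm ge N2940 = N2332 := ded_10_2 L19649 L19531 L22687
theorem L22690 : sm ge N2332 = N2940 := flp_e L22689
theorem L22691 : sm gc N2311 = N2941 := rfl
theorem L22692 : sm gc N2941 = N2311 := flp_c L22691
theorem L22693 : sm ge N2941 = N2333 := ded_19_2 L19651 L19531 L22691
theorem L22694 : sm ge N2333 = N2941 := flp_e L22693
theorem L22695 : sm gb N2941 = N2315 := ded_13_1 L19557 L8740 L8730 L19528 L22691
theorem L22696 : sm gb N2315 = N2941 := flp_b L22695
theorem L22697 : sm gg N2311 = N2942 := rfl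
theorem L22698 : sm gg N2942 = N2311 := flp_g L22697
theorem L22699 : sm ge N2942 = N2334 := ded_26_1 L19655 L19531 L22697
theorem L22700 : sm ge N2334 = N2942 := flp_e L22699
theorem L22701 : sm gb N2312 = N2943 := rfl
theorem L22702 : sm gb N2943 = N2312 := flp_b L22701
theorem L22703 : sm ge N2943 = N2335 := ded_15_2 L19657 L19537 L22701
theorem L22704 : sm ge N2335 = N2943 := flp_e L22703
theorem L22705 : sm gc N2943 = N2335 := ded_13_2 L19657 L8897 L16858 L19535 L22701
theorem L22706 : sm gc N2335 = N2943 := flp_c L22705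
theorem L22707 : sm ga N2313 = N2944 := rfl
theorem L22708 : sm ga N2944 = N2313 := flp_a L22707
theorem L22709 : sm gc N2944 = N2421 := ded_8_2 L20115 L19545 L22707
theorem L22710 : sm gc N2421 = N2944 := flp_c L22709
theorem L22711 : sm ge N2944 = N2336 := ded_10_2 L19659 L19543 L22707
theorem L22712 : sm ge N2336 = N2944 := flp_e L22711
theorem L22713 : sm gf N2313 = N2945 := rfl
theorem L22714 : sm gf N2945 = N2313 := flp_f L22713
theorem L22715 : sm gc N2945 = N2422 := ded_20_1 L20119 L19545 L22713
theorem L22716 : sm gc N2422 = N2945 := flp_c L22715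
theorem L22717 : sm ge N2945 = N2337 := ded_25_1 L19663 L19543 L22713
theorem L22718 : sm ge N2337 = N2945 := flp_e L22717
theorem L22719 : sm gb N2314 = N2946 := rfl
theorem L22720 : sm gb N2946 = N2314 := flp_b L22719
theorem L22721 : sm ge N2946 = N2338 := ded_15_2 L19667 L19553 L22719
theorem L22722 : sm ge N2338 = N2946 := flp_e L22721
theorem L22723 : sm gd N2315 = N2947 := rfl
theorem L22724 : sm gd N2947 = N2315 := flp_d L22723
theorem L22725 : sm gf N2947 = N2358 := ded_23_2 L19781 L19561 L22723
theorem L22726 : sm gf N2358 = N2947 := flp_f L22725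
theorem L22727 : sm gg N2947 = N2340 := ded_24_2 L19675 L19563 L22723
theorem L22728 : sm gg N2340 = N2947 := flp_g L22727
theorem L22729 : sm gf N2316 = N2948 := rfl
theorem L22730 : sm gf N2948 = N2316 := flp_f L22729
theorem L22731 : sm gg N2316 = N2949 := rfl
theorem L22732 : sm gg N2949 = N2316 := flp_g L22731
theorem L22733 : sm gb N2317 = N2950 := rfl
theorem L22734 : sm gb N2950 = N2317 := flp_b L22733
theorem L22735 : sm gb N2318 = N2951 := rfl
theorem L22736 : sm gb N2951 = N2318 := flp_b L22735
theorem L22737 : sm gf N2319 = N2952 := rfl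
theorem L22738 : sm gf N2952 = N2319 := flp_f L22737
theorem L22739 : sm ge N2952 = N2320 := ded_25_1 L19583 L19578 L22737
theorem L22740 : sm ge N2320 = N2952 := flp_e L22739
theorem L22741 : sm gg N2319 = N2953 := rfl
theorem L22742 : sm gg N2953 = N2319 := flp_g L22741
theorem L22743 : sm ge N2953 = N2321 := ded_26_1 L19587 L19578 L22741
theorem L22744 : sm ge N2321 = N2953 := flp_e L22743
theorem L22745 : sm gb N2320 = N2954 := rfl
theorem L22746 : sm gb N2954 = N2320 := flp_b L22745
theorem L22747 : sm gd N2954 = N2322 := ded_14_2 L19591 L19585 L22745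
theorem L22748 : sm gd N2322 = N2954 := flp_d L22747
theorem L22749 : sm gf N2954 = N2328 := ded_16_2 L19623 L8886 L8874 L19582 L22745
theorem L22750 : sm gf N2328 = N2954 := flp_f L22749
theorem L22751 : sm gg N2320 = N2955 := rfl
theorem L22752 : sm gg N2955 = N2320 := flp_g L22751
theorem L22753 : sm gc N2955 = N2858 := ded_21_1 L22181 L22107 L22751
theorem L22754 : sm gc N2858 = N2955 := flp_c L22753
theorem L22755 : sm gd N2955 = N2323 := ded_24_1 L19595 L19585 L22751
theorem L22756 : sm gd N2323 = N2955 := flp_d L22755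
theorem L22759 : sm gb N2321 = N2956 := rfl
theorem L22760 : sm gb N2956 = N2321 := flp_b L22759
theorem L22761 : sm gd N2956 = N2324 := ded_14_2 L19601 L19589 L22759
theorem L22762 : sm gd N2324 = N2956 := flp_d L22761
theorem L22763 : sm gg N2956 = N2330 := ded_17_2 L19635 L8890 L8874 L19586 L22759
theorem L22764 : sm gg N2330 = N2956 := flp_g L22763
theorem L22765 : sm gf N2321 = N2957 := rfl
theorem L22766 : sm gf N2957 = N2321 := flp_f L22765
theorem L22771 : sm gd N2957 = N2325 := ded_23_1 L19607 L19589 L22765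
theorem L22772 : sm gd N2325 = N2957 := flp_d L22771
theorem L22773 : sm gg N2957 = N2854 := ded_29_3 L22149 L19583 L19586 L22765
theorem L22774 : sm gg N2854 = N2957 := flp_g L22773
theorem L22775 : sm ga N2322 = N2958 := rfl
theorem L22776 : sm ga N2958 = N2322 := flp_a L22775
theorem L22777 : sm gf N2958 = N2332 := ded_11_2 L19649 L19593 L22775
theorem L22778 : sm gf N2332 = N2958 := flp_f L22777
theorem L22779 : sm gc N2322 = N2959 := rfl
theorem L22780 : sm gc N2959 = N2322 := flp_c L22779
theorem L22781 : sm gf N2959 = N2333 := ded_20_2 L19651 L19593 L22779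
theorem L22782 : sm gf N2333 = N2959 := flp_f L22781
theorem L22783 : sm gb N2959 = N2367 := ded_13_1 L19805 L9400 L8878 L19590 L22779
theorem L22784 : sm gb N2367 = N2959 := flp_b L22783
theorem L22785 : sm gg N2322 = N2960 := rfl
theorem L22786 : sm gg N2960 = N2322 := flp_g L22785
theorem L22787 : sm gb N2323 = N2961 := rfl
theorem L22788 : sm gb N2961 = N2323 := flp_b L22787
theorem L22789 : sm ga N2324 = N2962 := rfl
theorem L22790 : sm ga N2962 = N2324 := flp_a L22789
theorem L22791 : sm gc N2962 = N2546 := ded_8_2 L20797 L19603 L22789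
theorem L22792 : sm gc N2546 = N2962 := flp_c L22791
theorem L22793 : sm gg N2962 = N2336 := ded_12_2 L19659 L19605 L22789
theorem L22794 : sm gg N2336 = N2962 := flp_g L22793
theorem L22795 : sm gf N2324 = N2963 := rfl
theorem L22796 : sm gf N2963 = N2324 := flp_f L22795
theorem L22797 : sm gc N2963 = N2547 := ded_20_1 L20801 L19603 L22795
theorem L22798 : sm gc N2547 = N2963 := flp_c L22797
theorem L22799 : sm gb N2325 = N2964 := rfl
theorem L22800 : sm gb N2964 = N2325 := flp_b L22799
theorem L22801 : sm gb N2326 = N2965 := rfl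
theorem L22802 : sm gb N2965 = N2326 := flp_b L22801
theorem L22803 : sm ge N2965 = N2328 := ded_15_2 L19623 L19617 L22801
theorem L22804 : sm ge N2328 = N2965 := flp_e L22803
theorem L22805 : sm gg N2326 = N2966 := rfl
theorem L22806 : sm gg N2966 = N2326 := flp_g L22805
theorem L22807 : sm gc N2966 = N2465 := ded_21_1 L20351 L20076 L22805
theorem L22808 : sm gc N2465 = N2966 := flp_c L22807
theorem L22809 : sm ge N2966 = N2329 := ded_26_1 L19627 L19617 L22805
theorem L22810 : sm ge N2329 = N2966 := flp_e L22809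
theorem L22811 : sm gf N2459 = N2966 := ded_29_0 L22806 L19615 L19618 L20310
theorem L22812 : sm gf N2966 = N2459 := flp_f L22811
theorem L22813 : sm gb N2327 = N2967 := rfl
theorem L22814 : sm gb N2967 = N2327 := flp_b L22813
theorem L22815 : sm ge N2967 = N2330 := ded_15_2 L19635 L19621 L22813
theorem L22816 : sm ge N2330 = N2967 := flp_e L22815
theorem L22817 : sm gf N2327 = N2968 := rfl
theorem L22818 : sm gf N2968 = N2327 := flp_f L22817
theorem L22821 : sm gc N2968 = N2463 := ded_20_1 L20336 L20086 L22817
theorem L22822 : sm gc N2463 = N2968 := flp_c L22821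
theorem L22823 : sm ge N2968 = N2331 := ded_25_1 L19639 L19621 L22817
theorem L22824 : sm ge N2331 = N2968 := flp_e L22823
theorem L22825 : sm gg N2968 = N2458 := ded_29_3 L20301 L19615 L19618 L22817
theorem L22826 : sm gg N2458 = N2968 := flp_g L22825
theorem L22827 : sm ga N2328 = N2969 := rfl
theorem L22828 : sm ga N2969 = N2328 := flp_a L22827
theorem L22829 : sm gd N2969 = N2332 := ded_9_2 L19649 L19625 L22827
theorem L22830 : sm gd N2332 = N2969 := flp_d L22829
theorem L22831 : sm gc N2328 = N2970 := rfl
theorem L22832 : sm gc N2970 = N2328 := flp_c L22831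
theorem L22833 : sm gg N2328 = N2971 := rfl
theorem L22834 : sm gg N2971 = N2328 := flp_g L22833
theorem L22835 : sm gd N2971 = N2334 := ded_24_1 L19655 L19625 L22833
theorem L22836 : sm gd N2334 = N2971 := flp_d L22835
theorem L22837 : sm gb N2329 = N2972 := rfl
theorem L22838 : sm gb N2972 = N2329 := flp_b L22837
theorem L22839 : sm gd N2972 = N2335 := ded_14_2 L19657 L19631 L22837
theorem L22840 : sm gd N2335 = N2972 := flp_d L22839
theorem L22841 : sm ga N2330 = N2973 := rfl
theorem L22842 : sm ga N2973 = N2330 := flp_a L22841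
theorem L22843 : sm gd N2973 = N2336 := ded_9_2 L19659 L19637 L22841
theorem L22844 : sm gd N2336 = N2973 := flp_d L22843
theorem L22845 : sm gc N2330 = N2974 := rfl
theorem L22846 : sm gc N2974 = N2330 := flp_c L22845
theorem L22847 : sm gf N2330 = N2975 := rfl
theorem L22848 : sm gf N2975 = N2330 := flp_f L22847
theorem L22849 : sm gd N2975 = N2337 := ded_23_1 L19663 L19637 L22847
theorem L22850 : sm gd N2337 = N2975 := flp_d L22849
theorem L22851 : sm gb N2331 = N2976 := rfl
theorem L22852 : sm gb N2976 = N2331 := flp_b L22851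
theorem L22853 : sm gd N2976 = N2338 := ded_14_2 L19667 L19645 L22851
theorem L22854 : sm gd N2338 = N2976 := flp_d L22853
theorem L22855 : sm gb N2332 = N2977 := rfl
theorem L22856 : sm gb N2977 = N2332 := flp_b L22855
theorem L22857 : sm gc N2332 = N2978 := rfl
theorem L22858 : sm gc N2978 = N2332 := flp_c L22857
theorem L22859 : sm ga N2978 = N2333 := ded_8_1 L19651 L19648 L22857
theorem L22860 : sm ga N2333 = N2978 := flp_a L22859
theorem L22861 : sm gg N2332 = N2979 := rfl
theorem L22862 : sm gg N2979 = N2332 := flp_g L22861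
theorem L22863 : sm ga N2979 = N2334 := ded_12_1 L19655 L19648 L22861
theorem L22864 : sm ga N2334 = N2979 := flp_a L22863
theorem L22865 : sm gf N2979 = N2960 := ded_29_2 L22786 L22775 L22777 L22861
theorem L22866 : sm gf N2960 = N2979 := flp_f L22865
theorem L22867 : sm gd N2333 = N2980 := rfl
theorem L22868 : sm gd N2980 = N2333 := flp_d L22867
theorem L22869 : sm gb N2980 = N2340 := ded_14_1 L19675 L19653 L22867
theorem L22870 : sm gb N2340 = N2980 := flp_b L22869
theorem L22871 : sm gg N2333 = N2981 := rfl
theorem L22872 : sm gg N2981 = N2333 := flp_g L22871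
theorem L22873 : sm gc N2981 = N2334 := ded_21_1 L19655 L19650 L22871
theorem L22874 : sm gc N2334 = N2981 := flp_c L22873
theorem L22875 : sm gb N2334 = N2982 := rfl
theorem L22876 : sm gb N2982 = N2334 := flp_b L22875
theorem L22877 : sm gg N2982 = N2335 := ded_17_2 L19657 L8896 L8893 L19654 L22875
theorem L22878 : sm gg N2335 = N2982 := flp_g L22877
theorem L22879 : sm gf N2334 = N2983 := rfl
theorem L22880 : sm gf N2983 = N2334 := flp_f L22879
theorem L22881 : sm ga N2983 = N2960 := ded_11_1 L22866 L22863 L22879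
theorem L22882 : sm ga N2960 = N2983 := flp_a L22881
theorem L22883 : sm gg N2983 = N2958 := ded_29_3 L22776 L19592 L19654 L22879
theorem L22884 : sm gg N2958 = N2983 := flp_g L22883
theorem L22885 : sm ga N2335 = N2984 := rfl
theorem L22886 : sm ga N2984 = N2335 := flp_a L22885
theorem L22887 : sm gf N2335 = N2985 := rfl
theorem L22888 : sm gf N2985 = N2335 := flp_f L22887
theorem L22889 : sm gb N2985 = N2919 := ded_16_1 L22560 L19479 L8899 L19656 L22887
theorem L22890 : sm gb N2919 = N2985 := flp_b L22889
theorem L22891 : sm gb N2336 = N2986 := rfl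
theorem L22892 : sm gb N2986 = N2336 := flp_b L22891
theorem L22893 : sm gf N2336 = N2987 := rfl
theorem L22894 : sm gf N2987 = N2336 := flp_f L22893
theorem L22895 : sm ga N2987 = N2337 := ded_11_1 L19663 L19658 L22893
theorem L22897 : sm gc N2987 = N2564 := ded_20_1 L20865 L19661 L22893
theorem L22898 : sm gc N2564 = N2987 := flp_c L22897
theorem L22899 : sm gg N2963 = N2987 := ded_29_1 L22894 L22794 L22790 L22795
theorem L22900 : sm gg N2987 = N2963 := flp_g L22899
theorem L22901 : sm gb N2337 = N2988 := rfl
theorem L22902 : sm gb N2988 = N2337 := flp_b L22901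
theorem L22903 : sm gf N2988 = N2338 := ded_16_2 L19667 L8904 L8901 L19662 L22901
theorem L22904 : sm gf N2338 = N2988 := flp_f L22903
theorem L22905 : sm gg N2337 = N2989 := rfl
theorem L22906 : sm gg N2989 = N2337 := flp_g L22905
theorem L22911 : sm gf N2962 = N2989 := ded_29_0 L22906 L19663 L19605 L22789
theorem L22913 : sm ga N2338 = N2990 := rfl
theorem L22914 : sm ga N2990 = N2338 := flp_a L22913
theorem L22915 : sm gg N2338 = N2991 := rfl
theorem L22916 : sm gg N2991 = N2338 := flp_g L22915
theorem L22917 : sm gb N2991 = N2916 := ded_17_1 L22552 L19477 L8910 L19666 L22915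
theorem L22918 : sm gb N2916 = N2991 := flp_b L22917
theorem L22919 : sm gb N2339 = N2992 := rfl
theorem L22920 : sm gb N2992 = N2339 := flp_b L22919
theorem L22921 : sm gd N2339 = N2993 := rfl
theorem L22922 : sm gd N2993 = N2339 := flp_d L22921
theorem L22923 : sm ga N2993 = N2340 := ded_9_1 L19675 L19671 L22921
theorem L22924 : sm ga N2340 = N2993 := flp_a L22923
theorem L22925 : sm gf N2993 = N2388 := ded_23_2 L19909 L19673 L22921
theorem L22926 : sm gf N2388 = N2993 := flp_f L22925
theorem L22927 : sm gc N2823 = N2993 := ded_28_0 L22922 L19669 L8913 L11574 L8639 L19480 L22561 L22563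
theorem L22928 : sm gc N2993 = N2823 := flp_c L22927
theorem L22929 : sm ge N2340 = N2994 := rfl
theorem L22930 : sm ge N2994 = N2340 := flp_e L22929
theorem L22931 : sm gf N2994 = N2390 := ded_25_2 L19923 L19677 L22929
theorem L22932 : sm gf N2390 = N2994 := flp_f L22931
theorem L22933 : sm gb N2341 = N2995 := rfl
theorem L22934 : sm gb N2995 = N2341 := flp_b L22933
theorem L22935 : sm ge N2995 = N2379 := ded_15_2 L19855 L19683 L22933
theorem L22936 : sm ge N2379 = N2995 := flp_e L22935
theorem L22937 : sm gf N2341 = N2996 := rfl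
theorem L22938 : sm gf N2996 = N2341 := flp_f L22937
theorem L22939 : sm ga N2996 = N2342 := ded_11_1 L19685 L19678 L22937
theorem L22940 : sm ga N2342 = N2996 := flp_a L22939
theorem L22941 : sm gc N2996 = N2404 := ded_20_1 L20015 L19681 L22937
theorem L22942 : sm gc N2404 = N2996 := flp_c L22941
theorem L22943 : sm ge N2996 = N2380 := ded_25_1 L19859 L19683 L22937
theorem L22944 : sm ge N2380 = N2996 := flp_e L22943
theorem L22945 : sm gg N2341 = N2997 := rfl
theorem L22947 : sm ga N2997 = N2343 := ded_12_1 L19691 L19678 L22945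
theorem L22949 : sm gc N2997 = N2405 := ded_21_1 L20021 L19681 L22945
theorem L22950 : sm gc N2405 = N2997 := flp_c L22949
theorem L22951 : sm ge N2997 = N2370 := ded_26_1 L19818 L19683 L22945
theorem L22952 : sm ge N2370 = N2997 := flp_e L22951
theorem L22953 : sm gg N2342 = N2998 := rfl
theorem L22954 : sm gg N2998 = N2342 := flp_g L22953
theorem L22957 : sm ge N2998 = N2382 := ded_26_1 L19875 L19689 L22953
theorem L22958 : sm ge N2382 = N2998 := flp_e L22957
theorem L22961 : sm gf N2343 = N2999 := rfl
theorem L22962 : sm gf N2999 = N2343 := flp_f L22961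
theorem L22965 : sm gc N2999 = N2413 := ded_20_1 L20065 L19693 L22961
theorem L22966 : sm gc N2413 = N2999 := flp_c L22965
theorem L22967 : sm ge N2999 = N2371 := ded_25_1 L19821 L19695 L22961
theorem L22968 : sm ge N2371 = N2999 := flp_e L22967
theorem L22969 : sm gg N2999 = N2996 := ded_29_3 L22939 L19685 L19690 L22961
theorem L22970 : sm gg N2996 = N2999 := flp_g L22969
theorem L22971 : sm gd N2344 = N3000 := rfl
theorem L22972 : sm gd N3000 = N2344 := flp_d L22971
theorem L22973 : sm gb N3000 = N2345 := ded_14_1 L19703 L19698 L22971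
theorem L22974 : sm gb N2345 = N3000 := flp_b L22973
theorem L22975 : sm ge N3000 = N2406 := ded_22_2 L20031 L19270 L19156 L19701 L22971
theorem L22976 : sm ge N2406 = N3000 := flp_e L22975
theorem L22977 : sm gc N3000 = N2407 := ded_28_4 L20036 L20741 L22317 L22579 L22576 L21881 L22146 L22971
theorem L22978 : sm gc N2407 = N3000 := flp_c L22977
theorem L22979 : sm gf N2344 = N3001 := rfl
theorem L22980 : sm gf N3001 = N2344 := flp_f L22979
theorem L22981 : sm ge N3001 = N2362 := ded_25_1 L19793 L19701 L22979
theorem L22982 : sm ge N2362 = N3001 := flp_e L22981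
theorem L22983 : sm gg N2344 = N3002 := rfl
theorem L22984 : sm gg N3002 = N2344 := flp_g L22983
theorem L22985 : sm ge N3002 = N2363 := ded_26_1 L19795 L19701 L22983
theorem L22986 : sm ge N2363 = N3002 := flp_e L22985
theorem L22987 : sm gf N2345 = N3003 := rfl
theorem L22988 : sm gf N3003 = N2345 := flp_f L22987
theorem L22989 : sm ga N3003 = N2349 := ded_11_1 L19729 L19705 L22987
theorem L22990 : sm ga N2349 = N3003 := flp_a L22989
theorem L22991 : sm gc N3003 = N2952 := ded_20_1 L22738 L19708 L22987
theorem L22992 : sm gc N2952 = N3003 := flp_c L22991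
theorem L22993 : sm gd N3003 = N2346 := ded_23_1 L19711 L19702 L22987
theorem L22994 : sm gd N2346 = N3003 := flp_d L22993
theorem L22995 : sm ge N3003 = N2849 := ded_25_1 L22104 L19707 L22987
theorem L22996 : sm ge N2849 = N3003 := flp_e L22995
theorem L22997 : sm gg N2345 = N3004 := rfl
theorem L22998 : sm gg N3004 = N2345 := flp_g L22997
theorem L22999 : sm ga N3004 = N2350 := ded_12_1 L19735 L19705 L22997
theorem L23000 : sm ga N2350 = N3004 := flp_a L22999
theorem L23001 : sm gc N3004 = N2953 := ded_21_1 L22742 L19708 L22997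
theorem L23003 : sm gd N3004 = N2347 := ded_24_1 L19717 L19702 L22997
theorem L23004 : sm gd N2347 = N3004 := flp_d L23003
theorem L23005 : sm ge N3004 = N2850 := ded_26_1 L22112 L19707 L22997
theorem L23006 : sm ge N2850 = N3004 := flp_e L23005
theorem L23007 : sm gb N2346 = N3005 := rfl
theorem L23008 : sm gb N3005 = N2346 := flp_b L23007
theorem L23009 : sm ge N3005 = N2364 := ded_15_2 L19797 L19715 L23007
theorem L23010 : sm ge N2364 = N3005 := flp_e L23009
theorem L23011 : sm gb N2347 = N3006 := rfl
theorem L23012 : sm gb N3006 = N2347 := flp_b L23011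
theorem L23013 : sm ge N3006 = N2365 := ded_15_2 L19799 L19721 L23011
theorem L23014 : sm ge N2365 = N3006 := flp_e L23013
theorem L23015 : sm gd N2348 = N3007 := rfl
theorem L23016 : sm gd N3007 = N2348 := flp_d L23015
theorem L23017 : sm ga N3007 = N2927 := ded_9_1 L22607 L19725 L23015
theorem L23018 : sm ga N2927 = N3007 := flp_a L23017
theorem L23019 : sm gb N3007 = N2526 := ded_14_1 L21950 L21947 L23015
theorem L23020 : sm gb N2526 = N3007 := flp_b L23019
theorem L23021 : sm ge N3007 = N2923 := ded_22_2 L22581 L19495 L19299 L19727 L23015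
theorem L23022 : sm ge N2923 = N3007 := flp_e L23021
theorem L23023 : sm gf N2348 = N3008 := rfl
theorem L23024 : sm gf N3008 = N2348 := flp_f L23023
theorem L23025 : sm ga N3008 = N2952 := ded_11_1 L22738 L19725 L23023
theorem L23026 : sm ga N2952 = N3008 := flp_a L23025
theorem L23027 : sm gc N3008 = N2349 := ded_20_1 L19729 L19722 L23023
theorem L23028 : sm gc N2349 = N3008 := flp_c L23027
theorem L23029 : sm ge N3008 = N2854 := ded_25_1 L22148 L19727 L23023
theorem L23030 : sm ge N2854 = N3008 := flp_e L23029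
theorem L23031 : sm gg N2348 = N3009 := rfl
theorem L23032 : sm gg N3009 = N2348 := flp_g L23031
theorem L23033 : sm ga N3009 = N2953 := ded_12_1 L22742 L19725 L23031
theorem L23034 : sm ga N2953 = N3009 := flp_a L23033
theorem L23035 : sm gc N3009 = N2350 := ded_21_1 L19735 L19722 L23031
theorem L23036 : sm gc N2350 = N3009 := flp_c L23035
theorem L23039 : sm gb N2349 = N3010 := rfl
theorem L23040 : sm gb N3010 = N2349 := flp_b L23039
theorem L23041 : sm gd N3010 = N2351 := ded_14_2 L19741 L19731 L23039
theorem L23042 : sm gd N2351 = N3010 := flp_d L23041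
theorem L23043 : sm ge N3010 = N2856 := ded_15_2 L22164 L19733 L23039
theorem L23044 : sm ge N2856 = N3010 := flp_e L23043
theorem L23045 : sm gf N3010 = N2354 := ded_16_2 L19761 L9272 L9262 L19728 L23039
theorem L23046 : sm gf N2354 = N3010 := flp_f L23045
theorem L23047 : sm gg N2349 = N3011 := rfl
theorem L23048 : sm gg N3011 = N2349 := flp_g L23047
theorem L23049 : sm gd N3011 = N2352 := ded_24_1 L19747 L19731 L23047
theorem L23050 : sm gd N2352 = N3011 := flp_d L23049
theorem L23051 : sm ge N3011 = N2857 := ded_26_1 L22170 L19733 L23047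
theorem L23052 : sm ge N2857 = N3011 := flp_e L23051
theorem L23053 : sm gf N3004 = N3011 := ded_29_0 L23048 L19729 L19734 L23000
theorem L23054 : sm gf N3011 = N3004 := flp_f L23053
theorem L23055 : sm gf N2350 = N3012 := rfl
theorem L23056 : sm gf N3012 = N2350 := flp_f L23055
theorem L23057 : sm ga N3012 = N3011 := ded_11_1 L23054 L22999 L23055
theorem L23058 : sm ga N3011 = N3012 := flp_a L23057
theorem L23059 : sm gd N3012 = N2353 := ded_23_1 L19753 L19737 L23055
theorem L23060 : sm gd N2353 = N3012 := flp_d L23059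
theorem L23061 : sm ge N3012 = N2858 := ded_25_1 L22176 L19739 L23055
theorem L23062 : sm ge N2858 = N3012 := flp_e L23061
theorem L23063 : sm gg N3012 = N3003 := ded_29_3 L22989 L19729 L19734 L23055
theorem L23064 : sm gg N3003 = N3012 := flp_g L23063
theorem L23065 : sm ga N2351 = N3013 := rfl
theorem L23066 : sm ga N3013 = N2351 := flp_a L23065
theorem L23067 : sm ge N3013 = N2366 := ded_10_2 L19801 L19743 L23065
theorem L23068 : sm ge N2366 = N3013 := flp_e L23067
theorem L23069 : sm gf N3013 = N2355 := ded_11_2 L19767 L19745 L23065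
theorem L23070 : sm gf N2355 = N3013 := flp_f L23069
theorem L23071 : sm gc N2351 = N3014 := rfl
theorem L23072 : sm gc N3014 = N2351 := flp_c L23071
theorem L23073 : sm ge N3014 = N2367 := ded_19_2 L19805 L19743 L23071
theorem L23074 : sm ge N2367 = N3014 := flp_e L23073
theorem L23075 : sm gf N3014 = N2356 := ded_20_2 L19771 L19745 L23071
theorem L23076 : sm gf N2356 = N3014 := flp_f L23075
theorem L23077 : sm gg N2351 = N3015 := rfl
theorem L23078 : sm gg N3015 = N2351 := flp_g L23077
theorem L23079 : sm ge N3015 = N2368 := ded_26_1 L19809 L19743 L23077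
theorem L23080 : sm ge N2368 = N3015 := flp_e L23079
theorem L23081 : sm gb N2352 = N3016 := rfl
theorem L23082 : sm gb N3016 = N2352 := flp_b L23081
theorem L23083 : sm ge N3016 = N2369 := ded_15_2 L19811 L19749 L23081
theorem L23084 : sm ge N2369 = N3016 := flp_e L23083
theorem L23085 : sm gb N2353 = N3017 := rfl
theorem L23086 : sm gb N3017 = N2353 := flp_b L23085
theorem L23087 : sm ge N3017 = N2372 := ded_15_2 L19827 L19757 L23085
theorem L23088 : sm ge N2372 = N3017 := flp_e L23087
theorem L23089 : sm ga N2354 = N3018 := rfl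
theorem L23090 : sm ga N3018 = N2354 := flp_a L23089
theorem L23091 : sm gd N3018 = N2355 := ded_9_2 L19767 L19763 L23089
theorem L23092 : sm gd N2355 = N3018 := flp_d L23091
theorem L23093 : sm ge N3018 = N2867 := ded_10_2 L22232 L19765 L23089
theorem L23094 : sm ge N2867 = N3018 := flp_e L23093
theorem L23095 : sm gc N2354 = N3019 := rfl
theorem L23096 : sm gc N3019 = N2354 := flp_c L23095
theorem L23097 : sm ge N3019 = N2868 := ded_19_2 L22236 L19765 L23095
theorem L23098 : sm ge N2868 = N3019 := flp_e L23097
theorem L23099 : sm gg N2354 = N3020 := rfl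
theorem L23100 : sm gg N3020 = N2354 := flp_g L23099
theorem L23101 : sm gd N3020 = N2357 := ded_24_1 L19777 L19763 L23099
theorem L23102 : sm gd N2357 = N3020 := flp_d L23101
theorem L23103 : sm ge N3020 = N2869 := ded_26_1 L22238 L19765 L23099
theorem L23104 : sm ge N2869 = N3020 := flp_e L23103
theorem L23105 : sm gb N2355 = N3021 := rfl
theorem L23106 : sm gb N3021 = N2355 := flp_b L23105
theorem L23107 : sm ge N3021 = N2373 := ded_15_2 L19829 L19769 L23105
theorem L23108 : sm ge N2373 = N3021 := flp_e L23107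
theorem L23109 : sm gc N2355 = N3022 := rfl
theorem L23110 : sm gc N3022 = N2355 := flp_c L23109
theorem L23111 : sm ga N3022 = N2356 := ded_8_1 L19771 L19766 L23109
theorem L23112 : sm ga N2356 = N3022 := flp_a L23111
theorem L23113 : sm ge N3022 = N2374 := ded_19_2 L19831 L19769 L23109
theorem L23114 : sm ge N2374 = N3022 := flp_e L23113
theorem L23115 : sm gg N2355 = N3023 := rfl
theorem L23116 : sm gg N3023 = N2355 := flp_g L23115
theorem L23117 : sm ga N3023 = N2357 := ded_12_1 L19777 L19766 L23115
theorem L23118 : sm ga N2357 = N3023 := flp_a L23117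
theorem L23119 : sm ge N3023 = N2375 := ded_26_1 L19835 L19769 L23115
theorem L23120 : sm ge N2375 = N3023 := flp_e L23119
theorem L23121 : sm gf N3023 = N3015 := ded_29_2 L23078 L23065 L23069 L23115
theorem L23122 : sm gf N3015 = N3023 := flp_f L23121
theorem L23123 : sm gd N2356 = N3024 := rfl
theorem L23124 : sm gd N3024 = N2356 := flp_d L23123
theorem L23125 : sm gb N3024 = N2358 := ded_14_1 L19781 L19775 L23123
theorem L23126 : sm gb N2358 = N3024 := flp_b L23125
theorem L23127 : sm gg N2356 = N3025 := rfl
theorem L23128 : sm gg N3025 = N2356 := flp_g L23127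
theorem L23129 : sm gc N3025 = N2357 := ded_21_1 L19777 L19770 L23127
theorem L23130 : sm gc N2357 = N3025 := flp_c L23129
theorem L23131 : sm ge N3025 = N2377 := ded_26_1 L19845 L19773 L23127
theorem L23132 : sm ge N2377 = N3025 := flp_e L23131
theorem L23133 : sm gf N2357 = N3026 := rfl
theorem L23134 : sm gf N3026 = N2357 := flp_f L23133
theorem L23135 : sm ga N3026 = N3015 := ded_11_1 L23122 L23117 L23133
theorem L23136 : sm ga N3015 = N3026 := flp_a L23135
theorem L23137 : sm ge N3026 = N2378 := ded_25_1 L19849 L19779 L23133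
theorem L23138 : sm ge N2378 = N3026 := flp_e L23137
theorem L23139 : sm gg N3026 = N3013 := ded_29_3 L23066 L19744 L19776 L23133
theorem L23140 : sm gg N3013 = N3026 := flp_g L23139
theorem L23141 : sm ge N2358 = N3027 := rfl
theorem L23142 : sm ge N3027 = N2358 := flp_e L23141
theorem L23143 : sm gd N3027 = N2390 := ded_22_1 L19923 L9460 L9288 L19780 L23141
theorem L23144 : sm gd N2390 = N3027 := flp_d L23143
theorem L23145 : sm gb N2359 = N3028 := rfl
theorem L23146 : sm gb N3028 = N2359 := flp_b L23145
theorem L23147 : sm gd N2359 = N3029 := rfl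
theorem L23148 : sm gd N3029 = N2359 := flp_d L23147
theorem L23149 : sm ga N3029 = N2843 := ded_9_1 L22079 L19785 L23147
theorem L23150 : sm ga N2843 = N3029 := flp_a L23149
theorem L23151 : sm gg N3029 = N2389 := ded_24_2 L19920 L19787 L23147
theorem L23152 : sm gg N2389 = N3029 := flp_g L23151
theorem L23153 : sm gc N2391 = N3029 := ded_28_0 L23148 L19783 L9314 L4600 L4592 L9285 L19780 L19927
theorem L23154 : sm gc N3029 = N2391 := flp_c L23153
theorem L23155 : sm gf N2360 = N3030 := rfl
theorem L23156 : sm gf N3030 = N2360 := flp_f L23155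
theorem L23157 : sm ga N3030 = N2362 := ded_11_1 L19793 L19788 L23155
theorem L23158 : sm ga N2362 = N3030 := flp_a L23157
theorem L23159 : sm gc N3030 = N3001 := ded_20_1 L22980 L22145 L23155
theorem L23160 : sm gc N3001 = N3030 := flp_c L23159
theorem L23161 : sm gg N2360 = N3031 := rfl
theorem L23162 : sm gg N3031 = N2360 := flp_g L23161
theorem L23163 : sm ga N3031 = N2363 := ded_12_1 L19795 L19788 L23161
theorem L23164 : sm ga N2363 = N3031 := flp_a L23163
theorem L23165 : sm gc N3031 = N3002 := ded_21_1 L22984 L22145 L23161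
theorem L23166 : sm gc N3002 = N3031 := flp_c L23165
theorem L23167 : sm gd N2361 = N3032 := rfl
theorem L23168 : sm gd N3032 = N2361 := flp_d L23167
theorem L23169 : sm ga N3032 = N3000 := ded_9_1 L22972 L22143 L23167
theorem L23170 : sm ga N3000 = N3032 := flp_a L23169
theorem L23171 : sm gf N2361 = N3033 := rfl
theorem L23172 : sm gf N3033 = N2361 := flp_f L23171
theorem L23173 : sm ga N3033 = N3001 := ded_11_1 L22980 L22143 L23171
theorem L23174 : sm ga N3001 = N3033 := flp_a L23173
theorem L23175 : sm gc N3033 = N2362 := ded_20_1 L19793 L19790 L23171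
theorem L23176 : sm gc N2362 = N3033 := flp_c L23175
theorem L23177 : sm ge N3033 = N3030 := ded_25_1 L23156 L22141 L23171
theorem L23178 : sm ge N3030 = N3033 := flp_e L23177
theorem L23179 : sm gg N2361 = N3034 := rfl
theorem L23180 : sm gg N3034 = N2361 := flp_g L23179
theorem L23181 : sm ga N3034 = N3002 := ded_12_1 L22984 L22143 L23179
theorem L23182 : sm ga N3002 = N3034 := flp_a L23181
theorem L23185 : sm ge N3034 = N3031 := ded_26_1 L23162 L22141 L23179
theorem L23186 : sm ge N3031 = N3034 := flp_e L23185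
theorem L23187 : sm gb N2362 = N3035 := rfl
theorem L23188 : sm gb N3035 = N2362 := flp_b L23187
theorem L23189 : sm gf N3035 = N2364 := ded_16_2 L19797 L9392 L9389 L19792 L23187
theorem L23190 : sm gf N2364 = N3035 := flp_f L23189
theorem L23191 : sm gg N2362 = N3036 := rfl
theorem L23192 : sm gg N3036 = N2362 := flp_g L23191
theorem L23193 : sm gf N3031 = N3036 := ded_29_0 L23192 L19793 L19794 L23164
theorem L23194 : sm gf N3036 = N3031 := flp_f L23193
theorem L23195 : sm gb N2363 = N3037 := rfl
theorem L23196 : sm gb N3037 = N2363 := flp_b L23195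
theorem L23197 : sm gg N3037 = N2365 := ded_17_2 L19799 L9396 L9389 L19794 L23195
theorem L23198 : sm gg N2365 = N3037 := flp_g L23197
theorem L23199 : sm gf N2363 = N3038 := rfl
theorem L23200 : sm gf N3038 = N2363 := flp_f L23199
theorem L23203 : sm gg N3038 = N3030 := ded_29_3 L23157 L19793 L19794 L23199
theorem L23205 : sm ga N2364 = N3039 := rfl
theorem L23206 : sm ga N3039 = N2364 := flp_a L23205
theorem L23207 : sm gc N2364 = N3040 := rfl
theorem L23208 : sm gc N3040 = N2364 := flp_c L23207
theorem L23209 : sm gg N2364 = N3041 := rfl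
theorem L23210 : sm gg N3041 = N2364 := flp_g L23209
theorem L23211 : sm ga N2365 = N3042 := rfl
theorem L23212 : sm ga N3042 = N2365 := flp_a L23211
theorem L23213 : sm gc N2365 = N3043 := rfl
theorem L23214 : sm gc N3043 = N2365 := flp_c L23213
theorem L23215 : sm gf N2365 = N3044 := rfl
theorem L23216 : sm gf N3044 = N2365 := flp_f L23215
theorem L23217 : sm gb N2366 = N3045 := rfl
theorem L23218 : sm gb N3045 = N2366 := flp_b L23217
theorem L23219 : sm gc N2366 = N3046 := rfl
theorem L23220 : sm gc N3046 = N2366 := flp_c L23219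
theorem L23221 : sm ga N3046 = N2367 := ded_8_1 L19805 L19800 L23219
theorem L23222 : sm ga N2367 = N3046 := flp_a L23221
theorem L23223 : sm gf N3046 = N2374 := ded_20_2 L19831 L19803 L23219
theorem L23224 : sm gf N2374 = N3046 := flp_f L23223
theorem L23225 : sm gd N2367 = N3047 := rfl
theorem L23226 : sm gd N3047 = N2367 := flp_d L23225
theorem L23227 : sm gf N3047 = N2376 := ded_23_2 L19841 L19807 L23225
theorem L23228 : sm gf N2376 = N3047 := flp_f L23227
theorem L23229 : sm gg N2367 = N3048 := rfl
theorem L23230 : sm gg N3048 = N2367 := flp_g L23229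
theorem L23233 : sm gb N2368 = N3049 := rfl
theorem L23234 : sm gb N3049 = N2368 := flp_b L23233
theorem L23235 : sm gg N3049 = N2369 := ded_17_2 L19811 L9404 L9399 L19808 L23233
theorem L23236 : sm gg N2369 = N3049 := flp_g L23235
theorem L23237 : sm ga N2369 = N3050 := rfl
theorem L23238 : sm ga N3050 = N2369 := flp_a L23237
theorem L23241 : sm gf N2369 = N3052 := rfl
theorem L23242 : sm gf N3052 = N2369 := flp_f L23241
theorem L23243 : sm gb N3052 = N3044 := ded_16_1 L23216 L19799 L9405 L19810 L23241
theorem L23245 : sm gb N2370 = N3053 := rfl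
theorem L23246 : sm gb N3053 = N2370 := flp_b L23245
theorem L23247 : sm gd N3053 = N2829 := ded_14_2 L22028 L19817 L23245
theorem L23248 : sm gd N2829 = N3053 := flp_d L23247
theorem L23249 : sm gb N2371 = N3054 := rfl
theorem L23250 : sm gb N3054 = N2371 := flp_b L23249
theorem L23251 : sm gd N3054 = N2834 := ded_14_2 L22042 L19825 L23249
theorem L23252 : sm gd N2834 = N3054 := flp_d L23251
theorem L23253 : sm gf N3054 = N2372 := ded_16_2 L19827 L9414 L9407 L19820 L23249
theorem L23254 : sm gf N2372 = N3054 := flp_f L23253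
theorem L23255 : sm ga N2372 = N3055 := rfl
theorem L23256 : sm ga N3055 = N2372 := flp_a L23255
theorem L23257 : sm gc N2372 = N3056 := rfl
theorem L23258 : sm gc N3056 = N2372 := flp_c L23257
theorem L23259 : sm gg N2372 = N3057 := rfl
theorem L23260 : sm gg N3057 = N2372 := flp_g L23259
theorem L23261 : sm gb N3057 = N3041 := ded_17_1 L23210 L19797 L9418 L19826 L23259
theorem L23262 : sm gb N3041 = N3057 := flp_b L23261
theorem L23263 : sm ga N2373 = N3058 := rfl
theorem L23264 : sm ga N3058 = N2373 := flp_a L23263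
theorem L23265 : sm gc N2373 = N3059 := rfl
theorem L23266 : sm gc N3059 = N2373 := flp_c L23265
theorem L23267 : sm gf N2373 = N3060 := rfl
theorem L23268 : sm gf N3060 = N2373 := flp_f L23267
theorem L23269 : sm gg N2373 = N3061 := rfl
theorem L23270 : sm gg N3061 = N2373 := flp_g L23269
theorem L23271 : sm gb N2374 = N3062 := rfl
theorem L23272 : sm gb N3062 = N2374 := flp_b L23271
theorem L23273 : sm gd N2374 = N3063 := rfl
theorem L23274 : sm gd N3063 = N2374 := flp_d L23273
theorem L23275 : sm ga N3063 = N2376 := ded_9_1 L19841 L19833 L23273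
theorem L23276 : sm ga N2376 = N3063 := flp_a L23275
theorem L23277 : sm gc N3063 = N2656 := ded_28_6 L21283 L21273 L21271 L18843 L18871 L18876 L19830 L23273
theorem L23278 : sm gc N2656 = N3063 := flp_c L23277
theorem L23279 : sm gg N2374 = N3064 := rfl
theorem L23280 : sm gg N3064 = N2374 := flp_g L23279
theorem L23281 : sm ga N3064 = N2377 := ded_12_1 L19845 L19833 L23279
theorem L23282 : sm ga N2377 = N3064 := flp_a L23281
theorem L23283 : sm gc N3064 = N2375 := ded_21_1 L19835 L19830 L23279
theorem L23284 : sm gc N2375 = N3064 := flp_c L23283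
theorem L23285 : sm gf N3064 = N3048 := ded_29_2 L23230 L23222 L23223 L23279
theorem L23286 : sm gf N3048 = N3064 := flp_f L23285
theorem L23287 : sm gb N2375 = N3065 := rfl
theorem L23288 : sm gb N3065 = N2375 := flp_b L23287
theorem L23289 : sm gc N2376 = N3066 := rfl
theorem L23290 : sm gc N3066 = N2376 := flp_c L23289
theorem L23291 : sm ga N3066 = N2656 := ded_8_1 L23278 L23275 L23289
theorem L23292 : sm ga N2656 = N3066 := flp_a L23291
theorem L23293 : sm gd N3066 = N2654 := ded_28_7 L21272 L18846 L6040 L6064 L17704 L9421 L19840 L23289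
theorem L23294 : sm gd N2654 = N3066 := flp_d L23293
theorem L23295 : sm ge N2376 = N3067 := rfl
theorem L23296 : sm ge N3067 = N2376 := flp_e L23295
theorem L23297 : sm gb N3067 = N2390 := ded_15_1 L19923 L19843 L23295
theorem L23298 : sm gb N2390 = N3067 := flp_b L23297
theorem L23299 : sm gg N2376 = N3068 := rfl
theorem L23300 : sm gg N3068 = N2376 := flp_g L23299
theorem L23301 : sm gd N3068 = N2377 := ded_24_1 L19845 L19840 L23299
theorem L23302 : sm gd N2377 = N3068 := flp_d L23301
theorem L23303 : sm gb N2377 = N3069 := rfl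
theorem L23304 : sm gb N3069 = N2377 := flp_b L23303
theorem L23305 : sm gg N3069 = N2392 := ded_17_2 L19931 L9462 L9424 L19844 L23303
theorem L23306 : sm gg N2392 = N3069 := flp_g L23305
theorem L23307 : sm gf N2377 = N3070 := rfl
theorem L23308 : sm gf N3070 = N2377 := flp_f L23307
theorem L23309 : sm ga N3070 = N3048 := ded_11_1 L23286 L23281 L23307
theorem L23310 : sm ga N3048 = N3070 := flp_a L23309
theorem L23311 : sm gc N3070 = N2378 := ded_20_1 L19849 L19847 L23307
theorem L23312 : sm gc N2378 = N3070 := flp_c L23311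
theorem L23313 : sm gg N3070 = N3046 := ded_29_3 L23221 L19806 L19844 L23307
theorem L23314 : sm gg N3046 = N3070 := flp_g L23313
theorem L23315 : sm gb N2378 = N3071 := rfl
theorem L23316 : sm gb N3071 = N2378 := flp_b L23315
theorem L23317 : sm ga N2379 = N3072 := rfl
theorem L23318 : sm ga N3072 = N2379 := flp_a L23317
theorem L23323 : sm gc N2379 = N3073 := rfl
theorem L23324 : sm gc N3073 = N2379 := flp_c L23323
theorem L23325 : sm gb N3073 = N2522 := ded_13_1 L20699 L18556 L18469 L19854 L23323
theorem L23327 : sm gf N2379 = N3074 := rfl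
theorem L23328 : sm gf N3074 = N2379 := flp_f L23327
theorem L23329 : sm gd N3074 = N2826 := ded_23_1 L22022 L19857 L23327
theorem L23330 : sm gd N2826 = N3074 := flp_d L23329
theorem L23331 : sm gg N2379 = N3075 := rfl
theorem L23332 : sm gg N3075 = N2379 := flp_g L23331
theorem L23335 : sm gb N2380 = N3076 := rfl
theorem L23336 : sm gb N3076 = N2380 := flp_b L23335
theorem L23337 : sm gd N3076 = N2828 := ded_14_2 L22026 L19865 L23335
theorem L23338 : sm gd N2828 = N3076 := flp_d L23337
theorem L23339 : sm ga N2381 = N3077 := rfl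
theorem L23340 : sm ga N3077 = N2381 := flp_a L23339
theorem L23341 : sm gd N3077 = N2830 := ded_9_2 L22030 L19871 L23339
theorem L23342 : sm gd N2830 = N3077 := flp_d L23341
theorem L23343 : sm gf N3077 = N2383 := ded_11_2 L19885 L19873 L23339
theorem L23344 : sm gf N2383 = N3077 := flp_f L23343
theorem L23345 : sm gc N2381 = N3078 := rfl
theorem L23346 : sm gc N3078 = N2381 := flp_c L23345
theorem L23347 : sm gf N3078 = N2384 := ded_20_2 L19889 L19873 L23345
theorem L23348 : sm gf N2384 = N3078 := flp_f L23347
theorem L23349 : sm gb N3078 = N2543 := ded_13_1 L20789 L18586 L18471 L19868 L23345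
theorem L23350 : sm gb N2543 = N3078 := flp_b L23349
theorem L23351 : sm gg N2381 = N3079 := rfl
theorem L23352 : sm gg N3079 = N2381 := flp_g L23351
theorem L23353 : sm gd N3079 = N2832 := ded_24_1 L22038 L19871 L23351
theorem L23354 : sm gd N2832 = N3079 := flp_d L23353
theorem L23355 : sm gb N2382 = N3080 := rfl
theorem L23356 : sm gb N3080 = N2382 := flp_b L23355
theorem L23357 : sm gd N3080 = N2833 := ded_14_2 L22040 L19881 L23355
theorem L23358 : sm gd N2833 = N3080 := flp_d L23357
theorem L23359 : sm gb N2383 = N3081 := rfl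
theorem L23360 : sm gb N3081 = N2383 := flp_b L23359
theorem L23361 : sm gd N3081 = N2835 := ded_14_2 L22046 L19887 L23359
theorem L23362 : sm gd N2835 = N3081 := flp_d L23361
theorem L23363 : sm gc N2383 = N3082 := rfl
theorem L23364 : sm gc N3082 = N2383 := flp_c L23363
theorem L23365 : sm ga N3082 = N2384 := ded_8_1 L19889 L19884 L23363
theorem L23366 : sm ga N2384 = N3082 := flp_a L23365
theorem L23367 : sm gg N2383 = N3083 := rfl
theorem L23368 : sm gg N3083 = N2383 := flp_g L23367
theorem L23369 : sm ga N3083 = N2385 := ded_12_1 L19893 L19884 L23367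
theorem L23370 : sm ga N2385 = N3083 := flp_a L23369
theorem L23371 : sm gd N3083 = N2837 := ded_24_1 L22052 L19887 L23367
theorem L23372 : sm gd N2837 = N3083 := flp_d L23371
theorem L23373 : sm gf N3083 = N3079 := ded_29_2 L23352 L23339 L23343 L23367
theorem L23374 : sm gf N3079 = N3083 := flp_f L23373
theorem L23375 : sm gd N2384 = N3084 := rfl
theorem L23376 : sm gd N3084 = N2384 := flp_d L23375
theorem L23377 : sm gb N3084 = N2395 := ded_14_1 L19953 L19891 L23375
theorem L23378 : sm gb N2395 = N3084 := flp_b L23377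
theorem L23379 : sm gg N2384 = N3085 := rfl
theorem L23380 : sm gg N3085 = N2384 := flp_g L23379
theorem L23381 : sm gc N3085 = N2385 := ded_21_1 L19893 L19888 L23379
theorem L23382 : sm gc N2385 = N3085 := flp_c L23381
theorem L23383 : sm gb N3085 = N2682 := ded_17_1 L21404 L18903 L18548 L19891 L23379
theorem L23384 : sm gb N2682 = N3085 := flp_b L23383
theorem L23385 : sm gf N2385 = N3086 := rfl
theorem L23387 : sm ga N3086 = N3079 := ded_11_1 L23374 L23369 L23385
theorem L23388 : sm ga N3079 = N3086 := flp_a L23387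
theorem L23393 : sm gb N2386 = N3087 := rfl
theorem L23394 : sm gb N3087 = N2386 := flp_b L23393
theorem L23395 : sm ge N3087 = N2844 := ded_15_2 L22082 L19901 L23393
theorem L23396 : sm ge N2844 = N3087 := flp_e L23395
theorem L23397 : sm gc N3087 = N2387 := ded_13_2 L19907 L9448 L9443 L19898 L23393
theorem L23398 : sm gc N2387 = N3087 := flp_c L23397
theorem L23399 : sm gd N2386 = N3088 := rfl
theorem L23400 : sm gd N3088 = N2386 := flp_d L23399
theorem L23401 : sm gf N3088 = N3029 := ded_23_2 L23148 L19903 L23399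
theorem L23402 : sm gf N3029 = N3088 := flp_f L23401
theorem L23403 : sm gg N3088 = N2823 := ded_24_2 L22014 L19905 L23399
theorem L23404 : sm gg N2823 = N3088 := flp_g L23403
theorem L23405 : sm ga N2387 = N3089 := rfl
theorem L23406 : sm ga N3089 = N2387 := flp_a L23405
theorem L23407 : sm gd N2387 = N3090 := rfl
theorem L23408 : sm gd N3090 = N2387 := flp_d L23407
theorem L23409 : sm gb N3090 = N2388 := ded_14_1 L19909 L19906 L23407
theorem L23410 : sm gb N2388 = N3090 := flp_b L23409
theorem L23411 : sm gf N2387 = N3091 := rfl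
theorem L23412 : sm gf N3091 = N2387 := flp_f L23411
theorem L23413 : sm gg N2387 = N3092 := rfl
theorem L23414 : sm gg N3092 = N2387 := flp_g L23413
theorem L23415 : sm ge N3092 = N3069 := ded_26_1 L23305 L19932 L23413
theorem L23416 : sm ge N3069 = N3092 := flp_e L23415
theorem L23417 : sm gb N3092 = N3025 := ded_17_1 L23128 L19774 L18513 L19906 L23413
theorem L23418 : sm gb N3025 = N3092 := flp_b L23417
theorem L23419 : sm ge N2388 = N3093 := rfl
theorem L23420 : sm ge N3093 = N2388 := flp_e L23419
theorem L23421 : sm ga N3093 = N2390 := ded_10_1 L19923 L19911 L23419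
theorem L23422 : sm ga N2390 = N3093 := flp_a L23421
theorem L23423 : sm gc N3093 = N2842 := ded_19_1 L22074 L19915 L23419
theorem L23424 : sm gc N2842 = N3093 := flp_c L23423
theorem L23425 : sm gg N3093 = N3027 := ded_26_2 L23142 L19913 L23419
theorem L23426 : sm gg N3027 = N3093 := flp_g L23425
theorem L23427 : sm gb N2389 = N3094 := rfl
theorem L23428 : sm gb N3094 = N2389 := flp_b L23427
theorem L23429 : sm gd N3094 = N2841 := ded_14_2 L22072 L19921 L23427
theorem L23430 : sm gd N2841 = N3094 := flp_d L23429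
theorem L23431 : sm ge N2389 = N3095 := rfl
theorem L23432 : sm ge N3095 = N2389 := flp_e L23431
theorem L23433 : sm ga N3095 = N2842 := ded_10_1 L22074 L19919 L23431
theorem L23434 : sm ga N2842 = N3095 := flp_a L23433
theorem L23435 : sm gc N3095 = N2390 := ded_19_1 L19923 L19916 L23431
theorem L23436 : sm gc N2390 = N3095 := flp_c L23435
theorem L23437 : sm gg N2390 = N3096 := rfl
theorem L23438 : sm gg N3096 = N2390 := flp_g L23437
theorem L23439 : sm ga N3096 = N3027 := ded_12_1 L23426 L23421 L23437
theorem L23440 : sm ga N3027 = N3096 := flp_a L23439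
theorem L23441 : sm gd N3096 = N3093 := ded_24_1 L23425 L23143 L23437
theorem L23442 : sm gd N3093 = N3096 := flp_d L23441
theorem L23443 : sm ge N3096 = N2391 := ded_26_1 L19925 L19922 L23437
theorem L23444 : sm ge N2391 = N3096 := flp_e L23443
theorem L23445 : sm gb N2391 = N3097 := rfl
theorem L23446 : sm gb N3097 = N2391 := flp_b L23445
theorem L23447 : sm gd N3097 = N2392 := ded_14_2 L19931 L19929 L23445
theorem L23448 : sm gd N2392 = N3097 := flp_d L23447
theorem L23449 : sm gf N2391 = N3098 := rfl
theorem L23450 : sm gf N3098 = N2391 := flp_f L23449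
theorem L23451 : sm ga N3098 = N2947 := ded_11_1 L22725 L19927 L23449
theorem L23452 : sm ga N2947 = N3098 := flp_a L23451
theorem L23453 : sm gc N3098 = N3088 := ded_20_1 L23401 L23154 L23449
theorem L23454 : sm gc N3088 = N3098 := flp_c L23453
theorem L23455 : sm gd N3098 = N2393 := ded_23_1 L19935 L19929 L23449
theorem L23456 : sm gd N2393 = N3098 := flp_d L23455
theorem L23457 : sm gg N3098 = N2993 := ded_29_3 L22923 L19676 L19924 L23449
theorem L23458 : sm gg N2993 = N3098 := flp_g L23457
theorem L23459 : sm ga N2392 = N3099 := rfl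
theorem L23460 : sm ga N3099 = N2392 := flp_a L23459
theorem L23461 : sm ge N3099 = N3089 := ded_10_2 L23406 L19933 L23459
theorem L23462 : sm ge N3089 = N3099 := flp_e L23461
theorem L23463 : sm gf N2392 = N3100 := rfl
theorem L23464 : sm gf N3100 = N2392 := flp_f L23463
theorem L23465 : sm ge N3100 = N3091 := ded_25_1 L23412 L19933 L23463
theorem L23466 : sm ge N3091 = N3100 := flp_e L23465
theorem L23467 : sm gb N2393 = N3101 := rfl
theorem L23468 : sm gb N3101 = N2393 := flp_b L23467
theorem L23469 : sm ge N3101 = N2992 := ded_15_2 L22920 L19941 L23467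
theorem L23470 : sm ge N2992 = N3101 := flp_e L23469
theorem L23471 : sm gb N2394 = N3102 := rfl
theorem L23472 : sm gb N3102 = N2394 := flp_b L23471
theorem L23473 : sm gc N3102 = N3101 := ded_13_2 L23468 L19938 L18500 L19944 L23471
theorem L23474 : sm gc N3101 = N3102 := flp_c L23473
theorem L23475 : sm gd N2394 = N3103 := rfl
theorem L23476 : sm gd N3103 = N2394 := flp_d L23475
theorem L23477 : sm ga N3103 = N2395 := ded_9_1 L19953 L19947 L23475
theorem L23478 : sm ga N2395 = N3103 := flp_a L23477
theorem L23483 : sm gc N2395 = N3104 := rfl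
theorem L23485 : sm gf N3104 = N2569 := ded_20_2 L20893 L19955 L23483
theorem L23486 : sm gf N2569 = N3104 := flp_f L23485
theorem L23487 : sm gg N3104 = N2708 := ded_21_2 L21495 L19957 L23483
theorem L23488 : sm gg N2708 = N3104 := flp_g L23487
theorem L23489 : sm ge N2395 = N3105 := rfl
theorem L23490 : sm ge N3105 = N2395 := flp_e L23489
theorem L23493 : sm gg N3105 = N2709 := ded_26_2 L21497 L19957 L23489
theorem L23494 : sm gg N2709 = N3105 := flp_g L23493
theorem L23495 : sm gc N2396 = N3106 := rfl
theorem L23499 : sm gf N3106 = N2573 := ded_20_2 L20903 L19965 L23495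
theorem L23500 : sm gf N2573 = N3106 := flp_f L23499
theorem L23501 : sm gg N3106 = N2716 := ded_21_2 L21527 L19967 L23495
theorem L23502 : sm gg N2716 = N3106 := flp_g L23501
theorem L23505 : sm ge N2396 = N3107 := rfl
theorem L23509 : sm gb N3107 = N2574 := ded_15_1 L20909 L19963 L23505
theorem L23513 : sm gg N3107 = N2717 := ded_26_2 L21535 L19967 L23505
theorem L23514 : sm gg N2717 = N3107 := flp_g L23513
theorem L23517 : sm gb N2397 = N3108 := rfl
theorem L23519 : sm gc N3108 = N2400 := ded_13_2 L19997 L9824 L9599 L19968 L23517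
theorem L23520 : sm gc N2400 = N3108 := flp_c L23519
theorem L23521 : sm gd N2397 = N3109 := rfl
theorem L23522 : sm gd N3109 = N2397 := flp_d L23521
theorem L23525 : sm gf N3109 = N2576 := ded_23_2 L20918 L19971 L23521
theorem L23526 : sm gf N2576 = N3109 := flp_f L23525
theorem L23527 : sm gg N3109 = N2719 := ded_24_2 L21546 L19973 L23521
theorem L23528 : sm gg N2719 = N3109 := flp_g L23527
theorem L23529 : sm gc N3103 = N3109 := ded_28_0 L23522 L19969 L9597 L4736 L4682 L9513 L19952 L23478
theorem L23530 : sm gc N3109 = N3103 := flp_c L23529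
theorem L23531 : sm ge N2397 = N3110 := rfl
theorem L23532 : sm ge N3110 = N2397 := flp_e L23531
theorem L23535 : sm gf N3110 = N2577 := ded_25_2 L20924 L19971 L23531
theorem L23536 : sm gf N2577 = N3110 := flp_f L23535
theorem L23539 : sm ga N2400 = N3111 := rfl
theorem L23540 : sm ga N3111 = N2400 := flp_a L23539
theorem L23541 : sm gd N3111 = N3111 := ded_9_2 L23540 L19998 L23539
theorem L23542 : sm ge N2400 = N3112 := rfl
theorem L23543 : sm ge N3112 = N2400 := flp_e L23542
theorem L23550 : sm gg N2400 = N3114 := rfl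
theorem L23551 : sm gg N3114 = N2400 := flp_g L23550
theorem L23561 : sm ga N2402 = N3116 := rfl
theorem L23562 : sm ga N3116 = N2402 := flp_a L23561
theorem L23563 : sm ge N3116 = N2521 := ded_10_2 L20695 L20009 L23561
theorem L23565 : sm gb N3116 = N2427 := ded_7_2 L20145 L10304 L5094 L2493 L2439 L4960 L10124 L20006 L23561
theorem L23566 : sm gb N2427 = N3116 := flp_b L23565
theorem L23567 : sm gc N2402 = N3117 := rfl
theorem L23568 : sm gc N3117 = N2402 := flp_c L23567
theorem L23569 : sm ge N3117 = N2522 := ded_19_2 L20699 L20009 L23567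
theorem L23570 : sm ge N2522 = N3117 := flp_e L23569
theorem L23571 : sm gd N2402 = N3118 := rfl
theorem L23572 : sm gd N3118 = N2402 := flp_d L23571
theorem L23573 : sm gb N3118 = N2403 := ded_14_1 L20011 L20006 L23571
theorem L23574 : sm gb N2403 = N3118 := flp_b L23573
theorem L23575 : sm gf N2402 = N3119 := rfl
theorem L23576 : sm gf N3119 = N2402 := flp_f L23575
theorem L23577 : sm ge N3119 = N2524 := ded_25_1 L20705 L20009 L23575
theorem L23578 : sm ge N2524 = N3119 := flp_e L23577
theorem L23579 : sm gg N2402 = N3120 := rfl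
theorem L23580 : sm gg N3120 = N2402 := flp_g L23579
theorem L23581 : sm ge N3120 = N2525 := ded_26_1 L20707 L20009 L23579
theorem L23582 : sm ge N2525 = N3120 := flp_e L23581
theorem L23583 : sm gc N2403 = N3121 := rfl
theorem L23584 : sm gc N3121 = N2403 := flp_c L23583
theorem L23585 : sm ga N3121 = N2406 := ded_8_1 L20027 L20013 L23583
theorem L23586 : sm ga N2406 = N3121 := flp_a L23585
theorem L23587 : sm gd N2845 = N3121 := ded_28_3 L23584 L20011 L19681 L22208 L22206 L22134 L22129 L22138
theorem L23588 : sm gd N3121 = N2845 := flp_d L23587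
theorem L23589 : sm ge N3032 = N3121 := ded_10_0 L23585 L22976 L23170
theorem L23590 : sm ge N3121 = N3032 := flp_e L23589
theorem L23591 : sm gb N3032 = N3121 := ded_7_0 L23585 L20028 L19274 L7722 L17722 L9262 L19705 L22974 L23170
theorem L23592 : sm gb N3121 = N3032 := flp_b L23591
theorem L23593 : sm ge N2403 = N3122 := rfl
theorem L23594 : sm ge N3122 = N2403 := flp_e L23593
theorem L23595 : sm ga N3122 = N2407 := ded_10_1 L20033 L20013 L23593
theorem L23596 : sm ga N2407 = N3122 := flp_a L23595
theorem L23597 : sm gc N3122 = N3032 := ded_19_1 L23589 L23584 L23593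
theorem L23598 : sm gc N3032 = N3122 := flp_c L23597
theorem L23599 : sm gd N3122 = N2527 := ded_22_1 L20713 L18558 L10127 L20010 L23593
theorem L23600 : sm gd N2527 = N3122 := flp_d L23599
theorem L23601 : sm gf N2403 = N3123 := rfl
theorem L23602 : sm gf N3123 = N2403 := flp_f L23601
theorem L23603 : sm ga N3123 = N2408 := ded_11_1 L20039 L20013 L23601
theorem L23604 : sm ga N2408 = N3123 := flp_a L23603
theorem L23605 : sm gd N3123 = N2404 := ded_23_1 L20015 L20010 L23601
theorem L23606 : sm gd N2404 = N3123 := flp_d L23605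
theorem L23607 : sm gg N2403 = N3124 := rfl
theorem L23608 : sm gg N3124 = N2403 := flp_g L23607
theorem L23609 : sm ga N3124 = N2409 := ded_12_1 L20043 L20013 L23607
theorem L23610 : sm ga N2409 = N3124 := flp_a L23609
theorem L23613 : sm gb N2404 = N3125 := rfl
theorem L23614 : sm gb N3125 = N2404 := flp_b L23613
theorem L23615 : sm ge N3125 = N2530 := ded_15_2 L20729 L20019 L23613
theorem L23616 : sm ge N2530 = N3125 := flp_e L23615
theorem L23617 : sm gb N2405 = N3126 := rfl
theorem L23618 : sm gb N3126 = N2405 := flp_b L23617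
theorem L23619 : sm ge N3126 = N2531 := ded_15_2 L20731 L20025 L23617
theorem L23620 : sm ge N2531 = N3126 := flp_e L23619
theorem L23621 : sm gf N2406 = N3127 := rfl
theorem L23622 : sm gf N3127 = N2406 := flp_f L23621
theorem L23623 : sm gc N3127 = N2408 := ded_20_1 L20039 L20026 L23621
theorem L23624 : sm gc N2408 = N3127 := flp_c L23623
theorem L23625 : sm gd N3127 = N2847 := ded_23_1 L22096 L20030 L23621
theorem L23626 : sm gd N2847 = N3127 := flp_d L23625
theorem L23627 : sm gg N2406 = N3128 := rfl
theorem L23628 : sm gg N3128 = N2406 := flp_g L23627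
theorem L23629 : sm gc N3128 = N2409 := ded_21_1 L20043 L20026 L23627
theorem L23630 : sm gc N2409 = N3128 := flp_c L23629
theorem L23631 : sm gd N3128 = N2848 := ded_24_1 L22100 L20030 L23627
theorem L23632 : sm gd N2848 = N3128 := flp_d L23631
theorem L23633 : sm gf N2407 = N3129 := rfl
theorem L23634 : sm gf N3129 = N2407 := flp_f L23633
theorem L23635 : sm gd N3129 = N2536 := ded_23_1 L20751 L20037 L23633
theorem L23636 : sm gd N2536 = N3129 := flp_d L23635
theorem L23637 : sm ge N3129 = N2408 := ded_25_1 L20039 L20032 L23633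
theorem L23638 : sm ge N2408 = N3129 := flp_e L23637
theorem L23639 : sm gg N2407 = N3130 := rfl
theorem L23640 : sm gg N3130 = N2407 := flp_g L23639
theorem L23641 : sm gd N3130 = N2537 := ded_24_1 L20755 L20037 L23639
theorem L23642 : sm gd N2537 = N3130 := flp_d L23641
theorem L23643 : sm ge N3130 = N2409 := ded_26_1 L20043 L20032 L23639
theorem L23644 : sm ge N2409 = N3130 := flp_e L23643
theorem L23645 : sm gb N2408 = N3131 := rfl
theorem L23646 : sm gb N3131 = N2408 := flp_b L23645
theorem L23647 : sm gd N3131 = N2410 := ded_14_2 L20047 L20041 L23645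
theorem L23648 : sm gd N2410 = N3131 := flp_d L23647
theorem L23649 : sm gf N3131 = N2416 := ded_16_2 L20093 L10149 L10131 L20038 L23645
theorem L23650 : sm gf N2416 = N3131 := flp_f L23649
theorem L23651 : sm gg N2408 = N3132 := rfl
theorem L23652 : sm gg N3132 = N2408 := flp_g L23651
theorem L23653 : sm gd N3132 = N2411 := ded_24_1 L20053 L20041 L23651
theorem L23654 : sm gd N2411 = N3132 := flp_d L23653
theorem L23655 : sm gf N3124 = N3132 := ded_29_0 L23652 L20039 L20042 L23610
theorem L23657 : sm gb N2409 = N3133 := rfl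
theorem L23658 : sm gb N3133 = N2409 := flp_b L23657
theorem L23659 : sm gd N3133 = N2412 := ded_14_2 L20059 L20045 L23657
theorem L23660 : sm gd N2412 = N3133 := flp_d L23659
theorem L23661 : sm gg N3133 = N2417 := ded_17_2 L20097 L10157 L10131 L20042 L23657
theorem L23662 : sm gg N2417 = N3133 := flp_g L23661
theorem L23663 : sm gf N2409 = N3134 := rfl
theorem L23664 : sm gf N3134 = N2409 := flp_f L23663
theorem L23667 : sm gd N3134 = N2413 := ded_23_1 L20065 L20045 L23663
theorem L23668 : sm gd N2413 = N3134 := flp_d L23667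
theorem L23669 : sm gg N3134 = N3123 := ded_29_3 L23603 L20039 L20042 L23663
theorem L23670 : sm gg N3123 = N3134 := flp_g L23669
theorem L23671 : sm ga N2410 = N3135 := rfl
theorem L23672 : sm ga N3135 = N2410 := flp_a L23671
theorem L23673 : sm ge N3135 = N2542 := ded_10_2 L20785 L20049 L23671
theorem L23674 : sm ge N2542 = N3135 := flp_e L23673
theorem L23675 : sm gf N3135 = N2418 := ded_11_2 L20101 L20051 L23671
theorem L23676 : sm gf N2418 = N3135 := flp_f L23675
theorem L23677 : sm gc N2410 = N3136 := rfl
theorem L23678 : sm gc N3136 = N2410 := flp_c L23677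
theorem L23679 : sm ge N3136 = N2543 := ded_19_2 L20789 L20049 L23677
theorem L23680 : sm ge N2543 = N3136 := flp_e L23679
theorem L23681 : sm gf N3136 = N2419 := ded_20_2 L20105 L20051 L23677
theorem L23682 : sm gf N2419 = N3136 := flp_f L23681
theorem L23683 : sm gg N2410 = N3137 := rfl
theorem L23684 : sm gg N3137 = N2410 := flp_g L23683
theorem L23685 : sm ge N3137 = N2544 := ded_26_1 L20793 L20049 L23683
theorem L23686 : sm ge N2544 = N3137 := flp_e L23685
theorem L23687 : sm gb N2411 = N3138 := rfl
theorem L23688 : sm gb N3138 = N2411 := flp_b L23687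
theorem L23689 : sm ge N3138 = N2545 := ded_15_2 L20795 L20055 L23687
theorem L23690 : sm ge N2545 = N3138 := flp_e L23689
theorem L23691 : sm ga N2412 = N3139 := rfl
theorem L23692 : sm ga N3139 = N2412 := flp_a L23691
theorem L23693 : sm ge N3139 = N2546 := ded_10_2 L20797 L20061 L23691
theorem L23694 : sm ge N2546 = N3139 := flp_e L23693
theorem L23695 : sm gg N3139 = N2421 := ded_12_2 L20115 L20063 L23691
theorem L23696 : sm gg N2421 = N3139 := flp_g L23695
theorem L23697 : sm gf N2412 = N3140 := rfl
theorem L23698 : sm gf N3140 = N2412 := flp_f L23697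
theorem L23699 : sm ge N3140 = N2547 := ded_25_1 L20801 L20061 L23697
theorem L23700 : sm ge N2547 = N3140 := flp_e L23699
theorem L23701 : sm gb N2413 = N3141 := rfl
theorem L23702 : sm gb N3141 = N2413 := flp_b L23701
theorem L23703 : sm ge N3141 = N2548 := ded_15_2 L20803 L20069 L23701
theorem L23704 : sm ge N2548 = N3141 := flp_e L23703
theorem L23705 : sm gb N2414 = N3142 := rfl
theorem L23706 : sm gb N3142 = N2414 := flp_b L23705
theorem L23707 : sm gd N3142 = N2549 := ded_14_2 L20805 L20079 L23705
theorem L23708 : sm gd N2549 = N3142 := flp_d L23707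
theorem L23709 : sm ge N3142 = N2416 := ded_15_2 L20093 L20081 L23705
theorem L23710 : sm ge N2416 = N3142 := flp_e L23709
theorem L23711 : sm gb N2415 = N3143 := rfl
theorem L23712 : sm gb N3143 = N2415 := flp_b L23711
theorem L23713 : sm gd N3143 = N2550 := ded_14_2 L20809 L20089 L23711
theorem L23714 : sm gd N2550 = N3143 := flp_d L23713
theorem L23715 : sm ge N3143 = N2417 := ded_15_2 L20097 L20091 L23711
theorem L23716 : sm ge N2417 = N3143 := flp_e L23715
theorem L23717 : sm ga N2416 = N3144 := rfl
theorem L23718 : sm ga N3144 = N2416 := flp_a L23717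
theorem L23719 : sm gd N3144 = N2418 := ded_9_2 L20101 L20095 L23717
theorem L23720 : sm gd N2418 = N3144 := flp_d L23719
theorem L23721 : sm gc N2416 = N3145 := rfl
theorem L23722 : sm gc N3145 = N2416 := flp_c L23721
theorem L23723 : sm gb N3145 = N2970 := ded_13_1 L22832 L19623 L10153 L20092 L23721
theorem L23724 : sm gb N2970 = N3145 := flp_b L23723
theorem L23725 : sm gg N2416 = N3146 := rfl
theorem L23726 : sm gg N3146 = N2416 := flp_g L23725
theorem L23727 : sm gd N3146 = N2420 := ded_24_1 L20111 L20095 L23725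
theorem L23728 : sm gd N2420 = N3146 := flp_d L23727
theorem L23729 : sm ga N2417 = N3147 := rfl
theorem L23730 : sm ga N3147 = N2417 := flp_a L23729
theorem L23731 : sm gd N3147 = N2421 := ded_9_2 L20115 L20099 L23729
theorem L23732 : sm gd N2421 = N3147 := flp_d L23731
theorem L23733 : sm gc N2417 = N3148 := rfl
theorem L23734 : sm gc N3148 = N2417 := flp_c L23733
theorem L23735 : sm gb N3148 = N2974 := ded_13_1 L22846 L19635 L10161 L20096 L23733
theorem L23736 : sm gb N2974 = N3148 := flp_b L23735
theorem L23737 : sm gf N2417 = N3149 := rfl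
theorem L23738 : sm gf N3149 = N2417 := flp_f L23737
theorem L23739 : sm gd N3149 = N2422 := ded_23_1 L20119 L20099 L23737
theorem L23740 : sm gd N2422 = N3149 := flp_d L23739
theorem L23741 : sm gb N2418 = N3150 := rfl
theorem L23742 : sm gb N3150 = N2418 := flp_b L23741
theorem L23743 : sm ge N3150 = N2557 := ded_15_2 L20837 L20103 L23741
theorem L23744 : sm ge N2557 = N3150 := flp_e L23743
theorem L23745 : sm gc N2418 = N3151 := rfl
theorem L23746 : sm gc N3151 = N2418 := flp_c L23745
theorem L23747 : sm ga N3151 = N2419 := ded_8_1 L20105 L20100 L23745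
theorem L23748 : sm ga N2419 = N3151 := flp_a L23747
theorem L23749 : sm ge N3151 = N2558 := ded_19_2 L20839 L20103 L23745
theorem L23750 : sm ge N2558 = N3151 := flp_e L23749
theorem L23751 : sm gg N2418 = N3152 := rfl
theorem L23752 : sm gg N3152 = N2418 := flp_g L23751
theorem L23753 : sm ga N3152 = N2420 := ded_12_1 L20111 L20100 L23751
theorem L23754 : sm ga N2420 = N3152 := flp_a L23753
theorem L23755 : sm ge N3152 = N2559 := ded_26_1 L20843 L20103 L23751
theorem L23756 : sm ge N2559 = N3152 := flp_e L23755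
theorem L23757 : sm gf N3152 = N3137 := ded_29_2 L23684 L23671 L23675 L23751
theorem L23758 : sm gf N3137 = N3152 := flp_f L23757
theorem L23759 : sm gd N2419 = N3153 := rfl
theorem L23760 : sm gd N3153 = N2419 := flp_d L23759
theorem L23761 : sm gb N3153 = N2424 := ded_14_1 L20129 L20109 L23759
theorem L23762 : sm gb N2424 = N3153 := flp_b L23761
theorem L23763 : sm gg N2419 = N3154 := rfl
theorem L23764 : sm gg N3154 = N2419 := flp_g L23763
theorem L23765 : sm gc N3154 = N2420 := ded_21_1 L20111 L20104 L23763
theorem L23766 : sm gc N2420 = N3154 := flp_c L23765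
theorem L23767 : sm ge N3154 = N2561 := ded_26_1 L20853 L20107 L23763
theorem L23768 : sm ge N2561 = N3154 := flp_e L23767
theorem L23769 : sm gf N2420 = N3155 := rfl
theorem L23770 : sm gf N3155 = N2420 := flp_f L23769
theorem L23771 : sm ga N3155 = N3137 := ded_11_1 L23758 L23753 L23769
theorem L23772 : sm ga N3137 = N3155 := flp_a L23771
theorem L23773 : sm ge N3155 = N2562 := ded_25_1 L20857 L20113 L23769
theorem L23774 : sm ge N2562 = N3155 := flp_e L23773
theorem L23775 : sm gg N3155 = N3135 := ded_29_3 L23672 L20050 L20110 L23769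
theorem L23776 : sm gg N3135 = N3155 := flp_g L23775
theorem L23777 : sm gb N2421 = N3156 := rfl
theorem L23778 : sm gb N3156 = N2421 := flp_b L23777
theorem L23779 : sm ge N3156 = N2563 := ded_15_2 L20863 L20117 L23777
theorem L23780 : sm ge N2563 = N3156 := flp_e L23779
theorem L23781 : sm gf N2421 = N3157 := rfl
theorem L23782 : sm gf N3157 = N2421 := flp_f L23781
theorem L23783 : sm ga N3157 = N2422 := ded_11_1 L20119 L20114 L23781
theorem L23784 : sm ga N2422 = N3157 := flp_a L23783
theorem L23785 : sm ge N3157 = N2564 := ded_25_1 L20865 L20117 L23781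
theorem L23786 : sm ge N2564 = N3157 := flp_e L23785
theorem L23787 : sm gg N3140 = N3157 := ded_29_1 L23782 L23696 L23692 L23697
theorem L23788 : sm gg N3157 = N3140 := flp_g L23787
theorem L23789 : sm gg N2422 = N3158 := rfl
theorem L23790 : sm gg N3158 = N2422 := flp_g L23789
theorem L23791 : sm ga N3158 = N3140 := ded_12_1 L23787 L23783 L23789
theorem L23793 : sm ge N3158 = N2565 := ded_26_1 L20871 L20121 L23789
theorem L23794 : sm ge N2565 = N3158 := flp_e L23793
theorem L23795 : sm gf N3139 = N3158 := ded_29_0 L23790 L20119 L20063 L23691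
theorem L23797 : sm gb N2423 = N3159 := rfl
theorem L23798 : sm gb N3159 = N2423 := flp_b L23797
theorem L23799 : sm ge N3159 = N2567 := ded_15_2 L20887 L20127 L23797
theorem L23800 : sm ge N2567 = N3159 := flp_e L23799
theorem L23801 : sm gc N3159 = N3028 := ded_13_2 L23146 L19783 L18545 L20122 L23797
theorem L23802 : sm gc N3028 = N3159 := flp_c L23801
theorem L23803 : sm gd N2423 = N3160 := rfl
theorem L23804 : sm gd N3160 = N2423 := flp_d L23803
theorem L23805 : sm ga N3160 = N2424 := ded_9_1 L20129 L20125 L23803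
theorem L23806 : sm ga N2424 = N3160 := flp_a L23805
theorem L23807 : sm ge N2424 = N3161 := rfl
theorem L23808 : sm ge N3161 = N2424 := flp_e L23807
theorem L23809 : sm gd N3161 = N2570 := ded_22_1 L20895 L18656 L10181 L20128 L23807
theorem L23810 : sm gd N2570 = N3161 := flp_d L23809
theorem L23811 : sm gg N2424 = N3162 := rfl
theorem L23812 : sm gg N3162 = N2424 := flp_g L23811
theorem L23813 : sm gc N3162 = N2489 := ded_21_1 L22292 L22293 L23811
theorem L23814 : sm gc N2489 = N3162 := flp_c L23813
theorem L23815 : sm gd N3162 = N2425 := ded_24_1 L20131 L20128 L23811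
theorem L23816 : sm gd N2425 = N3162 := flp_d L23815
theorem L23817 : sm gb N2425 = N3163 := rfl
theorem L23818 : sm gb N3163 = N2425 := flp_b L23817
theorem L23819 : sm ge N3163 = N2572 := ded_15_2 L20901 L20135 L23817
theorem L23820 : sm ge N2572 = N3163 := flp_e L23819
theorem L23821 : sm gb N2426 = N3164 := rfl
theorem L23822 : sm gb N3164 = N2426 := flp_b L23821
theorem L23823 : sm ge N3164 = N3102 := ded_15_2 L23472 L20141 L23821
theorem L23824 : sm ge N3102 = N3164 := flp_e L23823
theorem L23825 : sm gc N3164 = N2992 := ded_13_2 L22920 L19669 L18549 L20136 L23821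
theorem L23826 : sm gc N2992 = N3164 := flp_c L23825
theorem L23827 : sm gd N2426 = N3165 := rfl
theorem L23828 : sm gd N3165 = N2426 := flp_d L23827
theorem L23829 : sm ga N3165 = N2877 := ded_9_1 L22288 L20139 L23827
theorem L23830 : sm ga N2877 = N3165 := flp_a L23829
theorem L23831 : sm gf N3165 = N3160 := ded_23_2 L23804 L20143 L23827
theorem L23832 : sm gf N3160 = N3165 := flp_f L23831
theorem L23833 : sm gc N3160 = N3165 := ded_28_0 L23828 L20137 L10223 L5005 L4989 L10178 L20128 L23806
theorem L23834 : sm gc N3165 = N3160 := flp_c L23833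
theorem L23835 : sm gc N2427 = N3166 := rfl
theorem L23836 : sm gc N3166 = N2427 := flp_c L23835
theorem L23837 : sm ga N3166 = N2428 := ded_8_1 L20149 L20144 L23835
theorem L23839 : sm ge N3166 = N2582 := ded_19_2 L20951 L20147 L23835
theorem L23841 : sm gd N2427 = N3167 := rfl
theorem L23842 : sm gd N3167 = N2427 := flp_d L23841
theorem L23843 : sm ga N3167 = N2429 := ded_9_1 L20155 L20144 L23841
theorem L23844 : sm ga N2429 = N3167 := flp_a L23843
theorem L23845 : sm gf N2427 = N3168 := rfl
theorem L23846 : sm gf N3168 = N2427 := flp_f L23845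
theorem L23847 : sm ga N3168 = N2430 := ded_11_1 L20159 L20144 L23845
theorem L23848 : sm ga N2430 = N3168 := flp_a L23847
theorem L23851 : sm gg N2427 = N3169 := rfl
theorem L23852 : sm gg N3169 = N2427 := flp_g L23851
theorem L23853 : sm ga N3169 = N2431 := ded_12_1 L20163 L20144 L23851
theorem L23854 : sm ga N2431 = N3169 := flp_a L23853
theorem L23855 : sm ge N3169 = N2585 := ded_26_1 L20963 L20147 L23851
theorem L23856 : sm ge N2585 = N3169 := flp_e L23855
theorem L23857 : sm gd N2428 = N3170 := rfl
theorem L23858 : sm gd N3170 = N2428 := flp_d L23857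
theorem L23859 : sm gb N3170 = N2502 := ded_14_1 L20577 L20153 L23857
theorem L23861 : sm gf N2428 = N3171 := rfl
theorem L23862 : sm gf N3171 = N2428 := flp_f L23861
theorem L23863 : sm gc N3171 = N2430 := ded_20_1 L20159 L20148 L23861
theorem L23864 : sm gc N2430 = N3171 := flp_c L23863
theorem L23865 : sm ge N3171 = N2587 := ded_25_1 L20971 L20151 L23861
theorem L23866 : sm ge N2587 = N3171 := flp_e L23865
theorem L23867 : sm gg N2428 = N3172 := rfl
theorem L23868 : sm gg N3172 = N2428 := flp_g L23867
theorem L23869 : sm gc N3172 = N2431 := ded_21_1 L20163 L20148 L23867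
theorem L23870 : sm gc N2431 = N3172 := flp_c L23869
theorem L23871 : sm ge N3172 = N2588 := ded_26_1 L20975 L20151 L23867
theorem L23872 : sm ge N2588 = N3172 := flp_e L23871
theorem L23873 : sm gc N2429 = N3173 := rfl
theorem L23874 : sm gc N3173 = N2429 := flp_c L23873
theorem L23875 : sm gb N3173 = N2810 := ded_13_1 L21925 L20734 L18744 L20157 L23873
theorem L23877 : sm gd N2809 = N3173 := ded_14_0 L23875 L21922 L21917
theorem L23878 : sm gd N3173 = N2809 := flp_d L23877
theorem L23879 : sm ge N2429 = N3174 := rfl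
theorem L23881 : sm gb N3174 = N2432 := ded_15_1 L20167 L20157 L23879
theorem L23882 : sm gb N2432 = N3174 := flp_b L23881
theorem L23883 : sm gd N3174 = N2590 := ded_22_1 L20981 L18706 L10306 L20154 L23879
theorem L23884 : sm gd N2590 = N3174 := flp_d L23883
theorem L23885 : sm gf N2429 = N3175 := rfl
theorem L23886 : sm gf N3175 = N2429 := flp_f L23885
theorem L23887 : sm gd N3175 = N2430 := ded_23_1 L20159 L20154 L23885
theorem L23888 : sm gd N2430 = N3175 := flp_d L23887
theorem L23889 : sm gg N2429 = N3176 := rfl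
theorem L23890 : sm gg N3176 = N2429 := flp_g L23889
theorem L23891 : sm gd N3176 = N2431 := ded_24_1 L20163 L20154 L23889
theorem L23892 : sm gd N2431 = N3176 := flp_d L23891
theorem L23893 : sm gb N2430 = N3177 := rfl
theorem L23894 : sm gb N3177 = N2430 := flp_b L23893
theorem L23895 : sm ge N3177 = N2593 := ded_15_2 L20993 L20161 L23893
theorem L23896 : sm ge N2593 = N3177 := flp_e L23895
theorem L23897 : sm gf N3177 = N2435 := ded_16_2 L20185 L10312 L10303 L20158 L23893
theorem L23898 : sm gf N2435 = N3177 := flp_f L23897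
theorem L23899 : sm gg N2430 = N3178 := rfl
theorem L23900 : sm gg N3178 = N2430 := flp_g L23899
theorem L23903 : sm gf N3169 = N3178 := ded_29_0 L23900 L20159 L20162 L23854
theorem L23905 : sm gb N2431 = N3179 := rfl
theorem L23906 : sm gb N3179 = N2431 := flp_b L23905
theorem L23907 : sm ge N3179 = N2595 := ded_15_2 L21001 L20165 L23905
theorem L23908 : sm ge N2595 = N3179 := flp_e L23907
theorem L23909 : sm gg N3179 = N2436 := ded_17_2 L20189 L10320 L10303 L20162 L23905
theorem L23910 : sm gg N2436 = N3179 := flp_g L23909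
theorem L23911 : sm gf N2431 = N3180 := rfl
theorem L23915 : sm ge N3180 = N2596 := ded_25_1 L21005 L20165 L23911
theorem L23916 : sm ge N2596 = N3180 := flp_e L23915
theorem L23919 : sm gf N2432 = N3181 := rfl
theorem L23920 : sm gf N3181 = N2432 := flp_f L23919
theorem L23921 : sm ga N3181 = N2441 := ded_11_1 L20209 L20169 L23919
theorem L23922 : sm ga N2441 = N3181 := flp_a L23921
theorem L23923 : sm gd N3181 = N2601 := ded_23_1 L21037 L20171 L23919
theorem L23924 : sm gd N2601 = N3181 := flp_d L23923
theorem L23925 : sm ge N3181 = N2433 := ded_25_1 L20173 L20166 L23919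
theorem L23926 : sm ge N2433 = N3181 := flp_e L23925
theorem L23927 : sm gg N2432 = N3182 := rfl
theorem L23928 : sm gg N3182 = N2432 := flp_g L23927
theorem L23929 : sm ga N3182 = N2442 := ded_12_1 L20215 L20169 L23927
theorem L23930 : sm ga N2442 = N3182 := flp_a L23929
theorem L23931 : sm gd N3182 = N2602 := ded_24_1 L21043 L20171 L23927
theorem L23932 : sm gd N2602 = N3182 := flp_d L23931
theorem L23933 : sm ge N3182 = N2434 := ded_26_1 L20179 L20166 L23927
theorem L23934 : sm ge N2434 = N3182 := flp_e L23933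
theorem L23935 : sm gb N2433 = N3183 := rfl
theorem L23936 : sm gb N3183 = N2433 := flp_b L23935
theorem L23937 : sm gd N3183 = N2435 := ded_14_2 L20185 L20177 L23935
theorem L23938 : sm gd N2435 = N3183 := flp_d L23937
theorem L23939 : sm gb N2434 = N3184 := rfl
theorem L23940 : sm gb N3184 = N2434 := flp_b L23939
theorem L23941 : sm gd N3184 = N2436 := ded_14_2 L20189 L20183 L23939
theorem L23942 : sm gd N2436 = N3184 := flp_d L23941
theorem L23943 : sm ga N2435 = N3185 := rfl
theorem L23944 : sm ga N3185 = N2435 := flp_a L23943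
theorem L23945 : sm ge N3185 = N2605 := ded_10_2 L21057 L20187 L23943
theorem L23946 : sm ge N2605 = N3185 := flp_e L23945
theorem L23947 : sm gc N2435 = N3186 := rfl
theorem L23948 : sm gc N3186 = N2435 := flp_c L23947
theorem L23949 : sm ge N3186 = N2606 := ded_19_2 L21059 L20187 L23947
theorem L23950 : sm ge N2606 = N3186 := flp_e L23949
theorem L23951 : sm gb N3186 = N2510 := ded_13_1 L20631 L10658 L10316 L20184 L23947
theorem L23952 : sm gb N2510 = N3186 := flp_b L23951
theorem L23957 : sm ga N2436 = N3188 := rfl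
theorem L23958 : sm ga N3188 = N2436 := flp_a L23957
theorem L23959 : sm ge N3188 = N2608 := ded_10_2 L21065 L20191 L23957
theorem L23960 : sm ge N2608 = N3188 := flp_e L23959
theorem L23961 : sm gc N2436 = N3189 := rfl
theorem L23962 : sm gc N3189 = N2436 := flp_c L23961
theorem L23965 : sm gb N3189 = N2513 := ded_13_1 L20647 L10664 L10324 L20188 L23961
theorem L23966 : sm gb N2513 = N3189 := flp_b L23965
theorem L23967 : sm gf N2436 = N3190 := rfl
theorem L23968 : sm gf N3190 = N2436 := flp_f L23967
theorem L23969 : sm ge N3190 = N2610 := ded_25_1 L21071 L20191 L23967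
theorem L23971 : sm gf N2437 = N3191 := rfl
theorem L23972 : sm gf N3191 = N2437 := flp_f L23971
theorem L23973 : sm gc N3191 = N2455 := ded_20_1 L20285 L20195 L23971
theorem L23974 : sm gc N2455 = N3191 := flp_c L23973
theorem L23975 : sm gg N2437 = N3192 := rfl
theorem L23976 : sm gg N3192 = N2437 := flp_g L23975
theorem L23977 : sm gc N3192 = N2456 := ded_21_1 L20289 L20195 L23975
theorem L23978 : sm gc N2456 = N3192 := flp_c L23977
theorem L23979 : sm gf N2438 = N3193 := rfl
theorem L23980 : sm gf N3193 = N2438 := flp_f L23979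
theorem L23981 : sm gc N3193 = N2441 := ded_20_1 L20209 L20199 L23979
theorem L23982 : sm gc N2441 = N3193 := flp_c L23981
theorem L23983 : sm ge N3193 = N2439 := ded_25_1 L20201 L20196 L23979
theorem L23985 : sm gg N2438 = N3194 := rfl
theorem L23986 : sm gg N3194 = N2438 := flp_g L23985
theorem L23987 : sm gc N3194 = N2442 := ded_21_1 L20215 L20199 L23985
theorem L23988 : sm gc N2442 = N3194 := flp_c L23987
theorem L23989 : sm ge N3194 = N2440 := ded_26_1 L20205 L20196 L23985
theorem L23990 : sm ge N2440 = N3194 := flp_e L23989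
theorem L23991 : sm gb N2439 = N3195 := rfl
theorem L23992 : sm gb N3195 = N2439 := flp_b L23991
theorem L23993 : sm gg N2439 = N3196 := rfl
theorem L23994 : sm gg N3196 = N2439 := flp_g L23993
theorem L23995 : sm gc N3196 = N2444 := ded_21_1 L20227 L20203 L23993
theorem L23996 : sm gc N2444 = N3196 := flp_c L23995
theorem L23999 : sm gf N2613 = N3196 := ded_29_0 L23994 L20201 L20204 L21089
theorem L24001 : sm gb N2440 = N3197 := rfl
theorem L24002 : sm gb N3197 = N2440 := flp_b L24001
theorem L24003 : sm gf N2440 = N3198 := rfl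
theorem L24004 : sm gf N3198 = N2440 := flp_f L24003
theorem L24007 : sm gc N3198 = N2446 := ded_20_1 L20239 L20207 L24003
theorem L24008 : sm gc N2446 = N3198 := flp_c L24007
theorem L24009 : sm gd N3198 = N2618 := ded_23_1 L21115 L21034 L24003
theorem L24010 : sm gd N2618 = N3198 := flp_d L24009
theorem L24011 : sm gg N3198 = N2612 := ded_29_3 L21080 L20201 L20204 L24003
theorem L24012 : sm gg N2612 = N3198 := flp_g L24011
theorem L24013 : sm gb N2441 = N3199 := rfl
theorem L24014 : sm gb N3199 = N2441 := flp_b L24013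
theorem L24015 : sm gd N3199 = N2621 := ded_14_2 L21127 L20211 L24013
theorem L24016 : sm gd N2621 = N3199 := flp_d L24015
theorem L24017 : sm ge N3199 = N2443 := ded_15_2 L20221 L20213 L24013
theorem L24018 : sm ge N2443 = N3199 := flp_e L24017
theorem L24019 : sm gf N3199 = N2462 := ded_16_2 L20324 L10401 L10332 L20208 L24013
theorem L24020 : sm gf N2462 = N3199 := flp_f L24019
theorem L24021 : sm gg N2441 = N3200 := rfl
theorem L24022 : sm gg N3200 = N2441 := flp_g L24021
theorem L24023 : sm gd N3200 = N2622 := ded_24_1 L21133 L20211 L24021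
theorem L24024 : sm gd N2622 = N3200 := flp_d L24023
theorem L24025 : sm ge N3200 = N2444 := ded_26_1 L20227 L20213 L24021
theorem L24026 : sm ge N2444 = N3200 := flp_e L24025
theorem L24027 : sm gf N3182 = N3200 := ded_29_0 L24022 L20209 L20214 L23930
theorem L24028 : sm gf N3200 = N3182 := flp_f L24027
theorem L24029 : sm gb N2442 = N3201 := rfl
theorem L24030 : sm gb N3201 = N2442 := flp_b L24029
theorem L24031 : sm gd N3201 = N2623 := ded_14_2 L21139 L20217 L24029
theorem L24032 : sm gd N2623 = N3201 := flp_d L24031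
theorem L24033 : sm ge N3201 = N2445 := ded_15_2 L20233 L20219 L24029
theorem L24034 : sm ge N2445 = N3201 := flp_e L24033
theorem L24035 : sm gg N3201 = N2464 := ded_17_2 L20338 L10407 L10332 L20214 L24029
theorem L24036 : sm gg N2464 = N3201 := flp_g L24035
theorem L24037 : sm gf N2442 = N3202 := rfl
theorem L24038 : sm gf N3202 = N2442 := flp_f L24037
theorem L24039 : sm ga N3202 = N3200 := ded_11_1 L24028 L23929 L24037
theorem L24040 : sm ga N3200 = N3202 := flp_a L24039
theorem L24041 : sm gd N3202 = N2624 := ded_23_1 L21145 L20217 L24037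
theorem L24042 : sm gd N2624 = N3202 := flp_d L24041
theorem L24043 : sm ge N3202 = N2446 := ded_25_1 L20239 L20219 L24037
theorem L24044 : sm ge N2446 = N3202 := flp_e L24043
theorem L24045 : sm gg N3202 = N3181 := ded_29_3 L23921 L20209 L20214 L24037
theorem L24046 : sm gg N3181 = N3202 := flp_g L24045
theorem L24047 : sm ga N2443 = N3203 := rfl
theorem L24048 : sm ga N3203 = N2443 := flp_a L24047
theorem L24049 : sm gd N3203 = N2447 := ded_9_2 L20247 L20223 L24047
theorem L24050 : sm gd N2447 = N3203 := flp_d L24049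
theorem L24051 : sm gf N3203 = N2466 := ded_11_2 L20354 L20225 L24047
theorem L24052 : sm gf N2466 = N3203 := flp_f L24051
theorem L24053 : sm gc N2443 = N3204 := rfl
theorem L24054 : sm gc N3204 = N2443 := flp_c L24053
theorem L24055 : sm gf N3204 = N2467 := ded_20_2 L20358 L20225 L24053
theorem L24056 : sm gf N2467 = N3204 := flp_f L24055
theorem L24057 : sm gg N2443 = N3205 := rfl
theorem L24058 : sm gg N3205 = N2443 := flp_g L24057
theorem L24059 : sm gd N3205 = N2448 := ded_24_1 L20253 L20223 L24057
theorem L24060 : sm gd N2448 = N3205 := flp_d L24059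
theorem L24061 : sm gb N2444 = N3206 := rfl
theorem L24062 : sm gb N3206 = N2444 := flp_b L24061
theorem L24063 : sm gd N3206 = N2449 := ded_14_2 L20257 L20229 L24061
theorem L24064 : sm gd N2449 = N3206 := flp_d L24063
theorem L24065 : sm ga N2445 = N3207 := rfl
theorem L24066 : sm ga N3207 = N2445 := flp_a L24065
theorem L24067 : sm gd N3207 = N2450 := ded_9_2 L20261 L20235 L24065
theorem L24068 : sm gd N2450 = N3207 := flp_d L24067
theorem L24069 : sm gg N3207 = N2470 := ded_12_2 L20368 L20237 L24065
theorem L24070 : sm gg N2470 = N3207 := flp_g L24069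
theorem L24071 : sm gc N2445 = N3208 := rfl
theorem L24072 : sm gc N3208 = N2445 := flp_c L24071
theorem L24075 : sm gf N2445 = N3209 := rfl
theorem L24076 : sm gf N3209 = N2445 := flp_f L24075
theorem L24079 : sm gb N2446 = N3210 := rfl
theorem L24080 : sm gb N3210 = N2446 := flp_b L24079
theorem L24083 : sm gb N2447 = N3211 := rfl
theorem L24084 : sm gb N3211 = N2447 := flp_b L24083
theorem L24085 : sm ge N3211 = N2633 := ded_15_2 L21189 L20249 L24083
theorem L24086 : sm ge N2633 = N3211 := flp_e L24085
theorem L24087 : sm gb N2448 = N3212 := rfl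
theorem L24088 : sm gb N3212 = N2448 := flp_b L24087
theorem L24089 : sm ge N3212 = N2636 := ded_15_2 L21205 L20255 L24087
theorem L24090 : sm ge N2636 = N3212 := flp_e L24089
theorem L24091 : sm gg N3212 = N2449 := ded_17_2 L20257 L10350 L10343 L20252 L24087
theorem L24092 : sm gg N2449 = N3212 := flp_g L24091
theorem L24093 : sm ga N2449 = N3213 := rfl
theorem L24094 : sm ga N3213 = N2449 := flp_a L24093
theorem L24095 : sm ge N3213 = N2637 := ded_10_2 L21209 L20259 L24093
theorem L24096 : sm ge N2637 = N3213 := flp_e L24095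
theorem L24097 : sm gc N2449 = N3214 := rfl
theorem L24098 : sm gc N3214 = N2449 := flp_c L24097
theorem L24099 : sm ge N3214 = N2638 := ded_19_2 L21211 L20259 L24097
theorem L24100 : sm ge N2638 = N3214 := flp_e L24099
theorem L24101 : sm gb N3214 = N2516 := ded_13_1 L20663 L10670 L10352 L20256 L24097
theorem L24102 : sm gb N2516 = N3214 := flp_b L24101
theorem L24103 : sm gf N2449 = N3215 := rfl
theorem L24104 : sm gf N3215 = N2449 := flp_f L24103
theorem L24105 : sm ge N3215 = N2639 := ded_25_1 L21215 L20259 L24103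
theorem L24106 : sm ge N2639 = N3215 := flp_e L24105
theorem L24107 : sm gb N3215 = N3190 := ded_16_1 L23968 L20189 L10355 L20256 L24103
theorem L24108 : sm gb N3190 = N3215 := flp_b L24107
theorem L24109 : sm gb N2450 = N3216 := rfl
theorem L24110 : sm gb N3216 = N2450 := flp_b L24109
theorem L24111 : sm ge N3216 = N2640 := ded_15_2 L21219 L20264 L24109
theorem L24112 : sm ge N2640 = N3216 := flp_e L24111
theorem L24113 : sm gb N2451 = N3217 := rfl
theorem L24114 : sm gb N3217 = N2451 := flp_b L24113
theorem L24115 : sm ge N3217 = N2641 := ded_15_2 L21221 L20271 L24113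
theorem L24116 : sm ge N2641 = N3217 := flp_e L24115
theorem L24117 : sm gf N3217 = N2452 := ded_16_2 L20273 L10365 L10357 L20267 L24113
theorem L24118 : sm gf N2452 = N3217 := flp_f L24117
theorem L24119 : sm ga N2452 = N3218 := rfl
theorem L24120 : sm ga N3218 = N2452 := flp_a L24119
theorem L24121 : sm ge N3218 = N2642 := ded_10_2 L21225 L20275 L24119
theorem L24122 : sm ge N2642 = N3218 := flp_e L24121
theorem L24123 : sm gc N2452 = N3219 := rfl
theorem L24124 : sm gc N3219 = N2452 := flp_c L24123
theorem L24125 : sm ge N3219 = N2643 := ded_19_2 L21227 L20275 L24123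
theorem L24126 : sm ge N2643 = N3219 := flp_e L24125
theorem L24127 : sm gb N3219 = N2519 := ded_13_1 L20682 L10676 L10369 L20272 L24123
theorem L24128 : sm gb N2519 = N3219 := flp_b L24127
theorem L24129 : sm gg N2452 = N3220 := rfl
theorem L24130 : sm gg N3220 = N2452 := flp_g L24129
theorem L24131 : sm ge N3220 = N2644 := ded_26_1 L21231 L20275 L24129
theorem L24132 : sm ge N2644 = N3220 := flp_e L24131
theorem L24135 : sm gf N2453 = N3221 := rfl
theorem L24137 : sm ga N3221 = N2455 := ded_11_1 L20285 L20276 L24135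
theorem L24139 : sm gd N3221 = N2908 := ded_23_1 L22518 L20279 L24135
theorem L24140 : sm gd N2908 = N3221 := flp_d L24139
theorem L24141 : sm ge N3221 = N3191 := ded_25_1 L23972 L21956 L24135
theorem L24142 : sm ge N3191 = N3221 := flp_e L24141
theorem L24143 : sm gg N2453 = N3222 := rfl
theorem L24144 : sm gg N3222 = N2453 := flp_g L24143
theorem L24145 : sm ga N3222 = N2456 := ded_12_1 L20289 L20276 L24143
theorem L24146 : sm ga N2456 = N3222 := flp_a L24145
theorem L24147 : sm gd N3222 = N2909 := ded_24_1 L22522 L20279 L24143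
theorem L24148 : sm gd N2909 = N3222 := flp_d L24147
theorem L24149 : sm ge N3222 = N3192 := ded_26_1 L23976 L21956 L24143
theorem L24150 : sm ge N3192 = N3222 := flp_e L24149
theorem L24151 : sm gd N2454 = N3223 := rfl
theorem L24152 : sm gd N3223 = N2454 := flp_d L24151
theorem L24153 : sm ga N3223 = N2597 := ded_9_1 L21012 L21951 L24151
theorem L24154 : sm ga N2597 = N3223 := flp_a L24153
theorem L24155 : sm gb N3223 = N2457 := ded_14_1 L20293 L20283 L24151
theorem L24156 : sm gb N2457 = N3223 := flp_b L24155
theorem L24157 : sm ge N3223 = N2900 := ded_22_2 L22469 L19434 L10377 L20280 L24151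
theorem L24158 : sm ge N2900 = N3223 := flp_e L24157
theorem L24159 : N2080 = N3170 := coi_32_39 L23858 L20149 L10304 L10307 L18743 L18740 L5994 L2847 L1453 L806 L469 L292 L290 L149 L138 L133 L83 L38 L33 L35 L70 L110 L216 L345 L347 L17789 L236 L214 L131 L263 L398 L658 L654 L638 L636 L381 L276 L147 L146 L148 L300 L499 L769 L762 L735 L733 L644 L1127 L2138 L4399 L8871 L19277 L19273 L7716 L7868 L7870 L19148 L22315 L18747 L5997 L5124 L10383 L20292 L20298 L24156 L24157 L22469 L19436 L10377 L20195 L20193 L18717 L18714 L5978 L2843 L3060 L5287 L10641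
theorem L24160 : N3170 = N2080 := (eqc rfl L24159 rfl).symm
theorem L24161 : sm gb N2080 = N2502 := trf L24160 L23859 rfl
theorem L24162 : N2502 = N2428 := eqe L24161 L20153
theorem L24163 : N2502 = N2428 := eqc rfl L24162 rfl
theorem L24166 : sm gd N2428 = N2080 := trf L24163 L20577 rfl
theorem L24167 : sm gd N2080 = N2428 := flp_d L24166
theorem L24168 : sm gd N2499 = N3166 := ded_9_2 L23837 L24166 L20557
theorem L24170 : sm gd N2503 = N3171 := ded_23_3 L23862 L24166 L20578
theorem L24174 : N2741 = N2586 := coi_22_5 L20967 L20151 L24166 L10643 L19068 L21666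
theorem L24175 : N2741 = N2586 := eqc rfl L24174 rfl
theorem L24176 : sm ge N2586 = N2216 := trf L24175 L21667 rfl
theorem L24177 : sm ge N2216 = N2586 := flp_e L24176
theorem L24178 : N2735 = N3173 := coi_28_4 L23874 L20155 L20148 L24166 L20557 L20555 L10635 L19056 L21644
theorem L24179 : N3173 = N2735 := (eqc rfl L24178 rfl).symm
theorem L24180 : sm gb N2735 = N2810 := trf L24179 L23875 rfl
theorem L24184 : sm gd N2735 = N2809 := trf L24179 L23878 rfl
theorem L24185 : N2809 = N2213 := eqe L24184 L21645
theorem L24186 : N2809 = N2213 := eqc rfl L24185 rfl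
theorem L24187 : sm gb N2213 = N2248 := trf L24186 L21918 rfl
theorem L24188 : N2248 = N2734 := eqe L24187 L21642
theorem L24189 : N2734 = N2248 := (eqc rfl L24188 rfl).symm
theorem L24190 : sm ge N2213 = N2255 := trf L24186 L21919 rfl
theorem L24191 : N2255 = N2499 := eqe L24190 L20559
theorem L24192 : N2499 = N2255 := (eqc rfl L24191 rfl).symm
theorem L24193 : sm ga N2255 = N2080 := trf L24192 L20556 rfl
theorem L24194 : N2080 = N2824 := eqe L24193 L22017
theorem L24195 : N2824 = N2080 := (eqc rfl L24194 rfl).symm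
theorem L24196 : sm gc N2255 = N2079 := trf L24192 L20555 rfl
theorem L24197 : N2079 = N2825 := eqe L24196 L22019
theorem L24198 : N2825 = N2079 := (eqc rfl L24197 rfl).symm
theorem L24199 : sm gd N2255 = N3166 := trf L24192 L24168 rfl
theorem L24200 : N3166 = N2379 := eqe L24199 L19857
theorem L24201 : N3166 = N2379 := eqc rfl L24200 rfl
theorem L24202 : sm ge N2255 = N2213 := trf L24192 L20558 rfl
theorem L24204 : sm ga N2379 = N2428 := trf L24201 L23837 rfl
theorem L24205 : N2428 = N3072 := eqe L24204 L23317
theorem L24206 : N3072 = N2428 := (eqc rfl L24205 rfl).symm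
theorem L24207 : sm gc N2379 = N2427 := trf L24201 L23836 rfl
theorem L24208 : N2427 = N3073 := eqe L24207 L23323
theorem L24209 : N3073 = N2427 := (eqc rfl L24208 rfl).symm
theorem L24210 : sm ge N2379 = N2582 := trf L24201 L23839 rfl
theorem L24211 : N2582 = N2995 := eqe L24210 L22936
theorem L24212 : N2995 = N2582 := (eqc rfl L24211 rfl).symm
theorem L24213 : sm gb N2582 = N2341 := trf L24212 L22934 rfl
theorem L24214 : sm gb N2341 = N2582 := flp_b L24213
theorem L24215 : sm ge N2582 = N2379 := trf L24212 L22935 rfl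
theorem L24216 : sm ge N2379 = N2582 := flp_e L24215
theorem L24217 : sm gb N2427 = N2522 := trf L24209 L23325 rfl
theorem L24218 : N2522 = N3116 := eqe L24217 L23566
theorem L24219 : N3116 = N2522 := (eqc rfl L24218 rfl).symm
theorem L24220 : sm gc N2427 = N2379 := trf L24209 L23324 rfl
theorem L24221 : sm gc N2379 = N2427 := flp_c L24220
theorem L24222 : sm ga N2522 = N2402 := trf L24219 L23562 rfl
theorem L24223 : sm ga N2402 = N2522 := flp_a L24222
theorem L24224 : sm gb N2522 = N2427 := trf L24219 L23565 rfl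
theorem L24225 : sm gb N2427 = N2522 := flp_b L24224
theorem L24226 : sm ge N2522 = N2521 := trf L24219 L23563 rfl
theorem L24227 : N2521 = N3117 := eqe L24226 L23570
theorem L24228 : N3117 = N2521 := (eqc rfl L24227 rfl).symm
theorem L24229 : sm gc N2521 = N2402 := trf L24228 L23568 rfl
theorem L24230 : sm gc N2402 = N2521 := flp_c L24229
theorem L24231 : sm ge N2521 = N2522 := trf L24228 L23569 rfl
theorem L24233 : sm ga N2428 = N2379 := trf L24206 L23318 rfl
theorem L24234 : sm ga N2379 = N2428 := flp_a L24233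
theorem L24237 : sm gc N2079 = N2255 := trf L24198 L22020 rfl
theorem L24239 : sm ga N2080 = N2255 := trf L24195 L22018 rfl
theorem L24240 : sm ga N2255 = N2080 := flp_a L24239
theorem L24241 : sm gb N2248 = N2213 := trf L24189 L21643 rfl
theorem L24242 : sm gb N2213 = N2248 := flp_b L24241
theorem L24243 : N3167 = N2740 := coi_28_0 L21665 L19069 L6450 L5287 L10641 L24167 L20149 L20154 L23844
theorem L24244 : N3167 = N2740 := eqc rfl L24243 rfl
theorem L24245 : sm ga N2740 = N2429 := trf L24244 L23843 rfl
theorem L24246 : sm ga N2429 = N2740 := flp_a L24245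
theorem L24247 : sm gd N2740 = N2427 := trf L24244 L23842 rfl
theorem L24248 : sm gd N2427 = N2740 := flp_d L24247
theorem L24249 : sm ge N2736 = N2826 := ded_25_3 L22022 L24202 L21648
theorem L24250 : sm ge N2826 = N2736 := flp_e L24249
theorem L24251 : sm ge N2737 = N2827 := ded_26_3 L22024 L24202 L21654
theorem L24253 : sm gc N3074 = N3168 := ded_20_3 L23846 L24220 L23327
theorem L24254 : sm gc N3168 = N3074 := flp_c L24253
theorem L24257 : sm ga N3074 = N3171 := ded_11_3 L23862 L24233 L23327
theorem L24258 : sm ga N3171 = N3074 := flp_a L24257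
theorem L24259 : sm ga N3075 = N3172 := ded_12_3 L23868 L24233 L23331
theorem L24261 : sm gc N2826 = N2500 := ded_20_3 L20561 L24237 L22021
theorem L24262 : sm gc N2500 = N2826 := flp_c L24261
theorem L24263 : sm gc N2827 = N2501 := ded_21_3 L20569 L24237 L22023
theorem L24264 : sm gc N2501 = N2827 := flp_c L24263
theorem L24265 : sm ga N2826 = N2503 := ded_11_3 L20579 L24239 L22021
theorem L24267 : sm ga N2827 = N2504 := ded_12_3 L20585 L24239 L22023
theorem L24268 : sm ga N2504 = N2827 := flp_a L24267
theorem L24269 : sm gf N2454 = N3224 := rfl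
theorem L24270 : sm gf N3224 = N2454 := flp_f L24269
theorem L24275 : sm ge N3224 = N2455 := ded_25_1 L20285 L20280 L24269
theorem L24277 : sm gg N2454 = N3225 := rfl
theorem L24278 : sm gg N3225 = N2454 := flp_g L24277
theorem L24279 : sm ga N3225 = N3192 := ded_12_1 L23976 L21951 L24277
theorem L24280 : sm ga N3192 = N3225 := flp_a L24279
theorem L24283 : sm ge N3225 = N2456 := ded_26_1 L20289 L20280 L24277
theorem L24284 : sm ge N2456 = N3225 := flp_e L24283
theorem L24285 : sm gb N2455 = N3226 := rfl
theorem L24286 : sm gb N3226 = N2455 := flp_b L24285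
theorem L24287 : sm gd N3226 = N2910 := ded_14_2 L22526 L20287 L24285
theorem L24288 : sm gd N2910 = N3226 := flp_d L24287
theorem L24289 : sm gf N3226 = N2460 := ded_16_2 L20316 L10385 L10374 L20284 L24285
theorem L24290 : sm gf N2460 = N3226 := flp_f L24289
theorem L24291 : sm gg N2455 = N3227 := rfl
theorem L24292 : sm gg N3227 = N2455 := flp_g L24291
theorem L24293 : sm gd N3227 = N2911 := ded_24_1 L22530 L20287 L24291
theorem L24294 : sm gd N2911 = N3227 := flp_d L24293
theorem L24295 : sm gf N3222 = N3227 := ded_29_0 L24292 L20285 L20288 L24146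
theorem L24296 : sm gf N3227 = N3222 := flp_f L24295
theorem L24297 : sm gb N2456 = N3228 := rfl
theorem L24298 : sm gb N3228 = N2456 := flp_b L24297
theorem L24299 : sm gd N3228 = N2912 := ded_14_2 L22534 L20291 L24297
theorem L24300 : sm gd N2912 = N3228 := flp_d L24299
theorem L24301 : sm gg N3228 = N2461 := ded_17_2 L20320 L10393 L10374 L20288 L24297
theorem L24302 : sm gg N2461 = N3228 := flp_g L24301
theorem L24303 : sm gf N2456 = N3229 := rfl
theorem L24305 : sm ga N3229 = N3227 := ded_11_1 L24296 L24145 L24303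
theorem L24306 : sm ga N3227 = N3229 := flp_a L24305
theorem L24307 : sm gd N3229 = N2913 := ded_23_1 L22538 L20291 L24303
theorem L24308 : sm gd N2913 = N3229 := flp_d L24307
theorem L24309 : sm gg N3229 = N3221 := ded_29_3 L24137 L20285 L20288 L24303
theorem L24311 : sm gf N2457 = N3230 := rfl
theorem L24312 : sm gf N3230 = N2457 := flp_f L24311
theorem L24313 : sm ga N3230 = N2934 := ded_11_1 L22650 L20295 L24311
theorem L24314 : sm ga N2934 = N3230 := flp_a L24313
theorem L24315 : sm gc N3230 = N3230 := ded_20_1 L24312 L20298 L24311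
theorem L24316 : sm gd N3230 = N2458 := ded_23_1 L20300 L20292 L24311
theorem L24317 : sm gd N2458 = N3230 := flp_d L24316
theorem L24318 : sm ge N3230 = N2903 := ded_25_1 L22485 L20297 L24311
theorem L24319 : sm ge N2903 = N3230 := flp_e L24318
theorem L24320 : sm gg N2457 = N3231 := rfl
theorem L24321 : sm gg N3231 = N2457 := flp_g L24320
theorem L24322 : sm ga N3231 = N2935 := ded_12_1 L22657 L20295 L24320
theorem L24323 : sm ga N2935 = N3231 := flp_a L24322
theorem L24324 : sm gc N3231 = N3231 := ded_21_1 L24321 L20298 L24320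
theorem L24325 : sm gd N3231 = N2459 := ded_24_1 L20308 L20292 L24320
theorem L24326 : sm gd N2459 = N3231 := flp_d L24325
theorem L24327 : sm ge N3231 = N2904 := ded_26_1 L22492 L20297 L24320
theorem L24328 : sm ge N2904 = N3231 := flp_e L24327
theorem L24329 : sm gb N2458 = N3232 := rfl
theorem L24330 : sm gb N3232 = N2458 := flp_b L24329
theorem L24331 : sm ge N3232 = N2460 := ded_15_2 L20316 L20306 L24329
theorem L24332 : sm ge N2460 = N3232 := flp_e L24331
theorem L24333 : sm gb N2459 = N3233 := rfl
theorem L24334 : sm gb N3233 = N2459 := flp_b L24333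
theorem L24335 : sm ge N3233 = N2461 := ded_15_2 L20320 L20314 L24333
theorem L24336 : sm ge N2461 = N3233 := flp_e L24335
theorem L24337 : sm ga N2460 = N3234 := rfl
theorem L24338 : sm ga N3234 = N2460 := flp_a L24337
theorem L24339 : sm gd N3234 = N2914 := ded_9_2 L22544 L20318 L24337
theorem L24340 : sm gd N2914 = N3234 := flp_d L24339
theorem L24341 : sm gc N2460 = N3235 := rfl
theorem L24342 : sm gc N3235 = N2460 := flp_c L24341
theorem L24343 : sm gb N3235 = N2467 := ded_13_1 L20358 L10413 L10389 L20315 L24341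
theorem L24344 : sm gb N2467 = N3235 := flp_b L24343
theorem L24345 : sm gg N2460 = N3236 := rfl
theorem L24346 : sm gg N3236 = N2460 := flp_g L24345
theorem L24349 : sm ga N2461 = N3237 := rfl
theorem L24350 : sm ga N3237 = N2461 := flp_a L24349
theorem L24353 : sm gc N2461 = N3238 := rfl
theorem L24354 : sm gc N3238 = N2461 := flp_c L24353
theorem L24361 : sm ga N2462 = N3240 := rfl
theorem L24362 : sm ga N3240 = N2462 := flp_a L24361
theorem L24363 : sm gd N3240 = N2645 := ded_9_2 L21235 L20326 L24361
theorem L24364 : sm gd N2645 = N3240 := flp_d L24363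
theorem L24365 : sm ge N3240 = N2466 := ded_10_2 L20354 L20328 L24361
theorem L24366 : sm ge N2466 = N3240 := flp_e L24365
theorem L24367 : sm gc N2462 = N3241 := rfl
theorem L24368 : sm gc N3241 = N2462 := flp_c L24367
theorem L24369 : sm ge N3241 = N2467 := ded_19_2 L20358 L20328 L24367
theorem L24370 : sm ge N2467 = N3241 := flp_e L24369
theorem L24371 : sm gg N2462 = N3242 := rfl
theorem L24372 : sm gg N3242 = N2462 := flp_g L24371
theorem L24373 : sm gd N3242 = N2647 := ded_24_1 L21243 L20326 L24371
theorem L24374 : sm gd N2647 = N3242 := flp_d L24373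
theorem L24375 : sm ge N3242 = N2468 := ded_26_1 L20360 L20328 L24371
theorem L24376 : sm ge N2468 = N3242 := flp_e L24375
theorem L24377 : sm gb N2463 = N3243 := rfl
theorem L24378 : sm gb N3243 = N2463 := flp_b L24377
theorem L24379 : sm gd N3243 = N2648 := ded_14_2 L21247 L20332 L24377
theorem L24380 : sm gd N2648 = N3243 := flp_d L24379
theorem L24381 : sm ge N3243 = N2469 := ded_15_2 L20364 L20334 L24377
theorem L24382 : sm ge N2469 = N3243 := flp_e L24381
theorem L24383 : sm ga N2464 = N3244 := rfl
theorem L24384 : sm ga N3244 = N2464 := flp_a L24383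
theorem L24385 : sm gd N3244 = N2649 := ded_9_2 L21251 L20340 L24383
theorem L24386 : sm gd N2649 = N3244 := flp_d L24385
theorem L24387 : sm ge N3244 = N2470 := ded_10_2 L20368 L20342 L24383
theorem L24388 : sm ge N2470 = N3244 := flp_e L24387
theorem L24389 : sm gc N2464 = N3245 := rfl
theorem L24390 : sm gc N3245 = N2464 := flp_c L24389
theorem L24391 : sm ge N3245 = N2471 := ded_19_2 L20372 L20342 L24389
theorem L24392 : sm ge N2471 = N3245 := flp_e L24391
theorem L24393 : sm gf N2464 = N3246 := rfl
theorem L24394 : sm gf N3246 = N2464 := flp_f L24393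
theorem L24395 : sm gd N3246 = N2651 := ded_23_1 L21259 L20340 L24393
theorem L24396 : sm gd N2651 = N3246 := flp_d L24395
theorem L24397 : sm ge N3246 = N2472 := ded_25_1 L20374 L20342 L24393
theorem L24398 : sm ge N2472 = N3246 := flp_e L24397
theorem L24399 : sm gb N2465 = N3247 := rfl
theorem L24400 : sm gb N3247 = N2465 := flp_b L24399
theorem L24401 : sm gd N3247 = N2652 := ded_14_2 L21263 L20348 L24399
theorem L24402 : sm gd N2652 = N3247 := flp_d L24401
theorem L24403 : sm ge N3247 = N2473 := ded_15_2 L20378 L20350 L24399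
theorem L24404 : sm ge N2473 = N3247 := flp_e L24403
theorem L24405 : sm gb N2466 = N3248 := rfl
theorem L24406 : sm gb N3248 = N2466 := flp_b L24405
theorem L24407 : sm gd N3248 = N2474 := ded_14_2 L20382 L20356 L24405
theorem L24408 : sm gd N2474 = N3248 := flp_d L24407
theorem L24409 : sm gc N2466 = N3249 := rfl
theorem L24410 : sm gc N3249 = N2466 := flp_c L24409
theorem L24411 : sm ga N3249 = N2467 := ded_8_1 L20358 L20353 L24409
theorem L24412 : sm ga N2467 = N3249 := flp_a L24411
theorem L24413 : sm gg N2466 = N3250 := rfl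
theorem L24414 : sm gg N3250 = N2466 := flp_g L24413
theorem L24415 : sm ga N3250 = N2468 := ded_12_1 L20360 L20353 L24413
theorem L24416 : sm ga N2468 = N3250 := flp_a L24415
theorem L24417 : sm gd N3250 = N2475 := ded_24_1 L20386 L20356 L24413
theorem L24418 : sm gd N2475 = N3250 := flp_d L24417
theorem L24419 : sm gf N3250 = N3205 := ded_29_2 L24058 L24047 L24051 L24413
theorem L24420 : sm gf N3205 = N3250 := flp_f L24419
theorem L24421 : sm gd N2467 = N3251 := rfl
theorem L24422 : sm gd N3251 = N2467 := flp_d L24421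
theorem L24423 : sm gg N2467 = N3252 := rfl
theorem L24424 : sm gg N3252 = N2467 := flp_g L24423
theorem L24425 : sm gc N3252 = N2468 := ded_21_1 L20360 L20357 L24423
theorem L24426 : sm gc N2468 = N3252 := flp_c L24425
theorem L24427 : sm gb N2468 = N3253 := rfl
theorem L24428 : sm gb N3253 = N2468 := flp_b L24427
theorem L24429 : sm gd N3253 = N2476 := ded_14_2 L20394 L20362 L24427
theorem L24430 : sm gd N2476 = N3253 := flp_d L24429
theorem L24431 : sm gg N3253 = N2469 := ded_17_2 L20364 L10417 L10412 L20359 L24427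
theorem L24432 : sm gg N2469 = N3253 := flp_g L24431
theorem L24433 : sm gf N2468 = N3254 := rfl
theorem L24434 : sm gf N3254 = N2468 := flp_f L24433
theorem L24435 : sm ga N3254 = N3205 := ded_11_1 L24420 L24415 L24433
theorem L24436 : sm ga N3205 = N3254 := flp_a L24435
theorem L24437 : sm gd N3254 = N2477 := ded_23_1 L20400 L20362 L24433
theorem L24438 : sm gd N2477 = N3254 := flp_d L24437
theorem L24439 : sm gg N3254 = N3203 := ded_29_3 L24048 L20224 L20359 L24433
theorem L24440 : sm gg N3203 = N3254 := flp_g L24439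
theorem L24441 : sm ga N2469 = N3255 := rfl
theorem L24442 : sm ga N3255 = N2469 := flp_a L24441
theorem L24443 : sm gd N3255 = N2478 := ded_9_2 L20408 L20366 L24441
theorem L24444 : sm gd N2478 = N3255 := flp_d L24443
theorem L24445 : sm gc N2469 = N3256 := rfl
theorem L24446 : sm gc N3256 = N2469 := flp_c L24445
theorem L24447 : sm gf N2469 = N3257 := rfl
theorem L24448 : sm gf N3257 = N2469 := flp_f L24447
theorem L24449 : sm gd N3257 = N2480 := ded_23_1 L20418 L20366 L24447
theorem L24450 : sm gd N2480 = N3257 := flp_d L24449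
theorem L24451 : sm gb N3257 = N3149 := ded_16_1 L23738 L20097 L10420 L20363 L24447
theorem L24452 : sm gb N3149 = N3257 := flp_b L24451
theorem L24453 : sm gb N2470 = N3258 := rfl
theorem L24454 : sm gb N3258 = N2470 := flp_b L24453
theorem L24455 : sm gd N3258 = N2481 := ded_14_2 L20424 L20370 L24453
theorem L24456 : sm gd N2481 = N3258 := flp_d L24455
theorem L24461 : sm gf N2470 = N3260 := rfl
theorem L24462 : sm gf N3260 = N2470 := flp_f L24461
theorem L24463 : sm ga N3260 = N2472 := ded_11_1 L20374 L20367 L24461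
theorem L24467 : sm gg N3209 = N3260 := ded_29_1 L24462 L24070 L24066 L24075
theorem L24471 : sm gf N2471 = N3262 := rfl
theorem L24472 : sm gf N3262 = N2471 := flp_f L24471
theorem L24475 : sm gb N2472 = N3263 := rfl
theorem L24476 : sm gb N3263 = N2472 := flp_b L24475
theorem L24477 : sm gd N3263 = N2483 := ded_14_2 L20437 L20376 L24475
theorem L24478 : sm gd N2483 = N3263 := flp_d L24477
theorem L24479 : sm gf N3263 = N2473 := ded_16_2 L20378 L10427 L10422 L20373 L24475
theorem L24480 : sm gf N2473 = N3263 := flp_f L24479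
theorem L24481 : sm gg N2472 = N3264 := rfl
theorem L24482 : sm gg N3264 = N2472 := flp_g L24481
theorem L24483 : sm ga N3264 = N3209 := ded_12_1 L24467 L24463 L24481
theorem L24489 : sm ga N2473 = N3265 := rfl
theorem L24490 : sm ga N3265 = N2473 := flp_a L24489
theorem L24493 : sm gc N2473 = N3266 := rfl
theorem L24494 : sm gc N3266 = N2473 := flp_c L24493
theorem L24495 : sm gg N2473 = N3267 := rfl
theorem L24496 : sm gg N3267 = N2473 := flp_g L24495
theorem L24497 : sm gd N3267 = N2487 := ded_24_1 L20462 L20380 L24495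
theorem L24498 : sm gd N2487 = N3267 := flp_d L24497
theorem L24499 : sm gb N3267 = N3146 := ded_17_1 L23726 L20093 L10433 L20377 L24495
theorem L24500 : sm gb N3146 = N3267 := flp_b L24499
theorem L24501 : sm ga N2474 = N3268 := rfl
theorem L24502 : sm ga N3268 = N2474 := flp_a L24501
theorem L24503 : sm ge N3268 = N2673 := ded_10_2 L21365 L20384 L24501
theorem L24504 : sm ge N2673 = N3268 := flp_e L24503
theorem L24505 : sm gc N2474 = N3269 := rfl
theorem L24506 : sm gc N3269 = N2474 := flp_c L24505
theorem L24509 : sm gf N2474 = N3270 := rfl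
theorem L24510 : sm gf N3270 = N2474 := flp_f L24509
theorem L24511 : sm ge N3270 = N2675 := ded_25_1 L21369 L20384 L24509
theorem L24512 : sm ge N2675 = N3270 := flp_e L24511
theorem L24513 : sm gg N2474 = N3271 := rfl
theorem L24514 : sm gg N3271 = N2474 := flp_g L24513
theorem L24515 : sm ge N3271 = N2676 := ded_26_1 L21371 L20384 L24513
theorem L24516 : sm ge N2676 = N3271 := flp_e L24515
theorem L24517 : sm gb N2475 = N3272 := rfl
theorem L24518 : sm gb N3272 = N2475 := flp_b L24517
theorem L24519 : sm ge N3272 = N2679 := ded_15_2 L21387 L20390 L24517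
theorem L24520 : sm ge N2679 = N3272 := flp_e L24519
theorem L24521 : sm ga N2476 = N3273 := rfl
theorem L24522 : sm ga N3273 = N2476 := flp_a L24521
theorem L24523 : sm ge N3273 = N2681 := ded_10_2 L21399 L20396 L24521
theorem L24524 : sm ge N2681 = N3273 := flp_e L24523
theorem L24525 : sm gg N3273 = N2478 := ded_12_2 L20408 L20398 L24521
theorem L24526 : sm gg N2478 = N3273 := flp_g L24525
theorem L24527 : sm gc N2476 = N3274 := rfl
theorem L24528 : sm gc N3274 = N2476 := flp_c L24527
theorem L24529 : sm ge N3274 = N2682 := ded_19_2 L21403 L20396 L24527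
theorem L24530 : sm ge N2682 = N3274 := flp_e L24529
theorem L24531 : sm gg N3274 = N2479 := ded_21_2 L20412 L20398 L24527
theorem L24532 : sm gg N2479 = N3274 := flp_g L24531
theorem L24533 : sm gf N2476 = N3275 := rfl
theorem L24534 : sm gf N3275 = N2476 := flp_f L24533
theorem L24535 : sm ge N3275 = N2683 := ded_25_1 L21407 L20396 L24533
theorem L24536 : sm ge N2683 = N3275 := flp_e L24535
theorem L24537 : sm gb N2477 = N3276 := rfl
theorem L24538 : sm gb N3276 = N2477 := flp_b L24537
theorem L24539 : sm ge N3276 = N2684 := ded_15_2 L21409 L20404 L24537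
theorem L24540 : sm ge N2684 = N3276 := flp_e L24539
theorem L24541 : sm gb N2478 = N3277 := rfl
theorem L24542 : sm gb N3277 = N2478 := flp_b L24541
theorem L24543 : sm ge N3277 = N2685 := ded_15_2 L21411 L20410 L24541
theorem L24544 : sm ge N2685 = N3277 := flp_e L24543
theorem L24545 : sm gc N2478 = N3278 := rfl
theorem L24546 : sm gc N3278 = N2478 := flp_c L24545
theorem L24547 : sm ga N3278 = N2479 := ded_8_1 L20412 L20407 L24545
theorem L24548 : sm ga N2479 = N3278 := flp_a L24547
theorem L24549 : sm ge N3278 = N2686 := ded_19_2 L21413 L20410 L24545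
theorem L24550 : sm ge N2686 = N3278 := flp_e L24549
theorem L24551 : sm gf N2478 = N3279 := rfl
theorem L24552 : sm gf N3279 = N2478 := flp_f L24551
theorem L24553 : sm ga N3279 = N2480 := ded_11_1 L20418 L20407 L24551
theorem L24554 : sm ga N2480 = N3279 := flp_a L24553
theorem L24555 : sm ge N3279 = N2687 := ded_25_1 L21417 L20410 L24551
theorem L24556 : sm ge N2687 = N3279 := flp_e L24555
theorem L24557 : sm gg N3275 = N3279 := ded_29_1 L24552 L24526 L24522 L24533
theorem L24558 : sm gg N3279 = N3275 := flp_g L24557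
theorem L24559 : sm gd N2479 = N3280 := rfl
theorem L24560 : sm gd N3280 = N2479 := flp_d L24559
theorem L24561 : sm gb N3280 = N2489 := ded_14_1 L20478 L20416 L24559
theorem L24562 : sm gb N2489 = N3280 := flp_b L24561
theorem L24563 : sm gf N2479 = N3281 := rfl
theorem L24564 : sm gf N3281 = N2479 := flp_f L24563
theorem L24565 : sm gc N3281 = N2480 := ded_20_1 L20418 L20411 L24563
theorem L24566 : sm gc N2480 = N3281 := flp_c L24565
theorem L24567 : sm ge N3281 = N2689 := ded_25_1 L21427 L20414 L24563
theorem L24568 : sm ge N2689 = N3281 := flp_e L24567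
theorem L24569 : sm gg N2480 = N3282 := rfl
theorem L24570 : sm gg N3282 = N2480 := flp_g L24569
theorem L24571 : sm ga N3282 = N3275 := ded_12_1 L24557 L24553 L24569
theorem L24572 : sm ga N3275 = N3282 := flp_a L24571
theorem L24577 : sm ga N2481 = N3283 := rfl
theorem L24578 : sm ga N3283 = N2481 := flp_a L24577
theorem L24579 : sm ge N3283 = N2691 := ded_10_2 L21437 L20426 L24577
theorem L24580 : sm ge N2691 = N3283 := flp_e L24579
theorem L24581 : sm gc N2481 = N3284 := rfl
theorem L24582 : sm gc N3284 = N2481 := flp_c L24581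
theorem L24583 : sm ge N3284 = N2692 := ded_19_2 L21439 L20426 L24581
theorem L24584 : sm ge N2692 = N3284 := flp_e L24583
theorem L24586 : sm gf N2481 = N3285 := rfl
theorem L24587 : sm gf N3285 = N2481 := flp_f L24586
theorem L24588 : sm ge N3285 = N2693 := ded_25_1 L21442 L20426 L24586
theorem L24589 : sm ge N2693 = N3285 := flp_e L24588
theorem L24590 : sm gg N2481 = N3286 := rfl
theorem L24591 : sm gg N3286 = N2481 := flp_g L24590
theorem L24592 : sm ge N3286 = N2694 := ded_26_1 L21444 L20426 L24590
theorem L24593 : sm ge N2694 = N3286 := flp_e L24592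
theorem L24594 : sm gb N2482 = N3287 := rfl
theorem L24595 : sm gb N3287 = N2482 := flp_b L24594
theorem L24596 : sm ge N3287 = N2695 := ded_15_2 L21446 L20433 L24594
theorem L24597 : sm ge N2695 = N3287 := flp_e L24596
theorem L24598 : sm ga N2483 = N3288 := rfl
theorem L24599 : sm ga N3288 = N2483 := flp_a L24598
theorem L24600 : sm ge N3288 = N2696 := ded_10_2 L21448 L20439 L24598
theorem L24601 : sm ge N2696 = N3288 := flp_e L24600
theorem L24602 : sm gf N3288 = N2485 := ded_11_2 L20452 L20441 L24598
theorem L24603 : sm gf N2485 = N3288 := flp_f L24602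
theorem L24604 : sm gc N2483 = N3289 := rfl
theorem L24605 : sm gc N3289 = N2483 := flp_c L24604
theorem L24606 : sm ge N3289 = N2697 := ded_19_2 L21452 L20439 L24604
theorem L24608 : sm gf N3289 = N2486 := ded_20_2 L20456 L20441 L24604
theorem L24609 : sm gf N2486 = N3289 := flp_f L24608
theorem L24611 : sm gg N2483 = N3290 := rfl
theorem L24612 : sm gg N3290 = N2483 := flp_g L24611
theorem L24613 : sm ge N3290 = N2698 := ded_26_1 L21457 L20439 L24611
theorem L24614 : sm ge N2698 = N3290 := flp_e L24613
theorem L24615 : sm gb N2484 = N3291 := rfl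
theorem L24616 : sm gb N3291 = N2484 := flp_b L24615
theorem L24617 : sm ge N3291 = N2699 := ded_15_2 L21459 L20448 L24615
theorem L24618 : sm ge N2699 = N3291 := flp_e L24617
theorem L24619 : sm gb N2485 = N3292 := rfl
theorem L24620 : sm gb N3292 = N2485 := flp_b L24619
theorem L24621 : sm ge N3292 = N2700 := ded_15_2 L21461 L20454 L24619
theorem L24622 : sm ge N2700 = N3292 := flp_e L24621
theorem L24623 : sm gc N2485 = N3293 := rfl
theorem L24624 : sm gc N3293 = N2485 := flp_c L24623
theorem L24625 : sm ga N3293 = N2486 := ded_8_1 L20456 L20451 L24623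
theorem L24626 : sm ga N2486 = N3293 := flp_a L24625
theorem L24629 : sm gg N2485 = N3294 := rfl
theorem L24630 : sm gg N3294 = N2485 := flp_g L24629
theorem L24633 : sm ge N3294 = N2702 := ded_26_1 L21467 L20454 L24629
theorem L24634 : sm ge N2702 = N3294 := flp_e L24633
theorem L24635 : sm gf N3294 = N3290 := ded_29_2 L24612 L24598 L24602 L24629
theorem L24637 : sm gd N2486 = N3295 := rfl
theorem L24638 : sm gd N3295 = N2486 := flp_d L24637
theorem L24639 : sm gb N3295 = N2491 := ded_14_1 L20490 L20460 L24637
theorem L24640 : sm gb N2491 = N3295 := flp_b L24639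
theorem L24641 : sm gg N2486 = N3296 := rfl
theorem L24643 : sm gc N3296 = N2487 := ded_21_1 L20462 L20455 L24641
theorem L24644 : sm gc N2487 = N3296 := flp_c L24643
theorem L24645 : sm ge N3296 = N2704 := ded_26_1 L21477 L20458 L24641
theorem L24647 : sm gf N2487 = N3297 := rfl
theorem L24648 : sm gf N3297 = N2487 := flp_f L24647
theorem L24651 : sm ge N3297 = N2705 := ded_25_1 L21481 L20464 L24647
theorem L24652 : sm ge N2705 = N3297 := flp_e L24651
theorem L24653 : sm gg N3297 = N3288 := ded_29_3 L24599 L20440 L20461 L24647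
theorem L24654 : sm gg N3288 = N3297 := flp_g L24653
theorem L24655 : sm gb N2488 = N3298 := rfl
theorem L24656 : sm gb N3298 = N2488 := flp_b L24655
theorem L24657 : sm ge N3298 = N2706 := ded_15_2 L21487 L20472 L24655
theorem L24658 : sm ge N2706 = N3298 := flp_e L24657
theorem L24659 : sm gc N3298 = N2706 := ded_13_2 L21487 L18940 L18489 L20467 L24655
theorem L24660 : sm gc N2706 = N3298 := flp_c L24659
theorem L24661 : sm gd N2488 = N3299 := rfl
theorem L24662 : sm gd N3299 = N2488 := flp_d L24661
theorem L24663 : sm ga N3299 = N2489 := ded_9_1 L20478 L20470 L24661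
theorem L24664 : sm ga N2489 = N3299 := flp_a L24663
theorem L24665 : sm gf N3299 = N3162 := ded_23_2 L23815 L20474 L24661
theorem L24666 : sm gf N3162 = N3299 := flp_f L24665
theorem L24667 : sm gg N3299 = N3165 := ded_24_2 L23828 L20476 L24661
theorem L24668 : sm gg N3165 = N3299 := flp_g L24667
theorem L24669 : sm ge N2489 = N3300 := rfl
theorem L24670 : sm ge N3300 = N2489 := flp_e L24669
theorem L24671 : sm gd N3300 = N2709 := ded_22_1 L21497 L18946 L10469 L20477 L24669
theorem L24672 : sm gd N2709 = N3300 := flp_d L24671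
theorem L24673 : sm gf N2489 = N3301 := rfl
theorem L24674 : sm gf N3301 = N2489 := flp_f L24673
theorem L24675 : sm ga N3301 = N3162 := ded_11_1 L24666 L24663 L24673
theorem L24676 : sm ga N3162 = N3301 := flp_a L24675
theorem L24677 : sm gc N3301 = N3299 := ded_20_1 L24665 L23813 L24673
theorem L24678 : sm gc N3299 = N3301 := flp_c L24677
theorem L24679 : sm gd N3301 = N2490 := ded_23_1 L20480 L20477 L24673
theorem L24680 : sm gd N2490 = N3301 := flp_d L24679
theorem L24681 : sm gg N3301 = N3160 := ded_29_3 L23805 L22290 L22291 L24673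
theorem L24682 : sm gg N3160 = N3301 := flp_g L24681
theorem L24683 : sm gb N2490 = N3302 := rfl
theorem L24684 : sm gb N3302 = N2490 := flp_b L24683
theorem L24685 : sm ge N3302 = N2711 := ded_15_2 L21507 L20486 L24683
theorem L24686 : sm ge N2711 = N3302 := flp_e L24685
theorem L24687 : sm gc N3302 = N2946 := ded_13_2 L22720 L19550 L16891 L20484 L24683
theorem L24688 : sm gc N2946 = N3302 := flp_c L24687
theorem L24689 : sm ge N2491 = N3303 := rfl
theorem L24690 : sm ge N3303 = N2491 := flp_e L24689
theorem L24694 : sm gd N3303 = N2713 := ded_22_1 L21516 L18956 L10488 L20489 L24689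
theorem L24695 : sm gd N2713 = N3303 := flp_d L24694
theorem L24696 : sm gg N2491 = N3304 := rfl
theorem L24697 : sm gg N3304 = N2491 := flp_g L24696
theorem L24698 : sm ga N3304 = N2714 := ded_12_1 L21519 L20492 L24696
theorem L24704 : sm gb N2492 = N3305 := rfl
theorem L24705 : sm gb N3305 = N2492 := flp_b L24704
theorem L24706 : sm ge N3305 = N2715 := ded_15_2 L21523 L20501 L24704
theorem L24707 : sm ge N2715 = N3305 := flp_e L24706
theorem L24708 : sm gc N3305 = N3163 := ded_13_2 L23818 L20132 L10497 L20499 L24704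
theorem L24709 : sm gc N3163 = N3305 := flp_c L24708
theorem L24710 : sm gb N2493 = N3306 := rfl
theorem L24711 : sm gb N3306 = N2493 := flp_b L24710
theorem L24712 : sm ge N2493 = N3307 := rfl
theorem L24713 : sm ge N3307 = N2493 := flp_e L24712
theorem L24714 : sm ga N3307 = N2725 := ded_10_1 L21586 L20507 L24712
theorem L24715 : sm ga N2725 = N3307 := flp_a L24714
theorem L24719 : sm gg N2493 = N3308 := rfl
theorem L24720 : sm gg N3308 = N2493 := flp_g L24719
theorem L24723 : sm gc N3308 = N2495 := ded_21_1 L20517 L20504 L24719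
theorem L24724 : sm gc N2495 = N3308 := flp_c L24723
theorem L24727 : sm gg N2494 = N3309 := rfl
theorem L24728 : sm gg N3309 = N2494 := flp_g L24727
theorem L24729 : sm ga N3309 = N2727 := ded_12_1 L21595 L20512 L24727
theorem L24731 : sm gd N3309 = N2498 := ded_24_1 L20545 L20515 L24727
theorem L24733 : sm ge N3309 = N2495 := ded_26_1 L20517 L20509 L24727
theorem L24735 : sm gf N2727 = N3309 := ded_29_0 L24728 L20513 L24727 L24729
theorem L24736 : sm gf N3309 = N2727 := flp_f L24735
theorem L24737 : sm gb N3309 = N2717 := ded_17_1 L23514 L23509 L21572 L21574 L24727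
theorem L24738 : sm gb N2717 = N3309 := flp_b L24737
theorem L24739 : sm ge N2496 = N3310 := rfl
theorem L24740 : sm ge N3310 = N2496 := flp_e L24739
theorem L24741 : sm ga N3310 = N2732 := ded_10_1 L21630 L20532 L24739
theorem L24742 : sm ga N2732 = N3310 := flp_a L24741
theorem L24757 : sm gb N2500 = N3312 := rfl
theorem L24758 : sm gb N3312 = N2500 := flp_b L24757
theorem L24761 : sm ge N3312 = N2738 := ded_15_2 L21661 L20567 L24757
theorem L24762 : sm ge N2738 = N3312 := flp_e L24761
theorem L24763 : sm gf N3312 = N2738 := ded_16_2 L21661 L19061 L10640 L20560 L24757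
theorem L24764 : sm gf N2738 = N3312 := flp_f L24763
theorem L24765 : sm gb N2501 = N3313 := rfl
theorem L24771 : sm gg N3313 = N2739 := ded_17_2 L21663 L19065 L10640 L20568 L24765
theorem L24772 : sm gg N2739 = N3313 := flp_g L24771
theorem L24773 : sm gb N2503 = N3314 := rfl
theorem L24774 : sm gb N3314 = N2503 := flp_b L24773
theorem L24775 : sm ge N3314 = N2744 := ded_15_2 L21677 L20583 L24773
theorem L24776 : sm ge N2744 = N3314 := flp_e L24775
theorem L24777 : sm gg N2503 = N3315 := rfl
theorem L24778 : sm gg N3315 = N2503 := flp_g L24777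
theorem L24779 : sm gc N3315 = N2506 := ded_21_1 L20599 L20581 L24777
theorem L24781 : sm ge N3315 = N2745 := ded_26_1 L21679 L20583 L24777
theorem L24782 : sm ge N2745 = N3315 := flp_e L24781
theorem L24783 : sm gf N2827 = N3315 := ded_29_0 L24778 L20579 L20584 L24268
theorem L24785 : sm gb N2504 = N3316 := rfl
theorem L24786 : sm gb N3316 = N2504 := flp_b L24785
theorem L24787 : sm ge N3316 = N2746 := ded_15_2 L21685 L20589 L24785
theorem L24788 : sm ge N2746 = N3316 := flp_e L24787
theorem L24789 : sm gf N2504 = N3317 := rfl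
theorem L24790 : sm gf N3317 = N2504 := flp_f L24789
theorem L24797 : sm gg N3317 = N2826 := ded_29_3 L24265 L20579 L20584 L24789
theorem L24798 : sm gg N2826 = N3317 := flp_g L24797
theorem L24799 : sm ga N2505 = N3318 := rfl
theorem L24800 : sm ga N3318 = N2505 := flp_a L24799
theorem L24801 : sm gd N3318 = N2748 := ded_9_2 L21695 L20593 L24799
theorem L24803 : sm ge N3318 = N2748 := ded_10_2 L21695 L20595 L24799
theorem L24804 : sm ge N2748 = N3318 := flp_e L24803
theorem L24805 : sm gf N3318 = N2509 := ded_11_2 L20625 L20597 L24799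
theorem L24806 : sm gf N2509 = N3318 := flp_f L24805
theorem L24807 : sm gc N2505 = N3319 := rfl
theorem L24808 : sm gc N3319 = N2505 := flp_c L24807
theorem L24809 : sm ge N3319 = N2749 := ded_19_2 L21699 L20595 L24807
theorem L24810 : sm ge N2749 = N3319 := flp_e L24809
theorem L24811 : sm gf N3319 = N2510 := ded_20_2 L20631 L20597 L24807
theorem L24812 : sm gf N2510 = N3319 := flp_f L24811
theorem L24813 : sm gg N2505 = N3320 := rfl
theorem L24814 : sm gg N3320 = N2505 := flp_g L24813
theorem L24815 : sm gd N3320 = N2750 := ded_24_1 L21703 L20593 L24813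
theorem L24816 : sm gd N2750 = N3320 := flp_d L24815
theorem L24819 : sm gb N2506 = N3321 := rfl
theorem L24821 : sm gd N3321 = N2751 := ded_14_2 L21705 L20601 L24819
theorem L24825 : sm ga N2507 = N3322 := rfl
theorem L24826 : sm ga N3322 = N2507 := flp_a L24825
theorem L24827 : sm gd N3322 = N2752 := ded_9_2 L21707 L20609 L24825
theorem L24829 : sm ge N3322 = N2752 := ded_10_2 L21707 L20611 L24825
theorem L24830 : sm ge N2752 = N3322 := flp_e L24829
theorem L24831 : sm gg N3322 = N2512 := ded_12_2 L20641 L20613 L24825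
theorem L24832 : sm gg N2512 = N3322 := flp_g L24831
theorem L24833 : sm gc N2507 = N3323 := rfl
theorem L24834 : sm gc N3323 = N2507 := flp_c L24833
theorem L24835 : sm ge N3323 = N2753 := ded_19_2 L21711 L20611 L24833
theorem L24836 : sm ge N2753 = N3323 := flp_e L24835
theorem L24837 : sm gg N3323 = N2513 := ded_21_2 L20647 L20613 L24833
theorem L24838 : sm gg N2513 = N3323 := flp_g L24837
theorem L24839 : sm gf N2507 = N3324 := rfl
theorem L24845 : sm gb N2508 = N3325 := rfl
theorem L24847 : sm gd N3325 = N2755 := ded_14_2 L21717 L20619 L24845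
theorem L24848 : sm gd N2755 = N3325 := flp_d L24847
theorem L24851 : sm gb N2509 = N3326 := rfl
theorem L24852 : sm gb N3326 = N2509 := flp_b L24851
theorem L24853 : sm gd N3326 = N2756 := ded_14_2 L21719 L20627 L24851
theorem L24854 : sm gd N2756 = N3326 := flp_d L24853
theorem L24855 : sm ge N3326 = N2756 := ded_15_2 L21719 L20629 L24851
theorem L24856 : sm ge N2756 = N3326 := flp_e L24855
theorem L24857 : sm gc N2509 = N3327 := rfl
theorem L24858 : sm gc N3327 = N2509 := flp_c L24857
theorem L24859 : sm ga N3327 = N2510 := ded_8_1 L20631 L20624 L24857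
theorem L24860 : sm ga N2510 = N3327 := flp_a L24859
theorem L24861 : sm ge N3327 = N2757 := ded_19_2 L21721 L20629 L24857
theorem L24862 : sm ge N2757 = N3327 := flp_e L24861
theorem L24863 : sm gg N2509 = N3328 := rfl
theorem L24864 : sm gg N3328 = N2509 := flp_g L24863
theorem L24865 : sm ga N3328 = N2511 := ded_12_1 L20635 L20624 L24863
theorem L24867 : sm gd N3328 = N2758 := ded_24_1 L21725 L20627 L24863
theorem L24873 : sm gd N2510 = N3329 := rfl
theorem L24874 : sm gd N3329 = N2510 := flp_d L24873
theorem L24875 : sm gg N2510 = N3330 := rfl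
theorem L24876 : sm gg N3330 = N2510 := flp_g L24875
theorem L24877 : sm gc N3330 = N2511 := ded_21_1 L20635 L20630 L24875
theorem L24879 : sm ge N3330 = N2760 := ded_26_1 L21733 L20633 L24875
theorem L24880 : sm ge N2760 = N3330 := flp_e L24879
theorem L24881 : sm gf N2511 = N3331 := rfl
theorem L24882 : sm gf N3331 = N2511 := flp_f L24881
theorem L24885 : sm gd N3331 = N2761 := ded_23_1 L21737 L20637 L24881
theorem L24886 : sm gd N2761 = N3331 := flp_d L24885
theorem L24887 : sm ge N3331 = N2761 := ded_25_1 L21737 L20639 L24881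
theorem L24889 : sm gg N3331 = N3318 := ded_29_3 L24800 L20596 L20634 L24881
theorem L24891 : sm gb N2512 = N3332 := rfl
theorem L24892 : sm gb N3332 = N2512 := flp_b L24891
theorem L24893 : sm gd N3332 = N2762 := ded_14_2 L21743 L20643 L24891
theorem L24894 : sm gd N2762 = N3332 := flp_d L24893
theorem L24895 : sm ge N3332 = N2762 := ded_15_2 L21743 L20645 L24891
theorem L24896 : sm ge N2762 = N3332 := flp_e L24895
theorem L24897 : sm ga N3332 = N3332 := ded_7_1 L24892 L20641 L10664 L5300 L2583 L5301 L10663 L20640 L24891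
theorem L24898 : sm gc N2512 = N3333 := rfl
theorem L24899 : sm gc N3333 = N2512 := flp_c L24898
theorem L24900 : sm ga N3333 = N2513 := ded_8_1 L20647 L20640 L24898
theorem L24901 : sm ga N2513 = N3333 := flp_a L24900
theorem L24902 : sm ge N3333 = N2763 := ded_19_2 L21746 L20645 L24898
theorem L24903 : sm ge N2763 = N3333 := flp_e L24902
theorem L24904 : sm gf N2512 = N3334 := rfl
theorem L24905 : sm gf N3334 = N2512 := flp_f L24904
theorem L24906 : sm ga N3334 = N2514 := ded_11_1 L20651 L20640 L24904
theorem L24907 : sm ga N2514 = N3334 := flp_a L24906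
theorem L24908 : sm gd N3334 = N2764 := ded_23_1 L21750 L20643 L24904
theorem L24910 : sm ge N3334 = N2764 := ded_25_1 L21750 L20645 L24904
theorem L24912 : sm gg N3324 = N3334 := ded_29_1 L24905 L24832 L24826 L24839
theorem L24914 : sm gd N2513 = N3335 := rfl
theorem L24915 : sm gd N3335 = N2513 := flp_d L24914
theorem L24916 : sm gf N2513 = N3336 := rfl
theorem L24917 : sm gf N3336 = N2513 := flp_f L24916
theorem L24918 : sm gc N3336 = N2514 := ded_20_1 L20651 L20646 L24916
theorem L24920 : sm ge N3336 = N2766 := ded_25_1 L21758 L20649 L24916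
theorem L24921 : sm ge N2766 = N3336 := flp_e L24920
theorem L24922 : sm gg N2514 = N3337 := rfl
theorem L24924 : sm ga N3337 = N3324 := ded_12_1 L24912 L24906 L24922
theorem L24925 : sm ga N3324 = N3337 := flp_a L24924
theorem L24926 : sm gd N3337 = N2767 := ded_24_1 L21762 L20653 L24922
theorem L24927 : sm gd N2767 = N3337 := flp_d L24926
theorem L24932 : sm gb N2515 = N3338 := rfl
theorem L24933 : sm gb N3338 = N2515 := flp_b L24932
theorem L24934 : sm gd N3338 = N2777 := ded_14_2 L21796 L20659 L24932
theorem L24938 : sm gc N2515 = N3339 := rfl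
theorem L24939 : sm gc N3339 = N2515 := flp_c L24938
theorem L24940 : sm ga N3339 = N2516 := ded_8_1 L20663 L20656 L24938
theorem L24941 : sm ga N2516 = N3339 := flp_a L24940
theorem L24942 : sm ge N3339 = N2778 := ded_19_2 L21798 L20661 L24938
theorem L24943 : sm ge N2778 = N3339 := flp_e L24942
theorem L24944 : sm gf N2515 = N3340 := rfl
theorem L24945 : sm gf N3340 = N2515 := flp_f L24944
theorem L24946 : sm ga N3340 = N2517 := ded_11_1 L20667 L20656 L24944
theorem L24947 : sm ga N2517 = N3340 := flp_a L24946
theorem L24952 : sm gg N2895 = N3340 := ded_29_1 L24945 L22423 L22417 L22430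
theorem L24953 : sm gg N3340 = N2895 := flp_g L24952
theorem L24954 : sm gb N2785 = N3340 := ded_31_14 L24953 L22431 L19417 L7891 L3846 L1903 L1036 L857 L854 L1553 L3078 L6471 L19142 L21830
theorem L24955 : sm gb N3340 = N2785 := flp_b L24954
theorem L24956 : sm gg N2892 = N2783 := ded_17_2 L21820 L21826 L24954 L24953 L22436
theorem L24957 : sm gg N2783 = N2892 := flp_g L24956
theorem L24958 : N3338 = N2761 := coi_16_4 L21737 L19145 L21830 L24954 L24945 L24932
theorem L24959 : N3338 = N2761 := eqc rfl L24958 rfl
theorem L24960 : sm gb N2761 = N2515 := trf L24959 L24933 rfl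
theorem L24961 : sm gb N2515 = N2761 := flp_b L24960
theorem L24962 : sm gd N2761 = N2777 := trf L24959 L24934 rfl
theorem L24963 : N2777 = N3331 := eqe L24962 L24886
theorem L24964 : N3331 = N2777 := (eqc rfl L24963 rfl).symm
theorem L24971 : sm ge N2777 = N2761 := trf L24964 L24887 rfl
theorem L24972 : sm ge N2761 = N2777 := flp_e L24971
theorem L24973 : sm gf N2777 = N2511 := trf L24964 L24882 rfl
theorem L24974 : sm gf N2511 = N2777 := flp_f L24973
theorem L24975 : sm gg N2777 = N3318 := trf L24964 L24889 rfl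
theorem L24977 : sm gd N2516 = N3341 := rfl
theorem L24978 : sm gd N3341 = N2516 := flp_d L24977
theorem L24979 : sm gf N2516 = N3342 := rfl
theorem L24980 : sm gf N3342 = N2516 := flp_f L24979
theorem L24981 : sm gc N3342 = N2517 := ded_20_1 L20667 L20662 L24979
theorem L24982 : sm gc N2517 = N3342 := flp_c L24981
theorem L24983 : sm ge N3342 = N2781 := ded_25_1 L21810 L20665 L24979
theorem L24984 : sm ge N2781 = N3342 := flp_e L24983
theorem L24985 : sm gg N2517 = N3343 := rfl
theorem L24986 : sm gg N3343 = N2517 := flp_g L24985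
theorem L24989 : sm gd N3343 = N2782 := ded_24_1 L21814 L20669 L24985
theorem L24993 : sm gf N2893 = N3343 := ded_29_0 L24986 L20667 L19423 L22416
theorem L24994 : sm gf N3343 = N2893 := flp_f L24993
theorem L24995 : sm gb N2518 = N3344 := rfl
theorem L24996 : sm gb N3344 = N2518 := flp_b L24995
theorem L24997 : sm gd N3344 = N2783 := ded_14_2 L21820 L20677 L24995
theorem L24999 : sm ge N3344 = N2783 := ded_15_2 L21820 L20679 L24995
theorem L25001 : sm gg N2804 = N3344 := ded_24_0 L24997 L24957 L22412
theorem L25002 : sm gg N3344 = N2804 := flp_g L25001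
theorem L25003 : sm gc N2518 = N3345 := rfl
theorem L25007 : sm ge N3345 = N2784 := ded_19_2 L21822 L20679 L25003
theorem L25008 : sm ge N2784 = N3345 := flp_e L25007
theorem L25010 : sm gg N2518 = N3346 := rfl
theorem L25011 : sm gg N3346 = N2518 := flp_g L25010
theorem L25020 : sm gb N3346 = N2779 := ded_17_1 L21806 L21904 L25001 L24996 L25010
theorem L25021 : sm gb N2779 = N3346 := flp_b L25020
theorem L25022 : sm gd N2519 = N3347 := rfl
theorem L25023 : sm gd N3347 = N2519 := flp_d L25022
theorem L25025 : sm gg N2519 = N3348 := rfl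
theorem L25026 : sm gg N3348 = N2519 := flp_g L25025
theorem L25031 : sm gd N2521 = N3349 := rfl
theorem L25032 : sm gd N3349 = N2521 := flp_d L25031
theorem L25033 : sm ga N3349 = N2523 := ded_9_1 L20701 L20694 L25031
theorem L25034 : sm ga N2523 = N3349 := flp_a L25033
theorem L25035 : sm gb N3349 = N2583 := ded_14_1 L20955 L20697 L25031
theorem L25036 : sm gb N2583 = N3349 := flp_b L25035
theorem L25043 : sm gg N2521 = N3351 := rfl
theorem L25044 : sm gg N3351 = N2521 := flp_g L25043
theorem L25045 : sm ga N3351 = N2525 := ded_12_1 L20707 L20694 L25043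
theorem L25046 : sm ga N2525 = N3351 := flp_a L25045
theorem L25047 : sm gc N3351 = N3120 := ded_21_1 L23580 L24230 L25043
theorem L25049 : sm gd N2522 = N3352 := rfl
theorem L25051 : sm ga N3352 = N3118 := ded_9_1 L23572 L24223 L25049
theorem L25052 : sm ga N3118 = N3352 := flp_a L25051
theorem L25053 : sm gb N3352 = N2740 := ded_14_1 L24247 L24225 L25049
theorem L25054 : sm gb N2740 = N3352 := flp_b L25053
theorem L25055 : sm gf N2522 = N3353 := rfl
theorem L25057 : sm ga N3353 = N3119 := ded_11_1 L23576 L24223 L25055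
theorem L25059 : sm gc N3353 = N2524 := ded_20_1 L20705 L20698 L25055
theorem L25060 : sm gc N2524 = N3353 := flp_c L25059
theorem L25063 : sm gg N2522 = N3354 := rfl
theorem L25065 : sm ga N3354 = N3120 := ded_12_1 L23580 L24223 L25063
theorem L25066 : sm ga N3120 = N3354 := flp_a L25065
theorem L25067 : sm gc N3354 = N2525 := ded_21_1 L20707 L20698 L25063
theorem L25069 : sm ge N3354 = N3351 := ded_26_1 L25044 L24231 L25063
theorem L25070 : sm ge N3351 = N3354 := flp_e L25069
theorem L25071 : sm gc N2523 = N3355 := rfl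
theorem L25072 : sm gc N3355 = N2523 := flp_c L25071
theorem L25073 : sm ge N2523 = N3356 := rfl
theorem L25074 : sm ge N3356 = N2523 := flp_e L25073
theorem L25075 : sm gb N3356 = N2527 := ded_15_1 L20713 L20703 L25073
theorem L25076 : sm gb N2527 = N3356 := flp_b L25075
theorem L25077 : sm gf N2523 = N3357 := rfl
theorem L25078 : sm gf N3357 = N2523 := flp_f L25077
theorem L25079 : sm gd N3357 = N2524 := ded_23_1 L20705 L20700 L25077
theorem L25081 : sm gg N2523 = N3358 := rfl
theorem L25082 : sm gg N3358 = N2523 := flp_g L25081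
theorem L25083 : sm gd N3358 = N2525 := ded_24_1 L20707 L20700 L25081
theorem L25084 : sm gd N2525 = N3358 := flp_d L25083
theorem L25085 : sm gb N2524 = N3359 := rfl
theorem L25086 : sm gb N3359 = N2524 := flp_b L25085
theorem L25087 : sm gf N3359 = N2530 := ded_16_2 L20729 L18562 L18555 L20704 L25085
theorem L25088 : sm gf N2530 = N3359 := flp_f L25087
theorem L25089 : sm gg N2524 = N3360 := rfl
theorem L25090 : sm gg N3360 = N2524 := flp_g L25089
theorem L25091 : sm gf N3351 = N3360 := ded_29_0 L25090 L20705 L20706 L25046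
theorem L25093 : sm gb N2525 = N3361 := rfl
theorem L25094 : sm gb N3361 = N2525 := flp_b L25093
theorem L25095 : sm gg N3361 = N2531 := ded_17_2 L20731 L18566 L18555 L20706 L25093
theorem L25096 : sm gg N2531 = N3361 := flp_g L25095
theorem L25097 : sm gf N2525 = N3362 := rfl
theorem L25098 : sm gf N3362 = N2525 := flp_f L25097
theorem L25103 : sm ge N2526 = N3363 := rfl
theorem L25104 : sm ge N3363 = N2526 := flp_e L25103
theorem L25105 : sm ga N3363 = N2533 := ded_10_1 L20737 L20711 L25103
theorem L25106 : sm ga N2533 = N3363 := flp_a L25105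
theorem L25107 : sm gb N3363 = N2923 := ded_15_1 L23022 L23019 L25103
theorem L25108 : sm gb N2923 = N3363 := flp_b L25107
theorem L25109 : sm gc N3363 = N2527 := ded_19_1 L20713 L20708 L25103
theorem L25110 : sm gc N2527 = N3363 := flp_c L25109
theorem L25111 : sm gd N3363 = N2922 := ded_22_1 L22574 L22130 L22131 L21949 L25103
theorem L25112 : sm gd N2922 = N3363 := flp_d L25111
theorem L25113 : sm gf N2526 = N3364 := rfl
theorem L25114 : sm gf N3364 = N2526 := flp_f L25113
theorem L25115 : sm ga N3364 = N2534 := ded_11_1 L20743 L20711 L25113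
theorem L25116 : sm ga N2534 = N3364 := flp_a L25115
theorem L25117 : sm gc N3364 = N2528 := ded_20_1 L20717 L20708 L25113
theorem L25118 : sm gc N2528 = N3364 := flp_c L25117
theorem L25119 : sm gg N2526 = N3365 := rfl
theorem L25120 : sm gg N3365 = N2526 := flp_g L25119
theorem L25121 : sm ga N3365 = N2535 := ded_12_1 L20747 L20711 L25119
theorem L25122 : sm ga N2535 = N3365 := flp_a L25121
theorem L25123 : sm gc N3365 = N2529 := ded_21_1 L20723 L20708 L25119
theorem L25125 : sm gf N2527 = N3366 := rfl
theorem L25126 : sm gf N3366 = N2527 := flp_f L25125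
theorem L25127 : sm ga N3366 = N2536 := ded_11_1 L20751 L20715 L25125
theorem L25128 : sm ga N2536 = N3366 := flp_a L25127
theorem L25129 : sm ge N3366 = N2528 := ded_25_1 L20717 L20712 L25125
theorem L25130 : sm ge N2528 = N3366 := flp_e L25129
theorem L25131 : sm gg N2527 = N3367 := rfl
theorem L25132 : sm gg N3367 = N2527 := flp_g L25131
theorem L25133 : sm ga N3367 = N2537 := ded_12_1 L20755 L20715 L25131
theorem L25134 : sm ga N2537 = N3367 := flp_a L25133
theorem L25135 : sm ge N3367 = N2529 := ded_26_1 L20723 L20712 L25131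
theorem L25136 : sm ge N2529 = N3367 := flp_e L25135
theorem L25137 : sm gb N2528 = N3368 := rfl
theorem L25138 : sm gb N3368 = N2528 := flp_b L25137
theorem L25139 : sm gd N3368 = N2530 := ded_14_2 L20729 L20721 L25137
theorem L25140 : sm gd N2530 = N3368 := flp_d L25139
theorem L25141 : sm gb N2529 = N3369 := rfl
theorem L25142 : sm gb N3369 = N2529 := flp_b L25141
theorem L25143 : sm gd N3369 = N2531 := ded_14_2 L20731 L20727 L25141
theorem L25144 : sm gd N2531 = N3369 := flp_d L25143
theorem L25145 : sm ga N2530 = N3370 := rfl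
theorem L25146 : sm ga N3370 = N2530 := flp_a L25145
theorem L25147 : sm gc N2530 = N3371 := rfl
theorem L25148 : sm gc N3371 = N2530 := flp_c L25147
theorem L25149 : sm gg N2530 = N3372 := rfl
theorem L25150 : sm gg N3372 = N2530 := flp_g L25149
theorem L25151 : sm ga N2531 = N3373 := rfl
theorem L25152 : sm ga N3373 = N2531 := flp_a L25151
theorem L25153 : sm gc N2531 = N3374 := rfl
theorem L25154 : sm gc N3374 = N2531 := flp_c L25153
theorem L25155 : sm gf N2531 = N3375 := rfl
theorem L25156 : sm gf N3375 = N2531 := flp_f L25155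
theorem L25157 : sm ge N2532 = N3376 := rfl
theorem L25159 : sm ga N3376 = N2853 := ded_10_1 L22131 L21945 L25157
theorem L25160 : sm ga N2853 = N3376 := flp_a L25159
theorem L25161 : sm gb N3376 = N2611 := ded_15_1 L21073 L20735 L25157
theorem L25163 : sm gc N3376 = N2863 := ded_19_1 L22209 L21925 L25157
theorem L25164 : sm gc N2863 = N3376 := flp_c L25163
theorem L25165 : sm gd N3376 = N2846 := ded_22_1 L22091 L22316 L20737 L20732 L25157
theorem L25167 : sm gf N2532 = N3377 := rfl
theorem L25168 : sm gf N3377 = N2532 := flp_f L25167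
theorem L25169 : sm gd N3377 = N2534 := ded_23_1 L20743 L20732 L25167
theorem L25170 : sm gd N2534 = N3377 := flp_d L25169
theorem L25171 : sm gg N2532 = N3378 := rfl
theorem L25172 : sm gg N3378 = N2532 := flp_g L25171
theorem L25173 : sm gd N3378 = N2535 := ded_24_1 L20747 L20732 L25171
theorem L25174 : sm gd N2535 = N3378 := flp_d L25173
theorem L25175 : sm gf N2533 = N3379 := rfl
theorem L25176 : sm gf N3379 = N2533 := flp_f L25175
theorem L25177 : sm gc N3379 = N2536 := ded_20_1 L20751 L20741 L25175
theorem L25178 : sm gc N2536 = N3379 := flp_c L25177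
theorem L25179 : sm ge N3379 = N2534 := ded_25_1 L20743 L20736 L25175
theorem L25180 : sm ge N2534 = N3379 := flp_e L25179
theorem L25181 : sm gg N2533 = N3380 := rfl
theorem L25182 : sm gg N3380 = N2533 := flp_g L25181
theorem L25183 : sm gc N3380 = N2537 := ded_21_1 L20755 L20741 L25181
theorem L25184 : sm gc N2537 = N3380 := flp_c L25183
theorem L25185 : sm ge N3380 = N2535 := ded_26_1 L20747 L20736 L25181
theorem L25186 : sm ge N2535 = N3380 := flp_e L25185
theorem L25187 : sm gb N2534 = N3381 := rfl
theorem L25188 : sm gb N3381 = N2534 := flp_b L25187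
theorem L25189 : sm gf N3381 = N2617 := ded_16_2 L21109 L18750 L18572 L20742 L25187
theorem L25190 : sm gf N2617 = N3381 := flp_f L25189
theorem L25191 : sm gg N2534 = N3382 := rfl
theorem L25192 : sm gg N3382 = N2534 := flp_g L25191
theorem L25193 : sm gc N3382 = N2539 := ded_21_1 L20765 L20745 L25191
theorem L25195 : sm gf N3365 = N3382 := ded_29_0 L25192 L20743 L20746 L25122
theorem L25197 : sm gb N2535 = N3383 := rfl
theorem L25199 : sm gg N3383 = N2619 := ded_17_2 L21117 L18754 L18572 L20746 L25197
theorem L25200 : sm gg N2619 = N3383 := flp_g L25199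
theorem L25201 : sm gf N2535 = N3384 := rfl
theorem L25202 : sm gf N3384 = N2535 := flp_f L25201
theorem L25209 : sm gb N2536 = N3385 := rfl
theorem L25210 : sm gb N3385 = N2536 := flp_b L25209
theorem L25211 : sm ge N3385 = N2538 := ded_15_2 L20759 L20753 L25209
theorem L25212 : sm ge N2538 = N3385 := flp_e L25211
theorem L25213 : sm gf N3385 = N2549 := ded_16_2 L20805 L18604 L18576 L20750 L25209
theorem L25214 : sm gf N2549 = N3385 := flp_f L25213
theorem L25215 : sm gg N2536 = N3386 := rfl
theorem L25216 : sm gg N3386 = N2536 := flp_g L25215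
theorem L25217 : sm ge N3386 = N2539 := ded_26_1 L20765 L20753 L25215
theorem L25218 : sm ge N2539 = N3386 := flp_e L25217
theorem L25219 : sm gf N3367 = N3386 := ded_29_0 L25216 L20751 L20754 L25134
theorem L25220 : sm gf N3386 = N3367 := flp_f L25219
theorem L25221 : sm gb N2537 = N3387 := rfl
theorem L25222 : sm gb N3387 = N2537 := flp_b L25221
theorem L25223 : sm ge N3387 = N2540 := ded_15_2 L20771 L20757 L25221
theorem L25224 : sm ge N2540 = N3387 := flp_e L25223
theorem L25225 : sm gg N3387 = N2550 := ded_17_2 L20809 L18612 L18576 L20754 L25221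
theorem L25226 : sm gg N2550 = N3387 := flp_g L25225
theorem L25227 : sm gf N2537 = N3388 := rfl
theorem L25228 : sm gf N3388 = N2537 := flp_f L25227
theorem L25229 : sm ga N3388 = N3386 := ded_11_1 L25220 L25133 L25227
theorem L25231 : sm ge N3388 = N2541 := ded_25_1 L20777 L20757 L25227
theorem L25232 : sm ge N2541 = N3388 := flp_e L25231
theorem L25233 : sm gg N3388 = N3366 := ded_29_3 L25127 L20751 L20754 L25227
theorem L25234 : sm gg N3366 = N3388 := flp_g L25233
theorem L25235 : sm ga N2538 = N3389 := rfl
theorem L25236 : sm ga N3389 = N2538 := flp_a L25235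
theorem L25237 : sm gd N3389 = N2542 := ded_9_2 L20785 L20761 L25235
theorem L25238 : sm gd N2542 = N3389 := flp_d L25237
theorem L25239 : sm gf N3389 = N2551 := ded_11_2 L20813 L20763 L25235
theorem L25240 : sm gf N2551 = N3389 := flp_f L25239
theorem L25241 : sm gc N2538 = N3390 := rfl
theorem L25242 : sm gc N3390 = N2538 := flp_c L25241
theorem L25243 : sm gf N3390 = N2552 := ded_20_2 L20817 L20763 L25241
theorem L25244 : sm gf N2552 = N3390 := flp_f L25243
theorem L25245 : sm gg N2538 = N3391 := rfl
theorem L25246 : sm gg N3391 = N2538 := flp_g L25245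
theorem L25247 : sm gd N3391 = N2544 := ded_24_1 L20793 L20761 L25245
theorem L25248 : sm gd N2544 = N3391 := flp_d L25247
theorem L25249 : sm gb N2539 = N3392 := rfl
theorem L25250 : sm gb N3392 = N2539 := flp_b L25249
theorem L25251 : sm gd N3392 = N2545 := ded_14_2 L20795 L20767 L25249
theorem L25252 : sm gd N2545 = N3392 := flp_d L25251
theorem L25253 : sm ga N2540 = N3393 := rfl
theorem L25254 : sm ga N3393 = N2540 := flp_a L25253
theorem L25255 : sm gd N3393 = N2546 := ded_9_2 L20797 L20773 L25253
theorem L25256 : sm gd N2546 = N3393 := flp_d L25255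
theorem L25257 : sm gg N3393 = N2554 := ded_12_2 L20825 L20775 L25253
theorem L25258 : sm gg N2554 = N3393 := flp_g L25257
theorem L25259 : sm gc N2540 = N3394 := rfl
theorem L25260 : sm gc N3394 = N2540 := flp_c L25259
theorem L25261 : sm gg N3394 = N2555 := ded_21_2 L20829 L20775 L25259
theorem L25262 : sm gg N2555 = N3394 := flp_g L25261
theorem L25263 : sm gf N2540 = N3395 := rfl
theorem L25264 : sm gf N3395 = N2540 := flp_f L25263
theorem L25267 : sm gb N2541 = N3396 := rfl
theorem L25268 : sm gb N3396 = N2541 := flp_b L25267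
theorem L25269 : sm gd N3396 = N2548 := ded_14_2 L20803 L20781 L25267
theorem L25270 : sm gd N2548 = N3396 := flp_d L25269
theorem L25271 : sm gb N2542 = N3397 := rfl
theorem L25272 : sm gb N3397 = N2542 := flp_b L25271
theorem L25273 : sm gc N2542 = N3398 := rfl
theorem L25274 : sm gc N3398 = N2542 := flp_c L25273
theorem L25275 : sm ga N3398 = N2543 := ded_8_1 L20789 L20784 L25273
theorem L25276 : sm ga N2543 = N3398 := flp_a L25275
theorem L25277 : sm gf N3398 = N2558 := ded_20_2 L20839 L20787 L25273
theorem L25278 : sm gf N2558 = N3398 := flp_f L25277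
theorem L25279 : sm gd N2543 = N3399 := rfl
theorem L25280 : sm gd N3399 = N2543 := flp_d L25279
theorem L25281 : sm gf N3399 = N2560 := ded_23_2 L20849 L20791 L25279
theorem L25282 : sm gf N2560 = N3399 := flp_f L25281
theorem L25283 : sm gg N2543 = N3400 := rfl
theorem L25284 : sm gg N3400 = N2543 := flp_g L25283
theorem L25285 : sm gc N3400 = N2544 := ded_21_1 L20793 L20788 L25283
theorem L25287 : sm gb N2544 = N3401 := rfl
theorem L25288 : sm gb N3401 = N2544 := flp_b L25287
theorem L25289 : sm gg N3401 = N2545 := ded_17_2 L20795 L18590 L18585 L20792 L25287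
theorem L25290 : sm gg N2545 = N3401 := flp_g L25289
theorem L25291 : sm ga N2545 = N3402 := rfl
theorem L25292 : sm ga N3402 = N2545 := flp_a L25291
theorem L25293 : sm gc N2545 = N3403 := rfl
theorem L25294 : sm gc N3403 = N2545 := flp_c L25293
theorem L25295 : sm gf N2545 = N3404 := rfl
theorem L25296 : sm gf N3404 = N2545 := flp_f L25295
theorem L25297 : sm gb N3404 = N3375 := ded_16_1 L25156 L20731 L18591 L20794 L25295
theorem L25299 : sm gb N2546 = N3405 := rfl
theorem L25300 : sm gb N3405 = N2546 := flp_b L25299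
theorem L25301 : sm gb N2547 = N3406 := rfl
theorem L25302 : sm gb N3406 = N2547 := flp_b L25301
theorem L25303 : sm gf N3406 = N2548 := ded_16_2 L20803 L18598 L18593 L20800 L25301
theorem L25304 : sm gf N2548 = N3406 := flp_f L25303
theorem L25305 : sm ga N2548 = N3407 := rfl
theorem L25306 : sm ga N3407 = N2548 := flp_a L25305
theorem L25307 : sm gc N2548 = N3408 := rfl
theorem L25308 : sm gc N3408 = N2548 := flp_c L25307
theorem L25309 : sm gg N2548 = N3409 := rfl
theorem L25310 : sm gg N3409 = N2548 := flp_g L25309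
theorem L25311 : sm gb N3409 = N3372 := ded_17_1 L25150 L20729 L18602 L20802 L25309
theorem L25312 : sm gb N3372 = N3409 := flp_b L25311
theorem L25313 : sm ga N2549 = N3410 := rfl
theorem L25314 : sm ga N3410 = N2549 := flp_a L25313
theorem L25315 : sm ge N3410 = N2551 := ded_10_2 L20813 L20807 L25313
theorem L25316 : sm ge N2551 = N3410 := flp_e L25315
theorem L25317 : sm gc N2549 = N3411 := rfl
theorem L25318 : sm gc N3411 = N2549 := flp_c L25317
theorem L25319 : sm ge N3411 = N2552 := ded_19_2 L20817 L20807 L25317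
theorem L25320 : sm ge N2552 = N3411 := flp_e L25319
theorem L25321 : sm gb N3411 = N2646 := ded_13_1 L21239 L18818 L18608 L20804 L25317
theorem L25322 : sm gb N2646 = N3411 := flp_b L25321
theorem L25323 : sm gg N2549 = N3412 := rfl
theorem L25324 : sm gg N3412 = N2549 := flp_g L25323
theorem L25325 : sm ge N3412 = N2553 := ded_26_1 L20821 L20807 L25323
theorem L25326 : sm ge N2553 = N3412 := flp_e L25325
theorem L25327 : sm ga N2550 = N3413 := rfl
theorem L25328 : sm ga N3413 = N2550 := flp_a L25327
theorem L25329 : sm ge N3413 = N2554 := ded_10_2 L20825 L20811 L25327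
theorem L25330 : sm ge N2554 = N3413 := flp_e L25329
theorem L25331 : sm gc N2550 = N3414 := rfl
theorem L25332 : sm gc N3414 = N2550 := flp_c L25331
theorem L25333 : sm ge N3414 = N2555 := ded_19_2 L20829 L20811 L25331
theorem L25334 : sm ge N2555 = N3414 := flp_e L25333
theorem L25335 : sm gb N3414 = N2650 := ded_13_1 L21255 L18828 L18616 L20808 L25331
theorem L25337 : sm gf N2550 = N3415 := rfl
theorem L25338 : sm gf N3415 = N2550 := flp_f L25337
theorem L25339 : sm ge N3415 = N2556 := ded_25_1 L20833 L20811 L25337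
theorem L25340 : sm ge N2556 = N3415 := flp_e L25339
theorem L25341 : sm gb N2551 = N3416 := rfl
theorem L25342 : sm gb N3416 = N2551 := flp_b L25341
theorem L25343 : sm gd N3416 = N2557 := ded_14_2 L20837 L20815 L25341
theorem L25344 : sm gd N2557 = N3416 := flp_d L25343
theorem L25345 : sm gc N2551 = N3417 := rfl
theorem L25346 : sm gc N3417 = N2551 := flp_c L25345
theorem L25347 : sm ga N3417 = N2552 := ded_8_1 L20817 L20812 L25345
theorem L25348 : sm ga N2552 = N3417 := flp_a L25347
theorem L25349 : sm gg N2551 = N3418 := rfl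
theorem L25350 : sm gg N3418 = N2551 := flp_g L25349
theorem L25351 : sm ga N3418 = N2553 := ded_12_1 L20821 L20812 L25349
theorem L25353 : sm gd N3418 = N2559 := ded_24_1 L20843 L20815 L25349
theorem L25354 : sm gd N2559 = N3418 := flp_d L25353
theorem L25355 : sm gf N3418 = N3391 := ded_29_2 L25246 L25235 L25239 L25349
theorem L25356 : sm gf N3391 = N3418 := flp_f L25355
theorem L25357 : sm gd N2552 = N3419 := rfl
theorem L25358 : sm gd N3419 = N2552 := flp_d L25357
theorem L25359 : sm gb N3419 = N2656 := ded_14_1 L21283 L20819 L25357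
theorem L25360 : sm gb N2656 = N3419 := flp_b L25359
theorem L25361 : sm gg N2552 = N3420 := rfl
theorem L25362 : sm gg N3420 = N2552 := flp_g L25361
theorem L25363 : sm gc N3420 = N2553 := ded_21_1 L20821 L20816 L25361
theorem L25364 : sm gc N2553 = N3420 := flp_c L25363
theorem L25365 : sm gf N2553 = N3421 := rfl
theorem L25366 : sm gf N3421 = N2553 := flp_f L25365
theorem L25369 : sm gd N3421 = N2562 := ded_23_1 L20857 L20823 L25365
theorem L25370 : sm gd N2562 = N3421 := flp_d L25369
theorem L25371 : sm gg N3421 = N3389 := ded_29_3 L25236 L20762 L20820 L25365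
theorem L25372 : sm gg N3389 = N3421 := flp_g L25371
theorem L25373 : sm gb N2554 = N3422 := rfl
theorem L25374 : sm gb N3422 = N2554 := flp_b L25373
theorem L25375 : sm gd N3422 = N2563 := ded_14_2 L20863 L20827 L25373
theorem L25376 : sm gd N2563 = N3422 := flp_d L25375
theorem L25377 : sm gc N2554 = N3423 := rfl
theorem L25378 : sm gc N3423 = N2554 := flp_c L25377
theorem L25381 : sm gf N2554 = N3424 := rfl
theorem L25382 : sm gf N3424 = N2554 := flp_f L25381
theorem L25383 : sm ga N3424 = N2556 := ded_11_1 L20833 L20824 L25381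
theorem L25385 : sm gd N3424 = N2564 := ded_23_1 L20865 L20827 L25381
theorem L25386 : sm gd N2564 = N3424 := flp_d L25385
theorem L25387 : sm gg N3395 = N3424 := ded_29_1 L25382 L25258 L25254 L25263
theorem L25388 : sm gg N3424 = N3395 := flp_g L25387
theorem L25389 : sm gd N2555 = N3425 := rfl
theorem L25390 : sm gd N3425 = N2555 := flp_d L25389
theorem L25393 : sm gf N2555 = N3426 := rfl
theorem L25394 : sm gf N3426 = N2555 := flp_f L25393
theorem L25395 : sm gc N3426 = N2556 := ded_20_1 L20833 L20828 L25393
theorem L25397 : sm gg N2556 = N3427 := rfl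
theorem L25398 : sm gg N3427 = N2556 := flp_g L25397
theorem L25399 : sm ga N3427 = N3395 := ded_12_1 L25387 L25383 L25397
theorem L25400 : sm ga N3395 = N3427 := flp_a L25399
theorem L25403 : sm gf N3393 = N3427 := ded_29_0 L25398 L20833 L20775 L25253
theorem L25404 : sm gf N3427 = N3393 := flp_f L25403
theorem L25405 : sm ga N2557 = N3428 := rfl
theorem L25406 : sm ga N3428 = N2557 := flp_a L25405
theorem L25407 : sm gb N3428 = N2673 := ded_7_2 L21365 L18870 L6063 L2868 L2747 L5783 L18627 L20836 L25405
theorem L25408 : sm gb N2673 = N3428 := flp_b L25407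
theorem L25409 : sm gc N2557 = N3429 := rfl
theorem L25410 : sm gc N3429 = N2557 := flp_c L25409
theorem L25411 : sm gf N2557 = N3430 := rfl
theorem L25412 : sm gf N3430 = N2557 := flp_f L25411
theorem L25413 : sm gg N2557 = N3431 := rfl
theorem L25414 : sm gg N3431 = N2557 := flp_g L25413
theorem L25415 : sm gb N2558 = N3432 := rfl
theorem L25416 : sm gb N3432 = N2558 := flp_b L25415
theorem L25417 : sm gd N2558 = N3433 := rfl
theorem L25418 : sm gd N3433 = N2558 := flp_d L25417
theorem L25419 : sm ga N3433 = N2560 := ded_9_1 L20849 L20841 L25417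
theorem L25420 : sm ga N2560 = N3433 := flp_a L25419
theorem L25421 : sm gg N2558 = N3434 := rfl
theorem L25422 : sm gg N3434 = N2558 := flp_g L25421
theorem L25423 : sm ga N3434 = N2561 := ded_12_1 L20853 L20841 L25421
theorem L25424 : sm ga N2561 = N3434 := flp_a L25423
theorem L25425 : sm gc N3434 = N2559 := ded_21_1 L20843 L20838 L25421
theorem L25426 : sm gc N2559 = N3434 := flp_c L25425
theorem L25427 : sm gf N3434 = N3400 := ded_29_2 L25284 L25276 L25277 L25421
theorem L25429 : sm gb N2559 = N3435 := rfl
theorem L25430 : sm gb N3435 = N2559 := flp_b L25429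
theorem L25431 : sm gc N2560 = N3436 := rfl
theorem L25432 : sm gc N3436 = N2560 := flp_c L25431
theorem L25433 : sm ge N2560 = N3437 := rfl
theorem L25434 : sm ge N3437 = N2560 := flp_e L25433
theorem L25437 : sm gg N2560 = N3438 := rfl
theorem L25439 : sm gd N3438 = N2561 := ded_24_1 L20853 L20848 L25437
theorem L25440 : sm gd N2561 = N3438 := flp_d L25439
theorem L25441 : sm gb N2561 = N3439 := rfl
theorem L25442 : sm gb N3439 = N2561 := flp_b L25441
theorem L25443 : sm gg N3439 = N2572 := ded_17_2 L20901 L18658 L18632 L20852 L25441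
theorem L25444 : sm gg N2572 = N3439 := flp_g L25443
theorem L25445 : sm gf N2561 = N3440 := rfl
theorem L25446 : sm gf N3440 = N2561 := flp_f L25445
theorem L25451 : sm gg N3440 = N3398 := ded_29_3 L25275 L20790 L20852 L25445
theorem L25452 : sm gg N3398 = N3440 := flp_g L25451
theorem L25453 : sm gb N2562 = N3441 := rfl
theorem L25454 : sm gb N3441 = N2562 := flp_b L25453
theorem L25455 : sm ga N2563 = N3442 := rfl
theorem L25456 : sm ga N3442 = N2563 := flp_a L25455
theorem L25457 : sm gb N3442 = N2691 := ded_7_2 L21437 L18910 L6073 L2876 L2753 L5785 L18635 L20862 L25455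
theorem L25459 : sm gc N2563 = N3443 := rfl
theorem L25460 : sm gc N3443 = N2563 := flp_c L25459
theorem L25461 : sm gf N2563 = N3444 := rfl
theorem L25462 : sm gf N3444 = N2563 := flp_f L25461
theorem L25463 : sm gg N2563 = N3445 := rfl
theorem L25464 : sm gg N3445 = N2563 := flp_g L25463
theorem L25465 : sm gb N2564 = N3446 := rfl
theorem L25466 : sm gb N3446 = N2564 := flp_b L25465
theorem L25467 : sm gb N2565 = N3447 := rfl
theorem L25468 : sm gb N3447 = N2565 := flp_b L25467
theorem L25469 : sm gb N2566 = N3448 := rfl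
theorem L25471 : sm ge N3448 = N3028 := ded_15_2 L23146 L20881 L25469
theorem L25472 : sm ge N3028 = N3448 := flp_e L25471
theorem L25473 : sm gc N3448 = N2567 := ded_13_2 L20887 L18652 L18639 L20876 L25469
theorem L25474 : sm gc N2567 = N3448 := flp_c L25473
theorem L25475 : sm gd N2566 = N3449 := rfl
theorem L25476 : sm gd N3449 = N2566 := flp_d L25475
theorem L25477 : sm ga N3449 = N3088 := ded_9_1 L23400 L20879 L25475
theorem L25478 : sm ga N3088 = N3449 := flp_a L25477
theorem L25479 : sm gf N3449 = N2843 := ded_23_2 L22079 L20883 L25475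
theorem L25480 : sm gf N2843 = N3449 := flp_f L25479
theorem L25481 : sm gg N3449 = N2920 := ded_24_2 L22562 L20885 L25475
theorem L25482 : sm gg N2920 = N3449 := flp_g L25481
theorem L25483 : sm gc N2947 = N3449 := ded_28_0 L25476 L20877 L18641 L15793 L9470 L19939 L23456 L23451
theorem L25484 : sm gc N3449 = N2947 := flp_c L25483
theorem L25485 : sm ga N2567 = N3450 := rfl
theorem L25486 : sm ga N3450 = N2567 := flp_a L25485
theorem L25487 : sm gd N2567 = N3451 := rfl
theorem L25488 : sm gd N3451 = N2567 := flp_d L25487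
theorem L25489 : sm gb N3451 = N2568 := ded_14_1 L20889 L20886 L25487
theorem L25490 : sm gb N2568 = N3451 := flp_b L25489
theorem L25491 : sm gf N2567 = N3452 := rfl
theorem L25492 : sm gf N3452 = N2567 := flp_f L25491
theorem L25493 : sm gg N2567 = N3453 := rfl
theorem L25494 : sm gg N3453 = N2567 := flp_g L25493
theorem L25501 : sm ge N2569 = N3456 := rfl
theorem L25502 : sm ge N3456 = N2569 := flp_e L25501
theorem L25505 : sm gg N2569 = N3457 := rfl
theorem L25506 : sm gg N3457 = N2569 := flp_g L25505
theorem L25509 : sm gd N3457 = N2721 := ded_24_1 L21561 L20907 L25505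
theorem L25510 : sm gd N2721 = N3457 := flp_d L25509
theorem L25513 : sm gg N2570 = N3458 := rfl
theorem L25514 : sm gg N3458 = N2570 := flp_g L25513
theorem L25515 : sm ge N3458 = N2571 := ded_26_1 L20897 L20894 L25513
theorem L25516 : sm ge N2571 = N3458 := flp_e L25515
theorem L25517 : sm gb N2571 = N3459 := rfl
theorem L25518 : sm gb N3459 = N2571 := flp_b L25517
theorem L25519 : sm gd N3459 = N2572 := ded_14_2 L20901 L20899 L25517
theorem L25520 : sm gd N2572 = N3459 := flp_d L25519
theorem L25521 : sm ga N2572 = N3460 := rfl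
theorem L25522 : sm ga N3460 = N2572 := flp_a L25521
theorem L25523 : sm gf N2572 = N3461 := rfl
theorem L25524 : sm gf N3461 = N2572 := flp_f L25523
theorem L25525 : sm gb N2573 = N3462 := rfl
theorem L25526 : sm gb N3462 = N2573 := flp_b L25525
theorem L25529 : sm ge N2573 = N3463 := rfl
theorem L25530 : sm ge N3463 = N2573 := flp_e L25529
theorem L25550 : sm gg N2575 = N3468 := rfl
theorem L25559 : sm gg N2576 = N3470 := rfl
theorem L25560 : sm gg N3470 = N2576 := flp_g L25559
theorem L25563 : sm gc N3470 = N2710 := ded_21_1 L21504 L20921 L25559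
theorem L25565 : sm gd N3470 = N2578 := ded_24_1 L20928 L20917 L25559
theorem L25566 : sm gd N2578 = N3470 := flp_d L25565
theorem L25567 : sm gf N2708 = N3470 := ded_29_0 L25560 L23526 L23527 L21547
theorem L25569 : sm gd N2577 = N3471 := rfl
theorem L25570 : sm gd N3471 = N2577 := flp_d L25569
theorem L25571 : sm gg N2577 = N3472 := rfl
theorem L25572 : sm gg N3472 = N2577 := flp_g L25571
theorem L25575 : sm ge N3472 = N2578 := ded_26_1 L20928 L20923 L25571
theorem L25577 : sm gb N2578 = N3473 := rfl
theorem L25578 : sm gb N3473 = N2578 := flp_b L25577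
theorem L25579 : sm gb N2579 = N3474 := rfl
theorem L25580 : sm gb N3474 = N2579 := flp_b L25579
theorem L25581 : sm gd N3474 = N2581 := ded_14_2 L20944 L20934 L25579
theorem L25583 : sm ge N3474 = N2580 := ded_15_2 L20938 L20936 L25579
theorem L25584 : sm ge N2580 = N3474 := flp_e L25583
theorem L25587 : sm gc N2580 = N3475 := rfl
theorem L25588 : sm gc N3475 = N2580 := flp_c L25587
theorem L25591 : sm gd N2582 = N3476 := rfl
theorem L25593 : sm ga N3476 = N2586 := ded_9_1 L20967 L20953 L25591
theorem L25595 : sm gb N3476 = N2863 := ded_14_1 L22207 L24214 L25591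
theorem L25599 : sm gc N3174 = N3476 := ded_13_0 L25595 L25164 L25161 L21076 L23882
theorem L25600 : sm gc N3476 = N3174 := flp_c L25599
theorem L25601 : sm gf N2582 = N3477 := rfl
theorem L25602 : sm gf N3477 = N2582 := flp_f L25601
theorem L25603 : sm ga N3477 = N2587 := ded_11_1 L20971 L20953 L25601
theorem L25604 : sm ga N2587 = N3477 := flp_a L25603
theorem L25605 : sm gc N3477 = N2584 := ded_20_1 L20959 L20950 L25601
theorem L25606 : sm gc N2584 = N3477 := flp_c L25605
theorem L25607 : sm ge N3477 = N3074 := ded_25_1 L23328 L24216 L25601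
theorem L25608 : sm ge N3074 = N3477 := flp_e L25607
theorem L25609 : sm gg N2582 = N3478 := rfl
theorem L25611 : sm ga N3478 = N2588 := ded_12_1 L20975 L20953 L25609
theorem L25612 : sm ga N2588 = N3478 := flp_a L25611
theorem L25613 : sm gc N3478 = N2585 := ded_21_1 L20963 L20950 L25609
theorem L25615 : sm ge N3478 = N3075 := ded_26_1 L23332 L24216 L25609
theorem L25617 : sm gc N2583 = N3479 := rfl
theorem L25618 : sm gc N3479 = N2583 := flp_c L25617
theorem L25619 : sm ga N3479 = N2589 := ded_8_1 L20979 L20957 L25617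
theorem L25620 : sm ga N2589 = N3479 := flp_a L25619
theorem L25621 : sm ge N2583 = N3480 := rfl
theorem L25622 : sm ge N3480 = N2583 := flp_e L25621
theorem L25623 : sm ga N3480 = N2590 := ded_10_1 L20981 L20957 L25621
theorem L25624 : sm ga N2590 = N3480 := flp_a L25623
theorem L25625 : sm gf N2583 = N3481 := rfl
theorem L25626 : sm gf N3481 = N2583 := flp_f L25625
theorem L25627 : sm ga N3481 = N2591 := ded_11_1 L20985 L20957 L25625
theorem L25628 : sm ga N2591 = N3481 := flp_a L25627
theorem L25629 : sm gd N3481 = N2584 := ded_23_1 L20959 L20954 L25625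
theorem L25630 : sm gd N2584 = N3481 := flp_d L25629
theorem L25631 : sm gg N2583 = N3482 := rfl
theorem L25632 : sm gg N3482 = N2583 := flp_g L25631
theorem L25633 : sm ga N3482 = N2592 := ded_12_1 L20989 L20957 L25631
theorem L25634 : sm ga N2592 = N3482 := flp_a L25633
theorem L25635 : sm gd N3482 = N2585 := ded_24_1 L20963 L20954 L25631
theorem L25636 : sm gd N2585 = N3482 := flp_d L25635
theorem L25637 : sm gb N2584 = N3483 := rfl
theorem L25638 : sm gb N3483 = N2584 := flp_b L25637
theorem L25639 : sm gb N2585 = N3484 := rfl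
theorem L25640 : sm gb N3484 = N2585 := flp_b L25639
theorem L25641 : sm gc N2586 = N3485 := rfl
theorem L25643 : sm ga N3485 = N3174 := ded_8_1 L25599 L25593 L25641
theorem L25645 : sm ge N3485 = N2740 := ded_19_2 L21665 L24177 L25641
theorem L25646 : sm ge N2740 = N3485 := flp_e L25645
theorem L25647 : sm gd N3480 = N3485 := ded_9_0 L25643 L23883 L25624
theorem L25648 : sm gd N3485 = N3480 := flp_d L25647
theorem L25649 : sm gf N2586 = N3486 := rfl
theorem L25651 : sm gd N3486 = N2587 := ded_23_1 L20971 L20966 L25649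
theorem L25652 : sm gd N2587 = N3486 := flp_d L25651
theorem L25653 : sm ge N3486 = N2742 := ded_25_1 L21669 L24177 L25649
theorem L25654 : sm ge N2742 = N3486 := flp_e L25653
theorem L25655 : sm gg N2586 = N3487 := rfl
theorem L25657 : sm gd N3487 = N2588 := ded_24_1 L20975 L20966 L25655
theorem L25658 : sm gd N2588 = N3487 := flp_d L25657
theorem L25659 : sm ge N3487 = N2743 := ded_26_1 L21673 L24177 L25655
theorem L25660 : sm ge N2743 = N3487 := flp_e L25659
theorem L25661 : sm gb N2587 = N3488 := rfl
theorem L25662 : sm gb N3488 = N2587 := flp_b L25661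
theorem L25663 : sm gf N3488 = N2744 := ded_16_2 L21677 L19071 L18704 L20970 L25661
theorem L25664 : sm gf N2744 = N3488 := flp_f L25663
theorem L25665 : sm gg N2587 = N3489 := rfl
theorem L25666 : sm gg N3489 = N2587 := flp_g L25665
theorem L25667 : sm gc N3489 = N2594 := ded_21_1 L20997 L20973 L25665
theorem L25668 : sm gc N2594 = N3489 := flp_c L25667
theorem L25669 : sm gf N3478 = N3489 := ded_29_0 L25666 L20971 L20974 L25612
theorem L25670 : sm gf N3489 = N3478 := flp_f L25669
theorem L25671 : sm gb N2588 = N3490 := rfl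
theorem L25672 : sm gb N3490 = N2588 := flp_b L25671
theorem L25673 : sm gg N3490 = N2746 := ded_17_2 L21685 L19075 L18704 L20974 L25671
theorem L25674 : sm gg N2746 = N3490 := flp_g L25673
theorem L25675 : sm gf N2588 = N3491 := rfl
theorem L25676 : sm gf N3491 = N2588 := flp_f L25675
theorem L25679 : sm gc N3491 = N2596 := ded_20_1 L21005 L20977 L25675
theorem L25681 : sm gg N3491 = N3477 := ded_29_3 L25603 L20971 L20974 L25675
theorem L25683 : sm gb N2589 = N3492 := rfl
theorem L25684 : sm gb N3492 = N2589 := flp_b L25683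
theorem L25685 : sm gc N3492 = N2597 := ded_13_2 L21011 L18714 L18708 L20978 L25683
theorem L25686 : sm gc N2597 = N3492 := flp_c L25685
theorem L25687 : sm gd N2589 = N3493 := rfl
theorem L25688 : sm gd N3493 = N2589 := flp_d L25687
theorem L25689 : sm gc N2590 = N3493 := ded_28_0 L25688 L20979 L18706 L18701 L20966 L25641 L25648 L25623
theorem L25690 : sm gc N3493 = N2590 := flp_c L25689
theorem L25691 : sm ge N2589 = N3493 := ded_32_0 L25688 L20979 L18706 L18701 L18703 L19068 L21664 L24247 L24220 L19855 L9429 L19185 L21921 L21925 L20734 L18740 L5994 L2846 L1450 L855 L769 L762 L445 L282 L252 L250 L122 L109 L180 L330 L544 L17869 L331 L181 L108 L80 L82 L132 L137 L88 L63 L62 L24 L15 L23 L27 L61 L87 L138 L133 L124 L249 L253 L388 L667 L1200 L2255 L17677 L3087 L1905 L3762 L3758 L3763 L7736 L12413 L4542 L17648 L1277 L1102 L2072 L4210 L8622 L10377 L20195 L21013 L25686 L25684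
theorem L25692 : sm ge N3493 = N2589 := flp_e L25691
theorem L25693 : sm gf N2589 = N3494 := rfl
theorem L25694 : sm gf N3494 = N2589 := flp_f L25693
theorem L25695 : sm gc N3494 = N2591 := ded_20_1 L20985 L20978 L25693
theorem L25696 : sm gc N2591 = N3494 := flp_c L25695
theorem L25697 : sm gg N2589 = N3495 := rfl
theorem L25698 : sm gg N3495 = N2589 := flp_g L25697
theorem L25699 : sm gc N3495 = N2592 := ded_21_1 L20989 L20978 L25697
theorem L25700 : sm gc N2592 = N3495 := flp_c L25699
theorem L25701 : sm gf N2590 = N3496 := rfl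
theorem L25702 : sm gf N3496 = N2590 := flp_f L25701
theorem L25703 : sm ge N3496 = N2591 := ded_25_1 L20985 L20980 L25701
theorem L25704 : sm ge N2591 = N3496 := flp_e L25703
theorem L25705 : sm gg N2590 = N3497 := rfl
theorem L25706 : sm gg N3497 = N2590 := flp_g L25705
theorem L25709 : sm gb N2591 = N3498 := rfl
theorem L25711 : sm gd N3498 = N2593 := ded_14_2 L20993 L20987 L25709
theorem L25712 : sm gd N2593 = N3498 := flp_d L25711
theorem L25713 : sm gf N3498 = N2603 := ded_16_2 L21049 L18724 L18708 L20984 L25709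
theorem L25714 : sm gf N2603 = N3498 := flp_f L25713
theorem L25715 : sm gg N2591 = N3499 := rfl
theorem L25716 : sm gg N3499 = N2591 := flp_g L25715
theorem L25719 : sm gf N3482 = N3499 := ded_29_0 L25716 L20985 L20988 L25634
theorem L25720 : sm gf N3499 = N3482 := flp_f L25719
theorem L25721 : sm gb N2592 = N3500 := rfl
theorem L25722 : sm gb N3500 = N2592 := flp_b L25721
theorem L25723 : sm gd N3500 = N2595 := ded_14_2 L21001 L20991 L25721
theorem L25725 : sm gg N3500 = N2604 := ded_17_2 L21053 L18730 L18708 L20988 L25721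
theorem L25726 : sm gg N2604 = N3500 := flp_g L25725
theorem L25727 : sm gf N2592 = N3501 := rfl
theorem L25728 : sm gf N3501 = N2592 := flp_f L25727
theorem L25731 : sm gd N3501 = N2596 := ded_23_1 L21005 L20991 L25727
theorem L25732 : sm gd N2596 = N3501 := flp_d L25731
theorem L25733 : sm gg N3501 = N3481 := ded_29_3 L25627 L20985 L20988 L25727
theorem L25734 : sm gg N3481 = N3501 := flp_g L25733
theorem L25735 : sm ga N2593 = N3502 := rfl
theorem L25736 : sm ga N3502 = N2593 := flp_a L25735
theorem L25737 : sm gf N3502 = N2605 := ded_11_2 L21057 L20995 L25735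
theorem L25738 : sm gf N2605 = N3502 := flp_f L25737
theorem L25739 : sm gc N2593 = N3503 := rfl
theorem L25740 : sm gc N3503 = N2593 := flp_c L25739
theorem L25741 : sm gf N3503 = N2606 := ded_20_2 L21059 L20995 L25739
theorem L25742 : sm gf N2606 = N3503 := flp_f L25741
theorem L25743 : sm gg N2593 = N3504 := rfl
theorem L25744 : sm gg N3504 = N2593 := flp_g L25743
theorem L25745 : sm gb N2594 = N3505 := rfl
theorem L25746 : sm gb N3505 = N2594 := flp_b L25745
theorem L25747 : sm ga N2595 = N3506 := rfl
theorem L25748 : sm ga N3506 = N2595 := flp_a L25747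
theorem L25749 : sm gg N3506 = N2608 := ded_12_2 L21065 L21003 L25747
theorem L25750 : sm gg N2608 = N3506 := flp_g L25749
theorem L25751 : sm gc N2595 = N3507 := rfl
theorem L25752 : sm gc N3507 = N2595 := flp_c L25751
theorem L25753 : sm gg N3507 = N2609 := ded_21_2 L21067 L21003 L25751
theorem L25754 : sm gg N2609 = N3507 := flp_g L25753
theorem L25755 : sm gf N2595 = N3508 := rfl
theorem L25756 : sm gf N3508 = N2595 := flp_f L25755
theorem L25757 : sm gb N2596 = N3509 := rfl
theorem L25758 : sm gb N3509 = N2596 := flp_b L25757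
theorem L25759 : sm ge N2597 = N3510 := rfl
theorem L25760 : sm ge N3510 = N2597 := flp_e L25759
theorem L25761 : sm ga N3510 = N2900 := ded_10_1 L24158 L24153 L25759
theorem L25762 : sm ga N2900 = N3510 := flp_a L25761
theorem L25763 : sm gb N3510 = N2598 := ded_15_1 L21015 L21010 L25759
theorem L25764 : sm gb N2598 = N3510 := flp_b L25763
theorem L25765 : sm gd N3510 = N2899 := ded_22_1 L22464 L20279 L21955 L21013 L25759
theorem L25766 : sm gd N2899 = N3510 := flp_d L25765
theorem L25767 : sm gf N2597 = N3511 := rfl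
theorem L25768 : sm gf N3511 = N2597 := flp_f L25767
theorem L25769 : sm gd N3511 = N3191 := ded_23_1 L23972 L21013 L25767
theorem L25771 : sm gg N2597 = N3512 := rfl
theorem L25772 : sm gg N3512 = N2597 := flp_g L25771
theorem L25773 : sm gd N3512 = N3192 := ded_24_1 L23976 L21013 L25771
theorem L25774 : sm gd N3192 = N3512 := flp_d L25773
theorem L25775 : sm gf N2598 = N3513 := rfl
theorem L25776 : sm gf N3513 = N2598 := flp_f L25775
theorem L25777 : sm ga N3513 = N2615 := ded_11_1 L21097 L21017 L25775
theorem L25778 : sm ga N2615 = N3513 := flp_a L25777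
theorem L25779 : sm gc N3513 = N2601 := ded_20_1 L21037 L21019 L25775
theorem L25780 : sm gc N2601 = N3513 := flp_c L25779
theorem L25781 : sm ge N3513 = N2599 := ded_25_1 L21021 L21014 L25775
theorem L25782 : sm ge N2599 = N3513 := flp_e L25781
theorem L25783 : sm gg N2598 = N3514 := rfl
theorem L25784 : sm gg N3514 = N2598 := flp_g L25783
theorem L25785 : sm ga N3514 = N2616 := ded_12_1 L21103 L21017 L25783
theorem L25786 : sm ga N2616 = N3514 := flp_a L25785
theorem L25787 : sm gc N3514 = N2602 := ded_21_1 L21043 L21019 L25783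
theorem L25789 : sm ge N3514 = N2600 := ded_26_1 L21029 L21014 L25783
theorem L25790 : sm ge N2600 = N3514 := flp_e L25789
theorem L25791 : sm gb N2599 = N3515 := rfl
theorem L25792 : sm gb N3515 = N2599 := flp_b L25791
theorem L25793 : sm gd N3515 = N3195 := ded_14_2 L23992 L21027 L25791
theorem L25794 : sm gd N3195 = N3515 := flp_d L25793
theorem L25795 : sm gb N2600 = N3516 := rfl
theorem L25796 : sm gb N3516 = N2600 := flp_b L25795
theorem L25797 : sm gd N3516 = N3197 := ded_14_2 L24002 L21035 L25795
theorem L25798 : sm gd N3197 = N3516 := flp_d L25797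
theorem L25799 : sm gb N2601 = N3517 := rfl
theorem L25800 : sm gb N3517 = N2601 := flp_b L25799
theorem L25801 : sm ge N3517 = N2603 := ded_15_2 L21049 L21041 L25799
theorem L25802 : sm ge N2603 = N3517 := flp_e L25801
theorem L25803 : sm gb N2602 = N3518 := rfl
theorem L25804 : sm gb N3518 = N2602 := flp_b L25803
theorem L25805 : sm ge N3518 = N2604 := ded_15_2 L21053 L21047 L25803
theorem L25806 : sm ge N2604 = N3518 := flp_e L25805
theorem L25807 : sm ga N2603 = N3519 := rfl
theorem L25808 : sm ga N3519 = N2603 := flp_a L25807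
theorem L25809 : sm gd N3519 = N2605 := ded_9_2 L21057 L21051 L25807
theorem L25810 : sm gd N2605 = N3519 := flp_d L25809
theorem L25811 : sm gc N2603 = N3520 := rfl
theorem L25812 : sm gc N3520 = N2603 := flp_c L25811
theorem L25817 : sm ga N2604 = N3522 := rfl
theorem L25818 : sm ga N3522 = N2604 := flp_a L25817
theorem L25819 : sm gd N3522 = N2608 := ded_9_2 L21065 L21055 L25817
theorem L25820 : sm gd N2608 = N3522 := flp_d L25819
theorem L25821 : sm gc N2604 = N3523 := rfl
theorem L25822 : sm gc N3523 = N2604 := flp_c L25821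
theorem L25823 : sm gf N2604 = N3524 := rfl
theorem L25824 : sm gf N3524 = N2604 := flp_f L25823
theorem L25825 : sm gd N3524 = N2610 := ded_23_1 L21071 L21055 L25823
theorem L25826 : sm gd N2610 = N3524 := flp_d L25825
theorem L25827 : sm gb N2605 = N3525 := rfl
theorem L25828 : sm gb N3525 = N2605 := flp_b L25827
theorem L25829 : sm gc N2605 = N3526 := rfl
theorem L25830 : sm gc N3526 = N2605 := flp_c L25829
theorem L25831 : sm ga N3526 = N2606 := ded_8_1 L21059 L21056 L25829
theorem L25832 : sm ga N2606 = N3526 := flp_a L25831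
theorem L25833 : sm gg N2605 = N3527 := rfl
theorem L25837 : sm gf N3527 = N3504 := ded_29_2 L25744 L25735 L25737 L25833
theorem L25838 : sm gf N3504 = N3527 := flp_f L25837
theorem L25839 : sm gd N2606 = N3528 := rfl
theorem L25840 : sm gd N3528 = N2606 := flp_d L25839
theorem L25841 : sm gb N3528 = N2759 := ded_14_1 L21731 L21061 L25839
theorem L25842 : sm gb N2759 = N3528 := flp_b L25841
theorem L25843 : sm gg N2606 = N3529 := rfl
theorem L25844 : sm gg N3529 = N2606 := flp_g L25843
theorem L25845 : sm gc N3529 = N2607 := ded_21_1 L21063 L21058 L25843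
theorem L25846 : sm gc N2607 = N3529 := flp_c L25845
theorem L25847 : sm gf N2607 = N3530 := rfl
theorem L25848 : sm gf N3530 = N2607 := flp_f L25847
theorem L25851 : sm gg N3530 = N3502 := ded_29_3 L25736 L20994 L21062 L25847
theorem L25852 : sm gg N3502 = N3530 := flp_g L25851
theorem L25853 : sm gb N2608 = N3531 := rfl
theorem L25854 : sm gb N3531 = N2608 := flp_b L25853
theorem L25855 : sm gc N2608 = N3532 := rfl
theorem L25856 : sm gc N3532 = N2608 := flp_c L25855
theorem L25857 : sm ga N3532 = N2609 := ded_8_1 L21067 L21064 L25855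
theorem L25858 : sm ga N2609 = N3532 := flp_a L25857
theorem L25859 : sm gf N2608 = N3533 := rfl
theorem L25860 : sm gf N3533 = N2608 := flp_f L25859
theorem L25861 : sm ga N3533 = N2610 := ded_11_1 L21071 L21064 L25859
theorem L25863 : sm gg N3508 = N3533 := ded_29_1 L25860 L25750 L25748 L25755
theorem L25864 : sm gg N3533 = N3508 := flp_g L25863
theorem L25865 : sm gd N2609 = N3534 := rfl
theorem L25866 : sm gd N3534 = N2609 := flp_d L25865
theorem L25867 : sm gb N3534 = N2765 := ded_14_1 L21756 L21069 L25865
theorem L25868 : sm gb N2765 = N3534 := flp_b L25867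
theorem L25869 : sm gf N2609 = N3535 := rfl
theorem L25870 : sm gf N3535 = N2609 := flp_f L25869
theorem L25871 : sm gc N3535 = N2610 := ded_20_1 L21071 L21066 L25869
theorem L25873 : sm gg N2610 = N3536 := rfl
theorem L25874 : sm gg N3536 = N2610 := flp_g L25873
theorem L25877 : sm gf N3506 = N3536 := ded_29_0 L25874 L21071 L21003 L25747
theorem L25878 : sm gf N3536 = N3506 := flp_f L25877
theorem L25879 : sm gf N2611 = N3537 := rfl
theorem L25881 : sm ga N3537 = N3193 := ded_11_1 L23980 L21075 L25879
theorem L25882 : sm ga N3193 = N3537 := flp_a L25881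
theorem L25883 : sm gc N3537 = N3181 := ded_20_1 L23920 L21077 L25879
theorem L25884 : sm gc N3181 = N3537 := flp_c L25883
theorem L25885 : sm gd N3537 = N2881 := ded_23_1 L22339 L22306 L25879
theorem L25886 : sm gd N2881 = N3537 := flp_d L25885
theorem L25887 : sm ge N3537 = N2612 := ded_25_1 L21079 L21072 L25879
theorem L25888 : sm ge N2612 = N3537 := flp_e L25887
theorem L25889 : sm gg N2611 = N3538 := rfl
theorem L25895 : sm gd N3538 = N2882 := ded_24_1 L22345 L22306 L25889
theorem L25896 : sm gd N2882 = N3538 := flp_d L25895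
theorem L25897 : sm ge N3538 = N2613 := ded_26_1 L21087 L21072 L25889
theorem L25898 : sm ge N2613 = N3538 := flp_e L25897
theorem L25899 : sm gb N2612 = N3539 := rfl
theorem L25900 : sm gb N3539 = N2612 := flp_b L25899
theorem L25903 : sm gb N2613 = N3540 := rfl
theorem L25904 : sm gb N3540 = N2613 := flp_b L25903
theorem L25905 : sm gd N3540 = N2619 := ded_14_2 L21117 L21093 L25903
theorem L25906 : sm gd N2619 = N3540 := flp_d L25905
theorem L25907 : sm gb N2615 = N3541 := rfl
theorem L25908 : sm gb N3541 = N2615 := flp_b L25907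
theorem L25909 : sm ge N3541 = N2617 := ded_15_2 L21109 L21101 L25907
theorem L25910 : sm ge N2617 = N3541 := flp_e L25909
theorem L25911 : sm gg N2615 = N3542 := rfl
theorem L25912 : sm gg N3542 = N2615 := flp_g L25911
theorem L25913 : sm gc N3542 = N2622 := ded_21_1 L21133 L21099 L25911
theorem L25914 : sm gc N2622 = N3542 := flp_c L25913
theorem L25915 : sm ge N3542 = N2618 := ded_26_1 L21111 L21101 L25911
theorem L25916 : sm ge N2618 = N3542 := flp_e L25915
theorem L25917 : sm gf N3514 = N3542 := ded_29_0 L25912 L21097 L21102 L25786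
theorem L25918 : sm gf N3542 = N3514 := flp_f L25917
theorem L25919 : sm gb N2616 = N3543 := rfl
theorem L25920 : sm gb N3543 = N2616 := flp_b L25919
theorem L25921 : sm ge N3543 = N2619 := ded_15_2 L21117 L21107 L25919
theorem L25922 : sm ge N2619 = N3543 := flp_e L25921
theorem L25923 : sm gf N2616 = N3544 := rfl
theorem L25924 : sm gf N3544 = N2616 := flp_f L25923
theorem L25925 : sm ga N3544 = N3542 := ded_11_1 L25918 L25785 L25923
theorem L25927 : sm gc N3544 = N2624 := ded_20_1 L21145 L21105 L25923
theorem L25928 : sm gc N2624 = N3544 := flp_c L25927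
theorem L25929 : sm ge N3544 = N2620 := ded_25_1 L21119 L21107 L25923
theorem L25930 : sm ge N2620 = N3544 := flp_e L25929
theorem L25931 : sm gg N3544 = N3513 := ded_29_3 L25777 L21097 L21102 L25923
theorem L25933 : sm ga N2617 = N3545 := rfl
theorem L25934 : sm ga N3545 = N2617 := flp_a L25933
theorem L25935 : sm gc N2617 = N3546 := rfl
theorem L25936 : sm gc N3546 = N2617 := flp_c L25935
theorem L25937 : sm gb N3546 = N2626 := ded_13_1 L21159 L18766 L18752 L21108 L25935
theorem L25938 : sm gb N2626 = N3546 := flp_b L25937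
theorem L25939 : sm gg N2617 = N3547 := rfl
theorem L25940 : sm gg N3547 = N2617 := flp_g L25939
theorem L25941 : sm gb N2618 = N3548 := rfl
theorem L25942 : sm gb N3548 = N2618 := flp_b L25941
theorem L25943 : sm ga N2619 = N3549 := rfl
theorem L25944 : sm ga N3549 = N2619 := flp_a L25943
theorem L25945 : sm gc N2619 = N3550 := rfl
theorem L25946 : sm gc N3550 = N2619 := flp_c L25945
theorem L25947 : sm gb N3550 = N2630 := ded_13_1 L21177 L18778 L18756 L21116 L25945
theorem L25948 : sm gb N2630 = N3550 := flp_b L25947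
theorem L25951 : sm gb N2620 = N3552 := rfl
theorem L25952 : sm gb N3552 = N2620 := flp_b L25951
theorem L25953 : sm ga N2621 = N3553 := rfl
theorem L25954 : sm ga N3553 = N2621 := flp_a L25953
theorem L25955 : sm ge N3553 = N2625 := ded_10_2 L21153 L21129 L25953
theorem L25956 : sm ge N2625 = N3553 := flp_e L25955
theorem L25957 : sm gf N3553 = N2645 := ded_11_2 L21235 L21131 L25953
theorem L25958 : sm gf N2645 = N3553 := flp_f L25957
theorem L25959 : sm gc N2621 = N3554 := rfl
theorem L25960 : sm gc N3554 = N2621 := flp_c L25959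
theorem L25961 : sm ge N3554 = N2626 := ded_19_2 L21159 L21129 L25959
theorem L25962 : sm ge N2626 = N3554 := flp_e L25961
theorem L25963 : sm gf N3554 = N2646 := ded_20_2 L21239 L21131 L25959
theorem L25964 : sm gf N2646 = N3554 := flp_f L25963
theorem L25965 : sm gg N2621 = N3555 := rfl
theorem L25966 : sm gg N3555 = N2621 := flp_g L25965
theorem L25967 : sm ge N3555 = N2627 := ded_26_1 L21163 L21129 L25965
theorem L25968 : sm ge N2627 = N3555 := flp_e L25967
theorem L25969 : sm gb N2622 = N3556 := rfl
theorem L25970 : sm gb N3556 = N2622 := flp_b L25969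
theorem L25971 : sm ge N3556 = N2628 := ded_15_2 L21167 L21135 L25969
theorem L25972 : sm ge N2628 = N3556 := flp_e L25971
theorem L25973 : sm ga N2623 = N3557 := rfl
theorem L25974 : sm ga N3557 = N2623 := flp_a L25973
theorem L25975 : sm ge N3557 = N2629 := ded_10_2 L21171 L21141 L25973
theorem L25976 : sm ge N2629 = N3557 := flp_e L25975
theorem L25977 : sm gg N3557 = N2649 := ded_12_2 L21251 L21143 L25973
theorem L25978 : sm gg N2649 = N3557 := flp_g L25977
theorem L25979 : sm gc N2623 = N3558 := rfl
theorem L25981 : sm ge N3558 = N2630 := ded_19_2 L21177 L21141 L25979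
theorem L25982 : sm ge N2630 = N3558 := flp_e L25981
theorem L25985 : sm gf N2623 = N3559 := rfl
theorem L25986 : sm gf N3559 = N2623 := flp_f L25985
theorem L25987 : sm ge N3559 = N2631 := ded_25_1 L21181 L21141 L25985
theorem L25988 : sm ge N2631 = N3559 := flp_e L25987
theorem L25989 : sm gb N2624 = N3560 := rfl
theorem L25990 : sm gb N3560 = N2624 := flp_b L25989
theorem L25993 : sm gb N2625 = N3561 := rfl
theorem L25994 : sm gb N3561 = N2625 := flp_b L25993
theorem L25995 : sm gd N3561 = N2633 := ded_14_2 L21189 L21155 L25993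
theorem L25996 : sm gd N2633 = N3561 := flp_d L25995
theorem L25997 : sm gc N2625 = N3562 := rfl
theorem L25998 : sm gc N3562 = N2625 := flp_c L25997
theorem L25999 : sm ga N3562 = N2626 := ded_8_1 L21159 L21152 L25997
theorem L26000 : sm ga N2626 = N3562 := flp_a L25999
theorem L26001 : sm gf N3562 = N2654 := ded_20_2 L21271 L21157 L25997
theorem L26003 : sm gd N2626 = N3563 := rfl
theorem L26004 : sm gd N3563 = N2626 := flp_d L26003
theorem L26005 : sm gf N3563 = N2656 := ded_23_2 L21283 L21161 L26003
theorem L26006 : sm gf N2656 = N3563 := flp_f L26005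
theorem L26007 : sm gg N2626 = N3564 := rfl
theorem L26008 : sm gg N3564 = N2626 := flp_g L26007
theorem L26011 : sm gb N2627 = N3565 := rfl
theorem L26012 : sm gb N3565 = N2627 := flp_b L26011
theorem L26013 : sm gd N3565 = N2636 := ded_14_2 L21205 L21165 L26011
theorem L26014 : sm gd N2636 = N3565 := flp_d L26013
theorem L26015 : sm gg N3565 = N2628 := ded_17_2 L21167 L18772 L18765 L21162 L26011
theorem L26016 : sm gg N2628 = N3565 := flp_g L26015
theorem L26017 : sm ga N2628 = N3566 := rfl
theorem L26018 : sm ga N3566 = N2628 := flp_a L26017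
theorem L26019 : sm gd N3566 = N2637 := ded_9_2 L21209 L21169 L26017
theorem L26020 : sm gd N2637 = N3566 := flp_d L26019
theorem L26021 : sm gc N2628 = N3567 := rfl
theorem L26022 : sm gc N3567 = N2628 := flp_c L26021
theorem L26023 : sm gf N2628 = N3568 := rfl
theorem L26024 : sm gf N3568 = N2628 := flp_f L26023
theorem L26025 : sm gd N3568 = N2639 := ded_23_1 L21215 L21169 L26023
theorem L26026 : sm gd N2639 = N3568 := flp_d L26025
theorem L26027 : sm gb N3568 = N3524 := ded_16_1 L25824 L21053 L18775 L21166 L26023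
theorem L26028 : sm gb N3524 = N3568 := flp_b L26027
theorem L26029 : sm gb N2629 = N3569 := rfl
theorem L26030 : sm gb N3569 = N2629 := flp_b L26029
theorem L26031 : sm gd N3569 = N2640 := ded_14_2 L21219 L21173 L26029
theorem L26032 : sm gd N2640 = N3569 := flp_d L26031
theorem L26033 : sm gc N2629 = N3570 := rfl
theorem L26034 : sm gc N3570 = N2629 := flp_c L26033
theorem L26035 : sm ga N3570 = N2630 := ded_8_1 L21177 L21170 L26033
theorem L26036 : sm ga N2630 = N3570 := flp_a L26035
theorem L26037 : sm gg N3570 = N2664 := ded_21_2 L21319 L21175 L26033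
theorem L26038 : sm gg N2664 = N3570 := flp_g L26037
theorem L26039 : sm gd N2630 = N3571 := rfl
theorem L26040 : sm gd N3571 = N2630 := flp_d L26039
theorem L26041 : sm gg N3571 = N2666 := ded_24_2 L21331 L21179 L26039
theorem L26042 : sm gg N2666 = N3571 := flp_g L26041
theorem L26043 : sm gf N2630 = N3572 := rfl
theorem L26044 : sm gf N3572 = N2630 := flp_f L26043
theorem L26045 : sm gc N3572 = N2631 := ded_20_1 L21181 L21176 L26043
theorem L26047 : sm gb N2631 = N3573 := rfl
theorem L26048 : sm gb N3573 = N2631 := flp_b L26047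
theorem L26051 : sm gf N3573 = N2632 := ded_16_2 L21185 L18784 L18777 L21180 L26047
theorem L26052 : sm gf N2632 = N3573 := flp_f L26051
theorem L26053 : sm ga N2632 = N3574 := rfl
theorem L26055 : sm gd N3574 = N2642 := ded_9_2 L21225 L21187 L26053
theorem L26056 : sm gd N2642 = N3574 := flp_d L26055
theorem L26065 : sm ga N2633 = N3577 := rfl
theorem L26066 : sm ga N3577 = N2633 := flp_a L26065
theorem L26067 : sm gc N2633 = N3578 := rfl
theorem L26068 : sm gc N3578 = N2633 := flp_c L26067
theorem L26069 : sm gf N2633 = N3579 := rfl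
theorem L26070 : sm gf N3579 = N2633 := flp_f L26069
theorem L26071 : sm gb N3579 = N2675 := ded_16_1 L21369 L18870 L18794 L21188 L26069
theorem L26072 : sm gb N2675 = N3579 := flp_b L26071
theorem L26073 : sm gg N2633 = N3580 := rfl
theorem L26074 : sm gg N3580 = N2633 := flp_g L26073
theorem L26075 : sm gb N2634 = N3581 := rfl
theorem L26076 : sm gb N3581 = N2634 := flp_b L26075
theorem L26077 : sm gd N3581 = N3045 := ded_14_2 L23218 L21196 L26075
theorem L26078 : sm gd N3045 = N3581 := flp_d L26077
theorem L26079 : sm gb N2635 = N3582 := rfl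
theorem L26080 : sm gb N3582 = N2635 := flp_b L26079
theorem L26083 : sm gg N3582 = N2773 := ded_17_2 L21782 L19119 L18800 L21198 L26079
theorem L26084 : sm gg N2773 = N3582 := flp_g L26083
theorem L26085 : sm ga N2636 = N3583 := rfl
theorem L26086 : sm ga N3583 = N2636 := flp_a L26085
theorem L26087 : sm gg N3583 = N2637 := ded_12_2 L21209 L21207 L26085
theorem L26088 : sm gg N2637 = N3583 := flp_g L26087
theorem L26089 : sm gc N2636 = N3584 := rfl
theorem L26090 : sm gc N3584 = N2636 := flp_c L26089
theorem L26091 : sm gg N3584 = N2638 := ded_21_2 L21211 L21207 L26089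
theorem L26092 : sm gg N2638 = N3584 := flp_g L26091
theorem L26093 : sm gf N2636 = N3585 := rfl
theorem L26094 : sm gf N3585 = N2636 := flp_f L26093
theorem L26095 : sm gb N2637 = N3586 := rfl
theorem L26096 : sm gb N3586 = N2637 := flp_b L26095
theorem L26097 : sm gc N2637 = N3587 := rfl
theorem L26098 : sm gc N3587 = N2637 := flp_c L26097
theorem L26099 : sm ga N3587 = N2638 := ded_8_1 L21211 L21208 L26097
theorem L26100 : sm ga N2638 = N3587 := flp_a L26099
theorem L26101 : sm gf N2637 = N3588 := rfl
theorem L26102 : sm gf N3588 = N2637 := flp_f L26101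
theorem L26103 : sm ga N3588 = N2639 := ded_11_1 L21215 L21208 L26101
theorem L26105 : sm gg N3585 = N3588 := ded_29_1 L26102 L26088 L26086 L26093
theorem L26106 : sm gg N3588 = N3585 := flp_g L26105
theorem L26107 : sm gd N2638 = N3589 := rfl
theorem L26108 : sm gd N3589 = N2638 := flp_d L26107
theorem L26109 : sm gb N3589 = N2780 := ded_14_1 L21808 L21213 L26107
theorem L26110 : sm gb N2780 = N3589 := flp_b L26109
theorem L26111 : sm gf N2638 = N3590 := rfl
theorem L26112 : sm gf N3590 = N2638 := flp_f L26111
theorem L26113 : sm gc N3590 = N2639 := ded_20_1 L21215 L21210 L26111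
theorem L26114 : sm gc N2639 = N3590 := flp_c L26113
theorem L26115 : sm gg N2639 = N3591 := rfl
theorem L26116 : sm gg N3591 = N2639 := flp_g L26115
theorem L26117 : sm ga N3591 = N3585 := ded_12_1 L26105 L26103 L26115
theorem L26118 : sm ga N3585 = N3591 := flp_a L26117
theorem L26119 : sm gf N3583 = N3591 := ded_29_0 L26116 L21215 L21207 L26085
theorem L26121 : sm ga N2640 = N3592 := rfl
theorem L26122 : sm ga N3592 = N2640 := flp_a L26121
theorem L26123 : sm gc N2640 = N3593 := rfl
theorem L26124 : sm gc N3593 = N2640 := flp_c L26123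
theorem L26126 : sm gf N2640 = N3594 := rfl
theorem L26127 : sm gf N3594 = N2640 := flp_f L26126
theorem L26128 : sm gg N2640 = N3595 := rfl
theorem L26129 : sm gg N3595 = N2640 := flp_g L26128
theorem L26130 : sm gb N3595 = N2694 := ded_17_1 L21444 L18910 L18811 L21218 L26128
theorem L26131 : sm gb N2694 = N3595 := flp_b L26130
theorem L26132 : sm ga N2641 = N3596 := rfl
theorem L26133 : sm ga N3596 = N2641 := flp_a L26132
theorem L26134 : sm gf N3596 = N2642 := ded_11_2 L21225 L21223 L26132
theorem L26135 : sm gf N2642 = N3596 := flp_f L26134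
theorem L26136 : sm gc N2641 = N3597 := rfl
theorem L26137 : sm gc N3597 = N2641 := flp_c L26136
theorem L26138 : sm gf N3597 = N2643 := ded_20_2 L21227 L21223 L26136
theorem L26139 : sm gf N2643 = N3597 := flp_f L26138
theorem L26141 : sm gg N2641 = N3598 := rfl
theorem L26142 : sm gg N3598 = N2641 := flp_g L26141
theorem L26143 : sm gb N2642 = N3599 := rfl
theorem L26144 : sm gb N3599 = N2642 := flp_b L26143
theorem L26145 : sm gc N2642 = N3600 := rfl
theorem L26146 : sm gc N3600 = N2642 := flp_c L26145
theorem L26147 : sm ga N3600 = N2643 := ded_8_1 L21227 L21224 L26145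
theorem L26148 : sm ga N2643 = N3600 := flp_a L26147
theorem L26149 : sm gg N2642 = N3601 := rfl
theorem L26150 : sm gg N3601 = N2642 := flp_g L26149
theorem L26151 : sm ga N3601 = N2644 := ded_12_1 L21231 L21224 L26149
theorem L26153 : sm gf N3601 = N3598 := ded_29_2 L26142 L26132 L26134 L26149
theorem L26154 : sm gf N3598 = N3601 := flp_f L26153
theorem L26155 : sm gd N2643 = N3602 := rfl
theorem L26156 : sm gd N3602 = N2643 := flp_d L26155
theorem L26157 : sm gb N3602 = N2786 := ded_14_1 L21833 L21229 L26155
theorem L26158 : sm gb N2786 = N3602 := flp_b L26157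
theorem L26159 : sm gg N2643 = N3603 := rfl
theorem L26160 : sm gg N3603 = N2643 := flp_g L26159
theorem L26163 : sm gf N2644 = N3604 := rfl
theorem L26164 : sm gf N3604 = N2644 := flp_f L26163
theorem L26165 : sm ga N3604 = N3598 := ded_11_1 L26154 L26151 L26163
theorem L26166 : sm ga N3598 = N3604 := flp_a L26165
theorem L26167 : sm gg N3604 = N3596 := ded_29_3 L26133 L21222 L21230 L26163
theorem L26168 : sm gg N3596 = N3604 := flp_g L26167
theorem L26169 : sm gb N2645 = N3605 := rfl
theorem L26170 : sm gb N3605 = N2645 := flp_b L26169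
theorem L26171 : sm ge N3605 = N2653 := ded_15_2 L21267 L21237 L26169
theorem L26172 : sm ge N2653 = N3605 := flp_e L26171
theorem L26173 : sm gc N2645 = N3606 := rfl
theorem L26174 : sm gc N3606 = N2645 := flp_c L26173
theorem L26175 : sm ga N3606 = N2646 := ded_8_1 L21239 L21234 L26173
theorem L26176 : sm ga N2646 = N3606 := flp_a L26175
theorem L26177 : sm ge N3606 = N2654 := ded_19_2 L21271 L21237 L26173
theorem L26178 : sm ge N2654 = N3606 := flp_e L26177
theorem L26179 : sm gg N2645 = N3607 := rfl
theorem L26180 : sm gg N3607 = N2645 := flp_g L26179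
theorem L26181 : sm ga N3607 = N2647 := ded_12_1 L21243 L21234 L26179
theorem L26182 : sm ga N2647 = N3607 := flp_a L26181
theorem L26183 : sm ge N3607 = N2655 := ded_26_1 L21275 L21237 L26179
theorem L26184 : sm ge N2655 = N3607 := flp_e L26183
theorem L26185 : sm gf N3607 = N3555 := ded_29_2 L25966 L25953 L25957 L26179
theorem L26186 : sm gf N3555 = N3607 := flp_f L26185
theorem L26187 : sm gd N2646 = N3608 := rfl
theorem L26188 : sm gd N3608 = N2646 := flp_d L26187
theorem L26189 : sm gg N2646 = N3609 := rfl
theorem L26190 : sm gg N3609 = N2646 := flp_g L26189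
theorem L26193 : sm ge N3609 = N2657 := ded_26_1 L21285 L21241 L26189
theorem L26194 : sm ge N2657 = N3609 := flp_e L26193
theorem L26195 : sm gb N2647 = N3610 := rfl
theorem L26196 : sm gb N3610 = N2647 := flp_b L26195
theorem L26197 : sm ge N3610 = N2658 := ded_15_2 L21289 L21245 L26195
theorem L26198 : sm ge N2658 = N3610 := flp_e L26197
theorem L26199 : sm gg N3610 = N2648 := ded_17_2 L21247 L18822 L18817 L21242 L26195
theorem L26200 : sm gg N2648 = N3610 := flp_g L26199
theorem L26209 : sm ga N2648 = N3612 := rfl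
theorem L26210 : sm ga N3612 = N2648 := flp_a L26209
theorem L26211 : sm ge N3612 = N2660 := ded_10_2 L21303 L21249 L26209
theorem L26212 : sm ge N2660 = N3612 := flp_e L26211
theorem L26213 : sm gc N2648 = N3613 := rfl
theorem L26214 : sm gc N3613 = N2648 := flp_c L26213
theorem L26215 : sm ge N3613 = N2661 := ded_19_2 L21307 L21249 L26213
theorem L26216 : sm ge N2661 = N3613 := flp_e L26215
theorem L26217 : sm gf N2648 = N3614 := rfl
theorem L26218 : sm gf N3614 = N2648 := flp_f L26217
theorem L26219 : sm ge N3614 = N2662 := ded_25_1 L21309 L21249 L26217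
theorem L26220 : sm ge N2662 = N3614 := flp_e L26219
theorem L26221 : sm gb N3614 = N3415 := ded_16_1 L25338 L20809 L18825 L21246 L26217
theorem L26223 : sm gb N2649 = N3615 := rfl
theorem L26224 : sm gb N3615 = N2649 := flp_b L26223
theorem L26225 : sm ge N3615 = N2663 := ded_15_2 L21315 L21253 L26223
theorem L26226 : sm ge N2663 = N3615 := flp_e L26225
theorem L26227 : sm gc N2649 = N3616 := rfl
theorem L26228 : sm gc N3616 = N2649 := flp_c L26227
theorem L26229 : sm ga N3616 = N2650 := ded_8_1 L21255 L21250 L26227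
theorem L26230 : sm ga N2650 = N3616 := flp_a L26229
theorem L26233 : sm gf N2649 = N3617 := rfl
theorem L26234 : sm gf N3617 = N2649 := flp_f L26233
theorem L26235 : sm ga N3617 = N2651 := ded_11_1 L21259 L21250 L26233
theorem L26241 : sm gd N2650 = N3618 := rfl
theorem L26242 : sm gd N3618 = N2650 := flp_d L26241
theorem L26243 : sm gf N2650 = N3619 := rfl
theorem L26244 : sm gf N3619 = N2650 := flp_f L26243
theorem L26247 : sm ge N3619 = N2667 := ded_25_1 L21333 L21257 L26243
theorem L26248 : sm ge N2667 = N3619 := flp_e L26247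
theorem L26249 : sm gb N2651 = N3620 := rfl
theorem L26250 : sm gb N3620 = N2651 := flp_b L26249
theorem L26251 : sm ge N3620 = N2668 := ded_15_2 L21337 L21261 L26249
theorem L26252 : sm ge N2668 = N3620 := flp_e L26251
theorem L26253 : sm gf N3620 = N2652 := ded_16_2 L21263 L18832 L18827 L21258 L26249
theorem L26254 : sm gf N2652 = N3620 := flp_f L26253
theorem L26255 : sm gg N2651 = N3621 := rfl
theorem L26256 : sm gg N3621 = N2651 := flp_g L26255
theorem L26259 : sm ge N3621 = N2669 := ded_26_1 L21343 L21261 L26255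
theorem L26260 : sm ge N2669 = N3621 := flp_e L26259
theorem L26261 : sm gf N3557 = N3621 := ded_29_0 L26256 L21259 L21143 L25973
theorem L26263 : sm ga N2652 = N3622 := rfl
theorem L26264 : sm ga N3622 = N2652 := flp_a L26263
theorem L26265 : sm ge N3622 = N2670 := ded_10_2 L21351 L21265 L26263
theorem L26266 : sm ge N2670 = N3622 := flp_e L26265
theorem L26267 : sm gc N2652 = N3623 := rfl
theorem L26268 : sm gc N3623 = N2652 := flp_c L26267
theorem L26273 : sm gg N2652 = N3624 := rfl
theorem L26274 : sm gg N3624 = N2652 := flp_g L26273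
theorem L26277 : sm gb N3624 = N3412 := ded_17_1 L25324 L20805 L18840 L21262 L26273
theorem L26279 : sm ga N2653 = N3625 := rfl
theorem L26280 : sm ga N3625 = N2653 := flp_a L26279
theorem L26281 : sm gd N3625 = N2673 := ded_9_2 L21365 L21269 L26279
theorem L26283 : sm gc N2653 = N3626 := rfl
theorem L26284 : sm gc N3626 = N2653 := flp_c L26283
theorem L26285 : sm gf N2653 = N3627 := rfl
theorem L26286 : sm gf N3627 = N2653 := flp_f L26285
theorem L26289 : sm gg N2653 = N3628 := rfl
theorem L26290 : sm gg N3628 = N2653 := flp_g L26289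
theorem L26291 : sm gd N3628 = N2676 := ded_24_1 L21371 L21269 L26289
theorem L26292 : sm gd N2676 = N3628 := flp_d L26291
theorem L26293 : sm gb N2654 = N3629 := rfl
theorem L26294 : sm gb N3629 = N2654 := flp_b L26293
theorem L26295 : sm gg N2654 = N3630 := rfl
theorem L26301 : sm gf N3630 = N3564 := ded_29_2 L26008 L26000 L26001 L26295
theorem L26303 : sm gb N2655 = N3631 := rfl
theorem L26304 : sm gb N3631 = N2655 := flp_b L26303
theorem L26305 : sm gd N3631 = N2679 := ded_14_2 L21387 L21279 L26303
theorem L26306 : sm gd N2679 = N3631 := flp_d L26305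
theorem L26307 : sm ge N2656 = N3632 := rfl
theorem L26308 : sm ge N3632 = N2656 := flp_e L26307
theorem L26309 : sm gg N2656 = N3633 := rfl
theorem L26310 : sm gg N3633 = N2656 := flp_g L26309
theorem L26313 : sm gb N2657 = N3634 := rfl
theorem L26323 : sm ga N2658 = N3636 := rfl
theorem L26324 : sm ga N3636 = N2658 := flp_a L26323
theorem L26325 : sm gd N3636 = N2681 := ded_9_2 L21399 L21291 L26323
theorem L26326 : sm gd N2681 = N3636 := flp_d L26325
theorem L26327 : sm gg N3636 = N2660 := ded_12_2 L21303 L21293 L26323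
theorem L26328 : sm gg N2660 = N3636 := flp_g L26327
theorem L26329 : sm gc N2658 = N3637 := rfl
theorem L26330 : sm gc N3637 = N2658 := flp_c L26329
theorem L26331 : sm gg N3637 = N2661 := ded_21_2 L21307 L21293 L26329
theorem L26332 : sm gg N2661 = N3637 := flp_g L26331
theorem L26333 : sm gf N2658 = N3638 := rfl
theorem L26335 : sm gd N3638 = N2683 := ded_23_1 L21407 L21291 L26333
theorem L26336 : sm gd N2683 = N3638 := flp_d L26335
theorem L26337 : sm gb N2659 = N3639 := rfl
theorem L26338 : sm gb N3639 = N2659 := flp_b L26337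
theorem L26339 : sm gd N3639 = N2684 := ded_14_2 L21409 L21299 L26337
theorem L26340 : sm gd N2684 = N3639 := flp_d L26339
theorem L26341 : sm gb N2660 = N3640 := rfl
theorem L26342 : sm gb N3640 = N2660 := flp_b L26341
theorem L26343 : sm gd N3640 = N2685 := ded_14_2 L21411 L21305 L26341
theorem L26344 : sm gd N2685 = N3640 := flp_d L26343
theorem L26345 : sm gc N2660 = N3641 := rfl
theorem L26346 : sm gc N3641 = N2660 := flp_c L26345
theorem L26347 : sm ga N3641 = N2661 := ded_8_1 L21307 L21302 L26345
theorem L26348 : sm ga N2661 = N3641 := flp_a L26347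
theorem L26349 : sm gf N2660 = N3642 := rfl
theorem L26350 : sm gf N3642 = N2660 := flp_f L26349
theorem L26351 : sm ga N3642 = N2662 := ded_11_1 L21309 L21302 L26349
theorem L26352 : sm ga N2662 = N3642 := flp_a L26351
theorem L26353 : sm gd N3642 = N2687 := ded_23_1 L21417 L21305 L26349
theorem L26355 : sm gg N3638 = N3642 := ded_29_1 L26350 L26328 L26324 L26333
theorem L26356 : sm gg N3642 = N3638 := flp_g L26355
theorem L26357 : sm gd N2661 = N3643 := rfl
theorem L26358 : sm gd N3643 = N2661 := flp_d L26357
theorem L26359 : sm gf N2661 = N3644 := rfl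
theorem L26360 : sm gf N3644 = N2661 := flp_f L26359
theorem L26361 : sm gc N3644 = N2662 := ded_20_1 L21309 L21306 L26359
theorem L26362 : sm gc N2662 = N3644 := flp_c L26361
theorem L26363 : sm gg N2662 = N3645 := rfl
theorem L26364 : sm gg N3645 = N2662 := flp_g L26363
theorem L26367 : sm gd N3645 = N2690 := ded_24_1 L21431 L21311 L26363
theorem L26371 : sm ga N2663 = N3646 := rfl
theorem L26373 : sm gd N3646 = N2691 := ded_9_2 L21437 L21317 L26371
theorem L26374 : sm gd N2691 = N3646 := flp_d L26373
theorem L26375 : sm gc N2663 = N3647 := rfl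
theorem L26376 : sm gc N3647 = N2663 := flp_c L26375
theorem L26377 : sm gf N2663 = N3648 := rfl
theorem L26378 : sm gf N3648 = N2663 := flp_f L26377
theorem L26379 : sm gd N3648 = N2693 := ded_23_1 L21442 L21317 L26377
theorem L26380 : sm gd N2693 = N3648 := flp_d L26379
theorem L26381 : sm gg N2663 = N3649 := rfl
theorem L26382 : sm gg N3649 = N2663 := flp_g L26381
theorem L26385 : sm gb N2664 = N3650 := rfl
theorem L26386 : sm gb N3650 = N2664 := flp_b L26385
theorem L26387 : sm gd N2664 = N3651 := rfl
theorem L26388 : sm gd N3651 = N2664 := flp_d L26387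
theorem L26389 : sm ga N3651 = N2666 := ded_9_1 L21331 L21321 L26387
theorem L26390 : sm ga N2666 = N3651 := flp_a L26389
theorem L26391 : sm gc N2666 = N3651 := ded_28_0 L26388 L21319 L18857 L6074 L18858 L21318 L26387 L26389
theorem L26393 : sm gf N2664 = N3652 := rfl
theorem L26394 : sm gf N3652 = N2664 := flp_f L26393
theorem L26395 : sm ga N3652 = N2667 := ded_11_1 L21333 L21321 L26393
theorem L26399 : sm gg N3572 = N3652 := ded_29_1 L26394 L26038 L26035 L26043
theorem L26401 : sm gb N2665 = N3653 := rfl
theorem L26402 : sm gb N3653 = N2665 := flp_b L26401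
theorem L26403 : sm gd N3653 = N2695 := ded_14_2 L21446 L21327 L26401
theorem L26404 : sm gd N2695 = N3653 := flp_d L26403
theorem L26405 : sm ge N2666 = N3654 := rfl
theorem L26406 : sm ge N3654 = N2666 := flp_e L26405
theorem L26407 : sm gf N2666 = N3655 := rfl
theorem L26408 : sm gf N3655 = N2666 := flp_f L26407
theorem L26409 : sm gd N3655 = N2667 := ded_23_1 L21333 L21330 L26407
theorem L26410 : sm gd N2667 = N3655 := flp_d L26409
theorem L26411 : sm gb N2667 = N3656 := rfl
theorem L26412 : sm gb N3656 = N2667 := flp_b L26411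
theorem L26413 : sm gg N2667 = N3657 := rfl
theorem L26414 : sm gg N3657 = N2667 := flp_g L26413
theorem L26415 : sm ga N3657 = N3572 := ded_12_1 L26399 L26395 L26413
theorem L26416 : sm ga N3572 = N3657 := flp_a L26415
theorem L26421 : sm ga N2668 = N3658 := rfl
theorem L26422 : sm ga N3658 = N2668 := flp_a L26421
theorem L26423 : sm gd N3658 = N2696 := ded_9_2 L21448 L21339 L26421
theorem L26424 : sm gd N2696 = N3658 := flp_d L26423
theorem L26425 : sm gf N3658 = N2670 := ded_11_2 L21351 L21341 L26421
theorem L26426 : sm gf N2670 = N3658 := flp_f L26425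
theorem L26427 : sm gc N2668 = N3659 := rfl
theorem L26428 : sm gc N3659 = N2668 := flp_c L26427
theorem L26429 : sm gf N3659 = N2671 := ded_20_2 L21355 L21341 L26427
theorem L26430 : sm gf N2671 = N3659 := flp_f L26429
theorem L26431 : sm gg N2668 = N3660 := rfl
theorem L26432 : sm gg N3660 = N2668 := flp_g L26431
theorem L26435 : sm gb N2669 = N3661 := rfl
theorem L26436 : sm gb N3661 = N2669 := flp_b L26435
theorem L26439 : sm gb N2670 = N3662 := rfl
theorem L26440 : sm gb N3662 = N2670 := flp_b L26439
theorem L26443 : sm gc N2670 = N3663 := rfl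
theorem L26444 : sm gc N3663 = N2670 := flp_c L26443
theorem L26445 : sm ga N3663 = N2671 := ded_8_1 L21355 L21350 L26443
theorem L26446 : sm ga N2671 = N3663 := flp_a L26445
theorem L26447 : sm gg N2670 = N3664 := rfl
theorem L26451 : sm gd N3664 = N2702 := ded_24_1 L21467 L21353 L26447
theorem L26453 : sm gf N3664 = N3660 := ded_29_2 L26432 L26421 L26425 L26447
theorem L26454 : sm gf N3660 = N3664 := flp_f L26453
theorem L26455 : sm gd N2671 = N3665 := rfl
theorem L26456 : sm gd N3665 = N2671 := flp_d L26455
theorem L26457 : sm gb N3665 = N3643 := ded_14_1 L26358 L21357 L26455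
theorem L26458 : sm gb N3643 = N3665 := flp_b L26457
theorem L26459 : sm gg N2671 = N3666 := rfl
theorem L26460 : sm gg N3666 = N2671 := flp_g L26459
theorem L26463 : sm gf N2672 = N3667 := rfl
theorem L26467 : sm gd N3667 = N2705 := ded_23_1 L21481 L21361 L26463
theorem L26468 : sm gd N2705 = N3667 := flp_d L26467
theorem L26469 : sm gg N3667 = N3658 := ded_29_3 L26422 L21340 L21358 L26463
theorem L26470 : sm gg N3658 = N3667 := flp_g L26469
theorem L26471 : sm gc N2673 = N3668 := rfl
theorem L26473 : sm ga N3668 = N2674 := ded_8_1 L21367 L21364 L26471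
theorem L26474 : sm ga N2674 = N3668 := flp_a L26473
theorem L26475 : sm gf N2673 = N3669 := rfl
theorem L26476 : sm gf N3669 = N2673 := flp_f L26475
theorem L26477 : sm ga N3669 = N2675 := ded_11_1 L21369 L21364 L26475
theorem L26479 : sm gg N2673 = N3670 := rfl
theorem L26480 : sm gg N3670 = N2673 := flp_g L26479
theorem L26481 : sm ga N3670 = N2676 := ded_12_1 L21371 L21364 L26479
theorem L26482 : sm ga N2676 = N3670 := flp_a L26481
theorem L26483 : sm gb N2674 = N3671 := rfl
theorem L26485 : sm gc N3671 = N2677 := ded_13_2 L21373 L18872 L18869 L21366 L26483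
theorem L26486 : sm gc N2677 = N3671 := flp_c L26485
theorem L26489 : sm gf N2674 = N3673 := rfl
theorem L26490 : sm gf N3673 = N2674 := flp_f L26489
theorem L26493 : sm gg N2674 = N3674 := rfl
theorem L26495 : sm gc N3674 = N2676 := ded_21_1 L21371 L21366 L26493
theorem L26496 : sm gc N2676 = N3674 := flp_c L26495
theorem L26497 : sm gg N2675 = N3675 := rfl
theorem L26498 : sm gg N3675 = N2675 := flp_g L26497
theorem L26499 : sm gf N3670 = N3675 := ded_29_0 L26498 L21369 L21370 L26482
theorem L26500 : sm gf N3675 = N3670 := flp_f L26499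
theorem L26501 : sm gb N2676 = N3676 := rfl
theorem L26502 : sm gb N3676 = N2676 := flp_b L26501
theorem L26503 : sm gg N3676 = N2679 := ded_17_2 L21387 L18878 L18869 L21370 L26501
theorem L26504 : sm gg N2679 = N3676 := flp_g L26503
theorem L26505 : sm gf N2676 = N3677 := rfl
theorem L26506 : sm gf N3677 = N2676 := flp_f L26505
theorem L26507 : sm ga N3677 = N3675 := ded_11_1 L26500 L26481 L26505
theorem L26508 : sm ga N3675 = N3677 := flp_a L26507
theorem L26509 : sm gg N3677 = N3669 := ded_29_3 L26477 L21369 L21370 L26505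
theorem L26510 : sm gg N3669 = N3677 := flp_g L26509
theorem L26511 : sm ga N2677 = N3678 := rfl
theorem L26512 : sm ga N3678 = N2677 := flp_a L26511
theorem L26513 : sm gd N3678 = N3058 := ded_9_2 L23264 L21375 L26511
theorem L26514 : sm gd N3058 = N3678 := flp_d L26513
theorem L26515 : sm gb N3678 = N3058 := ded_7_2 L23264 L19829 L9420 L4644 L17733 L6067 L18874 L21372 L26511
theorem L26516 : sm gb N3058 = N3678 := flp_b L26515
theorem L26517 : sm gf N2677 = N3679 := rfl
theorem L26518 : sm gf N3679 = N2677 := flp_f L26517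
theorem L26521 : sm gg N2677 = N3680 := rfl
theorem L26522 : sm gg N3680 = N2677 := flp_g L26521
theorem L26523 : sm gd N3680 = N3061 := ded_24_1 L23270 L21375 L26521
theorem L26524 : sm gd N3061 = N3680 := flp_d L26523
theorem L26525 : sm gb N2678 = N3681 := rfl
theorem L26526 : sm gb N3681 = N2678 := flp_b L26525
theorem L26527 : sm gd N3681 = N3065 := ded_14_2 L23288 L21383 L26525
theorem L26528 : sm gd N3065 = N3681 := flp_d L26527
theorem L26529 : sm ga N2679 = N3682 := rfl
theorem L26530 : sm ga N3682 = N2679 := flp_a L26529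
theorem L26531 : sm gc N2679 = N3683 := rfl
theorem L26532 : sm gc N3683 = N2679 := flp_c L26531
theorem L26533 : sm gf N2679 = N3684 := rfl
theorem L26534 : sm gf N3684 = N2679 := flp_f L26533
theorem L26535 : sm gb N3684 = N3585 := ded_16_1 L26094 L21205 L18882 L21386 L26533
theorem L26536 : sm gb N3585 = N3684 := flp_b L26535
theorem L26537 : sm gb N2680 = N3685 := rfl
theorem L26538 : sm gb N3685 = N2680 := flp_b L26537
theorem L26539 : sm gd N3685 = N3071 := ded_14_2 L23316 L21395 L26537
theorem L26540 : sm gd N3071 = N3685 := flp_d L26539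
theorem L26541 : sm gb N2681 = N3686 := rfl
theorem L26542 : sm gb N3686 = N2681 := flp_b L26541
theorem L26543 : sm gc N2681 = N3687 := rfl
theorem L26544 : sm gc N3687 = N2681 := flp_c L26543
theorem L26545 : sm ga N3687 = N2682 := ded_8_1 L21403 L21398 L26543
theorem L26546 : sm ga N2682 = N3687 := flp_a L26545
theorem L26547 : sm gg N3687 = N2686 := ded_21_2 L21413 L21401 L26543
theorem L26548 : sm gg N2686 = N3687 := flp_g L26547
theorem L26549 : sm gd N2682 = N3688 := rfl
theorem L26550 : sm gd N3688 = N2682 := flp_d L26549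
theorem L26551 : sm gg N3688 = N2688 := ded_24_2 L21423 L21405 L26549
theorem L26552 : sm gg N2688 = N3688 := flp_g L26551
theorem L26553 : sm gf N2682 = N3689 := rfl
theorem L26554 : sm gf N3689 = N2682 := flp_f L26553
theorem L26555 : sm gc N3689 = N2683 := ded_20_1 L21407 L21402 L26553
theorem L26556 : sm gc N2683 = N3689 := flp_c L26555
theorem L26557 : sm gb N2683 = N3690 := rfl
theorem L26558 : sm gb N3690 = N2683 := flp_b L26557
theorem L26559 : sm gf N3690 = N2684 := ded_16_2 L21409 L18894 L18889 L21406 L26557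
theorem L26560 : sm gf N2684 = N3690 := flp_f L26559
theorem L26561 : sm ga N2684 = N3691 := rfl
theorem L26562 : sm ga N3691 = N2684 := flp_a L26561
theorem L26565 : sm gg N2684 = N3693 := rfl
theorem L26566 : sm gg N3693 = N2684 := flp_g L26565
theorem L26567 : sm gb N3693 = N3580 := ded_17_1 L26074 L21189 L18898 L21408 L26565
theorem L26568 : sm gb N3580 = N3693 := flp_b L26567
theorem L26569 : sm ga N2685 = N3694 := rfl
theorem L26570 : sm ga N3694 = N2685 := flp_a L26569
theorem L26571 : sm gc N2685 = N3695 := rfl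
theorem L26572 : sm gc N3695 = N2685 := flp_c L26571
theorem L26573 : sm gf N2685 = N3696 := rfl
theorem L26574 : sm gf N3696 = N2685 := flp_f L26573
theorem L26575 : sm gg N2685 = N3697 := rfl
theorem L26576 : sm gg N3697 = N2685 := flp_g L26575
theorem L26577 : sm gb N2686 = N3698 := rfl
theorem L26578 : sm gb N3698 = N2686 := flp_b L26577
theorem L26579 : sm gd N2686 = N3699 := rfl
theorem L26580 : sm gd N3699 = N2686 := flp_d L26579
theorem L26581 : sm ga N3699 = N2688 := ded_9_1 L21423 L21415 L26579
theorem L26582 : sm ga N2688 = N3699 := flp_a L26581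
theorem L26583 : sm gf N2686 = N3700 := rfl
theorem L26584 : sm gf N3700 = N2686 := flp_f L26583
theorem L26585 : sm ga N3700 = N2689 := ded_11_1 L21427 L21415 L26583
theorem L26586 : sm ga N2689 = N3700 := flp_a L26585
theorem L26587 : sm gc N3700 = N2687 := ded_20_1 L21417 L21412 L26583
theorem L26588 : sm gc N2687 = N3700 := flp_c L26587
theorem L26589 : sm gg N3689 = N3700 := ded_29_1 L26584 L26548 L26545 L26553
theorem L26590 : sm gg N3700 = N3689 := flp_g L26589
theorem L26591 : sm gb N2687 = N3701 := rfl
theorem L26592 : sm gb N3701 = N2687 := flp_b L26591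
theorem L26593 : sm gc N2688 = N3702 := rfl
theorem L26594 : sm gc N3702 = N2688 := flp_c L26593
theorem L26595 : sm ge N2688 = N3703 := rfl
theorem L26596 : sm ge N3703 = N2688 := flp_e L26595
theorem L26597 : sm gb N3703 = N2709 := ded_15_1 L21497 L21425 L26595
theorem L26599 : sm gf N2688 = N3704 := rfl
theorem L26600 : sm gf N3704 = N2688 := flp_f L26599
theorem L26601 : sm gd N3704 = N2689 := ded_23_1 L21427 L21422 L26599
theorem L26602 : sm gd N2689 = N3704 := flp_d L26601
theorem L26603 : sm gb N2689 = N3705 := rfl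
theorem L26604 : sm gb N3705 = N2689 := flp_b L26603
theorem L26605 : sm gc N3705 = N2988 := ded_13_2 L22902 L19664 L18908 L21429 L26603
theorem L26606 : sm gc N2988 = N3705 := flp_c L26605
theorem L26607 : sm gf N3705 = N2711 := ded_16_2 L21507 L18948 L18904 L21426 L26603
theorem L26608 : sm gf N2711 = N3705 := flp_f L26607
theorem L26609 : sm gg N2689 = N3706 := rfl
theorem L26610 : sm gg N3706 = N2689 := flp_g L26609
theorem L26611 : sm ga N3706 = N3689 := ded_12_1 L26589 L26585 L26609
theorem L26615 : sm gf N3687 = N3706 := ded_29_0 L26610 L21427 L21405 L26546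
theorem L26617 : sm gb N2690 = N3707 := rfl
theorem L26618 : sm gb N3707 = N2690 := flp_b L26617
theorem L26619 : sm gg N3707 = N3447 := ded_17_2 L25468 L20871 L18908 L21430 L26617
theorem L26620 : sm gg N3447 = N3707 := flp_g L26619
theorem L26621 : sm gc N2691 = N3708 := rfl
theorem L26622 : sm gc N3708 = N2691 := flp_c L26621
theorem L26623 : sm ga N3708 = N2692 := ded_8_1 L21439 L21436 L26621
theorem L26624 : sm ga N2692 = N3708 := flp_a L26623
theorem L26625 : sm gf N2691 = N3709 := rfl
theorem L26626 : sm gf N3709 = N2691 := flp_f L26625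
theorem L26627 : sm ga N3709 = N2693 := ded_11_1 L21442 L21436 L26625
theorem L26629 : sm gg N2691 = N3710 := rfl
theorem L26630 : sm gg N3710 = N2691 := flp_g L26629
theorem L26631 : sm ga N3710 = N2694 := ded_12_1 L21444 L21436 L26629
theorem L26632 : sm ga N2694 = N3710 := flp_a L26631
theorem L26633 : sm gd N2692 = N3711 := rfl
theorem L26634 : sm gd N3711 = N2692 := flp_d L26633
theorem L26636 : sm gf N2692 = N3712 := rfl
theorem L26637 : sm gf N3712 = N2692 := flp_f L26636
theorem L26640 : sm gg N2692 = N3713 := rfl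
theorem L26641 : sm gg N3713 = N2692 := flp_g L26640
theorem L26642 : sm gc N3713 = N2694 := ded_21_1 L21444 L21438 L26640
theorem L26643 : sm gc N2694 = N3713 := flp_c L26642
theorem L26644 : sm gb N2693 = N3714 := rfl
theorem L26645 : sm gb N3714 = N2693 := flp_b L26644
theorem L26646 : sm gf N3714 = N2695 := ded_16_2 L21446 L18912 L18909 L21441 L26644
theorem L26647 : sm gf N2695 = N3714 := flp_f L26646
theorem L26648 : sm gg N2693 = N3715 := rfl
theorem L26649 : sm gg N3715 = N2693 := flp_g L26648
theorem L26650 : sm gf N3710 = N3715 := ded_29_0 L26649 L21442 L21443 L26632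
theorem L26651 : sm gf N3715 = N3710 := flp_f L26650
theorem L26652 : sm gf N2694 = N3716 := rfl
theorem L26653 : sm gf N3716 = N2694 := flp_f L26652
theorem L26654 : sm ga N3716 = N3715 := ded_11_1 L26651 L26631 L26652
theorem L26656 : sm gg N3716 = N3709 := ded_29_3 L26627 L21442 L21443 L26652
theorem L26657 : sm gg N3709 = N3716 := flp_g L26656
theorem L26658 : sm ga N2695 = N3717 := rfl
theorem L26659 : sm ga N3717 = N2695 := flp_a L26658
theorem L26660 : sm gc N2695 = N3718 := rfl
theorem L26663 : sm gg N2695 = N3719 := rfl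
theorem L26664 : sm gg N3719 = N2695 := flp_g L26663
theorem L26665 : sm gb N3719 = N3598 := ded_17_1 L26142 L21221 L18916 L21445 L26663
theorem L26666 : sm gb N3598 = N3719 := flp_b L26665
theorem L26667 : sm gb N2696 = N3720 := rfl
theorem L26668 : sm gb N3720 = N2696 := flp_b L26667
theorem L26669 : sm gc N2696 = N3721 := rfl
theorem L26670 : sm gc N3721 = N2696 := flp_c L26669
theorem L26671 : sm ga N3721 = N2697 := ded_8_1 L21452 L21447 L26669
theorem L26672 : sm ga N2697 = N3721 := flp_a L26671
theorem L26673 : sm gf N3721 = N2701 := ded_20_2 L21463 L21450 L26669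
theorem L26674 : sm gf N2701 = N3721 := flp_f L26673
theorem L26675 : sm gd N2697 = N3722 := rfl
theorem L26676 : sm gd N3722 = N2697 := flp_d L26675
theorem L26678 : sm gf N3722 = N2703 := ded_23_2 L21473 L21454 L26675
theorem L26679 : sm gf N2703 = N3722 := flp_f L26678
theorem L26680 : sm gg N2697 = N3723 := rfl
theorem L26681 : sm gg N3723 = N2697 := flp_g L26680
theorem L26682 : sm gc N3723 = N2698 := ded_21_1 L21457 L21451 L26680
theorem L26683 : sm gc N2698 = N3723 := flp_c L26682
theorem L26684 : sm gb N2698 = N3724 := rfl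
theorem L26685 : sm gb N3724 = N2698 := flp_b L26684
theorem L26686 : sm gg N3724 = N2699 := ded_17_2 L21459 L18923 L18918 L21456 L26684
theorem L26687 : sm gg N2699 = N3724 := flp_g L26686
theorem L26688 : sm ga N2699 = N3725 := rfl
theorem L26689 : sm ga N3725 = N2699 := flp_a L26688
theorem L26690 : sm gc N2699 = N3726 := rfl
theorem L26691 : sm gc N3726 = N2699 := flp_c L26690
theorem L26693 : sm gf N2699 = N3727 := rfl
theorem L26694 : sm gf N3727 = N2699 := flp_f L26693
theorem L26695 : sm gb N3727 = N3594 := ded_16_1 L26127 L21219 L18927 L21458 L26693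
theorem L26697 : sm ga N2700 = N3728 := rfl
theorem L26698 : sm ga N3728 = N2700 := flp_a L26697
theorem L26699 : sm gb N3728 = N3694 := ded_7_2 L26570 L21411 L18900 L6071 L2881 L6078 L18929 L21460 L26697
theorem L26700 : sm gb N3694 = N3728 := flp_b L26699
theorem L26701 : sm gc N2700 = N3729 := rfl
theorem L26702 : sm gc N3729 = N2700 := flp_c L26701
theorem L26703 : sm gf N2700 = N3730 := rfl
theorem L26704 : sm gf N3730 = N2700 := flp_f L26703
theorem L26705 : sm gg N2700 = N3731 := rfl
theorem L26706 : sm gg N3731 = N2700 := flp_g L26705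
theorem L26707 : sm gb N2701 = N3732 := rfl
theorem L26708 : sm gb N3732 = N2701 := flp_b L26707
theorem L26709 : sm gd N2701 = N3733 := rfl
theorem L26710 : sm gd N3733 = N2701 := flp_d L26709
theorem L26713 : sm gg N2701 = N3734 := rfl
theorem L26715 : sm ga N3734 = N2704 := ded_12_1 L21477 L21465 L26713
theorem L26716 : sm ga N2704 = N3734 := flp_a L26715
theorem L26719 : sm gf N3734 = N3723 := ded_29_2 L26681 L26672 L26673 L26713
theorem L26721 : sm gb N2702 = N3735 := rfl
theorem L26722 : sm gb N3735 = N2702 := flp_b L26721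
theorem L26723 : sm gc N2703 = N3736 := rfl
theorem L26724 : sm gc N3736 = N2703 := flp_c L26723
theorem L26729 : sm gg N2703 = N3738 := rfl
theorem L26733 : sm gb N2704 = N3739 := rfl
theorem L26737 : sm gg N3739 = N2715 := ded_17_2 L21523 L18959 L18934 L21476 L26733
theorem L26738 : sm gg N2715 = N3739 := flp_g L26737
theorem L26739 : sm gf N2704 = N3740 := rfl
theorem L26743 : sm gc N3740 = N2705 := ded_20_1 L21481 L21479 L26739
theorem L26744 : sm gc N2705 = N3740 := flp_c L26743
theorem L26745 : sm gg N3740 = N3721 := ded_29_3 L26671 L21453 L21476 L26739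
theorem L26746 : sm gg N3721 = N3740 := flp_g L26745
theorem L26747 : sm gb N2705 = N3741 := rfl
theorem L26748 : sm gb N3741 = N2705 := flp_b L26747
theorem L26749 : sm gf N3741 = N3441 := ded_16_2 L25454 L20857 L18938 L21480 L26747
theorem L26750 : sm gf N3441 = N3741 := flp_f L26749
theorem L26751 : sm ga N2706 = N3742 := rfl
theorem L26752 : sm ga N3742 = N2706 := flp_a L26751
theorem L26753 : sm gd N2706 = N3743 := rfl
theorem L26754 : sm gd N3743 = N2706 := flp_d L26753
theorem L26755 : sm gb N3743 = N2707 := ded_14_1 L21489 L21486 L26753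
theorem L26756 : sm gb N2707 = N3743 := flp_b L26755
theorem L26757 : sm gf N2706 = N3744 := rfl
theorem L26758 : sm gf N3744 = N2706 := flp_f L26757
theorem L26759 : sm gb N3744 = N3461 := ded_16_1 L25524 L20901 L18944 L21486 L26757
theorem L26761 : sm gg N2706 = N3745 := rfl
theorem L26762 : sm gg N3745 = N2706 := flp_g L26761
theorem L26763 : sm ge N2707 = N3746 := rfl
theorem L26764 : sm ge N3746 = N2707 := flp_e L26763
theorem L26767 : sm gf N3746 = N3458 := ded_25_2 L25515 L21493 L26763
theorem L26768 : sm gf N3458 = N3746 := flp_f L26767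
theorem L26769 : sm gb N2708 = N3747 := rfl
theorem L26770 : sm gb N3747 = N2708 := flp_b L26769
theorem L26771 : sm ge N2708 = N3748 := rfl
theorem L26772 : sm ge N3748 = N2708 := flp_e L26771
theorem L26775 : sm gf N2709 = N3749 := rfl
theorem L26776 : sm gf N3749 = N2709 := flp_f L26775
theorem L26779 : sm ge N3749 = N2710 := ded_25_1 L21499 L21496 L26775
theorem L26780 : sm ge N2710 = N3749 := flp_e L26779
theorem L26783 : sm gb N2710 = N3750 := rfl
theorem L26784 : sm gb N3750 = N2710 := flp_b L26783
theorem L26785 : sm gd N3750 = N2711 := ded_14_2 L21507 L21503 L26783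
theorem L26786 : sm gd N2711 = N3750 := flp_d L26785
theorem L26787 : sm ga N2711 = N3751 := rfl
theorem L26788 : sm ga N3751 = N2711 := flp_a L26787
theorem L26789 : sm gc N3751 = N2990 := ded_8_2 L22914 L21509 L26787
theorem L26790 : sm gc N2990 = N3751 := flp_c L26789
theorem L26791 : sm gg N2711 = N3752 := rfl
theorem L26792 : sm gg N3752 = N2711 := flp_g L26791
theorem L26797 : sm gb N2712 = N3753 := rfl
theorem L26799 : sm gd N3753 = N3306 := ded_14_2 L24711 L21514 L26797
theorem L26800 : sm gd N3306 = N3753 := flp_d L26799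
theorem L26801 : sm ge N2712 = N3754 := rfl
theorem L26802 : sm ge N3754 = N2712 := flp_e L26801
theorem L26803 : sm gc N3754 = N2713 := ded_19_1 L21516 L21510 L26801
theorem L26806 : sm gg N2712 = N3755 := rfl
theorem L26807 : sm gg N3755 = N2712 := flp_g L26806
theorem L26808 : sm gc N3755 = N2714 := ded_21_1 L21519 L21510 L26806
theorem L26809 : sm gc N2714 = N3755 := flp_c L26808
theorem L26812 : sm gg N2713 = N3756 := rfl
theorem L26813 : sm gg N3756 = N2713 := flp_g L26812
theorem L26814 : sm ge N3756 = N2714 := ded_26_1 L21519 L21515 L26812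
theorem L26815 : sm ge N2714 = N3756 := flp_e L26814
theorem L26816 : sm gb N2714 = N3757 := rfl
theorem L26817 : sm gb N3757 = N2714 := flp_b L26816
theorem L26818 : sm gd N3757 = N2715 := ded_14_2 L21523 L21521 L26816
theorem L26819 : sm gd N2715 = N3757 := flp_d L26818
theorem L26820 : sm ga N2715 = N3758 := rfl
theorem L26821 : sm ga N3758 = N2715 := flp_a L26820
theorem L26824 : sm gf N2715 = N3759 := rfl
theorem L26825 : sm gf N3759 = N2715 := flp_f L26824
theorem L26826 : sm gc N3759 = N3461 := ded_20_1 L25524 L21525 L26824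
theorem L26827 : sm gc N3461 = N3759 := flp_c L26826
theorem L26828 : sm gb N2716 = N3760 := rfl
theorem L26829 : sm gb N3760 = N2716 := flp_b L26828
theorem L26830 : sm gd N3760 = N3747 := ded_14_2 L26770 L21532 L26828
theorem L26831 : sm gd N3747 = N3760 := flp_d L26830
theorem L26832 : sm ge N2716 = N3761 := rfl
theorem L26833 : sm ge N3761 = N2716 := flp_e L26832
theorem L26838 : sm gf N3761 = N3472 := ded_25_2 L25575 L21531 L26832
theorem L26840 : sm ga N2718 = N3762 := rfl
theorem L26843 : sm gd N2718 = N3763 := rfl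
theorem L26844 : sm gd N3763 = N2718 := flp_d L26843
theorem L26845 : sm gb N3763 = N2719 := ded_14_1 L21546 L21542 L26843
theorem L26846 : sm gb N2719 = N3763 := flp_b L26845

end Cfsg.Agent.Helper28.SuzA
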