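import Cfsg.Agent.Helper28.SuzB3

/-! # The Suzuki group presentation, cosets of the subgroup generated by a, …, f: the coset enumeration, part 4 (helper28; generated) -/

set_option autoImplicit false

noncomputable section

namespace Cfsg.Agent.Helper28.SuzA

open Cfsg.Agent.Helper28.CosetTable

theorem L26847 : sm ge N2718 = N3764 := rfl
theorem L26849 : sm gb N3764 = N2720 := ded_15_1 L21552 L21542 L26847
theorem L26850 : sm gb N2720 = N3764 := flp_b L26849
theorem L26852 : sm gf N2718 = N3765 := rfl
theorem L26853 : sm gf N3765 = N2718 := flp_f L26852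
theorem L26855 : sm gg N2718 = N3766 := rfl
theorem L26856 : sm gg N3766 = N2718 := flp_g L26855
theorem L26858 : sm ge N2719 = N3767 := rfl
theorem L26859 : sm ge N3767 = N2719 := flp_e L26858
theorem L26866 : sm gf N2720 = N3769 := rfl
theorem L26867 : sm gf N3769 = N2720 := flp_f L26866
theorem L26872 : sm ge N3769 = N2721 := ded_25_1 L21556 L21551 L26866
theorem L26873 : sm ge N2721 = N3769 := flp_e L26872
theorem L26876 : sm gb N2721 = N3770 := rfl
theorem L26877 : sm gb N3770 = N2721 := flp_b L26876
theorem L26878 : sm gc N3770 = N3306 := ded_13_2 L24711 L20505 L18983 L21560 L26876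
theorem L26879 : sm gc N3306 = N3770 := flp_c L26878
theorem L26880 : sm ga N2723 = N3771 := rfl
theorem L26883 : sm gd N2723 = N3772 := rfl
theorem L26885 : sm gb N3772 = N2724 := ded_14_1 L21579 L21575 L26883
theorem L26886 : sm gb N2724 = N3772 := flp_b L26885
theorem L26887 : sm ge N2723 = N3773 := rfl
theorem L26888 : sm ge N3773 = N2723 := flp_e L26887
theorem L26892 : sm gf N2723 = N3774 := rfl
theorem L26893 : sm gf N3774 = N2723 := flp_f L26892
theorem L26896 : sm gg N2723 = N3775 := rfl
theorem L26897 : sm gg N3775 = N2723 := flp_g L26896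
theorem L26899 : sm ge N2724 = N3776 := rfl
theorem L26900 : sm ge N3776 = N2724 := flp_e L26899
theorem L26901 : sm ga N3776 = N3754 := ded_10_1 L26802 L21581 L26899
theorem L26902 : sm ga N3754 = N3776 := flp_a L26901
theorem L26903 : sm gc N3776 = N3303 := ded_19_1 L24690 L21583 L26899
theorem L26904 : sm gc N3303 = N3776 := flp_c L26903
theorem L26906 : sm gg N2724 = N3777 := rfl
theorem L26907 : sm gg N3777 = N2724 := flp_g L26906
theorem L26912 : sm gd N3777 = N2726 := ded_24_1 L21591 L21578 L26906
theorem L26913 : sm gd N2726 = N3777 := flp_d L26912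
theorem L26916 : sm gd N2725 = N3778 := rfl
theorem L26917 : sm gd N3778 = N2725 := flp_d L26916
theorem L26919 : sm gg N2725 = N3779 := rfl
theorem L26923 : sm ge N3779 = N2726 := ded_26_1 L21591 L21585 L26919
theorem L26924 : sm ge N2726 = N3779 := flp_e L26923
theorem L26925 : sm gb N2726 = N3780 := rfl
theorem L26926 : sm gb N3780 = N2726 := flp_b L26925
theorem L26927 : sm gb N2727 = N3781 := rfl
theorem L26929 : sm gd N3781 = N2733 := ded_14_2 L21634 L21597 L26927
theorem L26933 : sm gf N3781 = N3474 := ded_16_2 L25580 L21539 L24738 L24736 L26927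
theorem L26934 : sm gf N3474 = N3781 := flp_f L26933
theorem L26937 : sm gc N2728 = N3782 := rfl
theorem L26938 : sm gc N3782 = N2728 := flp_c L26937
theorem L26939 : sm ga N3782 = N3782 := ded_8_1 L26938 L21607 L26937
theorem L26940 : sm gf N3782 = N3475 := ded_20_2 L25588 L21605 L26937
theorem L26941 : sm gf N3475 = N3782 := flp_f L26940
theorem L26943 : sm gd N2729 = N3783 := rfl
theorem L26946 : sm gb N3783 = N2731 := ded_14_1 L21623 L21612 L26943
theorem L26947 : sm gb N2731 = N3783 := flp_b L26946
theorem L26950 : sm gf N2729 = N3784 := rfl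
theorem L26951 : sm gf N3784 = N2729 := flp_f L26950
theorem L26954 : sm ge N3784 = N2730 := ded_25_1 L21616 L21608 L26950
theorem L26958 : sm gc N2731 = N3785 := rfl
theorem L26959 : sm gc N3785 = N2731 := flp_c L26958
theorem L26962 : sm gg N2731 = N3786 := rfl
theorem L26964 : sm gd N3786 = N2732 := ded_24_1 L21627 L21622 L26962
theorem L26968 : sm gf N2735 = N3787 := rfl
theorem L26974 : sm gd N3787 = N2736 := ded_23_1 L21649 L21644 L26968
theorem L26975 : sm gd N2736 = N3787 := flp_d L26974
theorem L26976 : sm gg N2735 = N3788 := rfl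
theorem L26977 : sm gg N3788 = N2735 := flp_g L26976
theorem L26978 : sm ga N3788 = N2743 := ded_12_1 L21673 L21647 L26976
theorem L26979 : sm ga N2743 = N3788 := flp_a L26978
theorem L26984 : sm gb N2736 = N3789 := rfl
theorem L26985 : sm gb N3789 = N2736 := flp_b L26984
theorem L26986 : sm gb N2737 = N3790 := rfl
theorem L26987 : sm gb N3790 = N2737 := flp_b L26986
theorem L26988 : sm ga N2738 = N3791 := rfl
theorem L26989 : sm ga N3791 = N2738 := flp_a L26988
theorem L26990 : sm gc N2738 = N3792 := rfl
theorem L26991 : sm gc N3792 = N2738 := flp_c L26990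
theorem L26992 : sm gg N2738 = N3793 := rfl
theorem L26993 : sm gg N3793 = N2738 := flp_g L26992
theorem L26994 : sm ga N2739 = N3794 := rfl
theorem L26995 : sm ga N3794 = N2739 := flp_a L26994
theorem L26996 : sm gc N2739 = N3795 := rfl
theorem L26997 : sm gc N3795 = N2739 := flp_c L26996
theorem L26998 : sm gf N2739 = N3796 := rfl
theorem L26999 : sm gf N3796 = N2739 := flp_f L26998
theorem L27000 : sm gf N2740 = N3797 := rfl
theorem L27001 : sm gf N3797 = N2740 := flp_f L27000
theorem L27006 : sm gd N3797 = N3168 := ded_23_1 L23846 L24248 L27000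
theorem L27007 : sm gd N3168 = N3797 := flp_d L27006
theorem L27008 : sm gg N2740 = N3798 := rfl
theorem L27010 : sm ga N3798 = N3176 := ded_12_1 L23890 L24246 L27008
theorem L27011 : sm ga N3176 = N3798 := flp_a L27010
theorem L27012 : sm gc N3798 = N2743 := ded_21_1 L21673 L21664 L27008
theorem L27013 : sm gc N2743 = N3798 := flp_c L27012
theorem L27016 : sm gb N2742 = N3799 := rfl
theorem L27017 : sm gb N3799 = N2742 := flp_b L27016
theorem L27018 : sm gd N3799 = N2744 := ded_14_2 L21677 L21671 L27016
theorem L27019 : sm gd N2744 = N3799 := flp_d L27018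
theorem L27020 : sm gg N2742 = N3800 := rfl
theorem L27021 : sm gg N3800 = N2742 := flp_g L27020
theorem L27022 : sm gd N3800 = N2745 := ded_24_1 L21679 L21671 L27020
theorem L27023 : sm gd N2745 = N3800 := flp_d L27022
theorem L27024 : sm gf N3788 = N3800 := ded_29_0 L27021 L21669 L21672 L26979
theorem L27025 : sm gf N3800 = N3788 := flp_f L27024
theorem L27026 : sm gb N2743 = N3801 := rfl
theorem L27027 : sm gb N3801 = N2743 := flp_b L27026
theorem L27028 : sm gd N3801 = N2746 := ded_14_2 L21685 L21675 L27026
theorem L27029 : sm gd N2746 = N3801 := flp_d L27028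
theorem L27038 : sm ga N2744 = N3803 := rfl
theorem L27039 : sm ga N3803 = N2744 := flp_a L27038
theorem L27040 : sm gc N2744 = N3804 := rfl
theorem L27041 : sm gc N3804 = N2744 := flp_c L27040
theorem L27042 : sm gb N3804 = N2749 := ded_13_1 L21699 L19079 L19073 L21676 L27040
theorem L27043 : sm gb N2749 = N3804 := flp_b L27042
theorem L27044 : sm gg N2744 = N3805 := rfl
theorem L27045 : sm gg N3805 = N2744 := flp_g L27044
theorem L27046 : sm gb N2745 = N3806 := rfl
theorem L27047 : sm gb N3806 = N2745 := flp_b L27046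
theorem L27048 : sm ga N2746 = N3807 := rfl
theorem L27049 : sm ga N3807 = N2746 := flp_a L27048
theorem L27050 : sm gc N2746 = N3808 := rfl
theorem L27051 : sm gc N3808 = N2746 := flp_c L27050
theorem L27052 : sm gb N3808 = N2753 := ded_13_1 L21711 L19087 L19077 L21684 L27050
theorem L27053 : sm gb N2753 = N3808 := flp_b L27052
theorem L27054 : sm gf N2746 = N3809 := rfl
theorem L27055 : sm gf N3809 = N2746 := flp_f L27054
theorem L27056 : sm gb N2747 = N3810 := rfl
theorem L27057 : sm gb N3810 = N2747 := flp_b L27056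
theorem L27058 : sm gb N2748 = N3811 := rfl
theorem L27059 : sm gb N3811 = N2748 := flp_b L27058
theorem L27060 : sm gc N2748 = N3812 := rfl
theorem L27061 : sm gc N3812 = N2748 := flp_c L27060
theorem L27062 : sm ga N3812 = N2749 := ded_8_1 L21699 L21694 L27060
theorem L27063 : sm ga N2749 = N3812 := flp_a L27062
theorem L27064 : sm gf N3812 = N2757 := ded_20_2 L21721 L21697 L27060
theorem L27065 : sm gf N2757 = N3812 := flp_f L27064
theorem L27066 : sm gd N2749 = N3813 := rfl
theorem L27067 : sm gd N3813 = N2749 := flp_d L27066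
theorem L27068 : sm gf N3813 = N2759 := ded_23_2 L21731 L21701 L27066
theorem L27070 : sm gg N2749 = N3814 := rfl
theorem L27071 : sm gg N3814 = N2749 := flp_g L27070
theorem L27072 : sm gc N3814 = N2750 := ded_21_1 L21703 L21698 L27070
theorem L27073 : sm gc N2750 = N3814 := flp_c L27072
theorem L27074 : sm gb N2750 = N3815 := rfl
theorem L27075 : sm gb N3815 = N2750 := flp_b L27074
theorem L27076 : sm gg N3815 = N2751 := ded_17_2 L21705 L19083 L19078 L21702 L27074
theorem L27077 : sm gg N2751 = N3815 := flp_g L27076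
theorem L27078 : sm ga N3815 = N3344 := ded_7_1 L24996 L20675 L10676 L5316 L10669 L20656 L24961 L21738 L27074
theorem L27079 : sm ga N3344 = N3815 := flp_a L27078
theorem L27080 : sm gf N2796 = N3815 := ded_31_1 L27075 L21703 L19080 L6456 L3083 L3079 L1555 L1554 L1551 L3070 L6467 L6485 L19168 L21872
theorem L27081 : sm gf N3815 = N2796 := flp_f L27080
theorem L27082 : sm gb N2758 = N2797 := ded_16_3 L21874 L21869 L27080 L27075 L21729
theorem L27083 : sm gb N2797 = N2758 := flp_b L27082
theorem L27084 : sm ga N2751 = N2804 := ded_12_1 L25001 L27079 L27076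
theorem L27086 : sm gf N2802 = N2751 := ded_29_0 L27077 L27081 L21871 L21897
theorem L27087 : sm gf N2751 = N2802 := flp_f L27086
theorem L27088 : sm gb N2886 = N3328 := ded_14_3 L24867 L27082 L22379
theorem L27089 : sm gb N3328 = N2886 := flp_b L27088
theorem L27090 : sm gb N2795 = N3334 := ded_7_2 L24906 L20673 L24947 L24955 L21828 L19144 L21727 L27082 L21875
theorem L27091 : sm gb N3334 = N2795 := flp_b L27090
theorem L27092 : sm gb N2884 = N2764 := ded_31_8 L21754 L21715 L19087 L6454 L6451 L19078 L21702 L21729 L27082 L21877 L21844 L19387 L22330 L22364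
theorem L27093 : sm gb N2764 = N2884 := flp_b L27092
theorem L27094 : sm ga N2892 = N3321 := ded_9_3 L24821 L27084 L22413
theorem L27095 : sm ga N3321 = N2892 := flp_a L27094
theorem L27098 : sm gb N3796 = N2802 := ded_16_5 L27086 L21705 L19085 L21662 L26998
theorem L27099 : sm gb N2802 = N3796 := flp_b L27098
theorem L27100 : sm gb N2752 = N3322 := ded_31_14 L24831 L24904 L27091 L21866 L19151 L6475 L6480 L6484 L19124 L19126 L19132 L19134 L21761 L21766
theorem L27102 : sm gg N3332 = N2762 := ded_17_4 L21743 L21709 L27100 L24831 L24891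
theorem L27103 : sm gg N2762 = N3332 := flp_g L27102
theorem L27104 : N3313 = N3794 := coi_7_5 L26995 L21663 L19066 L19086 L21706 L27100 L24826 L20607 L20571 L24765
theorem L27105 : N3794 = N3313 := (eqc rfl L27104 rfl).symm
theorem L27106 : sm ga N3313 = N2739 := trf L27105 L26995 rfl
theorem L27108 : sm gg N3796 = N3796 := ded_29_1 L26999 L24772 L27106 L26998
theorem L27109 : sm gf N3793 = N2756 := ded_31_7 L21719 L21724 L21728 L27074 L27076 L27087 L27099 L27108 L26999 L21663 L19065 L19060 L21660 L26992
theorem L27110 : sm gf N2756 = N3793 := flp_f L27109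
theorem L27111 : sm gc N2751 = N3816 := rfl
theorem L27112 : sm gc N3816 = N2751 := flp_c L27111
theorem L27113 : sm gc N2752 = N3817 := rfl
theorem L27114 : sm gc N3817 = N2752 := flp_c L27113
theorem L27115 : sm ga N3817 = N2753 := ded_8_1 L21711 L21706 L27113
theorem L27116 : sm ga N2753 = N3817 := flp_a L27115
theorem L27117 : sm gg N3817 = N2763 := ded_21_2 L21746 L21709 L27113
theorem L27118 : sm gg N2763 = N3817 := flp_g L27117
theorem L27119 : sm gd N2753 = N3818 := rfl
theorem L27120 : sm gd N3818 = N2753 := flp_d L27119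
theorem L27121 : sm gg N3818 = N2765 := ded_24_2 L21756 L21713 L27119
theorem L27122 : sm gg N2765 = N3818 := flp_g L27121
theorem L27123 : sm gf N2753 = N3819 := rfl
theorem L27124 : sm gf N3819 = N2753 := flp_f L27123
theorem L27127 : sm gb N2754 = N3820 := rfl
theorem L27128 : sm gb N3820 = N2754 := flp_b L27127
theorem L27129 : sm gf N3820 = N2755 := ded_16_2 L21717 L19091 L19086 L21714 L27127
theorem L27130 : sm gf N2755 = N3820 := flp_f L27129
theorem L27131 : sm gg N3820 = N2883 := ded_17_2 L22351 L22358 L27092 L21754 L27127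
theorem L27132 : sm gg N2883 = N3820 := flp_g L27131
theorem L27133 : sm ga N2889 = N2755 := ded_29_4 L27130 L27131 L22356 L22394
theorem L27135 : sm gg N2755 = N2887 := ded_29_3 L22385 L22357 L27132 L27129
theorem L27136 : sm gg N2887 = N2755 := flp_g L27135
theorem L27137 : sm ga N3325 = N2771 := ded_9_3 L22397 L27133 L24848
theorem L27138 : sm ga N2771 = N3325 := flp_a L27137
theorem L27139 : sm gg N2768 = N3325 := ded_24_2 L24847 L27135 L22386
theorem L27140 : sm gg N3325 = N2768 := flp_g L27139
theorem L27141 : sm gb N2887 = N3793 := ded_17_1 L26993 L21661 L19095 L21716 L27135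
theorem L27143 : sm gf N2887 = N3811 := ded_31_1 L27059 L21741 L21737 L19145 L19143 L6473 L6472 L3082 L3063 L3060 L6453 L19090 L21716 L27135
theorem L27144 : sm gf N3811 = N2887 := flp_f L27143
theorem L27145 : sm ga N2883 = N3811 := ded_29_4 L27144 L27136 L27130 L27131
theorem L27146 : sm ga N3811 = N2883 := flp_a L27145
theorem L27147 : sm ga N3793 = N3326 := ded_7_1 L24852 L20625 L10658 L5292 L3852 L7877 L19404 L22384 L27141
theorem L27148 : sm ga N3326 = N3793 := flp_a L27147
theorem L27149 : sm gb N3791 = N2879 := ded_7_8 L22324 L22350 L27145 L27059 L21695 L19079 L19063 L21660 L26988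
theorem L27151 : sm gg N3326 = N3791 := ded_12_2 L26989 L26992 L27147
theorem L27153 : sm gc N2755 = N3821 := rfl
theorem L27154 : sm gc N3821 = N2755 := flp_c L27153
theorem L27155 : sm ga N2756 = N3822 := rfl
theorem L27156 : sm ga N3822 = N2756 := flp_a L27155
theorem L27159 : sm ge N3822 = N3793 := ded_10_2 L27147 L24855 L27155
theorem L27160 : sm ge N3793 = N3822 := flp_e L27159
theorem L27161 : sm gf N3822 = N3326 := ded_11_2 L27148 L27109 L27155
theorem L27162 : sm gf N3326 = N3822 := flp_f L27161
theorem L27163 : sm gg N3312 = N3822 := ded_29_3 L27156 L27110 L26993 L24764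
theorem L27165 : sm gb N3822 = N2768 := ded_7_2 L21768 L19109 L6460 L3071 L3065 L6455 L19096 L21718 L27155
theorem L27166 : sm gb N2768 = N3822 := flp_b L27165
theorem L27167 : sm gc N2756 = N3823 := rfl
theorem L27168 : sm gc N3823 = N2756 := flp_c L27167
theorem L27169 : sm gg N2756 = N3824 := rfl
theorem L27170 : sm gg N3824 = N2756 := flp_g L27169
theorem L27179 : sm gb N3824 = N2789 := ded_17_1 L21878 L27083 L21725 L21718 L27169
theorem L27181 : sm gb N2757 = N3825 := rfl
theorem L27182 : sm gb N3825 = N2757 := flp_b L27181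
theorem L27183 : sm gd N2757 = N3826 := rfl
theorem L27184 : sm gd N3826 = N2757 := flp_d L27183
theorem L27185 : sm ga N3826 = N2759 := ded_9_1 L21731 L21723 L27183
theorem L27186 : sm ga N2759 = N3826 := flp_a L27185
theorem L27187 : sm gg N2757 = N3827 := rfl
theorem L27188 : sm gg N3827 = N2757 := flp_g L27187
theorem L27189 : sm ga N3827 = N2760 := ded_12_1 L21733 L21723 L27187
theorem L27190 : sm ga N2760 = N3827 := flp_a L27189
theorem L27191 : sm gc N3827 = N2758 := ded_21_1 L21725 L21720 L27187
theorem L27192 : sm gc N2758 = N3827 := flp_c L27191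
theorem L27193 : sm gf N3827 = N3814 := ded_29_2 L27071 L27063 L27064 L27187
theorem L27194 : sm gf N3814 = N3827 := flp_f L27193
theorem L27195 : sm gc N2759 = N3828 := rfl
theorem L27196 : sm gc N3828 = N2759 := flp_c L27195
theorem L27197 : sm ge N2759 = N3829 := rfl
theorem L27198 : sm ge N3829 = N2759 := flp_e L27197
theorem L27199 : sm gg N2759 = N3830 := rfl
theorem L27200 : sm gg N3830 = N2759 := flp_g L27199
theorem L27201 : sm gd N3830 = N2760 := ded_24_1 L21733 L21730 L27199
theorem L27202 : sm gd N2760 = N3830 := flp_d L27201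
theorem L27203 : sm gb N2760 = N3831 := rfl
theorem L27204 : sm gb N3831 = N2760 := flp_b L27203
theorem L27205 : sm gf N2760 = N3832 := rfl
theorem L27206 : sm gf N3832 = N2760 := flp_f L27205
theorem L27207 : sm ga N3832 = N3814 := ded_11_1 L27194 L27189 L27205
theorem L27209 : sm gc N3832 = N2761 := ded_20_1 L21737 L21735 L27205
theorem L27210 : sm gc N2761 = N3832 := flp_c L27209
theorem L27211 : sm gg N3832 = N3812 := ded_29_3 L27062 L21700 L21732 L27205
theorem L27212 : sm gg N3812 = N3832 := flp_g L27211
theorem L27213 : sm gc N2762 = N3833 := rfl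
theorem L27214 : sm gc N3833 = N2762 := flp_c L27213
theorem L27216 : sm gf N2762 = N3834 := rfl
theorem L27217 : sm gf N3834 = N2762 := flp_f L27216
theorem L27219 : sm gb N3834 = N2880 := ded_16_1 L22364 L27092 L21750 L21742 L27216
theorem L27220 : sm gb N2880 = N3834 := flp_b L27219
theorem L27221 : sm gb N2763 = N3835 := rfl
theorem L27222 : sm gb N3835 = N2763 := flp_b L27221
theorem L27223 : sm gd N2763 = N3836 := rfl
theorem L27224 : sm gd N3836 = N2763 := flp_d L27223
theorem L27225 : sm ga N3836 = N2765 := ded_9_1 L21756 L21748 L27223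
theorem L27226 : sm ga N2765 = N3836 := flp_a L27225
theorem L27227 : sm gf N2763 = N3837 := rfl
theorem L27228 : sm gf N3837 = N2763 := flp_f L27227
theorem L27229 : sm ga N3837 = N2766 := ded_11_1 L21758 L21748 L27227
theorem L27230 : sm ga N2766 = N3837 := flp_a L27229
theorem L27231 : sm gc N3837 = N2764 := ded_20_1 L21750 L21745 L27227
theorem L27232 : sm gc N2764 = N3837 := flp_c L27231
theorem L27233 : sm gg N3819 = N3837 := ded_29_1 L27228 L27118 L27115 L27123
theorem L27235 : sm gc N2765 = N3838 := rfl
theorem L27236 : sm gc N3838 = N2765 := flp_c L27235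
theorem L27237 : sm ge N2765 = N3839 := rfl
theorem L27238 : sm ge N3839 = N2765 := flp_e L27237
theorem L27239 : sm gf N2765 = N3840 := rfl
theorem L27240 : sm gf N3840 = N2765 := flp_f L27239
theorem L27241 : sm gd N3840 = N2766 := ded_23_1 L21758 L21755 L27239
theorem L27242 : sm gd N2766 = N3840 := flp_d L27241
theorem L27243 : sm gb N2766 = N3841 := rfl
theorem L27244 : sm gb N3841 = N2766 := flp_b L27243
theorem L27245 : sm gg N2766 = N3842 := rfl
theorem L27246 : sm gg N3842 = N2766 := flp_g L27245
theorem L27247 : sm ga N3842 = N3819 := ded_12_1 L27233 L27229 L27245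
theorem L27248 : sm ga N3819 = N3842 := flp_a L27247
theorem L27249 : sm gc N3842 = N2767 := ded_21_1 L21762 L21760 L27245
theorem L27250 : sm gc N2767 = N3842 := flp_c L27249
theorem L27251 : sm gf N3817 = N3842 := ded_29_0 L27246 L21758 L21713 L27116
theorem L27253 : sm gb N2767 = N3843 := rfl
theorem L27254 : sm gb N3843 = N2767 := flp_b L27253
theorem L27255 : sm gc N2768 = N3844 := rfl
theorem L27256 : sm gc N3844 = N2768 := flp_c L27255
theorem L27257 : sm ga N3844 = N2769 := ded_8_1 L21770 L21767 L27255
theorem L27258 : sm ga N2769 = N3844 := flp_a L27257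
theorem L27259 : sm gf N2768 = N3845 := rfl
theorem L27260 : sm gf N3845 = N2768 := flp_f L27259
theorem L27261 : sm ga N3845 = N2770 := ded_11_1 L21772 L21767 L27259
theorem L27262 : sm ga N2770 = N3845 := flp_a L27261
theorem L27263 : sm gd N3845 = N3811 := ded_23_1 L27144 L22386 L27259
theorem L27264 : sm gd N3811 = N3845 := flp_d L27263
theorem L27265 : sm ge N3845 = N3811 := ded_25_1 L27144 L22388 L27259
theorem L27266 : sm ge N3811 = N3845 := flp_e L27265
theorem L27267 : sm gb N3845 = N3318 := ded_16_1 L24805 L24851 L27162 L27165 L27259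
theorem L27268 : sm gb N3318 = N3845 := flp_b L27267
theorem L27269 : sm gb N2769 = N3846 := rfl
theorem L27270 : sm gb N3846 = N2769 := flp_b L27269
theorem L27271 : sm gc N3846 = N2772 := ded_13_2 L21778 L19111 L19108 L21769 L27269
theorem L27272 : sm gc N2772 = N3846 := flp_c L27271
theorem L27273 : sm gd N2769 = N3847 := rfl
theorem L27274 : sm gd N3847 = N2769 := flp_d L27273
theorem L27275 : sm gf N2769 = N3848 := rfl
theorem L27276 : sm gf N3848 = N2769 := flp_f L27275
theorem L27277 : sm gc N3848 = N2770 := ded_20_1 L21772 L21769 L27275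
theorem L27278 : sm gc N2770 = N3848 := flp_c L27277
theorem L27279 : sm gg N2769 = N3849 := rfl
theorem L27280 : sm gg N3849 = N2769 := flp_g L27279
theorem L27281 : sm gc N3849 = N2771 := ded_21_1 L21776 L21769 L27279
theorem L27282 : sm gc N2771 = N3849 := flp_c L27281
theorem L27283 : sm gg N2770 = N3850 := rfl
theorem L27284 : sm gg N3850 = N2770 := flp_g L27283
theorem L27289 : sm gf N3325 = N3850 := ded_29_0 L27284 L21772 L21775 L27138
theorem L27290 : sm gf N3850 = N3325 := flp_f L27289
theorem L27291 : sm gb N3850 = N3324 := ded_17_1 L24912 L27091 L21866 L21774 L27283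
theorem L27293 : sm gf N2771 = N3851 := rfl
theorem L27295 : sm ga N3851 = N3850 := ded_11_1 L27290 L27137 L27293
theorem L27299 : sm gb N3851 = N2774 := ded_31_2 L21787 L21801 L25021 L25011 L20680 L24995 L25002 L21902 L19169 L6481 L6462 L19108 L21775 L27293
theorem L27300 : sm gb N2774 = N3851 := flp_b L27299
theorem L27301 : sm gb N3337 = N2806 := ded_7_4 L21910 L19181 L6496 L19124 L21785 L27300 L27295 L27291 L24925
theorem L27302 : sm gb N2806 = N3337 := flp_b L27301
theorem L27303 : N2896 = N3843 := coi_14_3 L27254 L24927 L27301 L22441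
theorem L27304 : N3843 = N2896 := (eqc rfl L27303 rfl).symm
theorem L27305 : sm gb N2896 = N2767 := trf L27304 L27254 rfl
theorem L27306 : sm gb N2767 = N2896 := flp_b L27305
theorem L27307 : sm ga N2772 = N3852 := rfl
theorem L27308 : sm ga N3852 = N2772 := flp_a L27307
theorem L27309 : sm gd N3852 = N3039 := ded_9_2 L23206 L21780 L27307
theorem L27310 : sm gd N3039 = N3852 := flp_d L27309
theorem L27311 : sm gf N2772 = N3853 := rfl
theorem L27312 : sm gf N3853 = N2772 := flp_f L27311
theorem L27313 : sm gd N3853 = N3035 := ded_23_1 L23189 L21780 L27311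
theorem L27314 : sm gd N3035 = N3853 := flp_d L27313
theorem L27315 : sm gb N3853 = N2799 := ded_16_1 L21886 L19155 L19115 L21777 L27311
theorem L27316 : sm gb N2799 = N3853 := flp_b L27315
theorem L27317 : sm gg N2772 = N3854 := rfl
theorem L27318 : sm gg N3854 = N2772 := flp_g L27317
theorem L27319 : sm gd N3854 = N3041 := ded_24_1 L23210 L21780 L27317
theorem L27320 : sm gd N3041 = N3854 := flp_d L27319
theorem L27321 : sm ga N2773 = N3855 := rfl
theorem L27322 : sm ga N3855 = N2773 := flp_a L27321
theorem L27323 : sm gd N3855 = N3050 := ded_9_2 L23238 L21784 L27321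
theorem L27324 : sm gd N3050 = N3855 := flp_d L27323
theorem L27325 : sm gc N2773 = N3856 := rfl
theorem L27326 : sm gc N3856 = N2773 := flp_c L27325
theorem L27329 : sm gf N2773 = N3857 := rfl
theorem L27330 : sm gf N3857 = N2773 := flp_f L27329
theorem L27333 : sm gc N2774 = N3858 := rfl
theorem L27334 : sm gc N3858 = N2774 := flp_c L27333
theorem L27335 : sm ga N3858 = N2775 := ded_8_1 L21790 L21785 L27333
theorem L27336 : sm ga N2775 = N3858 := flp_a L27335
theorem L27337 : sm gg N3858 = N2778 := ded_21_2 L21798 L21788 L27333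
theorem L27338 : sm gg N2778 = N3858 := flp_g L27337
theorem L27339 : sm gd N2775 = N3859 := rfl
theorem L27340 : sm gd N3859 = N2775 := flp_d L27339
theorem L27341 : sm gg N3859 = N2780 := ded_24_2 L21808 L21792 L27339
theorem L27342 : sm gg N2780 = N3859 := flp_g L27341
theorem L27343 : sm gf N2775 = N3860 := rfl
theorem L27345 : sm gc N3860 = N2776 := ded_20_1 L21794 L21789 L27343
theorem L27347 : sm gc N2777 = N3861 := rfl
theorem L27348 : sm gc N3861 = N2777 := flp_c L27347
theorem L27349 : sm ge N3861 = N3832 := ded_19_2 L27209 L24972 L27347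
theorem L27350 : sm ge N3832 = N3861 := flp_e L27349
theorem L27351 : sm gf N3861 = N3330 := ded_20_2 L24877 L24974 L27347
theorem L27352 : sm gf N3330 = N3861 := flp_f L27351
theorem L27353 : sm gb N2778 = N3862 := rfl
theorem L27354 : sm gb N3862 = N2778 := flp_b L27353
theorem L27355 : sm gd N2778 = N3863 := rfl
theorem L27356 : sm gd N3863 = N2778 := flp_d L27355
theorem L27357 : sm ga N3863 = N2780 := ded_9_1 L21808 L21800 L27355
theorem L27358 : sm ga N2780 = N3863 := flp_a L27357
theorem L27359 : sm gf N2778 = N3864 := rfl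
theorem L27360 : sm gf N3864 = N2778 := flp_f L27359
theorem L27361 : sm ga N3864 = N2781 := ded_11_1 L21810 L21800 L27359
theorem L27362 : sm ga N2781 = N3864 := flp_a L27361
theorem L27367 : sm gc N2780 = N3865 := rfl
theorem L27368 : sm gc N3865 = N2780 := flp_c L27367
theorem L27369 : sm ge N2780 = N3866 := rfl
theorem L27370 : sm ge N3866 = N2780 := flp_e L27369
theorem L27371 : sm gf N2780 = N3867 := rfl
theorem L27372 : sm gf N3867 = N2780 := flp_f L27371
theorem L27373 : sm gd N3867 = N2781 := ded_23_1 L21810 L21807 L27371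
theorem L27374 : sm gd N2781 = N3867 := flp_d L27373
theorem L27375 : sm gb N2781 = N3868 := rfl
theorem L27376 : sm gb N3868 = N2781 := flp_b L27375
theorem L27377 : sm gc N3868 = N3841 := ded_13_2 L27244 L21759 L19135 L21812 L27375
theorem L27378 : sm gc N3841 = N3868 := flp_c L27377
theorem L27379 : sm gg N2781 = N3869 := rfl
theorem L27380 : sm gg N3869 = N2781 := flp_g L27379
theorem L27385 : sm gf N3858 = N3869 := ded_29_0 L27380 L21810 L21792 L27336
theorem L27386 : sm gf N3869 = N3858 := flp_f L27385
theorem L27387 : sm gb N2782 = N3870 := rfl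
theorem L27389 : sm gf N3870 = N2808 := ded_16_2 L21915 L27293 L27299 L21817 L27387
theorem L27390 : sm gf N2808 = N3870 := flp_f L27389
theorem L27391 : sm gg N3870 = N2896 := ded_17_2 L27305 L21762 L19135 L21813 L27387
theorem L27392 : sm gg N2896 = N3870 := flp_g L27391
theorem L27393 : sm ga N3870 = N2898 := ded_7_1 L22458 L27133 L21717 L19092 L21704 L27084 L21903 L21816 L27387
theorem L27394 : sm ga N2898 = N3870 := flp_a L27393
theorem L27395 : sm ga N2783 = N3871 := rfl
theorem L27396 : sm ga N3871 = N2783 := flp_a L27395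
theorem L27399 : sm ge N3871 = N3815 := ded_10_2 L27078 L24999 L27395
theorem L27400 : sm ge N3815 = N3871 := flp_e L27399
theorem L27403 : sm gf N3871 = N2885 := ded_29_0 L22372 L22410 L24956 L27395
theorem L27404 : sm gf N2885 = N3871 := flp_f L27403
theorem L27407 : sm gc N2783 = N3872 := rfl
theorem L27408 : sm gc N3872 = N2783 := flp_c L27407
theorem L27409 : sm gf N2783 = N3873 := rfl
theorem L27410 : sm gf N3873 = N2783 := flp_f L27409
theorem L27411 : sm ga N3873 = N2885 := ded_11_1 L27404 L27396 L27409
theorem L27416 : sm gb N2784 = N3874 := rfl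
theorem L27417 : sm gb N3874 = N2784 := flp_b L27416
theorem L27418 : sm gd N2784 = N3875 := rfl
theorem L27419 : sm gd N3875 = N2784 := flp_d L27418
theorem L27423 : sm gg N2784 = N3876 := rfl
theorem L27424 : sm gg N3876 = N2784 := flp_g L27423
theorem L27425 : sm ga N3876 = N2787 := ded_12_1 L21836 L21824 L27423
theorem L27426 : sm ga N2787 = N3876 := flp_a L27425
theorem L27429 : sm gf N2787 = N3876 := ded_29_0 L27424 L21825 L27423 L27425
theorem L27430 : sm gf N3876 = N2787 := flp_f L27429
theorem L27431 : sm gc N2786 = N3877 := rfl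
theorem L27432 : sm gc N3877 = N2786 := flp_c L27431
theorem L27434 : sm ge N2786 = N3878 := rfl
theorem L27435 : sm ge N3878 = N2786 := flp_e L27434
theorem L27441 : sm gb N2787 = N3880 := rfl
theorem L27442 : sm gb N3880 = N2787 := flp_b L27441
theorem L27443 : sm gc N3880 = N3831 := ded_13_2 L27204 L21734 L19145 L21838 L27441
theorem L27444 : sm gc N3831 = N3880 := flp_c L27443
theorem L27445 : sm gf N2788 = N3881 := rfl
theorem L27447 : sm ga N3881 = N2793 := ded_11_1 L21858 L21842 L27445
theorem L27449 : sm gc N3881 = N2789 := ded_20_1 L21844 L21839 L27445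
theorem L27451 : sm gd N3881 = N3513 := ded_23_1 L25776 L22307 L27445
theorem L27452 : sm gd N3513 = N3881 := flp_d L27451
theorem L27453 : sm gg N2788 = N3882 := rfl
theorem L27455 : sm ga N3882 = N2794 := ded_12_1 L21862 L21842 L27453
theorem L27456 : sm ga N2794 = N3882 := flp_a L27455
theorem L27457 : sm gc N3882 = N2790 := ded_21_1 L21848 L21839 L27453
theorem L27459 : sm gd N3882 = N3514 := ded_24_1 L25784 L22307 L27453
theorem L27461 : sm gb N2790 = N3883 := rfl
theorem L27462 : sm gb N3883 = N2790 := flp_b L27461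
theorem L27467 : sm gf N3883 = N3332 := ded_16_2 L24892 L24904 L27091 L21868 L27461
theorem L27472 : sm gf N2791 = N3884 := rfl
theorem L27473 : sm gf N3884 = N2791 := flp_f L27472
theorem L27474 : sm gc N3884 = N2799 := ded_20_1 L21886 L21854 L27472
theorem L27475 : sm gc N2799 = N3884 := flp_c L27474
theorem L27476 : sm gd N3884 = N3379 := ded_23_1 L25176 L22317 L27472
theorem L27477 : sm gd N3379 = N3884 := flp_d L27476
theorem L27478 : sm gg N2791 = N3885 := rfl
theorem L27479 : sm gg N3885 = N2791 := flp_g L27478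
theorem L27480 : sm gc N3885 = N2800 := ded_21_1 L21890 L21854 L27478
theorem L27481 : sm gc N2800 = N3885 := flp_c L27480
theorem L27484 : sm gb N2793 = N3886 := rfl
theorem L27485 : sm gb N3886 = N2793 := flp_b L27484
theorem L27486 : sm gd N3886 = N3541 := ded_14_2 L25908 L22319 L27484
theorem L27487 : sm gd N3541 = N3886 := flp_d L27486
theorem L27488 : sm gg N2793 = N3887 := rfl
theorem L27489 : sm gg N3887 = N2793 := flp_g L27488
theorem L27492 : sm gd N3887 = N3542 := ded_24_1 L25912 L22319 L27488
theorem L27493 : sm gd N3542 = N3887 := flp_d L27492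
theorem L27494 : sm gf N3882 = N3887 := ded_29_0 L27489 L21858 L21861 L27456
theorem L27495 : sm gf N3887 = N3882 := flp_f L27494
theorem L27496 : sm gb N2794 = N3888 := rfl
theorem L27497 : sm gb N3888 = N2794 := flp_b L27496
theorem L27498 : sm gd N3888 = N3543 := ded_14_2 L25920 L22321 L27496
theorem L27499 : sm gd N3543 = N3888 := flp_d L27498
theorem L27500 : sm gf N2794 = N3889 := rfl
theorem L27501 : sm gf N3889 = N2794 := flp_f L27500
theorem L27502 : sm ga N3889 = N3887 := ded_11_1 L27495 L27455 L27500
theorem L27504 : sm gc N3889 = N2797 := ded_20_1 L21874 L21864 L27500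
theorem L27505 : sm gc N2797 = N3889 := flp_c L27504
theorem L27508 : sm gg N3889 = N3881 := ded_29_3 L27447 L21858 L21861 L27500
theorem L27510 : sm ga N2796 = N3890 := rfl
theorem L27514 : sm ge N3890 = N3873 := ded_10_2 L27411 L22370 L27510
theorem L27515 : sm ge N3873 = N3890 := flp_e L27514
theorem L27516 : sm gf N3890 = N3344 := ded_11_2 L27079 L27081 L27510
theorem L27521 : sm gc N2796 = N3891 := rfl
theorem L27522 : sm gc N3891 = N2796 := flp_c L27521
theorem L27523 : sm gg N3891 = N2803 := ded_21_2 L21900 L21872 L27521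
theorem L27524 : sm gg N2803 = N3891 := flp_g L27523
theorem L27525 : sm gf N2798 = N3892 := rfl
theorem L27526 : sm gf N3892 = N2798 := flp_f L27525
theorem L27527 : sm ga N3892 = N2799 := ded_11_1 L21886 L21879 L27525
theorem L27528 : sm ga N2799 = N3892 := flp_a L27527
theorem L27529 : sm gd N3892 = N3030 := ded_23_1 L23156 L21882 L27525
theorem L27530 : sm gd N3030 = N3892 := flp_d L27529
theorem L27531 : sm gg N2798 = N3893 := rfl
theorem L27532 : sm gg N3893 = N2798 := flp_g L27531
theorem L27533 : sm ga N3893 = N2800 := ded_12_1 L21890 L21879 L27531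
theorem L27534 : sm ga N2800 = N3893 := flp_a L27533
theorem L27535 : sm gd N3893 = N3031 := ded_24_1 L23162 L21882 L27531
theorem L27536 : sm gd N3031 = N3893 := flp_d L27535
theorem L27537 : sm gg N2799 = N3894 := rfl
theorem L27538 : sm gg N3894 = N2799 := flp_g L27537
theorem L27539 : sm gd N3894 = N3036 := ded_24_1 L23192 L21888 L27537
theorem L27540 : sm gd N3036 = N3894 := flp_d L27539
theorem L27541 : sm gf N3893 = N3894 := ded_29_0 L27538 L21886 L21889 L27534
theorem L27542 : sm gf N3894 = N3893 := flp_f L27541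
theorem L27543 : sm gb N2800 = N3895 := rfl
theorem L27544 : sm gb N3895 = N2800 := flp_b L27543
theorem L27545 : sm gd N3895 = N3037 := ded_14_2 L23196 L21892 L27543
theorem L27546 : sm gd N3037 = N3895 := flp_d L27545
theorem L27547 : sm gg N3895 = N2801 := ded_17_2 L21894 L19159 L19154 L21889 L27543
theorem L27548 : sm gg N2801 = N3895 := flp_g L27547
theorem L27549 : sm gf N2800 = N3896 := rfl
theorem L27550 : sm gf N3896 = N2800 := flp_f L27549
theorem L27551 : sm ga N3896 = N3894 := ded_11_1 L27542 L27533 L27549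
theorem L27552 : sm ga N3894 = N3896 := flp_a L27551
theorem L27553 : sm gd N3896 = N3038 := ded_23_1 L23200 L21892 L27549
theorem L27554 : sm gd N3038 = N3896 := flp_d L27553
theorem L27555 : sm gg N3896 = N3892 := ded_29_3 L27527 L21886 L21889 L27549
theorem L27556 : sm gg N3892 = N3896 := flp_g L27555
theorem L27557 : sm ga N2801 = N3897 := rfl
theorem L27558 : sm ga N3897 = N2801 := flp_a L27557
theorem L27561 : sm gc N2801 = N3898 := rfl
theorem L27562 : sm gc N3898 = N2801 := flp_c L27561
theorem L27563 : sm gb N3898 = N2803 := ded_13_1 L21900 L19169 L19163 L21893 L27561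
theorem L27564 : sm gb N2803 = N3898 := flp_b L27563
theorem L27565 : sm gf N2801 = N3899 := rfl
theorem L27566 : sm gf N3899 = N2801 := flp_f L27565
theorem L27567 : sm gd N3899 = N3044 := ded_23_1 L23216 L21896 L27565
theorem L27568 : sm gd N3044 = N3899 := flp_d L27567
theorem L27569 : sm gb N3899 = N3857 := ded_16_1 L27330 L21782 L19167 L21893 L27565
theorem L27570 : sm gb N3857 = N3899 := flp_b L27569
theorem L27571 : sm gc N2802 = N3900 := rfl
theorem L27572 : sm gc N3900 = N2802 := flp_c L27571
theorem L27573 : sm ga N3900 = N2803 := ded_8_1 L21900 L21897 L27571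
theorem L27575 : sm gf N3900 = N3816 := ded_20_2 L27112 L27087 L27571
theorem L27576 : sm gf N3816 = N3900 := flp_f L27575
theorem L27577 : sm gd N2803 = N3901 := rfl
theorem L27578 : sm gd N3901 = N2803 := flp_d L27577
theorem L27579 : sm gf N2803 = N3902 := rfl
theorem L27580 : sm gf N3902 = N2803 := flp_f L27579
theorem L27581 : sm ga N3902 = N3816 := ded_11_1 L27576 L27573 L27579
theorem L27582 : sm ga N3816 = N3902 := flp_a L27581
theorem L27583 : sm gc N3902 = N2804 := ded_20_1 L21902 L21899 L27579
theorem L27584 : sm gc N2804 = N3902 := flp_c L27583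
theorem L27585 : sm ga N2805 = N3903 := rfl
theorem L27586 : sm ga N3903 = N2805 := flp_a L27585
theorem L27587 : sm gd N3903 = N3055 := ded_9_2 L23256 L21908 L27585
theorem L27588 : sm gd N3055 = N3903 := flp_d L27587
theorem L27589 : sm gc N2805 = N3904 := rfl
theorem L27590 : sm gc N3904 = N2805 := flp_c L27589
theorem L27591 : sm gb N3904 = N2807 := ded_13_1 L21912 L19181 L19175 L21905 L27589
theorem L27592 : sm gb N2807 = N3904 := flp_b L27591
theorem L27593 : sm gg N2805 = N3905 := rfl
theorem L27594 : sm gg N3905 = N2805 := flp_g L27593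
theorem L27595 : sm gd N3905 = N3057 := ded_24_1 L23260 L21908 L27593
theorem L27597 : sm gb N3905 = N3854 := ded_17_1 L27318 L21778 L19179 L21905 L27593
theorem L27598 : sm gb N3854 = N3905 := flp_b L27597
theorem L27599 : sm gc N2806 = N3906 := rfl
theorem L27600 : sm gc N3906 = N2806 := flp_c L27599
theorem L27601 : sm ga N3906 = N2807 := ded_8_1 L21912 L21909 L27599
theorem L27602 : sm ga N2807 = N3906 := flp_a L27601
theorem L27603 : sm gg N2806 = N3907 := rfl
theorem L27604 : sm gg N3907 = N2806 := flp_g L27603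
theorem L27605 : sm ga N3907 = N2808 := ded_12_1 L21914 L21909 L27603
theorem L27611 : sm gf N2898 = N3907 := ded_29_0 L27604 L22445 L27392 L27393
theorem L27612 : sm gf N3907 = N2898 := flp_f L27611
theorem L27613 : sm gb N3907 = N3343 := ded_17_1 L24986 L20672 L24922 L27301 L27603
theorem L27614 : sm gb N3343 = N3907 := flp_b L27613
theorem L27615 : sm gd N2807 = N3908 := rfl
theorem L27616 : sm gd N3908 = N2807 := flp_d L27615
theorem L27617 : sm gg N2807 = N3909 := rfl
theorem L27618 : sm gg N3909 = N2807 := flp_g L27617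
theorem L27619 : sm gc N3909 = N2808 := ded_21_1 L21914 L21911 L27617
theorem L27620 : sm gc N2808 = N3909 := flp_c L27619
theorem L27621 : sm gf N2810 = N3910 := rfl
theorem L27622 : sm gf N3910 = N2810 := flp_f L27621
theorem L27623 : sm ga N3910 = N2814 := ded_11_1 L21960 L21924 L27621
theorem L27625 : sm gc N3910 = N3377 := ded_20_1 L25168 L21926 L27621
theorem L27626 : sm gc N3377 = N3910 := flp_c L27625
theorem L27627 : sm gd N3910 = N2811 := ded_23_1 L21928 L21921 L27621
theorem L27628 : sm gd N2811 = N3910 := flp_d L27627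
theorem L27629 : sm gg N2810 = N3911 := rfl
theorem L27630 : sm gg N3911 = N2810 := flp_g L27629
theorem L27635 : sm gd N3911 = N2812 := ded_24_1 L21936 L21921 L27629
theorem L27636 : sm gd N2812 = N3911 := flp_d L27635
theorem L27637 : sm gb N2811 = N3912 := rfl
theorem L27638 : sm gb N3912 = N2811 := flp_b L27637
theorem L27639 : sm ge N3912 = N2828 := ded_15_2 L22026 L21934 L27637
theorem L27640 : sm ge N2828 = N3912 := flp_e L27639
theorem L27641 : sm gf N3912 = N3789 := ded_16_2 L26985 L21649 L24242 L21927 L27637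
theorem L27642 : sm gf N3789 = N3912 := flp_f L27641
theorem L27643 : sm gb N2812 = N3913 := rfl
theorem L27644 : sm gb N3913 = N2812 := flp_b L27643
theorem L27645 : sm ge N3913 = N2829 := ded_15_2 L22028 L21942 L27643
theorem L27646 : sm ge N2829 = N3913 := flp_e L27645
theorem L27649 : sm gf N2813 = N3914 := rfl
theorem L27650 : sm gf N3914 = N2813 := flp_f L27649
theorem L27655 : sm gd N3914 = N3364 := ded_23_1 L25114 L21950 L27649
theorem L27656 : sm gd N3364 = N3914 := flp_d L27655
theorem L27657 : sm gg N2813 = N3915 := rfl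
theorem L27658 : sm gg N3915 = N2813 := flp_g L27657
theorem L27659 : sm ga N3915 = N3378 := ded_12_1 L25172 L21946 L27657
theorem L27660 : sm ga N3378 = N3915 := flp_a L27659
theorem L27661 : sm gc N3915 = N2815 := ded_21_1 L21964 L21943 L27657
theorem L27663 : sm gd N3915 = N3365 := ded_24_1 L25120 L21950 L27657
theorem L27664 : sm gd N3365 = N3915 := flp_d L27663
theorem L27665 : sm gb N2814 = N3916 := rfl
theorem L27667 : sm gd N3916 = N2816 := ded_14_2 L21970 L21962 L27665
theorem L27668 : sm gd N2816 = N3916 := flp_d L27667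
theorem L27669 : sm gf N3916 = N2819 := ded_16_2 L21994 L19207 L19191 L21959 L27665
theorem L27670 : sm gf N2819 = N3916 := flp_f L27669
theorem L27671 : sm gg N2814 = N3917 := rfl
theorem L27672 : sm gg N3917 = N2814 := flp_g L27671
theorem L27677 : sm gf N2815 = N3918 := rfl
theorem L27678 : sm gf N3918 = N2815 := flp_f L27677
theorem L27681 : sm gd N3918 = N2818 := ded_23_1 L21984 L21966 L27677
theorem L27682 : sm gd N2818 = N3918 := flp_d L27681
theorem L27683 : sm gg N3918 = N3910 := ded_29_3 L27623 L21960 L21963 L27677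
theorem L27684 : sm gg N3910 = N3918 := flp_g L27683
theorem L27685 : sm ga N2816 = N3919 := rfl
theorem L27686 : sm ga N3919 = N2816 := flp_a L27685
theorem L27687 : sm ge N3919 = N2830 := ded_10_2 L22030 L21972 L27685
theorem L27688 : sm ge N2830 = N3919 := flp_e L27687
theorem L27689 : sm gf N3919 = N2820 := ded_11_2 L21998 L21974 L27685
theorem L27690 : sm gf N2820 = N3919 := flp_f L27689
theorem L27691 : sm gc N2816 = N3920 := rfl
theorem L27692 : sm gc N3920 = N2816 := flp_c L27691
theorem L27693 : sm ge N3920 = N2831 := ded_19_2 L22034 L21972 L27691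
theorem L27694 : sm ge N2831 = N3920 := flp_e L27693
theorem L27695 : sm gf N3920 = N2821 := ded_20_2 L22002 L21974 L27691
theorem L27696 : sm gf N2821 = N3920 := flp_f L27695
theorem L27697 : sm gb N3920 = N2831 := ded_13_1 L22034 L19235 L19195 L21969 L27691
theorem L27698 : sm gb N2831 = N3920 := flp_b L27697
theorem L27699 : sm gg N2816 = N3921 := rfl
theorem L27700 : sm gg N3921 = N2816 := flp_g L27699
theorem L27701 : sm ge N3921 = N2832 := ded_26_1 L22038 L21972 L27699
theorem L27702 : sm ge N2832 = N3921 := flp_e L27701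
theorem L27703 : sm gb N2817 = N3922 := rfl
theorem L27704 : sm gb N3922 = N2817 := flp_b L27703
theorem L27705 : sm ge N3922 = N2833 := ded_15_2 L22040 L21980 L27703
theorem L27706 : sm ge N2833 = N3922 := flp_e L27705
theorem L27707 : sm gb N2818 = N3923 := rfl
theorem L27708 : sm gb N3923 = N2818 := flp_b L27707
theorem L27709 : sm ge N3923 = N2834 := ded_15_2 L22042 L21990 L27707
theorem L27710 : sm ge N2834 = N3923 := flp_e L27709
theorem L27711 : sm gf N3923 = N2862 := ded_16_2 L22202 L19325 L19205 L21983 L27707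
theorem L27712 : sm gf N2862 = N3923 := flp_f L27711
theorem L27713 : sm ga N2819 = N3924 := rfl
theorem L27714 : sm ga N3924 = N2819 := flp_a L27713
theorem L27715 : sm gd N3924 = N2820 := ded_9_2 L21998 L21996 L27713
theorem L27716 : sm gd N2820 = N3924 := flp_d L27715
theorem L27717 : sm gc N2819 = N3925 := rfl
theorem L27718 : sm gc N3925 = N2819 := flp_c L27717
theorem L27719 : sm gb N3925 = N3019 := ded_13_1 L23096 L19761 L19209 L21993 L27717
theorem L27720 : sm gb N3019 = N3925 := flp_b L27719
theorem L27721 : sm gg N2819 = N3926 := rfl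
theorem L27722 : sm gg N3926 = N2819 := flp_g L27721
theorem L27723 : sm gd N3926 = N2822 := ded_24_1 L22008 L21996 L27721
theorem L27724 : sm gd N2822 = N3926 := flp_d L27723
theorem L27725 : sm gb N3926 = N3020 := ded_17_1 L23100 L19761 L19213 L21993 L27721
theorem L27727 : sm gb N2820 = N3927 := rfl
theorem L27728 : sm gb N3927 = N2820 := flp_b L27727
theorem L27729 : sm ge N3927 = N2835 := ded_15_2 L22046 L22000 L27727
theorem L27730 : sm ge N2835 = N3927 := flp_e L27729
theorem L27731 : sm gc N2820 = N3928 := rfl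
theorem L27732 : sm gc N3928 = N2820 := flp_c L27731
theorem L27733 : sm ga N3928 = N2821 := ded_8_1 L22002 L21997 L27731
theorem L27734 : sm ga N2821 = N3928 := flp_a L27733
theorem L27735 : sm ge N3928 = N2836 := ded_19_2 L22048 L22000 L27731
theorem L27736 : sm ge N2836 = N3928 := flp_e L27735
theorem L27737 : sm gg N2820 = N3929 := rfl
theorem L27738 : sm gg N3929 = N2820 := flp_g L27737
theorem L27739 : sm ga N3929 = N2822 := ded_12_1 L22008 L21997 L27737
theorem L27740 : sm ga N2822 = N3929 := flp_a L27739
theorem L27741 : sm ge N3929 = N2837 := ded_26_1 L22052 L22000 L27737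
theorem L27742 : sm ge N2837 = N3929 := flp_e L27741
theorem L27743 : sm gf N3929 = N3921 := ded_29_2 L27700 L27685 L27689 L27737
theorem L27744 : sm gf N3921 = N3929 := flp_f L27743
theorem L27745 : sm gd N2821 = N3930 := rfl
theorem L27746 : sm gd N3930 = N2821 := flp_d L27745
theorem L27747 : sm gb N3930 = N2823 := ded_14_1 L22014 L22006 L27745
theorem L27748 : sm gb N2823 = N3930 := flp_b L27747
theorem L27749 : sm gg N2821 = N3931 := rfl
theorem L27750 : sm gg N3931 = N2821 := flp_g L27749
theorem L27751 : sm gc N3931 = N2822 := ded_21_1 L22008 L22001 L27749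
theorem L27752 : sm gc N2822 = N3931 := flp_c L27751
theorem L27753 : sm ge N3931 = N2839 := ded_26_1 L22062 L22004 L27749
theorem L27754 : sm ge N2839 = N3931 := flp_e L27753
theorem L27755 : sm gf N2822 = N3932 := rfl
theorem L27756 : sm gf N3932 = N2822 := flp_f L27755
theorem L27757 : sm ga N3932 = N3921 := ded_11_1 L27744 L27739 L27755
theorem L27758 : sm ga N3921 = N3932 := flp_a L27757
theorem L27759 : sm ge N3932 = N2840 := ded_25_1 L22066 L22010 L27755
theorem L27760 : sm ge N2840 = N3932 := flp_e L27759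
theorem L27761 : sm gg N3932 = N3919 := ded_29_3 L27686 L21973 L22007 L27755
theorem L27762 : sm gg N3919 = N3932 := flp_g L27761
theorem L27763 : sm ge N2823 = N3933 := rfl
theorem L27764 : sm ge N3933 = N2823 := flp_e L27763
theorem L27765 : sm gf N3933 = N2842 := ded_25_2 L22074 L22016 L27763
theorem L27766 : sm gf N2842 = N3933 := flp_f L27765
theorem L27767 : sm gd N3933 = N2842 := ded_22_1 L22074 L19263 L19221 L22013 L27763
theorem L27768 : sm gd N2842 = N3933 := flp_d L27767
theorem L27769 : sm gb N2826 = N3934 := rfl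
theorem L27770 : sm gb N3934 = N2826 := flp_b L27769
theorem L27771 : sm ge N3934 = N3789 := ded_15_2 L26985 L24249 L27769
theorem L27772 : sm ge N3789 = N3934 := flp_e L27771
theorem L27773 : sm gf N3934 = N2828 := ded_16_2 L22026 L19227 L19224 L22021 L27769
theorem L27774 : sm gf N2828 = N3934 := flp_f L27773
theorem L27775 : sm gb N2827 = N3935 := rfl
theorem L27776 : sm gb N3935 = N2827 := flp_b L27775
theorem L27777 : sm ge N3935 = N3790 := ded_15_2 L26987 L24251 L27775
theorem L27778 : sm ge N3790 = N3935 := flp_e L27777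
theorem L27779 : sm gg N3935 = N2829 := ded_17_2 L22028 L19231 L19224 L22023 L27775
theorem L27780 : sm gg N2829 = N3935 := flp_g L27779
theorem L27781 : sm ga N2828 = N3936 := rfl
theorem L27782 : sm ga N3936 = N2828 := flp_a L27781
theorem L27783 : sm gc N2828 = N3937 := rfl
theorem L27784 : sm gc N3937 = N2828 := flp_c L27783
theorem L27785 : sm gg N2828 = N3938 := rfl
theorem L27786 : sm gg N3938 = N2828 := flp_g L27785
theorem L27787 : sm ga N2829 = N3939 := rfl
theorem L27788 : sm ga N3939 = N2829 := flp_a L27787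
theorem L27791 : sm gf N2829 = N3941 := rfl
theorem L27792 : sm gf N3941 = N2829 := flp_f L27791
theorem L27793 : sm gb N2830 = N3942 := rfl
theorem L27794 : sm gb N3942 = N2830 := flp_b L27793
theorem L27795 : sm gc N2830 = N3943 := rfl
theorem L27796 : sm gc N3943 = N2830 := flp_c L27795
theorem L27797 : sm ga N3943 = N2831 := ded_8_1 L22034 L22029 L27795
theorem L27798 : sm ga N2831 = N3943 := flp_a L27797
theorem L27799 : sm gf N3943 = N2836 := ded_20_2 L22048 L22032 L27795
theorem L27800 : sm gf N2836 = N3943 := flp_f L27799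
theorem L27801 : sm gd N2831 = N3944 := rfl
theorem L27802 : sm gd N3944 = N2831 := flp_d L27801
theorem L27803 : sm gf N3944 = N2838 := ded_23_2 L22058 L22036 L27801
theorem L27804 : sm gf N2838 = N3944 := flp_f L27803
theorem L27805 : sm gg N2831 = N3945 := rfl
theorem L27806 : sm gg N3945 = N2831 := flp_g L27805
theorem L27807 : sm gc N3945 = N2832 := ded_21_1 L22038 L22033 L27805
theorem L27809 : sm gb N2832 = N3946 := rfl
theorem L27810 : sm gb N3946 = N2832 := flp_b L27809
theorem L27811 : sm gg N3946 = N2833 := ded_17_2 L22040 L19239 L19234 L22037 L27809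
theorem L27812 : sm gg N2833 = N3946 := flp_g L27811
theorem L27813 : sm ga N2833 = N3947 := rfl
theorem L27814 : sm ga N3947 = N2833 := flp_a L27813
theorem L27817 : sm gf N2833 = N3949 := rfl
theorem L27818 : sm gf N3949 = N2833 := flp_f L27817
theorem L27819 : sm gb N3949 = N3941 := ded_16_1 L27792 L22028 L19240 L22039 L27817
theorem L27821 : sm ga N2834 = N3950 := rfl
theorem L27822 : sm ga N3950 = N2834 := flp_a L27821
theorem L27823 : sm gf N3950 = N3903 := ded_11_2 L27586 L22044 L27821
theorem L27824 : sm gf N3903 = N3950 := flp_f L27823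
theorem L27829 : sm gg N2834 = N3952 := rfl
theorem L27830 : sm gg N3952 = N2834 := flp_g L27829
theorem L27831 : sm gb N3952 = N3938 := ded_17_1 L27786 L22026 L19247 L22041 L27829
theorem L27833 : sm ga N2835 = N3953 := rfl
theorem L27834 : sm ga N3953 = N2835 := flp_a L27833
theorem L27835 : sm gc N2835 = N3954 := rfl
theorem L27836 : sm gc N3954 = N2835 := flp_c L27835
theorem L27837 : sm gf N2835 = N3955 := rfl
theorem L27838 : sm gf N3955 = N2835 := flp_f L27837
theorem L27839 : sm gg N2835 = N3956 := rfl
theorem L27840 : sm gg N3956 = N2835 := flp_g L27839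
theorem L27841 : sm gb N2836 = N3957 := rfl
theorem L27842 : sm gb N3957 = N2836 := flp_b L27841
theorem L27843 : sm gd N2836 = N3958 := rfl
theorem L27844 : sm gd N3958 = N2836 := flp_d L27843
theorem L27845 : sm ga N3958 = N2838 := ded_9_1 L22058 L22050 L27843
theorem L27846 : sm ga N2838 = N3958 := flp_a L27845
theorem L27847 : sm gg N2836 = N3959 := rfl
theorem L27848 : sm gg N3959 = N2836 := flp_g L27847
theorem L27849 : sm ga N3959 = N2839 := ded_12_1 L22062 L22050 L27847
theorem L27850 : sm ga N2839 = N3959 := flp_a L27849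
theorem L27851 : sm gc N3959 = N2837 := ded_21_1 L22052 L22047 L27847
theorem L27852 : sm gc N2837 = N3959 := flp_c L27851
theorem L27853 : sm gf N3959 = N3945 := ded_29_2 L27806 L27798 L27799 L27847
theorem L27854 : sm gf N3945 = N3959 := flp_f L27853
theorem L27855 : sm gb N2837 = N3960 := rfl
theorem L27856 : sm gb N3960 = N2837 := flp_b L27855
theorem L27857 : sm gc N2838 = N3961 := rfl
theorem L27858 : sm gc N3961 = N2838 := flp_c L27857
theorem L27859 : sm ge N2838 = N3962 := rfl
theorem L27860 : sm ge N3962 = N2838 := flp_e L27859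
theorem L27861 : sm gb N3962 = N2842 := ded_15_1 L22074 L22060 L27859
theorem L27862 : sm gb N2842 = N3962 := flp_b L27861
theorem L27863 : sm gg N2838 = N3963 := rfl
theorem L27864 : sm gg N3963 = N2838 := flp_g L27863
theorem L27865 : sm gd N3963 = N2839 := ded_24_1 L22062 L22057 L27863
theorem L27866 : sm gd N2839 = N3963 := flp_d L27865
theorem L27867 : sm gb N2839 = N3964 := rfl
theorem L27868 : sm gb N3964 = N2839 := flp_b L27867
theorem L27869 : sm gc N3964 = N3069 := ded_13_2 L23304 L19846 L19257 L22064 L27867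
theorem L27870 : sm gc N3069 = N3964 := flp_c L27869
theorem L27871 : sm gg N3964 = N2844 := ded_17_2 L22082 L19265 L19253 L22061 L27867
theorem L27872 : sm gg N2844 = N3964 := flp_g L27871
theorem L27873 : sm gf N2839 = N3965 := rfl
theorem L27874 : sm gf N3965 = N2839 := flp_f L27873
theorem L27875 : sm ga N3965 = N3945 := ded_11_1 L27854 L27849 L27873
theorem L27877 : sm gc N3965 = N2840 := ded_20_1 L22066 L22064 L27873
theorem L27879 : sm gg N3965 = N3943 := ded_29_3 L27797 L22035 L22061 L27873
theorem L27880 : sm gg N3943 = N3965 := flp_g L27879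
theorem L27881 : sm gb N2840 = N3966 := rfl
theorem L27882 : sm gb N3966 = N2840 := flp_b L27881
theorem L27883 : sm gf N3966 = N3071 := ded_16_2 L23316 L19849 L19257 L22065 L27881
theorem L27884 : sm gf N3071 = N3966 := flp_f L27883
theorem L27885 : sm ga N2841 = N3967 := rfl
theorem L27886 : sm ga N3967 = N2841 := flp_a L27885
theorem L27889 : sm gg N2841 = N3969 := rfl
theorem L27890 : sm gg N3969 = N2841 := flp_g L27889
theorem L27891 : sm gg N2842 = N3970 := rfl
theorem L27892 : sm gg N3970 = N2842 := flp_g L27891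
theorem L27893 : sm gc N3970 = N3027 := ded_21_1 L23426 L23423 L27891
theorem L27894 : sm gc N3027 = N3970 := flp_c L27893
theorem L27895 : sm ge N3970 = N2843 := ded_26_1 L22076 L22073 L27891
theorem L27896 : sm ge N2843 = N3970 := flp_e L27895
theorem L27897 : sm gb N2843 = N3971 := rfl
theorem L27898 : sm gb N3971 = N2843 := flp_b L27897
theorem L27899 : sm gd N3971 = N2844 := ded_14_2 L22082 L22080 L27897
theorem L27900 : sm gd N2844 = N3971 := flp_d L27899
theorem L27901 : sm ga N2844 = N3972 := rfl
theorem L27902 : sm ga N3972 = N2844 := flp_a L27901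
theorem L27903 : sm gc N3972 = N3099 := ded_8_2 L23460 L22084 L27901
theorem L27904 : sm gc N3099 = N3972 := flp_c L27903
theorem L27905 : sm gf N2844 = N3973 := rfl
theorem L27906 : sm gf N3973 = N2844 := flp_f L27905
theorem L27907 : sm gc N3973 = N3100 := ded_20_1 L23464 L22084 L27905
theorem L27909 : sm gf N2845 = N3974 := rfl
theorem L27910 : sm gf N3974 = N2845 := flp_f L27909
theorem L27911 : sm ga N3974 = N2847 := ded_11_1 L22096 L22085 L27909
theorem L27912 : sm ga N2847 = N3974 := flp_a L27911
theorem L27913 : sm gc N3974 = N2948 := ded_20_1 L22730 L22138 L27909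
theorem L27914 : sm gc N2948 = N3974 := flp_c L27913
theorem L27915 : sm ge N3974 = N3892 := ded_25_1 L27526 L22088 L27909
theorem L27916 : sm ge N3892 = N3974 := flp_e L27915
theorem L27917 : sm gg N2845 = N3975 := rfl
theorem L27918 : sm gg N3975 = N2845 := flp_g L27917
theorem L27919 : sm ga N3975 = N2848 := ded_12_1 L22100 L22085 L27917
theorem L27920 : sm ga N2848 = N3975 := flp_a L27919
theorem L27921 : sm gc N3975 = N2949 := ded_21_1 L22732 L22138 L27917
theorem L27923 : sm ge N3975 = N3893 := ded_26_1 L27532 L22088 L27917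
theorem L27924 : sm ge N3893 = N3975 := flp_e L27923
theorem L27925 : sm gf N2846 = N3976 := rfl
theorem L27927 : sm ga N3976 = N2948 := ded_11_1 L22730 L22135 L27925
theorem L27929 : sm gc N3976 = N2847 := ded_20_1 L22096 L22089 L27925
theorem L27930 : sm gc N2847 = N3976 := flp_c L27929
theorem L27931 : sm ge N3976 = N3884 := ded_25_1 L27473 L22092 L27925
theorem L27932 : sm ge N3884 = N3976 := flp_e L27931
theorem L27933 : sm gg N2846 = N3977 := rfl
theorem L27935 : sm ga N3977 = N2949 := ded_12_1 L22732 L22135 L27933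
theorem L27936 : sm ga N2949 = N3977 := flp_a L27935
theorem L27941 : sm gb N2847 = N3978 := rfl
theorem L27942 : sm gb N3978 = N2847 := flp_b L27941
theorem L27943 : sm ge N3978 = N3853 := ded_15_2 L27315 L22098 L27941
theorem L27944 : sm ge N3853 = N3978 := flp_e L27943
theorem L27945 : sm gf N3978 = N2851 := ded_16_2 L22120 L19279 L19268 L22095 L27941
theorem L27946 : sm gf N2851 = N3978 := flp_f L27945
theorem L27947 : sm gg N2847 = N3979 := rfl
theorem L27948 : sm gg N3979 = N2847 := flp_g L27947
theorem L27949 : sm ge N3979 = N3894 := ded_26_1 L27538 L22098 L27947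
theorem L27950 : sm ge N3894 = N3979 := flp_e L27949
theorem L27951 : sm gf N3975 = N3979 := ded_29_0 L27948 L22096 L22099 L27920
theorem L27952 : sm gf N3979 = N3975 := flp_f L27951
theorem L27953 : sm gb N2848 = N3980 := rfl
theorem L27954 : sm gb N3980 = N2848 := flp_b L27953
theorem L27955 : sm ge N3980 = N3895 := ded_15_2 L27544 L22102 L27953
theorem L27956 : sm ge N3895 = N3980 := flp_e L27955
theorem L27957 : sm gg N3980 = N2852 := ded_17_2 L22124 L19287 L19268 L22099 L27953
theorem L27958 : sm gg N2852 = N3980 := flp_g L27957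
theorem L27959 : sm gf N2848 = N3981 := rfl
theorem L27963 : sm ge N3981 = N3896 := ded_25_1 L27550 L22102 L27959
theorem L27964 : sm ge N3896 = N3981 := flp_e L27963
theorem L27965 : sm gg N3981 = N3974 := ded_29_3 L27911 L22096 L22099 L27959
theorem L27966 : sm gg N3974 = N3981 := flp_g L27965
theorem L27967 : sm gb N2849 = N3982 := rfl
theorem L27968 : sm gb N3982 = N2849 := flp_b L27967
theorem L27969 : sm gd N3982 = N2851 := ded_14_2 L22120 L22110 L27967
theorem L27970 : sm gd N2851 = N3982 := flp_d L27969
theorem L27971 : sm gb N2850 = N3983 := rfl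
theorem L27972 : sm gb N3983 = N2850 := flp_b L27971
theorem L27973 : sm gd N3983 = N2852 := ded_14_2 L22124 L22118 L27971
theorem L27974 : sm gd N2852 = N3983 := flp_d L27973
theorem L27975 : sm ga N2851 = N3984 := rfl
theorem L27976 : sm ga N3984 = N2851 := flp_a L27975
theorem L27977 : sm ge N3984 = N3852 := ded_10_2 L27308 L22122 L27975
theorem L27978 : sm ge N3852 = N3984 := flp_e L27977
theorem L27979 : sm gc N2851 = N3985 := rfl
theorem L27980 : sm gc N3985 = N2851 := flp_c L27979
theorem L27981 : sm ge N3985 = N3846 := ded_19_2 L27271 L22122 L27979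
theorem L27982 : sm ge N3846 = N3985 := flp_e L27981
theorem L27983 : sm gb N3985 = N2888 := ded_13_1 L22391 L19405 L19283 L22119 L27979
theorem L27984 : sm gb N2888 = N3985 := flp_b L27983
theorem L27985 : sm gg N2851 = N3986 := rfl
theorem L27986 : sm gg N3986 = N2851 := flp_g L27985
theorem L27987 : sm ge N3986 = N3854 := ded_26_1 L27318 L22122 L27985
theorem L27988 : sm ge N3854 = N3986 := flp_e L27987
theorem L27989 : sm ga N2852 = N3987 := rfl
theorem L27990 : sm ga N3987 = N2852 := flp_a L27989
theorem L27991 : sm ge N3987 = N3897 := ded_10_2 L27558 L22126 L27989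
theorem L27992 : sm ge N3897 = N3987 := flp_e L27991
theorem L27993 : sm gc N2852 = N3988 := rfl
theorem L27994 : sm gc N3988 = N2852 := flp_c L27993
theorem L27995 : sm ge N3988 = N3898 := ded_19_2 L27562 L22126 L27993
theorem L27996 : sm ge N3898 = N3988 := flp_e L27995
theorem L27997 : sm gb N3988 = N2891 := ded_13_1 L22407 L19411 L19291 L22123 L27993
theorem L27998 : sm gb N2891 = N3988 := flp_b L27997
theorem L27999 : sm gf N2852 = N3989 := rfl
theorem L28000 : sm gf N3989 = N2852 := flp_f L27999
theorem L28001 : sm ge N3989 = N3899 := ded_25_1 L27566 L22126 L27999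
theorem L28002 : sm ge N3899 = N3989 := flp_e L28001
theorem L28003 : sm gf N2853 = N3990 := rfl
theorem L28004 : sm gf N3990 = N2853 := flp_f L28003
theorem L28005 : sm gc N3990 = N2864 := ded_20_1 L22212 L22134 L28003
theorem L28006 : sm gc N2864 = N3990 := flp_c L28005
theorem L28007 : sm gd N3990 = N2948 := ded_23_1 L22730 L22130 L28003
theorem L28008 : sm gd N2948 = N3990 := flp_d L28007
theorem L28009 : sm ge N3990 = N3914 := ded_25_1 L27650 L22132 L28003
theorem L28010 : sm ge N3914 = N3990 := flp_e L28009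
theorem L28011 : sm gg N2853 = N3991 := rfl
theorem L28012 : sm gg N3991 = N2853 := flp_g L28011
theorem L28015 : sm gd N3991 = N2949 := ded_24_1 L22732 L22130 L28011
theorem L28016 : sm gd N2949 = N3991 := flp_d L28015
theorem L28017 : sm ge N3991 = N3915 := ded_26_1 L27658 L22132 L28011
theorem L28018 : sm ge N3915 = N3991 := flp_e L28017
theorem L28019 : sm gb N2854 = N3992 := rfl
theorem L28020 : sm gb N3992 = N2854 := flp_b L28019
theorem L28023 : sm gb N2855 = N3993 := rfl
theorem L28025 : sm gd N3993 = N2951 := ded_14_2 L22736 L22162 L28023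
theorem L28026 : sm gd N2951 = N3993 := flp_d L28025
theorem L28027 : sm ga N2856 = N3994 := rfl
theorem L28028 : sm ga N3994 = N2856 := flp_a L28027
theorem L28029 : sm gd N3994 = N2859 := ded_9_2 L22184 L22166 L28027
theorem L28030 : sm gd N2859 = N3994 := flp_d L28029
theorem L28031 : sm gf N3994 = N2867 := ded_11_2 L22232 L22168 L28027
theorem L28032 : sm gf N2867 = N3994 := flp_f L28031
theorem L28033 : sm gc N2856 = N3995 := rfl
theorem L28034 : sm gc N3995 = N2856 := flp_c L28033
theorem L28035 : sm gf N3995 = N2868 := ded_20_2 L22236 L22168 L28033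
theorem L28036 : sm gf N2868 = N3995 := flp_f L28035
theorem L28037 : sm gg N2856 = N3996 := rfl
theorem L28038 : sm gg N3996 = N2856 := flp_g L28037
theorem L28039 : sm gd N3996 = N2860 := ded_24_1 L22192 L22166 L28037
theorem L28040 : sm gd N2860 = N3996 := flp_d L28039
theorem L28041 : sm gb N2857 = N3997 := rfl
theorem L28042 : sm gb N3997 = N2857 := flp_b L28041
theorem L28043 : sm gd N3997 = N2861 := ded_14_2 L22198 L22172 L28041
theorem L28045 : sm gb N2858 = N3998 := rfl
theorem L28046 : sm gb N3998 = N2858 := flp_b L28045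
theorem L28047 : sm gd N3998 = N2862 := ded_14_2 L22202 L22180 L28045
theorem L28049 : sm gb N2859 = N3999 := rfl
theorem L28050 : sm gb N3999 = N2859 := flp_b L28049
theorem L28051 : sm ge N3999 = N3581 := ded_15_2 L26076 L22188 L28049
theorem L28052 : sm ge N3581 = N3999 := flp_e L28051
theorem L28053 : sm gb N2860 = N4000 := rfl
theorem L28054 : sm gb N4000 = N2860 := flp_b L28053
theorem L28055 : sm ge N4000 = N3582 := ded_15_2 L26080 L22196 L28053
theorem L28056 : sm ge N3582 = N4000 := flp_e L28055
theorem L28057 : sm gg N4000 = N2861 := ded_17_2 L22198 L19317 L19308 L22191 L28053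
theorem L28058 : sm gg N2861 = N4000 := flp_g L28057
theorem L28059 : sm ga N2861 = N4001 := rfl
theorem L28060 : sm ga N4001 = N2861 := flp_a L28059
theorem L28061 : sm ge N4001 = N3855 := ded_10_2 L27322 L22200 L28059
theorem L28062 : sm ge N3855 = N4001 := flp_e L28061
theorem L28063 : sm gc N2861 = N4002 := rfl
theorem L28064 : sm gc N4002 = N2861 := flp_c L28063
theorem L28067 : sm gb N4002 = N2894 := ded_13_1 L22425 L19417 L19319 L22197 L28063
theorem L28068 : sm gb N2894 = N4002 := flp_b L28067
theorem L28069 : sm gf N2861 = N4003 := rfl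
theorem L28070 : sm gf N4003 = N2861 := flp_f L28069
theorem L28071 : sm ge N4003 = N3857 := ded_25_1 L27330 L22200 L28069
theorem L28072 : sm ge N3857 = N4003 := flp_e L28071
theorem L28073 : sm gb N4003 = N3989 := ded_16_1 L28000 L22124 L19322 L22197 L28069
theorem L28074 : sm gb N3989 = N4003 := flp_b L28073
theorem L28075 : sm ga N2862 = N4004 := rfl
theorem L28076 : sm ga N4004 = N2862 := flp_a L28075
theorem L28077 : sm ge N4004 = N3903 := ded_10_2 L27586 L22204 L28075
theorem L28078 : sm ge N3903 = N4004 := flp_e L28077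
theorem L28079 : sm gc N2862 = N4005 := rfl
theorem L28081 : sm ge N4005 = N3904 := ded_19_2 L27590 L22204 L28079
theorem L28082 : sm ge N3904 = N4005 := flp_e L28081
theorem L28083 : sm gb N4005 = N2897 := ded_13_1 L22447 L19425 L19329 L22201 L28079
theorem L28084 : sm gb N2897 = N4005 := flp_b L28083
theorem L28085 : sm gg N2862 = N4006 := rfl
theorem L28086 : sm gg N4006 = N2862 := flp_g L28085
theorem L28087 : sm ge N4006 = N3905 := ded_26_1 L27594 L22204 L28085
theorem L28088 : sm ge N3905 = N4006 := flp_e L28087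
theorem L28089 : sm gb N4006 = N3986 := ded_17_1 L27986 L22120 L19333 L22201 L28085
theorem L28090 : sm gb N3986 = N4006 := flp_b L28089
theorem L28091 : sm gf N2863 = N4007 := rfl
theorem L28092 : sm gf N4007 = N2863 := flp_f L28091
theorem L28093 : sm ga N4007 = N2864 := ded_11_1 L22212 L22205 L28091
theorem L28095 : sm gd N4007 = N2996 := ded_23_1 L22938 L22208 L28091
theorem L28096 : sm gd N2996 = N4007 := flp_d L28095
theorem L28097 : sm ge N4007 = N3910 := ded_25_1 L27622 L22210 L28091
theorem L28098 : sm ge N3910 = N4007 := flp_e L28097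
theorem L28099 : sm gg N2863 = N4008 := rfl
theorem L28101 : sm ga N4008 = N2865 := ded_12_1 L22218 L22205 L28099
theorem L28102 : sm ga N2865 = N4008 := flp_a L28101
theorem L28105 : sm ge N4008 = N3911 := ded_26_1 L27630 L22210 L28099
theorem L28106 : sm ge N3911 = N4008 := flp_e L28105
theorem L28107 : sm gb N2864 = N4009 := rfl
theorem L28108 : sm gb N4009 = N2864 := flp_b L28107
theorem L28109 : sm gd N4009 = N2876 := ded_14_2 L22285 L22214 L28107
theorem L28110 : sm gd N2876 = N4009 := flp_d L28109
theorem L28113 : sm gf N4009 = N2866 := ded_16_2 L22226 L19341 L19334 L22211 L28107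
theorem L28114 : sm gf N2866 = N4009 := flp_f L28113
theorem L28115 : sm gg N2864 = N4010 := rfl
theorem L28116 : sm gg N4010 = N2864 := flp_g L28115
theorem L28117 : sm gd N4010 = N2998 := ded_24_1 L22954 L22214 L28115
theorem L28118 : sm gd N2998 = N4010 := flp_d L28117
theorem L28119 : sm ge N4010 = N3917 := ded_26_1 L27672 L22216 L28115
theorem L28120 : sm ge N3917 = N4010 := flp_e L28119
theorem L28121 : sm gf N4008 = N4010 := ded_29_0 L28116 L22212 L22217 L28102
theorem L28123 : sm gf N2865 = N4011 := rfl
theorem L28127 : sm gd N4011 = N2999 := ded_23_1 L22962 L22220 L28123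
theorem L28128 : sm gd N2999 = N4011 := flp_d L28127
theorem L28129 : sm ge N4011 = N3918 := ded_25_1 L27678 L22222 L28123
theorem L28130 : sm ge N3918 = N4011 := flp_e L28129
theorem L28133 : sm ga N2866 = N4012 := rfl
theorem L28134 : sm ga N4012 = N2866 := flp_a L28133
theorem L28135 : sm gd N4012 = N2874 := ded_9_2 L22272 L22228 L28133
theorem L28136 : sm gd N2874 = N4012 := flp_d L28135
theorem L28137 : sm ge N4012 = N3924 := ded_10_2 L27714 L22230 L28133
theorem L28138 : sm ge N3924 = N4012 := flp_e L28137
theorem L28139 : sm gc N2866 = N4013 := rfl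
theorem L28140 : sm gc N4013 = N2866 := flp_c L28139
theorem L28141 : sm ge N4013 = N3925 := ded_19_2 L27718 L22230 L28139
theorem L28142 : sm ge N3925 = N4013 := flp_e L28141
theorem L28145 : sm gg N2866 = N4014 := rfl
theorem L28146 : sm gg N4014 = N2866 := flp_g L28145
theorem L28147 : sm gd N4014 = N2872 := ded_24_1 L22259 L22228 L28145
theorem L28148 : sm gd N2872 = N4014 := flp_d L28147
theorem L28149 : sm ge N4014 = N3926 := ded_26_1 L27722 L22230 L28145
theorem L28150 : sm ge N3926 = N4014 := flp_e L28149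
theorem L28153 : sm gb N2867 = N4015 := rfl
theorem L28154 : sm gb N4015 = N2867 := flp_b L28153
theorem L28155 : sm gd N4015 = N2870 := ded_14_2 L22242 L22234 L28153
theorem L28156 : sm gd N2870 = N4015 := flp_d L28155
theorem L28157 : sm gc N2867 = N4016 := rfl
theorem L28158 : sm gc N4016 = N2867 := flp_c L28157
theorem L28159 : sm ga N4016 = N2868 := ded_8_1 L22236 L22231 L28157
theorem L28160 : sm ga N2868 = N4016 := flp_a L28159
theorem L28161 : sm gg N2867 = N4017 := rfl
theorem L28162 : sm gg N4017 = N2867 := flp_g L28161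
theorem L28163 : sm ga N4017 = N2869 := ded_12_1 L22238 L22231 L28161
theorem L28164 : sm ga N2869 = N4017 := flp_a L28163
theorem L28165 : sm gd N4017 = N2871 := ded_24_1 L22246 L22234 L28161
theorem L28166 : sm gd N2871 = N4017 := flp_d L28165
theorem L28167 : sm gf N4017 = N3996 := ded_29_2 L28038 L28027 L28031 L28161
theorem L28168 : sm gf N3996 = N4017 := flp_f L28167
theorem L28169 : sm gd N2868 = N4018 := rfl
theorem L28170 : sm gd N4018 = N2868 := flp_d L28169
theorem L28171 : sm gg N2868 = N4019 := rfl
theorem L28172 : sm gg N4019 = N2868 := flp_g L28171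
theorem L28175 : sm gf N2869 = N4020 := rfl
theorem L28177 : sm ga N4020 = N3996 := ded_11_1 L28168 L28163 L28175
theorem L28179 : sm gd N4020 = N2873 := ded_23_1 L22262 L22240 L28175
theorem L28180 : sm gd N2873 = N4020 := flp_d L28179
theorem L28181 : sm gg N4020 = N3994 := ded_29_3 L28028 L22167 L22237 L28175
theorem L28182 : sm gg N3994 = N4020 := flp_g L28181
theorem L28183 : sm ga N2870 = N4021 := rfl
theorem L28184 : sm ga N4021 = N2870 := flp_a L28183
theorem L28185 : sm ge N4021 = N3678 := ded_10_2 L26512 L22244 L28183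
theorem L28186 : sm ge N3678 = N4021 := flp_e L28185
theorem L28187 : sm gc N2870 = N4022 := rfl
theorem L28189 : sm ge N4022 = N3671 := ded_19_2 L26485 L22244 L28187
theorem L28190 : sm ge N3671 = N4022 := flp_e L28189
theorem L28191 : sm gb N4022 = N3269 := ded_13_1 L24506 L20382 L19359 L22241 L28187
theorem L28192 : sm gb N3269 = N4022 := flp_b L28191
theorem L28197 : sm gg N2870 = N4024 := rfl
theorem L28198 : sm gg N4024 = N2870 := flp_g L28197
theorem L28199 : sm ge N4024 = N3680 := ded_26_1 L26522 L22244 L28197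
theorem L28200 : sm ge N3680 = N4024 := flp_e L28199
theorem L28201 : sm gb N2871 = N4025 := rfl
theorem L28202 : sm gb N4025 = N2871 := flp_b L28201
theorem L28203 : sm ge N4025 = N3681 := ded_15_2 L26526 L22252 L28201
theorem L28204 : sm ge N3681 = N4025 := flp_e L28203
theorem L28205 : sm ga N2872 = N4026 := rfl
theorem L28206 : sm ga N4026 = N2872 := flp_a L28205
theorem L28207 : sm ge N4026 = N3083 := ded_10_2 L23369 L22258 L28205
theorem L28208 : sm ge N3083 = N4026 := flp_e L28207
theorem L28209 : sm gg N4026 = N2874 := ded_12_2 L22272 L22260 L28205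
theorem L28210 : sm gg N2874 = N4026 := flp_g L28209
theorem L28211 : sm gc N2872 = N4027 := rfl
theorem L28212 : sm gc N4027 = N2872 := flp_c L28211
theorem L28213 : sm ge N4027 = N3085 := ded_19_2 L23381 L22258 L28211
theorem L28214 : sm ge N3085 = N4027 := flp_e L28213
theorem L28215 : sm gg N4027 = N2875 := ded_21_2 L22276 L22260 L28211
theorem L28216 : sm gg N2875 = N4027 := flp_g L28215
theorem L28217 : sm gb N4027 = N3274 := ded_13_1 L24528 L20394 L19365 L22255 L28211
theorem L28218 : sm gb N3274 = N4027 := flp_b L28217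
theorem L28219 : sm gf N2872 = N4028 := rfl
theorem L28220 : sm gf N4028 = N2872 := flp_f L28219
theorem L28223 : sm gb N2873 = N4029 := rfl
theorem L28224 : sm gb N4029 = N2873 := flp_b L28223
theorem L28225 : sm ge N4029 = N3685 := ded_15_2 L26538 L22268 L28223
theorem L28226 : sm ge N3685 = N4029 := flp_e L28225
theorem L28227 : sm gb N2874 = N4030 := rfl
theorem L28228 : sm gb N4030 = N2874 := flp_b L28227
theorem L28229 : sm ge N4030 = N3081 := ded_15_2 L23360 L22274 L28227
theorem L28230 : sm ge N3081 = N4030 := flp_e L28229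
theorem L28231 : sm gc N2874 = N4031 := rfl
theorem L28232 : sm gc N4031 = N2874 := flp_c L28231
theorem L28233 : sm ga N4031 = N2875 := ded_8_1 L22276 L22271 L28231
theorem L28234 : sm ga N2875 = N4031 := flp_a L28233
theorem L28235 : sm ge N4031 = N3082 := ded_19_2 L23364 L22274 L28231
theorem L28236 : sm ge N3082 = N4031 := flp_e L28235
theorem L28237 : sm gf N2874 = N4032 := rfl
theorem L28239 : sm ga N4032 = N2876 := ded_11_1 L22282 L22271 L28237
theorem L28240 : sm ga N2876 = N4032 := flp_a L28239
theorem L28241 : sm ge N4032 = N3077 := ded_25_1 L23343 L22274 L28237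
theorem L28242 : sm ge N3077 = N4032 := flp_e L28241
theorem L28245 : sm gd N2875 = N4033 := rfl
theorem L28246 : sm gd N4033 = N2875 := flp_d L28245
theorem L28247 : sm gb N4033 = N2877 := ded_14_1 L22288 L22280 L28245
theorem L28248 : sm gb N2877 = N4033 := flp_b L28247
theorem L28249 : sm gf N2875 = N4034 := rfl
theorem L28250 : sm gf N4034 = N2875 := flp_f L28249
theorem L28251 : sm gc N4034 = N2876 := ded_20_1 L22282 L22275 L28249
theorem L28252 : sm gc N2876 = N4034 := flp_c L28251
theorem L28253 : sm ge N4034 = N3078 := ded_25_1 L23347 L22278 L28249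
theorem L28254 : sm ge N3078 = N4034 := flp_e L28253
theorem L28255 : sm gb N4034 = N3136 := ded_16_1 L23681 L20108 L19377 L22280 L28249
theorem L28256 : sm gb N3136 = N4034 := flp_b L28255
theorem L28257 : sm gg N2876 = N4035 := rfl
theorem L28258 : sm gg N4035 = N2876 := flp_g L28257
theorem L28261 : sm ge N4035 = N3079 := ded_26_1 L23352 L22284 L28257
theorem L28262 : sm ge N3079 = N4035 := flp_e L28261
theorem L28263 : sm gf N4026 = N4035 := ded_29_0 L28258 L22282 L22260 L28205
theorem L28265 : sm ge N2877 = N4036 := rfl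
theorem L28266 : sm ge N4036 = N2877 := flp_e L28265
theorem L28269 : sm gf N4036 = N3161 := ded_25_2 L23808 L22290 L28265
theorem L28270 : sm gf N3161 = N4036 := flp_f L28269
theorem L28271 : sm gg N4036 = N3300 := ded_26_2 L24670 L22292 L28265
theorem L28275 : sm gf N2878 = N4037 := rfl
theorem L28276 : sm gf N4037 = N2878 := flp_f L28275
theorem L28277 : sm ga N4037 = N2881 := ded_11_1 L22339 L22298 L28275
theorem L28278 : sm ga N2881 = N4037 := flp_a L28277
theorem L28279 : sm gc N4037 = N2879 := ded_20_1 L22323 L22295 L28275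
theorem L28280 : sm gc N2879 = N4037 := flp_c L28279
theorem L28281 : sm gd N4037 = N3193 := ded_23_1 L23980 L22304 L28275
theorem L28282 : sm gd N3193 = N4037 := flp_d L28281
theorem L28285 : sm gg N2878 = N4038 := rfl
theorem L28286 : sm gg N4038 = N2878 := flp_g L28285
theorem L28287 : sm ga N4038 = N2882 := ded_12_1 L22345 L22298 L28285
theorem L28288 : sm ga N2882 = N4038 := flp_a L28287
theorem L28291 : sm gd N4038 = N3194 := ded_24_1 L23986 L22304 L28285
theorem L28292 : sm gd N3194 = N4038 := flp_d L28291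
theorem L28295 : sm gb N2881 = N4039 := rfl
theorem L28296 : sm gb N4039 = N2881 := flp_b L28295
theorem L28297 : sm ge N4039 = N3886 := ded_15_2 L27485 L22343 L28295
theorem L28298 : sm ge N3886 = N4039 := flp_e L28297
theorem L28299 : sm gg N2881 = N4040 := rfl
theorem L28300 : sm gg N4040 = N2881 := flp_g L28299
theorem L28301 : sm gc N4040 = N2884 := ded_21_1 L22359 L22341 L28299
theorem L28302 : sm gc N2884 = N4040 := flp_c L28301
theorem L28303 : sm ge N4040 = N3887 := ded_26_1 L27489 L22343 L28299
theorem L28304 : sm ge N3887 = N4040 := flp_e L28303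
theorem L28305 : sm gf N4038 = N4040 := ded_29_0 L28300 L22339 L22344 L28288
theorem L28306 : sm gf N4040 = N4038 := flp_f L28305
theorem L28307 : sm gb N2882 = N4041 := rfl
theorem L28308 : sm gb N4041 = N2882 := flp_b L28307
theorem L28309 : sm ge N4041 = N3888 := ded_15_2 L27497 L22349 L28307
theorem L28310 : sm ge N3888 = N4041 := flp_e L28309
theorem L28311 : sm gf N2882 = N4042 := rfl
theorem L28312 : sm gf N4042 = N2882 := flp_f L28311
theorem L28313 : sm ga N4042 = N4040 := ded_11_1 L28306 L28287 L28311
theorem L28315 : sm gc N4042 = N2886 := ded_20_1 L22375 L22347 L28311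
theorem L28317 : sm ge N4042 = N3889 := ded_25_1 L27501 L22349 L28311
theorem L28318 : sm ge N3889 = N4042 := flp_e L28317
theorem L28319 : sm gg N4042 = N4037 := ded_29_3 L28277 L22339 L22344 L28311
theorem L28320 : sm gg N4037 = N4042 := flp_g L28319
theorem L28321 : sm gc N2883 = N4043 := rfl
theorem L28322 : sm gc N4043 = N2883 := flp_c L28321
theorem L28323 : sm ge N4043 = N3848 := ded_19_2 L27277 L22355 L28321
theorem L28324 : sm ge N3848 = N4043 := flp_e L28323
theorem L28325 : sm gf N4043 = N2888 := ded_20_2 L22391 L22357 L28321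
theorem L28326 : sm gf N2888 = N4043 := flp_f L28325
theorem L28327 : sm gc N2885 = N4044 := rfl
theorem L28328 : sm gc N4044 = N2885 := flp_c L28327
theorem L28329 : sm ge N4044 = N3891 := ded_19_2 L27522 L22371 L28327
theorem L28330 : sm ge N3891 = N4044 := flp_e L28329
theorem L28331 : sm gg N4044 = N2891 := ded_21_2 L22407 L22373 L28327
theorem L28332 : sm gg N2891 = N4044 := flp_g L28331
theorem L28333 : sm gc N2887 = N4045 := rfl
theorem L28334 : sm gc N4045 = N2887 := flp_c L28333
theorem L28335 : sm ga N4045 = N2888 := ded_8_1 L22391 L22384 L28333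
theorem L28336 : sm ga N2888 = N4045 := flp_a L28335
theorem L28337 : sm ge N4045 = N3844 := ded_19_2 L27256 L22389 L28333
theorem L28338 : sm ge N3844 = N4045 := flp_e L28337
theorem L28339 : sm gg N4045 = N3821 := ded_21_2 L27154 L27135 L28333
theorem L28340 : sm gg N3821 = N4045 := flp_g L28339
theorem L28341 : sm gd N2888 = N4046 := rfl
theorem L28342 : sm gd N4046 = N2888 := flp_d L28341
theorem L28343 : sm gg N2888 = N4047 := rfl
theorem L28344 : sm gg N4047 = N2888 := flp_g L28343
theorem L28345 : sm ga N4047 = N3821 := ded_12_1 L28340 L28335 L28343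
theorem L28346 : sm ga N3821 = N4047 := flp_a L28345
theorem L28347 : sm gc N4047 = N2889 := ded_21_1 L22395 L22390 L28343
theorem L28348 : sm gc N2889 = N4047 := flp_c L28347
theorem L28349 : sm ge N4047 = N3849 := ded_26_1 L27280 L22393 L28343
theorem L28350 : sm ge N3849 = N4047 := flp_e L28349
theorem L28351 : sm gf N2889 = N4048 := rfl
theorem L28352 : sm gf N4048 = N2889 := flp_f L28351
theorem L28359 : sm gg N4048 = N3811 := ded_29_3 L27146 L22356 L22394 L28351
theorem L28361 : sm gb N4048 = N2893 := ded_16_1 L24993 L27614 L27612 L22458 L28351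
theorem L28362 : sm gb N2893 = N4048 := flp_b L28361
theorem L28380 : sm gd N2891 = N4051 := rfl
theorem L28381 : sm gd N4051 = N2891 := flp_d L28380
theorem L28382 : sm gf N2891 = N4052 := rfl
theorem L28383 : sm gf N4052 = N2891 := flp_f L28382
theorem L28384 : sm gc N4052 = N2892 := ded_20_1 L22411 L22406 L28382
theorem L28386 : sm ge N4052 = N3902 := ded_25_1 L27580 L22409 L28382
theorem L28387 : sm ge N3902 = N4052 := flp_e L28386
theorem L28388 : sm gg N3872 = N4052 := ded_21_0 L28384 L24956 L27407
theorem L28390 : sm gc N2893 = N4053 := rfl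
theorem L28391 : sm gc N4053 = N2893 := flp_c L28390
theorem L28392 : sm ga N4053 = N2894 := ded_8_1 L22425 L22416 L28390
theorem L28393 : sm ga N2894 = N4053 := flp_a L28392
theorem L28396 : sm gg N4053 = N3339 := ded_21_2 L24939 L22423 L28390
theorem L28397 : sm gg N3339 = N4053 := flp_g L28396
theorem L28398 : sm gd N2894 = N4054 := rfl
theorem L28399 : sm gd N4054 = N2894 := flp_d L28398
theorem L28400 : sm gg N4054 = N3341 := ded_24_2 L24978 L22429 L28398
theorem L28401 : sm gg N3341 = N4054 := flp_g L28400
theorem L28402 : sm gf N2894 = N4055 := rfl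
theorem L28403 : sm gf N4055 = N2894 := flp_f L28402
theorem L28408 : sm gc N2896 = N4056 := rfl
theorem L28409 : sm gc N4056 = N2896 := flp_c L28408
theorem L28410 : sm ga N4056 = N2897 := ded_8_1 L22447 L22438 L28408
theorem L28411 : sm ga N2897 = N4056 := flp_a L28410
theorem L28412 : sm ge N4056 = N3906 := ded_19_2 L27600 L22443 L28408
theorem L28413 : sm ge N3906 = N4056 := flp_e L28412
theorem L28414 : sm gf N4056 = N3906 := ded_20_2 L27600 L22445 L28408
theorem L28415 : sm gf N3906 = N4056 := flp_f L28414
theorem L28416 : sm gd N2897 = N4057 := rfl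
theorem L28417 : sm gd N4057 = N2897 := flp_d L28416
theorem L28418 : sm gf N4057 = N3908 := ded_23_2 L27616 L22451 L28416
theorem L28419 : sm gf N3908 = N4057 := flp_f L28418
theorem L28420 : sm gg N2897 = N4058 := rfl
theorem L28421 : sm gg N4058 = N2897 := flp_g L28420
theorem L28422 : sm gc N4058 = N2898 := ded_21_1 L22453 L22446 L28420
theorem L28423 : sm gc N2898 = N4058 := flp_c L28422
theorem L28424 : sm ge N4058 = N3909 := ded_26_1 L27618 L22449 L28420
theorem L28425 : sm ge N3909 = N4058 := flp_e L28424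
theorem L28426 : sm gf N2899 = N4059 := rfl
theorem L28427 : sm gf N4059 = N2899 := flp_f L28426
theorem L28428 : sm ga N4059 = N2901 := ded_11_1 L22473 L22460 L28426
theorem L28429 : sm ga N2901 = N4059 := flp_a L28428
theorem L28430 : sm gc N4059 = N2908 := ded_20_1 L22518 L22463 L28426
theorem L28431 : sm gc N2908 = N4059 := flp_c L28430
theorem L28432 : sm ge N4059 = N2908 := ded_25_1 L22518 L22465 L28426
theorem L28433 : sm ge N2908 = N4059 := flp_e L28432
theorem L28434 : sm gg N2899 = N4060 := rfl
theorem L28435 : sm gg N4060 = N2899 := flp_g L28434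
theorem L28436 : sm ga N4060 = N2902 := ded_12_1 L22479 L22460 L28434
theorem L28437 : sm ga N2902 = N4060 := flp_a L28436
theorem L28438 : sm gc N4060 = N2909 := ded_21_1 L22522 L22463 L28434
theorem L28439 : sm gc N2909 = N4060 := flp_c L28438
theorem L28440 : sm ge N4060 = N2909 := ded_26_1 L22522 L22465 L28434
theorem L28441 : sm ge N2909 = N4060 := flp_e L28440
theorem L28442 : sm gc N2900 = N4061 := rfl
theorem L28443 : sm gc N4061 = N2900 := flp_c L28442
theorem L28444 : sm gb N4061 = N4061 := ded_13_1 L28443 L22470 L19442 L22471 L28442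
theorem L28445 : sm gf N2900 = N4062 := rfl
theorem L28446 : sm gf N4062 = N2900 := flp_f L28445
theorem L28447 : sm gd N4062 = N2901 := ded_23_1 L22473 L22468 L28445
theorem L28448 : sm gd N2901 = N4062 := flp_d L28447
theorem L28449 : sm gg N2900 = N4063 := rfl
theorem L28450 : sm gg N4063 = N2900 := flp_g L28449
theorem L28451 : sm gd N4063 = N2902 := ded_24_1 L22479 L22468 L28449
theorem L28452 : sm gd N2902 = N4063 := flp_d L28451
theorem L28453 : sm gb N2901 = N4064 := rfl
theorem L28454 : sm gb N4064 = N2901 := flp_b L28453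
theorem L28455 : sm ge N4064 = N2910 := ded_15_2 L22526 L22477 L28453
theorem L28456 : sm ge N2910 = N4064 := flp_e L28455
theorem L28457 : sm gf N4064 = N2905 := ded_16_2 L22499 L19444 L19432 L22472 L28453
theorem L28458 : sm gf N2905 = N4064 := flp_f L28457
theorem L28461 : sm gg N2901 = N4065 := rfl
theorem L28462 : sm gg N4065 = N2901 := flp_g L28461
theorem L28463 : sm gc N4065 = N2911 := ded_21_1 L22530 L22475 L28461
theorem L28464 : sm gc N2911 = N4065 := flp_c L28463
theorem L28465 : sm ge N4065 = N2911 := ded_26_1 L22530 L22477 L28461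
theorem L28466 : sm ge N2911 = N4065 := flp_e L28465
theorem L28467 : sm gf N4060 = N4065 := ded_29_0 L28462 L22473 L22478 L28437
theorem L28469 : sm gb N2902 = N4066 := rfl
theorem L28473 : sm gg N4066 = N2906 := ded_17_2 L22505 L19452 L19432 L22478 L28469
theorem L28474 : sm gg N2906 = N4066 := flp_g L28473
theorem L28475 : sm gf N2902 = N4067 := rfl
theorem L28476 : sm gf N4067 = N2902 := flp_f L28475
theorem L28483 : sm gg N4067 = N4059 := ded_29_3 L28428 L22473 L22478 L28475
theorem L28484 : sm gg N4059 = N4067 := flp_g L28483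
theorem L28485 : sm gb N2903 = N4068 := rfl
theorem L28486 : sm gb N4068 = N2903 := flp_b L28485
theorem L28487 : sm gd N4068 = N2905 := ded_14_2 L22499 L22490 L28485
theorem L28488 : sm gd N2905 = N4068 := flp_d L28487
theorem L28489 : sm gb N2904 = N4069 := rfl
theorem L28490 : sm gb N4069 = N2904 := flp_b L28489
theorem L28491 : sm gd N4069 = N2906 := ded_14_2 L22505 L22497 L28489
theorem L28492 : sm gd N2906 = N4069 := flp_d L28491
theorem L28493 : sm ga N2905 = N4070 := rfl
theorem L28494 : sm ga N4070 = N2905 := flp_a L28493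
theorem L28495 : sm gc N4070 = N3967 := ded_8_2 L27886 L22503 L28493
theorem L28496 : sm gc N3967 = N4070 := flp_c L28495
theorem L28497 : sm ge N4070 = N2914 := ded_10_2 L22544 L22501 L28493
theorem L28498 : sm ge N2914 = N4070 := flp_e L28497
theorem L28499 : sm gg N2905 = N4071 := rfl
theorem L28500 : sm gg N4071 = N2905 := flp_g L28499
theorem L28503 : sm ge N4071 = N2916 := ded_26_1 L22552 L22501 L28499
theorem L28504 : sm ge N2916 = N4071 := flp_e L28503
theorem L28505 : sm ga N2906 = N4072 := rfl
theorem L28506 : sm ga N4072 = N2906 := flp_a L28505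
theorem L28507 : sm ge N4072 = N2917 := ded_10_2 L22554 L22507 L28505
theorem L28508 : sm ge N2917 = N4072 := flp_e L28507
theorem L28509 : sm gc N2906 = N4073 := rfl
theorem L28510 : sm gc N4073 = N2906 := flp_c L28509
theorem L28511 : sm ge N4073 = N2918 := ded_19_2 L22556 L22507 L28509
theorem L28513 : sm gb N4073 = N2907 := ded_13_1 L22509 L19460 L19456 L22504 L28509
theorem L28515 : sm gf N2906 = N4074 := rfl
theorem L28516 : sm gf N4074 = N2906 := flp_f L28515
theorem L28517 : sm ge N4074 = N2919 := ded_25_1 L22560 L22507 L28515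
theorem L28518 : sm ge N2919 = N4074 := flp_e L28517
theorem L28528 : sm gb N2908 = N4076 := rfl
theorem L28529 : sm gb N4076 = N2908 := flp_b L28528
theorem L28530 : sm gb N2909 = N4077 := rfl
theorem L28531 : sm gb N4077 = N2909 := flp_b L28530
theorem L28532 : sm ga N2910 = N4078 := rfl
theorem L28533 : sm ga N4078 = N2910 := flp_a L28532
theorem L28534 : sm gf N4078 = N2914 := ded_11_2 L22544 L22528 L28532
theorem L28535 : sm gf N2914 = N4078 := flp_f L28534
theorem L28536 : sm gc N2910 = N4079 := rfl
theorem L28537 : sm gc N4079 = N2910 := flp_c L28536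
theorem L28544 : sm gg N2910 = N4080 := rfl
theorem L28545 : sm gg N4080 = N2910 := flp_g L28544
theorem L28546 : sm gb N2911 = N4081 := rfl
theorem L28547 : sm gb N4081 = N2911 := flp_b L28546
theorem L28548 : sm ga N2912 = N4082 := rfl
theorem L28549 : sm ga N4082 = N2912 := flp_a L28548
theorem L28550 : sm gg N4082 = N2917 := ded_12_2 L22554 L22536 L28548
theorem L28551 : sm gg N2917 = N4082 := flp_g L28550
theorem L28556 : sm gf N2912 = N4084 := rfl
theorem L28558 : sm gb N2913 = N4085 := rfl
theorem L28559 : sm gb N4085 = N2913 := flp_b L28558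
theorem L28560 : sm gb N2914 = N4086 := rfl
theorem L28561 : sm gb N4086 = N2914 := flp_b L28560
theorem L28562 : sm gc N2914 = N4087 := rfl
theorem L28563 : sm gc N4087 = N2914 := flp_c L28562
theorem L28564 : sm ga N4087 = N2915 := ded_8_1 L22546 L22543 L28562
theorem L28565 : sm ga N2915 = N4087 := flp_a L28564
theorem L28566 : sm ge N4087 = N3967 := ded_19_2 L28496 L28497 L28562
theorem L28567 : sm ge N3967 = N4087 := flp_e L28566
theorem L28568 : sm gg N2914 = N4088 := rfl
theorem L28569 : sm gg N4088 = N2914 := flp_g L28568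
theorem L28572 : sm gf N4088 = N4080 := ded_29_2 L28545 L28532 L28534 L28568
theorem L28573 : sm gf N4080 = N4088 := flp_f L28572
theorem L28578 : sm gg N2915 = N4090 := rfl
theorem L28579 : sm gg N4090 = N2915 := flp_g L28578
theorem L28582 : sm ge N4090 = N3969 := ded_26_1 L27890 L22548 L28578
theorem L28583 : sm ge N3969 = N4090 := flp_e L28582
theorem L28584 : sm gf N2916 = N4091 := rfl
theorem L28585 : sm gf N4091 = N2916 := flp_f L28584
theorem L28588 : sm gg N4091 = N4078 := ded_29_3 L28533 L22527 L22551 L28584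
theorem L28589 : sm gg N4078 = N4091 := flp_g L28588
theorem L28590 : sm gb N2917 = N4092 := rfl
theorem L28591 : sm gb N4092 = N2917 := flp_b L28590
theorem L28592 : sm gc N2917 = N4093 := rfl
theorem L28593 : sm gc N4093 = N2917 := flp_c L28592
theorem L28594 : sm ga N4093 = N2918 := ded_8_1 L22556 L22553 L28592
theorem L28595 : sm ga N2918 = N4093 := flp_a L28594
theorem L28596 : sm gf N2917 = N4094 := rfl
theorem L28597 : sm gf N4094 = N2917 := flp_f L28596
theorem L28598 : sm ga N4094 = N2919 := ded_11_1 L22560 L22553 L28596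
theorem L28600 : sm gg N4084 = N4094 := ded_29_1 L28597 L28551 L28549 L28556
theorem L28602 : sm gd N2918 = N4095 := rfl
theorem L28603 : sm gd N4095 = N2918 := flp_d L28602
theorem L28610 : sm gg N2919 = N4097 := rfl
theorem L28611 : sm gg N4097 = N2919 := flp_g L28610
theorem L28612 : sm ga N4097 = N4084 := ded_12_1 L28600 L28598 L28610
theorem L28613 : sm ga N4084 = N4097 := flp_a L28612
theorem L28614 : sm gf N4082 = N4097 := ded_29_0 L28611 L22560 L22536 L28548
theorem L28615 : sm gf N4097 = N4082 := flp_f L28614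
theorem L28616 : sm ge N2920 = N4098 := rfl
theorem L28617 : sm ge N4098 = N2920 := flp_e L28616
theorem L28618 : sm ga N4098 = N3933 := ded_10_1 L27764 L22564 L28616
theorem L28629 : sm gf N2922 = N4100 := rfl
theorem L28630 : sm gf N4100 = N2922 := flp_f L28629
theorem L28631 : sm ga N4100 = N3884 := ded_11_1 L27473 L22579 L28629
theorem L28632 : sm ga N3884 = N4100 := flp_a L28631
theorem L28633 : sm gc N4100 = N3892 := ded_20_1 L27526 L22577 L28629
theorem L28634 : sm gc N3892 = N4100 := flp_c L28633
theorem L28635 : sm ge N4100 = N2948 := ded_25_1 L22730 L22575 L28629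
theorem L28636 : sm ge N2948 = N4100 := flp_e L28635
theorem L28637 : sm gg N2922 = N4101 := rfl
theorem L28638 : sm gg N4101 = N2922 := flp_g L28637
theorem L28641 : sm gc N4101 = N3893 := ded_21_1 L27532 L22577 L28637
theorem L28645 : sm gc N2923 = N4102 := rfl
theorem L28646 : sm gc N4102 = N2923 := flp_c L28645
theorem L28647 : sm ga N4102 = N2926 := ded_8_1 L22601 L22583 L28645
theorem L28648 : sm ga N2926 = N4102 := flp_a L28647
theorem L28649 : sm gf N2923 = N4103 := rfl
theorem L28650 : sm gf N4103 = N2923 := flp_f L28649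
theorem L28651 : sm ga N4103 = N2928 := ded_11_1 L22610 L22583 L28649
theorem L28653 : sm gd N4103 = N2924 := ded_23_1 L22585 L22580 L28649
theorem L28654 : sm gd N2924 = N4103 := flp_d L28653
theorem L28655 : sm gg N2923 = N4104 := rfl
theorem L28656 : sm gg N4104 = N2923 := flp_g L28655
theorem L28657 : sm ga N4104 = N2929 := ded_12_1 L22614 L22583 L28655
theorem L28658 : sm ga N2929 = N4104 := flp_a L28657
theorem L28659 : sm gd N4104 = N2925 := ded_24_1 L22593 L22580 L28655
theorem L28660 : sm gd N2925 = N4104 := flp_d L28659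
theorem L28661 : sm gb N2924 = N4105 := rfl
theorem L28662 : sm gb N4105 = N2924 := flp_b L28661
theorem L28663 : sm ge N4105 = N2950 := ded_15_2 L22734 L22591 L28661
theorem L28664 : sm ge N2950 = N4105 := flp_e L28663
theorem L28665 : sm gb N2925 = N4106 := rfl
theorem L28666 : sm gb N4106 = N2925 := flp_b L28665
theorem L28667 : sm ge N4106 = N2951 := ded_15_2 L22736 L22599 L28665
theorem L28668 : sm ge N2951 = N4106 := flp_e L28667
theorem L28669 : sm gd N2926 = N4107 := rfl
theorem L28670 : sm gd N4107 = N2926 := flp_d L28669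
theorem L28671 : sm gb N4107 = N4107 := ded_14_1 L28670 L22602 L28669
theorem L28672 : sm gc N2927 = N4107 := ded_28_0 L28670 L22601 L19498 L8722 L9259 L19722 L23015 L23017
theorem L28673 : sm gc N4107 = N2927 := flp_c L28672
theorem L28674 : sm ge N4107 = N2926 := ded_19_2 L22601 L22603 L28672
theorem L28675 : sm ge N2926 = N4107 := flp_e L28674
theorem L28676 : sm gf N2926 = N4108 := rfl
theorem L28677 : sm gf N4108 = N2926 := flp_f L28676
theorem L28678 : sm gc N4108 = N2928 := ded_20_1 L22610 L22600 L28676
theorem L28679 : sm gc N2928 = N4108 := flp_c L28678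
theorem L28680 : sm gg N2926 = N4109 := rfl
theorem L28681 : sm gg N4109 = N2926 := flp_g L28680
theorem L28684 : sm gf N2927 = N4110 := rfl
theorem L28685 : sm gf N4110 = N2927 := flp_f L28684
theorem L28686 : sm gd N4110 = N2952 := ded_23_1 L22738 L22608 L28684
theorem L28688 : sm ge N4110 = N2928 := ded_25_1 L22610 L22603 L28684
theorem L28689 : sm ge N2928 = N4110 := flp_e L28688
theorem L28690 : sm gg N2927 = N4111 := rfl
theorem L28691 : sm gg N4111 = N2927 := flp_g L28690
theorem L28692 : sm gd N4111 = N2953 := ded_24_1 L22742 L22608 L28690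
theorem L28693 : sm gd N2953 = N4111 := flp_d L28692
theorem L28694 : sm ge N4111 = N2929 := ded_26_1 L22614 L22603 L28690
theorem L28695 : sm ge N2929 = N4111 := flp_e L28694
theorem L28696 : sm gb N2928 = N4112 := rfl
theorem L28697 : sm gb N4112 = N2928 := flp_b L28696
theorem L28698 : sm gd N4112 = N2930 := ded_14_2 L22618 L22612 L28696
theorem L28699 : sm gd N2930 = N4112 := flp_d L28698
theorem L28700 : sm gf N4112 = N2936 := ded_16_2 L22664 L19519 L19500 L22609 L28696
theorem L28701 : sm gf N2936 = N4112 := flp_f L28700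
theorem L28702 : sm gg N2928 = N4113 := rfl
theorem L28703 : sm gg N4113 = N2928 := flp_g L28702
theorem L28704 : sm gd N4113 = N2931 := ded_24_1 L22624 L22612 L28702
theorem L28706 : sm gf N4104 = N4113 := ded_29_0 L28703 L22610 L22613 L28658
theorem L28707 : sm gf N4113 = N4104 := flp_f L28706
theorem L28708 : sm gb N2929 = N4114 := rfl
theorem L28712 : sm gg N4114 = N2938 := ded_17_2 L22675 L19524 L19500 L22613 L28708
theorem L28713 : sm gg N2938 = N4114 := flp_g L28712
theorem L28714 : sm gf N2929 = N4115 := rfl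
theorem L28715 : sm gf N4115 = N2929 := flp_f L28714
theorem L28716 : sm ga N4115 = N4113 := ded_11_1 L28707 L28657 L28714
theorem L28717 : sm ga N4113 = N4115 := flp_a L28716
theorem L28718 : sm gd N4115 = N2933 := ded_23_1 L22640 L22616 L28714
theorem L28722 : sm ga N2930 = N4116 := rfl
theorem L28723 : sm ga N4116 = N2930 := flp_a L28722
theorem L28724 : sm ge N4116 = N2958 := ded_10_2 L22776 L22620 L28722
theorem L28725 : sm ge N2958 = N4116 := flp_e L28724
theorem L28726 : sm gf N4116 = N2940 := ded_11_2 L22688 L22622 L28722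
theorem L28727 : sm gf N2940 = N4116 := flp_f L28726
theorem L28728 : sm gc N2930 = N4117 := rfl
theorem L28729 : sm gc N4117 = N2930 := flp_c L28728
theorem L28732 : sm gf N4117 = N2941 := ded_20_2 L22692 L22622 L28728
theorem L28733 : sm gf N2941 = N4117 := flp_f L28732
theorem L28734 : sm gb N4117 = N3014 := ded_13_1 L23072 L19741 L19504 L22617 L28728
theorem L28735 : sm gb N3014 = N4117 := flp_b L28734
theorem L28736 : sm gg N2930 = N4118 := rfl
theorem L28737 : sm gg N4118 = N2930 := flp_g L28736
theorem L28738 : sm ge N4118 = N2960 := ded_26_1 L22786 L22620 L28736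
theorem L28739 : sm ge N2960 = N4118 := flp_e L28738
theorem L28744 : sm ga N2932 = N4120 := rfl
theorem L28745 : sm ga N4120 = N2932 := flp_a L28744
theorem L28746 : sm gc N4120 = N3139 := ded_8_2 L23692 L22636 L28744
theorem L28748 : sm ge N4120 = N2962 := ded_10_2 L22790 L22634 L28744
theorem L28749 : sm ge N2962 = N4120 := flp_e L28748
theorem L28750 : sm gg N4120 = N2944 := ded_12_2 L22708 L22638 L28744
theorem L28751 : sm gg N2944 = N4120 := flp_g L28750
theorem L28752 : sm gf N2932 = N4121 := rfl
theorem L28754 : sm gc N4121 = N3140 := ded_20_1 L23698 L22636 L28752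
theorem L28755 : sm gc N3140 = N4121 := flp_c L28754
theorem L28756 : sm ge N4121 = N2963 := ded_25_1 L22796 L22634 L28752
theorem L28757 : sm ge N2963 = N4121 := flp_e L28756
theorem L28758 : sm gb N2933 = N4122 := rfl
theorem L28759 : sm gb N4122 = N2933 := flp_b L28758
theorem L28760 : sm ge N4122 = N2964 := ded_15_2 L22800 L22646 L28758
theorem L28761 : sm ge N2964 = N4122 := flp_e L28760
theorem L28762 : sm gb N2934 = N4123 := rfl
theorem L28763 : sm gb N4123 = N2934 := flp_b L28762
theorem L28764 : sm gd N4123 = N2965 := ded_14_2 L22802 L22653 L28762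
theorem L28765 : sm gd N2965 = N4123 := flp_d L28764
theorem L28766 : sm ge N4123 = N2936 := ded_15_2 L22664 L22655 L28762
theorem L28767 : sm ge N2936 = N4123 := flp_e L28766
theorem L28768 : sm gg N2934 = N4124 := rfl
theorem L28769 : sm gg N4124 = N2934 := flp_g L28768
theorem L28770 : sm gc N4124 = N4124 := ded_21_1 L28769 L22651 L28768
theorem L28771 : sm gd N4124 = N2966 := ded_24_1 L22806 L22653 L28768
theorem L28772 : sm gd N2966 = N4124 := flp_d L28771
theorem L28773 : sm ge N4124 = N2937 := ded_26_1 L22668 L22655 L28768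
theorem L28774 : sm ge N2937 = N4124 := flp_e L28773
theorem L28775 : sm gf N3231 = N4124 := ded_29_0 L28769 L22650 L22656 L24323
theorem L28776 : sm gf N4124 = N3231 := flp_f L28775
theorem L28777 : sm gb N2935 = N4125 := rfl
theorem L28779 : sm gd N4125 = N2967 := ded_14_2 L22814 L22660 L28777
theorem L28780 : sm gd N2967 = N4125 := flp_d L28779
theorem L28781 : sm ge N4125 = N2938 := ded_15_2 L22675 L22662 L28777
theorem L28782 : sm ge N2938 = N4125 := flp_e L28781
theorem L28783 : sm gf N2935 = N4126 := rfl
theorem L28784 : sm gf N4126 = N2935 := flp_f L28783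
theorem L28785 : sm ga N4126 = N4124 := ded_11_1 L28776 L24322 L28783
theorem L28787 : sm gc N4126 = N4126 := ded_20_1 L28784 L22658 L28783
theorem L28788 : sm gd N4126 = N2968 := ded_23_1 L22818 L22660 L28783
theorem L28789 : sm gd N2968 = N4126 := flp_d L28788
theorem L28790 : sm ge N4126 = N2939 := ded_25_1 L22679 L22662 L28783
theorem L28791 : sm ge N2939 = N4126 := flp_e L28790
theorem L28792 : sm gg N4126 = N3230 := ded_29_3 L24313 L22650 L22656 L28783
theorem L28793 : sm gg N3230 = N4126 := flp_g L28792
theorem L28794 : sm ga N2936 = N4127 := rfl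
theorem L28795 : sm ga N4127 = N2936 := flp_a L28794
theorem L28796 : sm gd N4127 = N2940 := ded_9_2 L22688 L22666 L28794
theorem L28797 : sm gd N2940 = N4127 := flp_d L28796
theorem L28798 : sm gc N2936 = N4128 := rfl
theorem L28799 : sm gc N4128 = N2936 := flp_c L28798
theorem L28800 : sm gb N4128 = N4128 := ded_13_1 L28799 L22664 L19520 L22663 L28798
theorem L28801 : sm gg N2936 = N4129 := rfl
theorem L28802 : sm gg N4129 = N2936 := flp_g L28801
theorem L28803 : sm gd N4129 = N2942 := ded_24_1 L22698 L22666 L28801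
theorem L28804 : sm gd N2942 = N4129 := flp_d L28803
theorem L28805 : sm gb N2937 = N4130 := rfl
theorem L28806 : sm gb N4130 = N2937 := flp_b L28805
theorem L28807 : sm gd N4130 = N2943 := ded_14_2 L22702 L22671 L28805
theorem L28808 : sm gd N2943 = N4130 := flp_d L28807
theorem L28809 : sm ga N2938 = N4131 := rfl
theorem L28810 : sm ga N4131 = N2938 := flp_a L28809
theorem L28811 : sm gd N4131 = N2944 := ded_9_2 L22708 L22677 L28809
theorem L28812 : sm gd N2944 = N4131 := flp_d L28811
theorem L28816 : sm gf N2938 = N4133 := rfl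
theorem L28817 : sm gf N4133 = N2938 := flp_f L28816
theorem L28818 : sm gd N4133 = N2945 := ded_23_1 L22714 L22677 L28816
theorem L28819 : sm gd N2945 = N4133 := flp_d L28818
theorem L28820 : sm gb N2939 = N4134 := rfl
theorem L28821 : sm gb N4134 = N2939 := flp_b L28820
theorem L28822 : sm gd N4134 = N2946 := ded_14_2 L22720 L22684 L28820
theorem L28823 : sm gd N2946 = N4134 := flp_d L28822
theorem L28824 : sm gb N2940 = N4135 := rfl
theorem L28825 : sm gb N4135 = N2940 := flp_b L28824
theorem L28826 : sm ge N4135 = N2977 := ded_15_2 L22856 L22690 L28824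
theorem L28827 : sm ge N2977 = N4135 := flp_e L28826
theorem L28828 : sm gc N2940 = N4136 := rfl
theorem L28829 : sm gc N4136 = N2940 := flp_c L28828
theorem L28830 : sm ga N4136 = N2941 := ded_8_1 L22692 L22687 L28828
theorem L28831 : sm ga N2941 = N4136 := flp_a L28830
theorem L28832 : sm ge N4136 = N2978 := ded_19_2 L22858 L22690 L28828
theorem L28833 : sm ge N2978 = N4136 := flp_e L28832
theorem L28834 : sm gg N2940 = N4137 := rfl
theorem L28835 : sm gg N4137 = N2940 := flp_g L28834
theorem L28836 : sm ga N4137 = N2942 := ded_12_1 L22698 L22687 L28834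
theorem L28837 : sm ga N2942 = N4137 := flp_a L28836
theorem L28838 : sm ge N4137 = N2979 := ded_26_1 L22862 L22690 L28834
theorem L28839 : sm ge N2979 = N4137 := flp_e L28838
theorem L28840 : sm gf N4137 = N4118 := ded_29_2 L28737 L28722 L28726 L28834
theorem L28841 : sm gf N4118 = N4137 := flp_f L28840
theorem L28842 : sm gd N2941 = N4138 := rfl
theorem L28843 : sm gd N4138 = N2941 := flp_d L28842
theorem L28844 : sm gb N4138 = N2947 := ded_14_1 L22724 L22696 L28842
theorem L28845 : sm gb N2947 = N4138 := flp_b L28844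
theorem L28846 : sm gg N2941 = N4139 := rfl
theorem L28847 : sm gg N4139 = N2941 := flp_g L28846
theorem L28848 : sm gc N4139 = N2942 := ded_21_1 L22698 L22691 L28846
theorem L28849 : sm gc N2942 = N4139 := flp_c L28848
theorem L28850 : sm ge N4139 = N2981 := ded_26_1 L22872 L22694 L28846
theorem L28851 : sm ge N2981 = N4139 := flp_e L28850
theorem L28852 : sm gb N4139 = N2981 := ded_17_1 L22872 L19652 L19563 L22696 L28846
theorem L28853 : sm gb N2981 = N4139 := flp_b L28852
theorem L28854 : sm gb N2942 = N4140 := rfl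
theorem L28855 : sm gb N4140 = N2942 := flp_b L28854
theorem L28856 : sm ge N4140 = N2982 := ded_15_2 L22876 L22700 L28854
theorem L28857 : sm ge N2982 = N4140 := flp_e L28856
theorem L28858 : sm gc N4140 = N2982 := ded_13_2 L22876 L22874 L28853 L28848 L28854
theorem L28859 : sm gc N2982 = N4140 := flp_c L28858
theorem L28860 : sm gg N4140 = N2943 := ded_17_2 L22702 L19533 L19528 L22697 L28854
theorem L28861 : sm gg N2943 = N4140 := flp_g L28860
theorem L28862 : sm gf N2942 = N4141 := rfl
theorem L28863 : sm gf N4141 = N2942 := flp_f L28862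
theorem L28864 : sm ga N4141 = N4118 := ded_11_1 L28841 L28836 L28862
theorem L28865 : sm ga N4118 = N4141 := flp_a L28864
theorem L28866 : sm ge N4141 = N2983 := ded_25_1 L22880 L22700 L28862
theorem L28867 : sm ge N2983 = N4141 := flp_e L28866
theorem L28868 : sm gg N4141 = N4116 := ded_29_3 L28723 L22621 L22697 L28862
theorem L28869 : sm gg N4116 = N4141 := flp_g L28868
theorem L28870 : sm ga N2943 = N4142 := rfl
theorem L28871 : sm ga N4142 = N2943 := flp_a L28870
theorem L28872 : sm gc N4142 = N2984 := ded_8_2 L22886 L22706 L28870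
theorem L28873 : sm gc N2984 = N4142 := flp_c L28872
theorem L28874 : sm ge N4142 = N2984 := ded_10_2 L22886 L22704 L28870
theorem L28875 : sm ge N2984 = N4142 := flp_e L28874
theorem L28876 : sm gf N2943 = N4143 := rfl
theorem L28877 : sm gf N4143 = N2943 := flp_f L28876
theorem L28878 : sm gc N4143 = N2985 := ded_20_1 L22888 L22706 L28876
theorem L28879 : sm gc N2985 = N4143 := flp_c L28878
theorem L28884 : sm gb N2944 = N4144 := rfl
theorem L28885 : sm gb N4144 = N2944 := flp_b L28884
theorem L28886 : sm ge N4144 = N2986 := ded_15_2 L22892 L22712 L28884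
theorem L28887 : sm ge N2986 = N4144 := flp_e L28886
theorem L28888 : sm gf N2944 = N4145 := rfl
theorem L28889 : sm gf N4145 = N2944 := flp_f L28888
theorem L28890 : sm ga N4145 = N2945 := ded_11_1 L22714 L22707 L28888
theorem L28892 : sm gc N4145 = N3157 := ded_20_1 L23782 L22710 L28888
theorem L28894 : sm ge N4145 = N2987 := ded_25_1 L22894 L22712 L28888
theorem L28895 : sm ge N2987 = N4145 := flp_e L28894
theorem L28896 : sm gg N4121 = N4145 := ded_29_1 L28889 L28751 L28745 L28752
theorem L28898 : sm gb N2945 = N4146 := rfl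
theorem L28899 : sm gb N4146 = N2945 := flp_b L28898
theorem L28900 : sm ge N4146 = N2988 := ded_15_2 L22902 L22718 L28898
theorem L28901 : sm ge N2988 = N4146 := flp_e L28900
theorem L28902 : sm gf N4146 = N2946 := ded_16_2 L22720 L19547 L19540 L22713 L28898
theorem L28903 : sm gf N2946 = N4146 := flp_f L28902
theorem L28904 : sm gg N2945 = N4147 := rfl
theorem L28905 : sm gg N4147 = N2945 := flp_g L28904
theorem L28906 : sm ga N4147 = N4121 := ded_12_1 L28896 L28890 L28904
theorem L28910 : sm ge N4147 = N2989 := ded_26_1 L22906 L22718 L28904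
theorem L28912 : sm gf N4120 = N4147 := ded_29_0 L28905 L22714 L22638 L28744
theorem L28914 : sm ga N2946 = N4148 := rfl
theorem L28915 : sm ga N4148 = N2946 := flp_a L28914
theorem L28916 : sm ge N4148 = N2990 := ded_10_2 L22914 L22722 L28914
theorem L28917 : sm ge N2990 = N4148 := flp_e L28916
theorem L28918 : sm gg N2946 = N4149 := rfl
theorem L28919 : sm gg N4149 = N2946 := flp_g L28918
theorem L28920 : sm ge N4149 = N2991 := ded_26_1 L22916 L22722 L28918
theorem L28921 : sm ge N2991 = N4149 := flp_e L28920
theorem L28922 : sm gb N4149 = N4071 := ded_17_1 L28500 L22499 L19555 L22719 L28918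
theorem L28923 : sm gb N4071 = N4149 := flp_b L28922
theorem L28924 : sm ge N2947 = N4150 := rfl
theorem L28925 : sm ge N4150 = N2947 := flp_e L28924
theorem L28926 : sm gf N4150 = N3027 := ded_25_2 L23142 L22726 L28924
theorem L28927 : sm gf N3027 = N4150 := flp_f L28926
theorem L28928 : sm gg N4150 = N2994 := ded_26_2 L22930 L22728 L28924
theorem L28929 : sm gg N2994 = N4150 := flp_g L28928
theorem L28930 : sm gd N4150 = N2994 := ded_22_1 L22930 L19675 L19559 L22723 L28924
theorem L28931 : sm gd N2994 = N4150 := flp_d L28930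
theorem L28932 : sm gb N2948 = N4151 := rfl
theorem L28933 : sm gb N4151 = N2948 := flp_b L28932
theorem L28934 : sm gf N4151 = N2950 := ded_16_2 L22734 L19567 L19564 L22729 L28932
theorem L28935 : sm gf N2950 = N4151 := flp_f L28934
theorem L28936 : sm gg N2948 = N4152 := rfl
theorem L28937 : sm gg N4152 = N2948 := flp_g L28936
theorem L28940 : sm gf N3977 = N4152 := ded_29_0 L28937 L22730 L22731 L27936
theorem L28941 : sm gf N4152 = N3977 := flp_f L28940
theorem L28942 : sm gb N2949 = N4153 := rfl
theorem L28943 : sm gb N4153 = N2949 := flp_b L28942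
theorem L28944 : sm gg N4153 = N2951 := ded_17_2 L22736 L19573 L19564 L22731 L28942
theorem L28945 : sm gg N2951 = N4153 := flp_g L28944
theorem L28946 : sm gf N2949 = N4154 := rfl
theorem L28947 : sm gf N4154 = N2949 := flp_f L28946
theorem L28948 : sm ga N4154 = N4152 := ded_11_1 L28941 L27935 L28946
theorem L28950 : sm gc N4154 = N3979 := ded_20_1 L27952 L27921 L28946
theorem L28951 : sm gc N3979 = N4154 := flp_c L28950
theorem L28952 : sm gg N4154 = N3976 := ded_29_3 L27927 L22730 L22731 L28946
theorem L28953 : sm gg N3976 = N4154 := flp_g L28952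
theorem L28954 : sm ga N2950 = N4155 := rfl
theorem L28955 : sm ga N4155 = N2950 := flp_a L28954
theorem L28956 : sm gc N2950 = N4156 := rfl
theorem L28957 : sm gc N4156 = N2950 := flp_c L28956
theorem L28958 : sm gb N4156 = N3040 := ded_13_1 L23208 L19797 L19571 L22733 L28956
theorem L28959 : sm gb N3040 = N4156 := flp_b L28958
theorem L28960 : sm gg N2950 = N4157 := rfl
theorem L28961 : sm gg N4157 = N2950 := flp_g L28960
theorem L28962 : sm ga N2951 = N4158 := rfl
theorem L28963 : sm ga N4158 = N2951 := flp_a L28962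
theorem L28964 : sm gc N2951 = N4159 := rfl
theorem L28965 : sm gc N4159 = N2951 := flp_c L28964
theorem L28966 : sm gb N4159 = N3043 := ded_13_1 L23214 L19799 L19577 L22735 L28964
theorem L28967 : sm gb N3043 = N4159 := flp_b L28966
theorem L28968 : sm gf N2951 = N4160 := rfl
theorem L28969 : sm gf N4160 = N2951 := flp_f L28968
theorem L28970 : sm gb N2952 = N4161 := rfl
theorem L28971 : sm gb N4161 = N2952 := flp_b L28970
theorem L28972 : sm ge N4161 = N2954 := ded_15_2 L22746 L22740 L28970
theorem L28973 : sm ge N2954 = N4161 := flp_e L28972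
theorem L28974 : sm gf N4161 = N2965 := ded_16_2 L22802 L19615 L19581 L22737 L28970
theorem L28975 : sm gf N2965 = N4161 := flp_f L28974
theorem L28976 : sm gg N2952 = N4162 := rfl
theorem L28977 : sm gg N4162 = N2952 := flp_g L28976
theorem L28982 : sm gf N3009 = N4162 := ded_29_0 L28977 L22738 L22741 L23034
theorem L28983 : sm gf N4162 = N3009 := flp_f L28982
theorem L28984 : sm gb N2953 = N4163 := rfl
theorem L28986 : sm ge N4163 = N2956 := ded_15_2 L22760 L22744 L28984
theorem L28988 : sm gg N4163 = N2967 := ded_17_2 L22814 L19619 L19581 L22741 L28984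
theorem L28989 : sm gg N2967 = N4163 := flp_g L28988
theorem L28990 : sm gf N2953 = N4164 := rfl
theorem L28991 : sm gf N4164 = N2953 := flp_f L28990
theorem L28994 : sm gc N4164 = N3011 := ded_20_1 L23054 L23001 L28990
theorem L28995 : sm gc N3011 = N4164 := flp_c L28994
theorem L28996 : sm ge N4164 = N2957 := ded_25_1 L22766 L22744 L28990
theorem L28997 : sm ge N2957 = N4164 := flp_e L28996
theorem L29000 : sm ga N2954 = N4165 := rfl
theorem L29001 : sm ga N4165 = N2954 := flp_a L29000
theorem L29002 : sm gd N4165 = N2958 := ded_9_2 L22776 L22748 L29000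
theorem L29004 : sm gf N4165 = N2969 := ded_11_2 L22828 L22750 L29000
theorem L29005 : sm gf N2969 = N4165 := flp_f L29004
theorem L29006 : sm gc N2954 = N4166 := rfl
theorem L29007 : sm gc N4166 = N2954 := flp_c L29006
theorem L29008 : sm gf N4166 = N2970 := ded_20_2 L22832 L22750 L29006
theorem L29009 : sm gf N2970 = N4166 := flp_f L29008
theorem L29010 : sm gg N2954 = N4167 := rfl
theorem L29011 : sm gg N4167 = N2954 := flp_g L29010
theorem L29014 : sm gb N2955 = N4168 := rfl
theorem L29015 : sm gb N4168 = N2955 := flp_b L29014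
theorem L29016 : sm gd N4168 = N2961 := ded_14_2 L22788 L22756 L29014
theorem L29017 : sm gd N2961 = N4168 := flp_d L29016
theorem L29018 : sm ga N2956 = N4169 := rfl
theorem L29019 : sm ga N4169 = N2956 := flp_a L29018
theorem L29020 : sm gd N4169 = N2962 := ded_9_2 L22790 L22762 L29018
theorem L29022 : sm gg N4169 = N2973 := ded_12_2 L22842 L22764 L29018
theorem L29023 : sm gg N2973 = N4169 := flp_g L29022
theorem L29024 : sm gc N2956 = N4170 := rfl
theorem L29025 : sm gc N4170 = N2956 := flp_c L29024
theorem L29026 : sm gg N4170 = N2974 := ded_21_2 L22846 L22764 L29024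
theorem L29027 : sm gg N2974 = N4170 := flp_g L29026
theorem L29028 : sm gf N2956 = N4171 := rfl
theorem L29030 : sm gd N4171 = N2963 := ded_23_1 L22796 L22762 L29028
theorem L29031 : sm gd N2963 = N4171 := flp_d L29030
theorem L29032 : sm gb N2957 = N4172 := rfl
theorem L29033 : sm gb N4172 = N2957 := flp_b L29032
theorem L29034 : sm gd N4172 = N2964 := ded_14_2 L22800 L22772 L29032
theorem L29035 : sm gd N2964 = N4172 := flp_d L29034
theorem L29036 : sm gb N2958 = N4173 := rfl
theorem L29037 : sm gb N4173 = N2958 := flp_b L29036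
theorem L29038 : sm gc N2958 = N4174 := rfl
theorem L29039 : sm gc N4174 = N2958 := flp_c L29038
theorem L29040 : sm ga N4174 = N2959 := ded_8_1 L22780 L22775 L29038
theorem L29041 : sm ga N2959 = N4174 := flp_a L29040
theorem L29042 : sm gf N4174 = N2978 := ded_20_2 L22858 L22778 L29038
theorem L29043 : sm gf N2978 = N4174 := flp_f L29042
theorem L29044 : sm gd N2959 = N4175 := rfl
theorem L29045 : sm gd N4175 = N2959 := flp_d L29044
theorem L29048 : sm gf N4175 = N2980 := ded_23_2 L22868 L22782 L29044
theorem L29049 : sm gf N2980 = N4175 := flp_f L29048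
theorem L29050 : sm gg N2959 = N4176 := rfl
theorem L29051 : sm gg N4176 = N2959 := flp_g L29050
theorem L29052 : sm gc N4176 = N2960 := ded_21_1 L22786 L22779 L29050
theorem L29054 : sm gb N2960 = N4177 := rfl
theorem L29055 : sm gb N4177 = N2960 := flp_b L29054
theorem L29056 : sm gg N4177 = N2961 := ded_17_2 L22788 L19595 L19590 L22785 L29054
theorem L29057 : sm gg N2961 = N4177 := flp_g L29056
theorem L29058 : sm ga N2961 = N4178 := rfl
theorem L29059 : sm ga N4178 = N2961 := flp_a L29058
theorem L29064 : sm gf N2961 = N4180 := rfl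
theorem L29065 : sm gf N4180 = N2961 := flp_f L29064
theorem L29066 : sm gb N4180 = N4160 := ded_16_1 L28969 L22736 L19598 L22787 L29064
theorem L29067 : sm gb N4160 = N4180 := flp_b L29066
theorem L29068 : sm gb N2962 = N4181 := rfl
theorem L29069 : sm gb N4181 = N2962 := flp_b L29068
theorem L29070 : sm gb N2963 = N4182 := rfl
theorem L29071 : sm gb N4182 = N2963 := flp_b L29070
theorem L29072 : sm gf N4182 = N2964 := ded_16_2 L22800 L19607 L19600 L22795 L29070
theorem L29073 : sm gf N2964 = N4182 := flp_f L29072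
theorem L29074 : sm ga N2964 = N4183 := rfl
theorem L29075 : sm ga N4183 = N2964 := flp_a L29074
theorem L29076 : sm gc N2964 = N4184 := rfl
theorem L29077 : sm gc N4184 = N2964 := flp_c L29076
theorem L29078 : sm gb N4184 = N3056 := ded_13_1 L23258 L19827 L19611 L22799 L29076
theorem L29079 : sm gb N3056 = N4184 := flp_b L29078
theorem L29080 : sm gg N2964 = N4185 := rfl
theorem L29081 : sm gg N4185 = N2964 := flp_g L29080
theorem L29082 : sm gb N4185 = N4157 := ded_17_1 L28961 L22734 L19613 L22799 L29080
theorem L29083 : sm gb N4157 = N4185 := flp_b L29082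
theorem L29084 : sm ga N2965 = N4186 := rfl
theorem L29085 : sm ga N4186 = N2965 := flp_a L29084
theorem L29086 : sm ge N4186 = N2969 := ded_10_2 L22828 L22804 L29084
theorem L29087 : sm ge N2969 = N4186 := flp_e L29086
theorem L29088 : sm gc N2965 = N4187 := rfl
theorem L29089 : sm gc N4187 = N2965 := flp_c L29088
theorem L29090 : sm ge N4187 = N2970 := ded_19_2 L22832 L22804 L29088
theorem L29091 : sm ge N2970 = N4187 := flp_e L29090
theorem L29092 : sm gg N2965 = N4188 := rfl
theorem L29093 : sm gg N4188 = N2965 := flp_g L29092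
theorem L29094 : sm ge N4188 = N2971 := ded_26_1 L22834 L22804 L29092
theorem L29095 : sm ge N2971 = N4188 := flp_e L29094
theorem L29096 : sm gb N2966 = N4189 := rfl
theorem L29097 : sm gb N4189 = N2966 := flp_b L29096
theorem L29098 : sm ge N4189 = N2972 := ded_15_2 L22838 L22810 L29096
theorem L29099 : sm ge N2972 = N4189 := flp_e L29098
theorem L29100 : sm ga N2967 = N4190 := rfl
theorem L29101 : sm ga N4190 = N2967 := flp_a L29100
theorem L29102 : sm ge N4190 = N2973 := ded_10_2 L22842 L22816 L29100
theorem L29103 : sm ge N2973 = N4190 := flp_e L29102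
theorem L29104 : sm gc N2967 = N4191 := rfl
theorem L29105 : sm gc N4191 = N2967 := flp_c L29104
theorem L29108 : sm gf N2967 = N4192 := rfl
theorem L29109 : sm gf N4192 = N2967 := flp_f L29108
theorem L29110 : sm ge N4192 = N2975 := ded_25_1 L22848 L22816 L29108
theorem L29112 : sm gb N2968 = N4193 := rfl
theorem L29113 : sm gb N4193 = N2968 := flp_b L29112
theorem L29114 : sm ge N4193 = N2976 := ded_15_2 L22852 L22824 L29112
theorem L29115 : sm ge N2976 = N4193 := flp_e L29114
theorem L29116 : sm gb N2969 = N4194 := rfl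
theorem L29117 : sm gb N4194 = N2969 := flp_b L29116
theorem L29118 : sm gd N4194 = N2977 := ded_14_2 L22856 L22830 L29116
theorem L29119 : sm gd N2977 = N4194 := flp_d L29118
theorem L29120 : sm gc N2969 = N4195 := rfl
theorem L29121 : sm gc N4195 = N2969 := flp_c L29120
theorem L29122 : sm ga N4195 = N2970 := ded_8_1 L22832 L22827 L29120
theorem L29123 : sm ga N2970 = N4195 := flp_a L29122
theorem L29124 : sm gg N2969 = N4196 := rfl
theorem L29125 : sm gg N4196 = N2969 := flp_g L29124
theorem L29126 : sm ga N4196 = N2971 := ded_12_1 L22834 L22827 L29124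
theorem L29128 : sm gd N4196 = N2979 := ded_24_1 L22862 L22830 L29124
theorem L29129 : sm gd N2979 = N4196 := flp_d L29128
theorem L29130 : sm gf N4196 = N4167 := ded_29_2 L29011 L29000 L29004 L29124
theorem L29131 : sm gf N4167 = N4196 := flp_f L29130
theorem L29132 : sm gd N2970 = N4197 := rfl
theorem L29133 : sm gd N4197 = N2970 := flp_d L29132
theorem L29134 : sm gg N2970 = N4198 := rfl
theorem L29135 : sm gg N4198 = N2970 := flp_g L29134
theorem L29138 : sm gb N2971 = N4199 := rfl
theorem L29140 : sm gd N4199 = N2982 := ded_14_2 L22876 L22836 L29138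
theorem L29141 : sm gd N2982 = N4199 := flp_d L29140
theorem L29142 : sm gg N4199 = N2972 := ded_17_2 L22838 L19627 L19622 L22833 L29138
theorem L29143 : sm gg N2972 = N4199 := flp_g L29142
theorem L29144 : sm gf N2971 = N4200 := rfl
theorem L29145 : sm gf N4200 = N2971 := flp_f L29144
theorem L29146 : sm ga N4200 = N4167 := ded_11_1 L29131 L29126 L29144
theorem L29147 : sm ga N4167 = N4200 := flp_a L29146
theorem L29148 : sm gd N4200 = N2983 := ded_23_1 L22880 L22836 L29144
theorem L29149 : sm gd N2983 = N4200 := flp_d L29148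
theorem L29150 : sm gg N4200 = N4165 := ded_29_3 L29001 L22749 L22833 L29144
theorem L29151 : sm gg N4165 = N4200 := flp_g L29150
theorem L29152 : sm ga N2972 = N4201 := rfl
theorem L29153 : sm ga N4201 = N2972 := flp_a L29152
theorem L29154 : sm gd N4201 = N2984 := ded_9_2 L22886 L22840 L29152
theorem L29155 : sm gd N2984 = N4201 := flp_d L29154
theorem L29156 : sm gc N2972 = N4202 := rfl
theorem L29157 : sm gc N4202 = N2972 := flp_c L29156
theorem L29158 : sm gb N4202 = N3266 := ded_13_1 L24494 L20378 L19629 L22837 L29156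
theorem L29159 : sm gb N3266 = N4202 := flp_b L29158
theorem L29160 : sm gf N2972 = N4203 := rfl
theorem L29161 : sm gf N4203 = N2972 := flp_f L29160
theorem L29162 : sm gd N4203 = N2985 := ded_23_1 L22888 L22840 L29160
theorem L29163 : sm gd N2985 = N4203 := flp_d L29162
theorem L29166 : sm gb N2973 = N4204 := rfl
theorem L29167 : sm gb N4204 = N2973 := flp_b L29166
theorem L29168 : sm gd N4204 = N2986 := ded_14_2 L22892 L22844 L29166
theorem L29169 : sm gd N2986 = N4204 := flp_d L29168
theorem L29170 : sm gc N2973 = N4205 := rfl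
theorem L29171 : sm gc N4205 = N2973 := flp_c L29170
theorem L29172 : sm ga N4205 = N2974 := ded_8_1 L22846 L22841 L29170
theorem L29173 : sm ga N2974 = N4205 := flp_a L29172
theorem L29174 : sm gf N2973 = N4206 := rfl
theorem L29175 : sm gf N4206 = N2973 := flp_f L29174
theorem L29180 : sm gg N4171 = N4206 := ded_29_1 L29175 L29023 L29019 L29028
theorem L29181 : sm gg N4206 = N4171 := flp_g L29180
theorem L29182 : sm gd N2974 = N4207 := rfl
theorem L29183 : sm gd N4207 = N2974 := flp_d L29182
theorem L29184 : sm gf N2974 = N4208 := rfl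
theorem L29185 : sm gf N4208 = N2974 := flp_f L29184
theorem L29188 : sm gb N2975 = N4209 := rfl
theorem L29190 : sm gd N4209 = N2988 := ded_14_2 L22902 L22850 L29188
theorem L29191 : sm gd N2988 = N4209 := flp_d L29190
theorem L29192 : sm gf N4209 = N2976 := ded_16_2 L22852 L19639 L19634 L22847 L29188
theorem L29193 : sm gf N2976 = N4209 := flp_f L29192
theorem L29202 : sm ga N2976 = N4211 := rfl
theorem L29203 : sm ga N4211 = N2976 := flp_a L29202
theorem L29204 : sm gd N4211 = N2990 := ded_9_2 L22914 L22854 L29202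
theorem L29205 : sm gd N2990 = N4211 := flp_d L29204
theorem L29206 : sm gc N2976 = N4212 := rfl
theorem L29207 : sm gc N4212 = N2976 := flp_c L29206
theorem L29208 : sm gb N4212 = N3256 := ded_13_1 L24446 L20364 L19643 L22851 L29206
theorem L29209 : sm gb N3256 = N4212 := flp_b L29208
theorem L29210 : sm gg N2976 = N4213 := rfl
theorem L29211 : sm gg N4213 = N2976 := flp_g L29210
theorem L29212 : sm gd N4213 = N2991 := ded_24_1 L22916 L22854 L29210
theorem L29213 : sm gd N2991 = N4213 := flp_d L29212
theorem L29214 : sm gb N4213 = N3236 := ded_17_1 L24346 L20316 L19647 L22851 L29210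
theorem L29215 : sm gb N3236 = N4213 := flp_b L29214
theorem L29216 : sm ga N2977 = N4214 := rfl
theorem L29217 : sm ga N4214 = N2977 := flp_a L29216
theorem L29218 : sm gc N2977 = N4215 := rfl
theorem L29219 : sm gc N4215 = N2977 := flp_c L29218
theorem L29220 : sm gf N2977 = N4216 := rfl
theorem L29221 : sm gf N4216 = N2977 := flp_f L29220
theorem L29222 : sm gg N2977 = N4217 := rfl
theorem L29223 : sm gg N4217 = N2977 := flp_g L29222
theorem L29224 : sm gb N2978 = N4218 := rfl
theorem L29225 : sm gb N4218 = N2978 := flp_b L29224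
theorem L29226 : sm gd N2978 = N4219 := rfl
theorem L29227 : sm gd N4219 = N2978 := flp_d L29226
theorem L29230 : sm gg N2978 = N4220 := rfl
theorem L29231 : sm gg N4220 = N2978 := flp_g L29230
theorem L29232 : sm ga N4220 = N2981 := ded_12_1 L22872 L22860 L29230
theorem L29234 : sm gc N4220 = N2979 := ded_21_1 L22862 L22857 L29230
theorem L29235 : sm gc N2979 = N4220 := flp_c L29234
theorem L29236 : sm gf N4220 = N4176 := ded_29_2 L29051 L29041 L29042 L29230
theorem L29237 : sm gf N4176 = N4220 := flp_f L29236
theorem L29238 : sm gb N2979 = N4221 := rfl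
theorem L29239 : sm gb N4221 = N2979 := flp_b L29238
theorem L29240 : sm gc N2980 = N4222 := rfl
theorem L29241 : sm gc N4222 = N2980 := flp_c L29240
theorem L29242 : sm ge N2980 = N4223 := rfl
theorem L29243 : sm ge N4223 = N2980 := flp_e L29242
theorem L29244 : sm gb N4223 = N2994 := ded_15_1 L22930 L22870 L29242
theorem L29246 : sm gg N2980 = N4224 := rfl
theorem L29247 : sm gg N4224 = N2980 := flp_g L29246
theorem L29250 : sm gf N2981 = N4225 := rfl
theorem L29251 : sm gf N4225 = N2981 := flp_f L29250
theorem L29254 : sm gc N4225 = N2983 := ded_20_1 L22880 L22874 L29250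
theorem L29255 : sm gc N2983 = N4225 := flp_c L29254
theorem L29256 : sm gg N4225 = N4174 := ded_29_3 L29040 L22781 L22871 L29250
theorem L29257 : sm gg N4174 = N4225 := flp_g L29256
theorem L29258 : sm ga N2982 = N4226 := rfl
theorem L29259 : sm ga N4226 = N2982 := flp_a L29258
theorem L29260 : sm gg N4226 = N2984 := ded_12_2 L22886 L22878 L29258
theorem L29261 : sm gg N2984 = N4226 := flp_g L29260
theorem L29262 : sm gf N2982 = N4227 := rfl
theorem L29263 : sm gf N4227 = N2982 := flp_f L29262
theorem L29264 : sm gb N2983 = N4228 := rfl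
theorem L29265 : sm gb N4228 = N2983 := flp_b L29264
theorem L29266 : sm gb N2984 = N4229 := rfl
theorem L29267 : sm gb N4229 = N2984 := flp_b L29266
theorem L29268 : sm gf N2984 = N4230 := rfl
theorem L29269 : sm gf N4230 = N2984 := flp_f L29268
theorem L29270 : sm ga N4230 = N2985 := ded_11_1 L22888 L22885 L29268
theorem L29271 : sm ga N2985 = N4230 := flp_a L29270
theorem L29272 : sm gg N4227 = N4230 := ded_29_1 L29269 L29261 L29259 L29262
theorem L29274 : sm gg N2985 = N4231 := rfl
theorem L29275 : sm gg N4231 = N2985 := flp_g L29274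
theorem L29276 : sm ga N4231 = N4227 := ded_12_1 L29272 L29270 L29274
theorem L29278 : sm gf N4226 = N4231 := ded_29_0 L29275 L22888 L22878 L29258
theorem L29279 : sm gf N4231 = N4226 := flp_f L29278
theorem L29280 : sm ga N2986 = N4232 := rfl
theorem L29281 : sm ga N4232 = N2986 := flp_a L29280
theorem L29282 : sm gc N2986 = N4233 := rfl
theorem L29283 : sm gc N4233 = N2986 := flp_c L29282
theorem L29284 : sm gb N4233 = N3443 := ded_13_1 L25460 L20863 L19661 L22891 L29282
theorem L29286 : sm gf N2986 = N4234 := rfl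
theorem L29287 : sm gf N4234 = N2986 := flp_f L29286
theorem L29288 : sm gg N2986 = N4235 := rfl
theorem L29289 : sm gg N4235 = N2986 := flp_g L29288
theorem L29290 : sm gb N2987 = N4236 := rfl
theorem L29291 : sm gb N4236 = N2987 := flp_b L29290
theorem L29292 : sm ga N2988 = N4237 := rfl
theorem L29293 : sm ga N4237 = N2988 := flp_a L29292
theorem L29294 : sm gf N4237 = N2990 := ded_11_2 L22914 L22904 L29292
theorem L29295 : sm gf N2990 = N4237 := flp_f L29294
theorem L29296 : sm gg N2988 = N4238 := rfl
theorem L29297 : sm gg N4238 = N2988 := flp_g L29296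
theorem L29298 : sm gb N2989 = N4239 := rfl
theorem L29299 : sm gb N4239 = N2989 := flp_b L29298
theorem L29300 : sm gb N2990 = N4240 := rfl
theorem L29301 : sm gb N4240 = N2990 := flp_b L29300
theorem L29302 : sm gg N2990 = N4241 := rfl
theorem L29306 : sm gf N4241 = N4238 := ded_29_2 L29297 L29292 L29294 L29302
theorem L29308 : sm gf N2991 = N4242 := rfl
theorem L29309 : sm gf N4242 = N2991 := flp_f L29308
theorem L29312 : sm gg N4242 = N4237 := ded_29_3 L29293 L22903 L22915 L29308
theorem L29314 : sm ga N2992 = N4243 := rfl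
theorem L29315 : sm ga N4243 = N2992 := flp_a L29314
theorem L29316 : sm gd N2992 = N4244 := rfl
theorem L29317 : sm gd N4244 = N2992 := flp_d L29316
theorem L29318 : sm gb N4244 = N2993 := ded_14_1 L22922 L22919 L29316
theorem L29319 : sm gb N2993 = N4244 := flp_b L29318
theorem L29320 : sm gf N2992 = N4245 := rfl
theorem L29321 : sm gf N4245 = N2992 := flp_f L29320
theorem L29322 : sm gb N4245 = N3091 := ded_16_1 L23412 L19907 L19673 L22919 L29320
theorem L29323 : sm gb N3091 = N4245 := flp_b L29322
theorem L29324 : sm gg N2992 = N4246 := rfl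
theorem L29325 : sm gg N4246 = N2992 := flp_g L29324
theorem L29326 : sm ge N2993 = N4247 := rfl
theorem L29327 : sm ge N4247 = N2993 := flp_e L29326
theorem L29328 : sm ga N4247 = N2994 := ded_10_1 L22930 L22924 L29326
theorem L29329 : sm ga N2994 = N4247 := flp_a L29328
theorem L29330 : sm gc N4247 = N3933 := ded_19_1 L27764 L22927 L29326
theorem L29331 : sm gc N3933 = N4247 := flp_c L29330
theorem L29332 : sm gf N4247 = N3093 := ded_25_2 L23420 L22926 L29326
theorem L29333 : sm gf N3093 = N4247 := flp_f L29332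
theorem L29334 : sm gb N2996 = N4248 := rfl
theorem L29335 : sm gb N4248 = N2996 := flp_b L29334
theorem L29336 : sm ge N4248 = N3076 := ded_15_2 L23336 L22944 L29334
theorem L29337 : sm ge N3076 = N4248 := flp_e L29336
theorem L29338 : sm gb N2997 = N4249 := rfl
theorem L29339 : sm gb N4249 = N2997 := flp_b L29338
theorem L29340 : sm ge N4249 = N3053 := ded_15_2 L23246 L22952 L29338
theorem L29341 : sm ge N3053 = N4249 := flp_e L29340
theorem L29342 : sm gb N2998 = N4250 := rfl
theorem L29343 : sm gb N4250 = N2998 := flp_b L29342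
theorem L29344 : sm ge N4250 = N3080 := ded_15_2 L23356 L22958 L29342
theorem L29345 : sm ge N3080 = N4250 := flp_e L29344
theorem L29346 : sm gb N2999 = N4251 := rfl
theorem L29347 : sm gb N4251 = N2999 := flp_b L29346
theorem L29348 : sm ge N4251 = N3054 := ded_15_2 L23250 L22968 L29346
theorem L29349 : sm ge N3054 = N4251 := flp_e L29348
theorem L29350 : sm gf N4251 = N3017 := ded_16_2 L23086 L19753 L19697 L22961 L29346
theorem L29351 : sm gf N3017 = N4251 := flp_f L29350
theorem L29352 : sm gf N3000 = N4252 := rfl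
theorem L29353 : sm gf N4252 = N3000 := flp_f L29352
theorem L29354 : sm gc N4252 = N3129 := ded_20_1 L23634 L22978 L29352
theorem L29355 : sm gc N3129 = N4252 := flp_c L29354
theorem L29356 : sm gd N4252 = N3001 := ded_23_1 L22980 L22971 L29352
theorem L29357 : sm gd N3001 = N4252 := flp_d L29356
theorem L29358 : sm ge N4252 = N3127 := ded_25_1 L23622 L22976 L29352
theorem L29359 : sm ge N3127 = N4252 := flp_e L29358
theorem L29360 : sm gg N3000 = N4253 := rfl
theorem L29366 : sm ge N4253 = N3128 := ded_26_1 L23628 L22976 L29360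
theorem L29367 : sm ge N3128 = N4253 := flp_e L29366
theorem L29368 : sm gb N3001 = N4254 := rfl
theorem L29369 : sm gb N4254 = N3001 := flp_b L29368
theorem L29370 : sm ge N4254 = N3035 := ded_15_2 L23188 L22982 L29368
theorem L29371 : sm ge N3035 = N4254 := flp_e L29370
theorem L29372 : sm gf N4254 = N3005 := ded_16_2 L23008 L19711 L19698 L22979 L29368
theorem L29373 : sm gf N3005 = N4254 := flp_f L29372
theorem L29374 : sm gg N3001 = N4255 := rfl
theorem L29375 : sm gg N4255 = N3001 := flp_g L29374
theorem L29376 : sm gc N4255 = N3038 := ded_21_1 L23203 L23159 L29374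
theorem L29380 : sm gf N3034 = N4255 := ded_29_0 L29375 L22980 L22983 L23182
theorem L29382 : sm gb N3002 = N4256 := rfl
theorem L29383 : sm gb N4256 = N3002 := flp_b L29382
theorem L29384 : sm ge N4256 = N3037 := ded_15_2 L23196 L22986 L29382
theorem L29385 : sm ge N3037 = N4256 := flp_e L29384
theorem L29386 : sm gg N4256 = N3006 := ded_17_2 L23012 L19717 L19698 L22983 L29382
theorem L29387 : sm gg N3006 = N4256 := flp_g L29386
theorem L29388 : sm gf N3002 = N4257 := rfl
theorem L29389 : sm gf N4257 = N3002 := flp_f L29388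
theorem L29392 : sm gc N4257 = N3036 := ded_20_1 L23194 L23165 L29388
theorem L29394 : sm ge N4257 = N3038 := ded_25_1 L23200 L22986 L29388
theorem L29395 : sm ge N3038 = N4257 := flp_e L29394
theorem L29396 : sm gg N4257 = N3033 := ded_29_3 L23173 L22980 L22983 L29388
theorem L29397 : sm gg N3033 = N4257 := flp_g L29396
theorem L29398 : sm gb N3003 = N4258 := rfl
theorem L29399 : sm gb N4258 = N3003 := flp_b L29398
theorem L29400 : sm gd N4258 = N3005 := ded_14_2 L23008 L22994 L29398
theorem L29401 : sm gd N3005 = N4258 := flp_d L29400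
theorem L29402 : sm ge N4258 = N3982 := ded_15_2 L27968 L22996 L29398
theorem L29403 : sm ge N3982 = N4258 := flp_e L29402
theorem L29404 : sm gb N3004 = N4259 := rfl
theorem L29405 : sm gb N4259 = N3004 := flp_b L29404
theorem L29406 : sm gd N4259 = N3006 := ded_14_2 L23012 L23004 L29404
theorem L29407 : sm gd N3006 = N4259 := flp_d L29406
theorem L29408 : sm ge N4259 = N3983 := ded_15_2 L27972 L23006 L29404
theorem L29409 : sm ge N3983 = N4259 := flp_e L29408
theorem L29410 : sm ga N3005 = N4260 := rfl
theorem L29411 : sm ga N4260 = N3005 := flp_a L29410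
theorem L29412 : sm ge N4260 = N3039 := ded_10_2 L23206 L23010 L29410
theorem L29413 : sm ge N3039 = N4260 := flp_e L29412
theorem L29414 : sm gc N3005 = N4261 := rfl
theorem L29415 : sm gc N4261 = N3005 := flp_c L29414
theorem L29416 : sm ge N4261 = N3040 := ded_19_2 L23208 L23010 L29414
theorem L29417 : sm ge N3040 = N4261 := flp_e L29416
theorem L29418 : sm gg N3005 = N4262 := rfl
theorem L29419 : sm gg N4262 = N3005 := flp_g L29418
theorem L29420 : sm ge N4262 = N3041 := ded_26_1 L23210 L23010 L29418
theorem L29421 : sm ge N3041 = N4262 := flp_e L29420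
theorem L29422 : sm ga N3006 = N4263 := rfl
theorem L29423 : sm ga N4263 = N3006 := flp_a L29422
theorem L29424 : sm ge N4263 = N3042 := ded_10_2 L23212 L23014 L29422
theorem L29425 : sm ge N3042 = N4263 := flp_e L29424
theorem L29426 : sm gc N3006 = N4264 := rfl
theorem L29427 : sm gc N4264 = N3006 := flp_c L29426
theorem L29428 : sm ge N4264 = N3043 := ded_19_2 L23214 L23014 L29426
theorem L29429 : sm ge N3043 = N4264 := flp_e L29428
theorem L29430 : sm gf N3006 = N4265 := rfl
theorem L29431 : sm gf N4265 = N3006 := flp_f L29430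
theorem L29432 : sm ge N4265 = N3044 := ded_25_1 L23216 L23014 L29430
theorem L29433 : sm ge N3044 = N4265 := flp_e L29432
theorem L29434 : sm gc N3007 = N4266 := rfl
theorem L29435 : sm gc N4266 = N3007 := flp_c L29434
theorem L29436 : sm ga N4266 = N4107 := ded_8_1 L28673 L23018 L29434
theorem L29437 : sm ga N4107 = N4266 := flp_a L29436
theorem L29438 : sm ge N4266 = N4102 := ded_19_2 L28646 L23022 L29434
theorem L29439 : sm ge N4102 = N4266 := flp_e L29438
theorem L29440 : sm gb N4266 = N3355 := ded_13_1 L25072 L20702 L20708 L23020 L29434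
theorem L29441 : sm gb N3355 = N4266 := flp_b L29440
theorem L29442 : sm gd N4266 = N4102 := ded_28_7 L28647 L22601 L19498 L8722 L9259 L19722 L23015 L29434
theorem L29443 : sm gd N4102 = N4266 := flp_d L29442
theorem L29444 : sm gf N3007 = N4267 := rfl
theorem L29445 : sm gf N4267 = N3007 := flp_f L29444
theorem L29446 : sm ga N4267 = N4110 := ded_11_1 L28685 L23018 L29444
theorem L29450 : sm ge N4267 = N4103 := ded_25_1 L28650 L23022 L29444
theorem L29451 : sm ge N4103 = N4267 := flp_e L29450
theorem L29452 : sm gg N3007 = N4268 := rfl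
theorem L29453 : sm gg N4268 = N3007 := flp_g L29452
theorem L29454 : sm ga N4268 = N4111 := ded_12_1 L28691 L23018 L29452
theorem L29455 : sm ga N4111 = N4268 := flp_a L29454
theorem L29456 : sm gd N4268 = N3009 := ded_24_1 L23032 L23015 L29452
theorem L29457 : sm gd N3009 = N4268 := flp_d L29456
theorem L29458 : sm ge N4268 = N4104 := ded_26_1 L28656 L23022 L29452
theorem L29459 : sm ge N4104 = N4268 := flp_e L29458
theorem L29460 : sm gb N3008 = N4269 := rfl
theorem L29461 : sm gb N4269 = N3008 := flp_b L29460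
theorem L29462 : sm ge N4269 = N3992 := ded_15_2 L28020 L23030 L29460
theorem L29463 : sm ge N3992 = N4269 := flp_e L29462
theorem L29464 : sm gb N3009 = N4270 := rfl
theorem L29465 : sm gb N4270 = N3009 := flp_b L29464
theorem L29468 : sm ga N3010 = N4271 := rfl
theorem L29469 : sm ga N4271 = N3010 := flp_a L29468
theorem L29470 : sm gd N4271 = N3013 := ded_9_2 L23066 L23042 L29468
theorem L29471 : sm gd N3013 = N4271 := flp_d L29470
theorem L29472 : sm ge N4271 = N3994 := ded_10_2 L28028 L23044 L29468
theorem L29473 : sm ge N3994 = N4271 := flp_e L29472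
theorem L29474 : sm gf N4271 = N3018 := ded_11_2 L23090 L23046 L29468
theorem L29475 : sm gf N3018 = N4271 := flp_f L29474
theorem L29476 : sm gc N3010 = N4272 := rfl
theorem L29477 : sm gc N4272 = N3010 := flp_c L29476
theorem L29480 : sm gf N4272 = N3019 := ded_20_2 L23096 L23046 L29476
theorem L29482 : sm gg N3010 = N4273 := rfl
theorem L29483 : sm gg N4273 = N3010 := flp_g L29482
theorem L29484 : sm gd N4273 = N3015 := ded_24_1 L23078 L23042 L29482
theorem L29485 : sm gd N3015 = N4273 := flp_d L29484
theorem L29486 : sm ge N4273 = N3996 := ded_26_1 L28038 L23044 L29482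
theorem L29487 : sm ge N3996 = N4273 := flp_e L29486
theorem L29488 : sm gb N3011 = N4274 := rfl
theorem L29489 : sm gb N4274 = N3011 := flp_b L29488
theorem L29490 : sm gd N4274 = N3016 := ded_14_2 L23082 L23050 L29488
theorem L29491 : sm gd N3016 = N4274 := flp_d L29490
theorem L29492 : sm ge N4274 = N3997 := ded_15_2 L28042 L23052 L29488
theorem L29493 : sm ge N3997 = N4274 := flp_e L29492
theorem L29494 : sm gb N3012 = N4275 := rfl
theorem L29495 : sm gb N4275 = N3012 := flp_b L29494
theorem L29498 : sm ge N4275 = N3998 := ded_15_2 L28046 L23062 L29494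
theorem L29499 : sm ge N3998 = N4275 := flp_e L29498
theorem L29500 : sm gb N3013 = N4276 := rfl
theorem L29501 : sm gb N4276 = N3013 := flp_b L29500
theorem L29502 : sm ge N4276 = N3045 := ded_15_2 L23218 L23068 L29500
theorem L29503 : sm ge N3045 = N4276 := flp_e L29502
theorem L29504 : sm gc N3013 = N4277 := rfl
theorem L29505 : sm gc N4277 = N3013 := flp_c L29504
theorem L29506 : sm ga N4277 = N3014 := ded_8_1 L23072 L23065 L29504
theorem L29507 : sm ga N3014 = N4277 := flp_a L29506
theorem L29508 : sm ge N4277 = N3046 := ded_19_2 L23220 L23068 L29504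
theorem L29509 : sm ge N3046 = N4277 := flp_e L29508
theorem L29510 : sm gf N4277 = N3022 := ded_20_2 L23110 L23070 L29504
theorem L29511 : sm gf N3022 = N4277 := flp_f L29510
theorem L29512 : sm gd N3014 = N4278 := rfl
theorem L29513 : sm gd N4278 = N3014 := flp_d L29512
theorem L29514 : sm gf N4278 = N3024 := ded_23_2 L23124 L23076 L29512
theorem L29515 : sm gf N3024 = N4278 := flp_f L29514
theorem L29516 : sm gg N3014 = N4279 := rfl
theorem L29517 : sm gg N4279 = N3014 := flp_g L29516
theorem L29520 : sm ge N4279 = N3048 := ded_26_1 L23230 L23074 L29516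
theorem L29522 : sm gb N3015 = N4280 := rfl
theorem L29523 : sm gb N4280 = N3015 := flp_b L29522
theorem L29524 : sm ge N4280 = N3049 := ded_15_2 L23234 L23080 L29522
theorem L29525 : sm ge N3049 = N4280 := flp_e L29524
theorem L29526 : sm gg N4280 = N3016 := ded_17_2 L23082 L19747 L19740 L23077 L29522
theorem L29527 : sm gg N3016 = N4280 := flp_g L29526
theorem L29528 : sm ga N3016 = N4281 := rfl
theorem L29529 : sm ga N4281 = N3016 := flp_a L29528
theorem L29530 : sm ge N4281 = N3050 := ded_10_2 L23238 L23084 L29528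
theorem L29531 : sm ge N3050 = N4281 := flp_e L29530
theorem L29542 : sm ga N3017 = N4284 := rfl
theorem L29543 : sm ga N4284 = N3017 := flp_a L29542
theorem L29544 : sm ge N4284 = N3055 := ded_10_2 L23256 L23088 L29542
theorem L29545 : sm ge N3055 = N4284 := flp_e L29544
theorem L29546 : sm gc N3017 = N4285 := rfl
theorem L29547 : sm gc N4285 = N3017 := flp_c L29546
theorem L29548 : sm ge N4285 = N3056 := ded_19_2 L23258 L23088 L29546
theorem L29549 : sm ge N3056 = N4285 := flp_e L29548
theorem L29550 : sm gg N3017 = N4286 := rfl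
theorem L29551 : sm gg N4286 = N3017 := flp_g L29550
theorem L29552 : sm ge N4286 = N3057 := ded_26_1 L23260 L23088 L29550
theorem L29553 : sm ge N3057 = N4286 := flp_e L29552
theorem L29554 : sm gb N4286 = N4262 := ded_17_1 L29419 L23008 L19759 L23085 L29550
theorem L29555 : sm gb N4262 = N4286 := flp_b L29554
theorem L29556 : sm gb N3018 = N4287 := rfl
theorem L29557 : sm gb N4287 = N3018 := flp_b L29556
theorem L29558 : sm gd N4287 = N3021 := ded_14_2 L23106 L23092 L29556
theorem L29559 : sm gd N3021 = N4287 := flp_d L29558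
theorem L29560 : sm ge N4287 = N4015 := ded_15_2 L28154 L23094 L29556
theorem L29561 : sm ge N4015 = N4287 := flp_e L29560
theorem L29562 : sm gc N3018 = N4288 := rfl
theorem L29563 : sm gc N4288 = N3018 := flp_c L29562
theorem L29564 : sm ga N4288 = N3019 := ded_8_1 L23096 L23089 L29562
theorem L29565 : sm ga N3019 = N4288 := flp_a L29564
theorem L29566 : sm ge N4288 = N4016 := ded_19_2 L28158 L23094 L29562
theorem L29567 : sm ge N4016 = N4288 := flp_e L29566
theorem L29568 : sm gg N3018 = N4289 := rfl
theorem L29569 : sm gg N4289 = N3018 := flp_g L29568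
theorem L29570 : sm ga N4289 = N3020 := ded_12_1 L23100 L23089 L29568
theorem L29571 : sm ga N3020 = N4289 := flp_a L29570
theorem L29572 : sm gd N4289 = N3023 := ded_24_1 L23116 L23092 L29568
theorem L29573 : sm gd N3023 = N4289 := flp_d L29572
theorem L29574 : sm ge N4289 = N4017 := ded_26_1 L28162 L23094 L29568
theorem L29575 : sm ge N4017 = N4289 := flp_e L29574
theorem L29576 : sm gf N4289 = N4273 := ded_29_2 L29483 L29468 L29474 L29568
theorem L29577 : sm gf N4273 = N4289 := flp_f L29576
theorem L29578 : sm gd N3019 = N4290 := rfl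
theorem L29579 : sm gd N4290 = N3019 := flp_d L29578
theorem L29580 : sm gg N3019 = N4291 := rfl
theorem L29582 : sm gc N4291 = N3020 := ded_21_1 L23100 L23095 L29580
theorem L29583 : sm gc N3020 = N4291 := flp_c L29582
theorem L29584 : sm ge N4291 = N4019 := ded_26_1 L28172 L23098 L29580
theorem L29585 : sm ge N4019 = N4291 := flp_e L29584
theorem L29586 : sm gf N3020 = N4292 := rfl
theorem L29587 : sm gf N4292 = N3020 := flp_f L29586
theorem L29588 : sm ga N4292 = N4273 := ded_11_1 L29577 L29570 L29586
theorem L29590 : sm gd N4292 = N3026 := ded_23_1 L23134 L23102 L29586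
theorem L29594 : sm gg N4292 = N4271 := ded_29_3 L29469 L23045 L23099 L29586
theorem L29596 : sm ga N3021 = N4293 := rfl
theorem L29597 : sm ga N4293 = N3021 := flp_a L29596
theorem L29598 : sm ge N4293 = N3058 := ded_10_2 L23264 L23108 L29596
theorem L29599 : sm ge N3058 = N4293 := flp_e L29598
theorem L29600 : sm gb N4293 = N4021 := ded_7_2 L28184 L22242 L19357 L7755 L17737 L9275 L19766 L23105 L29596
theorem L29602 : sm gc N3021 = N4294 := rfl
theorem L29603 : sm gc N4294 = N3021 := flp_c L29602
theorem L29604 : sm ge N4294 = N3059 := ded_19_2 L23266 L23108 L29602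
theorem L29605 : sm ge N3059 = N4294 := flp_e L29604
theorem L29606 : sm gf N3021 = N4295 := rfl
theorem L29607 : sm gf N4295 = N3021 := flp_f L29606
theorem L29610 : sm gg N3021 = N4296 := rfl
theorem L29611 : sm gg N4296 = N3021 := flp_g L29610
theorem L29612 : sm ge N4296 = N3061 := ded_26_1 L23270 L23108 L29610
theorem L29613 : sm ge N3061 = N4296 := flp_e L29612
theorem L29614 : sm gb N3022 = N4297 := rfl
theorem L29615 : sm gb N4297 = N3022 := flp_b L29614
theorem L29616 : sm ge N4297 = N3062 := ded_15_2 L23272 L23114 L29614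
theorem L29617 : sm ge N3062 = N4297 := flp_e L29616
theorem L29618 : sm gd N3022 = N4298 := rfl
theorem L29619 : sm gd N4298 = N3022 := flp_d L29618
theorem L29620 : sm ga N4298 = N3024 := ded_9_1 L23124 L23112 L29618
theorem L29621 : sm ga N3024 = N4298 := flp_a L29620
theorem L29622 : sm gg N3022 = N4299 := rfl
theorem L29623 : sm gg N4299 = N3022 := flp_g L29622
theorem L29624 : sm ga N4299 = N3025 := ded_12_1 L23128 L23112 L29622
theorem L29625 : sm ga N3025 = N4299 := flp_a L29624
theorem L29626 : sm gc N4299 = N3023 := ded_21_1 L23116 L23109 L29622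
theorem L29627 : sm gc N3023 = N4299 := flp_c L29626
theorem L29628 : sm ge N4299 = N3064 := ded_26_1 L23280 L23114 L29622
theorem L29629 : sm ge N3064 = N4299 := flp_e L29628
theorem L29630 : sm gf N4299 = N4279 := ded_29_2 L29517 L29507 L29510 L29622
theorem L29631 : sm gf N4279 = N4299 := flp_f L29630
theorem L29632 : sm gb N3023 = N4300 := rfl
theorem L29633 : sm gb N4300 = N3023 := flp_b L29632
theorem L29634 : sm ge N4300 = N3065 := ded_15_2 L23288 L23120 L29632
theorem L29635 : sm ge N3065 = N4300 := flp_e L29634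
theorem L29636 : sm gc N3024 = N4301 := rfl
theorem L29637 : sm gc N4301 = N3024 := flp_c L29636
theorem L29638 : sm ge N3024 = N4302 := rfl
theorem L29639 : sm ge N4302 = N3024 := flp_e L29638
theorem L29640 : sm gb N4302 = N3027 := ded_15_1 L23142 L23126 L29638
theorem L29641 : sm gb N3027 = N4302 := flp_b L29640
theorem L29642 : sm gd N4302 = N3067 := ded_22_1 L23296 L19841 L19773 L23123 L29638
theorem L29643 : sm gd N3067 = N4302 := flp_d L29642
theorem L29644 : sm gg N3024 = N4303 := rfl
theorem L29645 : sm gg N4303 = N3024 := flp_g L29644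
theorem L29646 : sm gd N4303 = N3025 := ded_24_1 L23128 L23123 L29644
theorem L29647 : sm gd N3025 = N4303 := flp_d L29646
theorem L29648 : sm gf N3025 = N4304 := rfl
theorem L29649 : sm gf N4304 = N3025 := flp_f L29648
theorem L29650 : sm ga N4304 = N4279 := ded_11_1 L29631 L29624 L29648
theorem L29651 : sm ga N4279 = N4304 := flp_a L29650
theorem L29652 : sm gc N4304 = N3026 := ded_20_1 L23134 L23130 L29648
theorem L29653 : sm gc N3026 = N4304 := flp_c L29652
theorem L29654 : sm ge N4304 = N3070 := ded_25_1 L23308 L23132 L29648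
theorem L29655 : sm ge N3070 = N4304 := flp_e L29654
theorem L29656 : sm gg N4304 = N4277 := ded_29_3 L29506 L23075 L23127 L29648
theorem L29657 : sm gg N4277 = N4304 := flp_g L29656
theorem L29658 : sm gb N3026 = N4305 := rfl
theorem L29659 : sm gb N4305 = N3026 := flp_b L29658
theorem L29660 : sm ge N4305 = N3071 := ded_15_2 L23316 L23138 L29658
theorem L29661 : sm ge N3071 = N4305 := flp_e L29660
theorem L29662 : sm ga N3028 = N4306 := rfl
theorem L29663 : sm ga N4306 = N3028 := flp_a L29662
theorem L29664 : sm gd N3028 = N4307 := rfl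
theorem L29665 : sm gd N4307 = N3028 := flp_d L29664
theorem L29666 : sm gb N4307 = N3029 := ded_14_1 L23148 L23145 L29664
theorem L29667 : sm gb N3029 = N4307 := flp_b L29666
theorem L29668 : sm gf N3028 = N4308 := rfl
theorem L29669 : sm gf N4308 = N3028 := flp_f L29668
theorem L29670 : sm gg N3028 = N4309 := rfl
theorem L29671 : sm gg N4309 = N3028 := flp_g L29670
theorem L29674 : sm ge N3029 = N4310 := rfl
theorem L29675 : sm ge N4310 = N3029 := flp_e L29674
theorem L29676 : sm ga N4310 = N3970 := ded_10_1 L27895 L23150 L29674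
theorem L29677 : sm ga N3970 = N4310 := flp_a L29676
theorem L29678 : sm gc N4310 = N3096 := ded_19_1 L23443 L23153 L29674
theorem L29679 : sm gc N3096 = N4310 := flp_c L29678
theorem L29680 : sm gg N4310 = N3095 := ded_26_2 L23432 L23152 L29674
theorem L29681 : sm gg N3095 = N4310 := flp_g L29680
theorem L29682 : sm gb N3030 = N4311 := rfl
theorem L29683 : sm gb N4311 = N3030 := flp_b L29682
theorem L29684 : sm gb N3031 = N4312 := rfl
theorem L29685 : sm gb N4312 = N3031 := flp_b L29684
theorem L29686 : sm gf N3032 = N4313 := rfl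
theorem L29687 : sm gf N4313 = N3032 := flp_f L29686
theorem L29688 : sm ga N4313 = N4252 := ded_11_1 L29353 L23170 L29686
theorem L29689 : sm ga N4252 = N4313 := flp_a L29688
theorem L29690 : sm gd N4313 = N3033 := ded_23_1 L23172 L23167 L29686
theorem L29691 : sm gd N3033 = N4313 := flp_d L29690
theorem L29692 : sm gg N3032 = N4314 := rfl
theorem L29693 : sm gg N4314 = N3032 := flp_g L29692
theorem L29696 : sm gd N4314 = N3034 := ded_24_1 L23180 L23167 L29692
theorem L29697 : sm gd N3034 = N4314 := flp_d L29696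
theorem L29698 : sm gb N3033 = N4315 := rfl
theorem L29699 : sm gb N4315 = N3033 := flp_b L29698
theorem L29700 : sm ge N4315 = N4311 := ded_15_2 L29683 L23178 L29698
theorem L29701 : sm ge N4311 = N4315 := flp_e L29700
theorem L29702 : sm gb N3034 = N4316 := rfl
theorem L29703 : sm gb N4316 = N3034 := flp_b L29702
theorem L29704 : sm ge N4316 = N4312 := ded_15_2 L29685 L23186 L29702
theorem L29705 : sm ge N4312 = N4316 := flp_e L29704
theorem L29706 : sm ga N3035 = N4317 := rfl
theorem L29707 : sm ga N4317 = N3035 := flp_a L29706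
theorem L29708 : sm gf N4317 = N3039 := ded_11_2 L23206 L23190 L29706
theorem L29709 : sm gf N3039 = N4317 := flp_f L29708
theorem L29710 : sm gc N4317 = N3942 := ded_30_1 L27794 L22030 L19236 L19250 L19252 L19261 L19487 L19481 L8637 L4216 L2141 L2138 L4399 L8867 L19566 L19570 L19796 L23205 L29709
theorem L29711 : sm gc N3942 = N4317 := flp_c L29710
theorem L29712 : sm gc N3035 = N4318 := rfl
theorem L29713 : sm gc N4318 = N3035 := flp_c L29712
theorem L29714 : sm ga N4318 = N3942 := ded_8_1 L29711 L29707 L29712
theorem L29715 : sm ga N3942 = N4318 := flp_a L29714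
theorem L29716 : sm gf N4318 = N3040 := ded_20_2 L23208 L23190 L29712
theorem L29717 : sm gf N3040 = N4318 := flp_f L29716
theorem L29718 : sm gg N3035 = N4319 := rfl
theorem L29719 : sm gg N4319 = N3035 := flp_g L29718
theorem L29720 : sm gb N3036 = N4320 := rfl
theorem L29721 : sm gb N4320 = N3036 := flp_b L29720
theorem L29722 : sm ga N3037 = N4321 := rfl
theorem L29723 : sm ga N4321 = N3037 := flp_a L29722
theorem L29724 : sm gg N4321 = N3042 := ded_12_2 L23212 L23198 L29722
theorem L29725 : sm gg N3042 = N4321 := flp_g L29724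
theorem L29726 : sm gc N3037 = N4322 := rfl
theorem L29727 : sm gc N4322 = N3037 := flp_c L29726
theorem L29728 : sm gg N4322 = N3043 := ded_21_2 L23214 L23198 L29726
theorem L29729 : sm gg N3043 = N4322 := flp_g L29728
theorem L29730 : sm gf N3037 = N4323 := rfl
theorem L29731 : sm gf N4323 = N3037 := flp_f L29730
theorem L29732 : sm gb N3038 = N4324 := rfl
theorem L29733 : sm gb N4324 = N3038 := flp_b L29732
theorem L29734 : sm gb N3039 = N4325 := rfl
theorem L29735 : sm gb N4325 = N3039 := flp_b L29734
theorem L29736 : sm gc N3039 = N4326 := rfl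
theorem L29737 : sm gc N4326 = N3039 := flp_c L29736
theorem L29738 : sm ga N4326 = N3040 := ded_8_1 L23208 L23205 L29736
theorem L29739 : sm ga N3040 = N4326 := flp_a L29738
theorem L29740 : sm gf N4326 = N3942 := ded_20_2 L29711 L29708 L29736
theorem L29741 : sm gf N3942 = N4326 := flp_f L29740
theorem L29742 : sm gb N3955 = N4326 := ded_16_5 L29740 L27794 L22031 L22045 L27837
theorem L29743 : sm gb N4326 = N3955 := flp_b L29742
theorem L29744 : sm gg N3039 = N4327 := rfl
theorem L29745 : sm gg N4327 = N3039 := flp_g L29744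
theorem L29746 : sm ga N4327 = N3041 := ded_12_1 L23210 L23205 L29744
theorem L29748 : sm gf N4327 = N4319 := ded_29_2 L29719 L29706 L29708 L29744
theorem L29749 : sm gf N4319 = N4327 := flp_f L29748
theorem L29750 : sm gd N3040 = N4328 := rfl
theorem L29751 : sm gd N4328 = N3040 := flp_d L29750
theorem L29752 : sm gg N3040 = N4329 := rfl
theorem L29753 : sm gg N4329 = N3040 := flp_g L29752
theorem L29754 : sm gc N4329 = N3041 := ded_21_1 L23210 L23207 L29752
theorem L29756 : sm gf N3041 = N4330 := rfl
theorem L29757 : sm gf N4330 = N3041 := flp_f L29756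
theorem L29758 : sm ga N4330 = N4319 := ded_11_1 L29749 L29746 L29756
theorem L29759 : sm ga N4319 = N4330 := flp_a L29758
theorem L29760 : sm gg N4330 = N4317 := ded_29_3 L29707 L23189 L23209 L29756
theorem L29761 : sm gg N4317 = N4330 := flp_g L29760
theorem L29762 : sm gb N3042 = N4331 := rfl
theorem L29763 : sm gb N4331 = N3042 := flp_b L29762
theorem L29764 : sm gc N3042 = N4332 := rfl
theorem L29765 : sm gc N4332 = N3042 := flp_c L29764
theorem L29768 : sm gf N3042 = N4333 := rfl
theorem L29769 : sm gf N4333 = N3042 := flp_f L29768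
theorem L29770 : sm ga N4333 = N3044 := ded_11_1 L23216 L23211 L29768
theorem L29771 : sm ga N3044 = N4333 := flp_a L29770
theorem L29772 : sm gg N4323 = N4333 := ded_29_1 L29769 L29725 L29723 L29730
theorem L29773 : sm gg N4333 = N4323 := flp_g L29772
theorem L29776 : sm gf N3043 = N4335 := rfl
theorem L29777 : sm gf N4335 = N3043 := flp_f L29776
theorem L29780 : sm gg N3044 = N4336 := rfl
theorem L29781 : sm gg N4336 = N3044 := flp_g L29780
theorem L29782 : sm ga N4336 = N4323 := ded_12_1 L29772 L29770 L29780
theorem L29783 : sm ga N4323 = N4336 := flp_a L29782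
theorem L29784 : sm gf N4321 = N4336 := ded_29_0 L29781 L23216 L23198 L29722
theorem L29785 : sm gf N4336 = N4321 := flp_f L29784
theorem L29786 : sm ga N3045 = N4337 := rfl
theorem L29787 : sm ga N4337 = N3045 := flp_a L29786
theorem L29788 : sm gc N3045 = N4338 := rfl
theorem L29789 : sm gc N4338 = N3045 := flp_c L29788
theorem L29790 : sm gf N3045 = N4339 := rfl
theorem L29791 : sm gf N4339 = N3045 := flp_f L29790
theorem L29792 : sm gb N4339 = N3060 := ded_16_1 L23268 L19829 L19803 L23217 L29790
theorem L29794 : sm gg N3045 = N4340 := rfl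
theorem L29795 : sm gg N4340 = N3045 := flp_g L29794
theorem L29796 : sm gb N3046 = N4341 := rfl
theorem L29797 : sm gb N4341 = N3046 := flp_b L29796
theorem L29798 : sm gd N3046 = N4342 := rfl
theorem L29799 : sm gd N4342 = N3046 := flp_d L29798
theorem L29800 : sm ga N4342 = N3047 := ded_9_1 L23226 L23222 L29798
theorem L29801 : sm ga N3047 = N4342 := flp_a L29800
theorem L29802 : sm gf N4342 = N3063 := ded_23_2 L23274 L23224 L29798
theorem L29804 : sm gc N4342 = N3563 := ded_28_6 L26004 L26000 L25998 L21154 L21190 L21197 L23219 L29798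
theorem L29805 : sm gc N3563 = N4342 := flp_c L29804
theorem L29806 : sm gc N3047 = N4343 := rfl
theorem L29807 : sm gc N4343 = N3047 := flp_c L29806
theorem L29808 : sm ga N4343 = N3563 := ded_8_1 L29805 L29800 L29806
theorem L29812 : sm gd N4343 = N3562 := ded_28_7 L25999 L21159 L18767 L18795 L18802 L19804 L23225 L29806
theorem L29814 : sm ge N3047 = N4344 := rfl
theorem L29815 : sm ge N4344 = N3047 := flp_e L29814
theorem L29816 : sm gf N4344 = N3067 := ded_25_2 L23296 L23228 L29814
theorem L29818 : sm gg N3047 = N4345 := rfl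
theorem L29819 : sm gg N4345 = N3047 := flp_g L29818
theorem L29820 : sm gd N4345 = N3048 := ded_24_1 L23230 L23225 L29818
theorem L29821 : sm gd N3048 = N4345 := flp_d L29820
theorem L29822 : sm gb N3048 = N4346 := rfl
theorem L29823 : sm gb N4346 = N3048 := flp_b L29822
theorem L29824 : sm ga N3049 = N4347 := rfl
theorem L29825 : sm ga N4347 = N3049 := flp_a L29824
theorem L29826 : sm gg N4347 = N3050 := ded_12_2 L23238 L23236 L29824
theorem L29827 : sm gg N3050 = N4347 := flp_g L29826
theorem L29832 : sm gf N3049 = N4349 := rfl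
theorem L29833 : sm gf N4349 = N3049 := flp_f L29832
theorem L29834 : sm gb N3050 = N4350 := rfl
theorem L29835 : sm gb N4350 = N3050 := flp_b L29834
theorem L29840 : sm gf N3050 = N4352 := rfl
theorem L29841 : sm gf N4352 = N3050 := flp_f L29840
theorem L29842 : sm ga N4352 = N3052 := ded_11_1 L23242 L23237 L29840
theorem L29844 : sm gg N4349 = N4352 := ded_29_1 L29841 L29827 L29825 L29832
theorem L29845 : sm gg N4352 = N4349 := flp_g L29844
theorem L29858 : sm ga N3053 = N4356 := rfl
theorem L29859 : sm ga N4356 = N3053 := flp_a L29858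
theorem L29860 : sm gd N4356 = N3939 := ded_9_2 L27788 L23248 L29858
theorem L29862 : sm gc N3053 = N4357 := rfl
theorem L29863 : sm gc N4357 = N3053 := flp_c L29862
theorem L29864 : sm gb N4357 = N3374 := ded_13_1 L25154 L20731 L19815 L23245 L29862
theorem L29865 : sm gb N3374 = N4357 := flp_b L29864
theorem L29866 : sm gf N3053 = N4358 := rfl
theorem L29867 : sm gf N4358 = N3053 := flp_f L29866
theorem L29876 : sm ga N3054 = N4360 := rfl
theorem L29877 : sm ga N4360 = N3054 := flp_a L29876
theorem L29878 : sm gd N4360 = N3950 := ded_9_2 L27822 L23252 L29876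
theorem L29879 : sm gd N3950 = N4360 := flp_d L29878
theorem L29880 : sm gf N4360 = N3055 := ded_11_2 L23256 L23254 L29876
theorem L29881 : sm gf N3055 = N4360 := flp_f L29880
theorem L29882 : sm gc N3054 = N4361 := rfl
theorem L29883 : sm gc N4361 = N3054 := flp_c L29882
theorem L29884 : sm gf N4361 = N3056 := ded_20_2 L23258 L23254 L29882
theorem L29885 : sm gf N3056 = N4361 := flp_f L29884
theorem L29886 : sm gb N4361 = N3408 := ded_13_1 L25308 L20803 L19823 L23249 L29882
theorem L29887 : sm gb N3408 = N4361 := flp_b L29886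
theorem L29888 : sm gg N3054 = N4362 := rfl
theorem L29889 : sm gg N4362 = N3054 := flp_g L29888
theorem L29890 : sm gd N4362 = N3952 := ded_24_1 L27830 L23252 L29888
theorem L29891 : sm gd N3952 = N4362 := flp_d L29890
theorem L29892 : sm gb N3055 = N4363 := rfl
theorem L29893 : sm gb N4363 = N3055 := flp_b L29892
theorem L29894 : sm gc N3055 = N4364 := rfl
theorem L29895 : sm gc N4364 = N3055 := flp_c L29894
theorem L29896 : sm ga N4364 = N3056 := ded_8_1 L23258 L23255 L29894
theorem L29897 : sm ga N3056 = N4364 := flp_a L29896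
theorem L29898 : sm gg N3055 = N4365 := rfl
theorem L29899 : sm gg N4365 = N3055 := flp_g L29898
theorem L29900 : sm ga N4365 = N3057 := ded_12_1 L23260 L23255 L29898
theorem L29902 : sm gf N4365 = N4362 := ded_29_2 L29889 L29876 L29880 L29898
theorem L29903 : sm gf N4362 = N4365 := flp_f L29902
theorem L29904 : sm gd N3056 = N4366 := rfl
theorem L29905 : sm gd N4366 = N3056 := flp_d L29904
theorem L29906 : sm gg N3056 = N4367 := rfl
theorem L29907 : sm gg N4367 = N3056 := flp_g L29906
theorem L29908 : sm gc N4367 = N3057 := ded_21_1 L23260 L23257 L29906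
theorem L29909 : sm gc N3057 = N4367 := flp_c L29908
theorem L29910 : sm gf N3057 = N4368 := rfl
theorem L29911 : sm gf N4368 = N3057 := flp_f L29910
theorem L29912 : sm ga N4368 = N4362 := ded_11_1 L29903 L29900 L29910
theorem L29913 : sm ga N4362 = N4368 := flp_a L29912
theorem L29914 : sm gg N4368 = N4360 := ded_29_3 L29877 L23253 L23259 L29910
theorem L29916 : sm gc N3058 = N4369 := rfl
theorem L29917 : sm gc N4369 = N3058 := flp_c L29916
theorem L29918 : sm ga N4369 = N3059 := ded_8_1 L23266 L23263 L29916
theorem L29919 : sm ga N3059 = N4369 := flp_a L29918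
theorem L29920 : sm gf N3058 = N4370 := rfl
theorem L29921 : sm gf N4370 = N3058 := flp_f L29920
theorem L29922 : sm ga N4370 = N3060 := ded_11_1 L23268 L23263 L29920
theorem L29923 : sm ga N3060 = N4370 := flp_a L29922
theorem L29924 : sm gg N3058 = N4371 := rfl
theorem L29925 : sm gg N4371 = N3058 := flp_g L29924
theorem L29926 : sm ga N4371 = N3061 := ded_12_1 L23270 L23263 L29924
theorem L29927 : sm ga N3061 = N4371 := flp_a L29926
theorem L29928 : sm gb N3059 = N4372 := rfl
theorem L29929 : sm gb N4372 = N3059 := flp_b L29928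
theorem L29930 : sm gc N4372 = N3062 := ded_13_2 L23272 L19831 L19828 L23265 L29928
theorem L29931 : sm gc N3062 = N4372 := flp_c L29930
theorem L29932 : sm gd N3059 = N4373 := rfl
theorem L29933 : sm gd N4373 = N3059 := flp_d L29932
theorem L29934 : sm gf N3059 = N4374 := rfl
theorem L29935 : sm gf N4374 = N3059 := flp_f L29934
theorem L29936 : sm gc N4374 = N3060 := ded_20_1 L23268 L23265 L29934
theorem L29937 : sm gc N3060 = N4374 := flp_c L29936
theorem L29938 : sm gg N3059 = N4375 := rfl
theorem L29939 : sm gg N4375 = N3059 := flp_g L29938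
theorem L29940 : sm gc N4375 = N3061 := ded_21_1 L23270 L23265 L29938
theorem L29941 : sm gc N3061 = N4375 := flp_c L29940
theorem L29942 : sm gg N3060 = N4376 := rfl
theorem L29943 : sm gg N4376 = N3060 := flp_g L29942
theorem L29944 : sm gf N4371 = N4376 := ded_29_0 L29943 L23268 L23269 L29927
theorem L29945 : sm gf N4376 = N4371 := flp_f L29944
theorem L29946 : sm gb N3061 = N4377 := rfl
theorem L29947 : sm gb N4377 = N3061 := flp_b L29946
theorem L29948 : sm gg N4377 = N3065 := ded_17_2 L23288 L19835 L19828 L23269 L29946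
theorem L29949 : sm gg N3065 = N4377 := flp_g L29948
theorem L29950 : sm gf N3061 = N4378 := rfl
theorem L29951 : sm gf N4378 = N3061 := flp_f L29950
theorem L29952 : sm ga N4378 = N4376 := ded_11_1 L29945 L29926 L29950
theorem L29953 : sm ga N4376 = N4378 := flp_a L29952
theorem L29954 : sm gg N4378 = N4370 := ded_29_3 L29922 L23268 L23269 L29950
theorem L29955 : sm gg N4370 = N4378 := flp_g L29954
theorem L29956 : sm ga N3062 = N4379 := rfl
theorem L29957 : sm ga N4379 = N3062 := flp_a L29956
theorem L29958 : sm gd N3062 = N4380 := rfl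
theorem L29960 : sm gb N4380 = N3063 := ded_14_1 L23274 L23271 L29958
theorem L29961 : sm gb N3063 = N4380 := flp_b L29960
theorem L29962 : sm gf N3062 = N4381 := rfl
theorem L29963 : sm gf N4381 = N3062 := flp_f L29962
theorem L29964 : sm gg N3062 = N4382 := rfl
theorem L29965 : sm gg N4382 = N3062 := flp_g L29964
theorem L29966 : sm ge N3063 = N4383 := rfl
theorem L29967 : sm ge N4383 = N3063 := flp_e L29966
theorem L29968 : sm ga N4383 = N3067 := ded_10_1 L23296 L23276 L29966
theorem L29969 : sm ga N3067 = N4383 := flp_a L29968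
theorem L29970 : sm gc N4383 = N3632 := ded_19_1 L26308 L23278 L29966
theorem L29971 : sm gc N3632 = N4383 := flp_c L29970
theorem L29972 : sm gg N3063 = N4384 := rfl
theorem L29973 : sm gg N4384 = N3063 := flp_g L29972
theorem L29976 : sm gc N4384 = N3633 := ded_21_1 L26310 L23278 L29972
theorem L29978 : sm gd N4384 = N3064 := ded_24_1 L23280 L23273 L29972
theorem L29979 : sm gd N3064 = N4384 := flp_d L29978
theorem L29980 : sm gf N4384 = N4345 := ded_29_2 L29819 L29801 L29802 L29972
theorem L29981 : sm gf N4345 = N4384 := flp_f L29980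
theorem L29982 : sm gb N3064 = N4385 := rfl
theorem L29983 : sm gb N4385 = N3064 := flp_b L29982
theorem L29984 : sm ga N3065 = N4386 := rfl
theorem L29985 : sm ga N4386 = N3065 := flp_a L29984
theorem L29986 : sm gc N3065 = N4387 := rfl
theorem L29987 : sm gc N4387 = N3065 := flp_c L29986
theorem L29988 : sm gf N3065 = N4388 := rfl
theorem L29989 : sm gf N4388 = N3065 := flp_f L29988
theorem L29990 : sm gb N4388 = N4349 := ded_16_1 L29833 L23234 L19839 L23287 L29988
theorem L29991 : sm gb N4349 = N4388 := flp_b L29990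
theorem L29992 : sm gb N3066 = N4389 := rfl
theorem L29994 : sm gd N4389 = N3629 := ded_14_2 L26294 L23294 L29992
theorem L29995 : sm gd N3629 = N4389 := flp_d L29994
theorem L29996 : sm gc N4389 = N3094 := ded_13_2 L23428 L19917 L19843 L23289 L29992
theorem L29997 : sm gc N3094 = N4389 := flp_c L29996
theorem L29998 : sm ge N3066 = N4390 := rfl
theorem L29999 : sm ge N4390 = N3066 := flp_e L29998
theorem L30000 : sm ga N4390 = N3632 := ded_10_1 L26308 L23292 L29998
theorem L30001 : sm ga N3632 = N4390 := flp_a L30000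
theorem L30002 : sm gc N4390 = N3067 := ded_19_1 L23296 L23289 L29998
theorem L30003 : sm gc N3067 = N4390 := flp_c L30002
theorem L30004 : sm gg N3066 = N4391 := rfl
theorem L30005 : sm gg N4391 = N3066 := flp_g L30004
theorem L30008 : sm gc N4391 = N3068 := ded_21_1 L23300 L23289 L30004
theorem L30012 : sm gg N3067 = N4392 := rfl
theorem L30013 : sm gg N4392 = N3067 := flp_g L30012
theorem L30014 : sm ge N4392 = N3068 := ded_26_1 L23300 L23295 L30012
theorem L30015 : sm ge N3068 = N4392 := flp_e L30014
theorem L30016 : sm gb N3068 = N4393 := rfl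
theorem L30017 : sm gb N4393 = N3068 := flp_b L30016
theorem L30018 : sm gd N4393 = N3069 := ded_14_2 L23304 L23302 L30016
theorem L30019 : sm gd N3069 = N4393 := flp_d L30018
theorem L30020 : sm gg N4393 = N3097 := ded_17_2 L23446 L19925 L19843 L23299 L30016
theorem L30021 : sm gg N3097 = N4393 := flp_g L30020
theorem L30022 : sm gf N3068 = N4394 := rfl
theorem L30026 : sm gd N4394 = N3070 := ded_23_1 L23308 L23302 L30022
theorem L30027 : sm gd N3070 = N4394 := flp_d L30026
theorem L30028 : sm gg N4394 = N4342 := ded_29_3 L29800 L23227 L23299 L30022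
theorem L30029 : sm gg N4342 = N4394 := flp_g L30028
theorem L30030 : sm ga N3069 = N4395 := rfl
theorem L30031 : sm ga N4395 = N3069 := flp_a L30030
theorem L30032 : sm gg N4395 = N3099 := ded_12_2 L23460 L23306 L30030
theorem L30033 : sm gg N3099 = N4395 := flp_g L30032
theorem L30034 : sm gf N3069 = N4396 := rfl
theorem L30035 : sm gf N4396 = N3069 := flp_f L30034
theorem L30036 : sm gb N3070 = N4397 := rfl
theorem L30037 : sm gb N4397 = N3070 := flp_b L30036
theorem L30038 : sm ga N3071 = N4398 := rfl
theorem L30039 : sm ga N4398 = N3071 := flp_a L30038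
theorem L30040 : sm gc N3071 = N4399 := rfl
theorem L30041 : sm gc N4399 = N3071 := flp_c L30040
theorem L30042 : sm gg N3071 = N4400 := rfl
theorem L30043 : sm gg N4400 = N3071 := flp_g L30042
theorem L30044 : sm gb N4400 = N4340 := ded_17_1 L29795 L23218 L19853 L23315 L30042
theorem L30045 : sm gb N4340 = N4400 := flp_b L30044
theorem L30046 : sm gb N3074 = N4401 := rfl
theorem L30047 : sm gb N4401 = N3074 := flp_b L30046
theorem L30048 : sm gd N4401 = N3934 := ded_14_2 L27770 L23330 L30046
theorem L30050 : sm gf N4401 = N3076 := ded_16_2 L23336 L19859 L19854 L23327 L30046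
theorem L30051 : sm gf N3076 = N4401 := flp_f L30050
theorem L30052 : sm gg N3074 = N4402 := rfl
theorem L30053 : sm gg N4402 = N3074 := flp_g L30052
theorem L30058 : sm ge N4402 = N3491 := ded_26_1 L25681 L25607 L30052
theorem L30060 : sm gf N3172 = N4402 := ded_29_0 L30053 L23328 L23331 L24259
theorem L30061 : sm gf N4402 = N3172 := flp_f L30060
theorem L30062 : sm gf N3075 = N4403 := rfl
theorem L30063 : sm gf N4403 = N3075 := flp_f L30062
theorem L30070 : sm ge N4403 = N3489 := ded_25_1 L25670 L25615 L30062
theorem L30071 : sm ge N3489 = N4403 := flp_e L30070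
theorem L30072 : sm gg N4403 = N3171 := ded_29_3 L24258 L23328 L23331 L30062
theorem L30073 : sm gg N3171 = N4403 := flp_g L30072
theorem L30074 : sm ga N3076 = N4404 := rfl
theorem L30075 : sm ga N4404 = N3076 := flp_a L30074
theorem L30076 : sm gd N4404 = N3936 := ded_9_2 L27782 L23338 L30074
theorem L30077 : sm gd N3936 = N4404 := flp_d L30076
theorem L30078 : sm gf N4404 = N4156 := ded_30_4 L28957 L22734 L19568 L8876 L4401 L2256 L17714 L2895 L2893 L1463 L1417 L1415 L1410 L2736 L5751 L18561 L19863 L23335 L30074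
theorem L30079 : sm gf N4156 = N4404 := flp_f L30078
theorem L30080 : sm ga N4401 = N4156 := ded_11_3 L30079 L30075 L30051
theorem L30081 : sm ga N4156 = N4401 := flp_a L30080
theorem L30082 : sm gc N4151 = N4404 := ded_20_3 L30078 L28957 L28935
theorem L30083 : sm gc N4404 = N4151 := flp_c L30082
theorem L30084 : sm gc N4155 = N4401 := ded_8_0 L30080 L28957 L28954
theorem L30085 : sm gc N4401 = N4155 := flp_c L30084
theorem L30086 : sm gc N3076 = N4405 := rfl
theorem L30087 : sm gc N4405 = N3076 := flp_c L30086
theorem L30088 : sm ga N4405 = N4151 := ded_8_1 L30082 L30075 L30086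
theorem L30089 : sm ga N4151 = N4405 := flp_a L30088
theorem L30090 : sm gf N4405 = N4155 := ded_20_2 L30084 L30050 L30086
theorem L30091 : sm gf N4155 = N4405 := flp_f L30090
theorem L30092 : sm gb N4405 = N3371 := ded_13_1 L25148 L20729 L19863 L23335 L30086
theorem L30093 : sm gb N3371 = N4405 := flp_b L30092
theorem L30094 : sm gg N3076 = N4406 := rfl
theorem L30095 : sm gg N4406 = N3076 := flp_g L30094
theorem L30096 : sm gd N4406 = N3938 := ded_24_1 L27786 L23338 L30094
theorem L30098 : sm gb N4406 = N4362 := ded_17_1 L29889 L23250 L19866 L23335 L30094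
theorem L30100 : sm gb N3077 = N4407 := rfl
theorem L30101 : sm gb N4407 = N3077 := flp_b L30100
theorem L30102 : sm gd N4407 = N3942 := ded_14_2 L27794 L23342 L30100
theorem L30103 : sm gd N3942 = N4407 := flp_d L30102
theorem L30104 : sm gc N3077 = N4408 := rfl
theorem L30105 : sm gc N4408 = N3077 := flp_c L30104
theorem L30106 : sm ga N4408 = N3078 := ded_8_1 L23346 L23339 L30104
theorem L30107 : sm ga N3078 = N4408 := flp_a L30106
theorem L30108 : sm gf N4408 = N3082 := ded_20_2 L23364 L23344 L30104
theorem L30109 : sm gf N3082 = N4408 := flp_f L30108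
theorem L30110 : sm gd N3078 = N4409 := rfl
theorem L30111 : sm gd N4409 = N3078 := flp_d L30110
theorem L30114 : sm gf N4409 = N3084 := ded_23_2 L23376 L23348 L30110
theorem L30115 : sm gf N3084 = N4409 := flp_f L30114
theorem L30116 : sm gg N3078 = N4410 := rfl
theorem L30117 : sm gg N4410 = N3078 := flp_g L30116
theorem L30118 : sm gc N4410 = N3079 := ded_21_1 L23352 L23345 L30116
theorem L30119 : sm gc N3079 = N4410 := flp_c L30118
theorem L30120 : sm gb N3079 = N4411 := rfl
theorem L30121 : sm gb N4411 = N3079 := flp_b L30120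
theorem L30124 : sm gg N4411 = N3080 := ded_17_2 L23356 L19875 L19868 L23351 L30120
theorem L30125 : sm gg N3080 = N4411 := flp_g L30124
theorem L30126 : sm ga N3080 = N4412 := rfl
theorem L30127 : sm ga N4412 = N3080 := flp_a L30126
theorem L30128 : sm gd N4412 = N3947 := ded_9_2 L27814 L23358 L30126
theorem L30129 : sm gd N3947 = N4412 := flp_d L30128
theorem L30130 : sm gc N3080 = N4413 := rfl
theorem L30131 : sm gc N4413 = N3080 := flp_c L30130
theorem L30132 : sm gb N4413 = N3403 := ded_13_1 L25294 L20795 L19879 L23355 L30130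
theorem L30133 : sm gb N3403 = N4413 := flp_b L30132
theorem L30134 : sm gf N3080 = N4414 := rfl
theorem L30135 : sm gf N4414 = N3080 := flp_f L30134
theorem L30136 : sm gd N4414 = N3949 := ded_23_1 L27818 L23358 L30134
theorem L30137 : sm gd N3949 = N4414 := flp_d L30136
theorem L30138 : sm gb N4414 = N4358 := ded_16_1 L29867 L23246 L19882 L23355 L30134
theorem L30140 : sm ga N3081 = N4415 := rfl
theorem L30141 : sm ga N4415 = N3081 := flp_a L30140
theorem L30142 : sm gd N4415 = N3953 := ded_9_2 L27834 L23362 L30140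
theorem L30143 : sm gd N3953 = N4415 := flp_d L30142
theorem L30144 : sm gb N4415 = N3953 := ded_7_2 L27834 L22046 L19249 L7507 L4652 L9439 L19884 L23359 L30140
theorem L30145 : sm gb N3953 = N4415 := flp_b L30144
theorem L30146 : sm gc N3081 = N4416 := rfl
theorem L30147 : sm gc N4416 = N3081 := flp_c L30146
theorem L30148 : sm gf N3081 = N4417 := rfl
theorem L30149 : sm gf N4417 = N3081 := flp_f L30148
theorem L30150 : sm gd N4417 = N3955 := ded_23_1 L27838 L23362 L30148
theorem L30151 : sm gd N3955 = N4417 := flp_d L30150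
theorem L30152 : sm gg N3081 = N4418 := rfl
theorem L30153 : sm gg N4418 = N3081 := flp_g L30152
theorem L30154 : sm gd N4418 = N3956 := ded_24_1 L27840 L23362 L30152
theorem L30155 : sm gd N3956 = N4418 := flp_d L30154
theorem L30156 : sm gb N3082 = N4419 := rfl
theorem L30157 : sm gb N4419 = N3082 := flp_b L30156
theorem L30158 : sm gd N3082 = N4420 := rfl
theorem L30159 : sm gd N4420 = N3082 := flp_d L30158
theorem L30160 : sm ga N4420 = N3084 := ded_9_1 L23376 L23366 L30158
theorem L30161 : sm ga N3084 = N4420 := flp_a L30160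
theorem L30162 : sm gg N3082 = N4421 := rfl
theorem L30163 : sm gg N4421 = N3082 := flp_g L30162
theorem L30164 : sm ga N4421 = N3085 := ded_12_1 L23380 L23366 L30162
theorem L30165 : sm ga N3085 = N4421 := flp_a L30164
theorem L30166 : sm gc N4421 = N3083 := ded_21_1 L23368 L23363 L30162
theorem L30167 : sm gc N3083 = N4421 := flp_c L30166
theorem L30168 : sm gf N4421 = N4410 := ded_29_2 L30117 L30107 L30108 L30162
theorem L30169 : sm gf N4410 = N4421 := flp_f L30168
theorem L30170 : sm gb N3083 = N4422 := rfl
theorem L30171 : sm gb N4422 = N3083 := flp_b L30170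
theorem L30172 : sm gd N4422 = N3960 := ded_14_2 L27856 L23372 L30170
theorem L30173 : sm gd N3960 = N4422 := flp_d L30172
theorem L30174 : sm gc N3084 = N4423 := rfl
theorem L30175 : sm gc N4423 = N3084 := flp_c L30174
theorem L30176 : sm ge N3084 = N4424 := rfl
theorem L30177 : sm ge N4424 = N3084 := flp_e L30176
theorem L30178 : sm gb N4424 = N3105 := ded_15_1 L23490 L23378 L30176
theorem L30179 : sm gb N3105 = N4424 := flp_b L30178
theorem L30180 : sm gg N3084 = N4425 := rfl
theorem L30181 : sm gg N4425 = N3084 := flp_g L30180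
theorem L30182 : sm gd N4425 = N3085 := ded_24_1 L23380 L23375 L30180
theorem L30183 : sm gd N3085 = N4425 := flp_d L30182
theorem L30184 : sm gb N4425 = N3688 := ded_17_1 L26551 L21424 L19957 L23378 L30180
theorem L30185 : sm gb N3688 = N4425 := flp_b L30184
theorem L30186 : sm gf N3085 = N4426 := rfl
theorem L30187 : sm gf N4426 = N3085 := flp_f L30186
theorem L30192 : sm gg N4426 = N4408 := ded_29_3 L30106 L23347 L23379 L30186
theorem L30193 : sm gg N4408 = N4426 := flp_g L30192
theorem L30200 : sm ga N3087 = N4428 := rfl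
theorem L30201 : sm ga N4428 = N3087 := flp_a L30200
theorem L30202 : sm gc N4428 = N3089 := ded_8_2 L23406 L23398 L30200
theorem L30203 : sm gc N3089 = N4428 := flp_c L30202
theorem L30204 : sm ge N4428 = N3972 := ded_10_2 L27902 L23396 L30200
theorem L30205 : sm ge N3972 = N4428 := flp_e L30204
theorem L30206 : sm gd N3087 = N4429 := rfl
theorem L30207 : sm gd N4429 = N3087 := flp_d L30206
theorem L30208 : sm gb N4429 = N3088 := ded_14_1 L23400 L23393 L30206
theorem L30209 : sm gb N3088 = N4429 := flp_b L30208
theorem L30210 : sm gf N3087 = N4430 := rfl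
theorem L30211 : sm gf N4430 = N3087 := flp_f L30210
theorem L30212 : sm gc N4430 = N3091 := ded_20_1 L23412 L23398 L30210
theorem L30213 : sm gc N3091 = N4430 := flp_c L30212
theorem L30216 : sm gb N4430 = N4308 := ded_16_1 L29669 L23146 L19903 L23393 L30210
theorem L30217 : sm gb N4308 = N4430 := flp_b L30216
theorem L30218 : sm gg N3087 = N4431 := rfl
theorem L30219 : sm gg N4431 = N3087 := flp_g L30218
theorem L30220 : sm gc N4431 = N3092 := ded_21_1 L23414 L23398 L30218
theorem L30221 : sm gc N3092 = N4431 := flp_c L30220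
theorem L30222 : sm ge N4431 = N3964 := ded_26_1 L27871 L23396 L30218
theorem L30223 : sm ge N3964 = N4431 := flp_e L30222
theorem L30224 : sm gb N4431 = N3931 := ded_17_1 L27750 L22005 L19905 L23393 L30218
theorem L30226 : sm ge N3088 = N4432 := rfl
theorem L30227 : sm ge N4432 = N3088 := flp_e L30226
theorem L30228 : sm gf N4432 = N4310 := ded_25_2 L29675 L23402 L30226
theorem L30229 : sm gf N4310 = N4432 := flp_f L30228
theorem L30230 : sm gg N4432 = N3933 := ded_26_2 L27764 L23404 L30226
theorem L30232 : sm gd N4432 = N3970 := ded_22_1 L27895 L22079 L19901 L23399 L30226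
theorem L30234 : sm gb N3089 = N4433 := rfl
theorem L30235 : sm gb N4433 = N3089 := flp_b L30234
theorem L30236 : sm gd N3089 = N4434 := rfl
theorem L30237 : sm gd N4434 = N3089 := flp_d L30236
theorem L30238 : sm ga N4434 = N3090 := ded_9_1 L23408 L23405 L30236
theorem L30239 : sm ga N3090 = N4434 := flp_a L30238
theorem L30240 : sm gf N3089 = N4435 := rfl
theorem L30241 : sm gf N4435 = N3089 := flp_f L30240
theorem L30242 : sm ga N4435 = N3091 := ded_11_1 L23412 L23405 L30240
theorem L30243 : sm ga N3091 = N4435 := flp_a L30242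
theorem L30244 : sm gg N3089 = N4436 := rfl
theorem L30245 : sm gg N4436 = N3089 := flp_g L30244
theorem L30246 : sm ga N4436 = N3092 := ded_12_1 L23414 L23405 L30244
theorem L30247 : sm ga N3092 = N4436 := flp_a L30246
theorem L30248 : sm ge N4436 = N4395 := ded_26_1 L30032 L23461 L30244
theorem L30249 : sm ge N4395 = N4436 := flp_e L30248
theorem L30250 : sm gc N3090 = N4437 := rfl
theorem L30251 : sm gc N4437 = N3090 := flp_c L30250
theorem L30252 : sm gb N4437 = N3961 := ded_13_1 L27858 L22059 L19915 L23410 L30250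
theorem L30253 : sm gb N3961 = N4437 := flp_b L30252
theorem L30254 : sm ge N3090 = N4438 := rfl
theorem L30255 : sm ge N4438 = N3090 := flp_e L30254
theorem L30256 : sm gb N4438 = N3093 := ded_15_1 L23420 L23410 L30254
theorem L30257 : sm gb N3093 = N4438 := flp_b L30256
theorem L30258 : sm gf N3090 = N4439 := rfl
theorem L30259 : sm gf N4439 = N3090 := flp_f L30258
theorem L30260 : sm gd N4439 = N3091 := ded_23_1 L23412 L23407 L30258
theorem L30261 : sm gd N3091 = N4439 := flp_d L30260
theorem L30262 : sm gg N3090 = N4440 := rfl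
theorem L30263 : sm gg N4440 = N3090 := flp_g L30262
theorem L30264 : sm gd N4440 = N3092 := ded_24_1 L23414 L23407 L30262
theorem L30265 : sm gd N3092 = N4440 := flp_d L30264
theorem L30266 : sm gb N4440 = N4303 := ded_17_1 L29645 L23125 L19913 L23410 L30262
theorem L30267 : sm gb N4303 = N4440 := flp_b L30266
theorem L30268 : sm gg N3091 = N4441 := rfl
theorem L30269 : sm gg N4441 = N3091 := flp_g L30268
theorem L30270 : sm gf N4436 = N4441 := ded_29_0 L30269 L23412 L23413 L30247
theorem L30271 : sm gf N4441 = N4436 := flp_f L30270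
theorem L30272 : sm gf N3092 = N4442 := rfl
theorem L30273 : sm gf N4442 = N3092 := flp_f L30272
theorem L30274 : sm ga N4442 = N4441 := ded_11_1 L30271 L30246 L30272
theorem L30275 : sm ga N4441 = N4442 := flp_a L30274
theorem L30276 : sm ge N4442 = N4396 := ded_25_1 L30035 L23416 L30272
theorem L30277 : sm ge N4396 = N4442 := flp_e L30276
theorem L30278 : sm gg N4442 = N4435 := ded_29_3 L30242 L23412 L23413 L30272
theorem L30279 : sm gg N4435 = N4442 := flp_g L30278
theorem L30280 : sm ga N3094 = N4443 := rfl
theorem L30282 : sm gd N4443 = N3967 := ded_9_2 L27886 L23430 L30280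
theorem L30283 : sm gd N3967 = N4443 := flp_d L30282
theorem L30284 : sm ge N3094 = N4444 := rfl
theorem L30285 : sm ge N4444 = N3094 := flp_e L30284
theorem L30288 : sm gf N3094 = N4445 := rfl
theorem L30289 : sm gf N4445 = N3094 := flp_f L30288
theorem L30292 : sm gg N3094 = N4446 := rfl
theorem L30293 : sm gg N4446 = N3094 := flp_g L30292
theorem L30294 : sm gd N4446 = N3969 := ded_24_1 L27890 L23430 L30292
theorem L30296 : sm gb N3096 = N4447 := rfl
theorem L30297 : sm gb N4447 = N3096 := flp_b L30296
theorem L30298 : sm gd N4447 = N4438 := ded_14_2 L30256 L23442 L30296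
theorem L30299 : sm gd N4438 = N4447 := flp_d L30298
theorem L30300 : sm ge N4447 = N3097 := ded_15_2 L23446 L23444 L30296
theorem L30301 : sm ge N3097 = N4447 := flp_e L30300
theorem L30302 : sm gf N3096 = N4448 := rfl
theorem L30303 : sm gf N4448 = N3096 := flp_f L30302
theorem L30304 : sm ga N4448 = N4150 := ded_11_1 L28926 L23440 L30302
theorem L30305 : sm ga N4150 = N4448 := flp_a L30304
theorem L30308 : sm gd N4448 = N4247 := ded_23_1 L29332 L23442 L30302
theorem L30309 : sm gd N4247 = N4448 := flp_d L30308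
theorem L30310 : sm ge N4448 = N3098 := ded_25_1 L23450 L23444 L30302
theorem L30311 : sm ge N3098 = N4448 := flp_e L30310
theorem L30312 : sm gg N4448 = N4247 := ded_29_3 L29328 L22931 L23437 L30302
theorem L30313 : sm gg N4247 = N4448 := flp_g L30312
theorem L30314 : sm ga N3097 = N4449 := rfl
theorem L30315 : sm ga N4449 = N3097 := flp_a L30314
theorem L30316 : sm gd N4449 = N3099 := ded_9_2 L23460 L23448 L30314
theorem L30317 : sm gd N3099 = N4449 := flp_d L30316
theorem L30318 : sm gc N3097 = N4450 := rfl
theorem L30319 : sm gc N4450 = N3097 := flp_c L30318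
theorem L30320 : sm gf N3097 = N4451 := rfl
theorem L30321 : sm gf N4451 = N3097 := flp_f L30320
theorem L30322 : sm gd N4451 = N3100 := ded_23_1 L23464 L23448 L30320
theorem L30323 : sm gd N3100 = N4451 := flp_d L30322
theorem L30324 : sm gb N3098 = N4452 := rfl
theorem L30325 : sm gb N4452 = N3098 := flp_b L30324
theorem L30326 : sm gd N4452 = N3101 := ded_14_2 L23468 L23456 L30324
theorem L30327 : sm gd N3101 = N4452 := flp_d L30326
theorem L30328 : sm gb N3099 = N4453 := rfl
theorem L30329 : sm gb N4453 = N3099 := flp_b L30328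
theorem L30330 : sm ge N4453 = N4433 := ded_15_2 L30235 L23462 L30328
theorem L30332 : sm gf N3099 = N4454 := rfl
theorem L30333 : sm gf N4454 = N3099 := flp_f L30332
theorem L30334 : sm ga N4454 = N3100 := ded_11_1 L23464 L23459 L30332
theorem L30335 : sm ga N3100 = N4454 := flp_a L30334
theorem L30336 : sm ge N4454 = N4435 := ded_25_1 L30241 L23462 L30332
theorem L30337 : sm ge N4435 = N4454 := flp_e L30336
theorem L30338 : sm gg N4396 = N4454 := ded_29_1 L30333 L30033 L30031 L30034
theorem L30339 : sm gg N4454 = N4396 := flp_g L30338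
theorem L30340 : sm gb N3100 = N4455 := rfl
theorem L30341 : sm gb N4455 = N3100 := flp_b L30340
theorem L30342 : sm ge N4455 = N4245 := ded_15_2 L29322 L23466 L30340
theorem L30343 : sm ge N4245 = N4455 := flp_e L30342
theorem L30344 : sm gf N4455 = N3101 := ded_16_2 L23468 L19935 L19930 L23463 L30340
theorem L30345 : sm gf N3101 = N4455 := flp_f L30344
theorem L30346 : sm gg N3100 = N4456 := rfl
theorem L30347 : sm gg N4456 = N3100 := flp_g L30346
theorem L30348 : sm ga N4456 = N4396 := ded_12_1 L30338 L30334 L30346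
theorem L30349 : sm ga N4396 = N4456 := flp_a L30348
theorem L30350 : sm ge N4456 = N4441 := ded_26_1 L30269 L23466 L30346
theorem L30351 : sm ge N4441 = N4456 := flp_e L30350
theorem L30352 : sm gf N4395 = N4456 := ded_29_0 L30347 L23464 L23306 L30030
theorem L30353 : sm gf N4456 = N4395 := flp_f L30352
theorem L30354 : sm ga N3101 = N4457 := rfl
theorem L30355 : sm ga N4457 = N3101 := flp_a L30354
theorem L30356 : sm ge N4457 = N4243 := ded_10_2 L29315 L23470 L30354
theorem L30357 : sm ge N4243 = N4457 := flp_e L30356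
theorem L30358 : sm gg N3101 = N4458 := rfl
theorem L30359 : sm gg N4458 = N3101 := flp_g L30358
theorem L30360 : sm ge N4458 = N4246 := ded_26_1 L29325 L23470 L30358
theorem L30361 : sm ge N4246 = N4458 := flp_e L30360
theorem L30362 : sm gb N4458 = N4246 := ded_17_1 L29325 L22920 L19943 L23467 L30358
theorem L30364 : sm ga N3102 = N4459 := rfl
theorem L30365 : sm ga N4459 = N3102 := flp_a L30364
theorem L30366 : sm gc N4459 = N4457 := ded_8_2 L30355 L23474 L30364
theorem L30367 : sm gc N4457 = N4459 := flp_c L30366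
theorem L30368 : sm gd N3102 = N4460 := rfl
theorem L30369 : sm gd N4460 = N3102 := flp_d L30368
theorem L30370 : sm gb N4460 = N3103 := ded_14_1 L23476 L23471 L30368
theorem L30372 : sm gf N3102 = N4461 := rfl
theorem L30373 : sm gf N4461 = N3102 := flp_f L30372
theorem L30374 : sm gc N4461 = N4455 := ded_20_1 L30344 L23474 L30372
theorem L30375 : sm gc N4455 = N4461 := flp_c L30374
theorem L30376 : sm gb N4461 = N3452 := ded_16_1 L25492 L20887 L19949 L23471 L30372
theorem L30378 : sm gg N3102 = N4462 := rfl
theorem L30379 : sm gg N4462 = N3102 := flp_g L30378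
theorem L30380 : sm gc N4462 = N4458 := ded_21_1 L30359 L23474 L30378
theorem L30381 : sm gc N4458 = N4462 := flp_c L30380
theorem L30382 : sm gb N4462 = N3745 := ded_17_1 L26762 L21487 L19951 L23471 L30378
theorem L30394 : sm ge N3104 = N4465 := rfl
theorem L30398 : sm gf N4465 = N3456 := ded_25_2 L25502 L23486 L30394
theorem L30399 : sm gf N3456 = N4465 := flp_f L30398
theorem L30400 : sm gg N4465 = N3748 := ded_26_2 L26772 L23488 L30394
theorem L30402 : sm gb N3106 = N4466 := rfl
theorem L30406 : sm gc N4466 = N3462 := ded_13_2 L25526 L20903 L19963 L23495 L30402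
theorem L30407 : sm gc N3462 = N4466 := flp_c L30406
theorem L30408 : sm ge N3106 = N4467 := rfl
theorem L30414 : sm gf N4467 = N3463 := ded_25_2 L25530 L23500 L30408
theorem L30415 : sm gf N3463 = N4467 := flp_f L30414
theorem L30416 : sm gg N4467 = N3761 := ded_26_2 L26833 L23502 L30408
theorem L30418 : sm ga N3108 = N4468 := rfl
theorem L30420 : sm gc N4468 = N3111 := ded_8_2 L23540 L23520 L30418
theorem L30421 : sm gc N3111 = N4468 := flp_c L30420
theorem L30422 : sm gd N3108 = N4469 := rfl
theorem L30423 : sm gd N4469 = N3108 := flp_d L30422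
theorem L30424 : sm gb N4469 = N3109 := ded_14_1 L23522 L23517 L30422
theorem L30425 : sm gb N3109 = N4469 := flp_b L30424
theorem L30426 : sm ge N3108 = N4470 := rfl
theorem L30427 : sm ge N4470 = N3108 := flp_e L30426
theorem L30428 : sm gb N4470 = N3110 := ded_15_1 L23532 L23517 L30426
theorem L30429 : sm gb N3110 = N4470 := flp_b L30428
theorem L30444 : sm ge N3109 = N4473 := rfl
theorem L30445 : sm ge N4473 = N3109 := flp_e L30444
theorem L30452 : sm gg N4473 = N3767 := ded_26_2 L26859 L23528 L30444
theorem L30453 : sm gg N3767 = N4473 := flp_g L30452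
theorem L30454 : sm gd N3110 = N4474 := rfl
theorem L30455 : sm gd N4474 = N3110 := flp_d L30454
theorem L30456 : sm gf N4474 = N3471 := ded_23_2 L25570 L23536 L30454
theorem L30457 : sm gf N3471 = N4474 := flp_f L30456
theorem L30463 : sm ge N3111 = N4476 := rfl
theorem L30464 : sm ge N4476 = N3111 := flp_e L30463
theorem L30465 : sm ga N4476 = N3112 := ded_10_1 L23543 L23539 L30463
theorem L30466 : sm ga N3112 = N4476 := flp_a L30465
theorem L30482 : sm gf N3112 = N4480 := rfl
theorem L30483 : sm gf N4480 = N3112 := flp_f L30482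
theorem L30487 : sm gg N3112 = N4481 := rfl
theorem L30489 : sm ge N4481 = N3114 := ded_26_1 L23551 L23542 L30487
theorem L30504 : sm gc N3118 = N4484 := rfl
theorem L30505 : sm gc N4484 = N3118 := flp_c L30504
theorem L30506 : sm gb N4484 = N3122 := ded_13_1 L23597 L23591 L23584 L23574 L30504
theorem L30508 : sm gd N3356 = N4484 := ded_14_0 L30506 L23599 L25076
theorem L30509 : sm gd N4484 = N3356 := flp_d L30508
theorem L30512 : sm gf N3118 = N4485 := rfl
theorem L30513 : sm gf N4485 = N3118 := flp_f L30512
theorem L30516 : sm gg N3118 = N4486 := rfl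
theorem L30517 : sm gg N4486 = N3118 := flp_g L30516
theorem L30518 : sm gd N4486 = N3120 := ded_24_1 L23580 L23571 L30516
theorem L30519 : sm gd N3120 = N4486 := flp_d L30518
theorem L30520 : sm gb N3119 = N4487 := rfl
theorem L30521 : sm gb N4487 = N3119 := flp_b L30520
theorem L30522 : sm ge N4487 = N3359 := ded_15_2 L25086 L23578 L30520
theorem L30523 : sm ge N3359 = N4487 := flp_e L30522
theorem L30524 : sm gf N4487 = N3125 := ded_16_2 L23614 L20015 L20006 L23575 L30520
theorem L30525 : sm gf N3125 = N4487 := flp_f L30524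
theorem L30526 : sm gg N3119 = N4488 := rfl
theorem L30527 : sm gg N4488 = N3119 := flp_g L30526
theorem L30530 : sm ge N4488 = N3360 := ded_26_1 L25090 L23578 L30526
theorem L30531 : sm ge N3360 = N4488 := flp_e L30530
theorem L30532 : sm gf N3354 = N4488 := ded_29_0 L30527 L23576 L23579 L25066
theorem L30533 : sm gf N4488 = N3354 := flp_f L30532
theorem L30534 : sm gb N3120 = N4489 := rfl
theorem L30535 : sm gb N4489 = N3120 := flp_b L30534
theorem L30536 : sm ge N4489 = N3361 := ded_15_2 L25094 L23582 L30534
theorem L30537 : sm ge N3361 = N4489 := flp_e L30536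
theorem L30538 : sm gg N4489 = N3126 := ded_17_2 L23618 L20021 L20006 L23579 L30534
theorem L30540 : sm gf N3120 = N4490 := rfl
theorem L30546 : sm ge N4490 = N3362 := ded_25_1 L25098 L23582 L30540
theorem L30547 : sm ge N3362 = N4490 := flp_e L30546
theorem L30550 : sm gf N3121 = N4491 := rfl
theorem L30551 : sm gf N4491 = N3121 := flp_f L30550
theorem L30552 : sm ga N4491 = N3127 := ded_11_1 L23622 L23586 L30550
theorem L30554 : sm gc N4491 = N3123 := ded_20_1 L23602 L23583 L30550
theorem L30555 : sm gc N3123 = N4491 := flp_c L30554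
theorem L30556 : sm gd N4491 = N3974 := ded_23_1 L27910 L23587 L30550
theorem L30557 : sm gd N3974 = N4491 := flp_d L30556
theorem L30558 : sm ge N4491 = N4313 := ded_25_1 L29687 L23589 L30550
theorem L30559 : sm ge N4313 = N4491 := flp_e L30558
theorem L30560 : sm gg N3121 = N4492 := rfl
theorem L30561 : sm gg N4492 = N3121 := flp_g L30560
theorem L30564 : sm gc N4492 = N3124 := ded_21_1 L23608 L23583 L30560
theorem L30565 : sm gc N3124 = N4492 := flp_c L30564
theorem L30566 : sm gd N4492 = N3975 := ded_24_1 L27918 L23587 L30560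
theorem L30567 : sm gd N3975 = N4492 := flp_d L30566
theorem L30570 : sm gf N3122 = N4493 := rfl
theorem L30571 : sm gf N4493 = N3122 := flp_f L30570
theorem L30572 : sm ga N4493 = N3129 := ded_11_1 L23634 L23596 L30570
theorem L30573 : sm ga N3129 = N4493 := flp_a L30572
theorem L30574 : sm gc N4493 = N4313 := ded_20_1 L29687 L23598 L30570
theorem L30575 : sm gc N4313 = N4493 := flp_c L30574
theorem L30576 : sm gd N4493 = N3366 := ded_23_1 L25126 L23600 L30570
theorem L30577 : sm gd N3366 = N4493 := flp_d L30576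
theorem L30578 : sm ge N4493 = N3123 := ded_25_1 L23602 L23593 L30570
theorem L30579 : sm ge N3123 = N4493 := flp_e L30578
theorem L30580 : sm gg N3122 = N4494 := rfl
theorem L30588 : sm ge N4494 = N3124 := ded_26_1 L23608 L23593 L30580
theorem L30590 : sm gb N3123 = N4495 := rfl
theorem L30591 : sm gb N4495 = N3123 := flp_b L30590
theorem L30592 : sm gd N4495 = N3125 := ded_14_2 L23614 L23606 L30590
theorem L30593 : sm gd N3125 = N4495 := flp_d L30592
theorem L30594 : sm gb N3124 = N4496 := rfl
theorem L30595 : sm gb N4496 = N3124 := flp_b L30594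
theorem L30598 : sm ga N3125 = N4497 := rfl
theorem L30599 : sm ga N4497 = N3125 := flp_a L30598
theorem L30600 : sm ge N4497 = N3370 := ded_10_2 L25146 L23616 L30598
theorem L30601 : sm ge N3370 = N4497 := flp_e L30600
theorem L30602 : sm gc N3125 = N4498 := rfl
theorem L30603 : sm gc N4498 = N3125 := flp_c L30602
theorem L30604 : sm ge N4498 = N3371 := ded_19_2 L25148 L23616 L30602
theorem L30605 : sm ge N3371 = N4498 := flp_e L30604
theorem L30606 : sm gg N3125 = N4499 := rfl
theorem L30607 : sm gg N4499 = N3125 := flp_g L30606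
theorem L30608 : sm ge N4499 = N3372 := ded_26_1 L25150 L23616 L30606
theorem L30609 : sm ge N3372 = N4499 := flp_e L30608
theorem L30610 : sm ga N3126 = N4500 := rfl
theorem L30611 : sm ga N4500 = N3126 := flp_a L30610
theorem L30612 : sm ge N4500 = N3373 := ded_10_2 L25152 L23620 L30610
theorem L30613 : sm ge N3373 = N4500 := flp_e L30612
theorem L30614 : sm gc N3126 = N4501 := rfl
theorem L30615 : sm gc N4501 = N3126 := flp_c L30614
theorem L30616 : sm ge N4501 = N3374 := ded_19_2 L25154 L23620 L30614
theorem L30617 : sm ge N3374 = N4501 := flp_e L30616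
theorem L30618 : sm gf N3126 = N4502 := rfl
theorem L30619 : sm gf N4502 = N3126 := flp_f L30618
theorem L30622 : sm gb N3127 = N4503 := rfl
theorem L30623 : sm gb N4503 = N3127 := flp_b L30622
theorem L30628 : sm gg N3127 = N4504 := rfl
theorem L30629 : sm gg N4504 = N3127 := flp_g L30628
theorem L30632 : sm gd N4504 = N3979 := ded_24_1 L27948 L23626 L30628
theorem L30633 : sm gd N3979 = N4504 := flp_d L30632
theorem L30636 : sm gb N3128 = N4505 := rfl
theorem L30637 : sm gb N4505 = N3128 := flp_b L30636
theorem L30638 : sm gd N4505 = N3980 := ded_14_2 L27954 L23632 L30636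
theorem L30652 : sm gb N3129 = N4507 := rfl
theorem L30653 : sm gb N4507 = N3129 := flp_b L30652
theorem L30654 : sm gd N4507 = N3385 := ded_14_2 L25210 L23636 L30652
theorem L30655 : sm gd N3385 = N4507 := flp_d L30654
theorem L30656 : sm ge N4507 = N3131 := ded_15_2 L23646 L23638 L30652
theorem L30657 : sm ge N3131 = N4507 := flp_e L30656
theorem L30658 : sm gf N4507 = N3142 := ded_16_2 L23706 L20073 L20035 L23633 L30652
theorem L30659 : sm gf N3142 = N4507 := flp_f L30658
theorem L30660 : sm gg N3129 = N4508 := rfl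
theorem L30661 : sm gg N4508 = N3129 := flp_g L30660
theorem L30662 : sm gd N4508 = N3386 := ded_24_1 L25216 L23636 L30660
theorem L30663 : sm gd N3386 = N4508 := flp_d L30662
theorem L30668 : sm gb N3130 = N4509 := rfl
theorem L30672 : sm ge N4509 = N3133 := ded_15_2 L23658 L23644 L30668
theorem L30673 : sm ge N3133 = N4509 := flp_e L30672
theorem L30674 : sm gg N4509 = N3143 := ded_17_2 L23712 L20083 L20035 L23639 L30668
theorem L30675 : sm gg N3143 = N4509 := flp_g L30674
theorem L30676 : sm gf N3130 = N4510 := rfl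
theorem L30680 : sm gd N4510 = N3388 := ded_23_1 L25228 L23642 L30676
theorem L30681 : sm gd N3388 = N4510 := flp_d L30680
theorem L30682 : sm ge N4510 = N3134 := ded_25_1 L23664 L23644 L30676
theorem L30683 : sm ge N3134 = N4510 := flp_e L30682
theorem L30684 : sm gg N4510 = N4493 := ded_29_3 L30572 L23634 L23639 L30676
theorem L30686 : sm ga N3131 = N4511 := rfl
theorem L30687 : sm ga N4511 = N3131 := flp_a L30686
theorem L30688 : sm gd N4511 = N3135 := ded_9_2 L23672 L23648 L30686
theorem L30689 : sm gd N3135 = N4511 := flp_d L30688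
theorem L30690 : sm gf N4511 = N3144 := ded_11_2 L23718 L23650 L30686
theorem L30691 : sm gf N3144 = N4511 := flp_f L30690
theorem L30692 : sm gc N3131 = N4512 := rfl
theorem L30693 : sm gc N4512 = N3131 := flp_c L30692
theorem L30694 : sm gf N4512 = N3145 := ded_20_2 L23722 L23650 L30692
theorem L30695 : sm gf N3145 = N4512 := flp_f L30694
theorem L30696 : sm gg N3131 = N4513 := rfl
theorem L30697 : sm gg N4513 = N3131 := flp_g L30696
theorem L30700 : sm gb N3132 = N4514 := rfl
theorem L30702 : sm gd N4514 = N3138 := ded_14_2 L23688 L23654 L30700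
theorem L30703 : sm gd N3138 = N4514 := flp_d L30702
theorem L30704 : sm ga N3133 = N4515 := rfl
theorem L30705 : sm ga N4515 = N3133 := flp_a L30704
theorem L30706 : sm gd N4515 = N3139 := ded_9_2 L23692 L23660 L30704
theorem L30708 : sm gg N4515 = N3147 := ded_12_2 L23730 L23662 L30704
theorem L30709 : sm gg N3147 = N4515 := flp_g L30708
theorem L30710 : sm gc N3133 = N4516 := rfl
theorem L30711 : sm gc N4516 = N3133 := flp_c L30710
theorem L30712 : sm gg N4516 = N3148 := ded_21_2 L23734 L23662 L30710
theorem L30713 : sm gg N3148 = N4516 := flp_g L30712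
theorem L30714 : sm gf N3133 = N4517 := rfl
theorem L30715 : sm gf N4517 = N3133 := flp_f L30714
theorem L30716 : sm gd N4517 = N3140 := ded_23_1 L23698 L23660 L30714
theorem L30718 : sm gb N3134 = N4518 := rfl
theorem L30719 : sm gb N4518 = N3134 := flp_b L30718
theorem L30720 : sm gd N4518 = N3141 := ded_14_2 L23702 L23668 L30718
theorem L30721 : sm gd N3141 = N4518 := flp_d L30720
theorem L30722 : sm gb N3135 = N4519 := rfl
theorem L30723 : sm gb N4519 = N3135 := flp_b L30722
theorem L30724 : sm ge N4519 = N3397 := ded_15_2 L25272 L23674 L30722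
theorem L30725 : sm ge N3397 = N4519 := flp_e L30724
theorem L30726 : sm gc N3135 = N4520 := rfl
theorem L30727 : sm gc N4520 = N3135 := flp_c L30726
theorem L30728 : sm ga N4520 = N3136 := ded_8_1 L23678 L23671 L30726
theorem L30730 : sm ge N4520 = N3398 := ded_19_2 L25274 L23674 L30726
theorem L30731 : sm ge N3398 = N4520 := flp_e L30730
theorem L30732 : sm gf N4520 = N3151 := ded_20_2 L23746 L23676 L30726
theorem L30733 : sm gf N3151 = N4520 := flp_f L30732
theorem L30734 : sm gd N3136 = N4521 := rfl
theorem L30735 : sm gd N4521 = N3136 := flp_d L30734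
theorem L30736 : sm gf N4521 = N3153 := ded_23_2 L23760 L23682 L30734
theorem L30737 : sm gf N3153 = N4521 := flp_f L30736
theorem L30738 : sm gg N3136 = N4522 := rfl
theorem L30739 : sm gg N4522 = N3136 := flp_g L30738
theorem L30740 : sm gc N4522 = N3137 := ded_21_1 L23684 L23677 L30738
theorem L30742 : sm ge N4522 = N3400 := ded_26_1 L25284 L23680 L30738
theorem L30743 : sm ge N3400 = N4522 := flp_e L30742
theorem L30744 : sm gb N3137 = N4523 := rfl
theorem L30745 : sm gb N4523 = N3137 := flp_b L30744
theorem L30746 : sm ge N4523 = N3401 := ded_15_2 L25288 L23686 L30744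
theorem L30748 : sm gg N4523 = N3138 := ded_17_2 L23688 L20053 L20046 L23683 L30744
theorem L30758 : sm gf N3138 = N4526 := rfl
theorem L30760 : sm ge N4526 = N3404 := ded_25_1 L25296 L23690 L30758
theorem L30761 : sm ge N3404 = N4526 := flp_e L30760
theorem L30762 : sm gb N4526 = N4502 := ded_16_1 L30619 L23618 L20056 L23687 L30758
theorem L30764 : sm gb N3139 = N4527 := rfl
theorem L30765 : sm gb N4527 = N3139 := flp_b L30764
theorem L30766 : sm ge N4527 = N3405 := ded_15_2 L25300 L23694 L30764
theorem L30767 : sm ge N3405 = N4527 := flp_e L30766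
theorem L30768 : sm gb N3140 = N4528 := rfl
theorem L30769 : sm gb N4528 = N3140 := flp_b L30768
theorem L30770 : sm ge N4528 = N3406 := ded_15_2 L25302 L23700 L30768
theorem L30771 : sm ge N3406 = N4528 := flp_e L30770
theorem L30772 : sm gf N4528 = N3141 := ded_16_2 L23702 L20065 L20058 L23697 L30768
theorem L30773 : sm gf N3141 = N4528 := flp_f L30772
theorem L30774 : sm ga N3141 = N4529 := rfl
theorem L30775 : sm ga N4529 = N3141 := flp_a L30774
theorem L30776 : sm ge N4529 = N3407 := ded_10_2 L25306 L23704 L30774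
theorem L30777 : sm ge N3407 = N4529 := flp_e L30776
theorem L30778 : sm gc N3141 = N4530 := rfl
theorem L30779 : sm gc N4530 = N3141 := flp_c L30778
theorem L30780 : sm ge N4530 = N3408 := ded_19_2 L25308 L23704 L30778
theorem L30781 : sm ge N3408 = N4530 := flp_e L30780
theorem L30782 : sm gg N3141 = N4531 := rfl
theorem L30783 : sm gg N4531 = N3141 := flp_g L30782
theorem L30786 : sm gb N4531 = N4499 := ded_17_1 L30607 L23614 L20071 L23701 L30782
theorem L30787 : sm gb N4499 = N4531 := flp_b L30786
theorem L30788 : sm ga N3142 = N4532 := rfl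
theorem L30789 : sm ga N4532 = N3142 := flp_a L30788
theorem L30790 : sm gd N4532 = N3410 := ded_9_2 L25314 L23708 L30788
theorem L30791 : sm gd N3410 = N4532 := flp_d L30790
theorem L30792 : sm ge N4532 = N3144 := ded_10_2 L23718 L23710 L30788
theorem L30793 : sm ge N3144 = N4532 := flp_e L30792
theorem L30794 : sm gc N3142 = N4533 := rfl
theorem L30795 : sm gc N4533 = N3142 := flp_c L30794
theorem L30796 : sm ge N4533 = N3145 := ded_19_2 L23722 L23710 L30794
theorem L30797 : sm ge N3145 = N4533 := flp_e L30796
theorem L30798 : sm gb N4533 = N4187 := ded_13_1 L29089 L22802 L20077 L23705 L30794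
theorem L30799 : sm gb N4187 = N4533 := flp_b L30798
theorem L30800 : sm gg N3142 = N4534 := rfl
theorem L30801 : sm gg N4534 = N3142 := flp_g L30800
theorem L30802 : sm gd N4534 = N3412 := ded_24_1 L25324 L23708 L30800
theorem L30803 : sm gd N3412 = N4534 := flp_d L30802
theorem L30804 : sm ge N4534 = N3146 := ded_26_1 L23726 L23710 L30800
theorem L30805 : sm ge N3146 = N4534 := flp_e L30804
theorem L30806 : sm ga N3143 = N4535 := rfl
theorem L30808 : sm gd N4535 = N3413 := ded_9_2 L25328 L23714 L30806
theorem L30809 : sm gd N3413 = N4535 := flp_d L30808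
theorem L30810 : sm ge N4535 = N3147 := ded_10_2 L23730 L23716 L30806
theorem L30811 : sm ge N3147 = N4535 := flp_e L30810
theorem L30812 : sm gc N3143 = N4536 := rfl
theorem L30813 : sm gc N4536 = N3143 := flp_c L30812
theorem L30814 : sm ge N4536 = N3148 := ded_19_2 L23734 L23716 L30812
theorem L30815 : sm ge N3148 = N4536 := flp_e L30814
theorem L30816 : sm gb N4536 = N4191 := ded_13_1 L29105 L22814 L20087 L23711 L30812
theorem L30817 : sm gb N4191 = N4536 := flp_b L30816
theorem L30818 : sm gf N3143 = N4537 := rfl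
theorem L30819 : sm gf N4537 = N3143 := flp_f L30818
theorem L30820 : sm gd N4537 = N3415 := ded_23_1 L25338 L23714 L30818
theorem L30821 : sm gd N3415 = N4537 := flp_d L30820
theorem L30824 : sm gb N3144 = N4538 := rfl
theorem L30825 : sm gb N4538 = N3144 := flp_b L30824
theorem L30826 : sm gd N4538 = N3150 := ded_14_2 L23742 L23720 L30824
theorem L30827 : sm gd N3150 = N4538 := flp_d L30826
theorem L30828 : sm gc N3144 = N4539 := rfl
theorem L30829 : sm gc N4539 = N3144 := flp_c L30828
theorem L30830 : sm ga N4539 = N3145 := ded_8_1 L23722 L23717 L30828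
theorem L30831 : sm ga N3145 = N4539 := flp_a L30830
theorem L30832 : sm gg N3144 = N4540 := rfl
theorem L30833 : sm gg N4540 = N3144 := flp_g L30832
theorem L30834 : sm ga N4540 = N3146 := ded_12_1 L23726 L23717 L30832
theorem L30835 : sm ga N3146 = N4540 := flp_a L30834
theorem L30836 : sm gd N4540 = N3152 := ded_24_1 L23752 L23720 L30832
theorem L30837 : sm gd N3152 = N4540 := flp_d L30836
theorem L30838 : sm gf N4540 = N4513 := ded_29_2 L30697 L30686 L30690 L30832
theorem L30839 : sm gf N4513 = N4540 := flp_f L30838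
theorem L30840 : sm gd N3145 = N4541 := rfl
theorem L30841 : sm gd N4541 = N3145 := flp_d L30840
theorem L30842 : sm gb N4541 = N4197 := ded_14_1 L29133 L23724 L30840
theorem L30843 : sm gb N4197 = N4541 := flp_b L30842
theorem L30844 : sm gg N3145 = N4542 := rfl
theorem L30845 : sm gg N4542 = N3145 := flp_g L30844
theorem L30846 : sm gc N4542 = N3146 := ded_21_1 L23726 L23721 L30844
theorem L30847 : sm gc N3146 = N4542 := flp_c L30846
theorem L30848 : sm gf N3146 = N4543 := rfl
theorem L30849 : sm gf N4543 = N3146 := flp_f L30848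
theorem L30852 : sm gd N4543 = N3155 := ded_23_1 L23770 L23728 L30848
theorem L30853 : sm gd N3155 = N4543 := flp_d L30852
theorem L30854 : sm gg N4543 = N4511 := ded_29_3 L30687 L23649 L23725 L30848
theorem L30855 : sm gg N4511 = N4543 := flp_g L30854
theorem L30856 : sm gb N3147 = N4544 := rfl
theorem L30857 : sm gb N4544 = N3147 := flp_b L30856
theorem L30858 : sm gd N4544 = N3156 := ded_14_2 L23778 L23732 L30856
theorem L30859 : sm gd N3156 = N4544 := flp_d L30858
theorem L30860 : sm gc N3147 = N4545 := rfl
theorem L30861 : sm gc N4545 = N3147 := flp_c L30860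
theorem L30864 : sm gf N3147 = N4546 := rfl
theorem L30865 : sm gf N4546 = N3147 := flp_f L30864
theorem L30866 : sm ga N4546 = N3149 := ded_11_1 L23738 L23729 L30864
theorem L30868 : sm gd N4546 = N3157 := ded_23_1 L23782 L23732 L30864
theorem L30870 : sm gg N4517 = N4546 := ded_29_1 L30865 L30709 L30705 L30714
theorem L30872 : sm gd N3148 = N4547 := rfl
theorem L30873 : sm gd N4547 = N3148 := flp_d L30872
theorem L30874 : sm gb N4547 = N4207 := ded_14_1 L29183 L23736 L30872
theorem L30875 : sm gb N4207 = N4547 := flp_b L30874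
theorem L30876 : sm gf N3148 = N4548 := rfl
theorem L30877 : sm gf N4548 = N3148 := flp_f L30876
theorem L30878 : sm gc N4548 = N3149 := ded_20_1 L23738 L23733 L30876
theorem L30879 : sm gc N3149 = N4548 := flp_c L30878
theorem L30880 : sm gg N3149 = N4549 := rfl
theorem L30881 : sm gg N4549 = N3149 := flp_g L30880
theorem L30882 : sm ga N4549 = N4517 := ded_12_1 L30870 L30866 L30880
theorem L30883 : sm ga N4517 = N4549 := flp_a L30882
theorem L30888 : sm ga N3150 = N4550 := rfl
theorem L30889 : sm ga N4550 = N3150 := flp_a L30888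
theorem L30890 : sm ge N4550 = N3428 := ded_10_2 L25406 L23744 L30888
theorem L30891 : sm ge N3428 = N4550 := flp_e L30890
theorem L30892 : sm gb N4550 = N3268 := ded_7_2 L24502 L20382 L10435 L5134 L4973 L10164 L20100 L23741 L30888
theorem L30893 : sm gb N3268 = N4550 := flp_b L30892
theorem L30894 : sm gc N3150 = N4551 := rfl
theorem L30895 : sm gc N4551 = N3150 := flp_c L30894
theorem L30896 : sm ge N4551 = N3429 := ded_19_2 L25410 L23744 L30894
theorem L30897 : sm ge N3429 = N4551 := flp_e L30896
theorem L30898 : sm gf N3150 = N4552 := rfl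
theorem L30899 : sm gf N4552 = N3150 := flp_f L30898
theorem L30900 : sm ge N4552 = N3430 := ded_25_1 L25412 L23744 L30898
theorem L30901 : sm ge N3430 = N4552 := flp_e L30900
theorem L30902 : sm gg N3150 = N4553 := rfl
theorem L30903 : sm gg N4553 = N3150 := flp_g L30902
theorem L30906 : sm gb N3151 = N4554 := rfl
theorem L30907 : sm gb N4554 = N3151 := flp_b L30906
theorem L30908 : sm ge N4554 = N3432 := ded_15_2 L25416 L23750 L30906
theorem L30909 : sm ge N3432 = N4554 := flp_e L30908
theorem L30910 : sm gd N3151 = N4555 := rfl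
theorem L30911 : sm gd N4555 = N3151 := flp_d L30910
theorem L30912 : sm ga N4555 = N3153 := ded_9_1 L23760 L23748 L30910
theorem L30913 : sm ga N3153 = N4555 := flp_a L30912
theorem L30914 : sm gg N3151 = N4556 := rfl
theorem L30915 : sm gg N4556 = N3151 := flp_g L30914
theorem L30916 : sm ga N4556 = N3154 := ded_12_1 L23764 L23748 L30914
theorem L30917 : sm ga N3154 = N4556 := flp_a L30916
theorem L30918 : sm gc N4556 = N3152 := ded_21_1 L23752 L23745 L30914
theorem L30919 : sm gc N3152 = N4556 := flp_c L30918
theorem L30920 : sm ge N4556 = N3434 := ded_26_1 L25422 L23750 L30914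
theorem L30921 : sm ge N3434 = N4556 := flp_e L30920
theorem L30924 : sm gb N3152 = N4557 := rfl
theorem L30925 : sm gb N4557 = N3152 := flp_b L30924
theorem L30928 : sm gc N3153 = N4558 := rfl
theorem L30929 : sm gc N4558 = N3153 := flp_c L30928
theorem L30930 : sm ge N3153 = N4559 := rfl
theorem L30931 : sm ge N4559 = N3153 := flp_e L30930
theorem L30934 : sm gd N4559 = N3437 := ded_22_1 L25434 L20849 L20107 L23759 L30930
theorem L30935 : sm gd N3437 = N4559 := flp_d L30934
theorem L30936 : sm gg N3153 = N4560 := rfl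
theorem L30937 : sm gg N4560 = N3153 := flp_g L30936
theorem L30938 : sm gd N4560 = N3154 := ded_24_1 L23764 L23759 L30936
theorem L30939 : sm gd N3154 = N4560 := flp_d L30938
theorem L30940 : sm gb N3154 = N4561 := rfl
theorem L30941 : sm gb N4561 = N3154 := flp_b L30940
theorem L30942 : sm ge N4561 = N3439 := ded_15_2 L25442 L23768 L30940
theorem L30943 : sm ge N3439 = N4561 := flp_e L30942
theorem L30944 : sm gg N4561 = N3163 := ded_17_2 L23818 L20131 L20109 L23763 L30940
theorem L30945 : sm gg N3163 = N4561 := flp_g L30944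
theorem L30946 : sm gf N3154 = N4562 := rfl
theorem L30950 : sm gc N4562 = N3155 := ded_20_1 L23770 L23766 L30946
theorem L30952 : sm ge N4562 = N3440 := ded_25_1 L25446 L23768 L30946
theorem L30953 : sm ge N3440 = N4562 := flp_e L30952
theorem L30954 : sm gg N4562 = N4520 := ded_29_3 L30728 L23681 L23763 L30946
theorem L30955 : sm gg N4520 = N4562 := flp_g L30954
theorem L30956 : sm gb N3155 = N4563 := rfl
theorem L30957 : sm gb N4563 = N3155 := flp_b L30956
theorem L30960 : sm ga N3156 = N4564 := rfl
theorem L30962 : sm ge N4564 = N3442 := ded_10_2 L25456 L23780 L30960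
theorem L30963 : sm ge N3442 = N4564 := flp_e L30962
theorem L30964 : sm gb N4564 = N3283 := ded_7_2 L24578 L20424 L10447 L5146 L4981 L10168 L20114 L23777 L30960
theorem L30966 : sm gc N3156 = N4565 := rfl
theorem L30967 : sm gc N4565 = N3156 := flp_c L30966
theorem L30970 : sm gf N3156 = N4566 := rfl
theorem L30971 : sm gf N4566 = N3156 := flp_f L30970
theorem L30972 : sm ge N4566 = N3444 := ded_25_1 L25462 L23780 L30970
theorem L30973 : sm ge N3444 = N4566 := flp_e L30972
theorem L30974 : sm gg N3156 = N4567 := rfl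
theorem L30975 : sm gg N4567 = N3156 := flp_g L30974
theorem L30976 : sm ge N4567 = N3445 := ded_26_1 L25464 L23780 L30974
theorem L30977 : sm ge N3445 = N4567 := flp_e L30976
theorem L30978 : sm gb N3157 = N4568 := rfl
theorem L30979 : sm gb N4568 = N3157 := flp_b L30978
theorem L30980 : sm ge N4568 = N3446 := ded_15_2 L25466 L23786 L30978
theorem L30981 : sm ge N3446 = N4568 := flp_e L30980
theorem L30982 : sm gb N3158 = N4569 := rfl
theorem L30984 : sm ge N4569 = N3447 := ded_15_2 L25468 L23794 L30982
theorem L30985 : sm ge N3447 = N4569 := flp_e L30984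
theorem L30986 : sm ga N3159 = N4570 := rfl
theorem L30987 : sm ga N4570 = N3159 := flp_a L30986
theorem L30988 : sm gc N4570 = N4306 := ded_8_2 L29663 L23802 L30986
theorem L30989 : sm gc N4306 = N4570 := flp_c L30988
theorem L30992 : sm gd N3159 = N4571 := rfl
theorem L30993 : sm gd N4571 = N3159 := flp_d L30992
theorem L30994 : sm gb N4571 = N3160 := ded_14_1 L23804 L23797 L30992
theorem L30996 : sm gf N3159 = N4572 := rfl
theorem L30997 : sm gf N4572 = N3159 := flp_f L30996
theorem L30998 : sm gc N4572 = N4308 := ded_20_1 L29669 L23802 L30996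
theorem L30999 : sm gc N4308 = N4572 := flp_c L30998
theorem L31000 : sm ge N4572 = N3452 := ded_25_1 L25492 L23800 L30996
theorem L31001 : sm ge N3452 = N4572 := flp_e L31000
theorem L31002 : sm gg N3159 = N4573 := rfl
theorem L31003 : sm gg N4573 = N3159 := flp_g L31002
theorem L31004 : sm gc N4573 = N4309 := ded_21_1 L29671 L23802 L31002
theorem L31006 : sm ge N4573 = N3453 := ded_26_1 L25494 L23800 L31002
theorem L31007 : sm ge N3453 = N4573 := flp_e L31006
theorem L31008 : sm ge N3160 = N4574 := rfl
theorem L31010 : sm ga N4574 = N3161 := ded_10_1 L23808 L23806 L31008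
theorem L31014 : sm gg N3161 = N4575 := rfl
theorem L31018 : sm gd N4575 = N3458 := ded_24_1 L25514 L23810 L31014
theorem L31019 : sm gd N3458 = N4575 := flp_d L31018
theorem L31020 : sm ge N4575 = N3162 := ded_26_1 L23812 L23807 L31014
theorem L31021 : sm ge N3162 = N4575 := flp_e L31020
theorem L31022 : sm gb N3162 = N4576 := rfl
theorem L31023 : sm gb N4576 = N3162 := flp_b L31022
theorem L31024 : sm gd N4576 = N3163 := ded_14_2 L23818 L23816 L31022
theorem L31025 : sm gd N3163 = N4576 := flp_d L31024
theorem L31026 : sm ga N3163 = N4577 := rfl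
theorem L31027 : sm ga N4577 = N3163 := flp_a L31026
theorem L31028 : sm ge N4577 = N3460 := ded_10_2 L25522 L23820 L31026
theorem L31029 : sm ge N3460 = N4577 := flp_e L31028
theorem L31030 : sm gf N3163 = N4578 := rfl
theorem L31031 : sm gf N4578 = N3163 := flp_f L31030
theorem L31032 : sm ge N4578 = N3461 := ded_25_1 L25524 L23820 L31030
theorem L31034 : sm ga N3164 = N4579 := rfl
theorem L31035 : sm ga N4579 = N3164 := flp_a L31034
theorem L31036 : sm gc N4579 = N4243 := ded_8_2 L29315 L23826 L31034
theorem L31037 : sm gc N4243 = N4579 := flp_c L31036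
theorem L31038 : sm ge N4579 = N4459 := ded_10_2 L30365 L23824 L31034
theorem L31039 : sm ge N4459 = N4579 := flp_e L31038
theorem L31040 : sm gd N3164 = N4580 := rfl
theorem L31041 : sm gd N4580 = N3164 := flp_d L31040
theorem L31042 : sm gb N4580 = N3165 := ded_14_1 L23828 L23821 L31040
theorem L31043 : sm gb N3165 = N4580 := flp_b L31042
theorem L31044 : sm gf N3164 = N4581 := rfl
theorem L31045 : sm gf N4581 = N3164 := flp_f L31044
theorem L31046 : sm gc N4581 = N4245 := ded_20_1 L29321 L23826 L31044
theorem L31047 : sm gc N4245 = N4581 := flp_c L31046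
theorem L31048 : sm ge N4581 = N4461 := ded_25_1 L30373 L23824 L31044
theorem L31049 : sm ge N4461 = N4581 := flp_e L31048
theorem L31050 : sm gb N4581 = N4572 := ded_16_1 L30997 L23798 L20143 L23821 L31044
theorem L31051 : sm gb N4572 = N4581 := flp_b L31050
theorem L31052 : sm gg N3164 = N4582 := rfl
theorem L31053 : sm gg N4582 = N3164 := flp_g L31052
theorem L31054 : sm gc N4582 = N4246 := ded_21_1 L29325 L23826 L31052
theorem L31055 : sm gc N4246 = N4582 := flp_c L31054
theorem L31056 : sm ge N4582 = N4462 := ded_26_1 L30379 L23824 L31052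
theorem L31057 : sm ge N4462 = N4582 := flp_e L31056
theorem L31068 : sm gb N3168 = N4584 := rfl
theorem L31069 : sm gb N4584 = N3168 := flp_b L31068
theorem L31072 : sm gb N3169 = N4585 := rfl
theorem L31073 : sm gb N4585 = N3169 := flp_b L31072
theorem L31074 : sm ge N4585 = N3484 := ded_15_2 L25640 L23856 L31072
theorem L31075 : sm ge N3484 = N4585 := flp_e L31074
theorem L31076 : sm gb N3171 = N4586 := rfl
theorem L31077 : sm gb N4586 = N3171 := flp_b L31076
theorem L31080 : sm ge N4586 = N3488 := ded_15_2 L25662 L23866 L31076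
theorem L31081 : sm ge N3488 = N4586 := flp_e L31080
theorem L31082 : sm gf N4586 = N3314 := ded_16_2 L24774 L20579 L20153 L23861 L31076
theorem L31083 : sm gf N3314 = N4586 := flp_f L31082
theorem L31084 : sm gb N3172 = N4587 := rfl
theorem L31088 : sm ge N4587 = N3490 := ded_15_2 L25672 L23872 L31084
theorem L31089 : sm ge N3490 = N4587 := flp_e L31088
theorem L31090 : sm gg N4587 = N3316 := ded_17_2 L24786 L20585 L20153 L23867 L31084
theorem L31091 : sm gg N3316 = N4587 := flp_g L31090
theorem L31092 : sm gf N3174 = N4588 := rfl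
theorem L31093 : sm gf N4588 = N3174 := flp_f L31092
theorem L31094 : sm gd N4588 = N3496 := ded_23_1 L25702 L23884 L31092
theorem L31095 : sm gd N3496 = N4588 := flp_d L31094
theorem L31096 : sm ge N4588 = N3175 := ded_25_1 L23886 L23879 L31092
theorem L31097 : sm ge N3175 = N4588 := flp_e L31096
theorem L31098 : sm gg N3174 = N4589 := rfl
theorem L31100 : sm gd N4589 = N3497 := ded_24_1 L25706 L23884 L31098
theorem L31101 : sm gd N3497 = N4589 := flp_d L31100
theorem L31104 : sm gb N3175 = N4590 := rfl
theorem L31106 : sm gd N4590 = N3177 := ded_14_2 L23894 L23888 L31104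
theorem L31107 : sm gd N3177 = N4590 := flp_d L31106
theorem L31108 : sm gf N4590 = N3183 := ded_16_2 L23936 L20173 L20157 L23885 L31104
theorem L31109 : sm gf N3183 = N4590 := flp_f L31108
theorem L31110 : sm gg N3175 = N4591 := rfl
theorem L31111 : sm gg N4591 = N3175 := flp_g L31110
theorem L31114 : sm gd N4591 = N3178 := ded_24_1 L23900 L23888 L31110
theorem L31115 : sm gd N3178 = N4591 := flp_d L31114
theorem L31116 : sm gf N3798 = N4591 := ded_29_0 L31111 L23886 L23889 L27011
theorem L31118 : sm gb N3176 = N4592 := rfl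
theorem L31120 : sm gd N4592 = N3179 := ded_14_2 L23906 L23892 L31118
theorem L31121 : sm gd N3179 = N4592 := flp_d L31120
theorem L31122 : sm gg N4592 = N3184 := ded_17_2 L23940 L20179 L20157 L23889 L31118
theorem L31123 : sm gg N3184 = N4592 := flp_g L31122
theorem L31134 : sm ga N3177 = N4594 := rfl
theorem L31135 : sm ga N4594 = N3177 := flp_a L31134
theorem L31136 : sm ge N4594 = N3502 := ded_10_2 L25736 L23896 L31134
theorem L31138 : sm gf N4594 = N3185 := ded_11_2 L23944 L23898 L31134
theorem L31139 : sm gf N3185 = N4594 := flp_f L31138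
theorem L31140 : sm gc N4594 = N4341 := ded_30_1 L29797 L23221 L19806 L9422 L4644 L17733 L2894 L1563 L861 L592 L593 L761 L1342 L2565 L5290 L10316 L20184 L23943 L31139
theorem L31141 : sm gc N4341 = N4594 := flp_c L31140
theorem L31142 : sm gb N4338 = N4594 := ded_13_5 L31140 L29797 L23220 L23217 L29788
theorem L31143 : sm gb N4594 = N4338 := flp_b L31142
theorem L31144 : sm gc N3177 = N4595 := rfl
theorem L31145 : sm gc N4595 = N3177 := flp_c L31144
theorem L31146 : sm ga N4595 = N4341 := ded_8_1 L31141 L31135 L31144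
theorem L31147 : sm ga N4341 = N4595 := flp_a L31146
theorem L31150 : sm gf N4595 = N3186 := ded_20_2 L23948 L23898 L31144
theorem L31151 : sm gf N3186 = N4595 := flp_f L31150
theorem L31152 : sm gg N3177 = N4596 := rfl
theorem L31153 : sm gg N4596 = N3177 := flp_g L31152
theorem L31154 : sm ge N4596 = N3504 := ded_26_1 L25744 L23896 L31152
theorem L31156 : sm gb N3178 = N4597 := rfl
theorem L31157 : sm gb N4597 = N3178 := flp_b L31156
theorem L31160 : sm ga N3179 = N4598 := rfl
theorem L31162 : sm ge N4598 = N3506 := ded_10_2 L25748 L23908 L31160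
theorem L31163 : sm ge N3506 = N4598 := flp_e L31162
theorem L31164 : sm gg N4598 = N3188 := ded_12_2 L23958 L23910 L31160
theorem L31165 : sm gg N3188 = N4598 := flp_g L31164
theorem L31166 : sm gc N3179 = N4599 := rfl
theorem L31167 : sm gc N4599 = N3179 := flp_c L31166
theorem L31170 : sm gg N4599 = N3189 := ded_21_2 L23962 L23910 L31166
theorem L31171 : sm gg N3189 = N4599 := flp_g L31170
theorem L31172 : sm gf N3179 = N4600 := rfl
theorem L31173 : sm gf N4600 = N3179 := flp_f L31172
theorem L31176 : sm gb N3180 = N4601 := rfl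
theorem L31177 : sm gb N4601 = N3180 := flp_b L31176
theorem L31178 : sm ge N4601 = N3509 := ded_15_2 L25758 L23916 L31176
theorem L31180 : sm gb N3181 = N4602 := rfl
theorem L31181 : sm gb N4602 = N3181 := flp_b L31180
theorem L31182 : sm gd N4602 = N3517 := ded_14_2 L25800 L23924 L31180
theorem L31183 : sm gd N3517 = N4602 := flp_d L31182
theorem L31184 : sm ge N4602 = N3183 := ded_15_2 L23936 L23926 L31180
theorem L31186 : sm gb N3182 = N4603 := rfl
theorem L31187 : sm gb N4603 = N3182 := flp_b L31186
theorem L31188 : sm gd N4603 = N3518 := ded_14_2 L25804 L23932 L31186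
theorem L31189 : sm gd N3518 = N4603 := flp_d L31188
theorem L31190 : sm ge N4603 = N3184 := ded_15_2 L23940 L23934 L31186
theorem L31191 : sm ge N3184 = N4603 := flp_e L31190
theorem L31192 : sm ga N3183 = N4604 := rfl
theorem L31193 : sm ga N4604 = N3183 := flp_a L31192
theorem L31194 : sm gd N4604 = N3185 := ded_9_2 L23944 L23938 L31192
theorem L31195 : sm gd N3185 = N4604 := flp_d L31194
theorem L31196 : sm gc N3183 = N4605 := rfl
theorem L31197 : sm gc N4605 = N3183 := flp_c L31196
theorem L31198 : sm gg N3183 = N4606 := rfl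
theorem L31199 : sm gg N4606 = N3183 := flp_g L31198
theorem L31202 : sm ga N3184 = N4607 := rfl
theorem L31203 : sm ga N4607 = N3184 := flp_a L31202
theorem L31204 : sm gd N4607 = N3188 := ded_9_2 L23958 L23942 L31202
theorem L31205 : sm gd N3188 = N4607 := flp_d L31204
theorem L31208 : sm gf N3184 = N4609 := rfl
theorem L31209 : sm gf N4609 = N3184 := flp_f L31208
theorem L31210 : sm gd N4609 = N3190 := ded_23_1 L23968 L23942 L31208
theorem L31212 : sm gb N3185 = N4610 := rfl
theorem L31214 : sm ge N4610 = N3525 := ded_15_2 L25828 L23946 L31212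
theorem L31215 : sm ge N3525 = N4610 := flp_e L31214
theorem L31216 : sm gc N3185 = N4611 := rfl
theorem L31217 : sm gc N4611 = N3185 := flp_c L31216
theorem L31218 : sm ga N4611 = N3186 := ded_8_1 L23948 L23943 L31216
theorem L31219 : sm ga N3186 = N4611 := flp_a L31218
theorem L31220 : sm ge N4611 = N3526 := ded_19_2 L25830 L23946 L31216
theorem L31221 : sm ge N3526 = N4611 := flp_e L31220
theorem L31222 : sm gf N4611 = N4341 := ded_20_2 L31141 L31138 L31216
theorem L31223 : sm gf N4341 = N4611 := flp_f L31222
theorem L31224 : sm gb N4381 = N4611 := ded_16_5 L31222 L29797 L23223 L23271 L29962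
theorem L31225 : sm gb N4611 = N4381 := flp_b L31224
theorem L31226 : sm gg N3185 = N4612 := rfl
theorem L31227 : sm gg N4612 = N3185 := flp_g L31226
theorem L31232 : sm gf N4612 = N4596 := ded_29_2 L31153 L31134 L31138 L31226
theorem L31233 : sm gf N4596 = N4612 := flp_f L31232
theorem L31234 : sm gd N3186 = N4613 := rfl
theorem L31235 : sm gd N4613 = N3186 := flp_d L31234
theorem L31236 : sm gb N4613 = N3329 := ded_14_1 L24874 L23952 L31234
theorem L31237 : sm gb N3329 = N4613 := flp_b L31236
theorem L31238 : sm gg N3186 = N4614 := rfl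
theorem L31239 : sm gg N4614 = N3186 := flp_g L31238
theorem L31242 : sm ge N4614 = N3529 := ded_26_1 L25844 L23950 L31238
theorem L31243 : sm ge N3529 = N4614 := flp_e L31242
theorem L31252 : sm gb N3188 = N4616 := rfl
theorem L31253 : sm gb N4616 = N3188 := flp_b L31252
theorem L31254 : sm ge N4616 = N3531 := ded_15_2 L25854 L23960 L31252
theorem L31255 : sm ge N3531 = N4616 := flp_e L31254
theorem L31256 : sm gc N3188 = N4617 := rfl
theorem L31257 : sm gc N4617 = N3188 := flp_c L31256
theorem L31258 : sm ga N4617 = N3189 := ded_8_1 L23962 L23957 L31256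
theorem L31259 : sm ga N3189 = N4617 := flp_a L31258
theorem L31260 : sm ge N4617 = N3532 := ded_19_2 L25856 L23960 L31256
theorem L31261 : sm ge N3532 = N4617 := flp_e L31260
theorem L31262 : sm gf N3188 = N4618 := rfl
theorem L31263 : sm gf N4618 = N3188 := flp_f L31262
theorem L31266 : sm ge N4618 = N3533 := ded_25_1 L25860 L23960 L31262
theorem L31267 : sm ge N3533 = N4618 := flp_e L31266
theorem L31270 : sm gd N3189 = N4619 := rfl
theorem L31271 : sm gd N4619 = N3189 := flp_d L31270
theorem L31272 : sm gb N4619 = N3335 := ded_14_1 L24915 L23966 L31270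
theorem L31273 : sm gb N3335 = N4619 := flp_b L31272
theorem L31274 : sm gf N3189 = N4620 := rfl
theorem L31275 : sm gf N4620 = N3189 := flp_f L31274
theorem L31276 : sm gc N4620 = N3190 := ded_20_1 L23968 L23961 L31274
theorem L31288 : sm gb N3191 = N4622 := rfl
theorem L31289 : sm gb N4622 = N3191 := flp_b L31288
theorem L31290 : sm gf N4622 = N3195 := ded_16_2 L23992 L20201 L20192 L23971 L31288
theorem L31292 : sm gg N3191 = N4623 := rfl
theorem L31294 : sm gc N4623 = N3227 := ded_21_1 L24292 L23974 L31292
theorem L31295 : sm gc N3227 = N4623 := flp_c L31294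
theorem L31296 : sm ge N4623 = N3229 := ded_26_1 L24309 L24141 L31292
theorem L31297 : sm ge N3229 = N4623 := flp_e L31296
theorem L31300 : sm gb N3192 = N4624 := rfl
theorem L31301 : sm gb N4624 = N3192 := flp_b L31300
theorem L31302 : sm gg N4624 = N3197 := ded_17_2 L24002 L20205 L20192 L23975 L31300
theorem L31303 : sm gg N3197 = N4624 := flp_g L31302
theorem L31318 : sm gg N3193 = N4627 := rfl
theorem L31319 : sm gg N4627 = N3193 := flp_g L31318
theorem L31320 : sm gc N4627 = N3200 := ded_21_1 L24022 L23982 L31318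
theorem L31321 : sm gc N3200 = N4627 := flp_c L31320
theorem L31322 : sm gd N4627 = N4042 := ded_24_1 L28319 L28281 L31318
theorem L31328 : sm gb N3194 = N4628 := rfl
theorem L31329 : sm gb N4628 = N3194 := flp_b L31328
theorem L31330 : sm ge N4628 = N3197 := ded_15_2 L24002 L23990 L31328
theorem L31331 : sm ge N3197 = N4628 := flp_e L31330
theorem L31332 : sm gf N3194 = N4629 := rfl
theorem L31336 : sm gc N4629 = N3202 := ded_20_1 L24038 L23988 L31332
theorem L31337 : sm gc N3202 = N4629 := flp_c L31336
theorem L31338 : sm gd N4629 = N4040 := ded_23_1 L28306 L28291 L31332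
theorem L31350 : sm gg N3195 = N4632 := rfl
theorem L31351 : sm gg N4632 = N3195 := flp_g L31350
theorem L31352 : sm gb N3196 = N4633 := rfl
theorem L31356 : sm ga N3197 = N4634 := rfl
theorem L31357 : sm ga N4634 = N3197 := flp_a L31356
theorem L31358 : sm gc N3197 = N4635 := rfl
theorem L31359 : sm gc N4635 = N3197 := flp_c L31358
theorem L31360 : sm gb N4635 = N3208 := ded_13_1 L24072 L20233 L20207 L24001 L31358
theorem L31362 : sm gf N3197 = N4636 := rfl
theorem L31363 : sm gf N4636 = N3197 := flp_f L31362
theorem L31364 : sm gb N3198 = N4637 := rfl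
theorem L31365 : sm gb N4637 = N3198 := flp_b L31364
theorem L31366 : sm gd N4637 = N3548 := ded_14_2 L25942 L24010 L31364
theorem L31367 : sm gd N3548 = N4637 := flp_d L31366
theorem L31368 : sm ga N3199 = N4638 := rfl
theorem L31369 : sm ga N4638 = N3199 := flp_a L31368
theorem L31370 : sm gd N4638 = N3553 := ded_9_2 L25954 L24016 L31368
theorem L31371 : sm gd N3553 = N4638 := flp_d L31370
theorem L31372 : sm ge N4638 = N3203 := ded_10_2 L24048 L24018 L31368
theorem L31373 : sm ge N3203 = N4638 := flp_e L31372
theorem L31374 : sm gf N4638 = N3240 := ded_11_2 L24362 L24020 L31368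
theorem L31375 : sm gf N3240 = N4638 := flp_f L31374
theorem L31376 : sm gc N3199 = N4639 := rfl
theorem L31377 : sm gc N4639 = N3199 := flp_c L31376
theorem L31380 : sm gf N4639 = N3241 := ded_20_2 L24368 L24020 L31376
theorem L31381 : sm gf N3241 = N4639 := flp_f L31380
theorem L31382 : sm gg N3199 = N4640 := rfl
theorem L31383 : sm gg N4640 = N3199 := flp_g L31382
theorem L31384 : sm gd N4640 = N3555 := ded_24_1 L25966 L24016 L31382
theorem L31386 : sm ge N4640 = N3205 := ded_26_1 L24058 L24018 L31382
theorem L31387 : sm ge N3205 = N4640 := flp_e L31386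
theorem L31388 : sm gb N3200 = N4641 := rfl
theorem L31389 : sm gb N4641 = N3200 := flp_b L31388
theorem L31390 : sm gd N4641 = N3556 := ded_14_2 L25970 L24024 L31388
theorem L31391 : sm gd N3556 = N4641 := flp_d L31390
theorem L31392 : sm ge N4641 = N3206 := ded_15_2 L24062 L24026 L31388
theorem L31393 : sm ge N3206 = N4641 := flp_e L31392
theorem L31394 : sm ga N3201 = N4642 := rfl
theorem L31395 : sm ga N4642 = N3201 := flp_a L31394
theorem L31396 : sm gd N4642 = N3557 := ded_9_2 L25974 L24032 L31394
theorem L31398 : sm ge N4642 = N3207 := ded_10_2 L24066 L24034 L31394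
theorem L31400 : sm gg N4642 = N3244 := ded_12_2 L24384 L24036 L31394
theorem L31401 : sm gg N3244 = N4642 := flp_g L31400
theorem L31402 : sm gc N3201 = N4643 := rfl
theorem L31403 : sm gc N4643 = N3201 := flp_c L31402
theorem L31408 : sm gf N3201 = N4644 := rfl
theorem L31414 : sm gb N3202 = N4645 := rfl
theorem L31416 : sm gd N4645 = N3560 := ded_14_2 L25990 L24042 L31414
theorem L31417 : sm gd N3560 = N4645 := flp_d L31416
theorem L31418 : sm ge N4645 = N3210 := ded_15_2 L24080 L24044 L31414
theorem L31419 : sm ge N3210 = N4645 := flp_e L31418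
theorem L31420 : sm gb N3203 = N4646 := rfl
theorem L31422 : sm gd N4646 = N3211 := ded_14_2 L24084 L24050 L31420
theorem L31423 : sm gd N3211 = N4646 := flp_d L31422
theorem L31424 : sm gc N3203 = N4647 := rfl
theorem L31425 : sm gc N4647 = N3203 := flp_c L31424
theorem L31426 : sm ga N4647 = N3204 := ded_8_1 L24054 L24047 L31424
theorem L31427 : sm ga N3204 = N4647 := flp_a L31426
theorem L31428 : sm gf N4647 = N3249 := ded_20_2 L24410 L24052 L31424
theorem L31430 : sm gd N3204 = N4648 := rfl
theorem L31431 : sm gd N4648 = N3204 := flp_d L31430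
theorem L31432 : sm gf N4648 = N3251 := ded_23_2 L24422 L24056 L31430
theorem L31434 : sm gg N3204 = N4649 := rfl
theorem L31435 : sm gg N4649 = N3204 := flp_g L31434
theorem L31438 : sm gb N3205 = N4650 := rfl
theorem L31439 : sm gb N4650 = N3205 := flp_b L31438
theorem L31440 : sm gd N4650 = N3212 := ded_14_2 L24088 L24060 L31438
theorem L31442 : sm gg N4650 = N3206 := ded_17_2 L24062 L20227 L20220 L24057 L31438
theorem L31443 : sm gg N3206 = N4650 := flp_g L31442
theorem L31444 : sm ga N3206 = N4651 := rfl
theorem L31445 : sm ga N4651 = N3206 := flp_a L31444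
theorem L31446 : sm gd N4651 = N3213 := ded_9_2 L24094 L24064 L31444
theorem L31448 : sm gc N3206 = N4652 := rfl
theorem L31449 : sm gc N4652 = N3206 := flp_c L31448
theorem L31450 : sm gf N3206 = N4653 := rfl
theorem L31451 : sm gf N4653 = N3206 := flp_f L31450
theorem L31454 : sm gb N4653 = N4609 := ded_16_1 L31209 L23940 L20230 L24061 L31450
theorem L31455 : sm gb N4609 = N4653 := flp_b L31454
theorem L31456 : sm gb N3207 = N4654 := rfl
theorem L31458 : sm gd N4654 = N3216 := ded_14_2 L24110 L24068 L31456
theorem L31459 : sm gd N3216 = N4654 := flp_d L31458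
theorem L31474 : sm gb N3209 = N4658 := rfl
theorem L31478 : sm gf N4658 = N3210 := ded_16_2 L24080 L20239 L20232 L24075 L31474
theorem L31479 : sm gf N3210 = N4658 := flp_f L31478
theorem L31480 : sm ga N3210 = N4659 := rfl
theorem L31481 : sm ga N4659 = N3210 := flp_a L31480
theorem L31484 : sm gc N3210 = N4660 := rfl
theorem L31485 : sm gc N4660 = N3210 := flp_c L31484
theorem L31492 : sm ga N3211 = N4662 := rfl
theorem L31493 : sm ga N4662 = N3211 := flp_a L31492
theorem L31494 : sm ge N4662 = N3577 := ded_10_2 L26066 L24086 L31492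
theorem L31495 : sm ge N3577 = N4662 := flp_e L31494
theorem L31496 : sm gc N3211 = N4663 := rfl
theorem L31500 : sm gf N3211 = N4664 := rfl
theorem L31501 : sm gf N4664 = N3211 := flp_f L31500
theorem L31504 : sm gb N4664 = N3270 := ded_16_1 L24510 L20382 L20251 L24083 L31500
theorem L31505 : sm gb N3270 = N4664 := flp_b L31504
theorem L31506 : sm gg N3211 = N4665 := rfl
theorem L31507 : sm gg N4665 = N3211 := flp_g L31506
theorem L31508 : sm ge N4665 = N3580 := ded_26_1 L26074 L24086 L31506
theorem L31509 : sm ge N3580 = N4665 := flp_e L31508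
theorem L31510 : sm ga N3212 = N4666 := rfl
theorem L31512 : sm ge N4666 = N3583 := ded_10_2 L26086 L24090 L31510
theorem L31513 : sm ge N3583 = N4666 := flp_e L31512
theorem L31514 : sm gg N4666 = N3213 := ded_12_2 L24094 L24092 L31510
theorem L31515 : sm gg N3213 = N4666 := flp_g L31514
theorem L31516 : sm gc N3212 = N4667 := rfl
theorem L31517 : sm gc N4667 = N3212 := flp_c L31516
theorem L31518 : sm ge N4667 = N3584 := ded_19_2 L26090 L24090 L31516
theorem L31519 : sm ge N3584 = N4667 := flp_e L31518
theorem L31520 : sm gg N4667 = N3214 := ded_21_2 L24098 L24092 L31516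
theorem L31521 : sm gg N3214 = N4667 := flp_g L31520
theorem L31526 : sm gb N3213 = N4669 := rfl
theorem L31527 : sm gb N4669 = N3213 := flp_b L31526
theorem L31528 : sm ge N4669 = N3586 := ded_15_2 L26096 L24096 L31526
theorem L31529 : sm ge N3586 = N4669 := flp_e L31528
theorem L31530 : sm gc N3213 = N4670 := rfl
theorem L31531 : sm gc N4670 = N3213 := flp_c L31530
theorem L31532 : sm ga N4670 = N3214 := ded_8_1 L24098 L24093 L31530
theorem L31533 : sm ga N3214 = N4670 := flp_a L31532
theorem L31534 : sm ge N4670 = N3587 := ded_19_2 L26098 L24096 L31530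
theorem L31544 : sm gd N3214 = N4672 := rfl
theorem L31545 : sm gd N4672 = N3214 := flp_d L31544
theorem L31548 : sm gf N3214 = N4673 := rfl
theorem L31549 : sm gf N4673 = N3214 := flp_f L31548
theorem L31550 : sm gc N4673 = N3215 := ded_20_1 L24104 L24097 L31548
theorem L31551 : sm gc N3215 = N4673 := flp_c L31550
theorem L31552 : sm ge N4673 = N3590 := ded_25_1 L26112 L24100 L31548
theorem L31553 : sm ge N3590 = N4673 := flp_e L31552
theorem L31554 : sm gg N3215 = N4674 := rfl
theorem L31558 : sm ge N4674 = N3591 := ded_26_1 L26116 L24106 L31554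
theorem L31559 : sm ge N3591 = N4674 := flp_e L31558
theorem L31562 : sm ga N3216 = N4675 := rfl
theorem L31563 : sm ga N4675 = N3216 := flp_a L31562
theorem L31564 : sm ge N4675 = N3592 := ded_10_2 L26122 L24112 L31562
theorem L31565 : sm ge N3592 = N4675 := flp_e L31564
theorem L31566 : sm gc N3216 = N4676 := rfl
theorem L31568 : sm ge N4676 = N3593 := ded_19_2 L26124 L24112 L31566
theorem L31571 : sm gf N3216 = N4677 := rfl
theorem L31572 : sm gf N4677 = N3216 := flp_f L31571
theorem L31581 : sm ga N3217 = N4679 := rfl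
theorem L31582 : sm ga N4679 = N3217 := flp_a L31581
theorem L31583 : sm ge N4679 = N3596 := ded_10_2 L26133 L24116 L31581
theorem L31584 : sm ge N3596 = N4679 := flp_e L31583
theorem L31585 : sm gf N4679 = N3218 := ded_11_2 L24120 L24118 L31581
theorem L31586 : sm gf N3218 = N4679 := flp_f L31585
theorem L31587 : sm gc N3217 = N4680 := rfl
theorem L31588 : sm gc N4680 = N3217 := flp_c L31587
theorem L31589 : sm ge N4680 = N3597 := ded_19_2 L26137 L24116 L31587
theorem L31590 : sm ge N3597 = N4680 := flp_e L31589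
theorem L31591 : sm gf N4680 = N3219 := ded_20_2 L24124 L24118 L31587
theorem L31594 : sm gg N3217 = N4681 := rfl
theorem L31595 : sm gg N4681 = N3217 := flp_g L31594
theorem L31598 : sm gb N3218 = N4682 := rfl
theorem L31600 : sm ge N4682 = N3599 := ded_15_2 L26144 L24122 L31598
theorem L31601 : sm ge N3599 = N4682 := flp_e L31600
theorem L31602 : sm gc N3218 = N4683 := rfl
theorem L31603 : sm gc N4683 = N3218 := flp_c L31602
theorem L31604 : sm ga N4683 = N3219 := ded_8_1 L24124 L24119 L31602
theorem L31605 : sm ga N3219 = N4683 := flp_a L31604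
theorem L31608 : sm gg N3218 = N4684 := rfl
theorem L31610 : sm ga N4684 = N3220 := ded_12_1 L24130 L24119 L31608
theorem L31614 : sm gf N4684 = N4681 := ded_29_2 L31595 L31581 L31585 L31608
theorem L31615 : sm gf N4681 = N4684 := flp_f L31614
theorem L31616 : sm gd N3219 = N4685 := rfl
theorem L31617 : sm gd N4685 = N3219 := flp_d L31616
theorem L31618 : sm gb N4685 = N3347 := ded_14_1 L25023 L24128 L31616
theorem L31619 : sm gb N3347 = N4685 := flp_b L31618
theorem L31620 : sm gg N3219 = N4686 := rfl
theorem L31622 : sm gc N4686 = N3220 := ded_21_1 L24130 L24123 L31620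
theorem L31623 : sm gc N3220 = N4686 := flp_c L31622
theorem L31624 : sm ge N4686 = N3603 := ded_26_1 L26160 L24126 L31620
theorem L31625 : sm ge N3603 = N4686 := flp_e L31624
theorem L31626 : sm gf N3220 = N4687 := rfl
theorem L31627 : sm gf N4687 = N3220 := flp_f L31626
theorem L31628 : sm ga N4687 = N4681 := ded_11_1 L31615 L31610 L31626
theorem L31629 : sm ga N4681 = N4687 := flp_a L31628
theorem L31630 : sm ge N4687 = N3604 := ded_25_1 L26164 L24132 L31626
theorem L31631 : sm ge N3604 = N4687 := flp_e L31630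
theorem L31632 : sm gg N4687 = N4679 := ded_29_3 L31582 L24117 L24129 L31626
theorem L31634 : sm gb N3221 = N4688 := rfl
theorem L31636 : sm gd N4688 = N4076 := ded_14_2 L28529 L24140 L31634
theorem L31637 : sm gd N4076 = N4688 := flp_d L31636
theorem L31638 : sm ge N4688 = N4622 := ded_15_2 L31289 L24142 L31634
theorem L31639 : sm ge N4622 = N4688 := flp_e L31638
theorem L31642 : sm gb N3222 = N4689 := rfl
theorem L31644 : sm gd N4689 = N4077 := ded_14_2 L28531 L24148 L31642
theorem L31645 : sm gd N4077 = N4689 := flp_d L31644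
theorem L31648 : sm gg N4689 = N4628 := ded_17_2 L31329 L23986 L21958 L24143 L31642
theorem L31649 : sm gg N4628 = N4689 := flp_g L31648
theorem L31650 : sm gc N3223 = N4690 := rfl
theorem L31651 : sm gc N4690 = N3223 := flp_c L31650
theorem L31652 : sm ga N4690 = N3492 := ded_8_1 L25685 L24154 L31650
theorem L31653 : sm ga N3492 = N4690 := flp_a L31652
theorem L31654 : sm ge N4690 = N4061 := ded_19_2 L28443 L24158 L31650
theorem L31655 : sm ge N4061 = N4690 := flp_e L31654
theorem L31656 : sm gb N4690 = N4690 := ded_13_1 L31651 L24155 L20298 L24156 L31650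
theorem L31657 : sm gd N4061 = N4690 := ded_28_1 L31651 L24152 L21953 L20278 L22463 L25766 L25761 L28442
theorem L31658 : sm gd N4690 = N4061 := flp_d L31657
theorem L31659 : sm gf N3223 = N4691 := rfl
theorem L31660 : sm gf N4691 = N3223 := flp_f L31659
theorem L31661 : sm ga N4691 = N3511 := ded_11_1 L25768 L24154 L31659
theorem L31663 : sm gd N4691 = N3224 := ded_23_1 L24270 L24151 L31659
theorem L31664 : sm gd N3224 = N4691 := flp_d L31663
theorem L31665 : sm ge N4691 = N4062 := ded_25_1 L28446 L24158 L31659
theorem L31666 : sm ge N4062 = N4691 := flp_e L31665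
theorem L31667 : sm gg N3223 = N4692 := rfl
theorem L31668 : sm gg N4692 = N3223 := flp_g L31667
theorem L31669 : sm ga N4692 = N3512 := ded_12_1 L25772 L24154 L31667
theorem L31670 : sm ga N3512 = N4692 := flp_a L31669
theorem L31675 : sm gb N3224 = N4693 := rfl
theorem L31676 : sm gb N4693 = N3224 := flp_b L31675
theorem L31679 : sm gf N4693 = N3232 := ded_16_2 L24330 L20300 L20283 L24269 L31675
theorem L31680 : sm gf N3232 = N4693 := flp_f L31679
theorem L31681 : sm gb N3225 = N4694 := rfl
theorem L31683 : sm ge N4694 = N3228 := ded_15_2 L24298 L24284 L31681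
theorem L31684 : sm ge N3228 = N4694 := flp_e L31683
theorem L31685 : sm gg N4694 = N3233 := ded_17_2 L24334 L20308 L20283 L24277 L31681
theorem L31686 : sm gg N3233 = N4694 := flp_g L31685
theorem L31687 : sm ga N3226 = N4695 := rfl
theorem L31689 : sm gd N4695 = N4078 := ded_9_2 L28533 L24288 L31687
theorem L31690 : sm gd N4078 = N4695 := flp_d L31689
theorem L31691 : sm gf N4695 = N3234 := ded_11_2 L24338 L24290 L31687
theorem L31692 : sm gf N3234 = N4695 := flp_f L31691
theorem L31693 : sm gc N3226 = N4696 := rfl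
theorem L31694 : sm gc N4696 = N3226 := flp_c L31693
theorem L31695 : sm gf N4696 = N3235 := ded_20_2 L24342 L24290 L31693
theorem L31696 : sm gf N3235 = N4696 := flp_f L31695
theorem L31705 : sm ga N3228 = N4699 := rfl
theorem L31706 : sm ga N4699 = N3228 := flp_a L31705
theorem L31707 : sm gd N4699 = N4082 := ded_9_2 L28549 L24300 L31705
theorem L31708 : sm gd N4082 = N4699 := flp_d L31707
theorem L31709 : sm gg N4699 = N3237 := ded_12_2 L24350 L24302 L31705
theorem L31710 : sm gg N3237 = N4699 := flp_g L31709
theorem L31711 : sm gc N3228 = N4700 := rfl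
theorem L31712 : sm gc N4700 = N3228 := flp_c L31711
theorem L31713 : sm gg N4700 = N3238 := ded_21_2 L24354 L24302 L31711
theorem L31714 : sm gg N3238 = N4700 := flp_g L31713
theorem L31715 : sm gf N3228 = N4701 := rfl
theorem L31716 : sm gf N4701 = N3228 := flp_f L31715
theorem L31719 : sm gb N3229 = N4702 := rfl
theorem L31720 : sm gb N4702 = N3229 := flp_b L31719
theorem L31721 : sm gd N4702 = N4085 := ded_14_2 L28559 L24308 L31719
theorem L31722 : sm gd N4085 = N4702 := flp_d L31721
theorem L31723 : sm gb N3230 = N4703 := rfl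
theorem L31724 : sm gb N4703 = N3230 := flp_b L31723
theorem L31727 : sm ge N4703 = N4068 := ded_15_2 L28486 L24319 L31723
theorem L31728 : sm ge N4068 = N4703 := flp_e L31727
theorem L31729 : sm gb N3231 = N4704 := rfl
theorem L31730 : sm gb N4704 = N3231 := flp_b L31729
theorem L31731 : sm gd N4704 = N3233 := ded_14_2 L24334 L24326 L31729
theorem L31732 : sm gd N3233 = N4704 := flp_d L31731
theorem L31733 : sm ge N4704 = N4069 := ded_15_2 L28490 L24328 L31729
theorem L31734 : sm ge N4069 = N4704 := flp_e L31733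
theorem L31735 : sm ga N3232 = N4705 := rfl
theorem L31736 : sm ga N4705 = N3232 := flp_a L31735
theorem L31737 : sm ge N4705 = N3234 := ded_10_2 L24338 L24332 L31735
theorem L31738 : sm ge N3234 = N4705 := flp_e L31737
theorem L31739 : sm gc N3232 = N4706 := rfl
theorem L31740 : sm gc N4706 = N3232 := flp_c L31739
theorem L31743 : sm gb N4706 = N3241 := ded_13_1 L24368 L20324 L20304 L24329 L31739
theorem L31749 : sm ga N3233 = N4708 := rfl
theorem L31750 : sm ga N4708 = N3233 := flp_a L31749
theorem L31751 : sm ge N4708 = N3237 := ded_10_2 L24350 L24336 L31749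
theorem L31752 : sm ge N3237 = N4708 := flp_e L31751
theorem L31753 : sm gc N3233 = N4709 := rfl
theorem L31755 : sm ge N4709 = N3238 := ded_19_2 L24354 L24336 L31753
theorem L31756 : sm ge N3238 = N4709 := flp_e L31755
theorem L31759 : sm gf N3233 = N4710 := rfl
theorem L31760 : sm gf N4710 = N3233 := flp_f L31759
theorem L31763 : sm gb N3234 = N4711 := rfl
theorem L31765 : sm gd N4711 = N4086 := ded_14_2 L28561 L24340 L31763
theorem L31766 : sm gd N4086 = N4711 := flp_d L31765
theorem L31767 : sm gc N3234 = N4712 := rfl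
theorem L31768 : sm gc N4712 = N3234 := flp_c L31767
theorem L31769 : sm ga N4712 = N3235 := ded_8_1 L24342 L24337 L31767
theorem L31779 : sm gd N3235 = N4714 := rfl
theorem L31780 : sm gd N4714 = N3235 := flp_d L31779
theorem L31781 : sm gb N4714 = N3251 := ded_14_1 L24422 L24344 L31779
theorem L31782 : sm gb N3251 = N4714 := flp_b L31781
theorem L31783 : sm gg N3235 = N4715 := rfl
theorem L31787 : sm gf N3236 = N4716 := rfl
theorem L31788 : sm gf N4716 = N3236 := flp_f L31787
theorem L31803 : sm gf N3237 = N4719 := rfl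
theorem L31804 : sm gf N4719 = N3237 := flp_f L31803
theorem L31809 : sm gg N4701 = N4719 := ded_29_1 L31804 L31710 L31706 L31715
theorem L31810 : sm gg N4719 = N4701 := flp_g L31809
theorem L31815 : sm gf N3238 = N4721 := rfl
theorem L31816 : sm gf N4721 = N3238 := flp_f L31815
theorem L31827 : sm gb N3240 = N4723 := rfl
theorem L31828 : sm gb N4723 = N3240 := flp_b L31827
theorem L31831 : sm ge N4723 = N3248 := ded_15_2 L24406 L24366 L31827
theorem L31832 : sm ge N3248 = N4723 := flp_e L31831
theorem L31833 : sm gc N3240 = N4724 := rfl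
theorem L31834 : sm gc N4724 = N3240 := flp_c L31833
theorem L31835 : sm ga N4724 = N3241 := ded_8_1 L24368 L24361 L31833
theorem L31836 : sm ga N3241 = N4724 := flp_a L31835
theorem L31837 : sm ge N4724 = N3249 := ded_19_2 L24410 L24366 L31833
theorem L31838 : sm ge N3249 = N4724 := flp_e L31837
theorem L31839 : sm gg N3240 = N4725 := rfl
theorem L31840 : sm gg N4725 = N3240 := flp_g L31839
theorem L31841 : sm ga N4725 = N3242 := ded_12_1 L24372 L24361 L31839
theorem L31842 : sm ga N3242 = N4725 := flp_a L31841
theorem L31843 : sm gd N4725 = N3607 := ded_24_1 L26180 L24364 L31839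
theorem L31844 : sm gd N3607 = N4725 := flp_d L31843
theorem L31845 : sm ge N4725 = N3250 := ded_26_1 L24414 L24366 L31839
theorem L31846 : sm ge N3250 = N4725 := flp_e L31845
theorem L31847 : sm gf N4725 = N4640 := ded_29_2 L31383 L31368 L31374 L31839
theorem L31848 : sm gf N4640 = N4725 := flp_f L31847
theorem L31849 : sm gd N3241 = N4726 := rfl
theorem L31850 : sm gd N4726 = N3241 := flp_d L31849
theorem L31851 : sm gg N3241 = N4727 := rfl
theorem L31852 : sm gg N4727 = N3241 := flp_g L31851
theorem L31855 : sm ge N4727 = N3252 := ded_26_1 L24424 L24370 L31851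
theorem L31856 : sm ge N3252 = N4727 := flp_e L31855
theorem L31857 : sm gb N3242 = N4728 := rfl
theorem L31858 : sm gb N4728 = N3242 := flp_b L31857
theorem L31859 : sm gd N4728 = N3610 := ded_14_2 L26196 L24374 L31857
theorem L31860 : sm gd N3610 = N4728 := flp_d L31859
theorem L31861 : sm ge N4728 = N3253 := ded_15_2 L24428 L24376 L31857
theorem L31862 : sm ge N3253 = N4728 := flp_e L31861
theorem L31863 : sm gg N4728 = N3243 := ded_17_2 L24378 L20330 L20323 L24371 L31857
theorem L31864 : sm gg N3243 = N4728 := flp_g L31863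
theorem L31865 : sm gf N3242 = N4729 := rfl
theorem L31871 : sm ge N4729 = N3254 := ded_25_1 L24434 L24376 L31865
theorem L31872 : sm ge N3254 = N4729 := flp_e L31871
theorem L31873 : sm gg N4729 = N4638 := ded_29_3 L31369 L24019 L24371 L31865
theorem L31875 : sm ga N3243 = N4730 := rfl
theorem L31876 : sm ga N4730 = N3243 := flp_a L31875
theorem L31877 : sm gd N4730 = N3612 := ded_9_2 L26210 L24380 L31875
theorem L31878 : sm gd N3612 = N4730 := flp_d L31877
theorem L31879 : sm ge N4730 = N3255 := ded_10_2 L24442 L24382 L31875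
theorem L31880 : sm ge N3255 = N4730 := flp_e L31879
theorem L31881 : sm gc N3243 = N4731 := rfl
theorem L31882 : sm gc N4731 = N3243 := flp_c L31881
theorem L31883 : sm ge N4731 = N3256 := ded_19_2 L24446 L24382 L31881
theorem L31884 : sm ge N3256 = N4731 := flp_e L31883
theorem L31885 : sm gf N3243 = N4732 := rfl
theorem L31886 : sm gf N4732 = N3243 := flp_f L31885
theorem L31889 : sm ge N4732 = N3257 := ded_25_1 L24448 L24382 L31885
theorem L31890 : sm ge N3257 = N4732 := flp_e L31889
theorem L31891 : sm gb N4732 = N4537 := ded_16_1 L30819 L23712 L20335 L24377 L31885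
theorem L31892 : sm gb N4537 = N4732 := flp_b L31891
theorem L31893 : sm gb N3244 = N4733 := rfl
theorem L31895 : sm gd N4733 = N3615 := ded_14_2 L26224 L24386 L31893
theorem L31896 : sm gd N3615 = N4733 := flp_d L31895
theorem L31897 : sm ge N4733 = N3258 := ded_15_2 L24454 L24388 L31893
theorem L31898 : sm ge N3258 = N4733 := flp_e L31897
theorem L31905 : sm gf N3244 = N4735 := rfl
theorem L31906 : sm gf N4735 = N3244 := flp_f L31905
theorem L31907 : sm ga N4735 = N3246 := ded_11_1 L24394 L24383 L31905
theorem L31909 : sm gd N4735 = N3617 := ded_23_1 L26234 L24386 L31905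
theorem L31913 : sm gg N4644 = N4735 := ded_29_1 L31906 L31401 L31395 L31408
theorem L31917 : sm gf N3245 = N4737 := rfl
theorem L31921 : sm ge N4737 = N3262 := ded_25_1 L24472 L24392 L31917
theorem L31922 : sm ge N3262 = N4737 := flp_e L31921
theorem L31923 : sm gb N3246 = N4738 := rfl
theorem L31925 : sm gd N4738 = N3620 := ded_14_2 L26250 L24396 L31923
theorem L31926 : sm gd N3620 = N4738 := flp_d L31925
theorem L31927 : sm ge N4738 = N3263 := ded_15_2 L24476 L24398 L31923
theorem L31928 : sm ge N3263 = N4738 := flp_e L31927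
theorem L31929 : sm gf N4738 = N3247 := ded_16_2 L24400 L20344 L20337 L24393 L31923
theorem L31930 : sm gf N3247 = N4738 := flp_f L31929
theorem L31931 : sm gg N3246 = N4739 := rfl
theorem L31932 : sm gg N4739 = N3246 := flp_g L31931
theorem L31933 : sm ga N4739 = N4644 := ded_12_1 L31913 L31907 L31931
theorem L31937 : sm ge N4739 = N3264 := ded_26_1 L24482 L24398 L31931
theorem L31938 : sm ge N3264 = N4739 := flp_e L31937
theorem L31939 : sm gf N4642 = N4739 := ded_29_0 L31932 L24394 L24036 L31394
theorem L31940 : sm gf N4739 = N4642 := flp_f L31939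
theorem L31941 : sm ga N3247 = N4740 := rfl
theorem L31942 : sm ga N4740 = N3247 := flp_a L31941
theorem L31943 : sm gd N4740 = N3622 := ded_9_2 L26264 L24402 L31941
theorem L31947 : sm gc N3247 = N4741 := rfl
theorem L31948 : sm gc N4741 = N3247 := flp_c L31947
theorem L31949 : sm ge N4741 = N3266 := ded_19_2 L24494 L24404 L31947
theorem L31950 : sm ge N3266 = N4741 := flp_e L31949
theorem L31951 : sm gg N3247 = N4742 := rfl
theorem L31955 : sm ge N4742 = N3267 := ded_26_1 L24496 L24404 L31951
theorem L31956 : sm ge N3267 = N4742 := flp_e L31955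
theorem L31957 : sm gb N4742 = N4534 := ded_17_1 L30801 L23706 L20352 L24399 L31951
theorem L31959 : sm ga N3248 = N4743 := rfl
theorem L31963 : sm gc N3248 = N4744 := rfl
theorem L31964 : sm gc N4744 = N3248 := flp_c L31963
theorem L31965 : sm gf N3248 = N4745 := rfl
theorem L31966 : sm gf N4745 = N3248 := flp_f L31965
theorem L31969 : sm gg N3248 = N4746 := rfl
theorem L31971 : sm gd N4746 = N3271 := ded_24_1 L24514 L24408 L31969
theorem L31972 : sm gd N3271 = N4746 := flp_d L31971
theorem L31973 : sm gb N3249 = N4747 := rfl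
theorem L31974 : sm gb N4747 = N3249 := flp_b L31973
theorem L31975 : sm gd N3249 = N4748 := rfl
theorem L31976 : sm gd N4748 = N3249 := flp_d L31975
theorem L31977 : sm ga N4748 = N3251 := ded_9_1 L24422 L24412 L31975
theorem L31979 : sm gc N4748 = N4018 := ded_28_6 L28170 L28160 L28158 L22233 L19358 L20356 L24409 L31975
theorem L31980 : sm gc N4018 = N4748 := flp_c L31979
theorem L31981 : sm gg N3249 = N4749 := rfl
theorem L31987 : sm gf N4749 = N4649 := ded_29_2 L31435 L31427 L31428 L31981
theorem L31988 : sm gf N4649 = N4749 := flp_f L31987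
theorem L31989 : sm gb N3250 = N4750 := rfl
theorem L31991 : sm gd N4750 = N3272 := ded_14_2 L24518 L24418 L31989
theorem L31992 : sm gd N3272 = N4750 := flp_d L31991
theorem L31993 : sm gc N3251 = N4751 := rfl
theorem L31995 : sm ga N4751 = N4018 := ded_8_1 L31980 L31977 L31993
theorem L31996 : sm ga N4018 = N4751 := flp_a L31995
theorem L31997 : sm gd N4751 = N4016 := ded_28_7 L28159 L22236 L19354 L7758 L10415 L20357 L24421 L31993
theorem L31998 : sm gd N4016 = N4751 := flp_d L31997
theorem L31999 : sm ge N3251 = N4752 := rfl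
theorem L32000 : sm ge N4752 = N3251 := flp_e L31999
theorem L32001 : sm gg N3251 = N4753 := rfl
theorem L32002 : sm gg N4753 = N3251 := flp_g L32001
theorem L32005 : sm gb N3252 = N4754 := rfl
theorem L32006 : sm gb N4754 = N3252 := flp_b L32005
theorem L32007 : sm gf N3252 = N4755 := rfl
theorem L32011 : sm gc N4755 = N3254 := ded_20_1 L24434 L24426 L32007
theorem L32012 : sm gc N3254 = N4755 := flp_c L32011
theorem L32015 : sm ga N3253 = N4756 := rfl
theorem L32016 : sm ga N4756 = N3253 := flp_a L32015
theorem L32017 : sm gd N4756 = N3273 := ded_9_2 L24522 L24430 L32015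
theorem L32018 : sm gd N3273 = N4756 := flp_d L32017
theorem L32019 : sm gg N4756 = N3255 := ded_12_2 L24442 L24432 L32015
theorem L32020 : sm gg N3255 = N4756 := flp_g L32019
theorem L32021 : sm gc N3253 = N4757 := rfl
theorem L32022 : sm gc N4757 = N3253 := flp_c L32021
theorem L32023 : sm gg N4757 = N3256 := ded_21_2 L24446 L24432 L32021
theorem L32024 : sm gg N3256 = N4757 := flp_g L32023
theorem L32025 : sm gf N3253 = N4758 := rfl
theorem L32026 : sm gf N4758 = N3253 := flp_f L32025
theorem L32027 : sm gd N4758 = N3275 := ded_23_1 L24534 L24430 L32025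
theorem L32028 : sm gd N3275 = N4758 := flp_d L32027
theorem L32029 : sm gb N3254 = N4759 := rfl
theorem L32030 : sm gb N4759 = N3254 := flp_b L32029
theorem L32031 : sm gd N4759 = N3276 := ded_14_2 L24538 L24438 L32029
theorem L32032 : sm gd N3276 = N4759 := flp_d L32031
theorem L32037 : sm gc N3255 = N4761 := rfl
theorem L32038 : sm gc N4761 = N3255 := flp_c L32037
theorem L32039 : sm ga N4761 = N3256 := ded_8_1 L24446 L24441 L32037
theorem L32040 : sm ga N3256 = N4761 := flp_a L32039
theorem L32041 : sm gf N3255 = N4762 := rfl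
theorem L32042 : sm gf N4762 = N3255 := flp_f L32041
theorem L32043 : sm ga N4762 = N3257 := ded_11_1 L24448 L24441 L32041
theorem L32045 : sm gd N4762 = N3279 := ded_23_1 L24552 L24444 L32041
theorem L32046 : sm gd N3279 = N4762 := flp_d L32045
theorem L32047 : sm gg N4758 = N4762 := ded_29_1 L32042 L32020 L32016 L32025
theorem L32048 : sm gg N4762 = N4758 := flp_g L32047
theorem L32049 : sm gd N3256 = N4763 := rfl
theorem L32050 : sm gd N4763 = N3256 := flp_d L32049
theorem L32051 : sm gf N3256 = N4764 := rfl
theorem L32052 : sm gf N4764 = N3256 := flp_f L32051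
theorem L32053 : sm gc N4764 = N3257 := ded_20_1 L24448 L24445 L32051
theorem L32054 : sm gc N3257 = N4764 := flp_c L32053
theorem L32055 : sm gg N3257 = N4765 := rfl
theorem L32056 : sm gg N4765 = N3257 := flp_g L32055
theorem L32061 : sm gf N4756 = N4765 := ded_29_0 L32056 L24448 L24432 L32015
theorem L32062 : sm gf N4765 = N4756 := flp_f L32061
theorem L32073 : sm gg N3258 = N4769 := rfl
theorem L32074 : sm gg N4769 = N3258 := flp_g L32073
theorem L32103 : sm gb N3262 = N4776 := rfl
theorem L32104 : sm gb N4776 = N3262 := flp_b L32103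
theorem L32113 : sm ga N3263 = N4778 := rfl
theorem L32115 : sm gd N4778 = N3288 := ded_9_2 L24599 L24478 L32113
theorem L32116 : sm gd N3288 = N4778 := flp_d L32115
theorem L32117 : sm gf N4778 = N3265 := ded_11_2 L24490 L24480 L32113
theorem L32118 : sm gf N3265 = N4778 := flp_f L32117
theorem L32119 : sm gc N3263 = N4779 := rfl
theorem L32120 : sm gc N4779 = N3263 := flp_c L32119
theorem L32121 : sm gf N4779 = N3266 := ded_20_2 L24494 L24480 L32119
theorem L32123 : sm gg N3263 = N4780 := rfl
theorem L32124 : sm gg N4780 = N3263 := flp_g L32123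
theorem L32135 : sm gc N3265 = N4783 := rfl
theorem L32136 : sm gc N4783 = N3265 := flp_c L32135
theorem L32139 : sm gg N3265 = N4784 := rfl
theorem L32140 : sm gg N4784 = N3265 := flp_g L32139
theorem L32147 : sm gd N3266 = N4785 := rfl
theorem L32148 : sm gd N4785 = N3266 := flp_d L32147
theorem L32153 : sm gf N3267 = N4787 := rfl
theorem L32157 : sm gd N4787 = N3297 := ded_23_1 L24648 L24498 L32153
theorem L32158 : sm gd N3297 = N4787 := flp_d L32157
theorem L32161 : sm gc N3268 = N4788 := rfl
theorem L32162 : sm gc N4788 = N3268 := flp_c L32161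
theorem L32163 : sm ga N4788 = N3269 := ded_8_1 L24506 L24501 L32161
theorem L32167 : sm gf N3268 = N4789 := rfl
theorem L32169 : sm ga N4789 = N3270 := ded_11_1 L24510 L24501 L32167
theorem L32171 : sm ge N4789 = N3669 := ded_25_1 L26476 L24504 L32167
theorem L32172 : sm ge N3669 = N4789 := flp_e L32171
theorem L32173 : sm gg N3268 = N4790 := rfl
theorem L32175 : sm ga N4790 = N3271 := ded_12_1 L24514 L24501 L32173
theorem L32176 : sm ga N3271 = N4790 := flp_a L32175
theorem L32177 : sm ge N4790 = N3670 := ded_26_1 L26480 L24504 L32173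
theorem L32178 : sm ge N3670 = N4790 := flp_e L32177
theorem L32181 : sm gf N3269 = N4792 := rfl
theorem L32182 : sm gf N4792 = N3269 := flp_f L32181
theorem L32183 : sm gc N4792 = N3270 := ded_20_1 L24510 L24505 L32181
theorem L32184 : sm gc N3270 = N4792 := flp_c L32183
theorem L32193 : sm gg N3270 = N4794 := rfl
theorem L32194 : sm gg N4794 = N3270 := flp_g L32193
theorem L32195 : sm ge N4794 = N3675 := ded_26_1 L26498 L24512 L32193
theorem L32196 : sm ge N3675 = N4794 := flp_e L32195
theorem L32197 : sm gf N4790 = N4794 := ded_29_0 L32194 L24510 L24513 L32176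
theorem L32198 : sm gf N4794 = N4790 := flp_f L32197
theorem L32199 : sm gb N3271 = N4795 := rfl
theorem L32201 : sm ge N4795 = N3676 := ded_15_2 L26502 L24516 L32199
theorem L32202 : sm ge N3676 = N4795 := flp_e L32201
theorem L32203 : sm gg N4795 = N3272 := ded_17_2 L24518 L20386 L20381 L24513 L32199
theorem L32204 : sm gg N3272 = N4795 := flp_g L32203
theorem L32205 : sm gf N3271 = N4796 := rfl
theorem L32206 : sm gf N4796 = N3271 := flp_f L32205
theorem L32207 : sm ga N4796 = N4794 := ded_11_1 L32198 L32175 L32205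
theorem L32208 : sm ga N4794 = N4796 := flp_a L32207
theorem L32209 : sm ge N4796 = N3677 := ded_25_1 L26506 L24516 L32205
theorem L32210 : sm ge N3677 = N4796 := flp_e L32209
theorem L32211 : sm gg N4796 = N4789 := ded_29_3 L32169 L24510 L24513 L32205
theorem L32212 : sm gg N4789 = N4796 := flp_g L32211
theorem L32213 : sm ga N3272 = N4797 := rfl
theorem L32214 : sm ga N4797 = N3272 := flp_a L32213
theorem L32215 : sm ge N4797 = N3682 := ded_10_2 L26530 L24520 L32213
theorem L32216 : sm ge N3682 = N4797 := flp_e L32215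
theorem L32217 : sm gc N3272 = N4798 := rfl
theorem L32218 : sm gc N4798 = N3272 := flp_c L32217
theorem L32219 : sm ge N4798 = N3683 := ded_19_2 L26532 L24520 L32217
theorem L32220 : sm ge N3683 = N4798 := flp_e L32219
theorem L32221 : sm gf N3272 = N4799 := rfl
theorem L32222 : sm gf N4799 = N3272 := flp_f L32221
theorem L32223 : sm ge N4799 = N3684 := ded_25_1 L26534 L24520 L32221
theorem L32224 : sm ge N3684 = N4799 := flp_e L32223
theorem L32227 : sm gb N3273 = N4800 := rfl
theorem L32228 : sm gb N4800 = N3273 := flp_b L32227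
theorem L32229 : sm ge N4800 = N3686 := ded_15_2 L26542 L24524 L32227
theorem L32230 : sm ge N3686 = N4800 := flp_e L32229
theorem L32231 : sm gc N3273 = N4801 := rfl
theorem L32232 : sm gc N4801 = N3273 := flp_c L32231
theorem L32233 : sm ga N4801 = N3274 := ded_8_1 L24528 L24521 L32231
theorem L32234 : sm ga N3274 = N4801 := flp_a L32233
theorem L32235 : sm ge N4801 = N3687 := ded_19_2 L26544 L24524 L32231
theorem L32236 : sm ge N3687 = N4801 := flp_e L32235
theorem L32237 : sm gg N4801 = N3278 := ded_21_2 L24546 L24526 L32231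
theorem L32238 : sm gg N3278 = N4801 := flp_g L32237
theorem L32239 : sm gd N3274 = N4802 := rfl
theorem L32240 : sm gd N4802 = N3274 := flp_d L32239
theorem L32241 : sm gg N4802 = N3280 := ded_24_2 L24560 L24532 L32239
theorem L32242 : sm gg N3280 = N4802 := flp_g L32241
theorem L32243 : sm gf N3274 = N4803 := rfl
theorem L32244 : sm gf N4803 = N3274 := flp_f L32243
theorem L32245 : sm gc N4803 = N3275 := ded_20_1 L24534 L24527 L32243
theorem L32246 : sm gc N3275 = N4803 := flp_c L32245
theorem L32247 : sm ge N4803 = N3689 := ded_25_1 L26554 L24530 L32243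
theorem L32249 : sm gb N3275 = N4804 := rfl
theorem L32250 : sm gb N4804 = N3275 := flp_b L32249
theorem L32251 : sm ge N4804 = N3690 := ded_15_2 L26558 L24536 L32249
theorem L32252 : sm ge N3690 = N4804 := flp_e L32251
theorem L32253 : sm gf N4804 = N3276 := ded_16_2 L24538 L20400 L20393 L24533 L32249
theorem L32255 : sm ga N3276 = N4805 := rfl
theorem L32256 : sm ga N4805 = N3276 := flp_a L32255
theorem L32257 : sm ge N4805 = N3691 := ded_10_2 L26562 L24540 L32255
theorem L32258 : sm ge N3691 = N4805 := flp_e L32257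
theorem L32263 : sm gg N3276 = N4807 := rfl
theorem L32265 : sm ge N4807 = N3693 := ded_26_1 L26566 L24540 L32263
theorem L32266 : sm ge N3693 = N4807 := flp_e L32265
theorem L32269 : sm ga N3277 = N4808 := rfl
theorem L32270 : sm ga N4808 = N3277 := flp_a L32269
theorem L32271 : sm ge N4808 = N3694 := ded_10_2 L26570 L24544 L32269
theorem L32273 : sm gc N3277 = N4809 := rfl
theorem L32275 : sm ge N4809 = N3695 := ded_19_2 L26572 L24544 L32273
theorem L32276 : sm ge N3695 = N4809 := flp_e L32275
theorem L32277 : sm gf N3277 = N4810 := rfl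
theorem L32278 : sm gf N4810 = N3277 := flp_f L32277
theorem L32279 : sm ge N4810 = N3696 := ded_25_1 L26574 L24544 L32277
theorem L32280 : sm ge N3696 = N4810 := flp_e L32279
theorem L32281 : sm gg N3277 = N4811 := rfl
theorem L32282 : sm gg N4811 = N3277 := flp_g L32281
theorem L32283 : sm ge N4811 = N3697 := ded_26_1 L26576 L24544 L32281
theorem L32284 : sm ge N3697 = N4811 := flp_e L32283
theorem L32285 : sm gb N3278 = N4812 := rfl
theorem L32286 : sm gb N4812 = N3278 := flp_b L32285
theorem L32287 : sm ge N4812 = N3698 := ded_15_2 L26578 L24550 L32285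
theorem L32288 : sm ge N3698 = N4812 := flp_e L32287
theorem L32289 : sm gd N3278 = N4813 := rfl
theorem L32290 : sm gd N4813 = N3278 := flp_d L32289
theorem L32291 : sm ga N4813 = N3280 := ded_9_1 L24560 L24548 L32289
theorem L32292 : sm ga N3280 = N4813 := flp_a L32291
theorem L32293 : sm gf N3278 = N4814 := rfl
theorem L32294 : sm gf N4814 = N3278 := flp_f L32293
theorem L32295 : sm ga N4814 = N3281 := ded_11_1 L24564 L24548 L32293
theorem L32297 : sm gc N4814 = N3279 := ded_20_1 L24552 L24545 L32293
theorem L32299 : sm ge N4814 = N3700 := ded_25_1 L26584 L24550 L32293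
theorem L32301 : sm gg N4803 = N4814 := ded_29_1 L32294 L32238 L32233 L32243
theorem L32303 : sm gb N3279 = N4815 := rfl
theorem L32304 : sm gb N4815 = N3279 := flp_b L32303
theorem L32307 : sm gc N3280 = N4816 := rfl
theorem L32308 : sm gc N4816 = N3280 := flp_c L32307
theorem L32309 : sm ge N3280 = N4817 := rfl
theorem L32310 : sm ge N4817 = N3280 := flp_e L32309
theorem L32311 : sm gb N4817 = N3300 := ded_15_1 L24670 L24562 L32309
theorem L32312 : sm gb N3300 = N4817 := flp_b L32311
theorem L32313 : sm gd N4817 = N3703 := ded_22_1 L26596 L21423 L20414 L24559 L32309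
theorem L32314 : sm gd N3703 = N4817 := flp_d L32313
theorem L32315 : sm gf N3280 = N4818 := rfl
theorem L32316 : sm gf N4818 = N3280 := flp_f L32315
theorem L32317 : sm gd N4818 = N3281 := ded_23_1 L24564 L24559 L32315
theorem L32318 : sm gd N3281 = N4818 := flp_d L32317
theorem L32319 : sm gb N3281 = N4819 := rfl
theorem L32320 : sm gb N4819 = N3281 := flp_b L32319
theorem L32321 : sm ge N4819 = N3705 := ded_15_2 L26604 L24568 L32319
theorem L32322 : sm ge N3705 = N4819 := flp_e L32321
theorem L32323 : sm gc N4819 = N4146 := ded_13_2 L28899 L22715 L20422 L24566 L32319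
theorem L32324 : sm gc N4146 = N4819 := flp_c L32323
theorem L32325 : sm gf N4819 = N3302 := ded_16_2 L24684 L20480 L20416 L24563 L32319
theorem L32326 : sm gf N3302 = N4819 := flp_f L32325
theorem L32327 : sm gg N3281 = N4820 := rfl
theorem L32328 : sm gg N4820 = N3281 := flp_g L32327
theorem L32329 : sm ga N4820 = N4803 := ded_12_1 L32301 L32295 L32327
theorem L32330 : sm ga N4803 = N4820 := flp_a L32329
theorem L32333 : sm ge N4820 = N3706 := ded_26_1 L26610 L24568 L32327
theorem L32334 : sm ge N3706 = N4820 := flp_e L32333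
theorem L32335 : sm gf N4801 = N4820 := ded_29_0 L32328 L24564 L24532 L32234
theorem L32336 : sm gf N4820 = N4801 := flp_f L32335
theorem L32343 : sm gc N3283 = N4822 := rfl
theorem L32345 : sm ga N4822 = N3284 := ded_8_1 L24582 L24577 L32343
theorem L32346 : sm ga N3284 = N4822 := flp_a L32345
theorem L32347 : sm ge N4822 = N3708 := ded_19_2 L26622 L24580 L32343
theorem L32348 : sm ge N3708 = N4822 := flp_e L32347
theorem L32349 : sm gf N3283 = N4823 := rfl
theorem L32351 : sm ga N4823 = N3285 := ded_11_1 L24587 L24577 L32349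
theorem L32353 : sm ge N4823 = N3709 := ded_25_1 L26626 L24580 L32349
theorem L32354 : sm ge N3709 = N4823 := flp_e L32353
theorem L32355 : sm gg N3283 = N4824 := rfl
theorem L32356 : sm gg N4824 = N3283 := flp_g L32355
theorem L32357 : sm ga N4824 = N3286 := ded_12_1 L24591 L24577 L32355
theorem L32358 : sm ga N3286 = N4824 := flp_a L32357
theorem L32359 : sm ge N4824 = N3710 := ded_26_1 L26630 L24580 L32355
theorem L32360 : sm ge N3710 = N4824 := flp_e L32359
theorem L32364 : sm gf N3284 = N4826 := rfl
theorem L32365 : sm gf N4826 = N3284 := flp_f L32364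
theorem L32370 : sm gg N3284 = N4827 := rfl
theorem L32374 : sm ge N4827 = N3713 := ded_26_1 L26641 L24584 L32370
theorem L32375 : sm ge N3713 = N4827 := flp_e L32374
theorem L32376 : sm gb N3285 = N4828 := rfl
theorem L32380 : sm gf N4828 = N3287 := ded_16_2 L24595 L20428 L20423 L24586 L32376
theorem L32381 : sm gf N3287 = N4828 := flp_f L32380
theorem L32382 : sm gg N3285 = N4829 := rfl
theorem L32383 : sm gg N4829 = N3285 := flp_g L32382
theorem L32384 : sm ge N4829 = N3715 := ded_26_1 L26649 L24589 L32382
theorem L32385 : sm ge N3715 = N4829 := flp_e L32384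
theorem L32386 : sm gf N4824 = N4829 := ded_29_0 L32383 L24587 L24590 L32358
theorem L32387 : sm gf N4829 = N4824 := flp_f L32386
theorem L32388 : sm gf N3286 = N4830 := rfl
theorem L32392 : sm ge N4830 = N3716 := ded_25_1 L26653 L24593 L32388
theorem L32393 : sm ge N3716 = N4830 := flp_e L32392
theorem L32394 : sm gg N4830 = N4823 := ded_29_3 L32351 L24587 L24590 L32388
theorem L32395 : sm gg N4823 = N4830 := flp_g L32394
theorem L32396 : sm ga N3287 = N4831 := rfl
theorem L32398 : sm ge N4831 = N3717 := ded_10_2 L26659 L24597 L32396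
theorem L32399 : sm ge N3717 = N4831 := flp_e L32398
theorem L32405 : sm gg N3287 = N4833 := rfl
theorem L32409 : sm gb N4833 = N4681 := ded_17_1 L31595 L24114 L20434 L24594 L32405
theorem L32411 : sm gb N3288 = N4834 := rfl
theorem L32412 : sm gb N4834 = N3288 := flp_b L32411
theorem L32413 : sm ge N4834 = N3720 := ded_15_2 L26668 L24601 L32411
theorem L32414 : sm ge N3720 = N4834 := flp_e L32413
theorem L32415 : sm gc N3288 = N4835 := rfl
theorem L32416 : sm gc N4835 = N3288 := flp_c L32415
theorem L32417 : sm ga N4835 = N3289 := ded_8_1 L24605 L24598 L32415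
theorem L32418 : sm ga N3289 = N4835 := flp_a L32417
theorem L32421 : sm gf N4835 = N3293 := ded_20_2 L24624 L24603 L32415
theorem L32422 : sm gf N3293 = N4835 := flp_f L32421
theorem L32423 : sm gd N3289 = N4836 := rfl
theorem L32424 : sm gd N4836 = N3289 := flp_d L32423
theorem L32426 : sm gf N4836 = N3295 := ded_23_2 L24638 L24609 L32423
theorem L32428 : sm gg N3289 = N4837 := rfl
theorem L32429 : sm gg N4837 = N3289 := flp_g L32428
theorem L32430 : sm gc N4837 = N3290 := ded_21_1 L24612 L24604 L32428
theorem L32431 : sm gc N3290 = N4837 := flp_c L32430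
theorem L32434 : sm gb N3290 = N4838 := rfl
theorem L32438 : sm gg N4838 = N3291 := ded_17_2 L24616 L20443 L20436 L24611 L32434
theorem L32440 : sm ga N3291 = N4839 := rfl
theorem L32442 : sm ge N4839 = N3725 := ded_10_2 L26689 L24618 L32440
theorem L32443 : sm ge N3725 = N4839 := flp_e L32442
theorem L32444 : sm gc N3291 = N4840 := rfl
theorem L32445 : sm gc N4840 = N3291 := flp_c L32444
theorem L32449 : sm gf N3291 = N4841 := rfl
theorem L32450 : sm gf N4841 = N3291 := flp_f L32449
theorem L32451 : sm ge N4841 = N3727 := ded_25_1 L26694 L24618 L32449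
theorem L32452 : sm ge N3727 = N4841 := flp_e L32451
theorem L32453 : sm gb N4841 = N4677 := ded_16_1 L31572 L24110 L20449 L24615 L32449
theorem L32454 : sm gb N4677 = N4841 := flp_b L32453
theorem L32455 : sm ga N3292 = N4842 := rfl
theorem L32457 : sm ge N4842 = N3728 := ded_10_2 L26698 L24622 L32455
theorem L32458 : sm ge N3728 = N4842 := flp_e L32457
theorem L32459 : sm gb N4842 = N4808 := ded_7_2 L32270 L24542 L20408 L10443 L5153 L10456 L20451 L24619 L32455
theorem L32460 : sm gb N4808 = N4842 := flp_b L32459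
theorem L32461 : sm gc N3292 = N4843 := rfl
theorem L32462 : sm gc N4843 = N3292 := flp_c L32461
theorem L32465 : sm gf N3292 = N4844 := rfl
theorem L32466 : sm gf N4844 = N3292 := flp_f L32465
theorem L32467 : sm ge N4844 = N3730 := ded_25_1 L26704 L24622 L32465
theorem L32468 : sm ge N3730 = N4844 := flp_e L32467
theorem L32469 : sm gg N3292 = N4845 := rfl
theorem L32470 : sm gg N4845 = N3292 := flp_g L32469
theorem L32471 : sm ge N4845 = N3731 := ded_26_1 L26706 L24622 L32469
theorem L32473 : sm gb N3293 = N4846 := rfl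
theorem L32477 : sm gd N3293 = N4847 := rfl
theorem L32478 : sm gd N4847 = N3293 := flp_d L32477
theorem L32479 : sm ga N4847 = N3295 := ded_9_1 L24638 L24626 L32477
theorem L32480 : sm ga N3295 = N4847 := flp_a L32479
theorem L32481 : sm gg N3293 = N4848 := rfl
theorem L32482 : sm gg N4848 = N3293 := flp_g L32481
theorem L32489 : sm gf N4848 = N4837 := ded_29_2 L32429 L32418 L32421 L32481
theorem L32491 : sm gb N3294 = N4849 := rfl
theorem L32492 : sm gb N4849 = N3294 := flp_b L32491
theorem L32493 : sm ge N4849 = N3735 := ded_15_2 L26722 L24634 L32491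
theorem L32494 : sm ge N3735 = N4849 := flp_e L32493
theorem L32497 : sm ge N3295 = N4851 := rfl
theorem L32499 : sm gb N4851 = N3303 := ded_15_1 L24690 L24640 L32497
theorem L32500 : sm gb N3303 = N4851 := flp_b L32499
theorem L32503 : sm gg N3295 = N4852 := rfl
theorem L32504 : sm gg N4852 = N3295 := flp_g L32503
theorem L32507 : sm gb N3296 = N4853 := rfl
theorem L32511 : sm gc N4853 = N4561 := ded_13_2 L30941 L23765 L20466 L24644 L32507
theorem L32512 : sm gc N4561 = N4853 := flp_c L32511
theorem L32513 : sm gg N4853 = N3305 := ded_17_2 L24705 L20495 L20460 L24641 L32507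
theorem L32514 : sm gg N3305 = N4853 := flp_g L32513
theorem L32515 : sm gf N3296 = N4854 := rfl
theorem L32519 : sm gc N4854 = N3297 := ded_20_1 L24648 L24644 L32515
theorem L32520 : sm gc N3297 = N4854 := flp_c L32519
theorem L32523 : sm gg N4854 = N4835 := ded_29_3 L32417 L24608 L24641 L32515
theorem L32525 : sm gb N3297 = N4855 := rfl
theorem L32526 : sm gb N4855 = N3297 := flp_b L32525
theorem L32527 : sm ge N4855 = N3741 := ded_15_2 L26748 L24652 L32525
theorem L32528 : sm ge N3741 = N4855 := flp_e L32527
theorem L32529 : sm gf N4855 = N4563 := ded_16_2 L30957 L23770 L20466 L24647 L32525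
theorem L32530 : sm gf N4563 = N4855 := flp_f L32529
theorem L32531 : sm ga N3298 = N4856 := rfl
theorem L32533 : sm gc N4856 = N3742 := ded_8_2 L26752 L24660 L32531
theorem L32534 : sm gc N3742 = N4856 := flp_c L32533
theorem L32535 : sm ge N4856 = N3742 := ded_10_2 L26752 L24658 L32531
theorem L32536 : sm ge N3742 = N4856 := flp_e L32535
theorem L32537 : sm gd N3298 = N4857 := rfl
theorem L32538 : sm gd N4857 = N3298 := flp_d L32537
theorem L32539 : sm gb N4857 = N3299 := ded_14_1 L24662 L24655 L32537
theorem L32541 : sm gf N3298 = N4858 := rfl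
theorem L32542 : sm gf N4858 = N3298 := flp_f L32541
theorem L32545 : sm ge N4858 = N3744 := ded_25_1 L26758 L24658 L32541
theorem L32546 : sm ge N3744 = N4858 := flp_e L32545
theorem L32547 : sm gb N4858 = N4578 := ded_16_1 L31031 L23818 L20474 L24655 L32541
theorem L32548 : sm gb N4578 = N4858 := flp_b L32547
theorem L32549 : sm gg N3298 = N4859 := rfl
theorem L32550 : sm gg N4859 = N3298 := flp_g L32549
theorem L32551 : sm gc N4859 = N3745 := ded_21_1 L26762 L24660 L32549
theorem L32552 : sm gc N3745 = N4859 := flp_c L32551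
theorem L32553 : sm ge N4859 = N3745 := ded_26_1 L26762 L24658 L32549
theorem L32554 : sm ge N3745 = N4859 := flp_e L32553
theorem L32555 : sm gb N4859 = N4582 := ded_17_1 L31053 L23822 L20476 L24655 L32549
theorem L32556 : sm gb N4582 = N4859 := flp_b L32555
theorem L32557 : sm ge N3299 = N4860 := rfl
theorem L32559 : sm ga N4860 = N3300 := ded_10_1 L24670 L24664 L32557
theorem L32561 : sm gf N4860 = N4575 := ded_25_2 L31020 L24666 L32557
theorem L32562 : sm gf N4575 = N4860 := flp_f L32561
theorem L32567 : sm gf N3300 = N4861 := rfl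
theorem L32569 : sm ga N4861 = N4575 := ded_11_1 L32562 L32559 L32567
theorem L32573 : sm gd N4861 = N3749 := ded_23_1 L26776 L24672 L32567
theorem L32574 : sm gd N3749 = N4861 := flp_d L32573
theorem L32577 : sm gg N4861 = N4574 := ded_29_3 L31010 L28270 L28271 L32567
theorem L32579 : sm gb N3301 = N4862 := rfl
theorem L32580 : sm gb N4862 = N3301 := flp_b L32579
theorem L32581 : sm gd N4862 = N3302 := ded_14_2 L24684 L24680 L32579
theorem L32582 : sm gd N3302 = N4862 := flp_d L32581
theorem L32583 : sm ga N3302 = N4863 := rfl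
theorem L32584 : sm ga N4863 = N3302 := flp_a L32583
theorem L32585 : sm gc N4863 = N4148 := ded_8_2 L28915 L24688 L32583
theorem L32586 : sm gc N4148 = N4863 := flp_c L32585
theorem L32587 : sm ge N4863 = N3751 := ded_10_2 L26788 L24686 L32583
theorem L32588 : sm ge N3751 = N4863 := flp_e L32587
theorem L32589 : sm gg N3302 = N4864 := rfl
theorem L32590 : sm gg N4864 = N3302 := flp_g L32589
theorem L32591 : sm gc N4864 = N4149 := ded_21_1 L28919 L24688 L32589
theorem L32592 : sm gc N4149 = N4864 := flp_c L32591
theorem L32595 : sm gb N4864 = N4573 := ded_17_1 L31003 L23798 L20488 L24683 L32589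
theorem L32596 : sm gb N4573 = N4864 := flp_b L32595
theorem L32597 : sm gg N3303 = N4865 := rfl
theorem L32601 : sm gd N4865 = N3756 := ded_24_1 L26813 L24695 L32597
theorem L32602 : sm gd N3756 = N4865 := flp_d L32601
theorem L32603 : sm ge N4865 = N3304 := ded_26_1 L24697 L24689 L32597
theorem L32604 : sm ge N3304 = N4865 := flp_e L32603
theorem L32607 : sm gb N3304 = N4866 := rfl
theorem L32608 : sm gb N4866 = N3304 := flp_b L32607
theorem L32611 : sm ga N3305 = N4867 := rfl
theorem L32612 : sm ga N4867 = N3305 := flp_a L32611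
theorem L32615 : sm ge N4867 = N3758 := ded_10_2 L26821 L24707 L32611
theorem L32634 : sm gg N3306 = N4872 := rfl
theorem L32635 : sm gg N4872 = N3306 := flp_g L32634
theorem L32636 : sm gd N3307 = N4873 := rfl
theorem L32637 : sm gd N4873 = N3307 := flp_d L32636
theorem L32638 : sm ga N4873 = N3778 := ded_9_1 L26917 L24715 L32636
theorem L32639 : sm ga N3778 = N4873 := flp_a L32638
theorem L32655 : sm gd N3310 = N4876 := rfl
theorem L32656 : sm gd N4876 = N3310 := flp_d L32655
theorem L32657 : sm ga N4876 = N3786 := ded_9_1 L26964 L24742 L32655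
theorem L32658 : sm ga N3786 = N4876 := flp_a L32657
theorem L32672 : sm gc N3312 = N4878 := rfl
theorem L32673 : sm gc N4878 = N3312 := flp_c L32672
theorem L32674 : sm ge N4878 = N3792 := ded_19_2 L26991 L24762 L32672
theorem L32676 : sm gf N4878 = N3792 := ded_20_2 L26991 L24764 L32672
theorem L32677 : sm gf N3792 = N4878 := flp_f L32676
theorem L32686 : sm ga N3314 = N4880 := rfl
theorem L32687 : sm ga N4880 = N3314 := flp_a L32686
theorem L32688 : sm ge N4880 = N3803 := ded_10_2 L27039 L24776 L32686
theorem L32689 : sm ge N3803 = N4880 := flp_e L32688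
theorem L32690 : sm gc N3314 = N4881 := rfl
theorem L32694 : sm gb N4881 = N3319 := ded_13_1 L24808 L20591 L20581 L24773 L32690
theorem L32695 : sm gb N3319 = N4881 := flp_b L32694
theorem L32696 : sm gg N3314 = N4882 := rfl
theorem L32697 : sm gg N4882 = N3314 := flp_g L32696
theorem L32698 : sm ge N4882 = N3805 := ded_26_1 L27045 L24776 L32696
theorem L32700 : sm gb N3315 = N4883 := rfl
theorem L32702 : sm ge N4883 = N3806 := ded_15_2 L27047 L24782 L32700
theorem L32704 : sm ga N3316 = N4884 := rfl
theorem L32706 : sm ge N4884 = N3807 := ded_10_2 L27049 L24788 L32704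
theorem L32708 : sm gc N3316 = N4885 := rfl
theorem L32709 : sm gc N4885 = N3316 := flp_c L32708
theorem L32710 : sm ge N4885 = N3808 := ded_19_2 L27051 L24788 L32708
theorem L32712 : sm gb N4885 = N3323 := ded_13_1 L24834 L20607 L20587 L24785 L32708
theorem L32714 : sm gf N3316 = N4886 := rfl
theorem L32715 : sm gf N4886 = N3316 := flp_f L32714
theorem L32716 : sm ge N4886 = N3809 := ded_25_1 L27055 L24788 L32714
theorem L32717 : sm ge N3809 = N4886 := flp_e L32716
theorem L32722 : sm gc N3318 = N4888 := rfl
theorem L32724 : sm ga N4888 = N3319 := ded_8_1 L24808 L24799 L32722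
theorem L32725 : sm ga N3319 = N4888 := flp_a L32724
theorem L32726 : sm ge N4888 = N3812 := ded_19_2 L27061 L24804 L32722
theorem L32728 : sm gf N4888 = N3327 := ded_20_2 L24858 L24806 L32722
theorem L32729 : sm gf N3327 = N4888 := flp_f L32728
theorem L32730 : sm gg N4888 = N3861 := ded_21_2 L27348 L24975 L32722
theorem L32731 : sm gg N3861 = N4888 := flp_g L32730
theorem L32732 : sm gd N3319 = N4889 := rfl
theorem L32733 : sm gd N4889 = N3319 := flp_d L32732
theorem L32734 : sm gf N4889 = N3329 := ded_23_2 L24874 L24812 L32732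
theorem L32736 : sm gg N3319 = N4890 := rfl
theorem L32737 : sm gg N4890 = N3319 := flp_g L32736
theorem L32738 : sm ga N4890 = N3861 := ded_12_1 L32731 L32724 L32736
theorem L32739 : sm ga N3861 = N4890 := flp_a L32738
theorem L32740 : sm gc N4890 = N3320 := ded_21_1 L24814 L24807 L32736
theorem L32741 : sm gc N3320 = N4890 := flp_c L32740
theorem L32742 : sm ge N4890 = N3814 := ded_26_1 L27071 L24810 L32736
theorem L32743 : sm ge N3814 = N4890 := flp_e L32742
theorem L32752 : sm gc N3322 = N4892 := rfl
theorem L32753 : sm gc N4892 = N3322 := flp_c L32752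
theorem L32754 : sm ga N4892 = N3323 := ded_8_1 L24834 L24825 L32752
theorem L32755 : sm ga N3323 = N4892 := flp_a L32754
theorem L32756 : sm ge N4892 = N3817 := ded_19_2 L27114 L24830 L32752
theorem L32758 : sm gg N4892 = N3333 := ded_21_2 L24899 L24832 L32752
theorem L32759 : sm gg N3333 = N4892 := flp_g L32758
theorem L32760 : sm gd N3323 = N4893 := rfl
theorem L32761 : sm gd N4893 = N3323 := flp_d L32760
theorem L32762 : sm gg N4893 = N3335 := ded_24_2 L24915 L24838 L32760
theorem L32763 : sm gg N3335 = N4893 := flp_g L32762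
theorem L32764 : sm gf N3323 = N4894 := rfl
theorem L32765 : sm gf N4894 = N3323 := flp_f L32764
theorem L32768 : sm ge N4894 = N3819 := ded_25_1 L27124 L24836 L32764
theorem L32769 : sm ge N3819 = N4894 := flp_e L32768
theorem L32770 : sm gc N3325 = N4895 := rfl
theorem L32772 : sm ga N4895 = N3849 := ded_8_1 L27281 L27138 L32770
theorem L32773 : sm ga N3849 = N4895 := flp_a L32772
theorem L32776 : sm gg N4895 = N3844 := ded_21_2 L27256 L27139 L32770
theorem L32777 : sm gg N3844 = N4895 := flp_g L32776
theorem L32778 : sm gc N3326 = N4896 := rfl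
theorem L32779 : sm gc N4896 = N3326 := flp_c L32778
theorem L32780 : sm ge N4896 = N3823 := ded_19_2 L27168 L24856 L32778
theorem L32781 : sm ge N3823 = N4896 := flp_e L32780
theorem L32782 : sm gb N3327 = N4897 := rfl
theorem L32783 : sm gb N4897 = N3327 := flp_b L32782
theorem L32784 : sm ge N4897 = N3825 := ded_15_2 L27182 L24862 L32782
theorem L32785 : sm ge N3825 = N4897 := flp_e L32784
theorem L32786 : sm gd N3327 = N4898 := rfl
theorem L32787 : sm gd N4898 = N3327 := flp_d L32786
theorem L32790 : sm gg N3327 = N4899 := rfl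
theorem L32791 : sm gg N4899 = N3327 := flp_g L32790
theorem L32792 : sm ga N4899 = N3330 := ded_12_1 L24876 L24860 L32790
theorem L32793 : sm ga N3330 = N4899 := flp_a L32792
theorem L32794 : sm gc N4899 = N3328 := ded_21_1 L24864 L24857 L32790
theorem L32795 : sm gc N3328 = N4899 := flp_c L32794
theorem L32796 : sm ge N4899 = N3827 := ded_26_1 L27188 L24862 L32790
theorem L32797 : sm ge N3827 = N4899 := flp_e L32796
theorem L32798 : sm gf N4890 = N4899 := ded_29_0 L32791 L32729 L32730 L32739
theorem L32799 : sm gf N4899 = N4890 := flp_f L32798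
theorem L32802 : sm ge N3329 = N4901 := rfl
theorem L32803 : sm ge N4901 = N3329 := flp_e L32802
theorem L32804 : sm gd N4901 = N3829 := ded_22_1 L27198 L21731 L20633 L24873 L32802
theorem L32806 : sm gg N3329 = N4902 := rfl
theorem L32807 : sm gg N4902 = N3329 := flp_g L32806
theorem L32808 : sm gd N4902 = N3330 := ded_24_1 L24876 L24873 L32806
theorem L32809 : sm gd N3330 = N4902 := flp_d L32808
theorem L32810 : sm gb N3330 = N4903 := rfl
theorem L32812 : sm ge N4903 = N3831 := ded_15_2 L27204 L24880 L32810
theorem L32813 : sm ge N3831 = N4903 := flp_e L32812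
theorem L32814 : sm gc N3332 = N4904 := rfl
theorem L32815 : sm gc N4904 = N3332 := flp_c L32814
theorem L32817 : sm ge N4904 = N3833 := ded_19_2 L27214 L24896 L32814
theorem L32818 : sm ge N3833 = N4904 := flp_e L32817
theorem L32821 : sm gb N3333 = N4905 := rfl
theorem L32822 : sm gb N4905 = N3333 := flp_b L32821
theorem L32823 : sm ge N4905 = N3835 := ded_15_2 L27222 L24903 L32821
theorem L32824 : sm ge N3835 = N4905 := flp_e L32823
theorem L32825 : sm gd N3333 = N4906 := rfl
theorem L32826 : sm gd N4906 = N3333 := flp_d L32825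
theorem L32827 : sm ga N4906 = N3335 := ded_9_1 L24915 L24901 L32825
theorem L32828 : sm ga N3335 = N4906 := flp_a L32827
theorem L32829 : sm gf N3333 = N4907 := rfl
theorem L32830 : sm gf N4907 = N3333 := flp_f L32829
theorem L32831 : sm ga N4907 = N3336 := ded_11_1 L24917 L24901 L32829
theorem L32835 : sm ge N4907 = N3837 := ded_25_1 L27228 L24903 L32829
theorem L32836 : sm ge N3837 = N4907 := flp_e L32835
theorem L32837 : sm gg N4894 = N4907 := ded_29_1 L32830 L32759 L32754 L32764
theorem L32839 : sm gc N3335 = N4908 := rfl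
theorem L32840 : sm gc N4908 = N3335 := flp_c L32839
theorem L32841 : sm ge N3335 = N4909 := rfl
theorem L32842 : sm ge N4909 = N3335 := flp_e L32841
theorem L32843 : sm gd N4909 = N3839 := ded_22_1 L27238 L21756 L20649 L24914 L32841
theorem L32844 : sm gd N3839 = N4909 := flp_d L32843
theorem L32845 : sm gf N3335 = N4910 := rfl
theorem L32846 : sm gf N4910 = N3335 := flp_f L32845
theorem L32847 : sm gd N4910 = N3336 := ded_23_1 L24917 L24914 L32845
theorem L32848 : sm gd N3336 = N4910 := flp_d L32847
theorem L32849 : sm gb N3336 = N4911 := rfl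
theorem L32850 : sm gb N4911 = N3336 := flp_b L32849
theorem L32851 : sm ge N4911 = N3841 := ded_15_2 L27244 L24921 L32849
theorem L32852 : sm ge N3841 = N4911 := flp_e L32851
theorem L32853 : sm gg N3336 = N4912 := rfl
theorem L32854 : sm gg N4912 = N3336 := flp_g L32853
theorem L32855 : sm ga N4912 = N4894 := ded_12_1 L32837 L32831 L32853
theorem L32856 : sm ga N4894 = N4912 := flp_a L32855
theorem L32859 : sm ge N4912 = N3842 := ded_26_1 L27246 L24921 L32853
theorem L32860 : sm ge N3842 = N4912 := flp_e L32859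
theorem L32861 : sm gf N4892 = N4912 := ded_29_0 L32854 L24917 L24838 L32755
theorem L32863 : sm gb N3339 = N4913 := rfl
theorem L32864 : sm gb N4913 = N3339 := flp_b L32863
theorem L32865 : sm ge N4913 = N3862 := ded_15_2 L27354 L24943 L32863
theorem L32866 : sm ge N3862 = N4913 := flp_e L32865
theorem L32867 : sm gd N3339 = N4914 := rfl
theorem L32868 : sm gd N4914 = N3339 := flp_d L32867
theorem L32869 : sm ga N4914 = N3341 := ded_9_1 L24978 L24941 L32867
theorem L32870 : sm ga N3341 = N4914 := flp_a L32869
theorem L32871 : sm gf N3339 = N4915 := rfl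
theorem L32872 : sm gf N4915 = N3339 := flp_f L32871
theorem L32879 : sm gg N4055 = N4915 := ded_29_1 L32872 L28397 L28392 L28402
theorem L32880 : sm gg N4915 = N4055 := flp_g L32879
theorem L32881 : sm gc N3341 = N4916 := rfl
theorem L32882 : sm gc N4916 = N3341 := flp_c L32881
theorem L32883 : sm ge N3341 = N4917 := rfl
theorem L32885 : sm gd N4917 = N3866 := ded_22_1 L27370 L21808 L20665 L24977 L32883
theorem L32886 : sm gd N3866 = N4917 := flp_d L32885
theorem L32887 : sm gf N3341 = N4918 := rfl
theorem L32888 : sm gf N4918 = N3341 := flp_f L32887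
theorem L32891 : sm gb N3342 = N4919 := rfl
theorem L32892 : sm gb N4919 = N3342 := flp_b L32891
theorem L32893 : sm ge N4919 = N3868 := ded_15_2 L27376 L24984 L32891
theorem L32894 : sm ge N3868 = N4919 := flp_e L32893
theorem L32895 : sm gc N4919 = N4911 := ded_13_2 L32850 L24918 L20673 L24982 L32891
theorem L32896 : sm gc N4911 = N4919 := flp_c L32895
theorem L32897 : sm gg N3342 = N4920 := rfl
theorem L32898 : sm gg N4920 = N3342 := flp_g L32897
theorem L32901 : sm gc N4920 = N3343 := ded_21_1 L24986 L24982 L32897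
theorem L32902 : sm gc N3343 = N4920 := flp_c L32901
theorem L32905 : sm gf N4053 = N4920 := ded_29_0 L32898 L24980 L22429 L28393
theorem L32913 : sm gb N3345 = N4922 := rfl
theorem L32915 : sm ge N4922 = N3874 := ded_15_2 L27417 L25008 L32913
theorem L32916 : sm ge N3874 = N4922 := flp_e L32915
theorem L32935 : sm ge N3347 = N4926 := rfl
theorem L32936 : sm ge N4926 = N3347 := flp_e L32935
theorem L32940 : sm gg N3347 = N4927 := rfl
theorem L32941 : sm gg N4927 = N3347 := flp_g L32940
theorem L32942 : sm gd N4927 = N3348 := ded_24_1 L25026 L25022 L32940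
theorem L32950 : sm gc N3349 = N4929 := rfl
theorem L32951 : sm gc N4929 = N3349 := flp_c L32950
theorem L32952 : sm ga N4929 = N3355 := ded_8_1 L25072 L25034 L32950
theorem L32953 : sm ga N3355 = N4929 := flp_a L32952
theorem L32954 : sm ge N3349 = N4930 := rfl
theorem L32955 : sm ge N4930 = N3349 := flp_e L32954
theorem L32956 : sm ga N4930 = N3356 := ded_10_1 L25074 L25034 L32954
theorem L32957 : sm ga N3356 = N4930 := flp_a L32956
theorem L32958 : sm gb N4930 = N3480 := ded_15_1 L25622 L25036 L32954
theorem L32959 : sm gb N3480 = N4930 := flp_b L32958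
theorem L32960 : sm gf N3349 = N4931 := rfl
theorem L32962 : sm ga N4931 = N3357 := ded_11_1 L25078 L25034 L32960
theorem L32963 : sm ga N3357 = N4931 := flp_a L32962
theorem L32966 : sm gg N3349 = N4932 := rfl
theorem L32967 : sm gg N4932 = N3349 := flp_g L32966
theorem L32968 : sm ga N4932 = N3358 := ded_12_1 L25082 L25034 L32966
theorem L32969 : sm ga N3358 = N4932 := flp_a L32968
theorem L32970 : sm gd N4932 = N3351 := ded_24_1 L25044 L25031 L32966
theorem L32976 : sm gb N3351 = N4934 := rfl
theorem L32977 : sm gb N4934 = N3351 := flp_b L32976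
theorem L32978 : sm gg N4934 = N3484 := ded_17_2 L25640 L20963 L20697 L25043 L32976
theorem L32980 : sm gc N3352 = N4935 := rfl
theorem L32982 : sm ga N4935 = N4484 := ded_8_1 L30505 L25052 L32980
theorem L32983 : sm ga N4484 = N4935 := flp_a L32982
theorem L32986 : sm gd N4930 = N4935 := ded_9_0 L32982 L30509 L32957
theorem L32987 : sm gd N4935 = N4930 := flp_d L32986
theorem L32990 : sm gf N3352 = N4936 := rfl
theorem L32992 : sm ga N4936 = N4485 := ded_11_1 L30513 L25052 L32990
theorem L33002 : sm gb N3353 = N4938 := rfl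
theorem L33003 : sm gb N4938 = N3353 := flp_b L33002
theorem L33006 : sm gf N4938 = N4584 := ded_16_2 L31069 L23846 L24225 L25055 L33002
theorem L33007 : sm gf N4584 = N4938 := flp_f L33006
theorem L33008 : sm gb N3354 = N4939 := rfl
theorem L33009 : sm gb N4939 = N3354 := flp_b L33008
theorem L33010 : sm ge N4939 = N4934 := ded_15_2 L32977 L25070 L33008
theorem L33011 : sm ge N4934 = N4939 := flp_e L33010
theorem L33014 : sm gd N3355 = N4940 := rfl
theorem L33015 : sm gd N4940 = N3355 := flp_d L33014
theorem L33016 : sm gb N4940 = N4102 := ded_14_1 L29443 L29440 L33014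
theorem L33017 : sm gb N4102 = N4940 := flp_b L33016
theorem L33018 : sm gc N3356 = N4940 := ded_28_0 L33015 L25072 L20701 L20698 L25049 L32980 L32987 L32956
theorem L33019 : sm gc N4940 = N3356 := flp_c L33018
theorem L33020 : sm ge N3355 = N4940 := ded_32_0 L33015 L25072 L20701 L20698 L24224 L24248 L21665 L19069 L6450 L3061 L2568 L5096 L10307 L18743 L20735 L20733 L18570 L5754 L15157 L4646 L2267 L1787 L963 L552 L334 L227 L111 L71 L35 L70 L105 L180 L330 L17868 L546 L346 L224 L155 L97 L67 L32 L30 L68 L98 L156 L309 L348 L547 L17869 L331 L182 L226 L234 L354 L589 L1028 L1902 L1904 L3086 L17676 L4402 L4400 L4403 L4969 L4965 L2437 L17647 L2210 L1174 L1188 L2231 L4577 L9259 L19722 L23015 L29434 L29440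
theorem L33021 : sm ge N4940 = N3355 := flp_e L33020
theorem L33022 : sm gf N3355 = N4941 := rfl
theorem L33023 : sm gf N4941 = N3355 := flp_f L33022
theorem L33024 : sm gc N4941 = N3357 := ded_20_1 L25078 L25071 L33022
theorem L33025 : sm gc N3357 = N4941 := flp_c L33024
theorem L33026 : sm gg N3355 = N4942 := rfl
theorem L33027 : sm gg N4942 = N3355 := flp_g L33026
theorem L33030 : sm gf N3356 = N4943 := rfl
theorem L33031 : sm gf N4943 = N3356 := flp_f L33030
theorem L33034 : sm gg N3356 = N4944 := rfl
theorem L33035 : sm gg N4944 = N3356 := flp_g L33034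
theorem L33038 : sm gb N3357 = N4945 := rfl
theorem L33042 : sm gf N4945 = N3368 := ded_16_2 L25138 L20717 L20703 L25077 L33038
theorem L33043 : sm gf N3368 = N4945 := flp_f L33042
theorem L33044 : sm gg N3357 = N4946 := rfl
theorem L33045 : sm gg N4946 = N3357 := flp_g L33044
theorem L33048 : sm gf N4932 = N4946 := ded_29_0 L33045 L25078 L25081 L32969
theorem L33049 : sm gf N4946 = N4932 := flp_f L33048
theorem L33050 : sm gb N3358 = N4947 := rfl
theorem L33052 : sm gd N4947 = N3361 := ded_14_2 L25094 L25084 L33050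
theorem L33054 : sm gg N4947 = N3369 := ded_17_2 L25142 L20723 L20703 L25081 L33050
theorem L33055 : sm gg N3369 = N4947 := flp_g L33054
theorem L33064 : sm ga N3359 = N4949 := rfl
theorem L33065 : sm ga N4949 = N3359 := flp_a L33064
theorem L33066 : sm gf N4949 = N3370 := ded_11_2 L25146 L25088 L33064
theorem L33067 : sm gf N3370 = N4949 := flp_f L33066
theorem L33068 : sm gc N3359 = N4950 := rfl
theorem L33069 : sm gc N4950 = N3359 := flp_c L33068
theorem L33070 : sm gf N4950 = N3371 := ded_20_2 L25148 L25088 L33068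
theorem L33072 : sm gg N3359 = N4951 := rfl
theorem L33073 : sm gg N4951 = N3359 := flp_g L33072
theorem L33074 : sm gb N3360 = N4952 := rfl
theorem L33075 : sm gb N4952 = N3360 := flp_b L33074
theorem L33076 : sm ga N3361 = N4953 := rfl
theorem L33077 : sm ga N4953 = N3361 := flp_a L33076
theorem L33078 : sm gg N4953 = N3373 := ded_12_2 L25152 L25096 L33076
theorem L33079 : sm gg N3373 = N4953 := flp_g L33078
theorem L33080 : sm gc N3361 = N4954 := rfl
theorem L33082 : sm gg N4954 = N3374 := ded_21_2 L25154 L25096 L33080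
theorem L33083 : sm gg N3374 = N4954 := flp_g L33082
theorem L33084 : sm gf N3361 = N4955 := rfl
theorem L33085 : sm gf N4955 = N3361 := flp_f L33084
theorem L33086 : sm gb N3362 = N4956 := rfl
theorem L33087 : sm gb N4956 = N3362 := flp_b L33086
theorem L33088 : sm gf N3363 = N4957 := rfl
theorem L33089 : sm gf N4957 = N3363 := flp_f L33088
theorem L33090 : sm ga N4957 = N3379 := ded_11_1 L25176 L25106 L33088
theorem L33091 : sm ga N3379 = N4957 := flp_a L33090
theorem L33092 : sm gc N4957 = N3366 := ded_20_1 L25126 L25110 L33088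
theorem L33094 : sm gd N4957 = N4100 := ded_23_1 L28630 L25112 L33088
theorem L33096 : sm ge N4957 = N3364 := ded_25_1 L25114 L25103 L33088
theorem L33097 : sm ge N3364 = N4957 := flp_e L33096
theorem L33098 : sm gg N3363 = N4958 := rfl
theorem L33100 : sm ga N4958 = N3380 := ded_12_1 L25182 L25106 L33098
theorem L33101 : sm ga N3380 = N4958 := flp_a L33100
theorem L33102 : sm gc N4958 = N3367 := ded_21_1 L25132 L25110 L33098
theorem L33104 : sm gd N4958 = N4101 := ded_24_1 L28638 L25112 L33098
theorem L33105 : sm gd N4101 = N4958 := flp_d L33104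
theorem L33106 : sm ge N4958 = N3365 := ded_26_1 L25120 L25103 L33098
theorem L33108 : sm gb N3364 = N4959 := rfl
theorem L33109 : sm gb N4959 = N3364 := flp_b L33108
theorem L33110 : sm gb N3365 = N4960 := rfl
theorem L33111 : sm gb N4960 = N3365 := flp_b L33110
theorem L33112 : sm gb N3366 = N4961 := rfl
theorem L33113 : sm gb N4961 = N3366 := flp_b L33112
theorem L33114 : sm ge N4961 = N3368 := ded_15_2 L25138 L25130 L33112
theorem L33115 : sm ge N3368 = N4961 := flp_e L33114
theorem L33116 : sm gb N3367 = N4962 := rfl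
theorem L33117 : sm gb N4962 = N3367 := flp_b L33116
theorem L33118 : sm ge N4962 = N3369 := ded_15_2 L25142 L25136 L33116
theorem L33119 : sm ge N3369 = N4962 := flp_e L33118
theorem L33120 : sm ga N3368 = N4963 := rfl
theorem L33121 : sm ga N4963 = N3368 := flp_a L33120
theorem L33122 : sm gd N4963 = N3370 := ded_9_2 L25146 L25140 L33120
theorem L33123 : sm gd N3370 = N4963 := flp_d L33122
theorem L33124 : sm gc N3368 = N4964 := rfl
theorem L33125 : sm gc N4964 = N3368 := flp_c L33124
theorem L33126 : sm gg N3368 = N4965 := rfl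
theorem L33127 : sm gg N4965 = N3368 := flp_g L33126
theorem L33130 : sm ga N3369 = N4966 := rfl
theorem L33132 : sm gd N4966 = N3373 := ded_9_2 L25152 L25144 L33130
theorem L33133 : sm gd N3373 = N4966 := flp_d L33132
theorem L33134 : sm gc N3369 = N4967 := rfl
theorem L33135 : sm gc N4967 = N3369 := flp_c L33134
theorem L33136 : sm gf N3369 = N4968 := rfl
theorem L33137 : sm gf N4968 = N3369 := flp_f L33136
theorem L33140 : sm gb N3370 = N4969 := rfl
theorem L33141 : sm gb N4969 = N3370 := flp_b L33140
theorem L33142 : sm gc N3370 = N4970 := rfl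
theorem L33143 : sm gc N4970 = N3370 := flp_c L33142
theorem L33144 : sm ga N4970 = N3371 := ded_8_1 L25148 L25145 L33142
theorem L33145 : sm ga N3371 = N4970 := flp_a L33144
theorem L33146 : sm gg N3370 = N4971 := rfl
theorem L33147 : sm gg N4971 = N3370 := flp_g L33146
theorem L33148 : sm ga N4971 = N3372 := ded_12_1 L25150 L25145 L33146
theorem L33150 : sm gf N4971 = N4951 := ded_29_2 L33073 L33064 L33066 L33146
theorem L33151 : sm gf N4951 = N4971 := flp_f L33150
theorem L33154 : sm gg N3371 = N4973 := rfl
theorem L33155 : sm gg N4973 = N3371 := flp_g L33154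
theorem L33158 : sm gf N3372 = N4974 := rfl
theorem L33159 : sm gf N4974 = N3372 := flp_f L33158
theorem L33160 : sm ga N4974 = N4951 := ded_11_1 L33151 L33148 L33158
theorem L33162 : sm gg N4974 = N4949 := ded_29_3 L33065 L25087 L25149 L33158
theorem L33163 : sm gg N4949 = N4974 := flp_g L33162
theorem L33164 : sm gb N3373 = N4975 := rfl
theorem L33165 : sm gb N4975 = N3373 := flp_b L33164
theorem L33166 : sm gc N3373 = N4976 := rfl
theorem L33168 : sm ga N4976 = N3374 := ded_8_1 L25154 L25151 L33166
theorem L33170 : sm gf N3373 = N4977 := rfl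
theorem L33171 : sm gf N4977 = N3373 := flp_f L33170
theorem L33172 : sm ga N4977 = N3375 := ded_11_1 L25156 L25151 L33170
theorem L33174 : sm gg N4955 = N4977 := ded_29_1 L33171 L33079 L33077 L33084
theorem L33176 : sm gd N3374 = N4978 := rfl
theorem L33177 : sm gd N4978 = N3374 := flp_d L33176
theorem L33178 : sm gf N3374 = N4979 := rfl
theorem L33179 : sm gf N4979 = N3374 := flp_f L33178
theorem L33180 : sm gc N4979 = N3375 := ded_20_1 L25156 L25153 L33178
theorem L33181 : sm gc N3375 = N4979 := flp_c L33180
theorem L33182 : sm gg N3375 = N4980 := rfl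
theorem L33183 : sm gg N4980 = N3375 := flp_g L33182
theorem L33184 : sm ga N4980 = N4955 := ded_12_1 L33174 L33172 L33182
theorem L33185 : sm ga N4955 = N4980 := flp_a L33184
theorem L33186 : sm gf N4953 = N4980 := ded_29_0 L33183 L25156 L25096 L33076
theorem L33187 : sm gf N4980 = N4953 := flp_f L33186
theorem L33198 : sm gg N3376 = N4982 := rfl
theorem L33199 : sm gg N4982 = N3376 := flp_g L33198
theorem L33200 : sm ga N4982 = N3991 := ded_12_1 L28012 L25160 L33198
theorem L33201 : sm ga N3991 = N4982 := flp_a L33200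
theorem L33206 : sm ge N4982 = N3378 := ded_26_1 L25172 L25157 L33198
theorem L33207 : sm ge N3378 = N4982 := flp_e L33206
theorem L33208 : sm gb N3377 = N4983 := rfl
theorem L33209 : sm gb N4983 = N3377 := flp_b L33208
theorem L33210 : sm gd N4983 = N3381 := ded_14_2 L25188 L25170 L33208
theorem L33211 : sm gd N3381 = N4983 := flp_d L33210
theorem L33212 : sm gf N4983 = N3539 := ded_16_2 L25900 L21079 L20735 L25167 L33208
theorem L33213 : sm gf N3539 = N4983 := flp_f L33212
theorem L33214 : sm gg N3377 = N4984 := rfl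
theorem L33215 : sm gg N4984 = N3377 := flp_g L33214
theorem L33218 : sm gd N4984 = N3382 := ded_24_1 L25192 L25170 L33214
theorem L33219 : sm gd N3382 = N4984 := flp_d L33218
theorem L33220 : sm gf N3915 = N4984 := ded_29_0 L33215 L25168 L25171 L27660
theorem L33221 : sm gf N4984 = N3915 := flp_f L33220
theorem L33222 : sm gb N3378 = N4985 := rfl
theorem L33226 : sm gg N4985 = N3540 := ded_17_2 L25904 L21087 L20735 L25171 L33222
theorem L33227 : sm gg N3540 = N4985 := flp_g L33226
theorem L33238 : sm gb N3379 = N4987 := rfl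
theorem L33239 : sm gb N4987 = N3379 := flp_b L33238
theorem L33240 : sm ge N4987 = N3381 := ded_15_2 L25188 L25180 L33238
theorem L33241 : sm ge N3381 = N4987 := flp_e L33240
theorem L33242 : sm gf N4987 = N3541 := ded_16_2 L25908 L21097 L20739 L25175 L33238
theorem L33243 : sm gf N3541 = N4987 := flp_f L33242
theorem L33244 : sm gg N3379 = N4988 := rfl
theorem L33245 : sm gg N4988 = N3379 := flp_g L33244
theorem L33248 : sm ge N4988 = N3382 := ded_26_1 L25192 L25180 L33244
theorem L33250 : sm gf N4958 = N4988 := ded_29_0 L33245 L25176 L25181 L33101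
theorem L33251 : sm gf N4988 = N4958 := flp_f L33250
theorem L33252 : sm gb N3380 = N4989 := rfl
theorem L33256 : sm gg N4989 = N3543 := ded_17_2 L25920 L21103 L20739 L25181 L33252
theorem L33257 : sm gg N3543 = N4989 := flp_g L33256
theorem L33258 : sm gf N3380 = N4990 := rfl
theorem L33264 : sm ge N4990 = N3384 := ded_25_1 L25202 L25186 L33258
theorem L33266 : sm gg N4990 = N4957 := ded_29_3 L33090 L25176 L25181 L33258
theorem L33267 : sm gg N4957 = N4990 := flp_g L33266
theorem L33268 : sm ga N3381 = N4991 := rfl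
theorem L33269 : sm ga N4991 = N3381 := flp_a L33268
theorem L33270 : sm gf N4991 = N3545 := ded_11_2 L25934 L25190 L33268
theorem L33271 : sm gf N3545 = N4991 := flp_f L33270
theorem L33272 : sm gc N3381 = N4992 := rfl
theorem L33273 : sm gc N4992 = N3381 := flp_c L33272
theorem L33274 : sm gf N4992 = N3546 := ded_20_2 L25936 L25190 L33272
theorem L33275 : sm gf N3546 = N4992 := flp_f L33274
theorem L33276 : sm gb N4992 = N3390 := ded_13_1 L25242 L20759 L20745 L25187 L33272
theorem L33277 : sm gb N3390 = N4992 := flp_b L33276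
theorem L33280 : sm gb N3382 = N4994 := rfl
theorem L33281 : sm gb N4994 = N3382 := flp_b L33280
theorem L33282 : sm ga N3383 = N4995 := rfl
theorem L33283 : sm ga N4995 = N3383 := flp_a L33282
theorem L33284 : sm gg N4995 = N3549 := ded_12_2 L25944 L25200 L33282
theorem L33285 : sm gg N3549 = N4995 := flp_g L33284
theorem L33286 : sm gc N3383 = N4996 := rfl
theorem L33287 : sm gc N4996 = N3383 := flp_c L33286
theorem L33288 : sm gg N4996 = N3550 := ded_21_2 L25946 L25200 L33286
theorem L33289 : sm gg N3550 = N4996 := flp_g L33288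
theorem L33292 : sm gf N3383 = N4997 := rfl
theorem L33294 : sm gb N3384 = N4998 := rfl
theorem L33295 : sm gb N4998 = N3384 := flp_b L33294
theorem L33296 : sm ga N3385 = N4999 := rfl
theorem L33297 : sm ga N4999 = N3385 := flp_a L33296
theorem L33298 : sm ge N4999 = N3389 := ded_10_2 L25236 L25212 L33296
theorem L33299 : sm ge N3389 = N4999 := flp_e L33298
theorem L33300 : sm gf N4999 = N3410 := ded_11_2 L25314 L25214 L33296
theorem L33301 : sm gf N3410 = N4999 := flp_f L33300
theorem L33302 : sm gc N3385 = N5000 := rfl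
theorem L33303 : sm gc N5000 = N3385 := flp_c L33302
theorem L33304 : sm ge N5000 = N3390 := ded_19_2 L25242 L25212 L33302
theorem L33305 : sm ge N3390 = N5000 := flp_e L33304
theorem L33306 : sm gf N5000 = N3411 := ded_20_2 L25318 L25214 L33302
theorem L33307 : sm gf N3411 = N5000 := flp_f L33306
theorem L33312 : sm gb N3386 = N5002 := rfl
theorem L33313 : sm gb N5002 = N3386 := flp_b L33312
theorem L33316 : sm ga N3387 = N5003 := rfl
theorem L33317 : sm ga N5003 = N3387 := flp_a L33316
theorem L33318 : sm ge N5003 = N3393 := ded_10_2 L25254 L25224 L33316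
theorem L33319 : sm ge N3393 = N5003 := flp_e L33318
theorem L33320 : sm gg N5003 = N3413 := ded_12_2 L25328 L25226 L33316
theorem L33321 : sm gg N3413 = N5003 := flp_g L33320
theorem L33322 : sm gc N3387 = N5004 := rfl
theorem L33323 : sm gc N5004 = N3387 := flp_c L33322
theorem L33326 : sm gg N5004 = N3414 := ded_21_2 L25332 L25226 L33322
theorem L33327 : sm gg N3414 = N5004 := flp_g L33326
theorem L33328 : sm gf N3387 = N5005 := rfl
theorem L33332 : sm gb N3388 = N5006 := rfl
theorem L33333 : sm gb N5006 = N3388 := flp_b L33332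
theorem L33334 : sm ge N5006 = N3396 := ded_15_2 L25268 L25232 L33332
theorem L33335 : sm ge N3396 = N5006 := flp_e L33334
theorem L33336 : sm gb N3389 = N5007 := rfl
theorem L33337 : sm gb N5007 = N3389 := flp_b L33336
theorem L33338 : sm gd N5007 = N3397 := ded_14_2 L25272 L25238 L33336
theorem L33339 : sm gd N3397 = N5007 := flp_d L33338
theorem L33340 : sm gc N3389 = N5008 := rfl
theorem L33341 : sm gc N5008 = N3389 := flp_c L33340
theorem L33342 : sm ga N5008 = N3390 := ded_8_1 L25242 L25235 L33340
theorem L33343 : sm ga N3390 = N5008 := flp_a L33342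
theorem L33344 : sm gf N5008 = N3417 := ded_20_2 L25346 L25240 L33340
theorem L33346 : sm gd N3390 = N5009 := rfl
theorem L33347 : sm gd N5009 = N3390 := flp_d L33346
theorem L33348 : sm gf N5009 = N3419 := ded_23_2 L25358 L25244 L33346
theorem L33350 : sm gg N3390 = N5010 := rfl
theorem L33351 : sm gg N5010 = N3390 := flp_g L33350
theorem L33354 : sm gb N3391 = N5011 := rfl
theorem L33355 : sm gb N5011 = N3391 := flp_b L33354
theorem L33356 : sm gd N5011 = N3401 := ded_14_2 L25288 L25248 L33354
theorem L33357 : sm gd N3401 = N5011 := flp_d L33356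
theorem L33358 : sm gg N5011 = N3392 := ded_17_2 L25250 L20765 L20758 L25245 L33354
theorem L33359 : sm gg N3392 = N5011 := flp_g L33358
theorem L33360 : sm ga N3392 = N5012 := rfl
theorem L33361 : sm ga N5012 = N3392 := flp_a L33360
theorem L33362 : sm gd N5012 = N3402 := ded_9_2 L25292 L25252 L33360
theorem L33363 : sm gd N3402 = N5012 := flp_d L33362
theorem L33366 : sm gf N3392 = N5014 := rfl
theorem L33370 : sm gb N5014 = N4968 := ded_16_1 L33137 L25142 L20768 L25249 L33366
theorem L33372 : sm gb N3393 = N5015 := rfl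
theorem L33374 : sm gd N5015 = N3405 := ded_14_2 L25300 L25256 L33372
theorem L33375 : sm gd N3405 = N5015 := flp_d L33374
theorem L33376 : sm gc N3393 = N5016 := rfl
theorem L33378 : sm ga N5016 = N3394 := ded_8_1 L25260 L25253 L33376
theorem L33379 : sm ga N3394 = N5016 := flp_a L33378
theorem L33380 : sm gg N5016 = N3423 := ded_21_2 L25378 L25258 L33376
theorem L33381 : sm gg N3423 = N5016 := flp_g L33380
theorem L33382 : sm gd N3394 = N5017 := rfl
theorem L33383 : sm gd N5017 = N3394 := flp_d L33382
theorem L33384 : sm gg N5017 = N3425 := ded_24_2 L25390 L25262 L33382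
theorem L33385 : sm gg N3425 = N5017 := flp_g L33384
theorem L33396 : sm ga N3396 = N5020 := rfl
theorem L33398 : sm gd N5020 = N3407 := ded_9_2 L25306 L25270 L33396
theorem L33399 : sm gd N3407 = N5020 := flp_d L33398
theorem L33408 : sm ga N3397 = N5023 := rfl
theorem L33409 : sm ga N5023 = N3397 := flp_a L33408
theorem L33410 : sm gc N3397 = N5024 := rfl
theorem L33411 : sm gc N5024 = N3397 := flp_c L33410
theorem L33412 : sm gf N3397 = N5025 := rfl
theorem L33413 : sm gf N5025 = N3397 := flp_f L33412
theorem L33414 : sm gb N5025 = N3430 := ded_16_1 L25412 L20837 L20787 L25271 L33412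
theorem L33415 : sm gb N3430 = N5025 := flp_b L33414
theorem L33416 : sm gg N3397 = N5026 := rfl
theorem L33417 : sm gg N5026 = N3397 := flp_g L33416
theorem L33418 : sm gb N3398 = N5027 := rfl
theorem L33419 : sm gb N5027 = N3398 := flp_b L33418
theorem L33420 : sm gd N3398 = N5028 := rfl
theorem L33421 : sm gd N5028 = N3398 := flp_d L33420
theorem L33422 : sm ga N5028 = N3399 := ded_9_1 L25280 L25276 L33420
theorem L33423 : sm ga N3399 = N5028 := flp_a L33422
theorem L33424 : sm gf N5028 = N3433 := ded_23_2 L25418 L25278 L33420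
theorem L33426 : sm gc N3399 = N5029 := rfl
theorem L33427 : sm gc N5029 = N3399 := flp_c L33426
theorem L33428 : sm gf N5029 = N3436 := ded_20_2 L25432 L25282 L33426
theorem L33429 : sm gf N3436 = N5029 := flp_f L33428
theorem L33430 : sm ge N3399 = N5030 := rfl
theorem L33431 : sm ge N5030 = N3399 := flp_e L33430
theorem L33432 : sm gf N5030 = N3437 := ded_25_2 L25434 L25282 L33430
theorem L33434 : sm gg N3399 = N5031 := rfl
theorem L33435 : sm gg N5031 = N3399 := flp_g L33434
theorem L33440 : sm ga N3401 = N5033 := rfl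
theorem L33441 : sm ga N5033 = N3401 := flp_a L33440
theorem L33442 : sm gg N5033 = N3402 := ded_12_2 L25292 L25290 L33440
theorem L33443 : sm gg N3402 = N5033 := flp_g L33442
theorem L33444 : sm gc N3401 = N5034 := rfl
theorem L33445 : sm gc N5034 = N3401 := flp_c L33444
theorem L33446 : sm gg N5034 = N3403 := ded_21_2 L25294 L25290 L33444
theorem L33447 : sm gg N3403 = N5034 := flp_g L33446
theorem L33448 : sm gf N3401 = N5035 := rfl
theorem L33449 : sm gf N5035 = N3401 := flp_f L33448
theorem L33450 : sm gb N3402 = N5036 := rfl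
theorem L33451 : sm gb N5036 = N3402 := flp_b L33450
theorem L33452 : sm gc N3402 = N5037 := rfl
theorem L33453 : sm gc N5037 = N3402 := flp_c L33452
theorem L33454 : sm ga N5037 = N3403 := ded_8_1 L25294 L25291 L33452
theorem L33455 : sm ga N3403 = N5037 := flp_a L33454
theorem L33456 : sm gf N3402 = N5038 := rfl
theorem L33457 : sm gf N5038 = N3402 := flp_f L33456
theorem L33460 : sm gg N5035 = N5038 := ded_29_1 L33457 L33443 L33441 L33448
theorem L33461 : sm gg N5038 = N5035 := flp_g L33460
theorem L33462 : sm gb N3601 = N5038 := ded_31_14 L33461 L33449 L25288 L20793 L18587 L5784 L2885 L2879 L2875 L6021 L18812 L21220 L26141 L26154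
theorem L33463 : sm gb N5038 = N3601 := flp_b L33462
theorem L33464 : sm gf N5036 = N3719 := ded_16_4 L26665 L26154 L33462 L33457 L33450
theorem L33465 : sm gf N3719 = N5036 := flp_f L33464
theorem L33466 : sm gd N3403 = N5039 := rfl
theorem L33467 : sm gd N5039 = N3403 := flp_d L33466
theorem L33468 : sm gf N3403 = N5040 := rfl
theorem L33469 : sm gf N5040 = N3403 := flp_f L33468
theorem L33470 : sm gc N5040 = N3404 := ded_20_1 L25296 L25293 L33468
theorem L33472 : sm gg N3404 = N5041 := rfl
theorem L33473 : sm gg N5041 = N3404 := flp_g L33472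
theorem L33476 : sm gf N5033 = N5041 := ded_29_0 L33473 L25296 L25290 L33440
theorem L33477 : sm gf N5041 = N5033 := flp_f L33476
theorem L33478 : sm ga N3405 = N5042 := rfl
theorem L33479 : sm ga N5042 = N3405 := flp_a L33478
theorem L33480 : sm gc N3405 = N5043 := rfl
theorem L33481 : sm gc N5043 = N3405 := flp_c L33480
theorem L33482 : sm gf N3405 = N5044 := rfl
theorem L33483 : sm gf N5044 = N3405 := flp_f L33482
theorem L33484 : sm gg N3405 = N5045 := rfl
theorem L33485 : sm gg N5045 = N3405 := flp_g L33484
theorem L33486 : sm gb N5045 = N3445 := ded_17_1 L25464 L20863 L20799 L25299 L33484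
theorem L33487 : sm gb N3445 = N5045 := flp_b L33486
theorem L33488 : sm ga N3406 = N5046 := rfl
theorem L33490 : sm gf N5046 = N3407 := ded_11_2 L25306 L25304 L33488
theorem L33492 : sm gc N3406 = N5047 := rfl
theorem L33493 : sm gc N5047 = N3406 := flp_c L33492
theorem L33494 : sm gf N5047 = N3408 := ded_20_2 L25308 L25304 L33492
theorem L33495 : sm gf N3408 = N5047 := flp_f L33494
theorem L33496 : sm gg N3406 = N5048 := rfl
theorem L33497 : sm gg N5048 = N3406 := flp_g L33496
theorem L33498 : sm gb N3407 = N5049 := rfl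
theorem L33499 : sm gb N5049 = N3407 := flp_b L33498
theorem L33500 : sm gc N3407 = N5050 := rfl
theorem L33502 : sm ga N5050 = N3408 := ded_8_1 L25308 L25305 L33500
theorem L33503 : sm ga N3408 = N5050 := flp_a L33502
theorem L33504 : sm gg N3407 = N5051 := rfl
theorem L33505 : sm gg N5051 = N3407 := flp_g L33504
theorem L33506 : sm ga N5051 = N3409 := ded_12_1 L25310 L25305 L33504
theorem L33508 : sm gf N5051 = N5048 := ded_29_2 L33497 L33488 L33490 L33504
theorem L33509 : sm gf N5048 = N5051 := flp_f L33508
theorem L33510 : sm gb N5051 = N3588 := ded_31_2 L26106 L26094 L21205 L18804 L6009 L2868 L2869 L2874 L5785 L18596 L20800 L25301 L33496 L33509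
theorem L33512 : sm gg N3684 = N5049 := ded_17_4 L33499 L33504 L33510 L26106 L26536
theorem L33513 : sm gg N5049 = N3684 := flp_g L33512
theorem L33514 : sm gd N3408 = N5052 := rfl
theorem L33515 : sm gd N5052 = N3408 := flp_d L33514
theorem L33516 : sm gg N3408 = N5053 := rfl
theorem L33517 : sm gg N5053 = N3408 := flp_g L33516
theorem L33520 : sm gf N3409 = N5054 := rfl
theorem L33522 : sm ga N5054 = N5048 := ded_11_1 L33509 L33506 L33520
theorem L33523 : sm ga N5048 = N5054 := flp_a L33522
theorem L33526 : sm gb N3410 = N5055 := rfl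
theorem L33527 : sm gb N5055 = N3410 := flp_b L33526
theorem L33528 : sm ge N5055 = N3416 := ded_15_2 L25342 L25316 L33526
theorem L33529 : sm ge N3416 = N5055 := flp_e L33528
theorem L33530 : sm gc N3410 = N5056 := rfl
theorem L33531 : sm gc N5056 = N3410 := flp_c L33530
theorem L33532 : sm ga N5056 = N3411 := ded_8_1 L25318 L25313 L33530
theorem L33533 : sm ga N3411 = N5056 := flp_a L33532
theorem L33534 : sm ge N5056 = N3417 := ded_19_2 L25346 L25316 L33530
theorem L33535 : sm ge N3417 = N5056 := flp_e L33534
theorem L33536 : sm gg N3410 = N5057 := rfl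
theorem L33537 : sm gg N5057 = N3410 := flp_g L33536
theorem L33540 : sm ge N5057 = N3418 := ded_26_1 L25350 L25316 L33536
theorem L33541 : sm ge N3418 = N5057 := flp_e L33540
theorem L33544 : sm gd N3411 = N5058 := rfl
theorem L33545 : sm gd N5058 = N3411 := flp_d L33544
theorem L33546 : sm gb N5058 = N3608 := ded_14_1 L26188 L25322 L33544
theorem L33548 : sm gg N3411 = N5059 := rfl
theorem L33549 : sm gg N5059 = N3411 := flp_g L33548
theorem L33552 : sm ge N5059 = N3420 := ded_26_1 L25362 L25320 L33548
theorem L33553 : sm ge N3420 = N5059 := flp_e L33552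
theorem L33562 : sm gb N3413 = N5061 := rfl
theorem L33563 : sm gb N5061 = N3413 := flp_b L33562
theorem L33564 : sm ge N5061 = N3422 := ded_15_2 L25374 L25330 L33562
theorem L33565 : sm ge N3422 = N5061 := flp_e L33564
theorem L33566 : sm gc N3413 = N5062 := rfl
theorem L33567 : sm gc N5062 = N3413 := flp_c L33566
theorem L33570 : sm ge N5062 = N3423 := ded_19_2 L25378 L25330 L33566
theorem L33571 : sm ge N3423 = N5062 := flp_e L33570
theorem L33572 : sm gf N3413 = N5063 := rfl
theorem L33573 : sm gf N5063 = N3413 := flp_f L33572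
theorem L33576 : sm ge N5063 = N3424 := ded_25_1 L25382 L25330 L33572
theorem L33578 : sm gg N5005 = N5063 := ded_29_1 L33573 L33321 L33317 L33328
theorem L33590 : sm gg N3415 = N5066 := rfl
theorem L33591 : sm gg N5066 = N3415 := flp_g L33590
theorem L33594 : sm ge N5066 = N3427 := ded_26_1 L25398 L25340 L33590
theorem L33596 : sm gf N5003 = N5066 := ded_29_0 L33591 L25338 L25226 L33316
theorem L33597 : sm gf N5066 = N5003 := flp_f L33596
theorem L33598 : sm ga N3416 = N5067 := rfl
theorem L33599 : sm ga N5067 = N3416 := flp_a L33598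
theorem L33600 : sm gd N5067 = N3428 := ded_9_2 L25406 L25344 L33598
theorem L33601 : sm gd N3428 = N5067 := flp_d L33600
theorem L33602 : sm gb N5067 = N3625 := ded_7_2 L26280 L21267 L18842 L6039 L5770 L18619 L20812 L25341 L33598
theorem L33603 : sm gb N3625 = N5067 := flp_b L33602
theorem L33604 : sm gc N3416 = N5068 := rfl
theorem L33605 : sm gc N5068 = N3416 := flp_c L33604
theorem L33606 : sm gf N3416 = N5069 := rfl
theorem L33607 : sm gf N5069 = N3416 := flp_f L33606
theorem L33608 : sm gd N5069 = N3430 := ded_23_1 L25412 L25344 L33606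
theorem L33610 : sm gg N3416 = N5070 := rfl
theorem L33611 : sm gg N5070 = N3416 := flp_g L33610
theorem L33612 : sm gd N5070 = N3431 := ded_24_1 L25414 L25344 L33610
theorem L33613 : sm gd N3431 = N5070 := flp_d L33612
theorem L33614 : sm gb N3417 = N5071 := rfl
theorem L33615 : sm gb N5071 = N3417 := flp_b L33614
theorem L33616 : sm gd N3417 = N5072 := rfl
theorem L33618 : sm ga N5072 = N3419 := ded_9_1 L25358 L25348 L33616
theorem L33620 : sm gg N3417 = N5073 := rfl
theorem L33622 : sm ga N5073 = N3420 := ded_12_1 L25362 L25348 L33620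
theorem L33626 : sm gf N5073 = N5010 := ded_29_2 L33351 L33343 L33344 L33620
theorem L33627 : sm gf N5010 = N5073 := flp_f L33626
theorem L33628 : sm gb N3418 = N5074 := rfl
theorem L33629 : sm gb N5074 = N3418 := flp_b L33628
theorem L33630 : sm gd N5074 = N3435 := ded_14_2 L25430 L25354 L33628
theorem L33631 : sm gd N3435 = N5074 := flp_d L33630
theorem L33632 : sm gc N3419 = N5075 := rfl
theorem L33633 : sm gc N5075 = N3419 := flp_c L33632
theorem L33634 : sm ge N3419 = N5076 := rfl
theorem L33636 : sm gb N5076 = N3632 := ded_15_1 L26308 L25360 L33634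
theorem L33637 : sm gb N3632 = N5076 := flp_b L33636
theorem L33638 : sm gg N3419 = N5077 := rfl
theorem L33640 : sm gd N5077 = N3420 := ded_24_1 L25362 L25357 L33638
theorem L33641 : sm gd N3420 = N5077 := flp_d L33640
theorem L33646 : sm gf N3420 = N5079 := rfl
theorem L33647 : sm gf N5079 = N3420 := flp_f L33646
theorem L33648 : sm ga N5079 = N5010 := ded_11_1 L33627 L33622 L33646
theorem L33650 : sm gc N5079 = N3421 := ded_20_1 L25366 L25364 L33646
theorem L33654 : sm gb N3421 = N5080 := rfl
theorem L33655 : sm gb N5080 = N3421 := flp_b L33654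
theorem L33656 : sm gd N5080 = N3441 := ded_14_2 L25454 L25370 L33654
theorem L33657 : sm gd N3441 = N5080 := flp_d L33656
theorem L33658 : sm ga N3422 = N5081 := rfl
theorem L33666 : sm gf N3422 = N5083 := rfl
theorem L33667 : sm gf N5083 = N3422 := flp_f L33666
theorem L33670 : sm gg N3422 = N5084 := rfl
theorem L33671 : sm gg N5084 = N3422 := flp_g L33670
theorem L33672 : sm gd N5084 = N3445 := ded_24_1 L25464 L25376 L33670
theorem L33673 : sm gd N3445 = N5084 := flp_d L33672
theorem L33674 : sm gb N3423 = N5085 := rfl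
theorem L33675 : sm gb N5085 = N3423 := flp_b L33674
theorem L33676 : sm gd N3423 = N5086 := rfl
theorem L33677 : sm gd N5086 = N3423 := flp_d L33676
theorem L33680 : sm gc N5086 = N4207 := ded_28_6 L29183 L29173 L29171 L22843 L19660 L20827 L25377 L33676
theorem L33681 : sm gc N4207 = N5086 := flp_c L33680
theorem L33690 : sm gb N3424 = N5088 := rfl
theorem L33691 : sm gb N5088 = N3424 := flp_b L33690
theorem L33692 : sm gd N5088 = N3446 := ded_14_2 L25466 L25386 L33690
theorem L33693 : sm gd N3446 = N5088 := flp_d L33692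
theorem L33694 : sm gc N3425 = N5089 := rfl
theorem L33695 : sm gc N5089 = N3425 := flp_c L33694
theorem L33704 : sm gf N3425 = N5091 := rfl
theorem L33705 : sm gf N5091 = N3425 := flp_f L33704
theorem L33706 : sm gd N5091 = N3426 := ded_23_1 L25394 L25389 L33704
theorem L33708 : sm gb N3426 = N5092 := rfl
theorem L33709 : sm gb N5092 = N3426 := flp_b L33708
theorem L33710 : sm gf N5092 = N3656 := ded_16_2 L26412 L21333 L20831 L25393 L33708
theorem L33711 : sm gf N3656 = N5092 := flp_f L33710
theorem L33724 : sm gc N3428 = N5095 := rfl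
theorem L33725 : sm gc N5095 = N3428 := flp_c L33724
theorem L33726 : sm ga N5095 = N3429 := ded_8_1 L25410 L25405 L33724
theorem L33727 : sm ga N3429 = N5095 := flp_a L33726
theorem L33728 : sm gf N3428 = N5096 := rfl
theorem L33729 : sm gf N5096 = N3428 := flp_f L33728
theorem L33730 : sm ga N5096 = N3430 := ded_11_1 L25412 L25405 L33728
theorem L33731 : sm ga N3430 = N5096 := flp_a L33730
theorem L33732 : sm gg N3428 = N5097 := rfl
theorem L33733 : sm gg N5097 = N3428 := flp_g L33732
theorem L33734 : sm ga N5097 = N3431 := ded_12_1 L25414 L25405 L33732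
theorem L33735 : sm ga N3431 = N5097 := flp_a L33734
theorem L33736 : sm gb N3429 = N5098 := rfl
theorem L33737 : sm gb N5098 = N3429 := flp_b L33736
theorem L33738 : sm gc N5098 = N3432 := ded_13_2 L25416 L20839 L20836 L25409 L33736
theorem L33739 : sm gc N3432 = N5098 := flp_c L33738
theorem L33740 : sm gd N3429 = N5099 := rfl
theorem L33741 : sm gd N5099 = N3429 := flp_d L33740
theorem L33742 : sm gf N3429 = N5100 := rfl
theorem L33743 : sm gf N5100 = N3429 := flp_f L33742
theorem L33744 : sm gc N5100 = N3430 := ded_20_1 L25412 L25409 L33742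
theorem L33746 : sm gg N3429 = N5101 := rfl
theorem L33747 : sm gg N5101 = N3429 := flp_g L33746
theorem L33748 : sm gc N5101 = N3431 := ded_21_1 L25414 L25409 L33746
theorem L33750 : sm gg N3430 = N5102 := rfl
theorem L33751 : sm gg N5102 = N3430 := flp_g L33750
theorem L33752 : sm gf N5097 = N5102 := ded_29_0 L33751 L25412 L25413 L33735
theorem L33753 : sm gf N5102 = N5097 := flp_f L33752
theorem L33754 : sm gb N3431 = N5103 := rfl
theorem L33755 : sm gb N5103 = N3431 := flp_b L33754
theorem L33756 : sm gg N5103 = N3435 := ded_17_2 L25430 L20843 L20836 L25413 L33754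
theorem L33758 : sm gf N3431 = N5104 := rfl
theorem L33759 : sm gf N5104 = N3431 := flp_f L33758
theorem L33760 : sm ga N5104 = N5102 := ded_11_1 L33753 L33734 L33758
theorem L33761 : sm ga N5102 = N5104 := flp_a L33760
theorem L33764 : sm ga N3432 = N5105 := rfl
theorem L33765 : sm ga N5105 = N3432 := flp_a L33764
theorem L33766 : sm gd N3432 = N5106 := rfl
theorem L33767 : sm gd N5106 = N3432 := flp_d L33766
theorem L33768 : sm gb N5106 = N3433 := ded_14_1 L25418 L25415 L33766
theorem L33769 : sm gb N3433 = N5106 := flp_b L33768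
theorem L33770 : sm gf N3432 = N5107 := rfl
theorem L33771 : sm gf N5107 = N3432 := flp_f L33770
theorem L33772 : sm gg N3432 = N5108 := rfl
theorem L33773 : sm gg N5108 = N3432 := flp_g L33772
theorem L33774 : sm gc N3433 = N5109 := rfl
theorem L33775 : sm gc N5109 = N3433 := flp_c L33774
theorem L33776 : sm ga N5109 = N3436 := ded_8_1 L25432 L25420 L33774
theorem L33777 : sm ga N3436 = N5109 := flp_a L33776
theorem L33778 : sm gd N5075 = N5109 := ded_28_1 L33775 L25418 L20839 L20815 L25345 L33616 L33618 L33632
theorem L33784 : sm gg N3433 = N5111 := rfl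
theorem L33788 : sm gd N5111 = N3434 := ded_24_1 L25422 L25417 L33784
theorem L33789 : sm gd N3434 = N5111 := flp_d L33788
theorem L33790 : sm gf N5111 = N5031 := ded_29_2 L33435 L33423 L33424 L33784
theorem L33792 : sm gb N3434 = N5112 := rfl
theorem L33793 : sm gb N5112 = N3434 := flp_b L33792
theorem L33794 : sm ga N3435 = N5113 := rfl
theorem L33795 : sm ga N5113 = N3435 := flp_a L33794
theorem L33798 : sm gf N3435 = N5115 := rfl
theorem L33799 : sm gf N5115 = N3435 := flp_f L33798
theorem L33800 : sm gb N5115 = N5035 := ded_16_1 L33449 L25288 L20847 L25429 L33798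
theorem L33802 : sm gg N3599 = N5115 := ded_17_0 L33800 L33460 L33463 L26150 L26143
theorem L33803 : sm gg N5115 = N3599 := flp_g L33802
theorem L33804 : sm gb N3436 = N5116 := rfl
theorem L33808 : sm gd N3436 = N5117 := rfl
theorem L33809 : sm gd N5117 = N3436 := flp_d L33808
theorem L33810 : sm ga N5117 = N5075 := ded_9_1 L33778 L33776 L33808
theorem L33811 : sm ga N5075 = N5117 := flp_a L33810
theorem L33814 : sm ge N3436 = N5118 := rfl
theorem L33816 : sm gc N5118 = N3437 := ded_19_1 L25434 L25431 L33814
theorem L33817 : sm gc N3437 = N5118 := flp_c L33816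
theorem L33818 : sm gg N3436 = N5119 := rfl
theorem L33819 : sm gg N5119 = N3436 := flp_g L33818
theorem L33822 : sm gg N3437 = N5120 := rfl
theorem L33823 : sm gg N5120 = N3437 := flp_g L33822
theorem L33826 : sm gb N3438 = N5121 := rfl
theorem L33830 : sm gg N5121 = N3459 := ded_17_2 L25518 L20897 L20851 L25437 L33826
theorem L33831 : sm gg N3459 = N5121 := flp_g L33830
theorem L33832 : sm gf N3438 = N5122 := rfl
theorem L33836 : sm gd N5122 = N3440 := ded_23_1 L25446 L25440 L33832
theorem L33837 : sm gd N3440 = N5122 := flp_d L33836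
theorem L33838 : sm gg N5122 = N5028 := ded_29_3 L33422 L25281 L25437 L33832
theorem L33840 : sm ga N3439 = N5123 := rfl
theorem L33841 : sm ga N5123 = N3439 := flp_a L33840
theorem L33842 : sm gg N5123 = N3460 := ded_12_2 L25522 L25444 L33840
theorem L33843 : sm gg N3460 = N5123 := flp_g L33842
theorem L33846 : sm gb N3440 = N5125 := rfl
theorem L33847 : sm gb N5125 = N3440 := flp_b L33846
theorem L33848 : sm ga N3441 = N5126 := rfl
theorem L33849 : sm ga N5126 = N3441 := flp_a L33848
theorem L33852 : sm gg N3441 = N5128 := rfl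
theorem L33853 : sm gg N5128 = N3441 := flp_g L33852
theorem L33854 : sm gb N5128 = N5026 := ded_17_1 L33417 L25272 L20861 L25453 L33852
theorem L33856 : sm gc N3442 = N5129 := rfl
theorem L33857 : sm gc N5129 = N3442 := flp_c L33856
theorem L33858 : sm ga N5129 = N3443 := ded_8_1 L25460 L25455 L33856
theorem L33859 : sm ga N3443 = N5129 := flp_a L33858
theorem L33860 : sm gf N3442 = N5130 := rfl
theorem L33861 : sm gf N5130 = N3442 := flp_f L33860
theorem L33862 : sm ga N5130 = N3444 := ded_11_1 L25462 L25455 L33860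
theorem L33864 : sm gg N3442 = N5131 := rfl
theorem L33865 : sm gg N5131 = N3442 := flp_g L33864
theorem L33866 : sm ga N5131 = N3445 := ded_12_1 L25464 L25455 L33864
theorem L33867 : sm ga N3445 = N5131 := flp_a L33866
theorem L33870 : sm gf N3443 = N5133 := rfl
theorem L33871 : sm gf N5133 = N3443 := flp_f L33870
theorem L33872 : sm gc N5133 = N3444 := ded_20_1 L25462 L25459 L33870
theorem L33873 : sm gc N3444 = N5133 := flp_c L33872
theorem L33874 : sm gg N3443 = N5134 := rfl
theorem L33875 : sm gg N5134 = N3443 := flp_g L33874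
theorem L33876 : sm gc N5134 = N3445 := ded_21_1 L25464 L25459 L33874
theorem L33877 : sm gc N3445 = N5134 := flp_c L33876
theorem L33878 : sm gb N3444 = N5135 := rfl
theorem L33879 : sm gb N5135 = N3444 := flp_b L33878
theorem L33880 : sm gf N5135 = N3446 := ded_16_2 L25466 L20865 L20862 L25461 L33878
theorem L33881 : sm gf N3446 = N5135 := flp_f L33880
theorem L33882 : sm gg N3444 = N5136 := rfl
theorem L33883 : sm gg N5136 = N3444 := flp_g L33882
theorem L33884 : sm gf N5131 = N5136 := ded_29_0 L33883 L25462 L25463 L33867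
theorem L33885 : sm gf N5136 = N5131 := flp_f L33884
theorem L33886 : sm gf N3445 = N5137 := rfl
theorem L33887 : sm gf N5137 = N3445 := flp_f L33886
theorem L33890 : sm gg N5137 = N5130 := ded_29_3 L33862 L25462 L25463 L33886
theorem L33892 : sm ga N3446 = N5138 := rfl
theorem L33893 : sm ga N5138 = N3446 := flp_a L33892
theorem L33894 : sm gc N3446 = N5139 := rfl
theorem L33895 : sm gc N5139 = N3446 := flp_c L33894
theorem L33896 : sm gg N3446 = N5140 := rfl
theorem L33897 : sm gg N5140 = N3446 := flp_g L33896
theorem L33898 : sm gb N5140 = N5048 := ded_17_1 L33497 L25302 L20868 L25465 L33896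
theorem L33899 : sm gb N5048 = N5140 := flp_b L33898
theorem L33900 : sm gf N3586 = N5140 := ded_16_0 L33898 L33509 L33510 L26102 L26095
theorem L33901 : sm gf N5140 = N3586 := flp_f L33900
theorem L33902 : sm ga N3447 = N5141 := rfl
theorem L33903 : sm ga N5141 = N3447 := flp_a L33902
theorem L33906 : sm gf N3447 = N5143 := rfl
theorem L33907 : sm gf N5143 = N3447 := flp_f L33906
theorem L33908 : sm gb N5143 = N5044 := ded_16_1 L33483 L25300 L20874 L25467 L33906
theorem L33909 : sm gb N5044 = N5143 := flp_b L33908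
theorem L33910 : sm ga N3448 = N5144 := rfl
theorem L33912 : sm gc N5144 = N3450 := ded_8_2 L25486 L25474 L33910
theorem L33913 : sm gc N3450 = N5144 := flp_c L33912
theorem L33916 : sm gd N3448 = N5145 := rfl
theorem L33918 : sm gb N5145 = N3449 := ded_14_1 L25476 L25469 L33916
theorem L33919 : sm gb N3449 = N5145 := flp_b L33918
theorem L33920 : sm gf N3448 = N5146 := rfl
theorem L33921 : sm gf N5146 = N3448 := flp_f L33920
theorem L33928 : sm gg N3448 = N5147 := rfl
theorem L33929 : sm gg N5147 = N3448 := flp_g L33928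
theorem L33932 : sm ge N5147 = N4309 := ded_26_1 L29671 L25472 L33928
theorem L33933 : sm ge N4309 = N5147 := flp_e L33932
theorem L33934 : sm gb N5147 = N4090 := ded_17_1 L28579 L22549 L20885 L25469 L33928
theorem L33936 : sm ge N3449 = N5148 := rfl
theorem L33937 : sm ge N5148 = N3449 := flp_e L33936
theorem L33938 : sm ga N5148 = N4432 := ded_10_1 L30227 L25478 L33936
theorem L33940 : sm gc N5148 = N4150 := ded_19_1 L28925 L25483 L33936
theorem L33941 : sm gc N4150 = N5148 := flp_c L33940
theorem L33944 : sm gg N5148 = N4098 := ded_26_2 L28617 L25482 L33936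
theorem L33948 : sm gb N3450 = N5149 := rfl
theorem L33949 : sm gb N5149 = N3450 := flp_b L33948
theorem L33950 : sm gd N3450 = N5150 := rfl
theorem L33952 : sm ga N5150 = N3451 := ded_9_1 L25488 L25485 L33950
theorem L33953 : sm ga N3451 = N5150 := flp_a L33952
theorem L33954 : sm gf N3450 = N5151 := rfl
theorem L33955 : sm gf N5151 = N3450 := flp_f L33954
theorem L33956 : sm ga N5151 = N3452 := ded_11_1 L25492 L25485 L33954
theorem L33957 : sm ga N3452 = N5151 := flp_a L33956
theorem L33958 : sm gg N3450 = N5152 := rfl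
theorem L33960 : sm ga N5152 = N3453 := ded_12_1 L25494 L25485 L33958
theorem L33961 : sm ga N3453 = N5152 := flp_a L33960
theorem L33964 : sm ge N3451 = N5154 := rfl
theorem L33965 : sm ge N5154 = N3451 := flp_e L33964
theorem L33968 : sm gf N3451 = N5155 := rfl
theorem L33969 : sm gf N5155 = N3451 := flp_f L33968
theorem L33972 : sm gg N3451 = N5156 := rfl
theorem L33973 : sm gg N5156 = N3451 := flp_g L33972
theorem L33974 : sm gd N5156 = N3453 := ded_24_1 L25494 L25487 L33972
theorem L33975 : sm gd N3453 = N5156 := flp_d L33974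
theorem L33976 : sm gg N3452 = N5157 := rfl
theorem L33977 : sm gg N5157 = N3452 := flp_g L33976
theorem L33978 : sm gf N5152 = N5157 := ded_29_0 L33977 L25492 L25493 L33961
theorem L33980 : sm gf N3453 = N5158 := rfl
theorem L33981 : sm gf N5158 = N3453 := flp_f L33980
theorem L33998 : sm gg N3456 = N5164 := rfl
theorem L33999 : sm gg N5164 = N3456 := flp_g L33998
theorem L34002 : sm ge N5164 = N3457 := ded_26_1 L25506 L25501 L33998
theorem L34003 : sm ge N3457 = N5164 := flp_e L34002
theorem L34006 : sm gb N3457 = N5165 := rfl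
theorem L34007 : sm gb N5165 = N3457 := flp_b L34006
theorem L34008 : sm gd N5165 = N3770 := ded_14_2 L26877 L25510 L34006
theorem L34009 : sm gd N3770 = N5165 := flp_d L34008
theorem L34010 : sm gb N3458 = N5166 := rfl
theorem L34011 : sm gb N5166 = N3458 := flp_b L34010
theorem L34012 : sm ge N5166 = N3459 := ded_15_2 L25518 L25516 L34010
theorem L34014 : sm ga N3459 = N5167 := rfl
theorem L34015 : sm ga N5167 = N3459 := flp_a L34014
theorem L34016 : sm gd N5167 = N3460 := ded_9_2 L25522 L25520 L34014
theorem L34017 : sm gd N3460 = N5167 := flp_d L34016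
theorem L34024 : sm gb N3460 = N5170 := rfl
theorem L34025 : sm gb N5170 = N3460 := flp_b L34024
theorem L34026 : sm gf N3460 = N5171 := rfl
theorem L34027 : sm gf N5171 = N3460 := flp_f L34026
theorem L34032 : sm gg N3461 = N5172 := rfl
theorem L34033 : sm gg N5172 = N3461 := flp_g L34032
theorem L34036 : sm gf N5123 = N5172 := ded_29_0 L34033 L25524 L25444 L33840
theorem L34037 : sm gf N5172 = N5123 := flp_f L34036
theorem L34050 : sm gg N3462 = N5176 := rfl
theorem L34051 : sm gg N5176 = N3462 := flp_g L34050
theorem L34118 : sm gb N3468 = N5191 := rfl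
theorem L34120 : sm gg N5191 = N3473 := ded_17_2 L25578 L20928 L20914 L25550 L34118
theorem L34121 : sm gg N3473 = N5191 := flp_g L34120
theorem L34145 : sm gb N3470 = N5195 := rfl
theorem L34147 : sm gd N5195 = N3473 := ded_14_2 L25578 L25566 L34145
theorem L34148 : sm gd N3473 = N5195 := flp_d L34147
theorem L34157 : sm gg N3471 = N5197 := rfl
theorem L34158 : sm gg N5197 = N3471 := flp_g L34157
theorem L34159 : sm gd N5197 = N3472 := ded_24_1 L25572 L25569 L34157
theorem L34160 : sm gd N3472 = N5197 := flp_d L34159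
theorem L34165 : sm ga N3473 = N5199 := rfl
theorem L34166 : sm ga N5199 = N3473 := flp_a L34165
theorem L34167 : sm gc N3473 = N5200 := rfl
theorem L34168 : sm gc N5200 = N3473 := flp_c L34167
theorem L34169 : sm gb N5200 = N3475 := ded_13_1 L25588 L20938 L20930 L25577 L34167
theorem L34170 : sm gb N3475 = N5200 := flp_b L34169
theorem L34171 : sm gf N3473 = N5201 := rfl
theorem L34172 : sm gf N5201 = N3473 := flp_f L34171
theorem L34173 : sm gc N3474 = N5202 := rfl
theorem L34174 : sm gc N5202 = N3474 := flp_c L34173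
theorem L34176 : sm ge N5202 = N3475 := ded_19_2 L25588 L25584 L34173
theorem L34177 : sm ge N3475 = N5202 := flp_e L34176
theorem L34179 : sm gd N3475 = N5203 := rfl
theorem L34180 : sm gd N5203 = N3475 := flp_d L34179
theorem L34183 : sm gf N3476 = N5204 := rfl
theorem L34189 : sm gd N5204 = N3477 := ded_23_1 L25602 L25591 L34183
theorem L34190 : sm gd N3477 = N5204 := flp_d L34189
theorem L34203 : sm gb N3477 = N5206 := rfl
theorem L34204 : sm gb N5206 = N3477 := flp_b L34203
theorem L34205 : sm ge N5206 = N4401 := ded_15_2 L30047 L25608 L34203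
theorem L34206 : sm ge N4401 = N5206 := flp_e L34205
theorem L34207 : sm gf N5206 = N4248 := ded_16_2 L29335 L22938 L24214 L25601 L34203
theorem L34215 : sm gb N3479 = N5208 := rfl
theorem L34216 : sm gb N5208 = N3479 := flp_b L34215
theorem L34217 : sm ga N5208 = N5208 := ded_7_1 L34216 L25619 L25683 L31653 L31656 L31652 L25684 L25620 L34215
theorem L34218 : sm gd N3479 = N5209 := rfl
theorem L34219 : sm gd N5209 = N3479 := flp_d L34218
theorem L34220 : sm ga N5209 = N3493 := ded_9_1 L25688 L25620 L34218
theorem L34221 : sm ga N3493 = N5209 := flp_a L34220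
theorem L34222 : sm gc N3480 = N5209 := ded_28_0 L34219 L25618 L20955 L20950 L25591 L25600 L23883 L25624
theorem L34223 : sm gc N5209 = N3480 := flp_c L34222
theorem L34224 : sm ge N3479 = N5209 := ded_10_0 L34220 L25692 L25620
theorem L34225 : sm ge N5209 = N3479 := flp_e L34224
theorem L34226 : sm gf N3479 = N5210 := rfl
theorem L34227 : sm gf N5210 = N3479 := flp_f L34226
theorem L34228 : sm ga N5210 = N3494 := ded_11_1 L25694 L25620 L34226
theorem L34229 : sm ga N3494 = N5210 := flp_a L34228
theorem L34230 : sm gc N5210 = N3481 := ded_20_1 L25626 L25617 L34226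
theorem L34231 : sm gc N3481 = N5210 := flp_c L34230
theorem L34232 : sm gg N3479 = N5211 := rfl
theorem L34233 : sm gg N5211 = N3479 := flp_g L34232
theorem L34234 : sm ga N5211 = N3495 := ded_12_1 L25698 L25620 L34232
theorem L34235 : sm ga N3495 = N5211 := flp_a L34234
theorem L34236 : sm gc N5211 = N3482 := ded_21_1 L25632 L25617 L34232
theorem L34237 : sm gc N3482 = N5211 := flp_c L34236
theorem L34238 : sm gf N3480 = N5212 := rfl
theorem L34239 : sm gf N5212 = N3480 := flp_f L34238
theorem L34240 : sm ga N5212 = N3496 := ded_11_1 L25702 L25624 L34238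
theorem L34242 : sm ge N5212 = N3481 := ded_25_1 L25626 L25621 L34238
theorem L34244 : sm gg N3480 = N5213 := rfl
theorem L34245 : sm gg N5213 = N3480 := flp_g L34244
theorem L34248 : sm ge N5213 = N3482 := ded_26_1 L25632 L25621 L34244
theorem L34249 : sm ge N3482 = N5213 := flp_e L34248
theorem L34250 : sm gb N3481 = N5214 := rfl
theorem L34251 : sm gb N5214 = N3481 := flp_b L34250
theorem L34252 : sm gd N5214 = N3483 := ded_14_2 L25638 L25630 L34250
theorem L34253 : sm gd N3483 = N5214 := flp_d L34252
theorem L34254 : sm gb N3482 = N5215 := rfl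
theorem L34256 : sm gd N5215 = N3484 := ded_14_2 L25640 L25636 L34254
theorem L34257 : sm gd N3484 = N5215 := flp_d L34256
theorem L34258 : sm ga N3483 = N5216 := rfl
theorem L34259 : sm ga N5216 = N3483 := flp_a L34258
theorem L34260 : sm gc N3483 = N5217 := rfl
theorem L34261 : sm gc N5217 = N3483 := flp_c L34260
theorem L34262 : sm gg N3483 = N5218 := rfl
theorem L34263 : sm gg N5218 = N3483 := flp_g L34262
theorem L34264 : sm ga N3484 = N5219 := rfl
theorem L34265 : sm ga N5219 = N3484 := flp_a L34264
theorem L34266 : sm gc N3484 = N5220 := rfl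
theorem L34267 : sm gc N5220 = N3484 := flp_c L34266
theorem L34268 : sm gf N3484 = N5221 := rfl
theorem L34269 : sm gf N5221 = N3484 := flp_f L34268
theorem L34290 : sm gb N3486 = N5224 := rfl
theorem L34294 : sm ge N5224 = N3799 := ded_15_2 L27017 L25654 L34290
theorem L34295 : sm ge N3799 = N5224 := flp_e L34294
theorem L34296 : sm gf N5224 = N3799 := ded_16_2 L27017 L21669 L20969 L25649 L34290
theorem L34297 : sm gf N3799 = N5224 := flp_f L34296
theorem L34298 : sm gg N3486 = N5225 := rfl
theorem L34300 : sm gd N5225 = N3489 := ded_24_1 L25666 L25652 L34298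
theorem L34301 : sm gd N3489 = N5225 := flp_d L34300
theorem L34306 : sm gb N3487 = N5226 := rfl
theorem L34308 : sm gd N5226 = N3490 := ded_14_2 L25672 L25658 L34306
theorem L34309 : sm gd N3490 = N5226 := flp_d L34308
theorem L34310 : sm ge N5226 = N3801 := ded_15_2 L27027 L25660 L34306
theorem L34311 : sm ge N3801 = N5226 := flp_e L34310
theorem L34312 : sm gg N5226 = N3801 := ded_17_2 L27027 L21673 L20969 L25655 L34306
theorem L34313 : sm gg N3801 = N5226 := flp_g L34312
theorem L34324 : sm ga N3488 = N5228 := rfl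
theorem L34325 : sm ga N5228 = N3488 := flp_a L34324
theorem L34326 : sm gf N5228 = N3803 := ded_11_2 L27039 L25664 L34324
theorem L34327 : sm gf N3803 = N5228 := flp_f L34326
theorem L34328 : sm gc N3488 = N5229 := rfl
theorem L34329 : sm gc N5229 = N3488 := flp_c L34328
theorem L34334 : sm gg N3488 = N5230 := rfl
theorem L34335 : sm gg N5230 = N3488 := flp_g L34334
theorem L34336 : sm gb N3489 = N5231 := rfl
theorem L34337 : sm gb N5231 = N3489 := flp_b L34336
theorem L34338 : sm ga N3490 = N5232 := rfl
theorem L34339 : sm ga N5232 = N3490 := flp_a L34338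
theorem L34340 : sm gg N5232 = N3807 := ded_12_2 L27049 L25674 L34338
theorem L34341 : sm gg N3807 = N5232 := flp_g L34340
theorem L34348 : sm gf N3490 = N5234 := rfl
theorem L34349 : sm gf N5234 = N3490 := flp_f L34348
theorem L34350 : sm gb N3491 = N5235 := rfl
theorem L34351 : sm gb N5235 = N3491 := flp_b L34350
theorem L34352 : sm gd N3492 = N5236 := rfl
theorem L34353 : sm gd N5236 = N3492 := flp_d L34352
theorem L34354 : sm ga N5236 = N4061 := ded_9_1 L31657 L31652 L34352
theorem L34355 : sm ga N4061 = N5236 := flp_a L34354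
theorem L34356 : sm gb N5236 = N3493 := ded_14_1 L25688 L25683 L34352
theorem L34357 : sm gb N3493 = N5236 := flp_b L34356
theorem L34358 : sm gc N3510 = N5236 := ded_28_0 L34353 L25685 L21012 L20194 L10376 L19437 L22468 L25762
theorem L34359 : sm gc N5236 = N3510 := flp_c L34358
theorem L34360 : sm ge N3492 = N5236 := ded_32_0 L34353 L25685 L21012 L20194 L10375 L5119 L4211 L2073 L1101 L17946 L2209 L4541 L12412 L7737 L7723 L7721 L3761 L1904 L3086 L3088 L12367 L1201 L668 L387 L251 L140 L83 L38 L20 L37 L79 L121 L247 L383 L653 L17872 L429 L287 L430 L634 L1089 L18349 L633 L429 L287 L16747 L658 L654 L384 L248 L123 L139 L144 L283 L444 L761 L1342 L1344 L1451 L2845 L5993 L18572 L20732 L21926 L21922 L19184 L19224 L19857 L24221 L24248 L21665 L20969 L20967 L18702 L18705 L20978 L25683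
theorem L34361 : sm ge N5236 = N3492 := flp_e L34360
theorem L34362 : sm gf N3492 = N5237 := rfl
theorem L34363 : sm gf N5237 = N3492 := flp_f L34362
theorem L34366 : sm gg N3492 = N5238 := rfl
theorem L34367 : sm gg N5238 = N3492 := flp_g L34366
theorem L34368 : sm gc N5238 = N3512 := ded_21_1 L25772 L25686 L34366
theorem L34369 : sm gc N3512 = N5238 := flp_c L34368
theorem L34370 : sm gf N3493 = N5239 := rfl
theorem L34371 : sm gf N5239 = N3493 := flp_f L34370
theorem L34372 : sm gc N5239 = N3496 := ded_20_1 L25702 L25689 L34370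
theorem L34373 : sm gc N3496 = N5239 := flp_c L34372
theorem L34374 : sm gd N5239 = N3494 := ded_23_1 L25694 L25687 L34370
theorem L34375 : sm gd N3494 = N5239 := flp_d L34374
theorem L34376 : sm ge N5239 = N3494 := ded_25_1 L25694 L25691 L34370
theorem L34377 : sm ge N3494 = N5239 := flp_e L34376
theorem L34378 : sm gg N3493 = N5240 := rfl
theorem L34379 : sm gg N5240 = N3493 := flp_g L34378
theorem L34380 : sm gc N5240 = N3497 := ded_21_1 L25706 L25689 L34378
theorem L34381 : sm gc N3497 = N5240 := flp_c L34380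
theorem L34382 : sm gd N5240 = N3495 := ded_24_1 L25698 L25687 L34378
theorem L34383 : sm gd N3495 = N5240 := flp_d L34382
theorem L34386 : sm gb N3494 = N5241 := rfl
theorem L34387 : sm gb N5241 = N3494 := flp_b L34386
theorem L34388 : sm gg N3494 = N5242 := rfl
theorem L34389 : sm gg N5242 = N3494 := flp_g L34388
theorem L34390 : sm gc N5242 = N3499 := ded_21_1 L25716 L25696 L34388
theorem L34391 : sm gc N3499 = N5242 := flp_c L34390
theorem L34392 : sm gf N5211 = N5242 := ded_29_0 L34389 L25694 L25697 L34235
theorem L34393 : sm gf N5242 = N5211 := flp_f L34392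
theorem L34394 : sm gb N3495 = N5243 := rfl
theorem L34395 : sm gb N5243 = N3495 := flp_b L34394
theorem L34396 : sm gf N3495 = N5244 := rfl
theorem L34397 : sm gf N5244 = N3495 := flp_f L34396
theorem L34398 : sm ga N5244 = N5242 := ded_11_1 L34393 L34234 L34396
theorem L34399 : sm ga N5242 = N5244 := flp_a L34398
theorem L34400 : sm gc N5244 = N3501 := ded_20_1 L25728 L25700 L34396
theorem L34401 : sm gc N3501 = N5244 := flp_c L34400
theorem L34402 : sm gg N5244 = N5210 := ded_29_3 L34228 L25694 L25697 L34396
theorem L34403 : sm gg N5210 = N5244 := flp_g L34402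
theorem L34404 : sm gb N3496 = N5245 := rfl
theorem L34405 : sm gb N5245 = N3496 := flp_b L34404
theorem L34410 : sm gg N3496 = N5246 := rfl
theorem L34411 : sm gg N5246 = N3496 := flp_g L34410
theorem L34412 : sm ge N5246 = N3499 := ded_26_1 L25716 L25704 L34410
theorem L34413 : sm ge N3499 = N5246 := flp_e L34412
theorem L34422 : sm gf N3497 = N5248 := rfl
theorem L34423 : sm gf N5248 = N3497 := flp_f L34422
theorem L34428 : sm gg N5248 = N5212 := ded_29_3 L34240 L25702 L25705 L34422
theorem L34429 : sm gg N5212 = N5248 := flp_g L34428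
theorem L34430 : sm ga N3498 = N5249 := rfl
theorem L34432 : sm gd N5249 = N3502 := ded_9_2 L25736 L25712 L34430
theorem L34433 : sm gd N3502 = N5249 := flp_d L34432
theorem L34434 : sm gf N5249 = N3519 := ded_11_2 L25808 L25714 L34430
theorem L34435 : sm gf N3519 = N5249 := flp_f L34434
theorem L34436 : sm gc N3498 = N5250 := rfl
theorem L34437 : sm gc N5250 = N3498 := flp_c L34436
theorem L34438 : sm gf N5250 = N3520 := ded_20_2 L25812 L25714 L34436
theorem L34440 : sm gg N3498 = N5251 := rfl
theorem L34441 : sm gg N5251 = N3498 := flp_g L34440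
theorem L34448 : sm ga N3500 = N5253 := rfl
theorem L34449 : sm ga N5253 = N3500 := flp_a L34448
theorem L34452 : sm gg N5253 = N3522 := ded_12_2 L25818 L25726 L34448
theorem L34453 : sm gg N3522 = N5253 := flp_g L34452
theorem L34454 : sm gc N3500 = N5254 := rfl
theorem L34455 : sm gc N5254 = N3500 := flp_c L34454
theorem L34456 : sm gg N5254 = N3523 := ded_21_2 L25822 L25726 L34454
theorem L34457 : sm gg N3523 = N5254 := flp_g L34456
theorem L34458 : sm gf N3500 = N5255 := rfl
theorem L34462 : sm gb N3501 = N5256 := rfl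
theorem L34463 : sm gb N5256 = N3501 := flp_b L34462
theorem L34464 : sm gd N5256 = N3509 := ded_14_2 L25758 L25732 L34462
theorem L34465 : sm gd N3509 = N5256 := flp_d L34464
theorem L34466 : sm gb N3502 = N5257 := rfl
theorem L34467 : sm gb N5257 = N3502 := flp_b L34466
theorem L34468 : sm ge N5257 = N4338 := ded_15_2 L31142 L31136 L34466
theorem L34469 : sm ge N4338 = N5257 := flp_e L34468
theorem L34470 : sm gc N4276 = N5257 := ded_19_3 L34468 L29789 L29503
theorem L34471 : sm gc N5257 = N4276 := flp_c L34470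
theorem L34472 : sm gf N5023 = N5257 := ded_30_0 L34471 L29501 L23066 L19744 L19770 L19774 L18464 L19934 L19938 L18500 L9510 L17344 L5791 L18632 L20841 L25278 L25274 L25271 L33408
theorem L34473 : sm gf N5257 = N5023 := flp_f L34472
theorem L34474 : sm ga N5257 = N5025 := ded_11_1 L33413 L33408 L34472
theorem L34475 : sm ga N5025 = N5257 := flp_a L34474
theorem L34476 : sm gb N5096 = N5216 := ded_7_4 L34259 L25638 L20960 L20992 L25735 L34466 L34474 L33414 L33731
theorem L34477 : sm gb N5216 = N5096 := flp_b L34476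
theorem L34478 : sm gc N3502 = N5258 := rfl
theorem L34479 : sm gc N5258 = N3502 := flp_c L34478
theorem L34480 : sm ga N5258 = N3503 := ded_8_1 L25740 L25735 L34478
theorem L34481 : sm ga N3503 = N5258 := flp_a L34480
theorem L34484 : sm gf N5258 = N3526 := ded_20_2 L25830 L25738 L34478
theorem L34485 : sm gf N3526 = N5258 := flp_f L34484
theorem L34486 : sm gb N5258 = N4277 := ded_13_1 L29505 L29500 L34470 L34467 L34478
theorem L34487 : sm gb N4277 = N5258 := flp_b L34486
theorem L34488 : sm gd N3503 = N5259 := rfl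
theorem L34489 : sm gd N5259 = N3503 := flp_d L34488
theorem L34490 : sm gf N5259 = N3528 := ded_23_2 L25840 L25742 L34488
theorem L34491 : sm gf N3528 = N5259 := flp_f L34490
theorem L34496 : sm gb N3504 = N5261 := rfl
theorem L34497 : sm gb N5261 = N3504 := flp_b L34496
theorem L34498 : sm gg N5261 = N3505 := ded_17_2 L25746 L20997 L20992 L25743 L34496
theorem L34499 : sm gg N3505 = N5261 := flp_g L34498
theorem L34502 : sm gc N3505 = N5263 := rfl
theorem L34503 : sm gc N5263 = N3505 := flp_c L34502
theorem L34504 : sm gf N3505 = N5264 := rfl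
theorem L34506 : sm gb N5264 = N5221 := ded_16_1 L34269 L25640 L20998 L25745 L34504
theorem L34508 : sm gb N3506 = N5265 := rfl
theorem L34509 : sm gb N5265 = N3506 := flp_b L34508
theorem L34510 : sm gc N3506 = N5266 := rfl
theorem L34512 : sm ga N5266 = N3507 := ded_8_1 L25752 L25747 L34510
theorem L34513 : sm ga N3507 = N5266 := flp_a L34512
theorem L34514 : sm gg N5266 = N3532 := ded_21_2 L25856 L25750 L34510
theorem L34515 : sm gg N3532 = N5266 := flp_g L34514
theorem L34516 : sm gd N3507 = N5267 := rfl
theorem L34517 : sm gd N5267 = N3507 := flp_d L34516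
theorem L34518 : sm gg N5267 = N3534 := ded_24_2 L25866 L25754 L34516
theorem L34519 : sm gg N3534 = N5267 := flp_g L34518
theorem L34520 : sm gf N3507 = N5268 := rfl
theorem L34524 : sm gb N3508 = N5269 := rfl
theorem L34526 : sm gf N5269 = N3509 := ded_16_2 L25758 L21005 L21000 L25755 L34524
theorem L34532 : sm gg N3509 = N5272 := rfl
theorem L34533 : sm gg N5272 = N3509 := flp_g L34532
theorem L34534 : sm gb N5272 = N5218 := ded_17_1 L34263 L25638 L21009 L25757 L34532
theorem L34535 : sm gb N5218 = N5272 := flp_b L34534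
theorem L34536 : sm gf N3510 = N5273 := rfl
theorem L34537 : sm gf N5273 = N3510 := flp_f L34536
theorem L34540 : sm gd N5273 = N4059 := ded_23_1 L28427 L25766 L34536
theorem L34541 : sm gd N4059 = N5273 := flp_d L34540
theorem L34542 : sm ge N5273 = N3511 := ded_25_1 L25768 L25759 L34536
theorem L34543 : sm ge N3511 = N5273 := flp_e L34542
theorem L34544 : sm gg N3510 = N5274 := rfl
theorem L34545 : sm gg N5274 = N3510 := flp_g L34544
theorem L34546 : sm ga N5274 = N4063 := ded_12_1 L28450 L25762 L34544
theorem L34547 : sm ga N4063 = N5274 := flp_a L34546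
theorem L34564 : sm gb N3512 = N5277 := rfl
theorem L34566 : sm gd N5277 = N4624 := ded_14_2 L31301 L25774 L34564
theorem L34567 : sm gd N4624 = N5277 := flp_d L34566
theorem L34568 : sm gg N5277 = N3516 := ded_17_2 L25796 L21029 L21010 L25771 L34564
theorem L34569 : sm gg N3516 = N5277 := flp_g L34568
theorem L34570 : sm gf N3512 = N5278 := rfl
theorem L34571 : sm gf N5278 = N3512 := flp_f L34570
theorem L34576 : sm gg N5278 = N4691 := ded_29_3 L31661 L25768 L25771 L34570
theorem L34578 : sm gb N3513 = N5279 := rfl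
theorem L34579 : sm gb N5279 = N3513 := flp_b L34578
theorem L34580 : sm ge N5279 = N3515 := ded_15_2 L25792 L25782 L34578
theorem L34581 : sm ge N3515 = N5279 := flp_e L34580
theorem L34582 : sm gb N3514 = N5280 := rfl
theorem L34583 : sm gb N5280 = N3514 := flp_b L34582
theorem L34584 : sm ge N5280 = N3516 := ded_15_2 L25796 L25790 L34582
theorem L34590 : sm gc N3515 = N5282 := rfl
theorem L34591 : sm gc N5282 = N3515 := flp_c L34590
theorem L34606 : sm gf N3516 = N5286 := rfl
theorem L34607 : sm gf N5286 = N3516 := flp_f L34606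
theorem L34608 : sm gd N5286 = N4636 := ded_23_1 L31363 L25798 L34606
theorem L34610 : sm ga N3517 = N5287 := rfl
theorem L34611 : sm ga N5287 = N3517 := flp_a L34610
theorem L34612 : sm ge N5287 = N3519 := ded_10_2 L25808 L25802 L34610
theorem L34613 : sm ge N3519 = N5287 := flp_e L34612
theorem L34614 : sm gc N3517 = N5288 := rfl
theorem L34615 : sm gc N5288 = N3517 := flp_c L34614
theorem L34622 : sm ga N3518 = N5290 := rfl
theorem L34623 : sm ga N5290 = N3518 := flp_a L34622
theorem L34624 : sm ge N5290 = N3522 := ded_10_2 L25818 L25806 L34622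
theorem L34625 : sm ge N3522 = N5290 := flp_e L34624
theorem L34634 : sm gb N3519 = N5293 := rfl
theorem L34636 : sm gd N5293 = N3525 := ded_14_2 L25828 L25810 L34634
theorem L34637 : sm gd N3525 = N5293 := flp_d L34636
theorem L34638 : sm gc N3519 = N5294 := rfl
theorem L34639 : sm gc N5294 = N3519 := flp_c L34638
theorem L34640 : sm ga N5294 = N3520 := ded_8_1 L25812 L25807 L34638
theorem L34641 : sm ga N3520 = N5294 := flp_a L34640
theorem L34642 : sm gg N3519 = N5295 := rfl
theorem L34643 : sm gg N5295 = N3519 := flp_g L34642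
theorem L34648 : sm gf N5295 = N5251 := ded_29_2 L34441 L34430 L34434 L34642
theorem L34649 : sm gf N5251 = N5295 := flp_f L34648
theorem L34650 : sm gd N3520 = N5296 := rfl
theorem L34651 : sm gd N5296 = N3520 := flp_d L34650
theorem L34652 : sm gg N3520 = N5297 := rfl
theorem L34653 : sm gg N5297 = N3520 := flp_g L34652
theorem L34664 : sm gb N3522 = N5299 := rfl
theorem L34666 : sm gd N5299 = N3531 := ded_14_2 L25854 L25820 L34664
theorem L34667 : sm gd N3531 = N5299 := flp_d L34666
theorem L34668 : sm gc N3522 = N5300 := rfl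
theorem L34669 : sm gc N5300 = N3522 := flp_c L34668
theorem L34670 : sm ga N5300 = N3523 := ded_8_1 L25822 L25817 L34668
theorem L34671 : sm ga N3523 = N5300 := flp_a L34670
theorem L34672 : sm gf N3522 = N5301 := rfl
theorem L34673 : sm gf N5301 = N3522 := flp_f L34672
theorem L34676 : sm gd N5301 = N3533 := ded_23_1 L25860 L25820 L34672
theorem L34677 : sm gd N3533 = N5301 := flp_d L34676
theorem L34678 : sm gg N5255 = N5301 := ded_29_1 L34673 L34453 L34449 L34458
theorem L34680 : sm gd N3523 = N5302 := rfl
theorem L34681 : sm gd N5302 = N3523 := flp_d L34680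
theorem L34682 : sm gf N3523 = N5303 := rfl
theorem L34683 : sm gf N5303 = N3523 := flp_f L34682
theorem L34684 : sm gc N5303 = N3524 := ded_20_1 L25824 L25821 L34682
theorem L34685 : sm gc N3524 = N5303 := flp_c L34684
theorem L34686 : sm gg N3524 = N5304 := rfl
theorem L34687 : sm gg N5304 = N3524 := flp_g L34686
theorem L34694 : sm ga N3525 = N5305 := rfl
theorem L34695 : sm ga N5305 = N3525 := flp_a L34694
theorem L34696 : sm gb N5305 = N3577 := ded_7_2 L26066 L21189 L18792 L6008 L5984 L18735 L21056 L25827 L34694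
theorem L34698 : sm gc N3525 = N5306 := rfl
theorem L34699 : sm gc N5306 = N3525 := flp_c L34698
theorem L34700 : sm gf N3525 = N5307 := rfl
theorem L34701 : sm gf N5307 = N3525 := flp_f L34700
theorem L34702 : sm gb N5307 = N5023 := ded_16_1 L34472 L34467 L25737 L25827 L34700
theorem L34703 : sm gb N5023 = N5307 := flp_b L34702
theorem L34704 : sm ga N4969 = N5307 := ded_7_9 L34702 L33409 L25272 L20785 L18586 L18564 L20728 L25145 L33140
theorem L34706 : sm gf N5305 = N4969 := ded_11_0 L34704 L34701 L34694
theorem L34707 : sm gf N4969 = N5305 := flp_f L34706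
theorem L34708 : sm gg N3525 = N5308 := rfl
theorem L34709 : sm gg N5308 = N3525 := flp_g L34708
theorem L34710 : sm gb N3526 = N5309 := rfl
theorem L34711 : sm gb N5309 = N3526 := flp_b L34710
theorem L34712 : sm ge N5309 = N4381 := ded_15_2 L31224 L31220 L34710
theorem L34713 : sm ge N4381 = N5309 := flp_e L34712
theorem L34714 : sm gf N5309 = N4297 := ded_16_2 L29615 L29511 L34487 L34484 L34710
theorem L34715 : sm gf N4297 = N5309 := flp_f L34714
theorem L34716 : sm gd N3526 = N5310 := rfl
theorem L34717 : sm gd N5310 = N3526 := flp_d L34716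
theorem L34718 : sm ga N5310 = N3528 := ded_9_1 L25840 L25832 L34716
theorem L34728 : sm gb N3527 = N5312 := rfl
theorem L34732 : sm ge N3528 = N5314 := rfl
theorem L34733 : sm ge N5314 = N3528 := flp_e L34732
theorem L34734 : sm gb N5314 = N3829 := ded_15_1 L27198 L25842 L34732
theorem L34736 : sm gg N3528 = N5315 := rfl
theorem L34738 : sm gd N5315 = N3529 := ded_24_1 L25844 L25839 L34736
theorem L34739 : sm gd N3529 = N5315 := flp_d L34738
theorem L34740 : sm gb N3529 = N5316 := rfl
theorem L34741 : sm gb N5316 = N3529 := flp_b L34740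
theorem L34742 : sm gg N5316 = N3831 := ded_17_2 L27204 L21733 L21061 L25843 L34740
theorem L34743 : sm gg N3831 = N5316 := flp_g L34742
theorem L34752 : sm gb N3530 = N5318 := rfl
theorem L34753 : sm gb N5318 = N3530 := flp_b L34752
theorem L34754 : sm ga N3531 = N5319 := rfl
theorem L34755 : sm ga N5319 = N3531 := flp_a L34754
theorem L34756 : sm gb N5319 = N3592 := ded_7_2 L26122 L21219 L18808 L6018 L5990 L18737 L21064 L25853 L34754
theorem L34757 : sm gb N3592 = N5319 := flp_b L34756
theorem L34758 : sm gc N3531 = N5320 := rfl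
theorem L34759 : sm gc N5320 = N3531 := flp_c L34758
theorem L34760 : sm gf N3531 = N5321 := rfl
theorem L34761 : sm gf N5321 = N3531 := flp_f L34760
theorem L34762 : sm gg N3531 = N5322 := rfl
theorem L34763 : sm gg N5322 = N3531 := flp_g L34762
theorem L34764 : sm gb N3532 = N5323 := rfl
theorem L34765 : sm gb N5323 = N3532 := flp_b L34764
theorem L34766 : sm gd N3532 = N5324 := rfl
theorem L34767 : sm gd N5324 = N3532 := flp_d L34766
theorem L34768 : sm ga N5324 = N3534 := ded_9_1 L25866 L25858 L34766
theorem L34778 : sm gb N3533 = N5326 := rfl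
theorem L34779 : sm gb N5326 = N3533 := flp_b L34778
theorem L34780 : sm gc N3534 = N5327 := rfl
theorem L34781 : sm gc N5327 = N3534 := flp_c L34780
theorem L34782 : sm ge N3534 = N5328 := rfl
theorem L34783 : sm ge N5328 = N3534 := flp_e L34782
theorem L34786 : sm gf N3534 = N5329 := rfl
theorem L34787 : sm gf N5329 = N3534 := flp_f L34786
theorem L34788 : sm gd N5329 = N3535 := ded_23_1 L25870 L25865 L34786
theorem L34790 : sm gb N3535 = N5330 := rfl
theorem L34791 : sm gb N5330 = N3535 := flp_b L34790
theorem L34792 : sm gf N5330 = N3841 := ded_16_2 L27244 L21758 L21069 L25869 L34790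
theorem L34793 : sm gf N3841 = N5330 := flp_f L34792
theorem L34802 : sm gb N3536 = N5332 := rfl
theorem L34803 : sm gb N5332 = N3536 := flp_b L34802
theorem L34804 : sm gb N3537 = N5333 := rfl
theorem L34806 : sm gd N5333 = N4039 := ded_14_2 L28296 L25886 L34804
theorem L34807 : sm gd N4039 = N5333 := flp_d L34806
theorem L34808 : sm ge N5333 = N3539 := ded_15_2 L25900 L25888 L34804
theorem L34809 : sm ge N3539 = N5333 := flp_e L34808
theorem L34810 : sm gb N3538 = N5334 := rfl
theorem L34812 : sm gd N5334 = N4041 := ded_14_2 L28308 L25896 L34810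
theorem L34813 : sm gd N4041 = N5334 := flp_d L34812
theorem L34814 : sm ge N5334 = N3540 := ded_15_2 L25904 L25898 L34810
theorem L34815 : sm ge N3540 = N5334 := flp_e L34814
theorem L34816 : sm ga N3539 = N5335 := rfl
theorem L34817 : sm ga N5335 = N3539 := flp_a L34816
theorem L34820 : sm gc N3539 = N5336 := rfl
theorem L34821 : sm gc N5336 = N3539 := flp_c L34820
theorem L34822 : sm gb N5336 = N4605 := ded_13_1 L31197 L23936 L21083 L25899 L34820
theorem L34823 : sm gb N4605 = N5336 := flp_b L34822
theorem L34824 : sm gg N3539 = N5337 := rfl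
theorem L34825 : sm gg N5337 = N3539 := flp_g L34824
theorem L34828 : sm ga N3540 = N5338 := rfl
theorem L34829 : sm ga N5338 = N3540 := flp_a L34828
theorem L34830 : sm gd N5338 = N3549 := ded_9_2 L25944 L25906 L34828
theorem L34831 : sm gd N3549 = N5338 := flp_d L34830
theorem L34836 : sm gf N3540 = N5340 := rfl
theorem L34837 : sm gf N5340 = N3540 := flp_f L34836
theorem L34840 : sm ga N3541 = N5341 := rfl
theorem L34841 : sm ga N5341 = N3541 := flp_a L34840
theorem L34842 : sm ge N5341 = N3545 := ded_10_2 L25934 L25910 L34840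
theorem L34843 : sm ge N3545 = N5341 := flp_e L34842
theorem L34844 : sm gc N3541 = N5342 := rfl
theorem L34845 : sm gc N5342 = N3541 := flp_c L34844
theorem L34846 : sm ge N5342 = N3546 := ded_19_2 L25936 L25910 L34844
theorem L34847 : sm ge N3546 = N5342 := flp_e L34846
theorem L34848 : sm gb N5342 = N3554 := ded_13_1 L25960 L21127 L21099 L25907 L34844
theorem L34849 : sm gb N3554 = N5342 := flp_b L34848
theorem L34850 : sm gg N3541 = N5343 := rfl
theorem L34851 : sm gg N5343 = N3541 := flp_g L34850
theorem L34852 : sm ge N5343 = N3547 := ded_26_1 L25940 L25910 L34850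
theorem L34853 : sm ge N3547 = N5343 := flp_e L34852
theorem L34854 : sm gb N3542 = N5344 := rfl
theorem L34855 : sm gb N5344 = N3542 := flp_b L34854
theorem L34856 : sm ge N5344 = N3548 := ded_15_2 L25942 L25916 L34854
theorem L34857 : sm ge N3548 = N5344 := flp_e L34856
theorem L34858 : sm ga N3543 = N5345 := rfl
theorem L34859 : sm ga N5345 = N3543 := flp_a L34858
theorem L34860 : sm ge N5345 = N3549 := ded_10_2 L25944 L25922 L34858
theorem L34861 : sm ge N3549 = N5345 := flp_e L34860
theorem L34862 : sm gc N3543 = N5346 := rfl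
theorem L34863 : sm gc N5346 = N3543 := flp_c L34862
theorem L34864 : sm ge N5346 = N3550 := ded_19_2 L25946 L25922 L34862
theorem L34865 : sm ge N3550 = N5346 := flp_e L34864
theorem L34868 : sm gf N3543 = N5347 := rfl
theorem L34869 : sm gf N5347 = N3543 := flp_f L34868
theorem L34872 : sm gb N3544 = N5348 := rfl
theorem L34873 : sm gb N5348 = N3544 := flp_b L34872
theorem L34874 : sm ge N5348 = N3552 := ded_15_2 L25952 L25930 L34872
theorem L34875 : sm ge N3552 = N5348 := flp_e L34874
theorem L34876 : sm gb N3545 = N5349 := rfl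
theorem L34877 : sm gb N5349 = N3545 := flp_b L34876
theorem L34878 : sm gc N3545 = N5350 := rfl
theorem L34879 : sm gc N5350 = N3545 := flp_c L34878
theorem L34880 : sm ga N5350 = N3546 := ded_8_1 L25936 L25933 L34878
theorem L34881 : sm ga N3546 = N5350 := flp_a L34880
theorem L34888 : sm gd N3546 = N5352 := rfl
theorem L34889 : sm gd N5352 = N3546 := flp_d L34888
theorem L34890 : sm gb N5352 = N3563 := ded_14_1 L26004 L25938 L34888
theorem L34892 : sm gg N3546 = N5353 := rfl
theorem L34893 : sm gg N5353 = N3546 := flp_g L34892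
theorem L34896 : sm gb N3547 = N5354 := rfl
theorem L34897 : sm gb N5354 = N3547 := flp_b L34896
theorem L34898 : sm gg N5354 = N3548 := ded_17_2 L25942 L21111 L21108 L25939 L34896
theorem L34899 : sm gg N3548 = N5354 := flp_g L34898
theorem L34906 : sm ga N3548 = N5356 := rfl
theorem L34907 : sm ga N5356 = N3548 := flp_a L34906
theorem L34908 : sm gc N3548 = N5357 := rfl
theorem L34909 : sm gc N5357 = N3548 := flp_c L34908
theorem L34910 : sm gb N5357 = N3567 := ded_13_1 L26022 L21167 L21113 L25941 L34908
theorem L34911 : sm gb N3567 = N5357 := flp_b L34910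
theorem L34912 : sm gf N3548 = N5358 := rfl
theorem L34913 : sm gf N5358 = N3548 := flp_f L34912
theorem L34914 : sm gb N5358 = N5286 := ded_16_1 L34607 L25796 L21114 L25941 L34912
theorem L34915 : sm gb N5286 = N5358 := flp_b L34914
theorem L34916 : sm gb N3549 = N5359 := rfl
theorem L34917 : sm gb N5359 = N3549 := flp_b L34916
theorem L34918 : sm gc N3549 = N5360 := rfl
theorem L34919 : sm gc N5360 = N3549 := flp_c L34918
theorem L34920 : sm ga N5360 = N3550 := ded_8_1 L25946 L25943 L34918
theorem L34921 : sm ga N3550 = N5360 := flp_a L34920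
theorem L34922 : sm gf N3549 = N5361 := rfl
theorem L34923 : sm gf N5361 = N3549 := flp_f L34922
theorem L34926 : sm gg N4997 = N5361 := ded_29_1 L34923 L33285 L33283 L33292
theorem L34928 : sm gd N3550 = N5362 := rfl
theorem L34929 : sm gd N5362 = N3550 := flp_d L34928
theorem L34930 : sm gb N5362 = N3571 := ded_14_1 L26040 L25948 L34928
theorem L34931 : sm gb N3571 = N5362 := flp_b L34930
theorem L34932 : sm gf N3550 = N5363 := rfl
theorem L34933 : sm gf N5363 = N3550 := flp_f L34932
theorem L34946 : sm ga N3552 = N5366 := rfl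
theorem L34948 : sm gc N3552 = N5367 := rfl
theorem L34949 : sm gc N5367 = N3552 := flp_c L34948
theorem L34952 : sm gg N3552 = N5368 := rfl
theorem L34953 : sm gg N5368 = N3552 := flp_g L34952
theorem L34956 : sm gb N3553 = N5369 := rfl
theorem L34957 : sm gb N5369 = N3553 := flp_b L34956
theorem L34958 : sm ge N5369 = N3561 := ded_15_2 L25994 L25956 L34956
theorem L34959 : sm ge N3561 = N5369 := flp_e L34958
theorem L34960 : sm gc N3553 = N5370 := rfl
theorem L34961 : sm gc N5370 = N3553 := flp_c L34960
theorem L34962 : sm ga N5370 = N3554 := ded_8_1 L25960 L25953 L34960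
theorem L34963 : sm ga N3554 = N5370 := flp_a L34962
theorem L34964 : sm ge N5370 = N3562 := ded_19_2 L25998 L25956 L34960
theorem L34965 : sm ge N3562 = N5370 := flp_e L34964
theorem L34966 : sm gf N5370 = N3606 := ded_20_2 L26174 L25958 L34960
theorem L34968 : sm gd N3554 = N5371 := rfl
theorem L34969 : sm gd N5371 = N3554 := flp_d L34968
theorem L34970 : sm gf N5371 = N3608 := ded_23_2 L26188 L25964 L34968
theorem L34971 : sm gf N3608 = N5371 := flp_f L34970
theorem L34972 : sm gg N3554 = N5372 := rfl
theorem L34973 : sm gg N5372 = N3554 := flp_g L34972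
theorem L34976 : sm ge N5372 = N3564 := ded_26_1 L26008 L25962 L34972
theorem L34977 : sm ge N3564 = N5372 := flp_e L34976
theorem L34978 : sm gb N3555 = N5373 := rfl
theorem L34979 : sm gb N5373 = N3555 := flp_b L34978
theorem L34980 : sm ge N5373 = N3565 := ded_15_2 L26012 L25968 L34978
theorem L34981 : sm ge N3565 = N5373 := flp_e L34980
theorem L34982 : sm gg N5373 = N3556 := ded_17_2 L25970 L21133 L21126 L25965 L34978
theorem L34983 : sm gg N3556 = N5373 := flp_g L34982
theorem L34984 : sm ga N3556 = N5374 := rfl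
theorem L34985 : sm ga N5374 = N3556 := flp_a L34984
theorem L34986 : sm ge N5374 = N3566 := ded_10_2 L26018 L25972 L34984
theorem L34987 : sm ge N3566 = N5374 := flp_e L34986
theorem L34988 : sm gc N3556 = N5375 := rfl
theorem L34989 : sm gc N5375 = N3556 := flp_c L34988
theorem L34990 : sm ge N5375 = N3567 := ded_19_2 L26022 L25972 L34988
theorem L34991 : sm ge N3567 = N5375 := flp_e L34990
theorem L34992 : sm gf N3556 = N5376 := rfl
theorem L34993 : sm gf N5376 = N3556 := flp_f L34992
theorem L34994 : sm ge N5376 = N3568 := ded_25_1 L26024 L25972 L34992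
theorem L34995 : sm ge N3568 = N5376 := flp_e L34994
theorem L34998 : sm gb N3557 = N5377 := rfl
theorem L34999 : sm gb N5377 = N3557 := flp_b L34998
theorem L35000 : sm ge N5377 = N3569 := ded_15_2 L26030 L25976 L34998
theorem L35001 : sm ge N3569 = N5377 := flp_e L35000
theorem L35002 : sm gc N3557 = N5378 := rfl
theorem L35006 : sm ge N5378 = N3570 := ded_19_2 L26034 L25976 L35002
theorem L35007 : sm ge N3570 = N5378 := flp_e L35006
theorem L35008 : sm gg N5378 = N3616 := ded_21_2 L26228 L25978 L35002
theorem L35009 : sm gg N3616 = N5378 := flp_g L35008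
theorem L35014 : sm gf N3558 = N5380 := rfl
theorem L35016 : sm gc N5380 = N3559 := ded_20_1 L25986 L25979 L35014
theorem L35017 : sm gc N3559 = N5380 := flp_c L35016
theorem L35018 : sm ge N5380 = N3572 := ded_25_1 L26044 L25982 L35014
theorem L35020 : sm gb N3559 = N5381 := rfl
theorem L35022 : sm ge N5381 = N3573 := ded_15_2 L26048 L25988 L35020
theorem L35023 : sm ge N3573 = N5381 := flp_e L35022
theorem L35024 : sm gf N5381 = N3560 := ded_16_2 L25990 L21145 L21138 L25985 L35020
theorem L35025 : sm gf N3560 = N5381 := flp_f L35024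
theorem L35026 : sm ga N3560 = N5382 := rfl
theorem L35027 : sm ga N5382 = N3560 := flp_a L35026
theorem L35052 : sm gg N3561 = N5388 := rfl
theorem L35053 : sm gg N5388 = N3561 := flp_g L35052
theorem L35054 : sm gd N5388 = N3580 := ded_24_1 L26074 L25996 L35052
theorem L35055 : sm gd N3580 = N5388 := flp_d L35054
theorem L35058 : sm ge N3563 = N5390 := rfl
theorem L35059 : sm ge N5390 = N3563 := flp_e L35058
theorem L35060 : sm gf N5390 = N3632 := ded_25_2 L26308 L26006 L35058
theorem L35072 : sm ga N3565 = N5393 := rfl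
theorem L35073 : sm ga N5393 = N3565 := flp_a L35072
theorem L35076 : sm gg N5393 = N3566 := ded_12_2 L26018 L26016 L35072
theorem L35077 : sm gg N3566 = N5393 := flp_g L35076
theorem L35078 : sm gc N3565 = N5394 := rfl
theorem L35079 : sm gc N5394 = N3565 := flp_c L35078
theorem L35080 : sm gg N5394 = N3567 := ded_21_2 L26022 L26016 L35078
theorem L35081 : sm gg N3567 = N5394 := flp_g L35080
theorem L35082 : sm gf N3565 = N5395 := rfl
theorem L35083 : sm gf N5395 = N3565 := flp_f L35082
theorem L35086 : sm gb N3566 = N5396 := rfl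
theorem L35087 : sm gb N5396 = N3566 := flp_b L35086
theorem L35088 : sm gd N5396 = N3586 := ded_14_2 L26096 L26020 L35086
theorem L35089 : sm gd N3586 = N5396 := flp_d L35088
theorem L35090 : sm gc N3566 = N5397 := rfl
theorem L35091 : sm gc N5397 = N3566 := flp_c L35090
theorem L35092 : sm ga N5397 = N3567 := ded_8_1 L26022 L26017 L35090
theorem L35093 : sm ga N3567 = N5397 := flp_a L35092
theorem L35094 : sm gf N3566 = N5398 := rfl
theorem L35095 : sm gf N5398 = N3566 := flp_f L35094
theorem L35096 : sm ga N5398 = N3568 := ded_11_1 L26024 L26017 L35094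
theorem L35098 : sm gd N5398 = N3588 := ded_23_1 L26102 L26020 L35094
theorem L35100 : sm gg N5395 = N5398 := ded_29_1 L35095 L35077 L35073 L35082
theorem L35101 : sm gg N5398 = N5395 := flp_g L35100
theorem L35102 : sm gd N3567 = N5399 := rfl
theorem L35103 : sm gd N5399 = N3567 := flp_d L35102
theorem L35104 : sm gf N3567 = N5400 := rfl
theorem L35105 : sm gf N5400 = N3567 := flp_f L35104
theorem L35106 : sm gc N5400 = N3568 := ded_20_1 L26024 L26021 L35104
theorem L35107 : sm gc N3568 = N5400 := flp_c L35106
theorem L35108 : sm gg N3568 = N5401 := rfl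
theorem L35110 : sm ga N5401 = N5395 := ded_12_1 L35100 L35096 L35108
theorem L35112 : sm gd N5401 = N3591 := ded_24_1 L26116 L26026 L35108
theorem L35113 : sm gd N3591 = N5401 := flp_d L35112
theorem L35116 : sm ga N3569 = N5402 := rfl
theorem L35117 : sm ga N5402 = N3569 := flp_a L35116
theorem L35118 : sm gd N5402 = N3592 := ded_9_2 L26122 L26032 L35116
theorem L35119 : sm gd N3592 = N5402 := flp_d L35118
theorem L35120 : sm gc N3569 = N5403 := rfl
theorem L35121 : sm gc N5403 = N3569 := flp_c L35120
theorem L35122 : sm gf N3569 = N5404 := rfl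
theorem L35123 : sm gf N5404 = N3569 := flp_f L35122
theorem L35134 : sm gd N3570 = N5407 := rfl
theorem L35135 : sm gd N5407 = N3570 := flp_d L35134
theorem L35136 : sm ga N5407 = N3571 := ded_9_1 L26040 L26036 L35134
theorem L35137 : sm ga N3571 = N5407 := flp_a L35136
theorem L35138 : sm gg N5407 = N3651 := ded_24_2 L26388 L26038 L35134
theorem L35139 : sm gg N3651 = N5407 := flp_g L35138
theorem L35140 : sm gc N3571 = N5407 := ded_28_0 L35135 L26034 L21172 L18809 L21173 L26033 L35134 L35136
theorem L35142 : sm ge N3571 = N5408 := rfl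
theorem L35143 : sm ge N5408 = N3571 := flp_e L35142
theorem L35144 : sm gg N5408 = N3654 := ded_26_2 L26406 L26042 L35142
theorem L35162 : sm gg N3573 = N5413 := rfl
theorem L35163 : sm gg N5413 = N3573 := flp_g L35162
theorem L35166 : sm gb N3574 = N5414 := rfl
theorem L35168 : sm gd N5414 = N3599 := ded_14_2 L26144 L26056 L35166
theorem L35169 : sm gd N3599 = N5414 := flp_d L35168
theorem L35196 : sm gc N3577 = N5420 := rfl
theorem L35197 : sm gc N5420 = N3577 := flp_c L35196
theorem L35198 : sm ga N5420 = N3578 := ded_8_1 L26068 L26065 L35196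
theorem L35199 : sm ga N3578 = N5420 := flp_a L35198
theorem L35200 : sm gf N3577 = N5421 := rfl
theorem L35202 : sm ga N5421 = N3579 := ded_11_1 L26070 L26065 L35200
theorem L35204 : sm gb N5421 = N4949 := ded_16_1 L33066 L33140 L34707 L34696 L35200
theorem L35205 : sm gb N4949 = N5421 := flp_b L35204
theorem L35206 : sm gg N3577 = N5422 := rfl
theorem L35207 : sm gg N5422 = N3577 := flp_g L35206
theorem L35208 : sm ga N5422 = N3580 := ded_12_1 L26074 L26065 L35206
theorem L35209 : sm ga N3580 = N5422 := flp_a L35208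
theorem L35210 : sm gb N5137 = N5422 := ded_31_14 L35207 L35200 L35204 L33163 L33159 L25312 L25310 L25304 L25302 L20868 L20865 L20862 L25463 L33886
theorem L35211 : sm gb N5422 = N5137 := flp_b L35210
theorem L35212 : sm gb N3578 = N5423 := rfl
theorem L35214 : sm gc N5423 = N3581 := ded_13_2 L26076 L21191 L21188 L26067 L35212
theorem L35215 : sm gc N3581 = N5423 := flp_c L35214
theorem L35218 : sm gf N3578 = N5425 := rfl
theorem L35219 : sm gf N5425 = N3578 := flp_f L35218
theorem L35220 : sm gc N5425 = N3579 := ded_20_1 L26070 L26067 L35218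
theorem L35221 : sm gc N3579 = N5425 := flp_c L35220
theorem L35222 : sm gg N3578 = N5426 := rfl
theorem L35223 : sm gg N5426 = N3578 := flp_g L35222
theorem L35226 : sm gg N3579 = N5427 := rfl
theorem L35227 : sm gg N5427 = N3579 := flp_g L35226
theorem L35228 : sm gf N5422 = N5427 := ded_29_0 L35227 L26070 L26073 L35209
theorem L35229 : sm gf N5427 = N5422 := flp_f L35228
theorem L35230 : sm gf N3580 = N5428 := rfl
theorem L35231 : sm gf N5428 = N3580 := flp_f L35230
theorem L35234 : sm gg N5428 = N5421 := ded_29_3 L35202 L26070 L26073 L35230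
theorem L35235 : sm gg N5421 = N5428 := flp_g L35234
theorem L35236 : sm ga N3581 = N5429 := rfl
theorem L35237 : sm ga N5429 = N3581 := flp_a L35236
theorem L35238 : sm gd N5429 = N4337 := ded_9_2 L29787 L26078 L35236
theorem L35240 : sm gf N3581 = N5430 := rfl
theorem L35241 : sm gf N5430 = N3581 := flp_f L35240
theorem L35244 : sm gb N5430 = N3679 := ded_16_1 L26518 L21373 L21195 L26075 L35240
theorem L35245 : sm gb N3679 = N5430 := flp_b L35244
theorem L35246 : sm gg N3581 = N5431 := rfl
theorem L35247 : sm gg N5431 = N3581 := flp_g L35246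
theorem L35248 : sm gd N5431 = N4340 := ded_24_1 L29795 L26078 L35246
theorem L35249 : sm gd N4340 = N5431 := flp_d L35248
theorem L35250 : sm ga N3582 = N5432 := rfl
theorem L35251 : sm ga N5432 = N3582 := flp_a L35250
theorem L35254 : sm gg N5432 = N3855 := ded_12_2 L27322 L26084 L35250
theorem L35255 : sm gg N3855 = N5432 := flp_g L35254
theorem L35256 : sm gc N3582 = N5433 := rfl
theorem L35257 : sm gc N5433 = N3582 := flp_c L35256
theorem L35258 : sm gg N5433 = N3856 := ded_21_2 L27326 L26084 L35256
theorem L35259 : sm gg N3856 = N5433 := flp_g L35258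
theorem L35260 : sm gb N5433 = N3584 := ded_13_1 L26090 L21205 L21201 L26079 L35256
theorem L35262 : sm gf N3582 = N5434 := rfl
theorem L35263 : sm gf N5434 = N3582 := flp_f L35262
theorem L35266 : sm gb N3583 = N5435 := rfl
theorem L35267 : sm gb N5435 = N3583 := flp_b L35266
theorem L35268 : sm gc N3583 = N5436 := rfl
theorem L35270 : sm ga N5436 = N3584 := ded_8_1 L26090 L26085 L35268
theorem L35271 : sm ga N3584 = N5436 := flp_a L35270
theorem L35272 : sm gg N5436 = N3587 := ded_21_2 L26098 L26088 L35268
theorem L35273 : sm gg N3587 = N5436 := flp_g L35272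
theorem L35274 : sm gd N3584 = N5437 := rfl
theorem L35275 : sm gd N5437 = N3584 := flp_d L35274
theorem L35276 : sm gg N5437 = N3589 := ded_24_2 L26108 L26092 L35274
theorem L35277 : sm gg N3589 = N5437 := flp_g L35276
theorem L35278 : sm gf N3584 = N5438 := rfl
theorem L35279 : sm gf N5438 = N3584 := flp_f L35278
theorem L35280 : sm gc N5438 = N3585 := ded_20_1 L26094 L26089 L35278
theorem L35282 : sm ga N3586 = N5439 := rfl
theorem L35283 : sm ga N5439 = N3586 := flp_a L35282
theorem L35284 : sm gg N5135 = N5439 := ded_29_3 L35283 L33900 L33897 L33881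
theorem L35286 : sm gc N3586 = N5440 := rfl
theorem L35287 : sm gc N5440 = N3586 := flp_c L35286
theorem L35288 : sm gg N3586 = N5441 := rfl
theorem L35289 : sm gg N5441 = N3586 := flp_g L35288
theorem L35290 : sm ga N5441 = N5135 := ded_12_1 L35284 L35283 L35288
theorem L35291 : sm ga N5135 = N5441 := flp_a L35290
theorem L35292 : sm gf N5138 = N5441 := ded_29_0 L35289 L33900 L33897 L33892
theorem L35293 : sm gf N5441 = N5138 := flp_f L35292
theorem L35294 : sm gc N5441 = N4568 := ded_30_1 L30979 L23783 L20119 L19545 L19541 L19454 L19538 L19534 L16857 L4434 L4432 L4412 L8901 L19658 L22893 L22897 L25465 L33892 L35292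
theorem L35295 : sm gc N4568 = N5441 := flp_c L35294
theorem L35296 : sm ge N5139 = N5441 := ded_19_0 L35294 L30980 L33894
theorem L35297 : sm ge N5441 = N5139 := flp_e L35296
theorem L35298 : sm gg N4568 = N5440 := ded_21_2 L35287 L35288 L35294
theorem L35299 : sm gg N5440 = N4568 := flp_g L35298
theorem L35300 : sm gg N4669 = N5139 := ded_26_0 L35296 L35289 L31529
theorem L35301 : sm gg N5139 = N4669 := flp_g L35300
theorem L35302 : sm ge N5440 = N5140 := ded_26_1 L33897 L30981 L35298
theorem L35304 : sm gc N5140 = N4669 := ded_21_3 L35300 L33895 L33896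
theorem L35305 : sm gc N4669 = N5140 := flp_c L35304
theorem L35306 : sm gf N4669 = N5440 := ded_25_0 L35302 L33901 L31529
theorem L35307 : sm gf N5440 = N4669 := flp_f L35306
theorem L35308 : sm gb N3587 = N5442 := rfl
theorem L35309 : sm gb N5442 = N3587 := flp_b L35308
theorem L35310 : sm gd N3587 = N5443 := rfl
theorem L35311 : sm gd N5443 = N3587 := flp_d L35310
theorem L35312 : sm ga N5443 = N3589 := ded_9_1 L26108 L26100 L35310
theorem L35314 : sm gf N3587 = N5444 := rfl
theorem L35315 : sm gf N5444 = N3587 := flp_f L35314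
theorem L35316 : sm ga N5444 = N3590 := ded_11_1 L26112 L26100 L35314
theorem L35317 : sm ga N3590 = N5444 := flp_a L35316
theorem L35322 : sm gc N3589 = N5445 := rfl
theorem L35323 : sm gc N5445 = N3589 := flp_c L35322
theorem L35324 : sm ge N3589 = N5446 := rfl
theorem L35325 : sm ge N5446 = N3589 := flp_e L35324
theorem L35326 : sm gb N5446 = N3866 := ded_15_1 L27370 L26110 L35324
theorem L35327 : sm gb N3866 = N5446 := flp_b L35326
theorem L35328 : sm gf N3589 = N5447 := rfl
theorem L35329 : sm gf N5447 = N3589 := flp_f L35328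
theorem L35330 : sm gd N5447 = N3590 := ded_23_1 L26112 L26107 L35328
theorem L35331 : sm gd N3590 = N5447 := flp_d L35330
theorem L35332 : sm gb N3590 = N5448 := rfl
theorem L35333 : sm gb N5448 = N3590 := flp_b L35332
theorem L35334 : sm gc N5448 = N5330 := ded_13_2 L34791 L25871 L21217 L26114 L35332
theorem L35335 : sm gc N5330 = N5448 := flp_c L35334
theorem L35336 : sm gf N5448 = N3868 := ded_16_2 L27376 L21810 L21213 L26111 L35332
theorem L35337 : sm gf N3868 = N5448 := flp_f L35336
theorem L35338 : sm gg N3590 = N5449 := rfl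
theorem L35339 : sm gg N5449 = N3590 := flp_g L35338
theorem L35342 : sm gc N5449 = N3591 := ded_21_1 L26116 L26114 L35338
theorem L35343 : sm gc N3591 = N5449 := flp_c L35342
theorem L35346 : sm gb N3591 = N5450 := rfl
theorem L35347 : sm gb N5450 = N3591 := flp_b L35346
theorem L35348 : sm gg N5450 = N5332 := ded_17_2 L34803 L25874 L21217 L26115 L35346
theorem L35349 : sm gg N5332 = N5450 := flp_g L35348
theorem L35350 : sm gc N3592 = N5451 := rfl
theorem L35351 : sm gc N5451 = N3592 := flp_c L35350
theorem L35354 : sm gf N3592 = N5452 := rfl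
theorem L35355 : sm gf N5452 = N3592 := flp_f L35354
theorem L35356 : sm ga N5452 = N3594 := ded_11_1 L26127 L26121 L35354
theorem L35357 : sm ga N3594 = N5452 := flp_a L35356
theorem L35358 : sm gg N3592 = N5453 := rfl
theorem L35359 : sm gg N5453 = N3592 := flp_g L35358
theorem L35360 : sm ga N5453 = N3595 := ded_12_1 L26129 L26121 L35358
theorem L35361 : sm ga N3595 = N5453 := flp_a L35360
theorem L35365 : sm gf N3593 = N5455 := rfl
theorem L35366 : sm gf N5455 = N3593 := flp_f L35365
theorem L35373 : sm gg N3594 = N5457 := rfl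
theorem L35374 : sm gg N5457 = N3594 := flp_g L35373
theorem L35375 : sm gf N5453 = N5457 := ded_29_0 L35374 L26127 L26128 L35361
theorem L35376 : sm gf N5457 = N5453 := flp_f L35375
theorem L35377 : sm gf N3595 = N5458 := rfl
theorem L35378 : sm gf N5458 = N3595 := flp_f L35377
theorem L35379 : sm ga N5458 = N5457 := ded_11_1 L35376 L35360 L35377
theorem L35381 : sm gg N5458 = N5452 := ded_29_3 L35356 L26127 L26128 L35377
theorem L35382 : sm gg N5452 = N5458 := flp_g L35381
theorem L35383 : sm gb N3596 = N5459 := rfl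
theorem L35384 : sm gb N5459 = N3596 := flp_b L35383
theorem L35385 : sm gc N3596 = N5460 := rfl
theorem L35386 : sm gc N5460 = N3596 := flp_c L35385
theorem L35387 : sm ga N5460 = N3597 := ded_8_1 L26137 L26132 L35385
theorem L35388 : sm ga N3597 = N5460 := flp_a L35387
theorem L35389 : sm gf N5460 = N3600 := ded_20_2 L26146 L26135 L35385
theorem L35390 : sm gf N3600 = N5460 := flp_f L35389
theorem L35391 : sm gd N3597 = N5461 := rfl
theorem L35392 : sm gd N5461 = N3597 := flp_d L35391
theorem L35394 : sm gf N5461 = N3602 := ded_23_2 L26156 L26139 L35391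
theorem L35396 : sm gg N3597 = N5462 := rfl
theorem L35397 : sm gg N5462 = N3597 := flp_g L35396
theorem L35398 : sm gc N5462 = N3598 := ded_21_1 L26142 L26136 L35396
theorem L35400 : sm ga N3599 = N5463 := rfl
theorem L35401 : sm ga N5463 = N3599 := flp_a L35400
theorem L35402 : sm gf N5463 = N5103 := ded_29_0 L33756 L33798 L33803 L35400
theorem L35403 : sm gf N5103 = N5463 := flp_f L35402
theorem L35404 : sm gb N5463 = N5439 := ded_7_2 L35283 L26096 L21209 L18806 L6025 L18815 L21224 L26143 L35400
theorem L35405 : sm gb N5439 = N5463 := flp_b L35404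
theorem L35406 : sm gc N3599 = N5464 := rfl
theorem L35407 : sm gc N5464 = N3599 := flp_c L35406
theorem L35408 : sm gf N3599 = N5465 := rfl
theorem L35409 : sm gf N5465 = N3599 := flp_f L35408
theorem L35410 : sm ga N5465 = N5103 := ded_11_1 L35403 L35401 L35408
theorem L35411 : sm ga N5103 = N5465 := flp_a L35410
theorem L35412 : sm gg N5465 = N5113 := ded_29_3 L33795 L33798 L33803 L35408
theorem L35413 : sm gg N5113 = N5465 := flp_g L35412
theorem L35414 : sm gb N3600 = N5466 := rfl
theorem L35415 : sm gb N5466 = N3600 := flp_b L35414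
theorem L35416 : sm gd N3600 = N5467 := rfl
theorem L35417 : sm gd N5467 = N3600 := flp_d L35416
theorem L35420 : sm gg N3600 = N5468 := rfl
theorem L35426 : sm gf N5468 = N5462 := ded_29_2 L35397 L35388 L35389 L35420
theorem L35428 : sm gc N3602 = N5469 := rfl
theorem L35434 : sm gg N3602 = N5471 := rfl
theorem L35435 : sm gg N5471 = N3602 := flp_g L35434
theorem L35452 : sm gb N3604 = N5474 := rfl
theorem L35453 : sm gb N5474 = N3604 := flp_b L35452
theorem L35454 : sm gf N5474 = N5318 := ded_16_2 L34753 L25848 L21233 L26163 L35452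
theorem L35455 : sm gf N5318 = N5474 := flp_f L35454
theorem L35456 : sm ga N3605 = N5475 := rfl
theorem L35457 : sm ga N5475 = N3605 := flp_a L35456
theorem L35458 : sm ge N5475 = N3625 := ded_10_2 L26280 L26172 L35456
theorem L35460 : sm gc N3605 = N5476 := rfl
theorem L35461 : sm gc N5476 = N3605 := flp_c L35460
theorem L35462 : sm ge N5476 = N3626 := ded_19_2 L26284 L26172 L35460
theorem L35463 : sm ge N3626 = N5476 := flp_e L35462
theorem L35464 : sm gf N3605 = N5477 := rfl

end Cfsg.Agent.Helper28.SuzA
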