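import Cfsg.Agent.Helper28.SuzB4

/-! # The Suzuki group presentation, cosets of the subgroup generated by a, …, f: the coset enumeration, part 5 (helper28; generated) -/

set_option autoImplicit false

noncomputable section

namespace Cfsg.Agent.Helper28.SuzA

open Cfsg.Agent.Helper28.CosetTable

theorem L35465 : sm gf N5477 = N3605 := flp_f L35464
theorem L35466 : sm ge N5477 = N3627 := ded_25_1 L26286 L26172 L35464
theorem L35468 : sm gg N3605 = N5478 := rfl
theorem L35469 : sm gg N5478 = N3605 := flp_g L35468
theorem L35470 : sm ge N5478 = N3628 := ded_26_1 L26290 L26172 L35468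
theorem L35471 : sm ge N3628 = N5478 := flp_e L35470
theorem L35472 : sm gb N3606 = N5479 := rfl
theorem L35473 : sm gb N5479 = N3606 := flp_b L35472
theorem L35474 : sm ge N5479 = N3629 := ded_15_2 L26294 L26178 L35472
theorem L35475 : sm ge N3629 = N5479 := flp_e L35474
theorem L35476 : sm gd N3606 = N5480 := rfl
theorem L35477 : sm gd N5480 = N3606 := flp_d L35476
theorem L35478 : sm ga N5480 = N3608 := ded_9_1 L26188 L26176 L35476
theorem L35479 : sm ga N3608 = N5480 := flp_a L35478
theorem L35480 : sm gg N3606 = N5481 := rfl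
theorem L35481 : sm gg N5481 = N3606 := flp_g L35480
theorem L35484 : sm gc N5481 = N3607 := ded_21_1 L26180 L26173 L35480
theorem L35485 : sm gc N3607 = N5481 := flp_c L35484
theorem L35490 : sm gb N3607 = N5482 := rfl
theorem L35491 : sm gb N5482 = N3607 := flp_b L35490
theorem L35494 : sm gc N3608 = N5483 := rfl
theorem L35495 : sm gc N5483 = N3608 := flp_c L35494
theorem L35496 : sm ge N3608 = N5484 := rfl
theorem L35497 : sm ge N5484 = N3608 := flp_e L35496
theorem L35498 : sm gd N5484 = N3632 := ded_22_1 L26308 L21283 L21241 L26187 L35496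
theorem L35500 : sm gg N3608 = N5485 := rfl
theorem L35501 : sm gg N5485 = N3608 := flp_g L35500
theorem L35518 : sm ga N3610 = N5488 := rfl
theorem L35519 : sm ga N5488 = N3610 := flp_a L35518
theorem L35520 : sm ge N5488 = N3636 := ded_10_2 L26324 L26198 L35518
theorem L35521 : sm ge N3636 = N5488 := flp_e L35520
theorem L35522 : sm gg N5488 = N3612 := ded_12_2 L26210 L26200 L35518
theorem L35523 : sm gg N3612 = N5488 := flp_g L35522
theorem L35524 : sm gc N3610 = N5489 := rfl
theorem L35525 : sm gc N5489 = N3610 := flp_c L35524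
theorem L35528 : sm gg N5489 = N3613 := ded_21_2 L26214 L26200 L35524
theorem L35529 : sm gg N3613 = N5489 := flp_g L35528
theorem L35530 : sm gf N3610 = N5490 := rfl
theorem L35531 : sm gf N5490 = N3610 := flp_f L35530
theorem L35538 : sm gb N3612 = N5492 := rfl
theorem L35539 : sm gb N5492 = N3612 := flp_b L35538
theorem L35540 : sm ge N5492 = N3640 := ded_15_2 L26342 L26212 L35538
theorem L35541 : sm ge N3640 = N5492 := flp_e L35540
theorem L35542 : sm gc N3612 = N5493 := rfl
theorem L35543 : sm gc N5493 = N3612 := flp_c L35542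
theorem L35544 : sm ga N5493 = N3613 := ded_8_1 L26214 L26209 L35542
theorem L35545 : sm ga N3613 = N5493 := flp_a L35544
theorem L35546 : sm ge N5493 = N3641 := ded_19_2 L26346 L26212 L35542
theorem L35547 : sm ge N3641 = N5493 := flp_e L35546
theorem L35548 : sm gf N3612 = N5494 := rfl
theorem L35549 : sm gf N5494 = N3612 := flp_f L35548
theorem L35550 : sm ga N5494 = N3614 := ded_11_1 L26218 L26209 L35548
theorem L35552 : sm ge N5494 = N3642 := ded_25_1 L26350 L26212 L35548
theorem L35553 : sm ge N3642 = N5494 := flp_e L35552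
theorem L35554 : sm gg N5490 = N5494 := ded_29_1 L35549 L35523 L35519 L35530
theorem L35556 : sm gd N3613 = N5495 := rfl
theorem L35557 : sm gd N5495 = N3613 := flp_d L35556
theorem L35558 : sm gf N3613 = N5496 := rfl
theorem L35559 : sm gf N5496 = N3613 := flp_f L35558
theorem L35560 : sm gc N5496 = N3614 := ded_20_1 L26218 L26213 L35558
theorem L35561 : sm gc N3614 = N5496 := flp_c L35560
theorem L35564 : sm gg N3614 = N5497 := rfl
theorem L35565 : sm gg N5497 = N3614 := flp_g L35564
theorem L35566 : sm ga N5497 = N5490 := ded_12_1 L35554 L35550 L35564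
theorem L35567 : sm ga N5490 = N5497 := flp_a L35566
theorem L35568 : sm ge N5497 = N3645 := ded_26_1 L26364 L26220 L35564
theorem L35580 : sm gf N3615 = N5500 := rfl
theorem L35582 : sm ge N5500 = N3648 := ded_25_1 L26378 L26226 L35580
theorem L35583 : sm ge N3648 = N5500 := flp_e L35582
theorem L35584 : sm gg N3615 = N5501 := rfl
theorem L35585 : sm gg N5501 = N3615 := flp_g L35584
theorem L35592 : sm gd N3616 = N5503 := rfl
theorem L35593 : sm gd N5503 = N3616 := flp_d L35592
theorem L35594 : sm ga N5503 = N3618 := ded_9_1 L26242 L26230 L35592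
theorem L35595 : sm ga N3618 = N5503 := flp_a L35594
theorem L35616 : sm gf N3618 = N5508 := rfl
theorem L35617 : sm gf N5508 = N3618 := flp_f L35616
theorem L35618 : sm gd N5508 = N3619 := ded_23_1 L26244 L26241 L35616
theorem L35620 : sm gb N3619 = N5509 := rfl
theorem L35622 : sm ge N5509 = N3656 := ded_15_2 L26412 L26248 L35620
theorem L35623 : sm ge N3656 = N5509 := flp_e L35622
theorem L35634 : sm ga N3620 = N5511 := rfl
theorem L35635 : sm ga N5511 = N3620 := flp_a L35634
theorem L35636 : sm ge N5511 = N3658 := ded_10_2 L26422 L26252 L35634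
theorem L35638 : sm gf N5511 = N3622 := ded_11_2 L26264 L26254 L35634
theorem L35639 : sm gf N3622 = N5511 := flp_f L35638
theorem L35640 : sm gc N3620 = N5512 := rfl
theorem L35641 : sm gc N5512 = N3620 := flp_c L35640
theorem L35644 : sm gf N5512 = N3623 := ded_20_2 L26268 L26254 L35640
theorem L35645 : sm gf N3623 = N5512 := flp_f L35644
theorem L35650 : sm gb N3621 = N5514 := rfl
theorem L35652 : sm ge N5514 = N3661 := ded_15_2 L26436 L26260 L35650
theorem L35653 : sm ge N3661 = N5514 := flp_e L35652
theorem L35654 : sm gb N3622 = N5515 := rfl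
theorem L35656 : sm ge N5515 = N3662 := ded_15_2 L26440 L26266 L35654
theorem L35657 : sm ge N3662 = N5515 := flp_e L35656
theorem L35658 : sm gc N3622 = N5516 := rfl
theorem L35659 : sm gc N5516 = N3622 := flp_c L35658
theorem L35662 : sm ge N5516 = N3663 := ded_19_2 L26444 L26266 L35658
theorem L35682 : sm gf N3624 = N5520 := rfl
theorem L35683 : sm gf N5520 = N3624 := flp_f L35682
theorem L35688 : sm gg N5520 = N5511 := ded_29_3 L35635 L26253 L26273 L35682
theorem L35689 : sm gg N5511 = N5520 := flp_g L35688
theorem L35690 : sm gc N3625 = N5521 := rfl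
theorem L35692 : sm ga N5521 = N3626 := ded_8_1 L26284 L26279 L35690
theorem L35693 : sm ga N3626 = N5521 := flp_a L35692
theorem L35706 : sm gb N3626 = N5524 := rfl
theorem L35707 : sm gb N5524 = N3626 := flp_b L35706
theorem L35708 : sm gc N5524 = N3629 := ded_13_2 L26294 L21271 L21266 L26283 L35706
theorem L35709 : sm gc N3629 = N5524 := flp_c L35708
theorem L35710 : sm gd N3626 = N5525 := rfl
theorem L35711 : sm gd N5525 = N3626 := flp_d L35710
theorem L35712 : sm gf N3626 = N5526 := rfl
theorem L35713 : sm gf N5526 = N3626 := flp_f L35712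
theorem L35716 : sm gg N3626 = N5527 := rfl
theorem L35717 : sm gg N5527 = N3626 := flp_g L35716
theorem L35718 : sm gc N5527 = N3628 := ded_21_1 L26290 L26283 L35716
theorem L35719 : sm gc N3628 = N5527 := flp_c L35718
theorem L35726 : sm gb N3628 = N5529 := rfl
theorem L35727 : sm gb N5529 = N3628 := flp_b L35726
theorem L35728 : sm gd N5529 = N3676 := ded_14_2 L26502 L26292 L35726
theorem L35729 : sm gd N3676 = N5529 := flp_d L35728
theorem L35730 : sm gg N5529 = N3631 := ded_17_2 L26304 L21275 L21266 L26289 L35726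
theorem L35731 : sm gg N3631 = N5529 := flp_g L35730
theorem L35732 : sm gf N3628 = N5530 := rfl
theorem L35733 : sm gf N5530 = N3628 := flp_f L35732
theorem L35740 : sm ga N3629 = N5531 := rfl
theorem L35741 : sm ga N5531 = N3629 := flp_a L35740
theorem L35742 : sm gf N3629 = N5532 := rfl
theorem L35743 : sm gf N5532 = N3629 := flp_f L35742
theorem L35744 : sm gg N3629 = N5533 := rfl
theorem L35745 : sm gg N5533 = N3629 := flp_g L35744
theorem L35748 : sm ga N3631 = N5535 := rfl
theorem L35749 : sm ga N5535 = N3631 := flp_a L35748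
theorem L35750 : sm gd N5535 = N3682 := ded_9_2 L26530 L26306 L35748
theorem L35751 : sm gd N3682 = N5535 := flp_d L35750
theorem L35754 : sm gf N3631 = N5537 := rfl
theorem L35755 : sm gf N5537 = N3631 := flp_f L35754
theorem L35756 : sm gd N5537 = N3684 := ded_23_1 L26534 L26306 L35754
theorem L35757 : sm gd N3684 = N5537 := flp_d L35756
theorem L35758 : sm gb N5537 = N5395 := ded_16_1 L35083 L26012 L21281 L26303 L35754
theorem L35759 : sm gb N5395 = N5537 := flp_b L35758
theorem L35760 : sm gg N3632 = N5538 := rfl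
theorem L35761 : sm gg N5538 = N3632 := flp_g L35760
theorem L35768 : sm gf N3633 = N5540 := rfl
theorem L35772 : sm gc N5540 = N4345 := ded_20_1 L29981 L29976 L35768
theorem L35776 : sm gg N5540 = N4343 := ded_29_3 L29808 L26005 L26309 L35768
theorem L35780 : sm gc N3634 = N5542 := rfl
theorem L35782 : sm gb N5542 = N3637 := ded_13_1 L26330 L21289 L21287 L26313 L35780
theorem L35783 : sm gb N3637 = N5542 := flp_b L35782
theorem L35788 : sm gb N3636 = N5545 := rfl
theorem L35790 : sm gd N5545 = N3686 := ded_14_2 L26542 L26326 L35788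
theorem L35791 : sm gd N3686 = N5545 := flp_d L35790
theorem L35792 : sm gc N3636 = N5546 := rfl
theorem L35793 : sm gc N5546 = N3636 := flp_c L35792
theorem L35794 : sm ga N5546 = N3637 := ded_8_1 L26330 L26323 L35792
theorem L35795 : sm ga N3637 = N5546 := flp_a L35794
theorem L35796 : sm gg N5546 = N3641 := ded_21_2 L26346 L26328 L35792
theorem L35797 : sm gg N3641 = N5546 := flp_g L35796
theorem L35798 : sm gd N3637 = N5547 := rfl
theorem L35799 : sm gd N5547 = N3637 := flp_d L35798
theorem L35800 : sm gg N5547 = N3643 := ded_24_2 L26358 L26332 L35798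
theorem L35806 : sm gb N3638 = N5549 := rfl
theorem L35808 : sm gd N5549 = N3690 := ded_14_2 L26558 L26336 L35806
theorem L35809 : sm gd N3690 = N5549 := flp_d L35808
theorem L35810 : sm gf N5549 = N3639 := ded_16_2 L26338 L21295 L21288 L26333 L35806
theorem L35818 : sm gg N3639 = N5552 := rfl
theorem L35820 : sm gd N5552 = N3693 := ded_24_1 L26566 L26340 L35818
theorem L35821 : sm gd N3693 = N5552 := flp_d L35820
theorem L35822 : sm gb N5552 = N5388 := ded_17_1 L35053 L25994 L21301 L26337 L35818
theorem L35823 : sm gb N5388 = N5552 := flp_b L35822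
theorem L35824 : sm ga N3640 = N5553 := rfl
theorem L35825 : sm ga N5553 = N3640 := flp_a L35824
theorem L35826 : sm gd N5553 = N3694 := ded_9_2 L26570 L26344 L35824
theorem L35827 : sm gd N3694 = N5553 := flp_d L35826
theorem L35828 : sm gc N3640 = N5554 := rfl
theorem L35829 : sm gc N5554 = N3640 := flp_c L35828
theorem L35830 : sm gf N3640 = N5555 := rfl
theorem L35831 : sm gf N5555 = N3640 := flp_f L35830
theorem L35832 : sm gd N5555 = N3696 := ded_23_1 L26574 L26344 L35830
theorem L35833 : sm gd N3696 = N5555 := flp_d L35832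
theorem L35834 : sm gg N3640 = N5556 := rfl
theorem L35835 : sm gg N5556 = N3640 := flp_g L35834
theorem L35836 : sm gd N5556 = N3697 := ded_24_1 L26576 L26344 L35834
theorem L35838 : sm gb N3641 = N5557 := rfl
theorem L35839 : sm gb N5557 = N3641 := flp_b L35838
theorem L35840 : sm gd N3641 = N5558 := rfl
theorem L35841 : sm gd N5558 = N3641 := flp_d L35840
theorem L35842 : sm ga N5558 = N3643 := ded_9_1 L26358 L26348 L35840
theorem L35843 : sm ga N3643 = N5558 := flp_a L35842
theorem L35844 : sm gf N3641 = N5559 := rfl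
theorem L35845 : sm gf N5559 = N3641 := flp_f L35844
theorem L35848 : sm gc N5559 = N3642 := ded_20_1 L26350 L26345 L35844
theorem L35849 : sm gc N3642 = N5559 := flp_c L35848
theorem L35856 : sm gc N3643 = N5561 := rfl
theorem L35858 : sm ge N3643 = N5562 := rfl
theorem L35859 : sm ge N5562 = N3643 := flp_e L35858
theorem L35860 : sm gf N3643 = N5563 := rfl
theorem L35861 : sm gf N5563 = N3643 := flp_f L35860
theorem L35862 : sm gd N5563 = N3644 := ded_23_1 L26360 L26357 L35860
theorem L35863 : sm gd N3644 = N5563 := flp_d L35862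
theorem L35864 : sm gb N3644 = N5564 := rfl
theorem L35865 : sm gb N5564 = N3644 := flp_b L35864
theorem L35866 : sm gc N5564 = N5092 := ded_13_2 L33709 L25395 L21313 L26362 L35864
theorem L35868 : sm gg N3644 = N5565 := rfl
theorem L35869 : sm gg N5565 = N3644 := flp_g L35868
theorem L35872 : sm gc N5565 = N3645 := ded_21_1 L26364 L26362 L35868
theorem L35873 : sm gc N3645 = N5565 := flp_c L35872
theorem L35874 : sm gf N5546 = N5565 := ded_29_0 L35869 L26360 L26332 L35795
theorem L35882 : sm gc N3646 = N5567 := rfl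
theorem L35884 : sm ga N5567 = N3647 := ded_8_1 L26376 L26371 L35882
theorem L35885 : sm ga N3647 = N5567 := flp_a L35884
theorem L35886 : sm gf N3646 = N5568 := rfl
theorem L35888 : sm ga N5568 = N3648 := ded_11_1 L26378 L26371 L35886
theorem L35890 : sm gd N5568 = N3709 := ded_23_1 L26626 L26374 L35886
theorem L35891 : sm gd N3709 = N5568 := flp_d L35890
theorem L35892 : sm gg N3646 = N5569 := rfl
theorem L35893 : sm gg N5569 = N3646 := flp_g L35892
theorem L35894 : sm ga N5569 = N3649 := ded_12_1 L26382 L26371 L35892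
theorem L35895 : sm ga N3649 = N5569 := flp_a L35894
theorem L35898 : sm gb N3647 = N5570 := rfl
theorem L35900 : sm gc N5570 = N3650 := ded_13_2 L26386 L21319 L21314 L26375 L35898
theorem L35901 : sm gc N3650 = N5570 := flp_c L35900
theorem L35902 : sm gd N3647 = N5571 := rfl
theorem L35903 : sm gd N5571 = N3647 := flp_d L35902
theorem L35904 : sm gf N3647 = N5572 := rfl
theorem L35905 : sm gf N5572 = N3647 := flp_f L35904
theorem L35908 : sm gg N3647 = N5573 := rfl
theorem L35909 : sm gg N5573 = N3647 := flp_g L35908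
theorem L35918 : sm gg N3648 = N5575 := rfl
theorem L35919 : sm gg N5575 = N3648 := flp_g L35918
theorem L35920 : sm gd N5575 = N3715 := ded_24_1 L26649 L26380 L35918
theorem L35921 : sm gd N3715 = N5575 := flp_d L35920
theorem L35922 : sm gf N5569 = N5575 := ded_29_0 L35919 L26378 L26381 L35895
theorem L35923 : sm gf N5575 = N5569 := flp_f L35922
theorem L35924 : sm gf N3649 = N5576 := rfl
theorem L35926 : sm ga N5576 = N5575 := ded_11_1 L35923 L35894 L35924
theorem L35927 : sm ga N5575 = N5576 := flp_a L35926
theorem L35930 : sm gg N5576 = N5568 := ded_29_3 L35888 L26378 L26381 L35924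
theorem L35931 : sm gg N5568 = N5576 := flp_g L35930
theorem L35932 : sm ga N3650 = N5577 := rfl
theorem L35938 : sm gf N3650 = N5579 := rfl
theorem L35939 : sm gf N5579 = N3650 := flp_f L35938
theorem L35940 : sm gg N3650 = N5580 := rfl
theorem L35941 : sm gg N5580 = N3650 := flp_g L35940
theorem L35942 : sm ge N3651 = N5581 := rfl
theorem L35943 : sm ge N5581 = N3651 := flp_e L35942
theorem L35944 : sm ga N5581 = N3654 := ded_10_1 L26406 L26390 L35942
theorem L35945 : sm ga N3654 = N5581 := flp_a L35944
theorem L35946 : sm gc N5581 = N3654 := ded_19_1 L26406 L26391 L35942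
theorem L35947 : sm gc N3654 = N5581 := flp_c L35946
theorem L35958 : sm gb N3652 = N5583 := rfl
theorem L35959 : sm gb N5583 = N3652 := flp_b L35958
theorem L35966 : sm gg N3653 = N5586 := rfl
theorem L35968 : sm gd N5586 = N3719 := ded_24_1 L26664 L26404 L35966
theorem L35969 : sm gd N3719 = N5586 := flp_d L35968
theorem L35972 : sm gf N3654 = N5587 := rfl
theorem L35973 : sm gf N5587 = N3654 := flp_f L35972
theorem L35974 : sm ge N5587 = N3655 := ded_25_1 L26408 L26405 L35972
theorem L35975 : sm ge N3655 = N5587 := flp_e L35974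
theorem L35980 : sm gg N3655 = N5589 := rfl
theorem L35981 : sm gg N5589 = N3655 := flp_g L35980
theorem L35986 : sm gd N5589 = N3657 := ded_24_1 L26414 L26410 L35980
theorem L35990 : sm ga N3656 = N5590 := rfl
theorem L35991 : sm ga N5590 = N3656 := flp_a L35990
theorem L35992 : sm gc N3656 = N5591 := rfl
theorem L35993 : sm gc N5591 = N3656 := flp_c L35992
theorem L35994 : sm gf N5591 = N5564 := ded_20_2 L35866 L33710 L35992
theorem L35998 : sm gg N3656 = N5592 := rfl
theorem L35999 : sm gg N5592 = N3656 := flp_g L35998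
theorem L36002 : sm gb N3658 = N5594 := rfl
theorem L36003 : sm gb N5594 = N3658 := flp_b L36002
theorem L36004 : sm gd N5594 = N3720 := ded_14_2 L26668 L26424 L36002
theorem L36005 : sm gd N3720 = N5594 := flp_d L36004
theorem L36006 : sm gc N3658 = N5595 := rfl
theorem L36008 : sm ga N5595 = N3659 := ded_8_1 L26428 L26421 L36006
theorem L36009 : sm ga N3659 = N5595 := flp_a L36008
theorem L36010 : sm gf N5595 = N3663 := ded_20_2 L26444 L26426 L36006
theorem L36011 : sm gf N3663 = N5595 := flp_f L36010
theorem L36012 : sm gd N3659 = N5596 := rfl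
theorem L36013 : sm gd N5596 = N3659 := flp_d L36012
theorem L36014 : sm gf N5596 = N3665 := ded_23_2 L26456 L26430 L36012
theorem L36015 : sm gf N3665 = N5596 := flp_f L36014
theorem L36032 : sm gf N3661 = N5601 := rfl
theorem L36033 : sm gf N5601 = N3661 := flp_f L36032
theorem L36036 : sm gb N5601 = N5404 := ded_16_1 L35123 L26030 L21348 L26435 L36032
theorem L36037 : sm gb N5404 = N5601 := flp_b L36036
theorem L36044 : sm gc N3662 = N5603 := rfl
theorem L36045 : sm gc N5603 = N3662 := flp_c L36044
theorem L36054 : sm gb N3663 = N5606 := rfl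
theorem L36055 : sm gb N5606 = N3663 := flp_b L36054
theorem L36056 : sm gd N3663 = N5607 := rfl
theorem L36057 : sm gd N5607 = N3663 := flp_d L36056
theorem L36058 : sm ga N5607 = N3665 := ded_9_1 L26456 L26446 L36056
theorem L36059 : sm ga N3665 = N5607 := flp_a L36058
theorem L36072 : sm gc N3665 = N5610 := rfl
theorem L36073 : sm gc N5610 = N3665 := flp_c L36072
theorem L36074 : sm ge N3665 = N5611 := rfl
theorem L36075 : sm ge N5611 = N3665 := flp_e L36074
theorem L36076 : sm gb N5611 = N5562 := ded_15_1 L35859 L26458 L36074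
theorem L36077 : sm gb N5562 = N5611 := flp_b L36076
theorem L36078 : sm gg N3665 = N5612 := rfl
theorem L36079 : sm gg N5612 = N3665 := flp_g L36078
theorem L36080 : sm gd N5612 = N3666 := ded_24_1 L26460 L26455 L36078
theorem L36081 : sm gd N3666 = N5612 := flp_d L36080
theorem L36088 : sm gf N3666 = N5614 := rfl
theorem L36089 : sm gf N5614 = N3666 := flp_f L36088
theorem L36094 : sm gg N5614 = N5595 := ded_29_3 L36008 L26429 L26459 L36088
theorem L36095 : sm gg N5595 = N5614 := flp_g L36094
theorem L36096 : sm gb N3667 = N5615 := rfl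
theorem L36098 : sm gd N5615 = N3741 := ded_14_2 L26748 L26468 L36096
theorem L36099 : sm gd N3741 = N5615 := flp_d L36098
theorem L36100 : sm gf N5615 = N5080 := ded_16_2 L33655 L25366 L21363 L26463 L36096
theorem L36101 : sm gf N5080 = N5615 := flp_f L36100
theorem L36102 : sm gb N3668 = N5616 := rfl
theorem L36103 : sm gb N5616 = N3668 := flp_b L36102
theorem L36108 : sm gf N3668 = N5618 := rfl
theorem L36109 : sm gf N5618 = N3668 := flp_f L36108
theorem L36110 : sm ga N5618 = N3673 := ded_11_1 L26490 L26474 L36108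
theorem L36120 : sm gb N3669 = N5620 := rfl
theorem L36121 : sm gb N5620 = N3669 := flp_b L36120
theorem L36126 : sm gb N3670 = N5621 := rfl
theorem L36127 : sm gb N5621 = N3670 := flp_b L36126
theorem L36128 : sm ga N3671 = N5622 := rfl
theorem L36129 : sm ga N5622 = N3671 := flp_a L36128
theorem L36130 : sm gc N5622 = N3678 := ded_8_2 L26512 L26486 L36128
theorem L36136 : sm gf N3671 = N5624 := rfl
theorem L36137 : sm gf N5624 = N3671 := flp_f L36136
theorem L36138 : sm gc N5624 = N3679 := ded_20_1 L26518 L26486 L36136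
theorem L36140 : sm gg N3671 = N5625 := rfl
theorem L36141 : sm gg N5625 = N3671 := flp_g L36140
theorem L36164 : sm gb N3674 = N5632 := rfl
theorem L36166 : sm gf N3674 = N5633 := rfl
theorem L36167 : sm gf N5633 = N3674 := flp_f L36166
theorem L36170 : sm gc N5633 = N3677 := ded_20_1 L26506 L26496 L36166
theorem L36171 : sm gc N3677 = N5633 := flp_c L36170
theorem L36172 : sm gg N5633 = N5618 := ded_29_3 L36110 L26490 L26493 L36166
theorem L36174 : sm gb N3675 = N5634 := rfl
theorem L36175 : sm gb N5634 = N3675 := flp_b L36174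
theorem L36176 : sm ga N3676 = N5635 := rfl
theorem L36177 : sm ga N5635 = N3676 := flp_a L36176
theorem L36178 : sm gg N5635 = N3682 := ded_12_2 L26530 L26504 L36176
theorem L36179 : sm gg N3682 = N5635 := flp_g L36178
theorem L36180 : sm gf N5635 = N5049 := ded_29_0 L33513 L26534 L26504 L36176
theorem L36181 : sm gf N5049 = N5635 := flp_f L36180
theorem L36182 : sm gc N3676 = N5636 := rfl
theorem L36183 : sm gc N5636 = N3676 := flp_c L36182
theorem L36186 : sm gf N3676 = N5637 := rfl
theorem L36187 : sm gf N5637 = N3676 := flp_f L36186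
theorem L36188 : sm ga N5637 = N5049 := ded_11_1 L36181 L36177 L36186
theorem L36190 : sm gb N3677 = N5638 := rfl
theorem L36191 : sm gb N5638 = N3677 := flp_b L36190
theorem L36192 : sm gf N3678 = N5639 := rfl
theorem L36193 : sm gf N5639 = N3678 := flp_f L36192
theorem L36194 : sm ga N5639 = N3679 := ded_11_1 L26518 L26511 L36192
theorem L36195 : sm ga N3679 = N5639 := flp_a L36194
theorem L36196 : sm gd N5639 = N4370 := ded_23_1 L29921 L26514 L36192
theorem L36197 : sm gd N4370 = N5639 := flp_d L36196
theorem L36198 : sm gg N3678 = N5640 := rfl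
theorem L36199 : sm gg N5640 = N3678 := flp_g L36198
theorem L36200 : sm ga N5640 = N3680 := ded_12_1 L26522 L26511 L36198
theorem L36201 : sm ga N3680 = N5640 := flp_a L36200
theorem L36202 : sm gd N5640 = N4371 := ded_24_1 L29925 L26514 L36198
theorem L36203 : sm gd N4371 = N5640 := flp_d L36202
theorem L36204 : sm gg N3679 = N5641 := rfl
theorem L36205 : sm gg N5641 = N3679 := flp_g L36204
theorem L36208 : sm gf N5640 = N5641 := ded_29_0 L36205 L26518 L26521 L36201
theorem L36209 : sm gf N5641 = N5640 := flp_f L36208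
theorem L36210 : sm gb N3680 = N5642 := rfl
theorem L36211 : sm gb N5642 = N3680 := flp_b L36210
theorem L36212 : sm gd N5642 = N4377 := ded_14_2 L29947 L26524 L36210
theorem L36214 : sm gg N5642 = N3681 := ded_17_2 L26526 L21377 L21372 L26521 L36210
theorem L36215 : sm gg N3681 = N5642 := flp_g L36214
theorem L36216 : sm gf N3680 = N5643 := rfl
theorem L36217 : sm gf N5643 = N3680 := flp_f L36216
theorem L36220 : sm gd N5643 = N4378 := ded_23_1 L29951 L26524 L36216
theorem L36221 : sm gd N4378 = N5643 := flp_d L36220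
theorem L36222 : sm gg N5643 = N5639 := ded_29_3 L36194 L26518 L26521 L36216
theorem L36224 : sm ga N3681 = N5644 := rfl
theorem L36225 : sm ga N5644 = N3681 := flp_a L36224
theorem L36226 : sm gd N5644 = N4386 := ded_9_2 L29985 L26528 L36224
theorem L36228 : sm gc N3681 = N5645 := rfl
theorem L36229 : sm gc N5645 = N3681 := flp_c L36228
theorem L36232 : sm gf N3681 = N5646 := rfl
theorem L36233 : sm gf N5646 = N3681 := flp_f L36232
theorem L36234 : sm gd N5646 = N4388 := ded_23_1 L29989 L26528 L36232
theorem L36236 : sm gb N5646 = N5434 := ded_16_1 L35263 L26080 L21385 L26525 L36232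
theorem L36237 : sm gb N5434 = N5646 := flp_b L36236
theorem L36238 : sm gb N3682 = N5647 := rfl
theorem L36239 : sm gb N5647 = N3682 := flp_b L36238
theorem L36240 : sm gc N3682 = N5648 := rfl
theorem L36241 : sm gc N5648 = N3682 := flp_c L36240
theorem L36244 : sm gf N3682 = N5649 := rfl
theorem L36245 : sm gf N5649 = N3682 := flp_f L36244
theorem L36246 : sm ga N5649 = N3684 := ded_11_1 L26534 L26529 L36244
theorem L36248 : sm gg N5649 = N5637 := ded_29_3 L36188 L36181 L36178 L36244
theorem L36249 : sm gg N5637 = N5649 := flp_g L36248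
theorem L36250 : sm gb N3715 = N5649 := ded_31_14 L36248 L36187 L26502 L21371 L21368 L26072 L35226 L35229 L35211 L33890 L33861 L25457 L26629 L26650
theorem L36251 : sm gb N5649 = N3715 := flp_b L36250
theorem L36254 : sm gf N3683 = N5651 := rfl
theorem L36255 : sm gf N5651 = N3683 := flp_f L36254
theorem L36256 : sm gc N5651 = N3684 := ded_20_1 L26534 L26531 L36254
theorem L36257 : sm gc N3684 = N5651 := flp_c L36256
theorem L36258 : sm ga N3685 = N5652 := rfl
theorem L36259 : sm ga N5652 = N3685 := flp_a L36258
theorem L36260 : sm gd N5652 = N4398 := ded_9_2 L30039 L26540 L36258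
theorem L36272 : sm ga N3686 = N5655 := rfl
theorem L36273 : sm ga N5655 = N3686 := flp_a L36272
theorem L36274 : sm gc N3686 = N5656 := rfl
theorem L36275 : sm gc N5656 = N3686 := flp_c L36274
theorem L36276 : sm gf N3686 = N5657 := rfl
theorem L36277 : sm gf N5657 = N3686 := flp_f L36276
theorem L36278 : sm gg N3686 = N5658 := rfl
theorem L36279 : sm gg N5658 = N3686 := flp_g L36278
theorem L36280 : sm gb N5658 = N3697 := ded_17_1 L26576 L21411 L21401 L26541 L36278
theorem L36282 : sm gb N3687 = N5659 := rfl
theorem L36283 : sm gb N5659 = N3687 := flp_b L36282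
theorem L36284 : sm gd N3687 = N5660 := rfl
theorem L36285 : sm gd N5660 = N3687 := flp_d L36284
theorem L36286 : sm ga N5660 = N3688 := ded_9_1 L26550 L26546 L36284
theorem L36287 : sm ga N3688 = N5660 := flp_a L36286
theorem L36288 : sm gg N5660 = N3699 := ded_24_2 L26580 L26548 L36284
theorem L36289 : sm gg N3699 = N5660 := flp_g L36288
theorem L36290 : sm gc N3688 = N5661 := rfl
theorem L36291 : sm gc N5661 = N3688 := flp_c L36290
theorem L36292 : sm gg N5661 = N3702 := ded_21_2 L26594 L26552 L36290
theorem L36293 : sm gg N3702 = N5661 := flp_g L36292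
theorem L36294 : sm ge N3688 = N5662 := rfl
theorem L36295 : sm ge N5662 = N3688 := flp_e L36294
theorem L36296 : sm gg N5662 = N3703 := ded_26_2 L26596 L26552 L36294
theorem L36298 : sm gf N3688 = N5663 := rfl
theorem L36300 : sm gd N5663 = N3689 := ded_23_1 L26554 L26549 L36298
theorem L36302 : sm gb N3689 = N5664 := rfl
theorem L36303 : sm gb N5664 = N3689 := flp_b L36302
theorem L36304 : sm ga N3690 = N5665 := rfl
theorem L36305 : sm ga N5665 = N3690 := flp_a L36304
theorem L36306 : sm gf N5665 = N3691 := ded_11_2 L26562 L26560 L36304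
theorem L36307 : sm gf N3691 = N5665 := flp_f L36306
theorem L36308 : sm gc N3690 = N5666 := rfl
theorem L36309 : sm gc N5666 = N3690 := flp_c L36308
theorem L36312 : sm gg N3690 = N5667 := rfl
theorem L36313 : sm gg N5667 = N3690 := flp_g L36312
theorem L36314 : sm gb N3691 = N5668 := rfl
theorem L36315 : sm gb N5668 = N3691 := flp_b L36314
theorem L36316 : sm gc N3691 = N5669 := rfl
theorem L36317 : sm gc N5669 = N3691 := flp_c L36316
theorem L36320 : sm gg N3691 = N5670 := rfl
theorem L36321 : sm gg N5670 = N3691 := flp_g L36320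
theorem L36324 : sm gf N5670 = N5667 := ded_29_2 L36313 L36304 L36306 L36320
theorem L36325 : sm gf N5667 = N5670 := flp_f L36324
theorem L36326 : sm gb N5670 = N5041 := ded_31_2 L33473 L25296 L20795 L18590 L5758 L2737 L2750 L2873 L6070 L18892 L21406 L26557 L36312 L36325
theorem L36327 : sm gb N5041 = N5670 := flp_b L36326
theorem L36328 : N4980 = N5668 := coi_17_5 L36315 L36320 L36326 L33473 L25297 L33182
theorem L36329 : N5668 = N4980 := (eqc rfl L36328 rfl).symm
theorem L36330 : sm gb N4980 = N3691 := trf L36329 L36315 rfl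
theorem L36331 : sm gb N3691 = N4980 := flp_b L36330
theorem L36332 : sm gb N5665 = N5457 := ded_31_5 L35374 L26127 L21219 L18810 L18911 L21445 L26663 L33465 L33451 L33443 L33476 L36327 L36321 L36307
theorem L36333 : sm gb N5457 = N5665 := flp_b L36332
theorem L36334 : sm gb N5453 = N4953 := ded_16_5 L33186 L36330 L36307 L36332 L35376
theorem L36335 : sm gb N4953 = N5453 := flp_b L36334
theorem L36336 : sm gg N4975 = N5319 := ded_17_4 L34756 L35358 L36334 L33078 L33164
theorem L36338 : sm gb N5452 = N5102 := ded_31_5 L33751 L25412 L20837 L20842 L20846 L25287 L25289 L25295 L25297 L33182 L33187 L36335 L35359 L35354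
theorem L36339 : sm gb N5102 = N5452 := flp_b L36338
theorem L36340 : sm ga N5322 = N4975 := ded_12_3 L36336 L34755 L34762
theorem L36342 : sm gb N5042 = N5322 := ded_7_0 L36340 L33165 L25152 L20731 L18567 L18593 L20796 L25299 L33478
theorem L36343 : sm gb N5322 = N5042 := flp_b L36342
theorem L36344 : sm gg N5265 = N5042 := ded_17_0 L36342 L34763 L25854 L25750 L34508
theorem L36346 : sm ga N5045 = N5265 := ded_12_3 L36344 L33479 L33484
theorem L36348 : sm gf N5042 = N5634 := ded_31_1 L36175 L26498 L21369 L18870 L18877 L18881 L21204 L21206 L21214 L21216 L25873 L25878 L34508 L36344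
theorem L36350 : sm gb N5219 = N5131 := ded_7_8 L33866 L33487 L36346 L34509 L25748 L21001 L20965 L25639 L34264
theorem L36351 : sm gb N5131 = N5219 := flp_b L36350
theorem L36352 : sm ga N5634 = N5044 := ded_11_1 L33483 L33478 L36348
theorem L36353 : sm ga N5044 = N5634 := flp_a L36352
theorem L36354 : sm gf N5621 = N5322 := ded_16_4 L36343 L36348 L36175 L26500 L36126
theorem L36355 : sm gf N5322 = N5621 := flp_f L36354
theorem L36362 : sm gf N3693 = N5673 := rfl
theorem L36363 : sm gf N5673 = N3693 := flp_f L36362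
theorem L36368 : sm gc N3694 = N5674 := rfl
theorem L36369 : sm gc N5674 = N3694 := flp_c L36368
theorem L36370 : sm ga N5674 = N3695 := ded_8_1 L26572 L26569 L36368
theorem L36371 : sm ga N3695 = N5674 := flp_a L36370
theorem L36372 : sm gf N3694 = N5675 := rfl
theorem L36373 : sm gf N5675 = N3694 := flp_f L36372
theorem L36374 : sm ga N5675 = N3696 := ded_11_1 L26574 L26569 L36372
theorem L36376 : sm gg N3694 = N5676 := rfl
theorem L36377 : sm gg N5676 = N3694 := flp_g L36376
theorem L36378 : sm ga N5676 = N3697 := ded_12_1 L26576 L26569 L36376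
theorem L36379 : sm ga N3697 = N5676 := flp_a L36378
theorem L36380 : sm gb N3695 = N5677 := rfl
theorem L36381 : sm gb N5677 = N3695 := flp_b L36380
theorem L36382 : sm gc N5677 = N3698 := ded_13_2 L26578 L21413 L21410 L26571 L36380
theorem L36386 : sm gf N3695 = N5679 := rfl
theorem L36387 : sm gf N5679 = N3695 := flp_f L36386
theorem L36390 : sm gg N3695 = N5680 := rfl
theorem L36391 : sm gg N5680 = N3695 := flp_g L36390
theorem L36392 : sm gc N5680 = N3697 := ded_21_1 L26576 L26571 L36390
theorem L36393 : sm gc N3697 = N5680 := flp_c L36392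
theorem L36394 : sm gb N3696 = N5681 := rfl
theorem L36395 : sm gb N5681 = N3696 := flp_b L36394
theorem L36396 : sm gf N5681 = N3701 := ded_16_2 L26592 L21417 L21410 L26573 L36394
theorem L36397 : sm gf N3701 = N5681 := flp_f L36396
theorem L36398 : sm gg N5269 = N5681 := ded_31_0 L36396 L26592 L21421 L21407 L18890 L6069 L6010 L6008 L6011 L6016 L18737 L21003 L25755 L34524
theorem L36399 : sm gg N5681 = N5269 := flp_g L36398
theorem L36402 : sm ga N5272 = N3701 := ded_29_4 L36397 L36399 L34526 L34532
theorem L36404 : sm gg N3696 = N5326 := ded_17_2 L34779 L25864 L34524 L36398 L36395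
theorem L36405 : sm gg N5326 = N3696 := flp_g L36404
theorem L36408 : sm gf N5676 = N5326 := ded_29_0 L36405 L26574 L26575 L36379
theorem L36410 : sm gb N5321 = N5676 := ded_16_5 L36408 L34779 L25860 L25853 L34760
theorem L36411 : sm gb N5676 = N5321 := flp_b L36410
theorem L36412 : sm gf N3697 = N5682 := rfl
theorem L36413 : sm gf N5682 = N3697 := flp_f L36412
theorem L36416 : sm gg N5682 = N5675 := ded_29_3 L36374 L26574 L26575 L36412
theorem L36417 : sm gg N5675 = N5682 := flp_g L36416
theorem L36418 : sm gb N5682 = N4971 := ded_31_2 L33147 L33067 L35205 L35235 L35231 L26568 L26566 L26560 L26558 L21420 L21417 L21410 L26575 L36412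
theorem L36420 : sm ga N3698 = N5683 := rfl
theorem L36421 : sm ga N5683 = N3698 := flp_a L36420
theorem L36422 : sm gd N3698 = N5684 := rfl
theorem L36423 : sm gd N5684 = N3698 := flp_d L36422
theorem L36424 : sm gb N5684 = N3699 := ded_14_1 L26580 L26577 L36422
theorem L36425 : sm gb N3699 = N5684 := flp_b L36424
theorem L36426 : sm gf N3698 = N5685 := rfl
theorem L36427 : sm gf N5685 = N3698 := flp_f L36426
theorem L36428 : sm gg N3698 = N5686 := rfl
theorem L36429 : sm gg N5686 = N3698 := flp_g L36428
theorem L36430 : sm gc N3699 = N5687 := rfl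
theorem L36431 : sm gc N5687 = N3699 := flp_c L36430
theorem L36432 : sm ga N5687 = N3702 := ded_8_1 L26594 L26582 L36430
theorem L36433 : sm ga N3702 = N5687 := flp_a L36432
theorem L36434 : sm gd N5561 = N5687 := ded_28_1 L36431 L26580 L21413 L21305 L26345 L35840 L35842 L35856
theorem L36435 : sm gd N5687 = N5561 := flp_d L36434
theorem L36436 : sm ge N3699 = N5688 := rfl
theorem L36437 : sm ge N5688 = N3699 := flp_e L36436
theorem L36440 : sm gf N3699 = N5689 := rfl
theorem L36441 : sm gf N5689 = N3699 := flp_f L36440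
theorem L36442 : sm ga N5689 = N3704 := ded_11_1 L26600 L26582 L36440
theorem L36444 : sm gd N5689 = N3700 := ded_23_1 L26584 L26579 L36440
theorem L36445 : sm gd N3700 = N5689 := flp_d L36444
theorem L36446 : sm gg N5663 = N5689 := ded_29_1 L36441 L36289 L36286 L36298
theorem L36448 : sm gb N3700 = N5690 := rfl
theorem L36449 : sm gb N5690 = N3700 := flp_b L36448
theorem L36452 : sm gb N3702 = N5692 := rfl
theorem L36453 : sm gb N5692 = N3702 := flp_b L36452
theorem L36454 : sm gc N5692 = N3747 := ded_13_2 L26770 L21495 L21425 L26593 L36452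
theorem L36455 : sm gc N3747 = N5692 := flp_c L36454
theorem L36456 : sm gd N3702 = N5693 := rfl
theorem L36457 : sm gd N5693 = N3702 := flp_d L36456
theorem L36458 : sm ga N5693 = N5561 := ded_9_1 L36434 L36432 L36456
theorem L36459 : sm ga N5561 = N5693 := flp_a L36458
theorem L36460 : sm gc N5558 = N5693 := ded_28_0 L36457 L26594 L21423 L18902 L18854 L21306 L26357 L35843
theorem L36461 : sm gc N5693 = N5558 := flp_c L36460
theorem L36462 : sm ge N3702 = N5694 := rfl
theorem L36463 : sm ge N5694 = N3702 := flp_e L36462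
theorem L36464 : sm gc N5694 = N3703 := ded_19_1 L26596 L26593 L36462
theorem L36466 : sm gf N3702 = N5695 := rfl
theorem L36467 : sm gf N5695 = N3702 := flp_f L36466
theorem L36468 : sm gc N5695 = N3704 := ded_20_1 L26600 L26593 L36466
theorem L36469 : sm gc N3704 = N5695 := flp_c L36468
theorem L36470 : sm gf N3703 = N5696 := rfl
theorem L36471 : sm gf N5696 = N3703 := flp_f L36470
theorem L36472 : sm ge N5696 = N3704 := ded_25_1 L26600 L26595 L36470
theorem L36473 : sm ge N3704 = N5696 := flp_e L36472
theorem L36474 : sm gb N3704 = N5697 := rfl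
theorem L36475 : sm gb N5697 = N3704 := flp_b L36474
theorem L36476 : sm gd N5697 = N3705 := ded_14_2 L26604 L26602 L36474
theorem L36477 : sm gd N3705 = N5697 := flp_d L36476
theorem L36478 : sm gf N5697 = N3750 := ded_16_2 L26784 L21499 L21425 L26599 L36474
theorem L36479 : sm gf N3750 = N5697 := flp_f L36478
theorem L36480 : sm gg N3704 = N5698 := rfl
theorem L36481 : sm gg N5698 = N3704 := flp_g L36480
theorem L36482 : sm ga N5698 = N5663 := ded_12_1 L36446 L36442 L36480
theorem L36484 : sm gd N5698 = N3706 := ded_24_1 L26610 L26602 L36480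
theorem L36485 : sm gd N3706 = N5698 := flp_d L36484
theorem L36486 : sm gf N5660 = N5698 := ded_29_0 L36481 L26600 L26552 L36287
theorem L36487 : sm gf N5698 = N5660 := flp_f L36486
theorem L36488 : sm ga N3705 = N5699 := rfl
theorem L36489 : sm ga N5699 = N3705 := flp_a L36488
theorem L36490 : sm gc N5699 = N4237 := ded_8_2 L29293 L26606 L36488
theorem L36491 : sm gc N4237 = N5699 := flp_c L36490
theorem L36492 : sm gf N5699 = N3751 := ded_11_2 L26788 L26608 L36488
theorem L36494 : sm gg N3705 = N5700 := rfl
theorem L36495 : sm gg N5700 = N3705 := flp_g L36494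
theorem L36496 : sm gc N5700 = N4238 := ded_21_1 L29297 L26606 L36494
theorem L36497 : sm gc N4238 = N5700 := flp_c L36496
theorem L36498 : sm gb N3706 = N5701 := rfl
theorem L36499 : sm gb N5701 = N3706 := flp_b L36498
theorem L36500 : sm ga N3707 = N5702 := rfl
theorem L36501 : sm ga N5702 = N3707 := flp_a L36500
theorem L36502 : sm gg N5702 = N5141 := ded_12_2 L33903 L26620 L36500
theorem L36503 : sm gg N5141 = N5702 := flp_g L36502
theorem L36504 : sm gc N3707 = N5703 := rfl
theorem L36508 : sm gf N3707 = N5704 := rfl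
theorem L36509 : sm gf N5704 = N3707 := flp_f L36508
theorem L36510 : sm gb N5704 = N5657 := ded_16_1 L36277 L26542 L21434 L26617 L36508
theorem L36511 : sm gb N5657 = N5704 := flp_b L36510
theorem L36512 : sm gg N5474 = N5704 := ded_31_0 L36509 L26618 L21431 L18906 L6071 L2870 L1455 L1448 L2853 L6022 L18815 L21230 L26163 L35452
theorem L36513 : sm gg N5704 = N5474 := flp_g L36512
theorem L36514 : N5318 = N5141 := coi_29_3 L36503 L36501 L36508 L36513 L35454
theorem L36515 : N5318 = N5141 := eqc rfl L36514 rfl
theorem L36518 : sm gf N5141 = N5474 := trf L36515 L35455 rfl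
theorem L36520 : sm ga N5474 = N5143 := ded_29_4 L33907 L26620 L36508 L36513
theorem L36522 : sm gg N5657 = N5459 := ded_17_2 L35384 L26168 L35452 L36512 L36510
theorem L36524 : sm ga N5638 = N3719 := ded_7_7 L26665 L26166 L35452 L36520 L33908 L36353 L36175 L26508 L36190
theorem L36525 : sm ga N3719 = N5638 := flp_a L36524
theorem L36526 : sm gg N3717 = N5638 := ded_12_0 L36524 L26664 L26658
theorem L36527 : sm gg N5638 = N3717 := flp_g L36526
theorem L36528 : sm gb N3708 = N5705 := rfl
theorem L36529 : sm gb N5705 = N3708 := flp_b L36528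
theorem L36530 : sm gd N3708 = N5706 := rfl
theorem L36531 : sm gd N5706 = N3708 := flp_d L36530
theorem L36532 : sm ga N5706 = N3711 := ded_9_1 L26634 L26624 L36530
theorem L36533 : sm ga N3711 = N5706 := flp_a L36532
theorem L36540 : sm gg N3708 = N5708 := rfl
theorem L36541 : sm gg N5708 = N3708 := flp_g L36540
theorem L36542 : sm ga N5708 = N3713 := ded_12_1 L26641 L26624 L36540
theorem L36543 : sm ga N3713 = N5708 := flp_a L36542
theorem L36544 : sm gc N5708 = N3710 := ded_21_1 L26630 L26621 L36540
theorem L36546 : sm gb N3709 = N5709 := rfl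
theorem L36547 : sm gb N5709 = N3709 := flp_b L36546
theorem L36548 : sm gb N3710 = N5710 := rfl
theorem L36549 : sm gb N5710 = N3710 := flp_b L36548
theorem L36550 : sm gf N5710 = N5647 := ded_16_2 L36239 L36244 L36251 L26651 L36548
theorem L36551 : sm gf N5647 = N5710 := flp_f L36550
theorem L36552 : sm gg N5710 = N5219 := ded_17_2 L36350 L33865 L25457 L26629 L36548
theorem L36554 : sm ga N5710 = N4934 := ded_7_1 L32977 L25045 L25093 L33076 L36335 L35360 L26130 L26632 L36548
theorem L36556 : sm gg N5221 = N5647 := ded_29_1 L36551 L36552 L34265 L34268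
theorem L36557 : sm gg N5647 = N5221 := flp_g L36556
theorem L36558 : sm gg N5709 = N5307 := ded_31_6 L34701 L25828 L25833 L25837 L34496 L34498 L34504 L34506 L36556 L36551 L36549 L26630 L26625 L36546
theorem L36559 : sm gg N5307 = N5709 := flp_g L36558
theorem L36565 : sm gf N3711 = N5713 := rfl
theorem L36566 : sm gf N5713 = N3711 := flp_f L36565
theorem L36567 : sm gd N5713 = N3712 := ded_23_1 L26637 L26633 L36565
theorem L36569 : sm gg N3711 = N5714 := rfl
theorem L36570 : sm gg N5714 = N3711 := flp_g L36569
theorem L36576 : sm gg N3712 = N5716 := rfl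
theorem L36577 : sm gg N5716 = N3712 := flp_g L36576
theorem L36580 : sm gf N5708 = N5716 := ded_29_0 L36577 L26637 L26640 L36543
theorem L36581 : sm gf N5716 = N5708 := flp_f L36580
theorem L36582 : sm gb N3713 = N5717 := rfl
theorem L36583 : sm gb N5717 = N3713 := flp_b L36582
theorem L36585 : sm gf N3713 = N5718 := rfl
theorem L36586 : sm gf N5718 = N3713 := flp_f L36585
theorem L36587 : sm ga N5718 = N5716 := ded_11_1 L36581 L36542 L36585
theorem L36589 : sm gc N5718 = N3716 := ded_20_1 L26653 L26643 L36585
theorem L36590 : sm gc N3716 = N5718 := flp_c L36589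
theorem L36593 : sm ga N3714 = N5719 := rfl
theorem L36594 : sm ga N5719 = N3714 := flp_a L36593
theorem L36595 : sm gf N5719 = N3717 := ded_11_2 L26659 L26647 L36593
theorem L36597 : sm gg N5036 = N5719 := ded_29_3 L36594 L26646 L26663 L33465
theorem L36598 : sm gg N5719 = N5036 := flp_g L36597
theorem L36603 : sm gg N3714 = N5721 := rfl
theorem L36604 : sm gg N5721 = N3714 := flp_g L36603
theorem L36607 : sm gf N5638 = N5721 := ded_29_0 L36604 L26646 L26663 L36525
theorem L36609 : sm gb N5721 = N5637 := ded_17_1 L36249 L36251 L26649 L26644 L36603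
theorem L36611 : sm gb N3716 = N5722 := rfl
theorem L36612 : sm gb N5722 = N3716 := flp_b L36611
theorem L36613 : sm gg N5722 = N5023 := ded_17_2 L34703 L36559 L36547 L26657 L36611
theorem L36614 : sm gg N5023 = N5722 := flp_g L36613
theorem L36615 : sm ga N5026 = N5722 := ded_12_3 L36613 L33409 L33416
theorem L36617 : sm ga N5450 = N5128 := ded_7_9 L33854 L36615 L36612 L26654 L36250 L36246 L26535 L26118 L35346
theorem L36618 : sm ga N5128 = N5450 := flp_a L36617
theorem L36619 : N5126 = N5332 := coi_12_0 L35349 L36617 L33853 L33848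
theorem L36620 : N5332 = N5126 := (eqc rfl L36619 rfl).symm
theorem L36623 : sm gg N5126 = N5450 := trf L36620 L35349 rfl
theorem L36624 : sm gg N5450 = N5126 := flp_g L36623
theorem L36625 : sm gb N3717 = N5723 := rfl
theorem L36626 : sm gb N5723 = N3717 := flp_b L36625
theorem L36627 : sm gg N5723 = N5620 := ded_17_2 L36121 L26510 L36190 L36527 L36625
theorem L36628 : sm gg N5620 = N5723 := flp_g L36627
theorem L36629 : sm gf N5218 = N5723 := ded_31_1 L36626 L36526 L36607 L36609 L36249 L36245 L36238 L36557 L34269 L25640 L20963 L20958 L25637 L34262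
theorem L36630 : sm gf N5723 = N5218 := flp_f L36629
theorem L36638 : sm gg N3718 = N5726 := rfl
theorem L36640 : sm gc N5726 = N3719 := ded_21_1 L26664 L26660 L36638
theorem L36641 : sm gc N3719 = N5726 := flp_c L36640
theorem L36642 : sm ga N3720 = N5727 := rfl
theorem L36643 : sm ga N5727 = N3720 := flp_a L36642
theorem L36644 : sm gc N3720 = N5728 := rfl
theorem L36645 : sm gc N5728 = N3720 := flp_c L36644
theorem L36646 : sm gf N3720 = N5729 := rfl
theorem L36647 : sm gf N5729 = N3720 := flp_f L36646
theorem L36648 : sm gb N5729 = N3730 := ded_16_1 L26704 L21461 L21450 L26667 L36646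
theorem L36649 : sm gb N3730 = N5729 := flp_b L36648
theorem L36650 : sm gg N3720 = N5730 := rfl
theorem L36651 : sm gg N5730 = N3720 := flp_g L36650
theorem L36652 : sm gb N3721 = N5731 := rfl
theorem L36653 : sm gb N5731 = N3721 := flp_b L36652
theorem L36654 : sm gd N3721 = N5732 := rfl
theorem L36655 : sm gd N5732 = N3721 := flp_d L36654
theorem L36656 : sm ga N5732 = N3722 := ded_9_1 L26676 L26672 L36654
theorem L36657 : sm ga N3722 = N5732 := flp_a L36656
theorem L36658 : sm gf N5732 = N3733 := ded_23_2 L26710 L26674 L36654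
theorem L36660 : sm gc N3722 = N5733 := rfl
theorem L36661 : sm gc N5733 = N3722 := flp_c L36660
theorem L36662 : sm gf N5733 = N3736 := ded_20_2 L26724 L26679 L36660
theorem L36663 : sm gf N3736 = N5733 := flp_f L36662
theorem L36664 : sm ge N3722 = N5734 := rfl
theorem L36665 : sm ge N5734 = N3722 := flp_e L36664
theorem L36669 : sm gg N3722 = N5735 := rfl
theorem L36670 : sm gg N5735 = N3722 := flp_g L36669
theorem L36673 : sm gb N3723 = N5736 := rfl
theorem L36676 : sm ga N3724 = N5737 := rfl
theorem L36677 : sm ga N5737 = N3724 := flp_a L36676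
theorem L36678 : sm gg N5737 = N3725 := ded_12_2 L26689 L26687 L36676
theorem L36679 : sm gg N3725 = N5737 := flp_g L36678
theorem L36680 : sm gc N3724 = N5738 := rfl
theorem L36681 : sm gc N5738 = N3724 := flp_c L36680
theorem L36682 : sm gg N5738 = N3726 := ded_21_2 L26691 L26687 L36680
theorem L36684 : sm gf N3724 = N5739 := rfl
theorem L36685 : sm gf N5739 = N3724 := flp_f L36684
theorem L36686 : sm gb N3725 = N5740 := rfl
theorem L36687 : sm gb N5740 = N3725 := flp_b L36686
theorem L36688 : sm gc N3725 = N5741 := rfl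
theorem L36689 : sm gc N5741 = N3725 := flp_c L36688
theorem L36690 : sm ga N5741 = N3726 := ded_8_1 L26691 L26688 L36688
theorem L36692 : sm gf N3725 = N5742 := rfl
theorem L36693 : sm gf N5742 = N3725 := flp_f L36692
theorem L36694 : sm ga N5742 = N3727 := ded_11_1 L26694 L26688 L36692
theorem L36696 : sm gg N5739 = N5742 := ded_29_1 L36693 L36679 L36677 L36684
theorem L36697 : sm gg N5742 = N5739 := flp_g L36696
theorem L36698 : sm gb N5054 = N5742 := ded_31_14 L36697 L36685 L26685 L21457 L18920 L6079 L2884 L2745 L2736 L5759 L18597 L20802 L25309 L33520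
theorem L36700 : N5740 = N4974 := coi_16_4 L33159 L25312 L33520 L36698 L36693 L36686
theorem L36701 : N5740 = N4974 := eqc rfl L36700 rfl
theorem L36702 : sm gb N4974 = N3725 := trf L36701 L36687 rfl
theorem L36703 : sm gb N3725 = N4974 := flp_b L36702
theorem L36709 : sm gf N3726 = N5744 := rfl
theorem L36710 : sm gf N5744 = N3726 := flp_f L36709
theorem L36711 : sm gc N5744 = N3727 := ded_20_1 L26694 L26690 L36709
theorem L36727 : sm gc N3728 = N5746 := rfl
theorem L36728 : sm gc N5746 = N3728 := flp_c L36727
theorem L36729 : sm ga N5746 = N3729 := ded_8_1 L26702 L26697 L36727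
theorem L36731 : sm gf N3728 = N5747 := rfl
theorem L36732 : sm gf N5747 = N3728 := flp_f L36731
theorem L36735 : sm gg N5312 = N5747 := ded_31_0 L36732 L26699 L36376 L36408 L34779 L25864 L25756 L21001 L18712 L18709 L20992 L25743 L25838 L34728
theorem L36736 : sm gg N5747 = N5312 := flp_g L36735
theorem L36737 : sm gf N5312 = N3731 := ded_29_2 L26706 L26697 L36731 L36736
theorem L36745 : sm gb N3729 = N5749 := rfl
theorem L36747 : sm gc N5749 = N3732 := ded_13_2 L26708 L21463 L21460 L26701 L36745
theorem L36748 : sm gc N3732 = N5749 := flp_c L36747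
theorem L36749 : sm gd N3729 = N5750 := rfl
theorem L36750 : sm gd N5750 = N3729 := flp_d L36749
theorem L36751 : sm gf N3729 = N5751 := rfl
theorem L36752 : sm gf N5751 = N3729 := flp_f L36751
theorem L36755 : sm gg N3729 = N5752 := rfl
theorem L36756 : sm gg N5752 = N3729 := flp_g L36755
theorem L36757 : sm gc N5752 = N3731 := ded_21_1 L26706 L26701 L36755
theorem L36758 : sm gc N3731 = N5752 := flp_c L36757
theorem L36759 : sm gg N3730 = N5753 := rfl
theorem L36760 : sm gg N5753 = N3730 := flp_g L36759
theorem L36767 : sm gb N3731 = N5754 := rfl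
theorem L36769 : sm gf N5754 = N5261 := ded_16_2 L34497 L25838 L34728 L36737 L36767
theorem L36770 : sm gf N5261 = N5754 := flp_f L36769
theorem L36771 : sm gg N5754 = N3735 := ded_17_2 L26722 L21467 L21460 L26705 L36767
theorem L36772 : sm gg N3735 = N5754 := flp_g L36771
theorem L36773 : sm ga N3732 = N5755 := rfl
theorem L36774 : sm ga N5755 = N3732 := flp_a L36773
theorem L36775 : sm gd N3732 = N5756 := rfl
theorem L36776 : sm gd N5756 = N3732 := flp_d L36775
theorem L36777 : sm gb N5756 = N3733 := ded_14_1 L26710 L26707 L36775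
theorem L36778 : sm gb N3733 = N5756 := flp_b L36777
theorem L36779 : sm gf N3732 = N5757 := rfl
theorem L36780 : sm gf N5757 = N3732 := flp_f L36779
theorem L36781 : sm gg N3732 = N5758 := rfl
theorem L36782 : sm gg N5758 = N3732 := flp_g L36781
theorem L36793 : sm gg N3733 = N5761 := rfl
theorem L36799 : sm gf N5761 = N5735 := ded_29_2 L36670 L36657 L36658 L36793
theorem L36803 : sm gc N3735 = N5763 := rfl
theorem L36804 : sm gc N5763 = N3735 := flp_c L36803
theorem L36815 : sm ge N3736 = N5766 := rfl
theorem L36816 : sm ge N5766 = N3736 := flp_e L36815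
theorem L36819 : sm gg N3736 = N5767 := rfl
theorem L36820 : sm gg N5767 = N3736 := flp_g L36819
theorem L36827 : sm gb N3738 = N5769 := rfl
theorem L36831 : sm gg N5769 = N3757 := ded_17_2 L26817 L21519 L21475 L26729 L36827
theorem L36832 : sm gg N3757 = N5769 := flp_g L36831
theorem L36841 : sm ga N3739 = N5771 := rfl
theorem L36842 : sm ga N5771 = N3739 := flp_a L36841
theorem L36845 : sm gg N5771 = N3758 := ded_12_2 L26821 L26738 L36841
theorem L36846 : sm gg N3758 = N5771 := flp_g L36845
theorem L36847 : sm gf N3739 = N5772 := rfl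
theorem L36851 : sm gb N3740 = N5773 := rfl
theorem L36853 : sm ga N3741 = N5774 := rfl
theorem L36854 : sm ga N5774 = N3741 := flp_a L36853
theorem L36855 : sm gf N5774 = N5126 := ded_11_2 L33849 L26750 L36853
theorem L36856 : sm gf N5126 = N5774 := flp_f L36855
theorem L36857 : sm gc N3741 = N5775 := rfl
theorem L36858 : sm gc N5775 = N3741 := flp_c L36857
theorem L36861 : sm gg N3741 = N5776 := rfl
theorem L36862 : sm gg N5776 = N3741 := flp_g L36861
theorem L36863 : sm gf N5450 = N5776 := ded_29_0 L36862 L26749 L33852 L36618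
theorem L36865 : sm gb N5776 = N5730 := ded_17_1 L36651 L26668 L21485 L26747 L36861
theorem L36867 : sm gf N5730 = N5435 := ded_16_2 L35267 L26119 L35346 L36863 L36865
theorem L36868 : sm gf N5435 = N5730 := flp_f L36867
theorem L36869 : sm gb N3742 = N5777 := rfl
theorem L36879 : sm gg N3742 = N5780 := rfl
theorem L36880 : sm gg N5780 = N3742 := flp_g L36879
theorem L36881 : sm ga N5780 = N3745 := ded_12_1 L26762 L26751 L36879
theorem L36882 : sm ga N3745 = N5780 := flp_a L36881
theorem L36885 : sm ge N3743 = N5782 := rfl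
theorem L36886 : sm ge N5782 = N3743 := flp_e L36885
theorem L36887 : sm gb N5782 = N3746 := ded_15_1 L26764 L26756 L36885
theorem L36888 : sm gb N3746 = N5782 := flp_b L36887
theorem L36899 : sm gg N3744 = N5785 := rfl
theorem L36900 : sm gg N5785 = N3744 := flp_g L36899
theorem L36901 : sm gf N5780 = N5785 := ded_29_0 L36900 L26758 L26761 L36882
theorem L36909 : sm ga N3747 = N5787 := rfl
theorem L36910 : sm ga N5787 = N3747 := flp_a L36909
theorem L36915 : sm gf N3747 = N5789 := rfl
theorem L36916 : sm gf N5789 = N3747 := flp_f L36915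
theorem L36917 : sm gg N3747 = N5790 := rfl
theorem L36918 : sm gg N5790 = N3747 := flp_g L36917
theorem L36921 : sm gb N3749 = N5792 := rfl
theorem L36922 : sm gb N5792 = N3749 := flp_b L36921
theorem L36923 : sm ge N5792 = N3750 := ded_15_2 L26784 L26780 L36921
theorem L36924 : sm ge N3750 = N5792 := flp_e L36923
theorem L36925 : sm ga N3750 = N5793 := rfl
theorem L36926 : sm ga N5793 = N3750 := flp_a L36925
theorem L36927 : sm gd N5793 = N3751 := ded_9_2 L26788 L26786 L36925
theorem L36928 : sm gd N3751 = N5793 := flp_d L36927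
theorem L36929 : sm gc N3750 = N5794 := rfl
theorem L36930 : sm gc N5794 = N3750 := flp_c L36929
theorem L36937 : sm gb N3751 = N5796 := rfl
theorem L36938 : sm gb N5796 = N3751 := flp_b L36937
theorem L36947 : sm gf N3752 = N5798 := rfl
theorem L36953 : sm gg N5798 = N5699 := ded_29_3 L36489 L26607 L26791 L36947
theorem L36968 : sm gg N3753 = N5802 := rfl
theorem L36970 : sm gd N5802 = N4872 := ded_24_1 L32635 L26800 L36968
theorem L36971 : sm gd N4872 = N5802 := flp_d L36970
theorem L36972 : sm gd N3754 = N5803 := rfl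
theorem L36973 : sm gd N5803 = N3754 := flp_d L36972
theorem L36975 : sm ge N5803 = N4873 := ded_22_2 L32637 L24713 L21514 L26801 L36972
theorem L36976 : sm ge N4873 = N5803 := flp_e L36975
theorem L36977 : sm gg N3754 = N5804 := rfl
theorem L36978 : sm gg N5804 = N3754 := flp_g L36977
theorem L36983 : sm gb N3755 = N5805 := rfl
theorem L36984 : sm gb N5805 = N3755 := flp_b L36983
theorem L36987 : sm gb N3756 = N5806 := rfl
theorem L36988 : sm gb N5806 = N3756 := flp_b L36987
theorem L36989 : sm ge N5806 = N3757 := ded_15_2 L26817 L26815 L36987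
theorem L36990 : sm ge N3757 = N5806 := flp_e L36989
theorem L36991 : sm ga N3757 = N5807 := rfl
theorem L36992 : sm ga N5807 = N3757 := flp_a L36991
theorem L36995 : sm gc N3757 = N5808 := rfl
theorem L36996 : sm gc N5808 = N3757 := flp_c L36995
theorem L37003 : sm gf N3758 = N5811 := rfl
theorem L37004 : sm gf N5811 = N3758 := flp_f L37003
theorem L37005 : sm ga N5811 = N3759 := ded_11_1 L26825 L26820 L37003
theorem L37006 : sm ga N3759 = N5811 := flp_a L37005
theorem L37009 : sm gg N5772 = N5811 := ded_29_1 L37004 L36846 L36842 L36847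
theorem L37010 : sm gg N5811 = N5772 := flp_g L37009
theorem L37011 : sm gg N3759 = N5812 := rfl
theorem L37012 : sm gg N5812 = N3759 := flp_g L37011
theorem L37013 : sm ga N5812 = N5772 := ded_12_1 L37009 L37005 L37011
theorem L37015 : sm gc N5812 = N5172 := ded_21_1 L34033 L26827 L37011
theorem L37016 : sm gc N5172 = N5812 := flp_c L37015
theorem L37019 : sm ga N3760 = N5813 := rfl
theorem L37021 : sm gd N5813 = N5787 := ded_9_2 L36910 L26831 L37019
theorem L37022 : sm gd N5787 = N5813 := flp_d L37021
theorem L37027 : sm gf N3760 = N5815 := rfl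
theorem L37028 : sm gf N5815 = N3760 := flp_f L37027
theorem L37033 : sm gg N3760 = N5816 := rfl
theorem L37034 : sm gg N5816 = N3760 := flp_g L37033
theorem L37051 : sm gd N3762 = N5819 := rfl
theorem L37052 : sm gd N5819 = N3762 := flp_d L37051
theorem L37053 : sm ga N5819 = N3763 := ded_9_1 L26844 L26840 L37051
theorem L37054 : sm ga N3763 = N5819 := flp_a L37053
theorem L37060 : sm gf N3762 = N5821 := rfl
theorem L37062 : sm ga N5821 = N3765 := ded_11_1 L26853 L26840 L37060
theorem L37074 : sm ge N3763 = N5824 := rfl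
theorem L37076 : sm gb N5824 = N3767 := ded_15_1 L26859 L26846 L37074
theorem L37078 : sm gf N3763 = N5825 := rfl
theorem L37079 : sm gf N5825 = N3763 := flp_f L37078
theorem L37082 : sm gg N3763 = N5826 := rfl
theorem L37083 : sm gg N5826 = N3763 := flp_g L37082
theorem L37090 : sm gf N3764 = N5828 := rfl
theorem L37095 : sm gg N3764 = N5829 := rfl
theorem L37096 : sm gg N5829 = N3764 := flp_g L37095
theorem L37098 : sm ge N5829 = N3766 := ded_26_1 L26856 L26847 L37095
theorem L37099 : sm ge N3766 = N5829 := flp_e L37098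
theorem L37100 : sm gb N3765 = N5830 := rfl
theorem L37102 : sm gf N5830 = N3770 := ded_16_2 L26877 L21556 L21542 L26852 L37100
theorem L37103 : sm gf N3770 = N5830 := flp_f L37102
theorem L37111 : sm gf N3766 = N5832 := rfl
theorem L37112 : sm gf N5832 = N3766 := flp_f L37111
theorem L37116 : sm gg N5832 = N5821 := ded_29_3 L37062 L26853 L26855 L37111
theorem L37117 : sm gg N5821 = N5832 := flp_g L37116
theorem L37134 : sm gb N3769 = N5835 := rfl
theorem L37135 : sm gb N5835 = N3769 := flp_b L37134
theorem L37136 : sm ge N5835 = N3770 := ded_15_2 L26877 L26873 L37134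
theorem L37137 : sm ge N3770 = N5835 := flp_e L37136
theorem L37140 : sm ga N3770 = N5836 := rfl
theorem L37141 : sm ga N5836 = N3770 := flp_a L37140
theorem L37144 : sm gg N3770 = N5837 := rfl
theorem L37145 : sm gg N5837 = N3770 := flp_g L37144
theorem L37146 : sm gc N5837 = N4872 := ded_21_1 L32635 L26879 L37144
theorem L37148 : sm gb N5837 = N5176 := ded_17_1 L34051 L25526 L21562 L26876 L37144
theorem L37149 : sm gb N5176 = N5837 := flp_b L37148
theorem L37156 : sm ge N3771 = N5840 := rfl
theorem L37157 : sm ge N5840 = N3771 := flp_e L37156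
theorem L37158 : sm ga N5840 = N3773 := ded_10_1 L26888 L26880 L37156
theorem L37159 : sm ga N3773 = N5840 := flp_a L37158
theorem L37166 : sm gg N3771 = N5842 := rfl
theorem L37168 : sm ga N5842 = N3775 := ded_12_1 L26897 L26880 L37166
theorem L37169 : sm ga N3775 = N5842 := flp_a L37168
theorem L37175 : sm ge N3772 = N5844 := rfl
theorem L37177 : sm gb N5844 = N3776 := ded_15_1 L26900 L26886 L37175
theorem L37178 : sm gb N3776 = N5844 := flp_b L37177
theorem L37179 : sm gf N3772 = N5845 := rfl
theorem L37180 : sm gf N5845 = N3772 := flp_f L37179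
theorem L37181 : sm gd N5845 = N3774 := ded_23_1 L26893 L26883 L37179
theorem L37182 : sm gd N3774 = N5845 := flp_d L37181
theorem L37184 : sm gg N3772 = N5846 := rfl
theorem L37188 : sm gd N3773 = N5847 := rfl
theorem L37189 : sm gd N5847 = N3773 := flp_d L37188
theorem L37192 : sm gf N3773 = N5848 := rfl
theorem L37193 : sm gf N5848 = N3773 := flp_f L37192
theorem L37198 : sm gg N3773 = N5849 := rfl
theorem L37199 : sm gg N5849 = N3773 := flp_g L37198
theorem L37203 : sm gg N3774 = N5850 := rfl
theorem L37204 : sm gg N5850 = N3774 := flp_g L37203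
theorem L37206 : sm gf N5842 = N5850 := ded_29_0 L37204 L26893 L26896 L37169
theorem L37208 : sm gb N3775 = N5851 := rfl
theorem L37210 : sm gg N5851 = N3780 := ded_17_2 L26926 L21591 L21575 L26896 L37208
theorem L37211 : sm gg N3780 = N5851 := flp_g L37210
theorem L37219 : sm gd N3776 = N5853 := rfl
theorem L37220 : sm gd N5853 = N3776 := flp_d L37219
theorem L37221 : sm ga N5853 = N5803 := ded_9_1 L36973 L26902 L37219
theorem L37222 : sm ga N5803 = N5853 := flp_a L37221
theorem L37236 : sm gb N3777 = N5855 := rfl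
theorem L37237 : sm gb N5855 = N3777 := flp_b L37236
theorem L37238 : sm gd N5855 = N3780 := ded_14_2 L26926 L26913 L37236
theorem L37239 : sm gd N3780 = N5855 := flp_d L37238
theorem L37249 : sm gb N3779 = N5858 := rfl
theorem L37251 : sm ge N5858 = N3780 := ded_15_2 L26926 L26924 L37249
theorem L37252 : sm ge N3780 = N5858 := flp_e L37251
theorem L37253 : sm ga N3780 = N5859 := rfl
theorem L37254 : sm ga N5859 = N3780 := flp_a L37253
theorem L37255 : sm gc N3780 = N5860 := rfl
theorem L37256 : sm gc N5860 = N3780 := flp_c L37255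
theorem L37257 : sm gb N5860 = N3782 := ded_13_1 L26938 L21601 L21593 L26925 L37255
theorem L37258 : sm gb N3782 = N5860 := flp_b L37257
theorem L37259 : sm gf N3780 = N5861 := rfl
theorem L37260 : sm gf N5861 = N3780 := flp_f L37259
theorem L37269 : sm gd N3782 = N5863 := rfl
theorem L37270 : sm gd N5863 = N3782 := flp_d L37269
theorem L37271 : sm ga N5863 = N5863 := ded_9_1 L37270 L26939 L37269
theorem L37272 : sm gf N5863 = N5203 := ded_23_2 L34180 L26941 L37269
theorem L37275 : sm gc N5863 = N5203 := ded_28_0 L34180 L25588 L20939 L19003 L21603 L26937 L37269 L37271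
theorem L37282 : sm gf N3783 = N5865 := rfl
theorem L37285 : sm gd N5865 = N3784 := ded_23_1 L26951 L26943 L37282
theorem L37293 : sm gd N3785 = N5867 := rfl
theorem L37294 : sm gd N5867 = N3785 := flp_d L37293
theorem L37298 : sm gc N4873 = N5867 := ded_28_0 L37294 L26959 L21623 L19033 L18993 L21588 L26916 L32639
theorem L37299 : sm gc N5867 = N4873 := flp_c L37298
theorem L37305 : sm gb N3787 = N5869 := rfl
theorem L37307 : sm gd N5869 = N3789 := ded_14_2 L26985 L26975 L37305
theorem L37308 : sm gd N3789 = N5869 := flp_d L37307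
theorem L37313 : sm ga N3789 = N5871 := rfl
theorem L37314 : sm ga N5871 = N3789 := flp_a L37313
theorem L37315 : sm gc N3789 = N5872 := rfl
theorem L37317 : sm gb N5872 = N3792 := ded_13_1 L26991 L21661 L21653 L26984 L37315
theorem L37318 : sm gb N3792 = N5872 := flp_b L37317
theorem L37319 : sm gg N3789 = N5873 := rfl
theorem L37320 : sm gg N5873 = N3789 := flp_g L37319
theorem L37321 : sm ga N3790 = N5874 := rfl
theorem L37322 : sm ga N5874 = N3790 := flp_a L37321
theorem L37323 : sm gc N3790 = N5875 := rfl
theorem L37324 : sm gc N5875 = N3790 := flp_c L37323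
theorem L37325 : sm gb N5875 = N3795 := ded_13_1 L26997 L21663 L21659 L26986 L37323
theorem L37327 : sm gf N3790 = N5876 := rfl
theorem L37328 : sm gf N5876 = N3790 := flp_f L37327
theorem L37329 : sm gc N3791 = N5877 := rfl
theorem L37330 : sm gc N5877 = N3791 := flp_c L37329
theorem L37331 : sm ga N5877 = N3792 := ded_8_1 L26991 L26988 L37329
theorem L37332 : sm ga N3792 = N5877 := flp_a L37331
theorem L37333 : sm gg N5877 = N4896 := ded_21_2 L32779 L27151 L37329
theorem L37334 : sm gg N4896 = N5877 := flp_g L37333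
theorem L37335 : sm gd N3792 = N5878 := rfl
theorem L37336 : sm gd N5878 = N3792 := flp_d L37335
theorem L37337 : sm gg N3792 = N5879 := rfl
theorem L37338 : sm gg N5879 = N3792 := flp_g L37337
theorem L37339 : sm ga N5879 = N4896 := ded_12_1 L37334 L37331 L37337
theorem L37341 : sm gc N5879 = N3793 := ded_21_1 L26993 L26990 L37337
theorem L37343 : sm gf N3823 = N5879 := ded_20_0 L37341 L27109 L27167
theorem L37344 : sm gf N5879 = N3823 := flp_f L37343
theorem L37347 : sm gf N3795 = N5881 := rfl
theorem L37348 : sm gf N5881 = N3795 := flp_f L37347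
theorem L37349 : sm gc N5881 = N3796 := ded_20_1 L26999 L26996 L37347
theorem L37350 : sm gc N3796 = N5881 := flp_c L37349
theorem L37352 : sm gb N3797 = N5882 := rfl
theorem L37353 : sm gb N5882 = N3797 := flp_b L37352
theorem L37354 : sm gd N5882 = N4584 := ded_14_2 L31069 L27007 L37352
theorem L37355 : sm gd N4584 = N5882 := flp_d L37354
theorem L37356 : sm gb N3798 = N5883 := rfl
theorem L37360 : sm ga N3799 = N5884 := rfl
theorem L37361 : sm ga N5884 = N3799 := flp_a L37360
theorem L37362 : sm gd N5884 = N3803 := ded_9_2 L27039 L27019 L37360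
theorem L37363 : sm gd N3803 = N5884 := flp_d L37362
theorem L37366 : sm gg N3799 = N5886 := rfl
theorem L37368 : sm gd N5886 = N3805 := ded_24_1 L27045 L27019 L37366
theorem L37369 : sm gd N3805 = N5886 := flp_d L37368
theorem L37370 : sm gb N3800 = N5887 := rfl
theorem L37371 : sm gb N5887 = N3800 := flp_b L37370
theorem L37372 : sm gd N5887 = N3806 := ded_14_2 L27047 L27023 L37370
theorem L37373 : sm gd N3806 = N5887 := flp_d L37372
theorem L37378 : sm gc N3801 = N5889 := rfl
theorem L37379 : sm gc N5889 = N3801 := flp_c L37378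
theorem L37380 : sm gf N3801 = N5890 := rfl
theorem L37381 : sm gf N5890 = N3801 := flp_f L37380
theorem L37382 : sm gd N5890 = N3809 := ded_23_1 L27055 L27029 L37380
theorem L37388 : sm gb N3803 = N5892 := rfl
theorem L37389 : sm gb N5892 = N3803 := flp_b L37388
theorem L37390 : sm gc N3803 = N5893 := rfl
theorem L37391 : sm gc N5893 = N3803 := flp_c L37390
theorem L37392 : sm ga N5893 = N3804 := ded_8_1 L27041 L27038 L37390
theorem L37393 : sm ga N3804 = N5893 := flp_a L37392
theorem L37394 : sm gg N3803 = N5894 := rfl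
theorem L37395 : sm gg N5894 = N3803 := flp_g L37394
theorem L37396 : sm ga N5894 = N3805 := ded_12_1 L27045 L27038 L37394
theorem L37397 : sm ga N3805 = N5894 := flp_a L37396
theorem L37398 : sm gf N5894 = N5230 := ded_29_2 L34335 L34324 L34326 L37394
theorem L37399 : sm gf N5230 = N5894 := flp_f L37398
theorem L37400 : sm gd N3804 = N5895 := rfl
theorem L37402 : sm gb N5895 = N3813 := ded_14_1 L27067 L27043 L37400
theorem L37404 : sm gg N3804 = N5896 := rfl
theorem L37405 : sm gg N5896 = N3804 := flp_g L37404
theorem L37406 : sm gc N5896 = N3805 := ded_21_1 L27045 L27040 L37404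
theorem L37407 : sm gc N3805 = N5896 := flp_c L37406
theorem L37408 : sm gb N3805 = N5897 := rfl
theorem L37409 : sm gb N5897 = N3805 := flp_b L37408
theorem L37410 : sm gg N5897 = N3806 := ded_17_2 L27047 L21679 L21676 L27044 L37408
theorem L37411 : sm gg N3806 = N5897 := flp_g L37410
theorem L37412 : sm gf N3805 = N5898 := rfl
theorem L37413 : sm gf N5898 = N3805 := flp_f L37412
theorem L37414 : sm ga N5898 = N5230 := ded_11_1 L37399 L37396 L37412
theorem L37415 : sm ga N5230 = N5898 := flp_a L37414
theorem L37418 : sm ga N3806 = N5899 := rfl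
theorem L37419 : sm ga N5899 = N3806 := flp_a L37418
theorem L37420 : sm gc N3806 = N5900 := rfl
theorem L37421 : sm gc N5900 = N3806 := flp_c L37420
theorem L37422 : sm gb N5900 = N3816 := ded_13_1 L27112 L21705 L21681 L27046 L37420
theorem L37423 : sm gb N3816 = N5900 := flp_b L37422
theorem L37424 : sm gf N3806 = N5901 := rfl
theorem L37426 : sm gb N5901 = N5876 := ded_16_1 L37328 L26987 L21682 L27046 L37424
theorem L37427 : sm gb N5876 = N5901 := flp_b L37426
theorem L37430 : sm gc N3807 = N5903 := rfl
theorem L37432 : sm ga N5903 = N3808 := ded_8_1 L27051 L27048 L37430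
theorem L37433 : sm ga N3808 = N5903 := flp_a L37432
theorem L37434 : sm gf N3807 = N5904 := rfl
theorem L37435 : sm gf N5904 = N3807 := flp_f L37434
theorem L37436 : sm ga N5904 = N3809 := ded_11_1 L27055 L27048 L37434
theorem L37437 : sm ga N3809 = N5904 := flp_a L37436
theorem L37438 : sm gg N5234 = N5904 := ded_29_1 L37435 L34341 L34339 L34348
theorem L37444 : sm gf N3808 = N5906 := rfl
theorem L37445 : sm gf N5906 = N3808 := flp_f L37444
theorem L37446 : sm gc N5906 = N3809 := ded_20_1 L27055 L27050 L37444
theorem L37448 : sm gb N3809 = N5907 := rfl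
theorem L37449 : sm gb N5907 = N3809 := flp_b L37448
theorem L37450 : sm gf N5907 = N3810 := ded_16_2 L27057 L21687 L21684 L27054 L37448
theorem L37451 : sm gf N3810 = N5907 := flp_f L37450
theorem L37452 : sm gg N3809 = N5908 := rfl
theorem L37453 : sm gg N5908 = N3809 := flp_g L37452
theorem L37454 : sm ga N5908 = N5234 := ded_12_1 L37438 L37436 L37452
theorem L37458 : sm ga N3810 = N5909 := rfl
theorem L37460 : sm gc N3810 = N5910 := rfl
theorem L37461 : sm gc N5910 = N3810 := flp_c L37460
theorem L37462 : sm gb N5910 = N3821 := ded_13_1 L27154 L21717 L21691 L27056 L37460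
theorem L37463 : sm gb N3821 = N5910 := flp_b L37462
theorem L37464 : sm gg N3810 = N5911 := rfl
theorem L37465 : sm gg N5911 = N3810 := flp_g L37464
theorem L37466 : sm gb N5911 = N5873 := ded_17_1 L37320 L26985 L21693 L27056 L37464
theorem L37468 : sm gc N3811 = N5912 := rfl
theorem L37469 : sm gc N5912 = N3811 := flp_c L37468
theorem L37470 : sm ga N5912 = N4043 := ded_8_1 L28322 L27145 L37468
theorem L37471 : sm ga N4043 = N5912 := flp_a L37470
theorem L37472 : sm gf N5912 = N4045 := ded_20_2 L28334 L27143 L37468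
theorem L37473 : sm gf N4045 = N5912 := flp_f L37472
theorem L37474 : sm gb N3812 = N5913 := rfl
theorem L37475 : sm gb N5913 = N3812 := flp_b L37474
theorem L37476 : sm ga N5913 = N4455 := ded_30_3 L30344 L23474 L23472 L19946 L18535 L5792 L2757 L1416 L808 L805 L1448 L2841 L5981 L5985 L6455 L19096 L21697 L27060 L37474
theorem L37477 : sm ga N4455 = N5913 := flp_a L37476
theorem L37478 : sm gf N4457 = N5913 := ded_11_0 L37476 L30344 L30354
theorem L37479 : sm gf N5913 = N4457 := flp_f L37478
theorem L37480 : sm gd N3812 = N5914 := rfl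
theorem L37481 : sm gd N5914 = N3812 := flp_d L37480
theorem L37482 : sm ga N5914 = N3813 := ded_9_1 L27067 L27063 L37480
theorem L37483 : sm ga N3813 = N5914 := flp_a L37482
theorem L37484 : sm gf N5914 = N3826 := ded_23_2 L27184 L27065 L37480
theorem L37485 : sm gf N3826 = N5914 := flp_f L37484
theorem L37490 : sm ge N3813 = N5916 := rfl
theorem L37491 : sm ge N5916 = N3813 := flp_e L37490
theorem L37494 : sm gg N3813 = N5917 := rfl
theorem L37498 : sm gb N3814 = N5918 := rfl
theorem L37499 : sm gb N5918 = N3814 := flp_b L37498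
theorem L37500 : sm gc N3815 = N5919 := rfl
theorem L37501 : sm gc N5919 = N3815 := flp_c L37500
theorem L37504 : sm gf N5919 = N3891 := ded_20_2 L27522 L27080 L37500
theorem L37506 : sm gg N5919 = N3816 := ded_21_2 L27112 L27077 L37500
theorem L37507 : sm gg N3816 = N5919 := flp_g L37506
theorem L37512 : sm gd N3817 = N5922 := rfl
theorem L37514 : sm ga N5922 = N3818 := ded_9_1 L27120 L27116 L37512
theorem L37516 : sm gg N5922 = N3836 := ded_24_2 L27224 L27118 L37512
theorem L37517 : sm gg N3836 = N5922 := flp_g L37516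
theorem L37526 : sm gf N3818 = N5925 := rfl
theorem L37530 : sm gb N3819 = N5926 := rfl
theorem L37531 : sm gb N5926 = N3819 := flp_b L37530
theorem L37532 : sm gc N3820 = N5927 := rfl
theorem L37533 : sm gc N5927 = N3820 := flp_c L37532
theorem L37534 : sm gf N5927 = N3821 := ded_20_2 L27154 L27130 L37532
theorem L37535 : sm gf N3821 = N5927 := flp_f L37534
theorem L37536 : sm gg N5927 = N4043 := ded_21_2 L28322 L27132 L37532
theorem L37537 : sm gg N4043 = N5927 := flp_g L37536
theorem L37538 : sm gd N3821 = N5928 := rfl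
theorem L37539 : sm gd N5928 = N3821 := flp_d L37538
theorem L37540 : sm gc N3822 = N5929 := rfl
theorem L37541 : sm gc N5929 = N3822 := flp_c L37540
theorem L37542 : sm ga N5929 = N3823 := ded_8_1 L27168 L27155 L37540
theorem L37543 : sm ga N3823 = N5929 := flp_a L37542
theorem L37544 : sm ge N5929 = N5879 := ded_19_2 L37341 L27160 L37540
theorem L37546 : sm gf N5929 = N4896 := ded_20_2 L32779 L27162 L37540
theorem L37547 : sm gf N4896 = N5929 := flp_f L37546
theorem L37548 : sm gg N5929 = N4878 := ded_21_2 L32673 L27163 L37540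
theorem L37549 : sm gg N4878 = N5929 := flp_g L37548
theorem L37550 : sm gb N3823 = N5930 := rfl
theorem L37551 : sm gb N5930 = N3823 := flp_b L37550
theorem L37552 : sm gc N5930 = N3825 := ded_13_2 L27182 L21721 L21718 L27167 L37550
theorem L37553 : sm gc N3825 = N5930 := flp_c L37552
theorem L37554 : sm gd N3823 = N5931 := rfl
theorem L37555 : sm gd N5931 = N3823 := flp_d L37554
theorem L37556 : sm gg N3823 = N5932 := rfl
theorem L37557 : sm gg N5932 = N3823 := flp_g L37556
theorem L37558 : sm ga N5932 = N4878 := ded_12_1 L37549 L37542 L37556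
theorem L37559 : sm ga N4878 = N5932 := flp_a L37558
theorem L37560 : sm gc N5932 = N3824 := ded_21_1 L27170 L27167 L37556
theorem L37562 : sm ge N5932 = N5877 := ded_26_1 L37333 L32780 L37556
theorem L37563 : sm ge N5877 = N5932 := flp_e L37562
theorem L37564 : sm gf N5877 = N5932 := ded_29_0 L37557 L37343 L37338 L37332
theorem L37566 : sm ga N3825 = N5933 := rfl
theorem L37567 : sm ga N5933 = N3825 := flp_a L37566
theorem L37568 : sm gd N3825 = N5934 := rfl
theorem L37569 : sm gd N5934 = N3825 := flp_d L37568
theorem L37570 : sm gb N5934 = N3826 := ded_14_1 L27184 L27181 L37568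
theorem L37571 : sm gb N3826 = N5934 := flp_b L37570
theorem L37572 : sm gf N3825 = N5935 := rfl
theorem L37573 : sm gf N5935 = N3825 := flp_f L37572
theorem L37574 : sm gb N5935 = N4457 := ded_16_1 L37478 L37475 L27064 L27181 L37572
theorem L37575 : sm gb N4457 = N5935 := flp_b L37574
theorem L37576 : sm gg N3825 = N5936 := rfl
theorem L37577 : sm gg N5936 = N3825 := flp_g L37576
theorem L37578 : sm gc N3826 = N5937 := rfl
theorem L37584 : sm ge N3826 = N5938 := rfl
theorem L37585 : sm ge N5938 = N3826 := flp_e L37584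
theorem L37586 : sm ga N5938 = N3829 := ded_10_1 L27198 L27186 L37584
theorem L37587 : sm ga N3829 = N5938 := flp_a L37586
theorem L37588 : sm gg N3826 = N5939 := rfl
theorem L37589 : sm gg N5939 = N3826 := flp_g L37588
theorem L37592 : sm gd N5939 = N3827 := ded_24_1 L27188 L27183 L37588
theorem L37593 : sm gd N3827 = N5939 := flp_d L37592
theorem L37596 : sm gb N3827 = N5940 := rfl
theorem L37597 : sm gb N5940 = N3827 := flp_b L37596
theorem L37618 : sm gb N3830 = N5946 := rfl
theorem L37619 : sm gb N5946 = N3830 := flp_b L37618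
theorem L37622 : sm gf N3830 = N5947 := rfl
theorem L37623 : sm gf N5947 = N3830 := flp_f L37622
theorem L37626 : sm gd N5947 = N3832 := ded_23_1 L27206 L27202 L37622
theorem L37630 : sm ga N3831 = N5948 := rfl
theorem L37631 : sm ga N5948 = N3831 := flp_a L37630
theorem L37632 : sm gf N3831 = N5949 := rfl
theorem L37633 : sm gf N5949 = N3831 := flp_f L37632
theorem L37634 : sm gb N3832 = N5950 := rfl
theorem L37635 : sm gb N5950 = N3832 := flp_b L37634
theorem L37636 : sm gc N5950 = N4913 := ded_13_2 L32864 L24939 L24961 L27210 L37634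
theorem L37637 : sm gc N4913 = N5950 := flp_c L37636
theorem L37638 : sm gb N3833 = N5951 := rfl
theorem L37639 : sm gb N5951 = N3833 := flp_b L37638
theorem L37640 : sm gc N5951 = N3835 := ded_13_2 L27222 L21746 L21742 L27213 L37638
theorem L37641 : sm gc N3835 = N5951 := flp_c L37640
theorem L37645 : sm gf N3833 = N5953 := rfl
theorem L37648 : sm gc N5953 = N3834 := ded_20_1 L27217 L27213 L37645
theorem L37649 : sm gc N3834 = N5953 := flp_c L37648
theorem L37650 : sm ga N3835 = N5954 := rfl
theorem L37651 : sm ga N5954 = N3835 := flp_a L37650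
theorem L37652 : sm gd N3835 = N5955 := rfl
theorem L37654 : sm gb N5955 = N3836 := ded_14_1 L27224 L27221 L37652
theorem L37656 : sm gf N3835 = N5956 := rfl
theorem L37657 : sm gf N5956 = N3835 := flp_f L37656
theorem L37660 : sm gc N3836 = N5958 := rfl
theorem L37661 : sm gc N5958 = N3836 := flp_c L37660
theorem L37662 : sm ga N5958 = N3838 := ded_8_1 L27236 L27226 L37660
theorem L37664 : sm gd N4908 = N5958 := ded_28_1 L37661 L27224 L21746 L20643 L24898 L32825 L32827 L32839
theorem L37666 : sm ge N3836 = N5959 := rfl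
theorem L37667 : sm ge N5959 = N3836 := flp_e L37666
theorem L37670 : sm gf N3836 = N5960 := rfl
theorem L37671 : sm gf N5960 = N3836 := flp_f L37670
theorem L37676 : sm gg N5925 = N5960 := ded_29_1 L37671 L37517 L37514 L37526
theorem L37678 : sm gb N3837 = N5961 := rfl
theorem L37679 : sm gb N5961 = N3837 := flp_b L37678
theorem L37682 : sm gd N3838 = N5963 := rfl
theorem L37683 : sm gd N5963 = N3838 := flp_d L37682
theorem L37684 : sm ga N5963 = N4908 := ded_9_1 L37664 L37662 L37682
theorem L37685 : sm ga N4908 = N5963 := flp_a L37684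
theorem L37686 : sm gc N4906 = N5963 := ded_28_0 L37683 L27236 L21756 L19105 L10666 L20646 L24914 L32828
theorem L37696 : sm gf N3839 = N5966 := rfl
theorem L37697 : sm gf N5966 = N3839 := flp_f L37696
theorem L37700 : sm gb N3840 = N5967 := rfl
theorem L37701 : sm gb N5967 = N3840 := flp_b L37700
theorem L37702 : sm gd N5967 = N3841 := ded_14_2 L27244 L27242 L37700
theorem L37703 : sm gd N3841 = N5967 := flp_d L37702
theorem L37704 : sm gg N3840 = N5968 := rfl
theorem L37708 : sm gd N5968 = N3842 := ded_24_1 L27246 L27242 L37704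
theorem L37709 : sm gd N3842 = N5968 := flp_d L37708
theorem L37712 : sm ga N3841 = N5969 := rfl
theorem L37713 : sm ga N5969 = N3841 := flp_a L37712
theorem L37714 : sm gg N3841 = N5970 := rfl
theorem L37715 : sm gg N5970 = N3841 := flp_g L37714
theorem L37716 : sm gb N3842 = N5971 := rfl
theorem L37717 : sm gb N5971 = N3842 := flp_b L37716
theorem L37718 : sm gb N3844 = N5972 := rfl
theorem L37719 : sm gb N5972 = N3844 := flp_b L37718
theorem L37720 : sm gd N3844 = N5973 := rfl
theorem L37721 : sm gd N5973 = N3844 := flp_d L37720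
theorem L37722 : sm ga N5973 = N3847 := ded_9_1 L27274 L27258 L37720
theorem L37723 : sm ga N3847 = N5973 := flp_a L37722
theorem L37724 : sm gf N3844 = N5974 := rfl
theorem L37725 : sm gf N5974 = N3844 := flp_f L37724
theorem L37726 : sm ga N5974 = N3848 := ded_11_1 L27276 L27258 L37724
theorem L37727 : sm ga N3848 = N5974 := flp_a L37726
theorem L37728 : sm gc N5974 = N3845 := ded_20_1 L27260 L27255 L37724
theorem L37729 : sm gc N3845 = N5974 := flp_c L37728
theorem L37730 : sm ge N5974 = N5912 := ded_25_1 L37472 L28337 L37724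
theorem L37731 : sm ge N5912 = N5974 := flp_e L37730
theorem L37732 : sm ga N3846 = N5975 := rfl
theorem L37733 : sm ga N5975 = N3846 := flp_a L37732
theorem L37734 : sm gc N5975 = N3852 := ded_8_2 L27308 L27272 L37732
theorem L37735 : sm gc N3852 = N5975 := flp_c L37734
theorem L37736 : sm gd N3846 = N5976 := rfl
theorem L37737 : sm gd N5976 = N3846 := flp_d L37736
theorem L37738 : sm gb N5976 = N3847 := ded_14_1 L27274 L27269 L37736
theorem L37739 : sm gb N3847 = N5976 := flp_b L37738
theorem L37740 : sm gf N3846 = N5977 := rfl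
theorem L37741 : sm gf N5977 = N3846 := flp_f L37740
theorem L37742 : sm gc N5977 = N3853 := ded_20_1 L27312 L27272 L37740
theorem L37743 : sm gc N3853 = N5977 := flp_c L37742
theorem L37744 : sm gg N3846 = N5978 := rfl
theorem L37745 : sm gg N5978 = N3846 := flp_g L37744
theorem L37746 : sm gc N5978 = N3854 := ded_21_1 L27318 L27272 L37744
theorem L37747 : sm gc N3854 = N5978 := flp_c L37746
theorem L37748 : sm gc N3847 = N5979 := rfl
theorem L37749 : sm gc N5979 = N3847 := flp_c L37748
theorem L37750 : sm ge N3847 = N5980 := rfl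
theorem L37751 : sm ge N5980 = N3847 := flp_e L37750
theorem L37752 : sm gf N3847 = N5981 := rfl
theorem L37753 : sm gf N5981 = N3847 := flp_f L37752
theorem L37754 : sm gd N5981 = N3848 := ded_23_1 L27276 L27273 L37752
theorem L37755 : sm gd N3848 = N5981 := flp_d L37754
theorem L37756 : sm gg N3847 = N5982 := rfl
theorem L37757 : sm gg N5982 = N3847 := flp_g L37756
theorem L37758 : sm gd N5982 = N3849 := ded_24_1 L27280 L27273 L37756
theorem L37759 : sm gd N3849 = N5982 := flp_d L37758
theorem L37760 : sm gb N3848 = N5983 := rfl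
theorem L37761 : sm gb N5983 = N3848 := flp_b L37760
theorem L37762 : sm gc N5983 = N3886 := ded_13_2 L27485 L21859 L21774 L27278 L37760
theorem L37763 : sm gc N3886 = N5983 := flp_c L37762
theorem L37764 : sm gg N3848 = N5984 := rfl
theorem L37765 : sm gg N5984 = N3848 := flp_g L37764
theorem L37768 : sm ge N5984 = N5927 := ded_26_1 L37536 L28323 L37764
theorem L37769 : sm ge N5927 = N5984 := flp_e L37768
theorem L37772 : sm gb N3849 = N5985 := rfl
theorem L37773 : sm gb N5985 = N3849 := flp_b L37772
theorem L37774 : sm gf N3849 = N5986 := rfl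
theorem L37775 : sm gf N5986 = N3849 := flp_f L37774
theorem L37782 : sm gb N3852 = N5987 := rfl
theorem L37783 : sm gb N5987 = N3852 := flp_b L37782
theorem L37786 : sm gf N3852 = N5988 := rfl
theorem L37787 : sm gf N5988 = N3852 := flp_f L37786
theorem L37788 : sm ga N5988 = N3853 := ded_11_1 L27312 L27307 L37786
theorem L37789 : sm ga N3853 = N5988 := flp_a L37788
theorem L37790 : sm gd N5988 = N4317 := ded_23_1 L29708 L27310 L37786
theorem L37792 : sm gg N3852 = N5989 := rfl
theorem L37793 : sm gg N5989 = N3852 := flp_g L37792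
theorem L37794 : sm ga N5989 = N3854 := ded_12_1 L27318 L27307 L37792
theorem L37795 : sm ga N3854 = N5989 := flp_a L37794
theorem L37796 : sm gd N5989 = N4327 := ded_24_1 L29745 L27310 L37792
theorem L37798 : sm gg N3853 = N5990 := rfl
theorem L37799 : sm gg N5990 = N3853 := flp_g L37798
theorem L37800 : sm gd N5990 = N4319 := ded_24_1 L29719 L27314 L37798
theorem L37802 : sm gf N5989 = N5990 := ded_29_0 L37799 L27312 L27317 L37795
theorem L37803 : sm gf N5990 = N5989 := flp_f L37802
theorem L37804 : sm gf N3854 = N5991 := rfl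
theorem L37805 : sm gf N5991 = N3854 := flp_f L37804
theorem L37806 : sm ga N5991 = N5990 := ded_11_1 L37803 L37794 L37804
theorem L37807 : sm ga N5990 = N5991 := flp_a L37806
theorem L37808 : sm gd N5991 = N4330 := ded_23_1 L29757 L27320 L37804
theorem L37809 : sm gd N4330 = N5991 := flp_d L37808
theorem L37810 : sm gg N5991 = N5988 := ded_29_3 L37788 L27312 L27317 L37804
theorem L37811 : sm gg N5988 = N5991 := flp_g L37810
theorem L37812 : sm gb N3855 = N5992 := rfl
theorem L37813 : sm gb N5992 = N3855 := flp_b L37812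
theorem L37814 : sm gd N5992 = N4350 := ded_14_2 L29835 L27324 L37812
theorem L37815 : sm gd N4350 = N5992 := flp_d L37814
theorem L37816 : sm gc N3855 = N5993 := rfl
theorem L37817 : sm gc N5993 = N3855 := flp_c L37816
theorem L37820 : sm gf N3855 = N5994 := rfl
theorem L37821 : sm gf N5994 = N3855 := flp_f L37820
theorem L37826 : sm gg N5434 = N5994 := ded_29_1 L37821 L35255 L35251 L35262
theorem L37827 : sm gg N5994 = N5434 := flp_g L37826
theorem L37828 : sm gb N4365 = N5994 := ded_31_14 L37827 L35263 L26080 L21199 L18797 L6066 L12344 L4650 L4645 L9412 L19820 L23249 L29888 L29903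
theorem L37830 : sm gg N5646 = N4363 := ded_17_2 L29893 L29898 L37828 L37827 L36237
theorem L37831 : sm gg N4363 = N5646 := flp_g L37830
theorem L37832 : sm gf N5992 = N4406 := ded_16_4 L30098 L29903 L37828 L37821 L37812
theorem L37833 : sm gf N4406 = N5992 := flp_f L37832
theorem L37834 : sm gf N3938 = N4350 := ded_23_2 L37815 L37832 L30096
theorem L37835 : sm gf N4350 = N3938 := flp_f L37834
theorem L37836 : sm gg N4156 = N5992 := ded_29_1 L37832 L30095 L30074 L30078
theorem L37838 : sm gg N4324 = N4318 := ded_31_12 L29716 L28959 L37836 L37832 L30098 L29889 L23253 L19827 L9417 L9392 L9389 L19794 L23199 L29732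
theorem L37839 : sm gg N4318 = N4324 := flp_g L37838
theorem L37840 : sm gc N5992 = N4157 := ded_21_1 L28961 L28956 L37836
theorem L37841 : sm gc N4157 = N5992 := flp_c L37840
theorem L37842 : sm gb N5432 = N4329 := ded_17_3 L29753 L28959 L37836 L37813 L35255
theorem L37844 : sm gc N4319 = N4324 := ded_21_3 L37838 L29713 L29718
theorem L37845 : sm gc N4324 = N4319 := flp_c L37844
theorem L37850 : sm gf N3856 = N5996 := rfl
theorem L37851 : sm gf N5996 = N3856 := flp_f L37850
theorem L37852 : sm gc N5996 = N3857 := ded_20_1 L27330 L27325 L37850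
theorem L37853 : sm gc N3857 = N5996 := flp_c L37852
theorem L37854 : sm gg N3857 = N5997 := rfl
theorem L37855 : sm gg N5997 = N3857 := flp_g L37854
theorem L37864 : sm gd N3858 = N5999 := rfl
theorem L37865 : sm gd N5999 = N3858 := flp_d L37864
theorem L37866 : sm ga N5999 = N3859 := ded_9_1 L27340 L27336 L37864
theorem L37867 : sm ga N3859 = N5999 := flp_a L37866
theorem L37868 : sm gg N5999 = N3863 := ded_24_2 L27356 L27338 L37864
theorem L37869 : sm gg N3863 = N5999 := flp_g L37868
theorem L37870 : sm gc N3859 = N6000 := rfl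
theorem L37871 : sm gc N6000 = N3859 := flp_c L37870
theorem L37872 : sm gg N6000 = N3865 := ded_21_2 L27368 L27342 L37870
theorem L37873 : sm gg N3865 = N6000 := flp_g L37872
theorem L37874 : sm ge N3859 = N6001 := rfl
theorem L37875 : sm ge N6001 = N3859 := flp_e L37874
theorem L37876 : sm gg N6001 = N3866 := ded_26_2 L27370 L27342 L37874
theorem L37878 : sm gf N3859 = N6002 := rfl
theorem L37879 : sm gf N6002 = N3859 := flp_f L37878
theorem L37882 : sm gb N3860 = N6003 := rfl
theorem L37883 : sm gb N6003 = N3860 := flp_b L37882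
theorem L37884 : sm gb N3861 = N6004 := rfl
theorem L37886 : sm ge N6004 = N5950 := ded_15_2 L37635 L27350 L37884
theorem L37888 : sm gc N6004 = N3862 := ded_13_2 L27354 L21798 L21795 L27347 L37884
theorem L37889 : sm gc N3862 = N6004 := flp_c L37888
theorem L37890 : sm gd N3861 = N6005 := rfl
theorem L37891 : sm gd N6005 = N3861 := flp_d L37890
theorem L37892 : sm gf N6005 = N4902 := ded_23_2 L32808 L27352 L37890
theorem L37893 : sm gf N4902 = N6005 := flp_f L37892
theorem L37894 : sm ga N3862 = N6006 := rfl
theorem L37895 : sm ga N6006 = N3862 := flp_a L37894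
theorem L37900 : sm gf N3862 = N6008 := rfl
theorem L37901 : sm gf N6008 = N3862 := flp_f L37900
theorem L37902 : sm gg N3862 = N6009 := rfl
theorem L37903 : sm gg N6009 = N3862 := flp_g L37902
theorem L37904 : sm gc N3863 = N6010 := rfl
theorem L37905 : sm gc N6010 = N3863 := flp_c L37904
theorem L37906 : sm ga N6010 = N3865 := ded_8_1 L27368 L27358 L37904
theorem L37908 : sm gd N4916 = N6010 := ded_28_1 L37905 L27356 L21798 L20659 L24938 L32867 L32869 L32881
theorem L37910 : sm ge N3863 = N6011 := rfl
theorem L37911 : sm ge N6011 = N3863 := flp_e L37910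
theorem L37914 : sm gf N3863 = N6012 := rfl
theorem L37915 : sm gf N6012 = N3863 := flp_f L37914
theorem L37920 : sm gg N6002 = N6012 := ded_29_1 L37915 L37869 L37866 L37878
theorem L37921 : sm gg N6012 = N6002 := flp_g L37920
theorem L37924 : sm gb N3865 = N6014 := rfl
theorem L37925 : sm gb N6014 = N3865 := flp_b L37924
theorem L37926 : sm gd N3865 = N6015 := rfl
theorem L37927 : sm gd N6015 = N3865 := flp_d L37926
theorem L37928 : sm ga N6015 = N4916 := ded_9_1 L37908 L37906 L37926
theorem L37929 : sm ga N4916 = N6015 := flp_a L37928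
theorem L37930 : sm gc N4914 = N6015 := ded_28_0 L37927 L27368 L21808 L19131 L10672 L20662 L24977 L32870
theorem L37936 : sm gf N3865 = N6017 := rfl
theorem L37937 : sm gf N6017 = N3865 := flp_f L37936
theorem L37940 : sm gf N3866 = N6018 := rfl
theorem L37941 : sm gf N6018 = N3866 := flp_f L37940
theorem L37944 : sm gb N3867 = N6019 := rfl
theorem L37945 : sm gb N6019 = N3867 := flp_b L37944
theorem L37946 : sm gd N6019 = N3868 := ded_14_2 L27376 L27374 L37944
theorem L37947 : sm gd N3868 = N6019 := flp_d L37946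
theorem L37956 : sm ga N3868 = N6021 := rfl
theorem L37957 : sm ga N6021 = N3868 := flp_a L37956
theorem L37958 : sm gc N6021 = N5969 := ded_8_2 L37713 L27378 L37956
theorem L37959 : sm gc N5969 = N6021 := flp_c L37958
theorem L37960 : sm gg N3868 = N6022 := rfl
theorem L37961 : sm gg N6022 = N3868 := flp_g L37960
theorem L37962 : sm gc N6022 = N5970 := ded_21_1 L37715 L27378 L37960
theorem L37963 : sm gc N5970 = N6022 := flp_c L37962
theorem L37966 : sm gc N3870 = N6024 := rfl
theorem L37968 : sm ga N6024 = N4058 := ded_8_1 L28422 L27394 L37966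
theorem L37969 : sm ga N4058 = N6024 := flp_a L37968
theorem L37972 : sm gg N6024 = N4056 := ded_21_2 L28409 L27392 L37966
theorem L37973 : sm gg N4056 = N6024 := flp_g L37972
theorem L37974 : sm gc N3871 = N6025 := rfl
theorem L37976 : sm ga N6025 = N3872 := ded_8_1 L27408 L27395 L37974
theorem L37977 : sm ga N3872 = N6025 := flp_a L37976
theorem L37978 : sm ge N6025 = N5919 := ded_19_2 L37501 L27400 L37974
theorem L37979 : sm ge N5919 = N6025 := flp_e L37978
theorem L37980 : sm gf N6025 = N4044 := ded_20_2 L28328 L27404 L37974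
theorem L37981 : sm gf N4044 = N6025 := flp_f L37980
theorem L37984 : sm gb N3872 = N6026 := rfl
theorem L37985 : sm gb N6026 = N3872 := flp_b L37984
theorem L37986 : sm gc N6026 = N3874 := ded_13_2 L27417 L21822 L21819 L27407 L37984
theorem L37988 : sm gd N3872 = N6027 := rfl
theorem L37989 : sm gd N6027 = N3872 := flp_d L37988
theorem L37990 : sm gf N3872 = N6028 := rfl
theorem L37991 : sm gf N6028 = N3872 := flp_f L37990
theorem L37992 : sm ga N6028 = N4044 := ded_11_1 L37981 L37976 L37990
theorem L37993 : sm ga N4044 = N6028 := flp_a L37992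
theorem L37994 : sm gc N6028 = N3873 := ded_20_1 L27410 L27407 L37990
theorem L37998 : sm ga N3874 = N6029 := rfl
theorem L38000 : sm gd N3874 = N6030 := rfl
theorem L38001 : sm gd N6030 = N3874 := flp_d L38000
theorem L38002 : sm gb N6030 = N3875 := ded_14_1 L27419 L27416 L38000
theorem L38003 : sm gb N3875 = N6030 := flp_b L38002
theorem L38004 : sm gf N3874 = N6031 := rfl
theorem L38005 : sm gf N6031 = N3874 := flp_f L38004
theorem L38007 : sm gg N3874 = N6032 := rfl
theorem L38008 : sm gg N6032 = N3874 := flp_g L38007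
theorem L38016 : sm ge N3875 = N6034 := rfl
theorem L38017 : sm ge N6034 = N3875 := flp_e L38016
theorem L38021 : sm gg N3875 = N6035 := rfl
theorem L38022 : sm gg N6035 = N3875 := flp_g L38021
theorem L38025 : sm gd N6035 = N3876 := ded_24_1 L27424 L27418 L38021
theorem L38031 : sm gb N3877 = N6037 := rfl
theorem L38032 : sm gb N6037 = N3877 := flp_b L38031
theorem L38033 : sm gd N3877 = N6038 := rfl
theorem L38034 : sm gd N6038 = N3877 := flp_d L38033
theorem L38040 : sm ge N3877 = N6039 := rfl
theorem L38042 : sm gc N6039 = N3878 := ded_19_1 L27435 L27431 L38040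
theorem L38043 : sm gc N3878 = N6039 := flp_c L38042
theorem L38045 : sm gg N3877 = N6040 := rfl
theorem L38046 : sm gg N6040 = N3877 := flp_g L38045
theorem L38049 : sm gg N3878 = N6041 := rfl
theorem L38050 : sm gg N6041 = N3878 := flp_g L38049
theorem L38057 : sm ga N3880 = N6043 := rfl
theorem L38059 : sm gc N6043 = N5948 := ded_8_2 L37631 L27444 L38057
theorem L38061 : sm gf N3880 = N6044 := rfl
theorem L38062 : sm gf N6044 = N3880 := flp_f L38061
theorem L38082 : sm gb N3884 = N6048 := rfl
theorem L38083 : sm gb N6048 = N3884 := flp_b L38082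
theorem L38084 : sm gd N6048 = N4987 := ded_14_2 L33239 L27477 L38082
theorem L38085 : sm gd N4987 = N6048 := flp_d L38084
theorem L38086 : sm gf N6048 = N3886 := ded_16_2 L27485 L21858 L21851 L27472 L38082
theorem L38087 : sm gf N3886 = N6048 := flp_f L38086
theorem L38088 : sm gg N3884 = N6049 := rfl
theorem L38090 : sm gc N6049 = N3894 := ded_21_1 L27538 L27475 L38088
theorem L38092 : sm gd N6049 = N4988 := ded_24_1 L33245 L27477 L38088
theorem L38093 : sm gd N4988 = N6049 := flp_d L38092
theorem L38098 : sm gb N3885 = N6050 := rfl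
theorem L38102 : sm gg N6050 = N3888 := ded_17_2 L27497 L21862 L21851 L27478 L38098
theorem L38104 : sm gf N3885 = N6051 := rfl
theorem L38114 : sm gg N6051 = N4100 := ded_29_3 L28631 L27473 L27478 L38104
theorem L38116 : sm ga N3886 = N6052 := rfl
theorem L38117 : sm ga N6052 = N3886 := flp_a L38116
theorem L38118 : sm gd N6052 = N5341 := ded_9_2 L34841 L27487 L38116
theorem L38119 : sm gd N5341 = N6052 := flp_d L38118
theorem L38120 : sm gg N3886 = N6053 := rfl
theorem L38121 : sm gg N6053 = N3886 := flp_g L38120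
theorem L38122 : sm gd N6053 = N5343 := ded_24_1 L34851 L27487 L38120
theorem L38123 : sm gd N5343 = N6053 := flp_d L38122
theorem L38124 : sm gb N3887 = N6054 := rfl
theorem L38125 : sm gb N6054 = N3887 := flp_b L38124
theorem L38126 : sm gd N6054 = N5344 := ded_14_2 L34855 L27493 L38124
theorem L38128 : sm ga N3888 = N6055 := rfl
theorem L38129 : sm ga N6055 = N3888 := flp_a L38128
theorem L38130 : sm gd N6055 = N5345 := ded_9_2 L34859 L27499 L38128
theorem L38132 : sm gc N3888 = N6056 := rfl
theorem L38133 : sm gc N6056 = N3888 := flp_c L38132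
theorem L38134 : sm gb N6056 = N3891 := ded_13_1 L27522 L21870 L21864 L27496 L38132
theorem L38135 : sm gb N3891 = N6056 := flp_b L38134
theorem L38136 : sm gf N3888 = N6057 := rfl
theorem L38137 : sm gf N6057 = N3888 := flp_f L38136
theorem L38140 : sm gb N3889 = N6058 := rfl
theorem L38141 : sm gb N6058 = N3889 := flp_b L38140
theorem L38144 : sm gc N6058 = N5940 := ded_13_2 L37597 L27191 L27082 L27505 L38140
theorem L38145 : sm gc N5940 = N6058 := flp_c L38144
theorem L38156 : sm gd N3891 = N6060 := rfl
theorem L38158 : sm gg N6060 = N3901 := ded_24_2 L27578 L27524 L38156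
theorem L38160 : sm gb N3892 = N6061 := rfl
theorem L38161 : sm gb N6061 = N3892 := flp_b L38160
theorem L38162 : sm gd N6061 = N4311 := ded_14_2 L29683 L27530 L38160
theorem L38163 : sm gd N4311 = N6061 := flp_d L38162
theorem L38164 : sm gf N6061 = N4311 := ded_16_2 L29683 L23156 L21884 L27525 L38160
theorem L38165 : sm gf N4311 = N6061 := flp_f L38164
theorem L38166 : sm gb N3893 = N6062 := rfl
theorem L38167 : sm gb N6062 = N3893 := flp_b L38166
theorem L38172 : sm gb N3894 = N6063 := rfl
theorem L38173 : sm gb N6063 = N3894 := flp_b L38172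
theorem L38174 : sm gd N6063 = N4320 := ded_14_2 L29721 L27540 L38172
theorem L38176 : sm ga N3895 = N6064 := rfl
theorem L38177 : sm ga N6064 = N3895 := flp_a L38176
theorem L38178 : sm gd N6064 = N4321 := ded_9_2 L29723 L27546 L38176
theorem L38180 : sm gg N6064 = N3897 := ded_12_2 L27558 L27548 L38176
theorem L38181 : sm gg N3897 = N6064 := flp_g L38180
theorem L38182 : sm gc N3895 = N6065 := rfl
theorem L38183 : sm gc N6065 = N3895 := flp_c L38182
theorem L38184 : sm gg N6065 = N3898 := ded_21_2 L27562 L27548 L38182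
theorem L38185 : sm gg N3898 = N6065 := flp_g L38184
theorem L38186 : sm gf N3895 = N6066 := rfl
theorem L38190 : sm gb N3896 = N6067 := rfl
theorem L38191 : sm gb N6067 = N3896 := flp_b L38190
theorem L38192 : sm gd N6067 = N4324 := ded_14_2 L29733 L27554 L38190
theorem L38193 : sm gd N4324 = N6067 := flp_d L38192
theorem L38194 : sm gb N3897 = N6068 := rfl
theorem L38195 : sm gb N6068 = N3897 := flp_b L38194
theorem L38198 : sm gc N3897 = N6069 := rfl
theorem L38199 : sm gc N6069 = N3897 := flp_c L38198
theorem L38200 : sm ga N6069 = N3898 := ded_8_1 L27562 L27557 L38198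
theorem L38201 : sm ga N3898 = N6069 := flp_a L38200
theorem L38202 : sm gf N3897 = N6070 := rfl
theorem L38203 : sm gf N6070 = N3897 := flp_f L38202
theorem L38204 : sm ga N6070 = N3899 := ded_11_1 L27566 L27557 L38202
theorem L38205 : sm ga N3899 = N6070 := flp_a L38204
theorem L38208 : sm gg N6066 = N6070 := ded_29_1 L38203 L38181 L38177 L38186
theorem L38210 : sm gd N3898 = N6071 := rfl
theorem L38212 : sm gb N6071 = N3901 := ded_14_1 L27578 L27564 L38210
theorem L38213 : sm gb N3901 = N6071 := flp_b L38212
theorem L38214 : sm gf N3898 = N6072 := rfl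
theorem L38215 : sm gf N6072 = N3898 := flp_f L38214
theorem L38216 : sm gc N6072 = N3899 := ded_20_1 L27566 L27561 L38214
theorem L38218 : sm gg N3899 = N6073 := rfl
theorem L38219 : sm gg N6073 = N3899 := flp_g L38218
theorem L38220 : sm ga N6073 = N6066 := ded_12_1 L38208 L38204 L38218
theorem L38222 : sm gd N6073 = N4336 := ded_24_1 L29781 L27568 L38218
theorem L38224 : sm gf N6064 = N6073 := ded_29_0 L38219 L27566 L27548 L38176
theorem L38234 : sm gc N3901 = N6076 := rfl
theorem L38235 : sm gc N6076 = N3901 := flp_c L38234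
theorem L38238 : sm gf N3901 = N6078 := rfl
theorem L38239 : sm gf N6078 = N3901 := flp_f L38238
theorem L38242 : sm gd N6078 = N3902 := ded_23_1 L27580 L27577 L38238
theorem L38243 : sm gd N3902 = N6078 := flp_d L38242
theorem L38244 : sm gb N3902 = N6079 := rfl
theorem L38245 : sm gb N6079 = N3902 := flp_b L38244
theorem L38246 : sm gc N6079 = N6003 := ded_13_2 L37883 L27345 L21904 L27584 L38244
theorem L38248 : sm gb N3903 = N6080 := rfl
theorem L38249 : sm gb N6080 = N3903 := flp_b L38248
theorem L38250 : sm gd N6080 = N4363 := ded_14_2 L29893 L27588 L38248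
theorem L38251 : sm gd N4363 = N6080 := flp_d L38250
theorem L38252 : sm gg N4388 = N6080 := ded_24_0 L38250 L37831 L36234
theorem L38253 : sm gg N6080 = N4388 := flp_g L38252
theorem L38258 : sm gg N3903 = N6082 := rfl
theorem L38260 : sm ga N6082 = N3905 := ded_12_1 L27594 L27585 L38258
theorem L38261 : sm ga N3905 = N6082 := flp_a L38260
theorem L38262 : sm gd N6082 = N4365 := ded_24_1 L29899 L27588 L38258
theorem L38264 : sm gf N6082 = N3952 := ded_29_2 L27830 L27821 L27823 L38258
theorem L38266 : sm gb N6082 = N4352 := ded_17_1 L29845 L29991 L38252 L38249 L38258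
theorem L38268 : sm gd N3904 = N6083 := rfl
theorem L38269 : sm gd N6083 = N3904 := flp_d L38268
theorem L38270 : sm gb N6083 = N3908 := ded_14_1 L27616 L27592 L38268
theorem L38271 : sm gb N3908 = N6083 := flp_b L38270
theorem L38272 : sm gg N3904 = N6084 := rfl
theorem L38273 : sm gg N6084 = N3904 := flp_g L38272
theorem L38276 : sm gf N3905 = N6085 := rfl
theorem L38277 : sm gf N6085 = N3905 := flp_f L38276
theorem L38284 : sm gb N3906 = N6086 := rfl
theorem L38285 : sm gb N6086 = N3906 := flp_b L38284
theorem L38286 : sm gd N3906 = N6087 := rfl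
theorem L38287 : sm gd N6087 = N3906 := flp_d L38286
theorem L38288 : sm ga N6087 = N3908 := ded_9_1 L27616 L27602 L38286
theorem L38289 : sm ga N3908 = N6087 := flp_a L38288
theorem L38290 : sm gg N3906 = N6088 := rfl
theorem L38291 : sm gg N6088 = N3906 := flp_g L38290
theorem L38298 : sm gf N4058 = N6088 := ded_29_0 L38291 L28415 L37973 L37968
theorem L38299 : sm gf N6088 = N4058 := flp_f L38298
theorem L38300 : sm gc N3908 = N6089 := rfl
theorem L38301 : sm gc N6089 = N3908 := flp_c L38300
theorem L38302 : sm ge N3908 = N6090 := rfl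
theorem L38303 : sm ge N6090 = N3908 := flp_e L38302
theorem L38304 : sm gg N3908 = N6091 := rfl
theorem L38305 : sm gg N6091 = N3908 := flp_g L38304
theorem L38306 : sm gd N6091 = N3909 := ded_24_1 L27618 L27615 L38304
theorem L38307 : sm gd N3909 = N6091 := flp_d L38306
theorem L38308 : sm gb N3909 = N6092 := rfl
theorem L38309 : sm gb N6092 = N3909 := flp_b L38308
theorem L38312 : sm gb N3910 = N6093 := rfl
theorem L38313 : sm gb N6093 = N3910 := flp_b L38312
theorem L38314 : sm gd N6093 = N3912 := ded_14_2 L27638 L27628 L38312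
theorem L38315 : sm gd N3912 = N6093 := flp_d L38314
theorem L38318 : sm gb N3911 = N6094 := rfl
theorem L38319 : sm gb N6094 = N3911 := flp_b L38318
theorem L38320 : sm gd N6094 = N3913 := ded_14_2 L27644 L27636 L38318
theorem L38324 : sm ga N3912 = N6095 := rfl
theorem L38325 : sm ga N6095 = N3912 := flp_a L38324
theorem L38326 : sm ge N6095 = N3936 := ded_10_2 L27782 L27640 L38324
theorem L38327 : sm ge N3936 = N6095 := flp_e L38326
theorem L38328 : sm gf N6095 = N5871 := ded_11_2 L37314 L27642 L38324
theorem L38338 : sm gg N3912 = N6097 := rfl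
theorem L38339 : sm gg N6097 = N3912 := flp_g L38338
theorem L38340 : sm ge N6097 = N3938 := ded_26_1 L27786 L27640 L38338
theorem L38341 : sm ge N3938 = N6097 := flp_e L38340
theorem L38342 : sm ga N3913 = N6098 := rfl
theorem L38344 : sm ge N6098 = N3939 := ded_10_2 L27788 L27646 L38342
theorem L38345 : sm ge N3939 = N6098 := flp_e L38344
theorem L38360 : sm gb N3914 = N6101 := rfl
theorem L38361 : sm gb N6101 = N3914 := flp_b L38360
theorem L38362 : sm gd N6101 = N4959 := ded_14_2 L33109 L27656 L38360
theorem L38363 : sm gd N4959 = N6101 := flp_d L38362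
theorem L38364 : sm gf N6101 = N4269 := ded_16_2 L29461 L23024 L21948 L27649 L38360
theorem L38366 : sm gb N3915 = N6102 := rfl
theorem L38367 : sm gb N6102 = N3915 := flp_b L38366
theorem L38368 : sm gd N6102 = N4960 := ded_14_2 L33111 L27664 L38366
theorem L38369 : sm gd N4960 = N6102 := flp_d L38368
theorem L38372 : sm gg N6102 = N4270 := ded_17_2 L29465 L23032 L21948 L27657 L38366
theorem L38373 : sm gg N4270 = N6102 := flp_g L38372
theorem L38374 : sm ga N3916 = N6103 := rfl
theorem L38375 : sm ga N6103 = N3916 := flp_a L38374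
theorem L38376 : sm gd N6103 = N3919 := ded_9_2 L27686 L27668 L38374
theorem L38377 : sm gd N3919 = N6103 := flp_d L38376
theorem L38378 : sm gf N6103 = N3924 := ded_11_2 L27714 L27670 L38374
theorem L38379 : sm gf N3924 = N6103 := flp_f L38378
theorem L38384 : sm gg N3916 = N6105 := rfl
theorem L38386 : sm gd N6105 = N3921 := ded_24_1 L27700 L27668 L38384
theorem L38387 : sm gd N3921 = N6105 := flp_d L38386
theorem L38388 : sm gb N3917 = N6106 := rfl
theorem L38389 : sm gb N6106 = N3917 := flp_b L38388
theorem L38392 : sm gb N3918 = N6107 := rfl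
theorem L38393 : sm gb N6107 = N3918 := flp_b L38392
theorem L38394 : sm gd N6107 = N3923 := ded_14_2 L27708 L27682 L38392
theorem L38395 : sm gd N3923 = N6107 := flp_d L38394
theorem L38396 : sm gf N6107 = N3998 := ded_16_2 L28046 L22176 L21968 L27677 L38392
theorem L38397 : sm gf N3998 = N6107 := flp_f L38396
theorem L38398 : sm gb N3919 = N6108 := rfl
theorem L38399 : sm gb N6108 = N3919 := flp_b L38398
theorem L38400 : sm ge N6108 = N3942 := ded_15_2 L27794 L27688 L38398
theorem L38401 : sm ge N3942 = N6108 := flp_e L38400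
theorem L38402 : sm gc N3919 = N6109 := rfl
theorem L38403 : sm gc N6109 = N3919 := flp_c L38402
theorem L38404 : sm ga N6109 = N3920 := ded_8_1 L27692 L27685 L38402
theorem L38405 : sm ga N3920 = N6109 := flp_a L38404
theorem L38406 : sm ge N6109 = N3943 := ded_19_2 L27796 L27688 L38402
theorem L38407 : sm ge N3943 = N6109 := flp_e L38406
theorem L38408 : sm gf N6109 = N3928 := ded_20_2 L27732 L27690 L38402
theorem L38409 : sm gf N3928 = N6109 := flp_f L38408
theorem L38410 : sm gd N3920 = N6110 := rfl
theorem L38411 : sm gd N6110 = N3920 := flp_d L38410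
theorem L38414 : sm gf N6110 = N3930 := ded_23_2 L27746 L27696 L38410
theorem L38416 : sm gg N3920 = N6111 := rfl
theorem L38417 : sm gg N6111 = N3920 := flp_g L38416
theorem L38422 : sm gb N3921 = N6112 := rfl
theorem L38423 : sm gb N6112 = N3921 := flp_b L38422
theorem L38426 : sm gg N6112 = N3922 := ded_17_2 L27704 L21976 L21969 L27699 L38422
theorem L38427 : sm gg N3922 = N6112 := flp_g L38426
theorem L38428 : sm ga N3922 = N6113 := rfl
theorem L38429 : sm ga N6113 = N3922 := flp_a L38428
theorem L38438 : sm gf N3922 = N6115 := rfl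
theorem L38439 : sm gf N6115 = N3922 := flp_f L38438
theorem L38440 : sm ge N6115 = N3949 := ded_25_1 L27818 L27706 L38438
theorem L38444 : sm ga N3923 = N6116 := rfl
theorem L38445 : sm ga N6116 = N3923 := flp_a L38444
theorem L38446 : sm ge N6116 = N3950 := ded_10_2 L27822 L27710 L38444
theorem L38447 : sm ge N3950 = N6116 := flp_e L38446
theorem L38448 : sm gf N6116 = N4004 := ded_11_2 L28076 L27712 L38444
theorem L38458 : sm gg N3923 = N6118 := rfl
theorem L38459 : sm gg N6118 = N3923 := flp_g L38458
theorem L38460 : sm ge N6118 = N3952 := ded_26_1 L27830 L27710 L38458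
theorem L38461 : sm ge N3952 = N6118 := flp_e L38460
theorem L38462 : sm gb N6118 = N6097 := ded_17_1 L38339 L27638 L21992 L27707 L38458
theorem L38463 : sm gb N6097 = N6118 := flp_b L38462
theorem L38464 : sm gb N3924 = N6119 := rfl
theorem L38465 : sm gb N6119 = N3924 := flp_b L38464
theorem L38466 : sm gd N6119 = N3927 := ded_14_2 L27728 L27716 L38464
theorem L38467 : sm gd N3927 = N6119 := flp_d L38466
theorem L38468 : sm gc N3924 = N6120 := rfl
theorem L38469 : sm gc N6120 = N3924 := flp_c L38468
theorem L38470 : sm ga N6120 = N3925 := ded_8_1 L27718 L27713 L38468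
theorem L38471 : sm ga N3925 = N6120 := flp_a L38470
theorem L38480 : sm gd N3925 = N6122 := rfl
theorem L38481 : sm gd N6122 = N3925 := flp_d L38480
theorem L38484 : sm gg N3925 = N6123 := rfl
theorem L38485 : sm gg N6123 = N3925 := flp_g L38484
theorem L38486 : sm gc N6123 = N3926 := ded_21_1 L27722 L27717 L38484
theorem L38487 : sm gc N3926 = N6123 := flp_c L38486
theorem L38488 : sm gf N3926 = N6124 := rfl
theorem L38489 : sm gf N6124 = N3926 := flp_f L38488
theorem L38492 : sm gd N6124 = N3932 := ded_23_1 L27756 L27724 L38488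
theorem L38494 : sm gg N6124 = N6103 := ded_29_3 L38375 L27669 L27721 L38488
theorem L38495 : sm gg N6103 = N6124 := flp_g L38494
theorem L38496 : sm ga N3927 = N6125 := rfl
theorem L38497 : sm ga N6125 = N3927 := flp_a L38496
theorem L38498 : sm ge N6125 = N3953 := ded_10_2 L27834 L27730 L38496
theorem L38499 : sm ge N3953 = N6125 := flp_e L38498
theorem L38500 : sm gc N3927 = N6126 := rfl
theorem L38501 : sm gc N6126 = N3927 := flp_c L38500
theorem L38502 : sm ge N6126 = N3954 := ded_19_2 L27836 L27730 L38500
theorem L38503 : sm ge N3954 = N6126 := flp_e L38502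
theorem L38504 : sm gf N3927 = N6127 := rfl
theorem L38505 : sm gf N6127 = N3927 := flp_f L38504
theorem L38506 : sm ge N6127 = N3955 := ded_25_1 L27838 L27730 L38504
theorem L38507 : sm ge N3955 = N6127 := flp_e L38506
theorem L38508 : sm gg N3927 = N6128 := rfl
theorem L38509 : sm gg N6128 = N3927 := flp_g L38508
theorem L38510 : sm ge N6128 = N3956 := ded_26_1 L27840 L27730 L38508
theorem L38511 : sm ge N3956 = N6128 := flp_e L38510
theorem L38512 : sm gb N3928 = N6129 := rfl
theorem L38513 : sm gb N6129 = N3928 := flp_b L38512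
theorem L38514 : sm ge N6129 = N3957 := ded_15_2 L27842 L27736 L38512
theorem L38515 : sm ge N3957 = N6129 := flp_e L38514
theorem L38516 : sm gd N3928 = N6130 := rfl
theorem L38517 : sm gd N6130 = N3928 := flp_d L38516
theorem L38518 : sm ga N6130 = N3930 := ded_9_1 L27746 L27734 L38516
theorem L38519 : sm ga N3930 = N6130 := flp_a L38518
theorem L38520 : sm gg N3928 = N6131 := rfl
theorem L38521 : sm gg N6131 = N3928 := flp_g L38520
theorem L38522 : sm ga N6131 = N3931 := ded_12_1 L27750 L27734 L38520
theorem L38524 : sm gc N6131 = N3929 := ded_21_1 L27738 L27731 L38520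
theorem L38526 : sm ge N6131 = N3959 := ded_26_1 L27848 L27736 L38520
theorem L38527 : sm ge N3959 = N6131 := flp_e L38526
theorem L38528 : sm gf N6131 = N6111 := ded_29_2 L38417 L38405 L38408 L38520
theorem L38529 : sm gf N6111 = N6131 := flp_f L38528
theorem L38530 : sm gb N3929 = N6132 := rfl
theorem L38531 : sm gb N6132 = N3929 := flp_b L38530
theorem L38532 : sm ge N6132 = N3960 := ded_15_2 L27856 L27742 L38530
theorem L38534 : sm gc N3930 = N6133 := rfl
theorem L38535 : sm gc N6133 = N3930 := flp_c L38534
theorem L38536 : sm ge N3930 = N6134 := rfl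
theorem L38537 : sm ge N6134 = N3930 := flp_e L38536
theorem L38538 : sm gb N6134 = N3933 := ded_15_1 L27764 L27748 L38536
theorem L38539 : sm gb N3933 = N6134 := flp_b L38538
theorem L38540 : sm gd N6134 = N3962 := ded_22_1 L27860 L22058 L22004 L27745 L38536
theorem L38541 : sm gd N3962 = N6134 := flp_d L38540
theorem L38542 : sm gg N3930 = N6135 := rfl
theorem L38543 : sm gg N6135 = N3930 := flp_g L38542
theorem L38546 : sm gf N3931 = N6136 := rfl
theorem L38548 : sm ga N6136 = N6111 := ded_11_1 L38529 L38522 L38546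
theorem L38549 : sm ga N6111 = N6136 := flp_a L38548
theorem L38550 : sm gc N6136 = N3932 := ded_20_1 L27756 L27752 L38546
theorem L38551 : sm gc N3932 = N6136 := flp_c L38550
theorem L38554 : sm gg N6136 = N6109 := ded_29_3 L38404 L27695 L27749 L38546
theorem L38556 : sm gb N3932 = N6137 := rfl
theorem L38557 : sm gb N6137 = N3932 := flp_b L38556
theorem L38558 : sm ge N6137 = N3966 := ded_15_2 L27882 L27760 L38556
theorem L38559 : sm ge N3966 = N6137 := flp_e L38558
theorem L38560 : sm gf N6137 = N4305 := ded_16_2 L29659 L23134 L22012 L27755 L38556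
theorem L38561 : sm gf N4305 = N6137 := flp_f L38560
theorem L38562 : sm ga N3934 = N6138 := rfl
theorem L38563 : sm ga N6138 = N3934 := flp_a L38562
theorem L38564 : sm gd N6138 = N4156 := ded_9_2 L30081 L30048 L38562
theorem L38566 : sm ge N6138 = N5871 := ded_10_2 L37314 L27772 L38562
theorem L38567 : sm ge N5871 = N6138 := flp_e L38566
theorem L38568 : sm gf N6138 = N3936 := ded_11_2 L27782 L27774 L38562
theorem L38569 : sm gf N3936 = N6138 := flp_f L38568
theorem L38570 : sm gg N4350 = N6138 := ded_29_3 L38563 L27773 L27785 L37834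
theorem L38571 : sm gg N6138 = N4350 := flp_g L38570
theorem L38572 : sm gb N4328 = N6138 := ded_14_3 L38564 L28958 L29750
theorem L38573 : sm gb N6138 = N4328 := flp_b L38572
theorem L38574 : sm gc N3934 = N6139 := rfl
theorem L38575 : sm gc N6139 = N3934 := flp_c L38574
theorem L38580 : sm gb N6139 = N4878 := ded_13_1 L32673 L24758 L24262 L27769 L38574
theorem L38581 : sm gb N4878 = N6139 := flp_b L38580
theorem L38582 : sm gg N3934 = N6140 := rfl
theorem L38584 : sm ga N6140 = N4350 := ded_12_1 L38570 L38563 L38582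
theorem L38585 : sm ga N4350 = N6140 := flp_a L38584
theorem L38586 : sm ge N6140 = N5873 := ded_26_1 L37320 L27772 L38582
theorem L38587 : sm ge N5873 = N6140 := flp_e L38586
theorem L38588 : sm ga N3935 = N6141 := rfl
theorem L38589 : sm ga N6141 = N3935 := flp_a L38588
theorem L38590 : sm ge N6141 = N5874 := ded_10_2 L37322 L27778 L38588
theorem L38592 : sm gg N6141 = N3939 := ded_12_2 L27788 L27780 L38588
theorem L38593 : sm gg N3939 = N6141 := flp_g L38592
theorem L38602 : sm gf N3935 = N6143 := rfl
theorem L38603 : sm gf N6143 = N3935 := flp_f L38602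
theorem L38606 : sm gb N3936 = N6144 := rfl
theorem L38607 : sm gb N6144 = N3936 := flp_b L38606
theorem L38608 : sm gc N3936 = N6145 := rfl
theorem L38609 : sm gc N6145 = N3936 := flp_c L38608
theorem L38610 : sm ga N6145 = N3937 := ded_8_1 L27784 L27781 L38608
theorem L38611 : sm ga N3937 = N6145 := flp_a L38610
theorem L38612 : sm gg N3936 = N6146 := rfl
theorem L38613 : sm gg N6146 = N3936 := flp_g L38612
theorem L38616 : sm gf N6140 = N6146 := ded_29_0 L38613 L38569 L38571 L38585
theorem L38618 : sm gd N3937 = N6147 := rfl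
theorem L38619 : sm gd N6147 = N3937 := flp_d L38618
theorem L38620 : sm gg N3937 = N6148 := rfl
theorem L38621 : sm gg N6148 = N3937 := flp_g L38620
theorem L38622 : sm gc N6148 = N3938 := ded_21_1 L27786 L27783 L38620
theorem L38624 : sm gb N3939 = N6149 := rfl
theorem L38625 : sm gb N6149 = N3939 := flp_b L38624
theorem L38626 : sm ga N6149 = N6068 := ded_7_1 L38195 L27558 L21894 L19160 L17687 L19233 L22027 L27787 L38624
theorem L38627 : sm ga N6068 = N6149 := flp_a L38626
theorem L38628 : sm gc N3939 = N6150 := rfl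
theorem L38629 : sm gc N6150 = N3939 := flp_c L38628
theorem L38632 : sm gf N3939 = N6151 := rfl
theorem L38633 : sm gf N6151 = N3939 := flp_f L38632
theorem L38634 : sm ga N6151 = N3941 := ded_11_1 L27792 L27787 L38632
theorem L38635 : sm ga N3941 = N6151 := flp_a L38634
theorem L38636 : sm gg N6143 = N6151 := ded_29_1 L38633 L38593 L38589 L38602
theorem L38637 : sm gg N6151 = N6143 := flp_g L38636
theorem L38644 : sm gg N3941 = N6154 := rfl
theorem L38645 : sm gg N6154 = N3941 := flp_g L38644
theorem L38648 : sm gf N6141 = N6154 := ded_29_0 L38645 L27792 L27780 L38588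
theorem L38649 : sm gf N6154 = N6141 := flp_f L38648
theorem L38650 : sm gg N3942 = N6155 := rfl
theorem L38651 : sm gg N6155 = N3942 := flp_g L38650
theorem L38652 : sm ga N6155 = N4324 := ded_12_1 L37838 L29714 L38650
theorem L38653 : sm ga N4324 = N6155 := flp_a L38652
theorem L38654 : sm gc N6155 = N4330 := ded_21_1 L29760 L29710 L38650
theorem L38655 : sm gc N4330 = N6155 := flp_c L38654
theorem L38656 : sm gf N6155 = N4329 := ded_29_2 L29753 L29739 L29740 L38650
theorem L38657 : sm gf N4329 = N6155 := flp_f L38656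
theorem L38658 : sm gb N3943 = N6156 := rfl
theorem L38659 : sm gb N6156 = N3943 := flp_b L38658
theorem L38660 : sm gd N3943 = N6157 := rfl
theorem L38661 : sm gd N6157 = N3943 := flp_d L38660
theorem L38662 : sm ga N6157 = N3944 := ded_9_1 L27802 L27798 L38660
theorem L38663 : sm ga N3944 = N6157 := flp_a L38662
theorem L38664 : sm gf N6157 = N3958 := ded_23_2 L27844 L27800 L38660
theorem L38666 : sm gc N3944 = N6158 := rfl
theorem L38668 : sm gf N6158 = N3961 := ded_20_2 L27858 L27804 L38666
theorem L38670 : sm ge N3944 = N6159 := rfl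
theorem L38671 : sm ge N6159 = N3944 := flp_e L38670
theorem L38672 : sm gf N6159 = N3962 := ded_25_2 L27860 L27804 L38670
theorem L38673 : sm gf N3962 = N6159 := flp_f L38672
theorem L38674 : sm gg N3944 = N6160 := rfl
theorem L38675 : sm gg N6160 = N3944 := flp_g L38674
theorem L38680 : sm ga N3946 = N6162 := rfl
theorem L38681 : sm ga N6162 = N3946 := flp_a L38680
theorem L38682 : sm gg N6162 = N3947 := ded_12_2 L27814 L27812 L38680
theorem L38683 : sm gg N3947 = N6162 := flp_g L38682
theorem L38688 : sm gf N3946 = N6164 := rfl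
theorem L38689 : sm gf N6164 = N3946 := flp_f L38688
theorem L38690 : sm gb N3947 = N6165 := rfl
theorem L38691 : sm gb N6165 = N3947 := flp_b L38690
theorem L38692 : sm gc N3947 = N6166 := rfl
theorem L38696 : sm gf N3947 = N6167 := rfl
theorem L38697 : sm gf N6167 = N3947 := flp_f L38696
theorem L38698 : sm ga N6167 = N3949 := ded_11_1 L27818 L27813 L38696
theorem L38700 : sm gg N6164 = N6167 := ded_29_1 L38697 L38683 L38681 L38688
theorem L38701 : sm gg N6167 = N6164 := flp_g L38700
theorem L38702 : sm gb N4368 = N6167 := ded_31_14 L38701 L38689 L27810 L22038 L19236 L7507 L3594 L2258 L2255 L4641 L9413 L19826 L23259 L29910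
theorem L38703 : sm gb N6167 = N4368 := flp_b L38702
theorem L38704 : N6165 = N4330 := coi_16_4 L29757 L23262 L29910 L38702 L38697 L38690
theorem L38705 : N6165 = N4330 := eqc rfl L38704 rfl
theorem L38706 : sm gb N4330 = N3947 := trf L38705 L38691 rfl
theorem L38707 : sm gb N3947 = N4330 := flp_b L38706
theorem L38708 : sm gb N4412 = N5991 := ded_14_3 L37808 L38706 L30129
theorem L38709 : sm gb N5991 = N4412 := flp_b L38708
theorem L38722 : sm gb N3950 = N6171 := rfl
theorem L38723 : sm gb N6171 = N3950 := flp_b L38722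
theorem L38738 : sm gc N3953 = N6175 := rfl
theorem L38739 : sm gc N6175 = N3953 := flp_c L38738
theorem L38740 : sm ga N6175 = N3954 := ded_8_1 L27836 L27833 L38738
theorem L38741 : sm ga N3954 = N6175 := flp_a L38740
theorem L38742 : sm gf N3953 = N6176 := rfl
theorem L38743 : sm gf N6176 = N3953 := flp_f L38742
theorem L38744 : sm ga N6176 = N3955 := ded_11_1 L27838 L27833 L38742
theorem L38745 : sm ga N3955 = N6176 := flp_a L38744
theorem L38746 : sm gb N6175 = N4136 := ded_30_2 L28830 L28733 L28729 L22618 L22587 L22585 L19493 L19698 L22143 L23171 L23175 L23187 L29706 L29708 L29736 L29743 L38745 L38743 L38738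
theorem L38747 : sm gb N4136 = N6175 := flp_b L38746
theorem L38748 : sm ge N4218 = N6175 := ded_15_0 L38746 L28832 L29224
theorem L38749 : sm ge N6175 = N4218 := flp_e L38748
theorem L38750 : sm gc N4135 = N4415 := ded_13_4 L30144 L38738 L38746 L28829 L28824
theorem L38751 : sm gc N4415 = N4135 := flp_c L38750
theorem L38752 : sm ga N6126 = N4218 := ded_10_3 L38748 L38740 L38503
theorem L38753 : sm ga N4218 = N6126 := flp_a L38752
theorem L38754 : sm gc N6125 = N4218 := ded_19_3 L38748 L38739 L38499
theorem L38755 : sm gc N4218 = N6125 := flp_c L38754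
theorem L38756 : sm ga N4416 = N4135 := ded_8_3 L38750 L30141 L30146
theorem L38757 : sm ga N4135 = N4416 := flp_a L38756
theorem L38758 : sm ge N4415 = N4215 := ded_19_2 L29219 L28827 L38750
theorem L38759 : sm ge N4215 = N4415 := flp_e L38758
theorem L38760 : sm gb N4215 = N6125 := ded_13_5 L38754 L29225 L22858 L22855 L29218
theorem L38761 : sm gb N6125 = N4215 := flp_b L38760
theorem L38762 : sm ge N4214 = N4416 := ded_10_0 L38756 L28826 L29216
theorem L38764 : sm ga N4215 = N4030 := ded_10_1 L28229 L30140 L38758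
theorem L38765 : sm ga N4030 = N4215 := flp_a L38764
theorem L38766 : sm gc N4030 = N4214 := ded_19_3 L38762 L30147 L28230
theorem L38767 : sm gc N4214 = N4030 := flp_c L38766
theorem L38768 : sm gg N3953 = N6177 := rfl
theorem L38770 : sm ga N6177 = N3956 := ded_12_1 L27840 L27833 L38768
theorem L38771 : sm ga N3956 = N6177 := flp_a L38770
theorem L38772 : sm gb N3954 = N6178 := rfl
theorem L38773 : sm gb N6178 = N3954 := flp_b L38772
theorem L38774 : sm gc N6178 = N3957 := ded_13_2 L27842 L22048 L22045 L27835 L38772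
theorem L38775 : sm gc N3957 = N6178 := flp_c L38774
theorem L38776 : sm ga N6178 = N5935 := ded_7_1 L37574 L30355 L23468 L19936 L22696 L28831 L38747 L38740 L38772
theorem L38777 : sm ga N5935 = N6178 := flp_a L38776
theorem L38778 : sm gf N5933 = N6178 := ded_30_0 L38774 L27842 L22049 L22036 L22034 L19235 L19229 L19227 L19185 L24241 L19058 L19070 L19072 L19078 L21694 L21696 L21720 L27181 L37566
theorem L38779 : sm gf N6178 = N5933 := flp_f L38778
theorem L38780 : sm gd N3954 = N6179 := rfl
theorem L38781 : sm gd N6179 = N3954 := flp_d L38780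
theorem L38782 : sm gf N3954 = N6180 := rfl
theorem L38783 : sm gf N6180 = N3954 := flp_f L38782
theorem L38784 : sm gc N6180 = N3955 := ded_20_1 L27838 L27835 L38782
theorem L38785 : sm gc N3955 = N6180 := flp_c L38784
theorem L38786 : sm gg N3954 = N6181 := rfl
theorem L38787 : sm gg N6181 = N3954 := flp_g L38786
theorem L38788 : sm gc N6181 = N3956 := ded_21_1 L27840 L27835 L38786
theorem L38789 : sm gc N3956 = N6181 := flp_c L38788
theorem L38790 : sm gg N3955 = N6182 := rfl
theorem L38791 : sm gg N6182 = N3955 := flp_g L38790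
theorem L38792 : sm gf N6177 = N6182 := ded_29_0 L38791 L27838 L27839 L38771
theorem L38793 : sm gf N6182 = N6177 := flp_f L38792
theorem L38794 : sm gb N3956 = N6183 := rfl
theorem L38795 : sm gb N6183 = N3956 := flp_b L38794
theorem L38798 : sm gf N3956 = N6184 := rfl
theorem L38799 : sm gf N6184 = N3956 := flp_f L38798
theorem L38800 : sm ga N6184 = N6182 := ded_11_1 L38793 L38770 L38798
theorem L38801 : sm ga N6182 = N6184 := flp_a L38800
theorem L38802 : sm gg N6184 = N6176 := ded_29_3 L38744 L27838 L27839 L38798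
theorem L38803 : sm gg N6176 = N6184 := flp_g L38802
theorem L38804 : sm ga N3957 = N6185 := rfl
theorem L38805 : sm ga N6185 = N3957 := flp_a L38804
theorem L38806 : sm gc N6185 = N5935 := ded_8_2 L38777 L38774 L38804
theorem L38807 : sm gc N5935 = N6185 := flp_c L38806
theorem L38808 : sm gf N6185 = N5930 := ded_30_4 L37552 L27182 L21722 L21701 L21699 L19079 L19063 L19061 L19056 L24242 L19183 L19192 L19194 L19234 L22029 L22031 L22047 L27841 L38804
theorem L38809 : sm gf N5930 = N6185 := flp_f L38808
theorem L38810 : sm gd N3957 = N6186 := rfl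
theorem L38811 : sm gd N6186 = N3957 := flp_d L38810
theorem L38812 : sm gb N6186 = N3958 := ded_14_1 L27844 L27841 L38810
theorem L38813 : sm gb N3958 = N6186 := flp_b L38812
theorem L38814 : sm gf N3957 = N6187 := rfl
theorem L38815 : sm gf N6187 = N3957 := flp_f L38814
theorem L38816 : sm ga N6187 = N5930 := ded_11_1 L38809 L38805 L38814
theorem L38818 : sm gc N6187 = N5933 := ded_20_1 L38778 L38774 L38814
theorem L38819 : sm gc N5933 = N6187 := flp_c L38818
theorem L38820 : sm gg N3957 = N6188 := rfl
theorem L38821 : sm gg N6188 = N3957 := flp_g L38820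
theorem L38822 : sm gc N3958 = N6189 := rfl
theorem L38823 : sm gc N6189 = N3958 := flp_c L38822
theorem L38824 : sm ga N6189 = N3961 := ded_8_1 L27858 L27846 L38822
theorem L38826 : sm gd N4423 = N6189 := ded_28_1 L38823 L27844 L22048 L19887 L23363 L30158 L30160 L30174
theorem L38828 : sm ge N3958 = N6190 := rfl
theorem L38830 : sm ga N6190 = N3962 := ded_10_1 L27860 L27846 L38828
theorem L38831 : sm ga N3962 = N6190 := flp_a L38830
theorem L38832 : sm gg N3958 = N6191 := rfl
theorem L38833 : sm gg N6191 = N3958 := flp_g L38832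
theorem L38838 : sm gf N6191 = N6160 := ded_29_2 L38675 L38663 L38664 L38832
theorem L38840 : sm gb N3959 = N6192 := rfl
theorem L38841 : sm gb N6192 = N3959 := flp_b L38840
theorem L38842 : sm ga N3960 = N6193 := rfl
theorem L38843 : sm ga N6193 = N3960 := flp_a L38842
theorem L38844 : sm gc N3960 = N6194 := rfl
theorem L38845 : sm gc N6194 = N3960 := flp_c L38844
theorem L38846 : sm gf N3960 = N6195 := rfl
theorem L38848 : sm gb N6195 = N6164 := ded_16_1 L38689 L27810 L22056 L27855 L38846
theorem L38850 : sm gd N3961 = N6196 := rfl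
theorem L38851 : sm gd N6196 = N3961 := flp_d L38850
theorem L38852 : sm ga N6196 = N4423 := ded_9_1 L38826 L38824 L38850
theorem L38853 : sm ga N4423 = N6196 := flp_a L38852
theorem L38854 : sm gc N4420 = N6196 := ded_28_0 L38851 L27858 L22058 L19251 L9442 L19888 L23375 L30161
theorem L38855 : sm gc N6196 = N4420 := flp_c L38854
theorem L38856 : sm ge N3961 = N6197 := rfl
theorem L38857 : sm ge N6197 = N3961 := flp_e L38856
theorem L38858 : sm gc N6197 = N3962 := ded_19_1 L27860 L27857 L38856
theorem L38859 : sm gc N3962 = N6197 := flp_c L38858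
theorem L38860 : sm gg N3961 = N6198 := rfl
theorem L38861 : sm gg N6198 = N3961 := flp_g L38860
theorem L38864 : sm gg N3962 = N6199 := rfl
theorem L38865 : sm gg N6199 = N3962 := flp_g L38864
theorem L38868 : sm gb N3963 = N6200 := rfl
theorem L38870 : sm gd N6200 = N3964 := ded_14_2 L27868 L27866 L38868
theorem L38871 : sm gd N3964 = N6200 := flp_d L38870
theorem L38872 : sm gg N6200 = N3971 := ded_17_2 L27898 L22076 L22060 L27863 L38868
theorem L38873 : sm gg N3971 = N6200 := flp_g L38872
theorem L38882 : sm ga N3964 = N6202 := rfl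
theorem L38883 : sm ga N6202 = N3964 := flp_a L38882
theorem L38884 : sm gc N6202 = N4395 := ded_8_2 L30031 L27870 L38882
theorem L38886 : sm gg N6202 = N3972 := ded_12_2 L27902 L27872 L38882
theorem L38888 : sm gf N3964 = N6203 := rfl
theorem L38889 : sm gf N6203 = N3964 := flp_f L38888
theorem L38890 : sm gc N6203 = N4396 := ded_20_1 L30035 L27870 L38888
theorem L38891 : sm gc N4396 = N6203 := flp_c L38890
theorem L38892 : sm gb N3965 = N6204 := rfl
theorem L38894 : sm ga N3966 = N6205 := rfl
theorem L38896 : sm gf N6205 = N4398 := ded_11_2 L30039 L27884 L38894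
theorem L38897 : sm gf N4398 = N6205 := flp_f L38896
theorem L38898 : sm gc N3966 = N6206 := rfl
theorem L38899 : sm gc N6206 = N3966 := flp_c L38898
theorem L38902 : sm gg N3966 = N6207 := rfl
theorem L38903 : sm gg N6207 = N3966 := flp_g L38902
theorem L38904 : sm gb N6207 = N6155 := ded_17_1 L38651 L27794 L22070 L27881 L38902
theorem L38905 : sm gb N6155 = N6207 := flp_b L38904
theorem L38906 : sm gb N3967 = N6208 := rfl
theorem L38907 : sm gb N6208 = N3967 := flp_b L38906
theorem L38908 : sm gf N3967 = N6209 := rfl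
theorem L38909 : sm gf N6209 = N3967 := flp_f L38908
theorem L38926 : sm gb N3970 = N6213 := rfl
theorem L38927 : sm gb N6213 = N3970 := flp_b L38926
theorem L38928 : sm ge N6213 = N3971 := ded_15_2 L27898 L27896 L38926
theorem L38929 : sm ge N3971 = N6213 := flp_e L38928
theorem L38930 : sm ga N3971 = N6214 := rfl
theorem L38931 : sm ga N6214 = N3971 := flp_a L38930
theorem L38932 : sm gd N6214 = N3972 := ded_9_2 L27902 L27900 L38930
theorem L38934 : sm gc N3971 = N6215 := rfl
theorem L38935 : sm gc N6215 = N3971 := flp_c L38934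
theorem L38936 : sm gb N6215 = N4301 := ded_13_1 L29637 L23125 L22078 L27897 L38934
theorem L38937 : sm gb N4301 = N6215 := flp_b L38936
theorem L38938 : sm gf N3971 = N6216 := rfl
theorem L38939 : sm gf N6216 = N3971 := flp_f L38938
theorem L38940 : sm gd N6216 = N3973 := ded_23_1 L27906 L27900 L38938
theorem L38941 : sm gd N3973 = N6216 := flp_d L38940
theorem L38942 : sm gb N3972 = N6217 := rfl
theorem L38943 : sm gb N6217 = N3972 := flp_b L38942
theorem L38952 : sm gg N3973 = N6219 := rfl
theorem L38953 : sm gg N6219 = N3973 := flp_g L38952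
theorem L38958 : sm gf N6202 = N6219 := ded_29_0 L38953 L27906 L27872 L38882
theorem L38960 : sm gb N3974 = N6220 := rfl
theorem L38961 : sm gb N6220 = N3974 := flp_b L38960
theorem L38962 : sm ge N6220 = N6061 := ded_15_2 L38161 L27916 L38960
theorem L38963 : sm ge N6061 = N6220 := flp_e L38962
theorem L38964 : sm gf N6220 = N4315 := ded_16_2 L29699 L23172 L22139 L27909 L38960
theorem L38965 : sm gf N4315 = N6220 := flp_f L38964
theorem L38966 : sm gb N3975 = N6221 := rfl
theorem L38967 : sm gb N6221 = N3975 := flp_b L38966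
theorem L38968 : sm ge N6221 = N6062 := ded_15_2 L38167 L27924 L38966
theorem L38970 : sm gg N6221 = N4316 := ded_17_2 L29703 L23180 L22139 L27917 L38966
theorem L38971 : sm gg N4316 = N6221 := flp_g L38970
theorem L38972 : sm gb N3976 = N6222 := rfl
theorem L38973 : sm gb N6222 = N3976 := flp_b L38972
theorem L38974 : sm ge N6222 = N6048 := ded_15_2 L38083 L27932 L38972
theorem L38975 : sm ge N6048 = N6222 := flp_e L38974
theorem L38976 : sm gf N6222 = N4039 := ded_16_2 L28296 L22339 L22094 L27925 L38972
theorem L38977 : sm gf N4039 = N6222 := flp_f L38976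
theorem L38978 : sm gb N3977 = N6223 := rfl
theorem L38979 : sm gb N6223 = N3977 := flp_b L38978
theorem L38982 : sm gg N6223 = N4041 := ded_17_2 L28308 L22345 L22094 L27933 L38978
theorem L38983 : sm gg N4041 = N6223 := flp_g L38982
theorem L38984 : sm ga N3978 = N6224 := rfl
theorem L38985 : sm ga N6224 = N3978 := flp_a L38984
theorem L38988 : sm gf N6224 = N3984 := ded_11_2 L27976 L27946 L38984
theorem L38989 : sm gf N3984 = N6224 := flp_f L38988
theorem L38990 : sm gb N5024 = N6224 := ded_30_2 L38985 L27945 L27979 L27983 L28336 L37473 L37469 L27059 L21695 L19080 L19098 L21061 L25832 L34485 L34479 L34466 L34474 L33413 L33410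
theorem L38991 : sm gb N6224 = N5024 := flp_b L38990
theorem L38992 : sm gc N6224 = N5027 := ded_30_1 L33419 L25275 L20790 L18630 L5784 L2746 L1455 L806 L470 L447 L594 L1028 L1902 L3839 L7874 L19283 L22119 L27975 L38989
theorem L38993 : sm gc N5027 = N6224 := flp_c L38992
theorem L38994 : sm gc N3978 = N6225 := rfl
theorem L38995 : sm gc N6225 = N3978 := flp_c L38994
theorem L38996 : sm ga N6225 = N5027 := ded_8_1 L38993 L38985 L38994
theorem L38997 : sm ga N5027 = N6225 := flp_a L38996
theorem L39000 : sm gf N6225 = N3985 := ded_20_2 L27980 L27946 L38994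
theorem L39001 : sm gf N3985 = N6225 := flp_f L39000
theorem L39002 : sm gg N3978 = N6226 := rfl
theorem L39003 : sm gg N6226 = N3978 := flp_g L39002
theorem L39006 : sm gb N3979 = N6227 := rfl
theorem L39007 : sm gb N6227 = N3979 := flp_b L39006
theorem L39008 : sm ge N6227 = N6063 := ded_15_2 L38173 L27950 L39006
theorem L39010 : sm ga N3980 = N6228 := rfl
theorem L39011 : sm ga N6228 = N3980 := flp_a L39010
theorem L39012 : sm ge N6228 = N6064 := ded_10_2 L38177 L27956 L39010
theorem L39013 : sm ge N6064 = N6228 := flp_e L39012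
theorem L39014 : sm gg N6228 = N3987 := ded_12_2 L27990 L27958 L39010
theorem L39016 : sm gc N3980 = N6229 := rfl
theorem L39018 : sm ge N6229 = N6065 := ded_19_2 L38183 L27956 L39016
theorem L39019 : sm ge N6065 = N6229 := flp_e L39018
theorem L39020 : sm gg N6229 = N3988 := ded_21_2 L27994 L27958 L39016
theorem L39026 : sm gb N3981 = N6231 := rfl
theorem L39028 : sm ge N6231 = N6067 := ded_15_2 L38191 L27964 L39026
theorem L39029 : sm ge N6067 = N6231 := flp_e L39028
theorem L39034 : sm gc N3982 = N6233 := rfl
theorem L39036 : sm gb N6233 = N4166 := ded_13_1 L29007 L22746 L22108 L27967 L39034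
theorem L39037 : sm gb N4166 = N6233 := flp_b L39036
theorem L39038 : sm gg N3982 = N6234 := rfl
theorem L39039 : sm gg N6234 = N3982 := flp_g L39038
theorem L39040 : sm gd N6234 = N3986 := ded_24_1 L27986 L27970 L39038
theorem L39041 : sm gd N3986 = N6234 := flp_d L39040
theorem L39042 : sm ga N3983 = N6235 := rfl
theorem L39043 : sm ga N6235 = N3983 := flp_a L39042
theorem L39044 : sm gd N6235 = N3987 := ded_9_2 L27990 L27974 L39042
theorem L39054 : sm gb N3984 = N6238 := rfl
theorem L39055 : sm gb N6238 = N3984 := flp_b L39054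
theorem L39056 : sm ge N6238 = N5987 := ded_15_2 L37783 L27978 L39054
theorem L39058 : sm gc N3984 = N6239 := rfl
theorem L39060 : sm ga N6239 = N3985 := ded_8_1 L27980 L27975 L39058
theorem L39061 : sm ga N3985 = N6239 := flp_a L39060
theorem L39062 : sm ge N6239 = N5975 := ded_19_2 L37734 L27978 L39058
theorem L39064 : sm gf N6239 = N5027 := ded_20_2 L38993 L38988 L39058
theorem L39065 : sm gf N5027 = N6239 := flp_f L39064
theorem L39068 : sm gg N3984 = N6240 := rfl
theorem L39069 : sm gg N6240 = N3984 := flp_g L39068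
theorem L39070 : sm ga N6240 = N3986 := ded_12_1 L27986 L27975 L39068
theorem L39071 : sm ga N3986 = N6240 := flp_a L39070
theorem L39072 : sm ge N6240 = N5989 := ded_26_1 L37793 L27978 L39068
theorem L39073 : sm ge N5989 = N6240 := flp_e L39072
theorem L39074 : sm gf N6240 = N6226 := ded_29_2 L39003 L38984 L38988 L39068
theorem L39075 : sm gf N6226 = N6240 := flp_f L39074
theorem L39076 : sm gd N3985 = N6241 := rfl
theorem L39077 : sm gd N6241 = N3985 := flp_d L39076
theorem L39078 : sm gb N6241 = N4046 := ded_14_1 L28342 L27984 L39076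
theorem L39079 : sm gb N4046 = N6241 := flp_b L39078
theorem L39080 : sm gg N3985 = N6242 := rfl
theorem L39081 : sm gg N6242 = N3985 := flp_g L39080
theorem L39082 : sm gc N6242 = N3986 := ded_21_1 L27986 L27979 L39080
theorem L39084 : sm ge N6242 = N5978 := ded_26_1 L37745 L27982 L39080
theorem L39086 : sm gf N3986 = N6243 := rfl
theorem L39087 : sm gf N6243 = N3986 := flp_f L39086
theorem L39088 : sm ga N6243 = N6226 := ded_11_1 L39075 L39070 L39086
theorem L39090 : sm ge N6243 = N5991 := ded_25_1 L37805 L27988 L39086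
theorem L39091 : sm ge N5991 = N6243 := flp_e L39090
theorem L39092 : sm gg N6243 = N6224 := ded_29_3 L38985 L27945 L27985 L39086
theorem L39093 : sm gg N6224 = N6243 := flp_g L39092
theorem L39094 : sm gf N5897 = N5024 := ded_31_13 L38990 L39093 L39087 L28090 L28086 L27712 L27708 L21991 L21928 L24241 L21654 L21682 L27046 L37411
theorem L39095 : sm gf N5024 = N5897 := flp_f L39094
theorem L39096 : sm gc N5025 = N5897 := ded_20_3 L39094 L33411 L33412
theorem L39098 : N6238 = N5898 := coi_16_4 L37413 L37408 L39094 L38990 L38988 L39054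
theorem L39099 : N6238 = N5898 := eqc rfl L39098 rfl
theorem L39100 : sm gb N5898 = N3984 := trf L39099 L39055 rfl
theorem L39102 : sm ge N5898 = N5987 := trf L39099 L39056 rfl
theorem L39104 : sm ga N4276 = N5897 := ded_30_19 L39094 L33411 L25272 L20785 L18587 L18629 L18631 L18654 L19949 L19945 L18501 L13616 L8745 L9285 L19775 L23112 L29511 L29505 L29500
theorem L39105 : sm ga N5897 = N4276 := flp_a L39104
theorem L39106 : sm gg N5900 = N5025 := ded_21_0 L39096 L37410 L37420
theorem L39108 : sm gb N5896 = N5100 := ded_13_3 L33744 L33415 L39096 L37409 L37407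
theorem L39109 : sm gb N5100 = N5896 := flp_b L39108
theorem L39110 : sm gf N5987 = N4882 := ded_25_2 L32698 L37412 L39102
theorem L39112 : sm ge N5897 = N4337 := ded_10_2 L29787 L29503 L39104
theorem L39114 : sm gg N5899 = N4276 := ded_12_0 L39104 L37410 L37418
theorem L39115 : sm gg N4276 = N5899 := flp_g L39114
theorem L39116 : sm gb N5894 = N4260 := ded_7_4 L29411 L23008 L19712 L19740 L23065 L29500 L39104 L37409 L37397
theorem L39117 : sm gb N4260 = N5894 := flp_b L39116
theorem L39118 : sm gf N5722 = N5900 := ded_29_2 L39106 L34475 L34473 L36614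
theorem L39120 : N5458 = N3816 := coi_17_5 L37423 L39106 L33414 L33750 L36339 L35382
theorem L39121 : N5458 = N3816 := eqc rfl L39120 rfl
theorem L39122 : sm ga N3816 = N5457 := trf L39121 L35379 rfl
theorem L39123 : N5457 = N3902 := eqe L39122 L27582
theorem L39124 : N5457 = N3902 := eqc rfl L39123 rfl
theorem L39125 : sm gf N3816 = N3595 := trf L39121 L35378 rfl
theorem L39126 : N3595 = N3900 := eqe L39125 L27576
theorem L39127 : N3900 = N3595 := (eqc rfl L39126 rfl).symm
theorem L39128 : sm gg N3816 = N5452 := trf L39121 L35381 rfl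
theorem L39129 : N5452 = N5919 := eqe L39128 L37507
theorem L39130 : N5919 = N5452 := (eqc rfl L39129 rfl).symm
theorem L39136 : sm ge N5452 = N6025 := trf L39130 L37979 rfl
theorem L39137 : sm ge N6025 = N5452 := flp_e L39136
theorem L39138 : sm gf N5452 = N3891 := trf L39130 L37504 rfl
theorem L39139 : N3891 = N3592 := eqe L39138 L35355
theorem L39140 : N3891 = N3592 := eqc rfl L39139 rfl
theorem L39146 : sm gb N3592 = N6056 := trf L39140 L38135 rfl
theorem L39147 : N6056 = N5319 := eqe L39146 L34757
theorem L39148 : N6056 = N5319 := eqc rfl L39147 rfl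
theorem L39149 : sm gc N3592 = N2796 := trf L39140 L27522 rfl
theorem L39150 : N2796 = N5451 := eqe L39149 L35350
theorem L39151 : N5451 = N2796 := (eqc rfl L39150 rfl).symm
theorem L39152 : sm gd N3592 = N6060 := trf L39140 L38156 rfl
theorem L39153 : N6060 = N5402 := eqe L39152 L35119
theorem L39154 : N6060 = N5402 := eqc rfl L39153 rfl
theorem L39155 : sm ge N3592 = N4044 := trf L39140 L28330 rfl
theorem L39156 : N4044 = N4675 := eqe L39155 L31565
theorem L39157 : N4675 = N4044 := (eqc rfl L39156 rfl).symm
theorem L39158 : sm gg N3592 = N2803 := trf L39140 L27523 rfl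
theorem L39159 : N2803 = N5453 := eqe L39158 L35358
theorem L39160 : N5453 = N2803 := (eqc rfl L39159 rfl).symm
theorem L39163 : sm gb N2803 = N4953 := trf L39160 L36334 rfl
theorem L39164 : N4953 = N3898 := eqe L39163 L27564
theorem L39165 : N4953 = N3898 := eqc rfl L39164 rfl
theorem L39169 : sm ga N3898 = N3361 := trf L39165 L33077 rfl
theorem L39170 : N3361 = N6069 := eqe L39169 L38201
theorem L39171 : N6069 = N3361 := (eqc rfl L39170 rfl).symm
theorem L39172 : sm gf N3898 = N4980 := trf L39165 L33186 rfl
theorem L39173 : N4980 = N6072 := eqe L39172 L38214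
theorem L39174 : N6072 = N4980 := (eqc rfl L39173 rfl).symm
theorem L39175 : sm gg N3898 = N3373 := trf L39165 L33078 rfl
theorem L39176 : N3373 = N6065 := eqe L39175 L38185
theorem L39177 : N6065 = N3373 := (eqc rfl L39176 rfl).symm
theorem L39178 : sm gc N3373 = N3895 := trf L39177 L38183 rfl
theorem L39179 : N3895 = N4976 := eqe L39178 L33166
theorem L39180 : N4976 = N3895 := (eqc rfl L39179 rfl).symm
theorem L39181 : sm ge N3373 = N6229 := trf L39177 L39019 rfl
theorem L39182 : N6229 = N4500 := eqe L39181 L30613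
theorem L39183 : N6229 = N4500 := eqc rfl L39182 rfl
theorem L39188 : sm gg N4500 = N3988 := trf L39183 L39020 rfl
theorem L39189 : sm gg N3988 = N4500 := flp_g L39188
theorem L39190 : sm ga N3895 = N3374 := trf L39180 L33168 rfl
theorem L39191 : N3374 = N6064 := eqe L39190 L38176
theorem L39192 : N6064 = N3374 := (eqc rfl L39191 rfl).symm
theorem L39197 : sm gd N3374 = N4321 := trf L39192 L38178 rfl
theorem L39198 : N4321 = N4978 := eqe L39197 L33176
theorem L39199 : N4978 = N4321 := (eqc rfl L39198 rfl).symm
theorem L39200 : sm ge N3374 = N6228 := trf L39192 L39013 rfl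
theorem L39201 : N6228 = N4501 := eqe L39200 L30617
theorem L39202 : N6228 = N4501 := eqc rfl L39201 rfl
theorem L39203 : sm gf N3374 = N6073 := trf L39192 L38224 rfl
theorem L39204 : N6073 = N4979 := eqe L39203 L33178
theorem L39205 : N6073 = N4979 := eqc rfl L39204 rfl
theorem L39206 : sm gg N3374 = N3897 := trf L39192 L38180 rfl
theorem L39207 : N3897 = N4954 := eqe L39206 L33083
theorem L39208 : N4954 = N3897 := (eqc rfl L39207 rfl).symm
theorem L39211 : sm gg N3897 = N3374 := trf L39208 L33082 rfl
theorem L39212 : sm gg N3374 = N3897 := flp_g L39211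
theorem L39213 : sm ga N4979 = N6066 := trf L39205 L38220 rfl
theorem L39215 : sm gd N4979 = N4336 := trf L39205 L38222 rfl
theorem L39217 : sm gg N4979 = N3899 := trf L39205 L38219 rfl
theorem L39218 : sm gg N3899 = N4979 := flp_g L39217
theorem L39219 : sm ga N4501 = N3980 := trf L39202 L39011 rfl
theorem L39220 : sm ga N3980 = N4501 := flp_a L39219
theorem L39221 : sm gg N4501 = N3987 := trf L39202 L39014 rfl
theorem L39222 : sm gg N3987 = N4501 := flp_g L39221
theorem L39223 : sm gd N4321 = N3374 := trf L39199 L33177 rfl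
theorem L39224 : sm gd N3374 = N4321 := flp_d L39223
theorem L39225 : sm gc N4980 = N3899 := trf L39174 L38216 rfl
theorem L39227 : sm gf N4980 = N3898 := trf L39174 L38215 rfl
theorem L39229 : sm ga N3361 = N3898 := trf L39171 L38200 rfl
theorem L39230 : sm ga N3898 = N3361 := flp_a L39229
theorem L39231 : sm gc N3361 = N3897 := trf L39171 L38199 rfl
theorem L39233 : sm ga N4044 = N3216 := trf L39157 L31563 rfl
theorem L39234 : N3216 = N6028 := eqe L39233 L37993
theorem L39235 : N6028 = N3216 := (eqc rfl L39234 rfl).symm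
theorem L39238 : sm ga N3216 = N4044 := trf L39235 L37992 rfl
theorem L39239 : sm ga N4044 = N3216 := flp_a L39238
theorem L39240 : sm gc N3216 = N3873 := trf L39235 L37994 rfl
theorem L39241 : N3873 = N4676 := eqe L39240 L31566
theorem L39242 : N4676 = N3873 := (eqc rfl L39241 rfl).symm
theorem L39244 : sm gf N3216 = N3872 := trf L39235 L37991 rfl
theorem L39245 : N3872 = N4677 := eqe L39244 L31571
theorem L39246 : N4677 = N3872 := (eqc rfl L39245 rfl).symm
theorem L39256 : sm gb N3872 = N4841 := trf L39246 L32454 rfl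
theorem L39257 : N4841 = N6026 := eqe L39256 L37984
theorem L39258 : N6026 = N4841 := (eqc rfl L39257 rfl).symm
theorem L39261 : sm gf N3872 = N3216 := trf L39246 L31572 rfl
theorem L39262 : sm gf N3216 = N3872 := flp_f L39261
theorem L39263 : sm gb N4841 = N3872 := trf L39258 L37985 rfl
theorem L39265 : sm gc N4841 = N3874 := trf L39258 L37986 rfl
theorem L39270 : sm ge N3873 = N3593 := trf L39242 L31568 rfl
theorem L39271 : N3593 = N3890 := eqe L39270 L27515
theorem L39272 : N3890 = N3593 := (eqc rfl L39271 rfl).symm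
theorem L39282 : sm gf N3593 = N3344 := trf L39272 L27516 rfl
theorem L39283 : N3344 = N5455 := eqe L39282 L35365
theorem L39284 : N5455 = N3344 := (eqc rfl L39283 rfl).symm
theorem L39294 : sm gf N3344 = N3593 := trf L39284 L35366 rfl
theorem L39299 : sm gg N5402 = N3901 := trf L39154 L38158 rfl
theorem L39300 : sm gg N3901 = N5402 := flp_g L39299
theorem L39303 : sm gc N2796 = N3592 := trf L39151 L35351 rfl
theorem L39304 : sm gc N3592 = N2796 := flp_c L39303
theorem L39305 : sm gc N5319 = N3888 := trf L39148 L38133 rfl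
theorem L39320 : sm gc N3595 = N2802 := trf L39127 L27572 rfl
theorem L39321 : sm gc N2802 = N3595 := flp_c L39320
theorem L39333 : sm gb N3902 = N5665 := trf L39124 L36333 rfl
theorem L39334 : N5665 = N6079 := eqe L39333 L38244
theorem L39335 : N6079 = N5665 := (eqc rfl L39334 rfl).symm
theorem L39336 : sm gg N3902 = N3594 := trf L39124 L35374 rfl
theorem L39337 : sm gg N3594 = N3902 := flp_g L39336
theorem L39338 : sm gb N5665 = N3902 := trf L39335 L38245 rfl
theorem L39340 : sm gc N5665 = N6003 := trf L39335 L38246 rfl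
theorem L39342 : sm gg N5100 = N5918 := ded_17_2 L37499 L27071 L27043 L37404 L39108
theorem L39343 : sm gg N5918 = N5100 := flp_g L39342
theorem L39344 : sm gb N4337 = N4882 := ded_15_1 L32698 L37408 L39112
theorem L39345 : sm gb N4882 = N4337 := flp_b L39344
theorem L39346 : sm gg N4337 = N4883 := ded_26_2 L32702 L37411 L39112
theorem L39350 : sm ge N4325 = N5894 := ded_15_0 L39116 L29412 L29734
theorem L39352 : sm gc N5901 = N5722 := ded_20_3 L39118 L37421 L37424
theorem L39353 : sm gc N5722 = N5901 := flp_c L39352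
theorem L39358 : sm ga N3988 = N4489 := ded_12_1 L30538 L30610 L39188
theorem L39359 : sm ga N4489 = N3988 := flp_a L39358
theorem L39364 : sm gc N3987 = N4489 := ded_21_1 L30538 L30614 L39221
theorem L39365 : sm gc N4489 = N3987 := flp_c L39364
theorem L39366 : sm gc N6070 = N4955 := ded_8_2 L33185 L39225 L38205
theorem L39367 : sm gc N4955 = N6070 := flp_c L39366
theorem L39370 : sm ga N6071 = N4947 := ded_9_3 L33052 L39229 L38210
theorem L39371 : sm ga N4947 = N6071 := flp_a L39370
theorem L39372 : sm gc N6068 = N4939 := ded_13_2 L33009 L25067 L25093 L39231 L38194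
theorem L39373 : sm gc N4939 = N6068 := flp_c L39372
theorem L39374 : sm gf N4654 = N6027 := ded_23_2 L37989 L39261 L31459
theorem L39376 : N4922 = N5744 := coi_19_3 L36711 L32452 L39265 L32916
theorem L39377 : N5744 = N4922 := (eqc rfl L39376 rfl).symm
theorem L39380 : sm gf N4922 = N3726 := trf L39377 L36710 rfl
theorem L39381 : sm gf N3726 = N4922 := flp_f L39380
theorem L39382 : N6031 = N4840 := coi_20_3 L32445 L32449 L39265 L38004
theorem L39383 : N6031 = N4840 := eqc rfl L39382 rfl
theorem L39385 : sm gf N4840 = N3874 := trf L39383 L38005 rfl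
theorem L39387 : sm ga N5466 = N6044 := ded_30_11 L38062 L27443 L27204 L27190 L27193 L27072 L27074 L27078 L39294 L26124 L21219 L18808 L18812 L18814 L21220 L26132 L26134 L26145 L35414
theorem L39389 : sm gg N5404 = N6078 := ded_29_1 L38239 L39300 L35117 L35122
theorem L39390 : sm gg N6078 = N5404 := flp_g L39389
theorem L39391 : N6055 = N5320 := coi_8_2 L34759 L34754 L39305 L38128
theorem L39392 : N6055 = N5320 := eqc rfl L39391 rfl
theorem L39393 : sm ga N5320 = N3888 := trf L39392 L38129 rfl
theorem L39394 : sm ga N3888 = N5320 := flp_a L39393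
theorem L39395 : sm gd N5320 = N5345 := trf L39392 L38130 rfl
theorem L39396 : sm gd N5345 = N5320 := flp_d L39395
theorem L39397 : N5881 = N5717 := coi_13_3 L36583 L26642 L26131 L39320 L27099 L37350
theorem L39398 : N5881 = N5717 := eqc rfl L39397 rfl
theorem L39401 : sm gf N5717 = N3795 := trf L39398 L37348 rfl
theorem L39402 : sm gf N3795 = N5717 := flp_f L39401
theorem L39404 : sm ga N6003 = N5666 := ded_8_1 L36309 L36304 L39340
theorem L39405 : sm ga N5666 = N6003 := flp_a L39404
theorem L39406 : sm gf N6003 = N5669 := ded_20_2 L36317 L36307 L39340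
theorem L39408 : sm ga N4882 = N4325 := ded_7_1 L29735 L23206 L19797 L9393 L9399 L19800 L23217 L29786 L39344
theorem L39410 : sm ga N4883 = N4340 := ded_12_1 L29795 L29786 L39346
theorem L39411 : sm ga N4340 = N4883 := flp_a L39410
theorem L39412 : sm gg N4880 = N4325 := ded_26_0 L39350 L37395 L32689
theorem L39413 : sm gg N4325 = N4880 := flp_g L39412
theorem L39414 : sm gf N6043 = N5466 := ded_11_0 L39387 L38062 L38057
theorem L39415 : sm gf N5466 = N6043 := flp_f L39414
theorem L39416 : sm gb N3987 = N6244 := rfl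
theorem L39417 : sm gb N6244 = N3987 := flp_b L39416
theorem L39420 : sm gc N6244 = N4934 := ded_13_2 L32977 L25047 L30534 L39365 L39416
theorem L39421 : sm gc N4934 = N6244 := flp_c L39420
theorem L39422 : sm gg N5220 = N6244 := ded_21_0 L39420 L32978 L34266
theorem L39423 : sm gg N6244 = N5220 := flp_g L39422
theorem L39424 : sm gf N3987 = N6245 := rfl
theorem L39425 : sm gf N6245 = N3987 := flp_f L39424
theorem L39426 : sm ga N6245 = N3989 := ded_11_1 L28000 L27989 L39424
theorem L39427 : sm ga N3989 = N6245 := flp_a L39426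
theorem L39428 : sm ge N6245 = N6070 := ded_25_1 L38203 L27992 L39424
theorem L39429 : sm ge N6070 = N6245 := flp_e L39428
theorem L39432 : sm gd N3988 = N6246 := rfl
theorem L39434 : sm gb N6246 = N4051 := ded_14_1 L28381 L27998 L39432
theorem L39436 : sm gf N3988 = N6247 := rfl
theorem L39437 : sm gf N6247 = N3988 := flp_f L39436
theorem L39440 : sm ge N6247 = N4980 := ded_25_1 L39227 L27996 L39436
theorem L39442 : sm gg N4502 = N6247 := ded_29_1 L39437 L39189 L30611 L30618
theorem L39444 : sm gb N4805 = N6247 := ded_15_3 L39440 L36330 L32258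
theorem L39445 : sm gb N6247 = N4805 := flp_b L39444
theorem L39446 : sm gg N3989 = N6248 := rfl
theorem L39447 : sm gg N6248 = N3989 := flp_g L39446
theorem L39452 : sm ge N6248 = N4979 := ded_26_1 L39217 L28002 L39446
theorem L39453 : sm ge N4979 = N6248 := flp_e L39452
theorem L39454 : sm gf N4501 = N6248 := ded_29_0 L39447 L28000 L27958 L39220
theorem L39455 : sm gf N6248 = N4501 := flp_f L39454
theorem L39456 : sm gb N3990 = N6249 := rfl
theorem L39457 : sm gb N6249 = N3990 := flp_b L39456
theorem L39458 : sm gd N6249 = N4151 := ded_14_2 L28933 L28008 L39456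
theorem L39459 : sm gd N4151 = N6249 := flp_d L39458
theorem L39460 : sm ge N6249 = N6101 := ded_15_2 L38361 L28010 L39456
theorem L39462 : sm gf N6249 = N3992 := ded_16_2 L28020 L22148 L22127 L28003 L39456
theorem L39463 : sm gf N3992 = N6249 := flp_f L39462
theorem L39464 : sm gg N3990 = N6250 := rfl
theorem L39465 : sm gg N6250 = N3990 := flp_g L39464
theorem L39466 : sm gc N6250 = N4010 := ded_21_1 L28116 L28006 L39464
theorem L39468 : sm gd N6250 = N4152 := ded_24_1 L28937 L28008 L39464
theorem L39472 : sm gf N4982 = N6250 := ded_29_0 L39465 L28004 L28011 L33201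
theorem L39473 : sm gf N6250 = N4982 := flp_f L39472
theorem L39474 : sm gb N3991 = N6251 := rfl
theorem L39476 : sm gd N6251 = N4153 := ded_14_2 L28943 L28016 L39474
theorem L39477 : sm gd N4153 = N6251 := flp_d L39476
theorem L39478 : sm ge N6251 = N6102 := ded_15_2 L38367 L28018 L39474
theorem L39479 : sm ge N6102 = N6251 := flp_e L39478
theorem L39484 : sm gf N3991 = N6252 := rfl
theorem L39486 : sm ga N6252 = N6250 := ded_11_1 L39473 L33200 L39484
theorem L39487 : sm ga N6250 = N6252 := flp_a L39486
theorem L39492 : sm ge N6252 = N4984 := ded_25_1 L33221 L28018 L39484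
theorem L39493 : sm ge N4984 = N6252 := flp_e L39492
theorem L39500 : sm gc N3992 = N6254 := rfl
theorem L39501 : sm gc N6254 = N3992 := flp_c L39500
theorem L39502 : sm gb N6254 = N3995 := ded_13_1 L28034 L22164 L22152 L28019 L39500
theorem L39503 : sm gb N3995 = N6254 := flp_b L39502
theorem L39504 : sm gg N3992 = N6255 := rfl
theorem L39505 : sm gg N6255 = N3992 := flp_g L39504
theorem L39508 : sm ga N3993 = N6256 := rfl
theorem L39509 : sm ga N6256 = N3993 := flp_a L39508
theorem L39510 : sm gd N6256 = N4158 := ded_9_2 L28963 L28026 L39508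
theorem L39511 : sm gd N4158 = N6256 := flp_d L39510
theorem L39516 : sm gb N3994 = N6258 := rfl
theorem L39517 : sm gb N6258 = N3994 := flp_b L39516
theorem L39518 : sm gd N6258 = N3999 := ded_14_2 L28050 L28030 L39516
theorem L39519 : sm gd N3999 = N6258 := flp_d L39518
theorem L39520 : sm gc N3994 = N6259 := rfl
theorem L39521 : sm gc N6259 = N3994 := flp_c L39520
theorem L39522 : sm ga N6259 = N3995 := ded_8_1 L28034 L28027 L39520
theorem L39523 : sm ga N3995 = N6259 := flp_a L39522
theorem L39524 : sm gf N6259 = N4016 := ded_20_2 L28158 L28032 L39520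
theorem L39526 : sm gd N3995 = N6260 := rfl
theorem L39527 : sm gd N6260 = N3995 := flp_d L39526
theorem L39528 : sm gf N6260 = N4018 := ded_23_2 L28170 L28036 L39526
theorem L39529 : sm gf N4018 = N6260 := flp_f L39528
theorem L39530 : sm gg N3995 = N6261 := rfl
theorem L39531 : sm gg N6261 = N3995 := flp_g L39530
theorem L39532 : sm gc N6261 = N3996 := ded_21_1 L28038 L28033 L39530
theorem L39533 : sm gc N3996 = N6261 := flp_c L39532
theorem L39534 : sm gb N3996 = N6262 := rfl
theorem L39535 : sm gb N6262 = N3996 := flp_b L39534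
theorem L39536 : sm gd N6262 = N4000 := ded_14_2 L28054 L28040 L39534
theorem L39538 : sm gg N6262 = N3997 := ded_17_2 L28042 L22170 L22163 L28037 L39534
theorem L39539 : sm gg N3997 = N6262 := flp_g L39538
theorem L39540 : sm ga N3997 = N6263 := rfl
theorem L39541 : sm ga N6263 = N3997 := flp_a L39540
theorem L39544 : sm gc N3997 = N6264 := rfl
theorem L39545 : sm gc N6264 = N3997 := flp_c L39544
theorem L39546 : sm gf N3997 = N6265 := rfl
theorem L39547 : sm gf N6265 = N3997 := flp_f L39546
theorem L39552 : sm ga N3998 = N6266 := rfl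
theorem L39553 : sm ga N6266 = N3998 := flp_a L39552
theorem L39564 : sm ga N3999 = N6269 := rfl
theorem L39565 : sm ga N6269 = N3999 := flp_a L39564
theorem L39566 : sm ge N6269 = N5429 := ded_10_2 L35237 L28052 L39564
theorem L39567 : sm ge N5429 = N6269 := flp_e L39566
theorem L39568 : sm gb N6269 = N5230 := ded_7_2 L37415 L39100 L27976 L22120 L19280 L19308 L22183 L28049 L39564
theorem L39569 : sm gb N5230 = N6269 := flp_b L39568
theorem L39570 : sm gg N5231 = N6269 := ded_17_0 L39568 L34335 L25662 L25665 L34336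
theorem L39572 : sm gc N3999 = N6270 := rfl
theorem L39573 : sm gc N6270 = N3999 := flp_c L39572
theorem L39578 : sm gf N3999 = N6271 := rfl
theorem L39579 : sm gf N6271 = N3999 := flp_f L39578
theorem L39584 : sm gg N3999 = N6272 := rfl
theorem L39585 : sm gg N6272 = N3999 := flp_g L39584
theorem L39588 : sm ge N6272 = N5431 := ded_26_1 L35247 L28052 L39584
theorem L39589 : sm ge N5431 = N6272 := flp_e L39588
theorem L39590 : sm ga N4000 = N6273 := rfl
theorem L39591 : sm ga N6273 = N4000 := flp_a L39590
theorem L39594 : sm gg N6273 = N4001 := ded_12_2 L28060 L28058 L39590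
theorem L39595 : sm gg N4001 = N6273 := flp_g L39594
theorem L39596 : sm gc N4000 = N6274 := rfl
theorem L39597 : sm gc N6274 = N4000 := flp_c L39596
theorem L39598 : sm ge N6274 = N5433 := ded_19_2 L35257 L28056 L39596
theorem L39600 : sm gg N6274 = N4002 := ded_21_2 L28064 L28058 L39596
theorem L39601 : sm gg N4002 = N6274 := flp_g L39600
theorem L39604 : sm gf N4000 = N6275 := rfl
theorem L39605 : sm gf N6275 = N4000 := flp_f L39604
theorem L39608 : sm gb N4001 = N6276 := rfl
theorem L39610 : sm ge N6276 = N5992 := ded_15_2 L37813 L28062 L39608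
theorem L39611 : sm ge N5992 = N6276 := flp_e L39610
theorem L39612 : sm gc N4001 = N6277 := rfl
theorem L39613 : sm gc N6277 = N4001 := flp_c L39612
theorem L39616 : sm ge N6277 = N5993 := ded_19_2 L37817 L28062 L39612
theorem L39617 : sm ge N5993 = N6277 := flp_e L39616
theorem L39618 : sm gf N4001 = N6278 := rfl
theorem L39619 : sm gf N6278 = N4001 := flp_f L39618
theorem L39620 : sm ga N6278 = N4003 := ded_11_1 L28070 L28059 L39618
theorem L39624 : sm gg N6275 = N6278 := ded_29_1 L39619 L39595 L39591 L39604
theorem L39625 : sm gg N6278 = N6275 := flp_g L39624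
theorem L39644 : sm gb N4004 = N6282 := rfl
theorem L39646 : sm ge N6282 = N6080 := ded_15_2 L38249 L28078 L39644
theorem L39647 : sm ge N6080 = N6282 := flp_e L39646
theorem L39662 : sm gd N4005 = N6285 := rfl
theorem L39664 : sm gb N6285 = N4057 := ded_14_1 L28417 L28084 L39662
theorem L39665 : sm gb N4057 = N6285 := flp_b L39664
theorem L39666 : sm gg N4005 = N6286 := rfl
theorem L39668 : sm gc N6286 = N4006 := ded_21_1 L28086 L28079 L39666
theorem L39669 : sm gc N4006 = N6286 := flp_c L39668
theorem L39670 : sm ge N6286 = N6084 := ded_26_1 L38273 L28082 L39666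
theorem L39671 : sm ge N6084 = N6286 := flp_e L39670
theorem L39672 : sm gf N4006 = N6287 := rfl
theorem L39673 : sm gf N6287 = N4006 := flp_f L39672
theorem L39676 : sm ge N6287 = N6085 := ded_25_1 L38277 L28088 L39672
theorem L39677 : sm ge N6085 = N6287 := flp_e L39676
theorem L39678 : sm gg N6287 = N6116 := ded_29_3 L38445 L27711 L28085 L39672
theorem L39679 : sm gg N6116 = N6287 := flp_g L39678
theorem L39680 : sm gb N4007 = N6288 := rfl
theorem L39681 : sm gb N6288 = N4007 := flp_b L39680
theorem L39682 : sm gd N6288 = N4248 := ded_14_2 L29335 L28096 L39680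
theorem L39683 : sm gd N4248 = N6288 := flp_d L39682
theorem L39684 : sm ge N6288 = N6093 := ded_15_2 L38313 L28098 L39680
theorem L39685 : sm ge N6093 = N6288 := flp_e L39684
theorem L39686 : sm gb N4008 = N6289 := rfl
theorem L39687 : sm gb N6289 = N4008 := flp_b L39686
theorem L39690 : sm ge N6289 = N6094 := ded_15_2 L38319 L28106 L39686
theorem L39692 : sm ga N4009 = N6290 := rfl
theorem L39693 : sm ga N6290 = N4009 := flp_a L39692
theorem L39694 : sm gd N6290 = N4032 := ded_9_2 L28239 L28110 L39692
theorem L39695 : sm gd N4032 = N6290 := flp_d L39694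
theorem L39698 : sm gf N6290 = N4012 := ded_11_2 L28134 L28114 L39692
theorem L39699 : sm gf N4012 = N6290 := flp_f L39698
theorem L39700 : sm gc N4009 = N6291 := rfl
theorem L39701 : sm gc N6291 = N4009 := flp_c L39700
theorem L39704 : sm gf N6291 = N4013 := ded_20_2 L28140 L28114 L39700
theorem L39706 : sm gg N4009 = N6292 := rfl
theorem L39707 : sm gg N6292 = N4009 := flp_g L39706
theorem L39712 : sm gb N4010 = N6293 := rfl
theorem L39714 : sm gd N6293 = N4250 := ded_14_2 L29343 L28118 L39712
theorem L39715 : sm gd N4250 = N6293 := flp_d L39714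
theorem L39716 : sm ge N6293 = N6106 := ded_15_2 L38389 L28120 L39712
theorem L39717 : sm ge N6106 = N6293 := flp_e L39716
theorem L39718 : sm gb N4011 = N6294 := rfl
theorem L39720 : sm gd N6294 = N4251 := ded_14_2 L29347 L28128 L39718
theorem L39721 : sm gd N4251 = N6294 := flp_d L39720
theorem L39722 : sm ge N6294 = N6107 := ded_15_2 L38393 L28130 L39718
theorem L39723 : sm ge N6107 = N6294 := flp_e L39722
theorem L39724 : sm gf N6294 = N4275 := ded_16_2 L29495 L23056 L22224 L28123 L39718
theorem L39725 : sm gf N4275 = N6294 := flp_f L39724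
theorem L39726 : sm gb N4012 = N6295 := rfl
theorem L39727 : sm gb N6295 = N4012 := flp_b L39726
theorem L39728 : sm gd N6295 = N4030 := ded_14_2 L28228 L28136 L39726
theorem L39732 : sm gc N4012 = N6296 := rfl
theorem L39733 : sm gc N6296 = N4012 := flp_c L39732
theorem L39736 : sm ge N6296 = N6120 := ded_19_2 L38469 L28138 L39732
theorem L39737 : sm ge N6120 = N6296 := flp_e L39736
theorem L39738 : sm gg N4012 = N6297 := rfl
theorem L39740 : sm ga N6297 = N4014 := ded_12_1 L28146 L28133 L39738
theorem L39742 : sm gd N6297 = N4026 := ded_24_1 L28209 L28136 L39738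
theorem L39746 : sm gf N6297 = N6292 := ded_29_2 L39707 L39692 L39698 L39738
theorem L39747 : sm gf N6292 = N6297 := flp_f L39746
theorem L39752 : sm gg N4013 = N6299 := rfl
theorem L39753 : sm gg N6299 = N4013 := flp_g L39752
theorem L39754 : sm gc N6299 = N4014 := ded_21_1 L28146 L28139 L39752
theorem L39756 : sm ge N6299 = N6123 := ded_26_1 L38485 L28142 L39752
theorem L39757 : sm ge N6123 = N6299 := flp_e L39756
theorem L39758 : sm gf N4014 = N6300 := rfl
theorem L39760 : sm ga N6300 = N6292 := ded_11_1 L39747 L39740 L39758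
theorem L39762 : sm gd N6300 = N4028 := ded_23_1 L28220 L28148 L39758
theorem L39763 : sm gd N4028 = N6300 := flp_d L39762
theorem L39764 : sm ge N6300 = N6124 := ded_25_1 L38489 L28150 L39758
theorem L39765 : sm ge N6124 = N6300 := flp_e L39764
theorem L39766 : sm gg N6300 = N6290 := ded_29_3 L39693 L28113 L28145 L39758
theorem L39768 : sm ga N4015 = N6301 := rfl
theorem L39769 : sm ga N6301 = N4015 := flp_a L39768
theorem L39770 : sm gd N6301 = N4021 := ded_9_2 L28184 L28156 L39768
theorem L39771 : sm gd N4021 = N6301 := flp_d L39770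
theorem L39772 : sm gc N4015 = N6302 := rfl
theorem L39774 : sm gf N4015 = N6303 := rfl
theorem L39775 : sm gf N6303 = N4015 := flp_f L39774
theorem L39778 : sm gg N4015 = N6304 := rfl
theorem L39779 : sm gg N6304 = N4015 := flp_g L39778
theorem L39780 : sm gd N6304 = N4024 := ded_24_1 L28198 L28156 L39778
theorem L39781 : sm gd N4024 = N6304 := flp_d L39780
theorem L39782 : sm gb N4016 = N6305 := rfl
theorem L39783 : sm gb N6305 = N4016 := flp_b L39782
theorem L39784 : sm gg N4016 = N6306 := rfl
theorem L39785 : sm gg N6306 = N4016 := flp_g L39784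
theorem L39786 : sm ga N6306 = N4019 := ded_12_1 L28172 L28160 L39784
theorem L39788 : sm gc N6306 = N4017 := ded_21_1 L28162 L28157 L39784
theorem L39789 : sm gc N4017 = N6306 := flp_c L39788
theorem L39790 : sm gf N6306 = N6261 := ded_29_2 L39531 L39523 L39524 L39784
theorem L39791 : sm gf N6261 = N6306 := flp_f L39790
theorem L39792 : sm gb N4017 = N6307 := rfl
theorem L39793 : sm gb N6307 = N4017 := flp_b L39792
theorem L39798 : sm gg N4018 = N6309 := rfl
theorem L39799 : sm gg N6309 = N4018 := flp_g L39798
theorem L39800 : sm gd N6309 = N4019 := ded_24_1 L28172 L28169 L39798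
theorem L39801 : sm gd N4019 = N6309 := flp_d L39800
theorem L39802 : sm gb N4019 = N6310 := rfl
theorem L39803 : sm gb N6310 = N4019 := flp_b L39802
theorem L39804 : sm gf N4019 = N6311 := rfl
theorem L39805 : sm gf N6311 = N4019 := flp_f L39804
theorem L39806 : sm ga N6311 = N6261 := ded_11_1 L39791 L39786 L39804
theorem L39810 : sm gg N6311 = N6259 := ded_29_3 L39522 L28035 L28171 L39804
theorem L39811 : sm gg N6259 = N6311 := flp_g L39810
theorem L39816 : sm gc N4021 = N6313 := rfl
theorem L39817 : sm gc N6313 = N4021 := flp_c L39816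
theorem L39820 : sm ge N6313 = N5622 := ded_19_2 L36130 L28186 L39816
theorem L39822 : sm gf N4021 = N6314 := rfl
theorem L39823 : sm gf N6314 = N4021 := flp_f L39822
theorem L39826 : sm ge N6314 = N5639 := ded_25_1 L36193 L28186 L39822
theorem L39828 : sm gg N4021 = N6315 := rfl
theorem L39829 : sm gg N6315 = N4021 := flp_g L39828
theorem L39830 : sm ga N6315 = N4024 := ded_12_1 L28198 L28183 L39828
theorem L39832 : sm ge N6315 = N5640 := ded_26_1 L36199 L28186 L39828
theorem L39833 : sm ge N5640 = N6315 := flp_e L39832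
theorem L39834 : sm gd N4022 = N6316 := rfl
theorem L39838 : sm gf N4022 = N6317 := rfl
theorem L39839 : sm gf N6317 = N4022 := flp_f L39838
theorem L39844 : sm gg N4022 = N6318 := rfl
theorem L39845 : sm gg N6318 = N4022 := flp_g L39844
theorem L39848 : sm ge N6318 = N5625 := ded_26_1 L36141 L28190 L39844
theorem L39849 : sm ge N5625 = N6318 := flp_e L39848
theorem L39856 : sm gb N4024 = N6320 := rfl
theorem L39860 : sm gg N6320 = N4025 := ded_17_2 L28202 L22246 L22241 L28197 L39856
theorem L39861 : sm gg N4025 = N6320 := flp_g L39860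
theorem L39862 : sm gf N6320 = N5911 := ded_31_1 L37466 L37320 L27642 L27638 L21992 L21984 L19204 L7731 L7724 L19308 L22191 L22254 L28201 L39861
theorem L39863 : sm gf N5911 = N6320 := flp_f L39862
theorem L39864 : sm gf N5909 = N4025 := ded_29_0 L39861 L39862 L37465 L37458
theorem L39865 : sm gf N4025 = N5909 := flp_f L39864
theorem L39866 : sm ga N4025 = N5907 := ded_29_4 L37450 L37464 L39863 L39860
theorem L39868 : sm ge N5646 = N5909 := ded_25_3 L39864 L28203 L36232
theorem L39869 : sm ge N5909 = N5646 := flp_e L39868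
theorem L39870 : sm gb N6275 = N5909 := ded_16_5 L39864 L28202 L22253 L28053 L39604
theorem L39872 : sm ge N5907 = N5644 := ded_10_2 L36225 L28204 L39866
theorem L39876 : sm gb N5644 = N4886 := ded_15_1 L32716 L37448 L39872
theorem L39877 : sm gb N4886 = N5644 := flp_b L39876
theorem L39880 : sm gf N4024 = N6321 := rfl
theorem L39881 : sm gf N6321 = N4024 := flp_f L39880
theorem L39888 : sm gc N4025 = N6322 := rfl
theorem L39889 : sm gc N6322 = N4025 := flp_c L39888
theorem L39892 : sm gb N6322 = N4798 := ded_13_1 L32218 L24518 L22250 L28201 L39888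
theorem L39894 : sm gb N4026 = N6323 := rfl
theorem L39895 : sm gb N6323 = N4026 := flp_b L39894
theorem L39896 : sm ge N6323 = N4422 := ded_15_2 L30171 L28208 L39894
theorem L39897 : sm ge N4422 = N6323 := flp_e L39896
theorem L39898 : sm gc N4026 = N6324 := rfl
theorem L39899 : sm gc N6324 = N4026 := flp_c L39898
theorem L39900 : sm ga N6324 = N4027 := ded_8_1 L28212 L28205 L39898
theorem L39901 : sm ga N4027 = N6324 := flp_a L39900
theorem L39902 : sm ge N6324 = N4421 := ded_19_2 L30166 L28208 L39898
theorem L39903 : sm ge N4421 = N6324 := flp_e L39902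
theorem L39904 : sm gg N6324 = N4031 := ded_21_2 L28232 L28210 L39898
theorem L39905 : sm gg N4031 = N6324 := flp_g L39904
theorem L39906 : sm gd N4027 = N6325 := rfl
theorem L39907 : sm gd N6325 = N4027 := flp_d L39906
theorem L39908 : sm gb N6325 = N4802 := ded_14_1 L32240 L28218 L39906
theorem L39909 : sm gb N4802 = N6325 := flp_b L39908
theorem L39910 : sm gg N6325 = N4033 := ded_24_2 L28246 L28216 L39906
theorem L39911 : sm gg N4033 = N6325 := flp_g L39910
theorem L39912 : sm gf N4027 = N6326 := rfl
theorem L39916 : sm ge N6326 = N4426 := ded_25_1 L30187 L28214 L39912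
theorem L39917 : sm ge N4426 = N6326 := flp_e L39916
theorem L39924 : sm ga N4029 = N6328 := rfl
theorem L39926 : sm ge N6328 = N5652 := ded_10_2 L36259 L28226 L39924
theorem L39927 : sm ge N5652 = N6328 := flp_e L39926
theorem L39940 : sm gf N4030 = N6331 := rfl
theorem L39941 : sm gf N6331 = N4030 := flp_f L39940
theorem L39942 : sm ge N6331 = N4417 := ded_25_1 L30149 L28230 L39940
theorem L39944 : sm gg N4030 = N6332 := rfl
theorem L39945 : sm gg N6332 = N4030 := flp_g L39944
theorem L39946 : sm ge N6332 = N4418 := ded_26_1 L30153 L28230 L39944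
theorem L39948 : sm gb N4031 = N6333 := rfl
theorem L39949 : sm gb N6333 = N4031 := flp_b L39948
theorem L39950 : sm ge N6333 = N4419 := ded_15_2 L30157 L28236 L39948
theorem L39951 : sm ge N4419 = N6333 := flp_e L39950
theorem L39952 : sm gd N4031 = N6334 := rfl
theorem L39953 : sm gd N6334 = N4031 := flp_d L39952
theorem L39954 : sm ga N6334 = N4033 := ded_9_1 L28246 L28234 L39952
theorem L39955 : sm ga N4033 = N6334 := flp_a L39954
theorem L39956 : sm gf N4031 = N6335 := rfl
theorem L39962 : sm ge N6335 = N4408 := ded_25_1 L30108 L28236 L39956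
theorem L39963 : sm ge N4408 = N6335 := flp_e L39962
theorem L39966 : sm gb N4032 = N6336 := rfl
theorem L39967 : sm gb N6336 = N4032 := flp_b L39966
theorem L39968 : sm ge N6336 = N4407 := ded_15_2 L30101 L28242 L39966
theorem L39969 : sm ge N4407 = N6336 := flp_e L39968
theorem L39970 : sm gc N4033 = N6337 := rfl
theorem L39971 : sm gc N6337 = N4033 := flp_c L39970
theorem L39972 : sm gb N6337 = N4558 := ded_13_1 L30929 L23761 L22294 L28248 L39970
theorem L39973 : sm gb N4558 = N6337 := flp_b L39972
theorem L39974 : sm ge N4033 = N6338 := rfl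
theorem L39975 : sm ge N6338 = N4033 := flp_e L39974
theorem L39976 : sm gb N6338 = N4036 := ded_15_1 L28266 L28248 L39974
theorem L39980 : sm gf N4033 = N6339 := rfl
theorem L39981 : sm gf N6339 = N4033 := flp_f L39980
theorem L39984 : sm gb N6339 = N4521 := ded_16_1 L30736 L23761 L22290 L28248 L39980
theorem L39996 : sm gb N4035 = N6341 := rfl
theorem L40000 : sm gg N6341 = N4250 := ded_17_2 L29343 L22954 L22286 L28257 L39996
theorem L40001 : sm gg N4250 = N6341 := flp_g L40000
theorem L40002 : sm gb N4037 = N6342 := rfl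
theorem L40003 : sm gb N6342 = N4037 := flp_b L40002
theorem L40008 : sm gf N6342 = N4076 := ded_16_2 L28529 L22518 L22301 L28275 L40002
theorem L40009 : sm gf N4076 = N6342 := flp_f L40008
theorem L40010 : sm gb N4038 = N6343 := rfl
theorem L40012 : sm gd N6343 = N4628 := ded_14_2 L31329 L28292 L40010
theorem L40013 : sm gd N4628 = N6343 := flp_d L40012
theorem L40016 : sm gg N6343 = N4077 := ded_17_2 L28531 L22522 L22301 L28285 L40010
theorem L40018 : sm ga N4039 = N6344 := rfl
theorem L40019 : sm ga N6344 = N4039 := flp_a L40018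
theorem L40020 : sm ge N6344 = N6052 := ded_10_2 L38117 L28298 L40018
theorem L40021 : sm ge N6052 = N6344 := flp_e L40020
theorem L40022 : sm gc N4039 = N6345 := rfl
theorem L40023 : sm gc N6345 = N4039 := flp_c L40022
theorem L40024 : sm ge N6345 = N5983 := ded_19_2 L37762 L28298 L40022
theorem L40025 : sm ge N5983 = N6345 := flp_e L40024
theorem L40026 : sm gb N6345 = N4043 := ded_13_1 L28322 L22351 L22341 L28295 L40022
theorem L40027 : sm gb N4043 = N6345 := flp_b L40026
theorem L40028 : sm gg N4039 = N6346 := rfl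
theorem L40029 : sm gg N6346 = N4039 := flp_g L40028
theorem L40030 : sm ge N6346 = N6053 := ded_26_1 L38121 L28298 L40028
theorem L40031 : sm ge N6053 = N6346 := flp_e L40030
theorem L40032 : sm gb N4040 = N6347 := rfl
theorem L40033 : sm gb N6347 = N4040 := flp_b L40032
theorem L40038 : sm ga N4041 = N6348 := rfl
theorem L40039 : sm ga N6348 = N4041 := flp_a L40038
theorem L40040 : sm ge N6348 = N5320 := ded_10_2 L39393 L28310 L40038
theorem L40042 : sm gc N4616 = N6348 := ded_19_3 L40040 L34759 L31255
theorem L40044 : sm gc N4041 = N6349 := rfl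
theorem L40046 : sm ga N6349 = N4616 := ded_8_1 L40042 L40039 L40044
theorem L40048 : sm ge N6349 = N5319 := ded_19_2 L39305 L28310 L40044
theorem L40049 : sm ge N5319 = N6349 := flp_e L40048
theorem L40050 : sm gb N6349 = N4044 := ded_13_1 L28328 L22367 L22347 L28307 L40044
theorem L40052 : sm gf N4041 = N6350 := rfl
theorem L40053 : sm gf N6350 = N4041 := flp_f L40052
theorem L40054 : sm ge N6350 = N6057 := ded_25_1 L38137 L28310 L40052
theorem L40055 : sm ge N6057 = N6350 := flp_e L40054
theorem L40056 : sm gb N4042 = N6351 := rfl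
theorem L40057 : sm gb N6351 = N4042 := flp_b L40056
theorem L40058 : sm ge N6351 = N6058 := ded_15_2 L38141 L28318 L40056
theorem L40059 : sm ge N6058 = N6351 := flp_e L40058
theorem L40060 : sm gd N4043 = N6352 := rfl
theorem L40061 : sm gd N6352 = N4043 := flp_d L40060
theorem L40062 : sm gf N6352 = N4046 := ded_23_2 L28342 L28326 L40060
theorem L40063 : sm gf N4046 = N6352 := flp_f L40062
theorem L40064 : sm gd N4044 = N6353 := rfl
theorem L40065 : sm gd N6353 = N4044 := flp_d L40064
theorem L40066 : sm ga N6353 = N4654 := ded_9_1 L31458 L39238 L40064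
theorem L40068 : sm gg N6353 = N4051 := ded_24_2 L28381 L28332 L40064
theorem L40069 : sm gg N4051 = N6353 := flp_g L40068
theorem L40070 : sm gb N4045 = N6354 := rfl
theorem L40071 : sm gb N6354 = N4045 := flp_b L40070
theorem L40072 : sm ge N6354 = N5972 := ded_15_2 L37719 L28338 L40070
theorem L40073 : sm ge N5972 = N6354 := flp_e L40072
theorem L40074 : sm gd N4045 = N6355 := rfl
theorem L40075 : sm gd N6355 = N4045 := flp_d L40074
theorem L40076 : sm ga N6355 = N4046 := ded_9_1 L28342 L28336 L40074
theorem L40077 : sm ga N4046 = N6355 := flp_a L40076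
theorem L40078 : sm gg N6355 = N5928 := ded_24_2 L37539 L28340 L40074
theorem L40079 : sm gg N5928 = N6355 := flp_g L40078
theorem L40080 : sm gc N4046 = N6356 := rfl
theorem L40081 : sm gc N6356 = N4046 := flp_c L40080
theorem L40082 : sm ge N4046 = N6357 := rfl
theorem L40083 : sm ge N6357 = N4046 := flp_e L40082
theorem L40084 : sm gd N6357 = N5980 := ded_22_1 L37751 L27274 L22393 L28341 L40082
theorem L40085 : sm gd N5980 = N6357 := flp_d L40084
theorem L40086 : sm gg N4046 = N6358 := rfl
theorem L40087 : sm gg N6358 = N4046 := flp_g L40086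
theorem L40092 : sm gb N4047 = N6359 := rfl
theorem L40093 : sm gb N6359 = N4047 := flp_b L40092
theorem L40094 : sm ge N6359 = N5985 := ded_15_2 L37773 L28350 L40092
theorem L40096 : sm gf N4047 = N6360 := rfl
theorem L40100 : sm gc N6360 = N4048 := ded_20_1 L28352 L28348 L40096
theorem L40101 : sm gc N4048 = N6360 := flp_c L40100
theorem L40102 : sm ge N6360 = N5986 := ded_25_1 L37775 L28350 L40096
theorem L40103 : sm ge N5986 = N6360 := flp_e L40102
theorem L40104 : sm gg N6360 = N5912 := ded_29_3 L37470 L28325 L28343 L40096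
theorem L40131 : sm gf N4051 = N6365 := rfl
theorem L40132 : sm gf N6365 = N4051 := flp_f L40131
theorem L40133 : sm gd N6365 = N4052 := ded_23_1 L28383 L28380 L40131
theorem L40134 : sm gd N4052 = N6365 := flp_d L40133
theorem L40135 : sm gg N6027 = N6365 := ded_29_1 L40132 L40069 L40066 L39374
theorem L40137 : sm gb N4052 = N6366 := rfl
theorem L40138 : sm gb N6366 = N4052 := flp_b L40137
theorem L40139 : sm ge N6366 = N5665 := ded_15_2 L39338 L28387 L40137
theorem L40143 : sm ga N4804 = N6366 := ded_10_3 L40139 L36305 L32252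
theorem L40144 : sm ga N6366 = N4804 := flp_a L40143
theorem L40145 : sm gb N4053 = N6367 := rfl
theorem L40146 : sm gb N6367 = N4053 := flp_b L40145
theorem L40149 : sm gd N4053 = N6368 := rfl
theorem L40151 : sm ga N6368 = N4054 := ded_9_1 L28399 L28393 L40149
theorem L40152 : sm ga N4054 = N6368 := flp_a L40151
theorem L40153 : sm gg N6368 = N4914 := ded_24_2 L32868 L28397 L40149
theorem L40155 : sm gc N4054 = N6369 := rfl
theorem L40157 : sm gg N6369 = N4916 := ded_21_2 L32882 L28401 L40155
theorem L40158 : sm gg N4916 = N6369 := flp_g L40157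
theorem L40159 : sm ge N4054 = N6370 := rfl
theorem L40160 : sm ge N6370 = N4054 := flp_e L40159
theorem L40163 : sm gd N6370 = N6001 := ded_22_1 L37875 L27340 L22427 L28398 L40159
theorem L40164 : sm gd N6001 = N6370 := flp_d L40163
theorem L40175 : sm gb N4056 = N6373 := rfl
theorem L40176 : sm gb N6373 = N4056 := flp_b L40175
theorem L40179 : sm gc N6373 = N5971 := ded_13_2 L37717 L27249 L27306 L28408 L40175
theorem L40180 : sm gc N5971 = N6373 := flp_c L40179
theorem L40181 : sm gd N4056 = N6374 := rfl
theorem L40183 : sm ga N6374 = N4057 := ded_9_1 L28417 L28411 L40181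
theorem L40184 : sm ga N4057 = N6374 := flp_a L40183
theorem L40185 : sm gf N6374 = N6087 := ded_23_2 L38287 L28415 L40181
theorem L40186 : sm gf N6087 = N6374 := flp_f L40185
theorem L40187 : sm gc N4057 = N6375 := rfl
theorem L40191 : sm ge N4057 = N6376 := rfl
theorem L40192 : sm ge N6376 = N4057 := flp_e L40191
theorem L40193 : sm gf N6376 = N6090 := ded_25_2 L38303 L28419 L40191
theorem L40194 : sm gf N6090 = N6376 := flp_f L40193
theorem L40195 : sm gd N6376 = N6090 := ded_22_1 L38303 L27616 L22449 L28416 L40191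
theorem L40196 : sm gd N6090 = N6376 := flp_d L40195
theorem L40197 : sm gg N4057 = N6377 := rfl
theorem L40199 : sm gd N6377 = N4058 := ded_24_1 L28421 L28416 L40197
theorem L40200 : sm gd N4058 = N6377 := flp_d L40199
theorem L40201 : sm gb N4058 = N6378 := rfl
theorem L40202 : sm gb N6378 = N4058 := flp_b L40201
theorem L40205 : sm gc N6378 = N6359 := ded_13_2 L40093 L28347 L22459 L28423 L40201
theorem L40206 : sm gc N6359 = N6378 := flp_c L40205
theorem L40207 : sm gb N4059 = N6379 := rfl
theorem L40208 : sm gb N6379 = N4059 := flp_b L40207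
theorem L40209 : sm ge N6379 = N4076 := ded_15_2 L28529 L28433 L40207
theorem L40210 : sm ge N4076 = N6379 := flp_e L40209
theorem L40213 : sm gb N4060 = N6380 := rfl
theorem L40215 : sm ge N6380 = N4077 := ded_15_2 L28531 L28441 L40213
theorem L40216 : sm ge N4077 = N6380 := flp_e L40215
theorem L40219 : sm gf N4061 = N6381 := rfl
theorem L40220 : sm gf N6381 = N4061 := flp_f L40219
theorem L40221 : sm gc N6381 = N4062 := ded_20_1 L28446 L28442 L40219
theorem L40222 : sm gc N4062 = N6381 := flp_c L40221
theorem L40223 : sm gg N4061 = N6382 := rfl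
theorem L40224 : sm gg N6382 = N4061 := flp_g L40223
theorem L40227 : sm gb N4062 = N6383 := rfl
theorem L40228 : sm gb N6383 = N4062 := flp_b L40227
theorem L40231 : sm gf N6383 = N4068 := ded_16_2 L28486 L22485 L22471 L28445 L40227
theorem L40232 : sm gf N4068 = N6383 := flp_f L40231
theorem L40233 : sm gg N4062 = N6384 := rfl
theorem L40234 : sm gg N6384 = N4062 := flp_g L40233
theorem L40235 : sm gd N6384 = N4065 := ded_24_1 L28462 L28448 L40233
theorem L40236 : sm gd N4065 = N6384 := flp_d L40235
theorem L40237 : sm ge N6384 = N5278 := ded_26_1 L34576 L31665 L40233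
theorem L40239 : sm gf N5274 = N6384 := ded_29_0 L40234 L28446 L28449 L34547
theorem L40240 : sm gf N6384 = N5274 := flp_f L40239
theorem L40241 : sm gb N4063 = N6385 := rfl
theorem L40245 : sm gg N6385 = N4069 := ded_17_2 L28490 L22492 L22471 L28449 L40241
theorem L40247 : sm gf N4063 = N6386 := rfl
theorem L40249 : sm ga N6386 = N6384 := ded_11_1 L40240 L34546 L40247
theorem L40250 : sm ga N6384 = N6386 := flp_a L40249
theorem L40257 : sm ga N4064 = N6387 := rfl
theorem L40258 : sm ga N6387 = N4064 := flp_a L40257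
theorem L40263 : sm gf N6387 = N4070 := ded_11_2 L28494 L28458 L40257
theorem L40264 : sm gf N4070 = N6387 := flp_f L40263
theorem L40265 : sm gg N4064 = N6388 := rfl
theorem L40266 : sm gg N6388 = N4064 := flp_g L40265
theorem L40271 : sm gb N4065 = N6389 := rfl
theorem L40272 : sm gb N6389 = N4065 := flp_b L40271
theorem L40273 : sm ge N6389 = N4081 := ded_15_2 L28547 L28466 L40271
theorem L40274 : sm ge N4081 = N6389 := flp_e L40273
theorem L40275 : sm ga N4066 = N6390 := rfl
theorem L40279 : sm gg N6390 = N4072 := ded_12_2 L28506 L28474 L40275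
theorem L40280 : sm gg N4072 = N6390 := flp_g L40279
theorem L40281 : sm gc N4066 = N6391 := rfl
theorem L40282 : sm gc N6391 = N4066 := flp_c L40281
theorem L40285 : sm gg N6391 = N4073 := ded_21_2 L28510 L28474 L40281
theorem L40286 : sm gg N4073 = N6391 := flp_g L40285
theorem L40297 : sm ga N4068 = N6394 := rfl
theorem L40298 : sm ga N6394 = N4068 := flp_a L40297
theorem L40299 : sm gd N6394 = N4070 := ded_9_2 L28494 L28488 L40297
theorem L40300 : sm gd N4070 = N6394 := flp_d L40299
theorem L40301 : sm gc N4068 = N6395 := rfl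
theorem L40302 : sm gc N6395 = N4068 := flp_c L40301
theorem L40303 : sm gb N6395 = N6395 := ded_13_1 L40302 L28486 L22488 L28485 L40301
theorem L40304 : sm gg N4068 = N6396 := rfl
theorem L40305 : sm gg N6396 = N4068 := flp_g L40304
theorem L40306 : sm gd N6396 = N4071 := ded_24_1 L28500 L28488 L40304
theorem L40307 : sm gd N4071 = N6396 := flp_d L40306
theorem L40308 : sm ga N4069 = N6397 := rfl
theorem L40309 : sm ga N6397 = N4069 := flp_a L40308
theorem L40310 : sm gd N6397 = N4072 := ded_9_2 L28506 L28492 L40308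
theorem L40311 : sm gd N4072 = N6397 := flp_d L40310
theorem L40315 : sm gf N4069 = N6399 := rfl
theorem L40316 : sm gf N6399 = N4069 := flp_f L40315
theorem L40319 : sm gb N4070 = N6400 := rfl
theorem L40320 : sm gb N6400 = N4070 := flp_b L40319
theorem L40321 : sm ge N6400 = N4086 := ded_15_2 L28561 L28498 L40319
theorem L40322 : sm ge N4086 = N6400 := flp_e L40321
theorem L40323 : sm gg N4070 = N6401 := rfl
theorem L40331 : sm gf N6401 = N6388 := ded_29_2 L40266 L40257 L40263 L40323
theorem L40333 : sm gf N4071 = N6402 := rfl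
theorem L40334 : sm gf N6402 = N4071 := flp_f L40333
theorem L40339 : sm ge N6402 = N4091 := ded_25_1 L28585 L28504 L40333
theorem L40340 : sm ge N4091 = N6402 := flp_e L40339
theorem L40341 : sm gg N6402 = N6387 := ded_29_3 L40258 L28457 L28499 L40333
theorem L40342 : sm gg N6387 = N6402 := flp_g L40341
theorem L40343 : sm gb N4072 = N6403 := rfl
theorem L40344 : sm gb N6403 = N4072 := flp_b L40343
theorem L40345 : sm ge N6403 = N4092 := ded_15_2 L28591 L28508 L40343
theorem L40346 : sm ge N4092 = N6403 := flp_e L40345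
theorem L40347 : sm gc N4072 = N6404 := rfl
theorem L40348 : sm gc N6404 = N4072 := flp_c L40347
theorem L40351 : sm ge N6404 = N4093 := ded_19_2 L28593 L28508 L40347
theorem L40365 : sm gf N4073 = N6407 := rfl
theorem L40366 : sm gf N6407 = N4073 := flp_f L40365
theorem L40373 : sm gg N4074 = N6408 := rfl
theorem L40374 : sm gg N6408 = N4074 := flp_g L40373
theorem L40377 : sm ge N6408 = N4097 := ded_26_1 L28611 L28518 L40373
theorem L40378 : sm ge N4097 = N6408 := flp_e L40377
theorem L40379 : sm gf N6390 = N6408 := ded_29_0 L40374 L28516 L28474 L40275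
theorem L40380 : sm gf N6408 = N6390 := flp_f L40379
theorem L40392 : sm ga N4076 = N6410 := rfl
theorem L40393 : sm ga N6410 = N4076 := flp_a L40392
theorem L40396 : sm gg N4076 = N6412 := rfl
theorem L40397 : sm gg N6412 = N4076 := flp_g L40396
theorem L40398 : sm ga N4077 = N6413 := rfl
theorem L40399 : sm ga N6413 = N4077 := flp_a L40398
theorem L40400 : sm gc N4077 = N6414 := rfl
theorem L40401 : sm gc N6414 = N4077 := flp_c L40400
theorem L40402 : sm gf N4077 = N6415 := rfl
theorem L40403 : sm gf N6415 = N4077 := flp_f L40402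
theorem L40404 : sm gb N4078 = N6416 := rfl
theorem L40405 : sm gb N6416 = N4078 := flp_b L40404
theorem L40406 : sm gc N4949 = N6416 := ded_30_1 L40405 L28533 L22527 L22545 L22549 L19482 L19222 L7513 L3596 L2280 L2278 L2266 L4645 L9427 L19858 L19862 L20728 L25145 L33067
theorem L40407 : sm gc N6416 = N4949 := flp_c L40406
theorem L40408 : sm ga N6416 = N4950 := ded_8_1 L33069 L33064 L40406
theorem L40409 : sm ga N4950 = N6416 := flp_a L40408
theorem L40410 : sm gf N6416 = N4970 := ded_20_2 L33143 L33067 L40406
theorem L40411 : sm gf N4970 = N6416 := flp_f L40410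
theorem L40412 : sm gc N4078 = N6417 := rfl
theorem L40414 : sm ga N6417 = N4079 := ded_8_1 L28537 L28532 L40412
theorem L40415 : sm ga N4079 = N6417 := flp_a L40414
theorem L40418 : sm gf N6417 = N4087 := ded_20_2 L28563 L28535 L40412
theorem L40419 : sm gf N4087 = N6417 := flp_f L40418
theorem L40420 : sm gd N4079 = N6418 := rfl
theorem L40421 : sm gd N6418 = N4079 := flp_d L40420
theorem L40432 : sm gb N4080 = N6420 := rfl
theorem L40433 : sm gb N6420 = N4080 := flp_b L40432
theorem L40434 : sm gg N6420 = N4081 := ded_17_2 L28547 L22530 L22525 L28544 L40432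
theorem L40435 : sm gg N4081 = N6420 := flp_g L40434
theorem L40436 : sm ga N4081 = N6421 := rfl
theorem L40437 : sm ga N6421 = N4081 := flp_a L40436
theorem L40440 : sm gf N4081 = N6423 := rfl
theorem L40442 : sm gb N6423 = N6415 := ded_16_1 L40403 L28531 L22531 L28546 L40440
theorem L40443 : sm gb N6415 = N6423 := flp_b L40442
theorem L40444 : sm gb N4082 = N6424 := rfl
theorem L40445 : sm gb N6424 = N4082 := flp_b L40444
theorem L40446 : sm gc N4082 = N6425 := rfl
theorem L40447 : sm gc N6425 = N4082 := flp_c L40446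
theorem L40460 : sm gb N4084 = N6428 := rfl
theorem L40461 : sm gb N6428 = N4084 := flp_b L40460
theorem L40462 : sm gf N6428 = N4085 := ded_16_2 L28559 L22538 L22533 L28556 L40460
theorem L40463 : sm gf N4085 = N6428 := flp_f L40462
theorem L40464 : sm ga N4085 = N6429 := rfl
theorem L40465 : sm ga N6429 = N4085 := flp_a L40464
theorem L40466 : sm gc N4085 = N6430 := rfl
theorem L40467 : sm gc N6430 = N4085 := flp_c L40466
theorem L40472 : sm ga N4086 = N6432 := rfl
theorem L40473 : sm ga N6432 = N4086 := flp_a L40472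
theorem L40474 : sm gb N6432 = N4214 := ded_7_2 L29217 L22856 L19649 L8894 L8627 L19476 L22543 L28560 L40472
theorem L40475 : sm gb N4214 = N6432 := flp_b L40474
theorem L40476 : sm gc N6333 = N6432 := ded_13_0 L40474 L38767 L28228 L28231 L39948
theorem L40477 : sm gc N6432 = N6333 := flp_c L40476
theorem L40478 : sm gc N4086 = N6433 := rfl
theorem L40480 : sm ga N6433 = N6333 := ded_8_1 L40476 L40473 L40478
theorem L40482 : sm gf N4086 = N6434 := rfl
theorem L40483 : sm gf N6434 = N4086 := flp_f L40482
theorem L40484 : sm gb N6434 = N4970 := ded_16_1 L40411 L40405 L28534 L28560 L40482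
theorem L40486 : sm gg N4086 = N6435 := rfl
theorem L40487 : sm gg N6435 = N4086 := flp_g L40486
theorem L40488 : sm gb N4087 = N6436 := rfl
theorem L40489 : sm gb N6436 = N4087 := flp_b L40488
theorem L40490 : sm ge N6436 = N6208 := ded_15_2 L38907 L28567 L40488
theorem L40491 : sm ge N6208 = N6436 := flp_e L40490
theorem L40492 : sm gd N4087 = N6437 := rfl
theorem L40493 : sm gd N6437 = N4087 := flp_d L40492
theorem L40506 : sm gb N4088 = N6439 := rfl
theorem L40507 : sm gb N6439 = N4088 := flp_b L40506
theorem L40532 : sm gb N4091 = N6444 := rfl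
theorem L40533 : sm gb N6444 = N4091 := flp_b L40532
theorem L40534 : sm ga N4092 = N6445 := rfl
theorem L40535 : sm ga N6445 = N4092 := flp_a L40534
theorem L40536 : sm gb N6445 = N4232 := ded_7_2 L29281 L22892 L19659 L8902 L8633 L19478 L22553 L28590 L40534
theorem L40537 : sm gb N4232 = N6445 := flp_b L40536
theorem L40542 : sm gg N4092 = N6448 := rfl
theorem L40543 : sm gg N6448 = N4092 := flp_g L40542
theorem L40544 : sm gb N4093 = N6449 := rfl
theorem L40545 : sm gb N6449 = N4093 := flp_b L40544
theorem L40546 : sm gd N4093 = N6450 := rfl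
theorem L40548 : sm ga N6450 = N4095 := ded_9_1 L28603 L28595 L40546
theorem L40549 : sm ga N4095 = N6450 := flp_a L40548
theorem L40562 : sm ge N4095 = N6454 := rfl
theorem L40563 : sm ge N6454 = N4095 := flp_e L40562
theorem L40578 : sm gb N4097 = N6457 := rfl
theorem L40579 : sm gb N6457 = N4097 := flp_b L40578
theorem L40580 : sm gb N4100 = N6458 := rfl
theorem L40581 : sm gb N6458 = N4100 := flp_b L40580
theorem L40582 : sm ge N6458 = N4151 := ded_15_2 L28933 L28636 L40580
theorem L40583 : sm ge N4151 = N6458 := flp_e L40582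
theorem L40584 : sm gf N6458 = N4105 := ded_16_2 L28662 L22585 L22572 L28629 L40580
theorem L40585 : sm gf N4105 = N6458 := flp_f L40584
theorem L40586 : sm gb N4101 = N6459 := rfl
theorem L40587 : sm gb N6459 = N4101 := flp_b L40586
theorem L40590 : sm gg N6459 = N4106 := ded_17_2 L28666 L22593 L22572 L28637 L40586
theorem L40591 : sm gg N4106 = N6459 := flp_g L40590
theorem L40592 : sm gf N4102 = N6460 := rfl
theorem L40593 : sm gf N6460 = N4102 := flp_f L40592
theorem L40594 : sm ga N6460 = N4108 := ded_11_1 L28677 L28648 L40592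
theorem L40604 : sm gb N4103 = N6462 := rfl
theorem L40605 : sm gb N6462 = N4103 := flp_b L40604
theorem L40606 : sm gd N6462 = N4105 := ded_14_2 L28662 L28654 L40604
theorem L40607 : sm gd N4105 = N6462 := flp_d L40606
theorem L40608 : sm gb N4104 = N6463 := rfl
theorem L40609 : sm gb N6463 = N4104 := flp_b L40608
theorem L40610 : sm gd N6463 = N4106 := ded_14_2 L28666 L28660 L40608
theorem L40611 : sm gd N4106 = N6463 := flp_d L40610
theorem L40612 : sm ga N4105 = N6464 := rfl
theorem L40613 : sm ga N6464 = N4105 := flp_a L40612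
theorem L40614 : sm ge N6464 = N4155 := ded_10_2 L28955 L28664 L40612
theorem L40616 : sm gc N5206 = N6464 := ded_19_3 L40614 L30084 L34206
theorem L40618 : sm gb N6464 = N5217 := ded_13_1 L34261 L25638 L25606 L34203 L40616
theorem L40619 : sm gb N5217 = N6464 := flp_b L40618
theorem L40620 : sm gc N4105 = N6465 := rfl
theorem L40621 : sm gc N6465 = N4105 := flp_c L40620
theorem L40622 : sm ga N6465 = N5206 := ded_8_1 L40616 L40613 L40620
theorem L40623 : sm ga N5206 = N6465 := flp_a L40622
theorem L40624 : sm ge N6465 = N4156 := ded_19_2 L28957 L28664 L40620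
theorem L40625 : sm ge N4156 = N6465 := flp_e L40624
theorem L40626 : sm gb N6465 = N4261 := ded_13_1 L29415 L23008 L22589 L28661 L40620
theorem L40627 : sm gb N4261 = N6465 := flp_b L40626
theorem L40628 : sm gg N6276 = N6465 := ded_26_0 L40624 L37836 L39611
theorem L40629 : sm gg N6465 = N6276 := flp_g L40628
theorem L40630 : sm gg N4105 = N6466 := rfl
theorem L40631 : sm gg N6466 = N4105 := flp_g L40630
theorem L40632 : sm gc N6466 = N6276 := ded_21_1 L40628 L40621 L40630
theorem L40634 : sm ge N6466 = N4157 := ded_26_1 L28961 L28664 L40630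
theorem L40636 : sm ga N4106 = N6467 := rfl
theorem L40637 : sm ga N6467 = N4106 := flp_a L40636
theorem L40640 : sm gc N4106 = N6468 := rfl
theorem L40642 : sm ge N6468 = N4159 := ded_19_2 L28965 L28668 L40640
theorem L40643 : sm ge N4159 = N6468 := flp_e L40642
theorem L40644 : sm gb N6468 = N4264 := ded_13_1 L29427 L23012 L22597 L28665 L40640
theorem L40645 : sm gb N4264 = N6468 := flp_b L40644
theorem L40650 : sm gf N4107 = N6470 := rfl
theorem L40651 : sm gf N6470 = N4107 := flp_f L40650
theorem L40654 : sm gd N6470 = N4108 := ded_23_1 L28677 L28669 L40650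
theorem L40655 : sm gd N4108 = N6470 := flp_d L40654
theorem L40656 : sm ge N6470 = N4108 := ded_25_1 L28677 L28675 L40650
theorem L40657 : sm ge N4108 = N6470 := flp_e L40656
theorem L40658 : sm gg N4107 = N6471 := rfl
theorem L40659 : sm gg N6471 = N4107 := flp_g L40658
theorem L40660 : sm gc N6471 = N4111 := ded_21_1 L28691 L28672 L40658
theorem L40661 : sm gc N4111 = N6471 := flp_c L40660
theorem L40664 : sm ge N6471 = N4109 := ded_26_1 L28681 L28675 L40658
theorem L40665 : sm ge N4109 = N6471 := flp_e L40664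
theorem L40666 : sm gb N4108 = N6472 := rfl
theorem L40667 : sm gb N6472 = N4108 := flp_b L40666
theorem L40668 : sm gf N6472 = N6472 := ded_16_2 L40667 L28677 L22602 L28676 L40666
theorem L40669 : sm gg N4108 = N6473 := rfl
theorem L40670 : sm gg N6473 = N4108 := flp_g L40669
theorem L40671 : sm gc N6473 = N4113 := ded_21_1 L28703 L28679 L40669
theorem L40672 : sm gc N4113 = N6473 := flp_c L40671
theorem L40675 : sm gb N4109 = N6474 := rfl
theorem L40676 : sm gb N6474 = N4109 := flp_b L40675
theorem L40677 : sm gg N6474 = N6474 := ded_17_2 L40676 L28681 L22602 L28680 L40675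
theorem L40678 : sm gf N4109 = N6475 := rfl
theorem L40679 : sm gf N6475 = N4109 := flp_f L40678
theorem L40686 : sm gb N4110 = N6476 := rfl
theorem L40690 : sm ge N6476 = N4112 := ded_15_2 L28697 L28689 L40686
theorem L40691 : sm ge N4112 = N6476 := flp_e L40690
theorem L40692 : sm gf N6476 = N4123 := ded_16_2 L28763 L22650 L22606 L28684 L40686
theorem L40693 : sm gf N4123 = N6476 := flp_f L40692
theorem L40710 : sm gf N4111 = N6479 := rfl
theorem L40711 : sm gf N6479 = N4111 := flp_f L40710
theorem L40714 : sm gd N6479 = N4164 := ded_23_1 L28991 L28693 L40710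
theorem L40715 : sm gd N4164 = N6479 := flp_d L40714
theorem L40716 : sm ge N6479 = N4115 := ded_25_1 L28715 L28695 L40710
theorem L40717 : sm ge N4115 = N6479 := flp_e L40716
theorem L40720 : sm ga N4112 = N6480 := rfl
theorem L40721 : sm ga N6480 = N4112 := flp_a L40720
theorem L40722 : sm gd N6480 = N4116 := ded_9_2 L28723 L28699 L40720
theorem L40724 : sm gf N6480 = N4127 := ded_11_2 L28795 L28701 L40720
theorem L40725 : sm gf N4127 = N6480 := flp_f L40724
theorem L40726 : sm gc N4112 = N6481 := rfl
theorem L40727 : sm gc N6481 = N4112 := flp_c L40726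
theorem L40728 : sm gf N6481 = N4128 := ded_20_2 L28799 L28701 L40726
theorem L40729 : sm gf N4128 = N6481 := flp_f L40728
theorem L40730 : sm gg N4112 = N6482 := rfl
theorem L40731 : sm gg N6482 = N4112 := flp_g L40730
theorem L40732 : sm gd N6482 = N4118 := ded_24_1 L28737 L28699 L40730
theorem L40738 : sm ga N4114 = N6484 := rfl
theorem L40739 : sm ga N6484 = N4114 := flp_a L40738
theorem L40742 : sm gg N6484 = N4131 := ded_12_2 L28810 L28713 L40738
theorem L40743 : sm gg N4131 = N6484 := flp_g L40742
theorem L40748 : sm gf N4114 = N6486 := rfl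
theorem L40749 : sm gf N6486 = N4114 := flp_f L40748
theorem L40752 : sm gb N4115 = N6487 := rfl
theorem L40753 : sm gb N6487 = N4115 := flp_b L40752
theorem L40756 : sm gb N4116 = N6488 := rfl
theorem L40758 : sm ge N6488 = N4173 := ded_15_2 L29037 L28725 L40756
theorem L40759 : sm ge N4173 = N6488 := flp_e L40758
theorem L40760 : sm gc N4116 = N6489 := rfl
theorem L40761 : sm gc N6489 = N4116 := flp_c L40760
theorem L40762 : sm ga N6489 = N4117 := ded_8_1 L28729 L28722 L40760
theorem L40764 : sm ge N6489 = N4174 := ded_19_2 L29039 L28725 L40760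
theorem L40765 : sm ge N4174 = N6489 := flp_e L40764
theorem L40766 : sm gf N6489 = N4136 := ded_20_2 L28829 L28727 L40760
theorem L40768 : sm gd N4117 = N6490 := rfl
theorem L40770 : sm gb N6490 = N4278 := ded_14_1 L29513 L28735 L40768
theorem L40771 : sm gb N4278 = N6490 := flp_b L40770
theorem L40780 : sm gb N4118 = N6492 := rfl
theorem L40781 : sm gb N6492 = N4118 := flp_b L40780
theorem L40782 : sm ge N6492 = N4177 := ded_15_2 L29055 L28739 L40780
theorem L40783 : sm ge N4177 = N6492 := flp_e L40782
theorem L40806 : sm gb N4121 = N6497 := rfl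
theorem L40808 : sm ge N6497 = N4182 := ded_15_2 L29071 L28757 L40806
theorem L40809 : sm ge N4182 = N6497 := flp_e L40808
theorem L40810 : sm gf N6497 = N4122 := ded_16_2 L28759 L22640 L22631 L28752 L40806
theorem L40811 : sm gf N4122 = N6497 := flp_f L40810
theorem L40812 : sm ga N4122 = N6498 := rfl
theorem L40813 : sm ga N6498 = N4122 := flp_a L40812
theorem L40814 : sm ge N6498 = N4183 := ded_10_2 L29075 L28761 L40812
theorem L40815 : sm ge N4183 = N6498 := flp_e L40814
theorem L40816 : sm gc N4122 = N6499 := rfl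
theorem L40817 : sm gc N6499 = N4122 := flp_c L40816
theorem L40818 : sm ge N6499 = N4184 := ded_19_2 L29077 L28761 L40816
theorem L40819 : sm ge N4184 = N6499 := flp_e L40818
theorem L40820 : sm gb N6499 = N4285 := ded_13_1 L29547 L23086 L22644 L28758 L40816
theorem L40821 : sm gb N4285 = N6499 := flp_b L40820
theorem L40822 : sm gg N4122 = N6500 := rfl
theorem L40823 : sm gg N6500 = N4122 := flp_g L40822
theorem L40824 : sm ge N6500 = N4185 := ded_26_1 L29081 L28761 L40822
theorem L40825 : sm ge N4185 = N6500 := flp_e L40824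
theorem L40826 : sm gb N6500 = N6466 := ded_17_1 L40631 L28662 L22648 L28758 L40822
theorem L40827 : sm gb N6466 = N6500 := flp_b L40826
theorem L40828 : sm ga N4123 = N6501 := rfl
theorem L40829 : sm ga N6501 = N4123 := flp_a L40828
theorem L40830 : sm gd N6501 = N4186 := ded_9_2 L29085 L28765 L40828
theorem L40831 : sm gd N4186 = N6501 := flp_d L40830
theorem L40832 : sm ge N6501 = N4127 := ded_10_2 L28795 L28767 L40828
theorem L40833 : sm ge N4127 = N6501 := flp_e L40832
theorem L40834 : sm gc N4123 = N6502 := rfl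
theorem L40835 : sm gc N6502 = N4123 := flp_c L40834
theorem L40836 : sm ge N6502 = N4128 := ded_19_2 L28799 L28767 L40834
theorem L40837 : sm ge N4128 = N6502 := flp_e L40836
theorem L40838 : sm gb N6502 = N6502 := ded_13_1 L40835 L28763 L22651 L28762 L40834
theorem L40839 : sm gg N4123 = N6503 := rfl
theorem L40840 : sm gg N6503 = N4123 := flp_g L40839
theorem L40841 : sm gd N6503 = N4188 := ded_24_1 L29093 L28765 L40839
theorem L40842 : sm gd N4188 = N6503 := flp_d L40841
theorem L40843 : sm ge N6503 = N4129 := ded_26_1 L28802 L28767 L40839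
theorem L40844 : sm ge N4129 = N6503 := flp_e L40843
theorem L40845 : sm gb N4124 = N6504 := rfl
theorem L40846 : sm gb N6504 = N4124 := flp_b L40845
theorem L40847 : sm gd N6504 = N4189 := ded_14_2 L29097 L28772 L40845
theorem L40848 : sm gd N4189 = N6504 := flp_d L40847
theorem L40849 : sm ge N6504 = N4130 := ded_15_2 L28806 L28774 L40845
theorem L40850 : sm ge N4130 = N6504 := flp_e L40849
theorem L40851 : sm ga N4125 = N6505 := rfl
theorem L40853 : sm gd N6505 = N4190 := ded_9_2 L29101 L28780 L40851
theorem L40854 : sm gd N4190 = N6505 := flp_d L40853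
theorem L40855 : sm ge N6505 = N4131 := ded_10_2 L28810 L28782 L40851
theorem L40856 : sm ge N4131 = N6505 := flp_e L40855
theorem L40862 : sm gf N4125 = N6507 := rfl
theorem L40866 : sm ge N6507 = N4133 := ded_25_1 L28817 L28782 L40862
theorem L40867 : sm ge N4133 = N6507 := flp_e L40866
theorem L40868 : sm gb N4126 = N6508 := rfl
theorem L40869 : sm gb N6508 = N4126 := flp_b L40868
theorem L40870 : sm gd N6508 = N4193 := ded_14_2 L29113 L28789 L40868
theorem L40871 : sm gd N4193 = N6508 := flp_d L40870
theorem L40872 : sm ge N6508 = N4134 := ded_15_2 L28821 L28791 L40868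
theorem L40873 : sm ge N4134 = N6508 := flp_e L40872
theorem L40874 : sm gb N4127 = N6509 := rfl
theorem L40875 : sm gb N6509 = N4127 := flp_b L40874
theorem L40876 : sm gd N6509 = N4135 := ded_14_2 L28825 L28797 L40874
theorem L40877 : sm gd N4135 = N6509 := flp_d L40876
theorem L40878 : sm gc N4127 = N6510 := rfl
theorem L40879 : sm gc N6510 = N4127 := flp_c L40878
theorem L40880 : sm ga N6510 = N4128 := ded_8_1 L28799 L28794 L40878
theorem L40881 : sm ga N4128 = N6510 := flp_a L40880
theorem L40882 : sm gg N4127 = N6511 := rfl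
theorem L40883 : sm gg N6511 = N4127 := flp_g L40882
theorem L40886 : sm gd N6511 = N4137 := ded_24_1 L28835 L28797 L40882
theorem L40888 : sm gf N6511 = N6482 := ded_29_2 L40731 L40720 L40724 L40882
theorem L40889 : sm gf N6482 = N6511 := flp_f L40888
theorem L40890 : sm gd N4128 = N6512 := rfl
theorem L40891 : sm gd N6512 = N4128 := flp_d L40890
theorem L40893 : sm gg N4128 = N6513 := rfl
theorem L40894 : sm gg N6513 = N4128 := flp_g L40893
theorem L40895 : sm gc N6513 = N4129 := ded_21_1 L28802 L28798 L40893
theorem L40896 : sm gc N4129 = N6513 := flp_c L40895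
theorem L40897 : sm gb N4129 = N6514 := rfl
theorem L40898 : sm gb N6514 = N4129 := flp_b L40897
theorem L40899 : sm gd N6514 = N4140 := ded_14_2 L28855 L28804 L40897
theorem L40900 : sm gd N4140 = N6514 := flp_d L40899
theorem L40901 : sm gg N6514 = N4130 := ded_17_2 L28806 L22668 L22663 L28801 L40897
theorem L40902 : sm gg N4130 = N6514 := flp_g L40901
theorem L40903 : sm gf N4129 = N6515 := rfl
theorem L40904 : sm gf N6515 = N4129 := flp_f L40903
theorem L40907 : sm gd N6515 = N4141 := ded_23_1 L28863 L28804 L40903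
theorem L40908 : sm gd N4141 = N6515 := flp_d L40907
theorem L40909 : sm gg N6515 = N6480 := ded_29_3 L40721 L28700 L28801 L40903
theorem L40910 : sm gg N6480 = N6515 := flp_g L40909
theorem L40911 : sm ga N4130 = N6516 := rfl
theorem L40912 : sm ga N6516 = N4130 := flp_a L40911
theorem L40913 : sm gd N6516 = N4142 := ded_9_2 L28871 L28808 L40911
theorem L40914 : sm gd N4142 = N6516 := flp_d L40913
theorem L40915 : sm gc N4130 = N6517 := rfl
theorem L40916 : sm gc N6517 = N4130 := flp_c L40915
theorem L40917 : sm gb N6517 = N6517 := ded_13_1 L40916 L28806 L22669 L28805 L40915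
theorem L40918 : sm gf N4130 = N6518 := rfl
theorem L40919 : sm gf N6518 = N4130 := flp_f L40918
theorem L40920 : sm gd N6518 = N4143 := ded_23_1 L28877 L28808 L40918
theorem L40921 : sm gd N4143 = N6518 := flp_d L40920
theorem L40922 : sm gb N6518 = N6399 := ded_16_1 L40316 L28490 L22672 L28805 L40918
theorem L40923 : sm gb N6399 = N6518 := flp_b L40922
theorem L40924 : sm gb N4131 = N6519 := rfl
theorem L40925 : sm gb N6519 = N4131 := flp_b L40924
theorem L40926 : sm gd N6519 = N4144 := ded_14_2 L28885 L28812 L40924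
theorem L40927 : sm gd N4144 = N6519 := flp_d L40926
theorem L40932 : sm gf N4131 = N6521 := rfl
theorem L40933 : sm gf N6521 = N4131 := flp_f L40932
theorem L40938 : sm gg N6486 = N6521 := ded_29_1 L40933 L40743 L40739 L40748
theorem L40947 : sm gb N4133 = N6524 := rfl
theorem L40948 : sm gb N6524 = N4133 := flp_b L40947
theorem L40951 : sm gf N6524 = N4134 := ded_16_2 L28821 L22679 L22674 L28816 L40947
theorem L40952 : sm gf N4134 = N6524 := flp_f L40951
theorem L40961 : sm ga N4134 = N6526 := rfl
theorem L40962 : sm ga N6526 = N4134 := flp_a L40961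
theorem L40963 : sm gd N6526 = N4148 := ded_9_2 L28915 L28823 L40961
theorem L40964 : sm gd N4148 = N6526 := flp_d L40963
theorem L40965 : sm gc N4134 = N6527 := rfl
theorem L40966 : sm gc N6527 = N4134 := flp_c L40965
theorem L40967 : sm gb N6527 = N6527 := ded_13_1 L40966 L28821 L22682 L28820 L40965
theorem L40968 : sm gg N4134 = N6528 := rfl
theorem L40969 : sm gg N6528 = N4134 := flp_g L40968
theorem L40970 : sm gd N6528 = N4149 := ded_24_1 L28919 L28823 L40968
theorem L40971 : sm gd N4149 = N6528 := flp_d L40970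
theorem L40974 : sm gf N4135 = N6529 := rfl
theorem L40975 : sm gf N6529 = N4135 := flp_f L40974
theorem L40978 : sm gg N4135 = N6530 := rfl
theorem L40979 : sm gg N6530 = N4135 := flp_g L40978
theorem L40980 : sm ge N6530 = N4217 := ded_26_1 L29223 L28827 L40978
theorem L40981 : sm ge N4217 = N6530 := flp_e L40980
theorem L40982 : sm gd N4136 = N6531 := rfl
theorem L40983 : sm gd N6531 = N4136 := flp_d L40982
theorem L40984 : sm ga N6531 = N4138 := ded_9_1 L28843 L28831 L40982
theorem L40985 : sm ga N4138 = N6531 := flp_a L40984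
theorem L40986 : sm gg N4136 = N6532 := rfl
theorem L40987 : sm gg N6532 = N4136 := flp_g L40986
theorem L40988 : sm ga N6532 = N4139 := ded_12_1 L28847 L28831 L40986
theorem L40990 : sm gc N6532 = N4137 := ded_21_1 L28835 L28828 L40986
theorem L40991 : sm gc N4137 = N6532 := flp_c L40990
theorem L40992 : sm ge N6532 = N4220 := ded_26_1 L29231 L28833 L40986
theorem L40993 : sm ge N4220 = N6532 := flp_e L40992
theorem L40996 : sm gb N4137 = N6533 := rfl
theorem L40997 : sm gb N6533 = N4137 := flp_b L40996
theorem L40998 : sm ge N6533 = N4221 := ded_15_2 L29239 L28839 L40996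
theorem L40999 : sm ge N4221 = N6533 := flp_e L40998
theorem L41000 : sm gc N4138 = N6534 := rfl
theorem L41001 : sm gc N6534 = N4138 := flp_c L41000
theorem L41002 : sm ge N4138 = N6535 := rfl
theorem L41004 : sm gb N6535 = N4150 := ded_15_1 L28925 L28845 L41002
theorem L41005 : sm gb N4150 = N6535 := flp_b L41004
theorem L41006 : sm gd N6535 = N4223 := ded_22_1 L29243 L22868 L22694 L28842 L41002
theorem L41007 : sm gd N4223 = N6535 := flp_d L41006
theorem L41008 : sm gg N4138 = N6536 := rfl
theorem L41009 : sm gg N6536 = N4138 := flp_g L41008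
theorem L41010 : sm gd N6536 = N4139 := ded_24_1 L28847 L28842 L41008
theorem L41011 : sm gd N4139 = N6536 := flp_d L41010
theorem L41014 : sm gf N4139 = N6537 := rfl
theorem L41015 : sm gf N6537 = N4139 := flp_f L41014
theorem L41018 : sm gc N6537 = N4141 := ded_20_1 L28863 L28849 L41014
theorem L41019 : sm gc N4141 = N6537 := flp_c L41018
theorem L41020 : sm ge N6537 = N4225 := ded_25_1 L29251 L28851 L41014
theorem L41022 : sm gg N6537 = N6489 := ded_29_3 L40762 L28732 L28846 L41014
theorem L41023 : sm gg N6489 = N6537 := flp_g L41022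
theorem L41024 : sm ga N4140 = N6538 := rfl
theorem L41025 : sm ga N6538 = N4140 := flp_a L41024
theorem L41026 : sm gc N6538 = N4226 := ded_8_2 L29259 L28859 L41024
theorem L41027 : sm gc N4226 = N6538 := flp_c L41026
theorem L41028 : sm ge N6538 = N4226 := ded_10_2 L29259 L28857 L41024
theorem L41029 : sm ge N4226 = N6538 := flp_e L41028
theorem L41030 : sm gg N6538 = N4142 := ded_12_2 L28871 L28861 L41024
theorem L41031 : sm gg N4142 = N6538 := flp_g L41030
theorem L41032 : sm gf N4140 = N6539 := rfl
theorem L41033 : sm gf N6539 = N4140 := flp_f L41032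
theorem L41034 : sm gc N6539 = N4227 := ded_20_1 L29263 L28859 L41032
theorem L41038 : sm gb N4141 = N6540 := rfl
theorem L41039 : sm gb N6540 = N4141 := flp_b L41038
theorem L41040 : sm ge N6540 = N4228 := ded_15_2 L29265 L28867 L41038
theorem L41041 : sm ge N4228 = N6540 := flp_e L41040
theorem L41042 : sm gb N4142 = N6541 := rfl
theorem L41043 : sm gb N6541 = N4142 := flp_b L41042
theorem L41044 : sm ge N6541 = N4229 := ded_15_2 L29267 L28875 L41042
theorem L41045 : sm ge N4229 = N6541 := flp_e L41044
theorem L41046 : sm gf N4142 = N6542 := rfl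
theorem L41047 : sm gf N6542 = N4142 := flp_f L41046
theorem L41048 : sm ga N6542 = N4143 := ded_11_1 L28877 L28870 L41046
theorem L41049 : sm ga N4143 = N6542 := flp_a L41048
theorem L41054 : sm gg N6539 = N6542 := ded_29_1 L41047 L41031 L41025 L41032
theorem L41056 : sm gg N4143 = N6543 := rfl
theorem L41057 : sm gg N6543 = N4143 := flp_g L41056
theorem L41058 : sm ga N6543 = N6539 := ded_12_1 L41054 L41048 L41056
theorem L41066 : sm ga N4144 = N6544 := rfl
theorem L41067 : sm ga N6544 = N4144 := flp_a L41066
theorem L41068 : sm ge N6544 = N4232 := ded_10_2 L29281 L28887 L41066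
theorem L41069 : sm ge N4232 = N6544 := flp_e L41068
theorem L41070 : sm gc N4144 = N6545 := rfl
theorem L41071 : sm gc N6545 = N4144 := flp_c L41070
theorem L41072 : sm ge N6545 = N4233 := ded_19_2 L29283 L28887 L41070
theorem L41073 : sm ge N4233 = N6545 := flp_e L41072
theorem L41076 : sm gf N4144 = N6546 := rfl
theorem L41077 : sm gf N6546 = N4144 := flp_f L41076
theorem L41080 : sm gg N4144 = N6547 := rfl
theorem L41081 : sm gg N6547 = N4144 := flp_g L41080
theorem L41082 : sm ge N6547 = N4235 := ded_26_1 L29289 L28887 L41080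
theorem L41083 : sm ge N4235 = N6547 := flp_e L41082
theorem L41084 : sm gb N4145 = N6548 := rfl
theorem L41085 : sm gb N6548 = N4145 := flp_b L41084
theorem L41086 : sm ge N6548 = N4236 := ded_15_2 L29291 L28895 L41084
theorem L41087 : sm ge N4236 = N6548 := flp_e L41086
theorem L41088 : sm ga N4146 = N6549 := rfl
theorem L41089 : sm ga N6549 = N4146 := flp_a L41088
theorem L41090 : sm ge N6549 = N4237 := ded_10_2 L29293 L28901 L41088
theorem L41102 : sm gb N4148 = N6552 := rfl
theorem L41103 : sm gb N6552 = N4148 := flp_b L41102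
theorem L41104 : sm ge N6552 = N4240 := ded_15_2 L29301 L28917 L41102
theorem L41105 : sm ge N4240 = N6552 := flp_e L41104
theorem L41114 : sm gf N4149 = N6554 := rfl
theorem L41115 : sm gf N6554 = N4149 := flp_f L41114
theorem L41118 : sm ge N6554 = N4242 := ded_25_1 L29309 L28921 L41114
theorem L41119 : sm ge N4242 = N6554 := flp_e L41118
theorem L41120 : sm gg N6554 = N6549 := ded_29_3 L41089 L28902 L28918 L41114
theorem L41122 : sm gg N4151 = N6555 := rfl
theorem L41123 : sm gg N6555 = N4151 := flp_g L41122
theorem L41126 : sm ga N4153 = N6557 := rfl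
theorem L41127 : sm ga N6557 = N4153 := flp_a L41126
theorem L41128 : sm gg N6557 = N4158 := ded_12_2 L28963 L28945 L41126
theorem L41129 : sm gg N4158 = N6557 := flp_g L41128
theorem L41130 : sm gc N4153 = N6558 := rfl
theorem L41132 : sm gg N6558 = N4159 := ded_21_2 L28965 L28945 L41130
theorem L41133 : sm gg N4159 = N6558 := flp_g L41132
theorem L41134 : sm gf N4153 = N6559 := rfl
theorem L41136 : sm gb N4154 = N6560 := rfl
theorem L41137 : sm gb N6560 = N4154 := flp_b L41136
theorem L41138 : sm gb N4155 = N6561 := rfl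
theorem L41142 : sm gc N6561 = N4584 := ded_13_2 L31069 L24254 L30046 L30085 L41138
theorem L41144 : sm gg N4155 = N6562 := rfl
theorem L41145 : sm gg N6562 = N4155 := flp_g L41144
theorem L41146 : sm ga N6562 = N4157 := ded_12_1 L28961 L28954 L41144
theorem L41148 : sm gf N6562 = N6555 := ded_29_2 L41123 L30089 L30090 L41144
theorem L41149 : sm gf N6555 = N6562 := flp_f L41148
theorem L41150 : sm gf N4157 = N6563 := rfl
theorem L41151 : sm gf N6563 = N4157 := flp_f L41150
theorem L41152 : sm ga N6563 = N6555 := ded_11_1 L41149 L41146 L41150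
theorem L41154 : sm gc N6563 = N4406 := ded_20_1 L37833 L37840 L41150
theorem L41155 : sm gc N4406 = N6563 := flp_c L41154
theorem L41156 : sm gg N6563 = N4405 := ded_29_3 L30088 L28934 L28960 L41150
theorem L41157 : sm gg N4405 = N6563 := flp_g L41156
theorem L41158 : sm gb N4158 = N6564 := rfl
theorem L41159 : sm gb N6564 = N4158 := flp_b L41158
theorem L41160 : sm gc N4158 = N6565 := rfl
theorem L41162 : sm ga N6565 = N4159 := ded_8_1 L28965 L28962 L41160
theorem L41164 : sm gf N4158 = N6566 := rfl
theorem L41165 : sm gf N6566 = N4158 := flp_f L41164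
theorem L41168 : sm gg N6559 = N6566 := ded_29_1 L41165 L41129 L41127 L41134
theorem L41170 : sm gd N4159 = N6567 := rfl
theorem L41171 : sm gd N6567 = N4159 := flp_d L41170
theorem L41174 : sm gf N4159 = N6568 := rfl
theorem L41175 : sm gf N6568 = N4159 := flp_f L41174
theorem L41178 : sm gg N4160 = N6569 := rfl
theorem L41179 : sm gg N6569 = N4160 := flp_g L41178
theorem L41182 : sm gf N6557 = N6569 := ded_29_0 L41179 L28969 L28945 L41126
theorem L41184 : sm ga N4161 = N6570 := rfl
theorem L41188 : sm gf N6570 = N4186 := ded_11_2 L29085 L28975 L41184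
theorem L41190 : sm gc N4161 = N6571 := rfl
theorem L41191 : sm gc N6571 = N4161 := flp_c L41190
theorem L41192 : sm ge N6571 = N4166 := ded_19_2 L29007 L28973 L41190
theorem L41193 : sm ge N4166 = N6571 := flp_e L41192
theorem L41194 : sm gf N6571 = N4187 := ded_20_2 L29089 L28975 L41190
theorem L41195 : sm gf N4187 = N6571 := flp_f L41194
theorem L41196 : sm gg N4161 = N6572 := rfl
theorem L41197 : sm gg N6572 = N4161 := flp_g L41196
theorem L41198 : sm ge N6572 = N4167 := ded_26_1 L29011 L28973 L41196
theorem L41199 : sm ge N4167 = N6572 := flp_e L41198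
theorem L41204 : sm ga N4163 = N6574 := rfl
theorem L41208 : sm gg N6574 = N4190 := ded_12_2 L29101 L28989 L41204
theorem L41220 : sm gb N4164 = N6577 := rfl
theorem L41221 : sm gb N6577 = N4164 := flp_b L41220
theorem L41222 : sm ge N6577 = N4172 := ded_15_2 L29033 L28997 L41220
theorem L41223 : sm ge N4172 = N6577 := flp_e L41222
theorem L41228 : sm gc N4165 = N6579 := rfl
theorem L41230 : sm ga N6579 = N4166 := ded_8_1 L29007 L29000 L41228
theorem L41231 : sm ga N4166 = N6579 := flp_a L41230
theorem L41232 : sm gf N6579 = N4195 := ded_20_2 L29121 L29005 L41228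
theorem L41233 : sm gf N4195 = N6579 := flp_f L41232
theorem L41234 : sm gd N4166 = N6580 := rfl
theorem L41235 : sm gd N6580 = N4166 := flp_d L41234
theorem L41236 : sm gf N6580 = N4197 := ded_23_2 L29133 L29009 L41234
theorem L41238 : sm gg N4166 = N6581 := rfl
theorem L41239 : sm gg N6581 = N4166 := flp_g L41238
theorem L41240 : sm gc N6581 = N4167 := ded_21_1 L29011 L29006 L41238
theorem L41241 : sm gc N4167 = N6581 := flp_c L41240
theorem L41242 : sm gb N4167 = N6582 := rfl
theorem L41243 : sm gb N6582 = N4167 := flp_b L41242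
theorem L41246 : sm gg N6582 = N4168 := ded_17_2 L29015 L22752 L22745 L29010 L41242
theorem L41252 : sm gc N4168 = N6584 := rfl
theorem L41256 : sm gf N4168 = N6585 := rfl
theorem L41257 : sm gf N6585 = N4168 := flp_f L41256
theorem L41258 : sm gd N6585 = N4180 := ded_23_1 L29065 L29017 L41256
theorem L41259 : sm gd N4180 = N6585 := flp_d L41258
theorem L41266 : sm gc N4169 = N6587 := rfl
theorem L41267 : sm gc N6587 = N4169 := flp_c L41266
theorem L41268 : sm ga N6587 = N4170 := ded_8_1 L29025 L29018 L41266
theorem L41269 : sm ga N4170 = N6587 := flp_a L41268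
theorem L41272 : sm gd N4170 = N6588 := rfl
theorem L41273 : sm gd N6588 = N4170 := flp_d L41272
theorem L41274 : sm gg N6588 = N4207 := ded_24_2 L29183 L29027 L41272
theorem L41275 : sm gg N4207 = N6588 := flp_g L41274
theorem L41280 : sm gb N4171 = N6590 := rfl
theorem L41284 : sm gf N6590 = N4172 := ded_16_2 L29033 L22766 L22759 L29028 L41280
theorem L41285 : sm gf N4172 = N6590 := flp_f L41284
theorem L41286 : sm ga N4172 = N6591 := rfl
theorem L41287 : sm ga N6591 = N4172 := flp_a L41286
theorem L41288 : sm gd N6591 = N4183 := ded_9_2 L29075 L29035 L41286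
theorem L41289 : sm gd N4183 = N6591 := flp_d L41288
theorem L41294 : sm gg N4172 = N6593 := rfl
theorem L41296 : sm gd N6593 = N4185 := ded_24_1 L29081 L29035 L41294
theorem L41297 : sm gd N4185 = N6593 := flp_d L41296
theorem L41298 : sm gb N6593 = N6255 := ded_17_1 L39505 L28020 L22774 L29032 L41294
theorem L41299 : sm gb N6255 = N6593 := flp_b L41298
theorem L41300 : sm ga N4173 = N6594 := rfl
theorem L41301 : sm ga N6594 = N4173 := flp_a L41300
theorem L41302 : sm gc N4173 = N6595 := rfl
theorem L41303 : sm gc N6595 = N4173 := flp_c L41302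
theorem L41304 : sm gf N4173 = N6596 := rfl
theorem L41305 : sm gf N6596 = N4173 := flp_f L41304
theorem L41306 : sm gb N6596 = N4216 := ded_16_1 L29221 L22856 L22778 L29036 L41304
theorem L41307 : sm gb N4216 = N6596 := flp_b L41306
theorem L41308 : sm gg N4173 = N6597 := rfl
theorem L41309 : sm gg N6597 = N4173 := flp_g L41308
theorem L41310 : sm gb N4174 = N6598 := rfl
theorem L41311 : sm gb N6598 = N4174 := flp_b L41310
theorem L41312 : sm gd N4174 = N6599 := rfl
theorem L41314 : sm ga N6599 = N4175 := ded_9_1 L29045 L29041 L41312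
theorem L41316 : sm gf N6599 = N4219 := ded_23_2 L29227 L29043 L41312
theorem L41317 : sm gf N4219 = N6599 := flp_f L41316
theorem L41318 : sm gc N4175 = N6600 := rfl
theorem L41320 : sm gf N6600 = N4222 := ded_20_2 L29241 L29049 L41318
theorem L41322 : sm ge N4175 = N6601 := rfl
theorem L41323 : sm ge N6601 = N4175 := flp_e L41322
theorem L41326 : sm gf N6601 = N4223 := ded_25_2 L29243 L29049 L41322
theorem L41327 : sm gf N4223 = N6601 := flp_f L41326
theorem L41332 : sm gb N4176 = N6603 := rfl
theorem L41333 : sm gb N6603 = N4176 := flp_b L41332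
theorem L41334 : sm gg N6603 = N4346 := ded_17_2 L29823 L23230 L22784 L29050 L41332
theorem L41335 : sm gg N4346 = N6603 := flp_g L41334
theorem L41336 : sm ga N4177 = N6604 := rfl
theorem L41337 : sm ga N6604 = N4177 := flp_a L41336
theorem L41338 : sm gg N6604 = N4178 := ded_12_2 L29059 L29057 L41336
theorem L41339 : sm gg N4178 = N6604 := flp_g L41338
theorem L41340 : sm gc N4177 = N6605 := rfl
theorem L41341 : sm gc N6605 = N4177 := flp_c L41340
theorem L41344 : sm gf N4177 = N6606 := rfl
theorem L41345 : sm gf N6606 = N4177 := flp_f L41344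
theorem L41352 : sm gf N4178 = N6609 := rfl
theorem L41353 : sm gf N6609 = N4178 := flp_f L41352
theorem L41354 : sm ga N6609 = N4180 := ded_11_1 L29065 L29058 L41352
theorem L41356 : sm gg N6606 = N6609 := ded_29_1 L41353 L41339 L41337 L41344
theorem L41357 : sm gg N6609 = N6606 := flp_g L41356
theorem L41366 : sm gg N4180 = N6612 := rfl
theorem L41367 : sm gg N6612 = N4180 := flp_g L41366
theorem L41368 : sm ga N6612 = N6606 := ded_12_1 L41356 L41354 L41366
theorem L41369 : sm ga N6606 = N6612 := flp_a L41368
theorem L41372 : sm ga N4181 = N6613 := rfl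
theorem L41373 : sm ga N6613 = N4181 := flp_a L41372
theorem L41374 : sm gc N4181 = N6614 := rfl
theorem L41376 : sm gb N6614 = N5043 := ded_13_1 L33481 L25300 L22792 L29068 L41374
theorem L41378 : sm gf N4181 = N6615 := rfl
theorem L41379 : sm gf N6615 = N4181 := flp_f L41378
theorem L41380 : sm gg N4181 = N6616 := rfl
theorem L41381 : sm gg N6616 = N4181 := flp_g L41380
theorem L41382 : sm gb N6616 = N4235 := ded_17_1 L29289 L22892 L22794 L29068 L41380
theorem L41383 : sm gb N4235 = N6616 := flp_b L41382
theorem L41384 : sm ga N4182 = N6617 := rfl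
theorem L41386 : sm gf N6617 = N4183 := ded_11_2 L29075 L29073 L41384
theorem L41387 : sm gf N4183 = N6617 := flp_f L41386
theorem L41388 : sm gc N4182 = N6618 := rfl
theorem L41389 : sm gc N6618 = N4182 := flp_c L41388
theorem L41390 : sm gf N6618 = N4184 := ded_20_2 L29077 L29073 L41388
theorem L41391 : sm gf N4184 = N6618 := flp_f L41390
theorem L41392 : sm gb N6618 = N5047 := ded_13_1 L33493 L25302 L22798 L29070 L41388
theorem L41394 : sm gg N4182 = N6619 := rfl
theorem L41395 : sm gg N6619 = N4182 := flp_g L41394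
theorem L41396 : sm gb N4183 = N6620 := rfl
theorem L41397 : sm gb N6620 = N4183 := flp_b L41396
theorem L41398 : sm gc N4183 = N6621 := rfl
theorem L41399 : sm gc N6621 = N4183 := flp_c L41398
theorem L41400 : sm ga N6621 = N4184 := ded_8_1 L29077 L29074 L41398
theorem L41401 : sm ga N4184 = N6621 := flp_a L41400
theorem L41402 : sm gg N4183 = N6622 := rfl
theorem L41403 : sm gg N6622 = N4183 := flp_g L41402
theorem L41404 : sm ga N6622 = N4185 := ded_12_1 L29081 L29074 L41402
theorem L41405 : sm ga N4185 = N6622 := flp_a L41404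
theorem L41406 : sm gf N6622 = N6619 := ded_29_2 L41395 L41384 L41386 L41402
theorem L41408 : sm gd N4184 = N6623 := rfl
theorem L41409 : sm gd N6623 = N4184 := flp_d L41408
theorem L41412 : sm gg N4184 = N6624 := rfl
theorem L41413 : sm gg N6624 = N4184 := flp_g L41412
theorem L41414 : sm gc N6624 = N4185 := ded_21_1 L29081 L29076 L41412
theorem L41416 : sm gb N5993 = N6624 := ded_13_5 L41414 L29082 L37841 L37813 L37816
theorem L41418 : sm gf N4185 = N6625 := rfl
theorem L41419 : sm gf N6625 = N4185 := flp_f L41418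
theorem L41424 : sm gb N4186 = N6626 := rfl
theorem L41425 : sm gb N6626 = N4186 := flp_b L41424
theorem L41426 : sm ge N6626 = N4194 := ded_15_2 L29117 L29087 L41424
theorem L41427 : sm ge N4194 = N6626 := flp_e L41426
theorem L41428 : sm gc N4186 = N6627 := rfl
theorem L41429 : sm gc N6627 = N4186 := flp_c L41428
theorem L41430 : sm ga N6627 = N4187 := ded_8_1 L29089 L29084 L41428
theorem L41431 : sm ga N4187 = N6627 := flp_a L41430
theorem L41434 : sm gg N4186 = N6628 := rfl
theorem L41438 : sm ge N6628 = N4196 := ded_26_1 L29125 L29087 L41434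
theorem L41439 : sm ge N4196 = N6628 := flp_e L41438
theorem L41440 : sm gf N6628 = N6572 := ded_29_2 L41197 L41184 L41188 L41434
theorem L41442 : sm gd N4187 = N6629 := rfl
theorem L41443 : sm gd N6629 = N4187 := flp_d L41442
theorem L41444 : sm gg N4187 = N6630 := rfl
theorem L41445 : sm gg N6630 = N4187 := flp_g L41444
theorem L41448 : sm ge N6630 = N4198 := ded_26_1 L29135 L29091 L41444
theorem L41449 : sm ge N4198 = N6630 := flp_e L41448
theorem L41450 : sm gb N4188 = N6631 := rfl
theorem L41454 : sm gg N6631 = N4189 := ded_17_2 L29097 L22806 L22801 L29092 L41450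
theorem L41455 : sm gg N4189 = N6631 := flp_g L41454
theorem L41456 : sm gf N4188 = N6632 := rfl
theorem L41457 : sm gf N6632 = N4188 := flp_f L41456
theorem L41460 : sm ge N6632 = N4200 := ded_25_1 L29145 L29095 L41456
theorem L41464 : sm ga N4189 = N6633 := rfl
theorem L41465 : sm ga N6633 = N4189 := flp_a L41464
theorem L41466 : sm ge N6633 = N4201 := ded_10_2 L29153 L29099 L41464
theorem L41467 : sm ge N4201 = N6633 := flp_e L41466
theorem L41468 : sm gc N4189 = N6634 := rfl
theorem L41469 : sm gc N6634 = N4189 := flp_c L41468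
theorem L41472 : sm gb N6634 = N4741 := ded_13_1 L31948 L24400 L22808 L29096 L41468
theorem L41473 : sm gb N4741 = N6634 := flp_b L41472
theorem L41474 : sm gf N4189 = N6635 := rfl
theorem L41475 : sm gf N6635 = N4189 := flp_f L41474
theorem L41478 : sm gb N6635 = N4710 := ded_16_1 L31760 L24334 L22811 L29096 L41474
theorem L41479 : sm gb N4710 = N6635 := flp_b L41478
theorem L41480 : sm gb N4190 = N6636 := rfl
theorem L41481 : sm gb N6636 = N4190 := flp_b L41480
theorem L41482 : sm ge N6636 = N4204 := ded_15_2 L29167 L29103 L41480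
theorem L41483 : sm ge N4204 = N6636 := flp_e L41482
theorem L41484 : sm gc N4190 = N6637 := rfl
theorem L41486 : sm ga N6637 = N4191 := ded_8_1 L29105 L29100 L41484
theorem L41487 : sm ga N4191 = N6637 := flp_a L41486
theorem L41498 : sm gd N4191 = N6639 := rfl
theorem L41499 : sm gd N6639 = N4191 := flp_d L41498
theorem L41506 : sm gb N4192 = N6641 := rfl
theorem L41507 : sm gb N6641 = N4192 := flp_b L41506
theorem L41510 : sm gf N6641 = N4193 := ded_16_2 L29113 L22818 L22813 L29108 L41506
theorem L41511 : sm gf N4193 = N6641 := flp_f L41510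
theorem L41512 : sm gg N4192 = N6642 := rfl
theorem L41513 : sm gg N6642 = N4192 := flp_g L41512
theorem L41518 : sm gf N6574 = N6642 := ded_29_0 L41513 L29109 L28989 L41204
theorem L41519 : sm gf N6642 = N6574 := flp_f L41518
theorem L41520 : sm ga N4193 = N6643 := rfl
theorem L41521 : sm ga N6643 = N4193 := flp_a L41520
theorem L41522 : sm ge N6643 = N4211 := ded_10_2 L29203 L29115 L41520
theorem L41523 : sm ge N4211 = N6643 := flp_e L41522
theorem L41524 : sm gc N4193 = N6644 := rfl
theorem L41525 : sm gc N6644 = N4193 := flp_c L41524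
theorem L41528 : sm gb N6644 = N4731 := ded_13_1 L31882 L24378 L22822 L29112 L41524
theorem L41529 : sm gb N4731 = N6644 := flp_b L41528
theorem L41530 : sm gg N4193 = N6645 := rfl
theorem L41531 : sm gg N6645 = N4193 := flp_g L41530
theorem L41532 : sm ge N6645 = N4213 := ded_26_1 L29211 L29115 L41530
theorem L41533 : sm ge N4213 = N6645 := flp_e L41532
theorem L41536 : sm ga N4194 = N6646 := rfl
theorem L41537 : sm ga N6646 = N4194 := flp_a L41536
theorem L41538 : sm gd N6646 = N4214 := ded_9_2 L29217 L29119 L41536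
theorem L41539 : sm gd N4214 = N6646 := flp_d L41538
theorem L41540 : sm gc N4194 = N6647 := rfl
theorem L41541 : sm gc N6647 = N4194 := flp_c L41540
theorem L41542 : sm gf N4194 = N6648 := rfl
theorem L41543 : sm gf N6648 = N4194 := flp_f L41542
theorem L41546 : sm gg N4194 = N6649 := rfl
theorem L41547 : sm gg N6649 = N4194 := flp_g L41546
theorem L41550 : sm gb N4195 = N6650 := rfl
theorem L41551 : sm gb N6650 = N4195 := flp_b L41550
theorem L41552 : sm gd N4195 = N6651 := rfl
theorem L41553 : sm gd N6651 = N4195 := flp_d L41552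
theorem L41554 : sm ga N6651 = N4197 := ded_9_1 L29133 L29123 L41552
theorem L41555 : sm ga N4197 = N6651 := flp_a L41554
theorem L41556 : sm gg N4195 = N6652 := rfl
theorem L41557 : sm gg N6652 = N4195 := flp_g L41556
theorem L41560 : sm gc N6652 = N4196 := ded_21_1 L29125 L29120 L41556
theorem L41561 : sm gc N4196 = N6652 := flp_c L41560
theorem L41564 : sm gb N4196 = N6653 := rfl
theorem L41565 : sm gb N6653 = N4196 := flp_b L41564
theorem L41566 : sm gd N6653 = N4221 := ded_14_2 L29239 L29129 L41564
theorem L41567 : sm gd N4221 = N6653 := flp_d L41566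
theorem L41572 : sm gg N4197 = N6656 := rfl
theorem L41573 : sm gg N6656 = N4197 := flp_g L41572
theorem L41574 : sm gd N6656 = N4198 := ded_24_1 L29135 L29132 L41572
theorem L41575 : sm gd N4198 = N6656 := flp_d L41574
theorem L41578 : sm gf N4198 = N6658 := rfl
theorem L41579 : sm gf N6658 = N4198 := flp_f L41578
theorem L41586 : sm ga N4199 = N6659 := rfl
theorem L41588 : sm gd N6659 = N4226 := ded_9_2 L29259 L29141 L41586
theorem L41590 : sm gg N6659 = N4201 := ded_12_2 L29153 L29143 L41586
theorem L41591 : sm gg N4201 = N6659 := flp_g L41590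
theorem L41592 : sm gc N4199 = N6660 := rfl
theorem L41593 : sm gc N6660 = N4199 := flp_c L41592
theorem L41594 : sm gg N6660 = N4202 := ded_21_2 L29157 L29143 L41592
theorem L41595 : sm gg N4202 = N6660 := flp_g L41594
theorem L41600 : sm gb N4200 = N6662 := rfl
theorem L41601 : sm gb N6662 = N4200 := flp_b L41600
theorem L41602 : sm gd N6662 = N4228 := ded_14_2 L29265 L29149 L41600
theorem L41603 : sm gd N4228 = N6662 := flp_d L41602
theorem L41604 : sm gb N4201 = N6663 := rfl
theorem L41605 : sm gb N6663 = N4201 := flp_b L41604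
theorem L41608 : sm gc N4201 = N6664 := rfl
theorem L41609 : sm gc N6664 = N4201 := flp_c L41608
theorem L41610 : sm ga N6664 = N4202 := ded_8_1 L29157 L29152 L41608
theorem L41611 : sm ga N4202 = N6664 := flp_a L41610
theorem L41612 : sm gf N4201 = N6665 := rfl
theorem L41613 : sm gf N6665 = N4201 := flp_f L41612
theorem L41614 : sm ga N6665 = N4203 := ded_11_1 L29161 L29152 L41612
theorem L41615 : sm ga N4203 = N6665 := flp_a L41614
theorem L41620 : sm gd N4202 = N6666 := rfl
theorem L41621 : sm gd N6666 = N4202 := flp_d L41620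
theorem L41622 : sm gb N6666 = N4785 := ded_14_1 L32148 L29159 L41620
theorem L41623 : sm gb N4785 = N6666 := flp_b L41622
theorem L41624 : sm gf N4202 = N6667 := rfl
theorem L41625 : sm gf N6667 = N4202 := flp_f L41624
theorem L41626 : sm gc N6667 = N4203 := ded_20_1 L29161 L29156 L41624
theorem L41627 : sm gc N4203 = N6667 := flp_c L41626
theorem L41628 : sm gg N4203 = N6668 := rfl
theorem L41629 : sm gg N6668 = N4203 := flp_g L41628
theorem L41632 : sm gd N6668 = N4231 := ded_24_1 L29275 L29163 L41628
theorem L41633 : sm gd N4231 = N6668 := flp_d L41632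
theorem L41634 : sm gf N6659 = N6668 := ded_29_0 L41629 L29161 L29143 L41586
theorem L41635 : sm gf N6668 = N6659 := flp_f L41634
theorem L41636 : sm ga N4204 = N6669 := rfl
theorem L41637 : sm ga N6669 = N4204 := flp_a L41636
theorem L41642 : sm gf N4204 = N6671 := rfl
theorem L41643 : sm gf N6671 = N4204 := flp_f L41642
theorem L41646 : sm gg N4204 = N6672 := rfl
theorem L41647 : sm gg N6672 = N4204 := flp_g L41646
theorem L41648 : sm gd N6672 = N4235 := ded_24_1 L29289 L29169 L41646
theorem L41649 : sm gd N4235 = N6672 := flp_d L41648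
theorem L41664 : sm ge N4207 = N6676 := rfl
theorem L41665 : sm ge N6676 = N4207 := flp_e L41664
theorem L41666 : sm gf N4207 = N6677 := rfl
theorem L41667 : sm gf N6677 = N4207 := flp_f L41666
theorem L41668 : sm gd N6677 = N4208 := ded_23_1 L29185 L29182 L41666
theorem L41669 : sm gd N4208 = N6677 := flp_d L41668
theorem L41672 : sm gg N4208 = N6679 := rfl
theorem L41673 : sm gg N6679 = N4208 := flp_g L41672
theorem L41686 : sm gc N4209 = N6681 := rfl
theorem L41688 : sm gf N6681 = N4212 := ded_20_2 L29207 L29193 L41686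
theorem L41690 : sm gg N4209 = N6682 := rfl
theorem L41691 : sm gg N6682 = N4209 := flp_g L41690
theorem L41692 : sm gd N6682 = N4238 := ded_24_1 L29297 L29191 L41690
theorem L41693 : sm gd N4238 = N6682 := flp_d L41692
theorem L41698 : sm gb N4211 = N6684 := rfl
theorem L41700 : sm gd N6684 = N4240 := ded_14_2 L29301 L29205 L41698
theorem L41701 : sm gd N4240 = N6684 := flp_d L41700
theorem L41702 : sm gc N4211 = N6685 := rfl
theorem L41703 : sm gc N6685 = N4211 := flp_c L41702
theorem L41704 : sm ga N6685 = N4212 := ded_8_1 L29207 L29202 L41702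
theorem L41705 : sm ga N4212 = N6685 := flp_a L41704
theorem L41714 : sm gd N4212 = N6687 := rfl
theorem L41715 : sm gd N6687 = N4212 := flp_d L41714
theorem L41722 : sm gf N4213 = N6689 := rfl
theorem L41726 : sm gd N6689 = N4242 := ded_23_1 L29309 L29213 L41722
theorem L41727 : sm gd N4242 = N6689 := flp_d L41726
theorem L41730 : sm gf N4214 = N6690 := rfl
theorem L41731 : sm gf N6690 = N4214 := flp_f L41730
theorem L41732 : sm ga N6690 = N4216 := ded_11_1 L29221 L29216 L41730
theorem L41733 : sm ga N4216 = N6690 := flp_a L41732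
theorem L41736 : sm gg N4214 = N6691 := rfl
theorem L41737 : sm gg N6691 = N4214 := flp_g L41736
theorem L41738 : sm ga N6691 = N4217 := ded_12_1 L29223 L29216 L41736
theorem L41739 : sm ga N4217 = N6691 := flp_a L41738
theorem L41740 : sm gc N6691 = N6332 := ded_21_1 L39945 L38766 L41736
theorem L41741 : sm gc N6332 = N6691 := flp_c L41740
theorem L41746 : sm gf N4215 = N6693 := rfl
theorem L41747 : sm gf N6693 = N4215 := flp_f L41746
theorem L41750 : sm gc N6693 = N4216 := ded_20_1 L29221 L29218 L41746
theorem L41752 : sm gg N4215 = N6694 := rfl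
theorem L41753 : sm gg N6694 = N4215 := flp_g L41752
theorem L41754 : sm ga N6694 = N6332 := ded_12_1 L39945 L38765 L41752
theorem L41755 : sm ga N6332 = N6694 := flp_a L41754
theorem L41756 : sm gc N6694 = N4217 := ded_21_1 L29223 L29218 L41752
theorem L41757 : sm gc N4217 = N6694 := flp_c L41756
theorem L41758 : sm gg N4216 = N6695 := rfl
theorem L41759 : sm gg N6695 = N4216 := flp_g L41758
theorem L41760 : sm gf N6691 = N6695 := ded_29_0 L41759 L29221 L29222 L41739
theorem L41762 : sm gb N4217 = N6696 := rfl
theorem L41763 : sm gb N6696 = N4217 := flp_b L41762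
theorem L41764 : sm gg N6696 = N4221 := ded_17_2 L29239 L22862 L22855 L29222 L41762
theorem L41772 : sm gd N4218 = N6698 := rfl
theorem L41773 : sm gd N6698 = N4218 := flp_d L41772
theorem L41776 : sm gf N4218 = N6699 := rfl
theorem L41777 : sm gf N6699 = N4218 := flp_f L41776
theorem L41778 : sm gg N4218 = N6700 := rfl
theorem L41779 : sm gg N6700 = N4218 := flp_g L41778
theorem L41790 : sm gg N4219 = N6703 := rfl
theorem L41791 : sm gg N6703 = N4219 := flp_g L41790
theorem L41794 : sm gd N6703 = N4220 := ded_24_1 L29231 L29226 L41790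
theorem L41795 : sm gd N4220 = N6703 := flp_d L41794
theorem L41798 : sm gb N4220 = N6704 := rfl
theorem L41799 : sm gb N6704 = N4220 := flp_b L41798
theorem L41800 : sm ga N4221 = N6705 := rfl
theorem L41801 : sm ga N6705 = N4221 := flp_a L41800
theorem L41802 : sm gc N4221 = N6706 := rfl
theorem L41803 : sm gc N6706 = N4221 := flp_c L41802
theorem L41804 : sm gf N4221 = N6707 := rfl
theorem L41805 : sm gf N6707 = N4221 := flp_f L41804
theorem L41806 : sm gb N6707 = N6606 := ded_16_1 L41345 L29055 L22866 L29238 L41804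
theorem L41808 : sm gd N4222 = N6708 := rfl
theorem L41809 : sm gd N6708 = N4222 := flp_d L41808
theorem L41812 : sm gc N6651 = N6708 := ded_28_0 L41809 L29241 L22868 L19651 L19625 L22831 L29132 L41555
theorem L41818 : sm gg N4222 = N6710 := rfl
theorem L41819 : sm gg N6710 = N4222 := flp_g L41818
theorem L41822 : sm gg N4223 = N6711 := rfl
theorem L41823 : sm gg N6711 = N4223 := flp_g L41822
theorem L41824 : sm ge N6711 = N4224 := ded_26_1 L29247 L29242 L41822
theorem L41825 : sm ge N4224 = N6711 := flp_e L41824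
theorem L41826 : sm gf N4224 = N6712 := rfl
theorem L41827 : sm gf N6712 = N4224 := flp_f L41826
theorem L41832 : sm gg N6712 = N6599 := ded_29_3 L41314 L29048 L29246 L41826
theorem L41833 : sm gg N6599 = N6712 := flp_g L41832
theorem L41834 : sm gb N4225 = N6713 := rfl
theorem L41835 : sm gb N6713 = N4225 := flp_b L41834
theorem L41836 : sm gb N4226 = N6714 := rfl
theorem L41837 : sm gb N6714 = N4226 := flp_b L41836
theorem L41838 : sm gb N4227 = N6715 := rfl
theorem L41840 : sm gf N6715 = N4228 := ded_16_2 L29265 L22880 L22875 L29262 L41838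
theorem L41841 : sm gf N4228 = N6715 := flp_f L41840
theorem L41842 : sm ga N4228 = N6716 := rfl
theorem L41843 : sm ga N6716 = N4228 := flp_a L41842
theorem L41844 : sm gc N4228 = N6717 := rfl
theorem L41845 : sm gc N6717 = N4228 := flp_c L41844
theorem L41846 : sm gg N4228 = N6718 := rfl
theorem L41847 : sm gg N6718 = N4228 := flp_g L41846
theorem L41850 : sm ga N4229 = N6719 := rfl
theorem L41851 : sm ga N6719 = N4229 := flp_a L41850
theorem L41854 : sm gf N4229 = N6721 := rfl
theorem L41855 : sm gf N6721 = N4229 := flp_f L41854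
theorem L41856 : sm gg N4229 = N6722 := rfl
theorem L41857 : sm gg N6722 = N4229 := flp_g L41856
theorem L41858 : sm gb N4230 = N6723 := rfl
theorem L41860 : sm gb N4231 = N6724 := rfl
theorem L41861 : sm gb N6724 = N4231 := flp_b L41860
theorem L41862 : sm gg N6724 = N6457 := ded_17_2 L40579 L28611 L22890 L29274 L41860
theorem L41863 : sm gg N6457 = N6724 := flp_g L41862
theorem L41868 : sm gf N4232 = N6726 := rfl
theorem L41869 : sm gf N6726 = N4232 := flp_f L41868
theorem L41870 : sm ga N6726 = N4234 := ded_11_1 L29287 L29280 L41868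
theorem L41871 : sm ga N4234 = N6726 := flp_a L41870
theorem L41872 : sm gg N4232 = N6727 := rfl
theorem L41873 : sm gg N6727 = N4232 := flp_g L41872
theorem L41874 : sm ga N6727 = N4235 := ded_12_1 L29289 L29280 L41872
theorem L41875 : sm ga N4235 = N6727 := flp_a L41874
theorem L41880 : sm gf N4233 = N6729 := rfl
theorem L41881 : sm gf N6729 = N4233 := flp_f L41880
theorem L41884 : sm gg N4233 = N6730 := rfl
theorem L41886 : sm gc N6730 = N4235 := ded_21_1 L29289 L29282 L41884
theorem L41888 : sm gb N4234 = N6731 := rfl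
theorem L41889 : sm gb N6731 = N4234 := flp_b L41888
theorem L41890 : sm gf N6731 = N4236 := ded_16_2 L29291 L22894 L22891 L29286 L41888
theorem L41891 : sm gf N4236 = N6731 := flp_f L41890
theorem L41892 : sm gg N4234 = N6732 := rfl
theorem L41893 : sm gg N6732 = N4234 := flp_g L41892
theorem L41894 : sm gf N6727 = N6732 := ded_29_0 L41893 L29287 L29288 L41875
theorem L41895 : sm gf N6732 = N6727 := flp_f L41894
theorem L41896 : sm gf N4235 = N6733 := rfl
theorem L41897 : sm gf N6733 = N4235 := flp_f L41896
theorem L41898 : sm ga N6733 = N6732 := ded_11_1 L41895 L41874 L41896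
theorem L41902 : sm ga N4236 = N6734 := rfl
theorem L41904 : sm gc N4236 = N6735 := rfl
theorem L41905 : sm gc N6735 = N4236 := flp_c L41904
theorem L41906 : sm gb N6735 = N5139 := ded_13_1 L33895 L25466 L22898 L29290 L41904
theorem L41908 : sm gg N4236 = N6736 := rfl
theorem L41909 : sm gg N6736 = N4236 := flp_g L41908
theorem L41910 : sm gb N6736 = N6619 := ded_17_1 L41395 L29071 L22899 L29290 L41908
theorem L41911 : sm gb N6619 = N6736 := flp_b L41910
theorem L41912 : sm gb N4237 = N6737 := rfl
theorem L41913 : sm gb N6737 = N4237 := flp_b L41912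
theorem L41914 : sm gb N4238 = N6738 := rfl
theorem L41916 : sm gg N6738 = N4239 := ded_17_2 L29299 L22906 L22901 L29296 L41914
theorem L41924 : sm gf N4239 = N6741 := rfl
theorem L41926 : sm gb N6741 = N6615 := ded_16_1 L41379 L29069 L22911 L29298 L41924
theorem L41928 : sm ga N4240 = N6742 := rfl
theorem L41929 : sm ga N6742 = N4240 := flp_a L41928
theorem L41930 : sm gb N6742 = N6719 := ded_7_2 L41851 L29267 L22886 L19657 L8906 L19666 L22913 L29300 L41928
theorem L41931 : sm gb N6719 = N6742 := flp_b L41930
theorem L41932 : sm gc N4240 = N6743 := rfl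
theorem L41933 : sm gc N6743 = N4240 := flp_c L41932
theorem L41934 : sm gf N4240 = N6744 := rfl
theorem L41935 : sm gf N6744 = N4240 := flp_f L41934
theorem L41936 : sm gg N4240 = N6745 := rfl
theorem L41937 : sm gg N6745 = N4240 := flp_g L41936
theorem L41940 : sm gb N4242 = N6747 := rfl
theorem L41941 : sm gb N6747 = N4242 := flp_b L41940
theorem L41942 : sm gf N6747 = N6444 := ded_16_2 L40533 L28585 L22918 L29308 L41940
theorem L41943 : sm gf N6444 = N6747 := flp_f L41942
theorem L41944 : sm gb N4243 = N6748 := rfl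
theorem L41945 : sm gb N6748 = N4243 := flp_b L41944
theorem L41946 : sm ge N6748 = N5935 := ded_15_2 L37574 L30356 L41944
theorem L41947 : sm ge N5935 = N6748 := flp_e L41946
theorem L41948 : sm gf N4897 = N6748 := ded_25_0 L41946 L37573 L32785
theorem L41950 : sm gd N4243 = N6749 := rfl
theorem L41951 : sm gd N6749 = N4243 := flp_d L41950
theorem L41952 : sm ga N6749 = N4244 := ded_9_1 L29317 L29314 L41950
theorem L41953 : sm ga N4244 = N6749 := flp_a L41952
theorem L41954 : sm gf N4243 = N6750 := rfl
theorem L41955 : sm gf N6750 = N4243 := flp_f L41954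
theorem L41956 : sm ga N6750 = N4245 := ded_11_1 L29321 L29314 L41954
theorem L41958 : sm ge N6750 = N5913 := ded_25_1 L37479 L30356 L41954
theorem L41960 : sm gb N6750 = N4888 := ded_16_1 L32728 L32782 L41948 L41945 L41954
theorem L41962 : sm gg N4243 = N6751 := rfl
theorem L41963 : sm gg N6751 = N4243 := flp_g L41962
theorem L41964 : sm ga N6751 = N4246 := ded_12_1 L29325 L29314 L41962
theorem L41965 : sm ga N4246 = N6751 := flp_a L41964
theorem L41966 : sm gc N4244 = N6752 := rfl
theorem L41968 : sm gb N6752 = N6133 := ded_13_1 L38535 L27747 L22927 L29319 L41966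
theorem L41969 : sm gb N6133 = N6752 := flp_b L41968
theorem L41970 : sm ge N4244 = N6753 := rfl
theorem L41971 : sm ge N6753 = N4244 := flp_e L41970
theorem L41972 : sm gb N6753 = N4247 := ded_15_1 L29327 L29319 L41970
theorem L41973 : sm gb N4247 = N6753 := flp_b L41972
theorem L41974 : sm gf N4244 = N6754 := rfl
theorem L41975 : sm gf N6754 = N4244 := flp_f L41974
theorem L41976 : sm gd N6754 = N4245 := ded_23_1 L29321 L29316 L41974
theorem L41977 : sm gd N4245 = N6754 := flp_d L41976
theorem L41978 : sm gb N6754 = N4439 := ded_16_1 L30259 L23409 L22926 L29319 L41974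
theorem L41980 : sm gg N4244 = N6755 := rfl
theorem L41981 : sm gg N6755 = N4244 := flp_g L41980
theorem L41982 : sm gd N6755 = N4246 := ded_24_1 L29325 L29316 L41980
theorem L41983 : sm gd N4246 = N6755 := flp_d L41982
theorem L41984 : sm gg N4245 = N6756 := rfl
theorem L41985 : sm gg N6756 = N4245 := flp_g L41984
theorem L41986 : sm gf N6751 = N6756 := ded_29_0 L41985 L29321 L29324 L41965
theorem L41987 : sm gf N6756 = N6751 := flp_f L41986
theorem L41988 : sm gf N4246 = N6757 := rfl
theorem L41989 : sm gf N6757 = N4246 := flp_f L41988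
theorem L41990 : sm ga N6757 = N6756 := ded_11_1 L41987 L41964 L41988
theorem L41991 : sm ga N6756 = N6757 := flp_a L41990
theorem L41992 : sm gg N6757 = N6750 := ded_29_3 L41956 L29321 L29324 L41988
theorem L41993 : sm gg N6750 = N6757 := flp_g L41992
theorem L41994 : sm ga N4248 = N6758 := rfl
theorem L41995 : sm ga N6758 = N4248 := flp_a L41994
theorem L41996 : sm ge N6758 = N4404 := ded_10_2 L30075 L29337 L41994
theorem L41997 : sm ge N4404 = N6758 := flp_e L41996
theorem L41998 : sm gf N6758 = N6465 := ded_11_2 L40622 L34207 L41994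
theorem L42000 : sm gc N6458 = N6758 := ded_19_3 L41996 L30083 L40583
theorem L42002 : sm gc N4248 = N6759 := rfl
theorem L42003 : sm gc N6759 = N4248 := flp_c L42002
theorem L42004 : sm ga N6759 = N6458 := ded_8_1 L42000 L41995 L42002
theorem L42006 : sm ge N6759 = N4405 := ded_19_2 L30087 L29337 L42002
theorem L42007 : sm ge N4405 = N6759 := flp_e L42006
theorem L42010 : sm gb N6759 = N4498 := ded_13_1 L30603 L23614 L22942 L29334 L42002
theorem L42011 : sm gb N4498 = N6759 := flp_b L42010
theorem L42012 : sm gg N4248 = N6760 := rfl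
theorem L42013 : sm gg N6760 = N4248 := flp_g L42012
theorem L42014 : sm ge N6760 = N4406 := ded_26_1 L30095 L29337 L42012
theorem L42015 : sm ge N4406 = N6760 := flp_e L42014
theorem L42016 : sm gf N6760 = N6276 := ded_29_2 L40628 L40622 L34207 L42012
theorem L42017 : sm gf N6276 = N6760 := flp_f L42016
theorem L42018 : sm ga N4249 = N6761 := rfl
theorem L42019 : sm ga N6761 = N4249 := flp_a L42018
theorem L42020 : sm ge N6761 = N4356 := ded_10_2 L29859 L29341 L42018
theorem L42021 : sm ge N4356 = N6761 := flp_e L42020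
theorem L42022 : sm gc N4249 = N6762 := rfl
theorem L42024 : sm ge N6762 = N4357 := ded_19_2 L29863 L29341 L42022
theorem L42025 : sm ge N4357 = N6762 := flp_e L42024
theorem L42026 : sm gb N6762 = N4501 := ded_13_1 L30615 L23618 L22950 L29338 L42022
theorem L42027 : sm gb N4501 = N6762 := flp_b L42026
theorem L42032 : sm ga N4250 = N6764 := rfl
theorem L42033 : sm ga N6764 = N4250 := flp_a L42032
theorem L42034 : sm ge N6764 = N4412 := ded_10_2 L30127 L29345 L42032
theorem L42036 : sm gb N6243 = N6764 := ded_15_3 L42034 L38708 L39091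
theorem L42037 : sm gb N6764 = N6243 := flp_b L42036
theorem L42044 : sm gf N4250 = N6766 := rfl
theorem L42045 : sm gf N6766 = N4250 := flp_f L42044
theorem L42046 : sm ge N6766 = N4414 := ded_25_1 L30135 L29345 L42044
theorem L42047 : sm ge N4414 = N6766 := flp_e L42046
theorem L42050 : sm ga N4251 = N6767 := rfl
theorem L42051 : sm ga N6767 = N4251 := flp_a L42050
theorem L42054 : sm gf N6767 = N4284 := ded_11_2 L29543 L29351 L42050
theorem L42055 : sm gf N4284 = N6767 := flp_f L42054
theorem L42056 : sm gc N4251 = N6768 := rfl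
theorem L42057 : sm gc N6768 = N4251 := flp_c L42056
theorem L42058 : sm ge N6768 = N4361 := ded_19_2 L29883 L29349 L42056
theorem L42059 : sm ge N4361 = N6768 := flp_e L42058
theorem L42060 : sm gf N6768 = N4285 := ded_20_2 L29547 L29351 L42056
theorem L42061 : sm gf N4285 = N6768 := flp_f L42060
theorem L42062 : sm gb N6768 = N4530 := ded_13_1 L30779 L23702 L22966 L29346 L42056
theorem L42063 : sm gb N4530 = N6768 := flp_b L42062
theorem L42064 : sm gg N4251 = N6769 := rfl
theorem L42065 : sm gg N6769 = N4251 := flp_g L42064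
theorem L42068 : sm gb N6769 = N6760 := ded_17_1 L42013 L29335 L22970 L29346 L42064
theorem L42069 : sm gb N6760 = N6769 := flp_b L42068
theorem L42070 : sm gb N4252 = N6770 := rfl
theorem L42071 : sm gb N6770 = N4252 := flp_b L42070
theorem L42072 : sm gd N6770 = N4254 := ded_14_2 L29369 L29357 L42070
theorem L42073 : sm gd N4254 = N6770 := flp_d L42072
theorem L42074 : sm ge N6770 = N4503 := ded_15_2 L30623 L29359 L42070
theorem L42075 : sm ge N4503 = N6770 := flp_e L42074
theorem L42076 : sm gf N6770 = N4258 := ded_16_2 L29399 L22988 L22974 L29352 L42070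
theorem L42077 : sm gf N4258 = N6770 := flp_f L42076
theorem L42078 : sm gg N4252 = N6771 := rfl
theorem L42082 : sm gd N6771 = N4255 := ded_24_1 L29375 L29357 L42078
theorem L42083 : sm gd N4255 = N6771 := flp_d L42082
theorem L42084 : sm ge N6771 = N4504 := ded_26_1 L30629 L29359 L42078
theorem L42085 : sm ge N4504 = N6771 := flp_e L42084
theorem L42088 : sm gb N4253 = N6772 := rfl
theorem L42092 : sm ge N6772 = N4505 := ded_15_2 L30637 L29367 L42088
theorem L42093 : sm ge N4505 = N6772 := flp_e L42092
theorem L42094 : sm gg N6772 = N4259 := ded_17_2 L29405 L22998 L22974 L29360 L42088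
theorem L42095 : sm gg N4259 = N6772 := flp_g L42094
theorem L42108 : sm ga N4254 = N6774 := rfl
theorem L42109 : sm ga N6774 = N4254 := flp_a L42108
theorem L42110 : sm ge N6774 = N4317 := ded_10_2 L29707 L29371 L42108
theorem L42112 : sm gf N6774 = N4260 := ded_11_2 L29411 L29373 L42108
theorem L42114 : sm gc N6108 = N6774 := ded_19_3 L42110 L29710 L38401
theorem L42116 : sm gc N4254 = N6775 := rfl
theorem L42117 : sm gc N6775 = N4254 := flp_c L42116
theorem L42118 : sm ga N6775 = N6108 := ded_8_1 L42114 L42109 L42116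
theorem L42122 : sm gf N6775 = N4261 := ded_20_2 L29415 L29373 L42116
theorem L42124 : sm gg N4254 = N6776 := rfl
theorem L42125 : sm gg N6776 = N4254 := flp_g L42124
theorem L42126 : sm ge N6776 = N4319 := ded_26_1 L29719 L29371 L42124
theorem L42127 : sm ge N4319 = N6776 := flp_e L42126
theorem L42128 : sm gb N4255 = N6777 := rfl
theorem L42129 : sm gb N6777 = N4255 := flp_b L42128
theorem L42132 : sm ga N4256 = N6778 := rfl
theorem L42133 : sm ga N6778 = N4256 := flp_a L42132
theorem L42134 : sm ge N6778 = N4321 := ded_10_2 L29723 L29385 L42132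
theorem L42136 : sm gg N6778 = N4263 := ded_12_2 L29423 L29387 L42132
theorem L42137 : sm gg N4263 = N6778 := flp_g L42136
theorem L42138 : sm gc N4256 = N6779 := rfl
theorem L42139 : sm gc N6779 = N4256 := flp_c L42138
theorem L42140 : sm ge N6779 = N4322 := ded_19_2 L29727 L29385 L42138
theorem L42141 : sm ge N4322 = N6779 := flp_e L42140
theorem L42142 : sm gg N6779 = N4264 := ded_21_2 L29427 L29387 L42138
theorem L42143 : sm gg N4264 = N6779 := flp_g L42142
theorem L42144 : sm gf N4256 = N6780 := rfl
theorem L42146 : sm ge N6780 = N4323 := ded_25_1 L29731 L29385 L42144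
theorem L42147 : sm ge N4323 = N6780 := flp_e L42146
theorem L42148 : sm gb N4257 = N6781 := rfl
theorem L42149 : sm gb N6781 = N4257 := flp_b L42148
theorem L42150 : sm ge N6781 = N4324 := ded_15_2 L29733 L29395 L42148
theorem L42152 : sm gg N6781 = N6775 := ded_31_3 L42122 L40627 L40629 L42017 L42069 L42065 L29350 L23086 L19758 L19711 L19698 L22983 L29388 L42148
theorem L42153 : sm gg N6775 = N6781 := flp_g L42152
theorem L42154 : sm gc N6776 = N6781 := ded_19_3 L42150 L37845 L42127
theorem L42162 : sm gc N4258 = N6783 := rfl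
theorem L42163 : sm gc N6783 = N4258 := flp_c L42162
theorem L42166 : sm gb N6783 = N6571 := ded_13_1 L41191 L28971 L22992 L29398 L42162
theorem L42167 : sm gb N6571 = N6783 := flp_b L42166
theorem L42168 : sm gg N4258 = N6784 := rfl
theorem L42169 : sm gg N6784 = N4258 := flp_g L42168
theorem L42170 : sm gd N6784 = N4262 := ded_24_1 L29419 L29401 L42168
theorem L42171 : sm gd N4262 = N6784 := flp_d L42170
theorem L42172 : sm ge N6784 = N6234 := ded_26_1 L39039 L29403 L42168
theorem L42173 : sm ge N6234 = N6784 := flp_e L42172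
theorem L42174 : sm ga N4259 = N6785 := rfl
theorem L42175 : sm ga N6785 = N4259 := flp_a L42174
theorem L42178 : sm ge N6785 = N6235 := ded_10_2 L39043 L29409 L42174
theorem L42179 : sm ge N6235 = N6785 := flp_e L42178
theorem L42186 : sm gf N4259 = N6787 := rfl
theorem L42187 : sm gf N6787 = N4259 := flp_f L42186
theorem L42188 : sm gd N6787 = N4265 := ded_23_1 L29431 L29407 L42186
theorem L42189 : sm gd N4265 = N6787 := flp_d L42188
theorem L42192 : sm gc N4260 = N6788 := rfl
theorem L42193 : sm gc N6788 = N4260 := flp_c L42192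
theorem L42194 : sm ga N6788 = N4261 := ded_8_1 L29415 L29410 L42192
theorem L42195 : sm ga N4261 = N6788 := flp_a L42194
theorem L42196 : sm ge N6788 = N4326 := ded_19_2 L29737 L29413 L42192
theorem L42198 : sm gf N6788 = N6108 := ded_20_2 L42114 L42112 L42192
theorem L42199 : sm gf N6108 = N6788 := flp_f L42198
theorem L42200 : sm gb N6127 = N6788 := ded_15_3 L42196 L29743 L38507
theorem L42202 : sm gg N4260 = N6789 := rfl
theorem L42203 : sm gg N6789 = N4260 := flp_g L42202
theorem L42204 : sm ga N6789 = N4262 := ded_12_1 L29419 L29410 L42202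
theorem L42205 : sm ga N4262 = N6789 := flp_a L42204
theorem L42208 : sm gf N6789 = N6776 := ded_29_2 L42125 L42108 L42112 L42202
theorem L42209 : sm gf N6776 = N6789 := flp_f L42208
theorem L42210 : sm gd N4261 = N6790 := rfl
theorem L42211 : sm gd N6790 = N4261 := flp_d L42210
theorem L42212 : sm gg N4261 = N6791 := rfl
theorem L42214 : sm gc N6791 = N4262 := ded_21_1 L29419 L29414 L42212
theorem L42215 : sm gc N4262 = N6791 := flp_c L42214
theorem L42218 : sm gb N6791 = N6273 := ded_17_1 L39594 L39608 L40628 L40626 L42212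
theorem L42220 : sm gf N4262 = N6792 := rfl
theorem L42221 : sm gf N6792 = N4262 := flp_f L42220
theorem L42222 : sm ga N6792 = N6776 := ded_11_1 L42209 L42204 L42220
theorem L42226 : sm gg N6792 = N6774 := ded_29_3 L42109 L29372 L29418 L42220
theorem L42230 : sm gb N4263 = N6793 := rfl
theorem L42232 : sm ge N6793 = N4331 := ded_15_2 L29763 L29425 L42230
theorem L42234 : sm gc N4263 = N6794 := rfl
theorem L42235 : sm gc N6794 = N4263 := flp_c L42234
theorem L42236 : sm ga N6794 = N4264 := ded_8_1 L29427 L29422 L42234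
theorem L42237 : sm ga N4264 = N6794 := flp_a L42236
theorem L42238 : sm ge N6794 = N4332 := ded_19_2 L29765 L29425 L42234
theorem L42240 : sm gf N4263 = N6795 := rfl
theorem L42241 : sm gf N6795 = N4263 := flp_f L42240
theorem L42242 : sm ga N6795 = N4265 := ded_11_1 L29431 L29422 L42240
theorem L42246 : sm gg N6780 = N6795 := ded_29_1 L42241 L42137 L42133 L42144
theorem L42248 : sm gd N4264 = N6796 := rfl
theorem L42249 : sm gd N6796 = N4264 := flp_d L42248
theorem L42250 : sm gf N4264 = N6797 := rfl
theorem L42251 : sm gf N6797 = N4264 := flp_f L42250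
theorem L42254 : sm ge N6797 = N4335 := ded_25_1 L29777 L29429 L42250
theorem L42255 : sm ge N4335 = N6797 := flp_e L42254
theorem L42256 : sm gg N4265 = N6798 := rfl
theorem L42257 : sm gg N6798 = N4265 := flp_g L42256
theorem L42258 : sm ga N6798 = N6780 := ded_12_1 L42246 L42242 L42256
theorem L42260 : sm ge N6798 = N4336 := ded_26_1 L29781 L29433 L42256
theorem L42262 : sm gf N6778 = N6798 := ded_29_0 L42257 L29431 L29387 L42132
theorem L42264 : sm gf N4266 = N6799 := rfl
theorem L42266 : sm ga N6799 = N6470 := ded_11_1 L40651 L29437 L42264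
theorem L42268 : sm gc N6799 = N4267 := ded_20_1 L29445 L29434 L42264
theorem L42270 : sm gd N6799 = N6460 := ded_23_1 L40593 L29443 L42264
theorem L42272 : sm ge N6799 = N6460 := ded_25_1 L40593 L29439 L42264
theorem L42274 : sm gg N4266 = N6800 := rfl
theorem L42276 : sm ga N6800 = N6471 := ded_12_1 L40659 L29437 L42274
theorem L42277 : sm ga N6471 = N6800 := flp_a L42276
theorem L42284 : sm gb N4267 = N6801 := rfl
theorem L42285 : sm gb N6801 = N4267 := flp_b L42284
theorem L42288 : sm ge N6801 = N6462 := ded_15_2 L40605 L29451 L42284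
theorem L42289 : sm ge N6462 = N6801 := flp_e L42288
theorem L42290 : sm gf N6801 = N4959 := ded_16_2 L33109 L25114 L23020 L29444 L42284
theorem L42291 : sm gf N4959 = N6801 := flp_f L42290
theorem L42292 : sm gb N4268 = N6802 := rfl
theorem L42294 : sm gd N6802 = N4270 := ded_14_2 L29465 L29457 L42292
theorem L42295 : sm gd N4270 = N6802 := flp_d L42294
theorem L42296 : sm ge N6802 = N6463 := ded_15_2 L40609 L29459 L42292
theorem L42297 : sm ge N6463 = N6802 := flp_e L42296
theorem L42310 : sm gg N4269 = N6805 := rfl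
theorem L42312 : sm ge N6805 = N6255 := ded_26_1 L39505 L29463 L42310
theorem L42314 : sm ga N4270 = N6806 := rfl
theorem L42315 : sm ga N6806 = N4270 := flp_a L42314
theorem L42328 : sm gc N4271 = N6809 := rfl
theorem L42330 : sm ga N6809 = N4272 := ded_8_1 L29477 L29468 L42328
theorem L42331 : sm ga N4272 = N6809 := flp_a L42330
theorem L42334 : sm gf N6809 = N4288 := ded_20_2 L29563 L29475 L42328
theorem L42335 : sm gf N4288 = N6809 := flp_f L42334
theorem L42336 : sm gd N4272 = N6810 := rfl
theorem L42337 : sm gd N6810 = N4272 := flp_d L42336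
theorem L42340 : sm gg N4272 = N6811 := rfl
theorem L42341 : sm gg N6811 = N4272 := flp_g L42340
theorem L42342 : sm gc N6811 = N4273 := ded_21_1 L29483 L29476 L42340
theorem L42346 : sm gb N4273 = N6812 := rfl
theorem L42347 : sm gb N6812 = N4273 := flp_b L42346
theorem L42348 : sm gd N6812 = N4280 := ded_14_2 L29523 L29485 L42346
theorem L42349 : sm gd N4280 = N6812 := flp_d L42348
theorem L42350 : sm ge N6812 = N6262 := ded_15_2 L39535 L29487 L42346
theorem L42351 : sm ge N6262 = N6812 := flp_e L42350
theorem L42352 : sm gg N6812 = N4274 := ded_17_2 L29489 L23048 L23039 L29482 L42346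
theorem L42353 : sm gg N4274 = N6812 := flp_g L42352
theorem L42354 : sm ga N4274 = N6813 := rfl
theorem L42355 : sm ga N6813 = N4274 := flp_a L42354
theorem L42356 : sm gd N6813 = N4281 := ded_9_2 L29529 L29491 L42354
theorem L42357 : sm gd N4281 = N6813 := flp_d L42356
theorem L42358 : sm ge N6813 = N6263 := ded_10_2 L39541 L29493 L42354
theorem L42359 : sm ge N6263 = N6813 := flp_e L42358
theorem L42360 : sm gc N4274 = N6814 := rfl
theorem L42361 : sm gc N6814 = N4274 := flp_c L42360
theorem L42362 : sm ge N6814 = N6264 := ded_19_2 L39545 L29493 L42360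
theorem L42363 : sm ge N6264 = N6814 := flp_e L42362
theorem L42364 : sm gf N4274 = N6815 := rfl
theorem L42370 : sm gb N6815 = N6787 := ded_16_1 L42187 L29405 L23053 L29488 L42364
theorem L42372 : sm ga N4275 = N6816 := rfl
theorem L42373 : sm ga N6816 = N4275 := flp_a L42372
theorem L42376 : sm ge N6816 = N6266 := ded_10_2 L39553 L29499 L42372
theorem L42390 : sm gf N4276 = N6819 := rfl
theorem L42391 : sm gf N6819 = N4276 := flp_f L42390
theorem L42392 : sm ga N6819 = N5024 := ded_11_1 L39095 L39105 L42390
theorem L42396 : sm ge N6819 = N4339 := ded_25_1 L29791 L29503 L42390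
theorem L42398 : sm gg N5901 = N6819 := ded_29_1 L42391 L39115 L37419 L37424
theorem L42400 : sm gb N6819 = N4295 := ded_16_1 L29607 L23106 L23070 L29500 L42390
theorem L42401 : sm gb N4295 = N6819 := flp_b L42400
theorem L42402 : sm gd N4277 = N6820 := rfl
theorem L42403 : sm gd N6820 = N4277 := flp_d L42402
theorem L42404 : sm ga N6820 = N4278 := ded_9_1 L29513 L29507 L42402
theorem L42405 : sm ga N4278 = N6820 := flp_a L42404
theorem L42406 : sm gf N6820 = N4298 := ded_23_2 L29619 L29511 L42402
theorem L42407 : sm gf N4298 = N6820 := flp_f L42406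
theorem L42408 : sm gc N4278 = N6821 := rfl
theorem L42409 : sm gc N6821 = N4278 := flp_c L42408
theorem L42410 : sm gf N6821 = N4301 := ded_20_2 L29637 L29515 L42408
theorem L42411 : sm gf N4301 = N6821 := flp_f L42410
theorem L42412 : sm ge N4278 = N6822 := rfl
theorem L42413 : sm ge N6822 = N4278 := flp_e L42412
theorem L42416 : sm gd N6822 = N4344 := ded_22_1 L29815 L23226 L23074 L29512 L42412
theorem L42418 : sm gg N4278 = N6823 := rfl
theorem L42419 : sm gg N6823 = N4278 := flp_g L42418
theorem L42420 : sm gd N6823 = N4279 := ded_24_1 L29517 L29512 L42418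
theorem L42421 : sm gd N4279 = N6823 := flp_d L42420
theorem L42426 : sm ga N4280 = N6825 := rfl
theorem L42428 : sm ge N6825 = N4347 := ded_10_2 L29825 L29525 L42426
theorem L42429 : sm ge N4347 = N6825 := flp_e L42428
theorem L42430 : sm gg N6825 = N4281 := ded_12_2 L29529 L29527 L42426
theorem L42431 : sm gg N4281 = N6825 := flp_g L42430
theorem L42438 : sm gf N4280 = N6827 := rfl
theorem L42439 : sm gf N6827 = N4280 := flp_f L42438
theorem L42442 : sm gb N4281 = N6828 := rfl
theorem L42443 : sm gb N6828 = N4281 := flp_b L42442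
theorem L42444 : sm ge N6828 = N4350 := ded_15_2 L29835 L29531 L42442
theorem L42448 : sm gf N6097 = N6828 := ded_25_0 L42444 L37835 L38341
theorem L42449 : sm gf N6828 = N6097 := flp_f L42448
theorem L42450 : sm gg N5871 = N6828 := ded_26_0 L42444 L38570 L38566
theorem L42484 : sm gb N4284 = N6834 := rfl
theorem L42485 : sm gb N6834 = N4284 := flp_b L42484
theorem L42486 : sm ge N6834 = N4363 := ded_15_2 L29893 L29545 L42484
theorem L42490 : sm gg N5909 = N6834 := ded_26_0 L42486 L37831 L39868
theorem L42491 : sm gg N6834 = N5909 := flp_g L42490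
theorem L42492 : sm gc N4284 = N6835 := rfl
theorem L42493 : sm gc N6835 = N4284 := flp_c L42492
theorem L42494 : sm ga N6835 = N4285 := ded_8_1 L29547 L29542 L42492
theorem L42495 : sm ga N4285 = N6835 := flp_a L42494
theorem L42496 : sm ge N6835 = N4364 := ded_19_2 L29895 L29545 L42492
theorem L42497 : sm ge N4364 = N6835 := flp_e L42496
theorem L42498 : sm gg N4284 = N6836 := rfl
theorem L42500 : sm ga N6836 = N4286 := ded_12_1 L29551 L29542 L42498
theorem L42501 : sm ga N4286 = N6836 := flp_a L42500
theorem L42504 : sm gf N6836 = N6769 := ded_29_2 L42065 L42050 L42054 L42498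
theorem L42505 : sm gf N6769 = N6836 := flp_f L42504
theorem L42506 : sm gb N6836 = N6278 := ded_17_1 L39625 L39870 L42490 L42485 L42498
theorem L42508 : sm gd N4285 = N6837 := rfl
theorem L42509 : sm gd N6837 = N4285 := flp_d L42508
theorem L42510 : sm gg N4285 = N6838 := rfl
theorem L42511 : sm gg N6838 = N4285 := flp_g L42510
theorem L42512 : sm gc N6838 = N4286 := ded_21_1 L29551 L29546 L42510
theorem L42513 : sm gc N4286 = N6838 := flp_c L42512
theorem L42516 : sm gf N4286 = N6839 := rfl
theorem L42517 : sm gf N6839 = N4286 := flp_f L42516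
theorem L42518 : sm ga N6839 = N6769 := ded_11_1 L42505 L42500 L42516
theorem L42520 : sm ge N6839 = N4368 := ded_25_1 L29911 L29553 L42516
theorem L42521 : sm ge N4368 = N6839 := flp_e L42520
theorem L42522 : sm gg N6839 = N6767 := ded_29_3 L42051 L29350 L29550 L42516
theorem L42524 : sm ga N4287 = N6840 := rfl
theorem L42526 : sm gd N6840 = N4293 := ded_9_2 L29597 L29559 L42524
theorem L42527 : sm gd N4293 = N6840 := flp_d L42526
theorem L42528 : sm ge N6840 = N6301 := ded_10_2 L39769 L29561 L42524
theorem L42529 : sm ge N6301 = N6840 := flp_e L42528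
theorem L42532 : sm gc N4287 = N6841 := rfl
theorem L42533 : sm gc N6841 = N4287 := flp_c L42532
theorem L42542 : sm gg N4287 = N6843 := rfl
theorem L42544 : sm gd N6843 = N4296 := ded_24_1 L29611 L29559 L42542
theorem L42545 : sm gd N4296 = N6843 := flp_d L42544
theorem L42546 : sm ge N6843 = N6304 := ded_26_1 L39779 L29561 L42542
theorem L42547 : sm ge N6304 = N6843 := flp_e L42546
theorem L42548 : sm gb N4288 = N6844 := rfl
theorem L42549 : sm gb N6844 = N4288 := flp_b L42548
theorem L42550 : sm ge N6844 = N6305 := ded_15_2 L39783 L29567 L42548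
theorem L42551 : sm ge N6305 = N6844 := flp_e L42550
theorem L42552 : sm gd N4288 = N6845 := rfl
theorem L42553 : sm gd N6845 = N4288 := flp_d L42552
theorem L42554 : sm ga N6845 = N4290 := ded_9_1 L29579 L29565 L42552
theorem L42555 : sm ga N4290 = N6845 := flp_a L42554
theorem L42556 : sm gg N4288 = N6846 := rfl
theorem L42557 : sm gg N6846 = N4288 := flp_g L42556
theorem L42560 : sm gc N6846 = N4289 := ded_21_1 L29569 L29562 L42556
theorem L42561 : sm gc N4289 = N6846 := flp_c L42560
theorem L42566 : sm gb N4289 = N6847 := rfl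
theorem L42567 : sm gb N6847 = N4289 := flp_b L42566
theorem L42570 : sm ge N6847 = N6307 := ded_15_2 L39793 L29575 L42566
theorem L42571 : sm ge N6307 = N6847 := flp_e L42570
theorem L42582 : sm gb N4291 = N6851 := rfl
theorem L42584 : sm ge N6851 = N6310 := ded_15_2 L39803 L29585 L42582
theorem L42586 : sm gf N4291 = N6852 := rfl
theorem L42592 : sm ge N6852 = N6311 := ded_25_1 L39805 L29585 L42586
theorem L42602 : sm gc N4293 = N6854 := rfl
theorem L42603 : sm gc N6854 = N4293 := flp_c L42602
theorem L42604 : sm ga N6854 = N4294 := ded_8_1 L29603 L29596 L42602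
theorem L42605 : sm ga N4294 = N6854 := flp_a L42604
theorem L42606 : sm ge N6854 = N4369 := ded_19_2 L29917 L29599 L42602
theorem L42607 : sm ge N4369 = N6854 := flp_e L42606
theorem L42608 : sm gf N4293 = N6855 := rfl
theorem L42609 : sm gf N6855 = N4293 := flp_f L42608
theorem L42610 : sm ga N6855 = N4295 := ded_11_1 L29607 L29596 L42608
theorem L42612 : sm ge N6855 = N4370 := ded_25_1 L29921 L29599 L42608
theorem L42614 : sm gg N4293 = N6856 := rfl
theorem L42618 : sm ge N6856 = N4371 := ded_26_1 L29925 L29599 L42614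
theorem L42620 : sm gb N4294 = N6857 := rfl
theorem L42621 : sm gb N6857 = N4294 := flp_b L42620
theorem L42622 : sm ge N6857 = N4372 := ded_15_2 L29929 L29605 L42620
theorem L42623 : sm ge N4372 = N6857 := flp_e L42622
theorem L42624 : sm gc N6857 = N4297 := ded_13_2 L29615 L23110 L23105 L29602 L42620
theorem L42625 : sm gc N4297 = N6857 := flp_c L42624
theorem L42626 : sm gd N4294 = N6858 := rfl
theorem L42627 : sm gd N6858 = N4294 := flp_d L42626
theorem L42634 : sm gg N4294 = N6860 := rfl
theorem L42635 : sm gg N6860 = N4294 := flp_g L42634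
theorem L42638 : sm ge N6860 = N4375 := ded_26_1 L29939 L29605 L42634
theorem L42646 : sm gb N4296 = N6862 := rfl
theorem L42650 : sm gg N6862 = N4300 := ded_17_2 L29633 L23116 L23105 L29610 L42646
theorem L42651 : sm gg N4300 = N6862 := flp_g L42650
theorem L42652 : sm gf N4296 = N6863 := rfl
theorem L42653 : sm gf N6863 = N4296 := flp_f L42652
theorem L42656 : sm ge N6863 = N4378 := ded_25_1 L29951 L29613 L42652
theorem L42658 : sm gg N6863 = N6855 := ded_29_3 L42610 L29607 L29610 L42652
theorem L42660 : sm ga N4297 = N6864 := rfl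
theorem L42661 : sm ga N6864 = N4297 := flp_a L42660
theorem L42662 : sm ge N6864 = N4379 := ded_10_2 L29957 L29617 L42660
theorem L42663 : sm ge N4379 = N6864 := flp_e L42662
theorem L42664 : sm gd N4297 = N6865 := rfl
theorem L42666 : sm gb N6865 = N4298 := ded_14_1 L29619 L29614 L42664
theorem L42667 : sm gb N4298 = N6865 := flp_b L42666
theorem L42668 : sm gg N4297 = N6866 := rfl
theorem L42669 : sm gg N6866 = N4297 := flp_g L42668
theorem L42670 : sm ge N6866 = N4382 := ded_26_1 L29965 L29617 L42668
theorem L42671 : sm ge N4382 = N6866 := flp_e L42670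
theorem L42672 : sm gc N4298 = N6867 := rfl
theorem L42673 : sm gc N6867 = N4298 := flp_c L42672
theorem L42674 : sm ga N6867 = N4301 := ded_8_1 L29637 L29621 L42672
theorem L42675 : sm ga N4301 = N6867 := flp_a L42674
theorem L42678 : sm ge N4298 = N6868 := rfl
theorem L42679 : sm ge N6868 = N4298 := flp_e L42678
theorem L42680 : sm ga N6868 = N4302 := ded_10_1 L29639 L29621 L42678
theorem L42681 : sm ga N4302 = N6868 := flp_a L42680
theorem L42682 : sm gd N6868 = N4383 := ded_22_1 L29967 L23274 L23114 L29618 L42678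
theorem L42683 : sm gd N4383 = N6868 := flp_d L42682
theorem L42684 : sm gg N4298 = N6869 := rfl
theorem L42685 : sm gg N6869 = N4298 := flp_g L42684
theorem L42686 : sm ga N6869 = N4303 := ded_12_1 L29645 L29621 L42684
theorem L42688 : sm gd N6869 = N4299 := ded_24_1 L29623 L29618 L42684
theorem L42689 : sm gd N4299 = N6869 := flp_d L42688
theorem L42690 : sm gf N6869 = N6823 := ded_29_2 L42419 L42405 L42406 L42684
theorem L42691 : sm gf N6823 = N6869 := flp_f L42690
theorem L42692 : sm gb N4299 = N6870 := rfl
theorem L42693 : sm gb N6870 = N4299 := flp_b L42692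
theorem L42694 : sm ge N6870 = N4385 := ded_15_2 L29983 L29629 L42692
theorem L42695 : sm ge N4385 = N6870 := flp_e L42694
theorem L42696 : sm ga N4300 = N6871 := rfl
theorem L42697 : sm ga N6871 = N4300 := flp_a L42696
theorem L42698 : sm ge N6871 = N4386 := ded_10_2 L29985 L29635 L42696
theorem L42700 : sm gc N4300 = N6872 := rfl
theorem L42701 : sm gc N6872 = N4300 := flp_c L42700
theorem L42704 : sm gf N4300 = N6873 := rfl
theorem L42705 : sm gf N6873 = N4300 := flp_f L42704
theorem L42706 : sm ge N6873 = N4388 := ded_25_1 L29989 L29635 L42704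
theorem L42708 : sm gb N6873 = N6827 := ded_16_1 L42439 L29523 L23122 L29632 L42704
theorem L42709 : sm gb N6827 = N6873 := flp_b L42708
theorem L42710 : sm gg N6282 = N6873 := ded_26_0 L42706 L38252 L39647
theorem L42711 : sm gg N6873 = N6282 := flp_g L42710
theorem L42712 : sm gd N4301 = N6874 := rfl
theorem L42713 : sm gd N6874 = N4301 := flp_d L42712
theorem L42716 : sm gc N6845 = N6874 := ded_28_0 L42713 L29637 L23124 L19771 L19763 L23095 L29578 L42555
theorem L42718 : sm ge N4301 = N6875 := rfl
theorem L42719 : sm ge N6875 = N4301 := flp_e L42718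
theorem L42720 : sm gc N6875 = N4302 := ded_19_1 L29639 L29636 L42718
theorem L42721 : sm gc N4302 = N6875 := flp_c L42720
theorem L42722 : sm gg N4301 = N6876 := rfl
theorem L42723 : sm gg N6876 = N4301 := flp_g L42722
theorem L42724 : sm gc N6876 = N4303 := ded_21_1 L29645 L29636 L42722
theorem L42726 : sm gg N4302 = N6877 := rfl
theorem L42727 : sm gg N6877 = N4302 := flp_g L42726
theorem L42728 : sm gd N6877 = N4392 := ded_24_1 L30013 L29643 L42726
theorem L42729 : sm gd N4392 = N6877 := flp_d L42728
theorem L42730 : sm ge N6877 = N4303 := ded_26_1 L29645 L29638 L42726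
theorem L42731 : sm ge N4303 = N6877 := flp_e L42730
theorem L42732 : sm gf N4303 = N6878 := rfl
theorem L42733 : sm gf N6878 = N4303 := flp_f L42732
theorem L42736 : sm gd N6878 = N4304 := ded_23_1 L29649 L29647 L42732
theorem L42737 : sm gd N4304 = N6878 := flp_d L42736
theorem L42740 : sm gb N4304 = N6879 := rfl
theorem L42741 : sm gb N6879 = N4304 := flp_b L42740
theorem L42744 : sm ga N4305 = N6880 := rfl
theorem L42745 : sm ga N6880 = N4305 := flp_a L42744
theorem L42746 : sm ge N6880 = N4398 := ded_10_2 L30039 L29661 L42744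
theorem L42752 : sm gg N4305 = N6882 := rfl
theorem L42753 : sm gg N6882 = N4305 := flp_g L42752
theorem L42756 : sm gb N6882 = N5899 := ded_17_1 L39114 L29501 L23140 L29658 L42752
theorem L42757 : sm gb N5899 = N6882 := flp_b L42756
theorem L42758 : sm gb N4306 = N6883 := rfl
theorem L42759 : sm gb N6883 = N4306 := flp_b L42758
theorem L42760 : sm gd N4306 = N6884 := rfl
theorem L42762 : sm ga N6884 = N4307 := ded_9_1 L29665 L29662 L42760
theorem L42763 : sm ga N4307 = N6884 := flp_a L42762
theorem L42764 : sm gf N4306 = N6885 := rfl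
theorem L42765 : sm gf N6885 = N4306 := flp_f L42764
theorem L42766 : sm ga N6885 = N4308 := ded_11_1 L29669 L29662 L42764
theorem L42768 : sm gg N4306 = N6886 := rfl
theorem L42769 : sm gg N6886 = N4306 := flp_g L42768
theorem L42770 : sm ga N6886 = N4309 := ded_12_1 L29671 L29662 L42768
theorem L42771 : sm ga N4309 = N6886 := flp_a L42770
theorem L42772 : sm gc N4307 = N6887 := rfl
theorem L42773 : sm gc N6887 = N4307 := flp_c L42772
theorem L42774 : sm gb N6887 = N4450 := ded_13_1 L30319 L23446 L23153 L29667 L42772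
theorem L42775 : sm gb N4450 = N6887 := flp_b L42774
theorem L42776 : sm ge N4307 = N6888 := rfl
theorem L42777 : sm ge N6888 = N4307 := flp_e L42776
theorem L42778 : sm gb N6888 = N4310 := ded_15_1 L29675 L29667 L42776
theorem L42780 : sm gf N4307 = N6889 := rfl
theorem L42781 : sm gf N6889 = N4307 := flp_f L42780
theorem L42784 : sm gg N4307 = N6890 := rfl
theorem L42785 : sm gg N6890 = N4307 := flp_g L42784
theorem L42790 : sm gg N4308 = N6891 := rfl
theorem L42791 : sm gg N6891 = N4308 := flp_g L42790
theorem L42792 : sm gf N6886 = N6891 := ded_29_0 L42791 L29669 L29670 L42771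
theorem L42800 : sm ga N4311 = N6893 := rfl
theorem L42801 : sm ga N6893 = N4311 := flp_a L42800
theorem L42802 : sm gc N4311 = N6894 := rfl
theorem L42803 : sm gc N6894 = N4311 := flp_c L42802
theorem L42804 : sm gb N6894 = N6775 := ded_13_1 L42117 L29369 L23160 L29682 L42802
theorem L42806 : sm gg N4315 = N6894 := ded_17_0 L42804 L42153 L42149 L29396 L29698
theorem L42807 : sm gg N6894 = N4315 := flp_g L42806
theorem L42808 : sm gg N4311 = N6895 := rfl
theorem L42809 : sm gg N6895 = N4311 := flp_g L42808
theorem L42810 : sm gc N6895 = N4315 := ded_21_1 L42806 L42803 L42808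
theorem L42811 : sm gc N4315 = N6895 := flp_c L42810
theorem L42812 : sm ge N6895 = N6894 := ded_26_1 L42807 L29700 L42808
theorem L42813 : sm ge N6894 = N6895 := flp_e L42812
theorem L42814 : sm gb N6895 = N4318 := ded_17_1 L37839 L29733 L23203 L29682 L42808
theorem L42815 : sm gb N4318 = N6895 := flp_b L42814
theorem L42816 : sm ga N6144 = N6895 := ded_7_9 L42814 L29714 L27794 L22030 L19235 L19229 L22025 L27781 L38606
theorem L42817 : sm ga N6895 = N6144 := flp_a L42816
theorem L42818 : sm gg N6893 = N6144 := ded_12_0 L42816 L42809 L42800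
theorem L42822 : sm gc N4312 = N6897 := rfl
theorem L42823 : sm gc N6897 = N4312 := flp_c L42822
theorem L42824 : sm gb N6897 = N6779 := ded_13_1 L42139 L29383 L23166 L29684 L42822
theorem L42825 : sm gb N6779 = N6897 := flp_b L42824
theorem L42826 : sm gf N4312 = N6898 := rfl
theorem L42827 : sm gf N6898 = N4312 := flp_f L42826
theorem L42828 : sm gb N4313 = N6899 := rfl
theorem L42829 : sm gb N6899 = N4313 := flp_b L42828
theorem L42830 : sm gd N6899 = N4315 := ded_14_2 L29699 L29691 L42828
theorem L42831 : sm gd N4315 = N6899 := flp_d L42830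
theorem L42836 : sm ga N4315 = N6901 := rfl
theorem L42837 : sm ga N6901 = N4315 := flp_a L42836
theorem L42838 : sm gc N6901 = N6144 := ded_8_2 L42816 L42810 L42836
theorem L42839 : sm gc N6144 = N6901 := flp_c L42838
theorem L42840 : sm ge N6901 = N6893 := ded_10_2 L42801 L29701 L42836
theorem L42841 : sm ge N6893 = N6901 := flp_e L42840
theorem L42846 : sm gc N4316 = N6903 := rfl
theorem L42848 : sm ge N6903 = N6897 := ded_19_2 L42823 L29705 L42846
theorem L42852 : sm gf N4316 = N6904 := rfl
theorem L42854 : sm ge N6904 = N6898 := ded_25_1 L42827 L29705 L42852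
theorem L42856 : sm gb N4317 = N6905 := rfl
theorem L42857 : sm gb N6905 = N4317 := flp_b L42856
theorem L42858 : sm gc N6905 = N6156 := ded_13_2 L38659 L27796 L27793 L29711 L42856
theorem L42859 : sm gc N6156 = N6905 := flp_c L42858
theorem L42860 : sm gf N5429 = N6905 := ded_30_0 L42858 L38659 L27797 L22035 L19251 L7507 L4652 L4650 L2265 L15864 L785 L807 L1457 L2867 L6062 L18794 L21190 L26075 L35236
theorem L42861 : sm gf N6905 = N5429 := flp_f L42860
theorem L42862 : sm ga N6905 = N5430 := ded_11_1 L35241 L35236 L42860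
theorem L42863 : sm ga N5430 = N6905 := flp_a L42862
theorem L42864 : sm gb N5639 = N6893 := ded_7_4 L42801 L29683 L23157 L23187 L29706 L42856 L42862 L35244 L36195
theorem L42865 : sm gb N6893 = N5639 := flp_b L42864
theorem L42866 : sm gb N6901 = N6314 := ded_15_3 L39826 L42864 L42841
theorem L42868 : sm gb N6146 = N5643 := ded_17_5 L36222 L42864 L42818 L38607 L38612
theorem L42870 : sm gb N4376 = N6151 := ded_31_8 L38637 L38603 L27776 L22024 L22021 L27769 L38582 L38616 L42868 L36222 L36193 L26515 L29924 L29944
theorem L42871 : sm gb N6151 = N4376 := flp_b L42870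
theorem L42872 : sm gb N4321 = N6141 := ded_31_14 L38592 L38632 L42871 L29943 L23268 L19829 L19834 L19838 L23233 L23235 L23241 L23243 L29780 L29785
theorem L42873 : sm gb N6141 = N4321 := flp_b L42872
theorem L42874 : sm gd N6141 = N4357 := ded_14_2 L29864 L39224 L42872
theorem L42876 : sm gb N5874 = N6778 := ded_15_3 L42134 L42872 L38590
theorem L42877 : sm gb N6778 = N5874 := flp_b L42876
theorem L42878 : sm gg N6149 = N4331 := ded_17_4 L29763 L29725 L42872 L38592 L38624
theorem L42879 : sm gg N4331 = N6149 := flp_g L42878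
theorem L42880 : N4884 = N4312 := coi_7_6 L29685 L23163 L23195 L29722 L42872 L38589 L27776 L24267 L24785 L32704
theorem L42881 : N4884 = N4312 := eqc rfl L42880 rfl
theorem L42885 : sm ge N4312 = N3807 := trf L42881 L32706 rfl
theorem L42886 : N3807 = N4316 := eqe L42885 L29705
theorem L42887 : N4316 = N3807 := (eqc rfl L42886 rfl).symm
theorem L42894 : sm gc N3807 = N6903 := trf L42887 L42846 rfl
theorem L42895 : N6903 = N5903 := eqe L42894 L37430
theorem L42896 : N6903 = N5903 := eqc rfl L42895 rfl
theorem L42902 : sm gf N3807 = N6904 := trf L42887 L42852 rfl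
theorem L42903 : N6904 = N5904 := eqe L42902 L37434
theorem L42904 : N6904 = N5904 := eqc rfl L42903 rfl
theorem L42905 : sm gg N3807 = N6221 := trf L42887 L38971 rfl
theorem L42906 : N6221 = N5232 := eqe L42905 L34341
theorem L42907 : N6221 = N5232 := eqc rfl L42906 rfl
theorem L42908 : sm gb N5232 = N3975 := trf L42907 L38967 rfl
theorem L42909 : sm gb N3975 = N5232 := flp_b L42908
theorem L42910 : sm ge N5232 = N6062 := trf L42907 L38968 rfl
theorem L42912 : sm ge N5904 = N6898 := trf L42904 L42854 rfl
theorem L42918 : sm ge N5903 = N6897 := trf L42896 L42848 rfl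
theorem L42925 : sm gb N4333 = N6182 := ded_31_5 L38791 L27838 L22046 L22051 L22055 L27809 L27811 L27817 L27819 L38644 L38649 L42873 L29724 L29768
theorem L42926 : sm gb N6182 = N4333 := flp_b L42925
theorem L42929 : sm gg N4357 = N4356 := ded_24_2 L29860 L38593 L42874
theorem L42930 : sm gg N4356 = N4357 := flp_g L42929
theorem L42933 : sm ga N6062 = N4587 := ded_10_1 L31088 L34338 L42910
theorem L42934 : sm ga N4587 = N6062 := flp_a L42933
theorem L42935 : sm ga N6898 = N4886 := ded_10_1 L32716 L37437 L42912
theorem L42937 : sm ga N6897 = N4885 := ded_10_1 L32710 L37433 L42918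
theorem L42938 : sm ga N4885 = N6897 := flp_a L42937
theorem L42939 : sm gb N6184 = N5989 := ded_7_2 L37794 L27598 L38261 L38266 L29842 L23243 L29771 L42925 L38801
theorem L42940 : sm gb N5989 = N6184 := flp_b L42939
theorem L42943 : sm gg N6761 = N6762 := ded_26_2 L42024 L42929 L42021
theorem L42947 : sm gb N5220 = N6761 := ded_17_5 L42943 L42026 L39221 L39416 L39423
theorem L42949 : sm ga N6793 = N5220 := ded_7_9 L42947 L42019 L29339 L22947 L19696 L19719 L23011 L29422 L42230
theorem L42951 : sm gc N5219 = N6793 := ded_8_0 L42949 L34267 L34264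
theorem L42953 : sm gd N4318 = N6906 := rfl
theorem L42954 : sm gd N6906 = N4318 := flp_d L42953
theorem L42955 : sm ga N6906 = N4407 := ded_9_1 L30102 L29715 L42953
theorem L42956 : sm ga N4407 = N6906 := flp_a L42955
theorem L42957 : sm gf N6906 = N4328 := ded_23_2 L29751 L29717 L42953
theorem L42958 : sm gf N4328 = N6906 := flp_f L42957
theorem L42959 : sm gg N6906 = N6067 := ded_24_2 L38192 L37838 L42953
theorem L42960 : sm gg N6067 = N6906 := flp_g L42959
theorem L42961 : sm gb N4319 = N6907 := rfl
theorem L42962 : sm gb N6907 = N4319 := flp_b L42961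
theorem L42963 : sm gc N6907 = N6777 := ded_13_2 L42129 L29376 L29732 L37845 L42961
theorem L42964 : sm gc N6777 = N6907 := flp_c L42963
theorem L42965 : sm gg N6907 = N4320 := ded_17_2 L29721 L23192 L23187 L29718 L42961
theorem L42966 : sm gg N4320 = N6907 := flp_g L42965
theorem L42967 : sm ga N6907 = N6171 := ded_7_1 L38723 L27822 L22042 L19244 L22039 L27813 L38707 L29758 L42961
theorem L42968 : sm ga N6171 = N6907 := flp_a L42967
theorem L42969 : sm ga N4320 = N6908 := rfl
theorem L42971 : sm gg N6908 = N6171 := ded_12_2 L42968 L42965 L42969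
theorem L42973 : sm gc N4320 = N6909 := rfl
theorem L42977 : sm gg N6909 = N6777 := ded_21_2 L42964 L42965 L42973
theorem L42978 : sm gg N6777 = N6909 := flp_g L42977
theorem L42979 : sm gb N6909 = N6776 := ded_13_1 L42154 L42149 L29392 L29720 L42973
theorem L42980 : sm gb N6776 = N6909 := flp_b L42979
theorem L42981 : sm gf N4320 = N6910 := rfl
theorem L42982 : sm gf N6910 = N4320 := flp_f L42981
theorem L42983 : sm gb N6910 = N6898 := ded_16_1 L42827 L29685 L23193 L29720 L42981
theorem L42985 : sm ga N4422 = N6910 := ded_7_9 L42983 L42935 L39877 L36225 L26526 L21378 L19897 L23370 L30170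
theorem L42986 : sm ga N6910 = N4422 := flp_a L42985
theorem L42987 : sm gd N6910 = N6193 := ded_9_2 L38843 L30173 L42985
theorem L42989 : sm gf N6908 = N4422 := ded_11_0 L42985 L42982 L42969
theorem L42990 : sm gf N4422 = N6908 := flp_f L42989
theorem L42991 : sm gf N6193 = N6063 := ded_23_2 L38174 L42981 L42987
theorem L42992 : sm gf N6063 = N6193 := flp_f L42991
theorem L42993 : sm gd N6195 = N6908 := ded_23_3 L42989 L30172 L38846
theorem L42997 : sm gc N4321 = N6911 := rfl
theorem L42999 : sm ga N6911 = N4322 := ded_8_1 L29727 L29722 L42997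
theorem L43000 : sm ga N4322 = N6911 := flp_a L42999
theorem L43001 : sm gg N6911 = N4332 := ded_21_2 L29765 L29725 L42997
theorem L43002 : sm gg N4332 = N6911 := flp_g L43001
theorem L43003 : sm gd N4322 = N6912 := rfl
theorem L43004 : sm gd N6912 = N4322 := flp_d L43003
theorem L43011 : sm gb N4323 = N6914 := rfl
theorem L43012 : sm gb N6914 = N4323 := flp_b L43011
theorem L43013 : sm gf N6914 = N4324 := ded_16_2 L29733 L23200 L23195 L29730 L43011
theorem L43015 : sm gg N6914 = N4326 := ded_17_2 L29743 L38790 L42926 L29773 L43011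
theorem L43017 : sm ga N4329 = N6914 := ded_11_3 L43013 L38653 L38656
theorem L43021 : sm gb N4336 = N5652 := ded_7_4 L36259 L26538 L21390 L26079 L35250 L37842 L43017 L43012 L29783
theorem L43023 : sm gb N4398 = N4979 := ded_14_3 L39215 L43021 L36260
theorem L43024 : sm gb N4979 = N4398 := flp_b L43023
theorem L43025 : sm gb N6328 = N6798 := ded_15_3 L42260 L43021 L39927
theorem L43027 : sm gb N6248 = N6880 := ded_15_3 L42746 L43023 L39453
theorem L43028 : sm gb N6880 = N6248 := flp_b L43027
theorem L43029 : sm gc N4325 = N6915 := rfl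
theorem L43030 : sm gc N6915 = N4325 := flp_c L43029
theorem L43031 : sm gb N6915 = N6180 := ded_13_1 L38784 L29742 L29737 L29734 L43029
theorem L43032 : sm gb N6180 = N6915 := flp_b L43031
theorem L43033 : sm gf N4325 = N6916 := rfl
theorem L43034 : sm gf N6916 = N4325 := flp_f L43033
theorem L43035 : sm ga N6916 = N5987 := ded_11_1 L39110 L39408 L43033
theorem L43036 : sm ga N5987 = N6916 := flp_a L43035
theorem L43041 : sm gg N4586 = N6916 := ded_29_1 L43034 L39413 L32687 L31083
theorem L43042 : sm gg N6916 = N4586 := flp_g L43041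
theorem L43043 : sm gb N6916 = N5429 := ded_16_1 L42860 L42857 L29708 L29734 L43033
theorem L43044 : sm gb N5429 = N6916 := flp_b L43043
theorem L43045 : sm gd N4326 = N6917 := rfl
theorem L43047 : sm ga N6917 = N4328 := ded_9_1 L29751 L29739 L43045
theorem L43048 : sm ga N4328 = N6917 := flp_a L43047
theorem L43049 : sm gb N6917 = N4417 := ded_14_1 L30150 L29742 L43045
theorem L43050 : sm gb N4417 = N6917 := flp_b L43049
theorem L43051 : sm gf N6917 = N4407 := ded_23_2 L30102 L29741 L43045
theorem L43053 : sm gb N4327 = N6918 := rfl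
theorem L43055 : sm gd N6918 = N6184 := ded_14_2 L42939 L37796 L43053
theorem L43057 : sm gf N4418 = N6918 := ded_23_0 L43055 L38799 L30155
theorem L43058 : sm gf N6918 = N4418 := flp_f L43057
theorem L43059 : sm gc N4328 = N6919 := rfl
theorem L43060 : sm gc N6919 = N4328 := flp_c L43059
theorem L43061 : sm ge N4328 = N6920 := rfl
theorem L43062 : sm ge N6920 = N4328 := flp_e L43061
theorem L43063 : sm gb N6920 = N5871 := ded_15_1 L38567 L38573 L43061
theorem L43065 : sm gg N4328 = N6921 := rfl
theorem L43066 : sm gg N6921 = N4328 := flp_g L43065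
theorem L43067 : sm gd N6921 = N4329 := ded_24_1 L29753 L29750 L43065
theorem L43069 : sm gb N6921 = N4347 := ded_17_1 L29826 L29834 L38570 L38573 L43065
theorem L43071 : sm ga N4331 = N6922 := rfl
theorem L43072 : sm ga N6922 = N4331 := flp_a L43071
theorem L43077 : sm gg N6922 = N6068 := ded_12_2 L38627 L42878 L43071
theorem L43079 : sm gb N6922 = N4356 := ded_7_2 L29859 L23246 L19813 L9408 L9398 L19798 L23211 L29762 L43071
theorem L43083 : sm gc N4331 = N6923 := rfl
theorem L43084 : sm gc N6923 = N4331 := flp_c L43083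
theorem L43087 : sm ge N6923 = N5219 := ded_19_2 L42951 L42232 L43083
theorem L43088 : sm ge N5219 = N6923 := flp_e L43087
theorem L43089 : sm gf N4331 = N6924 := rfl
theorem L43093 : sm gb N4332 = N6925 := rfl
theorem L43094 : sm gb N6925 = N4332 := flp_b L43093
theorem L43095 : sm gd N4332 = N6926 := rfl
theorem L43096 : sm gd N6926 = N4332 := flp_d L43095
theorem L43115 : sm gb N4335 = N6931 := rfl
theorem L43116 : sm gb N6931 = N4335 := flp_b L43115
theorem L43117 : sm gg N4335 = N6932 := rfl
theorem L43118 : sm gg N6932 = N4335 := flp_g L43117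
theorem L43123 : sm gf N6911 = N6932 := ded_29_0 L43118 L29777 L29729 L43000
theorem L43125 : sm gc N4337 = N6933 := rfl
theorem L43126 : sm gc N6933 = N4337 := flp_c L43125
theorem L43127 : sm ga N6933 = N4338 := ded_8_1 L29789 L29786 L43125
theorem L43128 : sm ga N4338 = N6933 := flp_a L43127
theorem L43129 : sm ge N6933 = N5025 := ded_19_2 L39096 L39112 L43125
theorem L43131 : sm gb N4552 = N6933 := ded_15_3 L43129 L33414 L30901
theorem L43132 : sm gb N6933 = N4552 := flp_b L43131
theorem L43133 : sm gf N4519 = N6933 := ded_25_0 L43129 L33413 L30725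
theorem L43134 : sm gf N6933 = N4519 := flp_f L43133
theorem L43135 : sm gf N4337 = N6934 := rfl
theorem L43137 : sm ga N6934 = N4339 := ded_11_1 L29791 L29786 L43135
theorem L43139 : sm gc N6934 = N4519 := ded_20_1 L43133 L43126 L43135
theorem L43141 : sm gd N6934 = N6905 := ded_23_1 L42861 L35238 L43135
theorem L43142 : sm gd N6905 = N6934 := flp_d L43141
theorem L43145 : sm gb N6934 = N5988 := ded_16_1 L37787 L37782 L39110 L39345 L43135
theorem L43146 : sm gb N5988 = N6934 := flp_b L43145
theorem L43147 : sm gd N4338 = N6935 := rfl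
theorem L43149 : sm gf N4338 = N6936 := rfl
theorem L43150 : sm gf N6936 = N4338 := flp_f L43149
theorem L43157 : sm gg N4338 = N6937 := rfl
theorem L43158 : sm gg N6937 = N4338 := flp_g L43157
theorem L43161 : sm gg N4339 = N6938 := rfl
theorem L43162 : sm gg N6938 = N4339 := flp_g L43161
theorem L43163 : sm ge N6938 = N5901 := ded_26_1 L42398 L42396 L43161
theorem L43164 : sm ge N5901 = N6938 := flp_e L43163
theorem L43165 : sm gf N4883 = N6938 := ded_29_0 L43162 L29791 L29794 L39411
theorem L43166 : sm gf N6938 = N4883 := flp_f L43165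
theorem L43169 : sm gf N4340 = N6939 := rfl
theorem L43173 : sm gg N6939 = N6934 := ded_29_3 L43137 L29791 L29794 L43169
theorem L43175 : sm gd N4341 = N6940 := rfl
theorem L43176 : sm gd N6940 = N4341 := flp_d L43175
theorem L43177 : sm gb N6940 = N4342 := ded_14_1 L29799 L29796 L43175
theorem L43178 : sm gb N4342 = N6940 := flp_b L43177
theorem L43179 : sm gg N4341 = N6941 := rfl
theorem L43180 : sm gg N6941 = N4341 := flp_g L43179
theorem L43187 : sm ge N4342 = N6942 := rfl
theorem L43188 : sm ge N6942 = N4342 := flp_e L43187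
theorem L43189 : sm ga N6942 = N4344 := ded_10_1 L29815 L29801 L43187
theorem L43191 : sm gc N6942 = N5390 := ded_19_1 L35059 L29805 L43187
theorem L43192 : sm gc N5390 = N6942 := flp_c L43191
theorem L43211 : sm gb N4345 = N6946 := rfl
theorem L43213 : sm gd N6946 = N4346 := ded_14_2 L29823 L29821 L43211
theorem L43214 : sm gd N4346 = N6946 := flp_d L43213
theorem L43215 : sm ga N4346 = N6947 := rfl
theorem L43216 : sm ga N6947 = N4346 := flp_a L43215
theorem L43221 : sm gf N4346 = N6949 := rfl
theorem L43222 : sm gf N6949 = N4346 := flp_f L43221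
theorem L43237 : sm gc N4350 = N6953 := rfl
theorem L43238 : sm gc N6953 = N4350 := flp_c L43237
theorem L43239 : sm gf N6953 = N6148 := ded_20_2 L38622 L37834 L43237
theorem L43240 : sm gf N6148 = N6953 := flp_f L43239
theorem L43281 : sm gf N4356 = N6963 := rfl
theorem L43282 : sm gf N6963 = N4356 := flp_f L43281
theorem L43283 : sm ga N6963 = N4358 := ded_11_1 L29867 L29858 L43281
theorem L43284 : sm ga N4358 = N6963 := flp_a L43283
theorem L43287 : sm gb N6963 = N5641 := ded_31_2 L36205 L26518 L21373 L21376 L21384 L26079 L26083 L27329 L27570 L39218 L33179 L29865 L42929 L43281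
theorem L43288 : sm gb N5641 = N6963 := flp_b L43287
theorem L43289 : sm gf N4357 = N6964 := rfl
theorem L43290 : sm gf N6964 = N4357 := flp_f L43289
theorem L43295 : sm gg N6964 = N4358 := ded_29_3 L43284 L43282 L42930 L43289
theorem L43296 : sm gg N4358 = N6964 := flp_g L43295
theorem L43309 : sm gb N4360 = N6966 := rfl
theorem L43310 : sm gb N6966 = N4360 := flp_b L43309
theorem L43311 : sm gd N6966 = N6171 := ded_14_2 L38723 L29879 L43309
theorem L43313 : sm gg N6966 = N6195 := ded_17_2 L38848 L38700 L38703 L29914 L43309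
theorem L43314 : sm gg N6195 = N6966 := flp_g L43313
theorem L43315 : sm gc N4360 = N6967 := rfl
theorem L43317 : sm ga N6967 = N4361 := ded_8_1 L29883 L29876 L43315
theorem L43318 : sm ga N4361 = N6967 := flp_a L43317
theorem L43319 : sm gf N6967 = N4364 := ded_20_2 L29895 L29881 L43315
theorem L43320 : sm gf N4364 = N6967 := flp_f L43319
theorem L43321 : sm gd N4361 = N6968 := rfl
theorem L43322 : sm gd N6968 = N4361 := flp_d L43321
theorem L43323 : sm gb N6968 = N5052 := ded_14_1 L33515 L29887 L43321
theorem L43324 : sm gb N5052 = N6968 := flp_b L43323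
theorem L43325 : sm gf N6968 = N4366 := ded_23_2 L29905 L29885 L43321
theorem L43326 : sm gf N4366 = N6968 := flp_f L43325
theorem L43331 : sm ga N4363 = N6970 := rfl
theorem L43332 : sm ga N6970 = N4363 := flp_a L43331
theorem L43337 : sm gf N6970 = N5642 := ded_29_0 L36214 L36232 L37830 L43331
theorem L43338 : sm gf N5642 = N6970 := flp_f L43337
theorem L43341 : sm gc N4363 = N6971 := rfl
theorem L43342 : sm gc N6971 = N4363 := flp_c L43341
theorem L43343 : sm gf N4363 = N6972 := rfl
theorem L43345 : sm ga N6972 = N5642 := ded_11_1 L43338 L43332 L43343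
theorem L43346 : sm ga N5642 = N6972 := flp_a L43345
theorem L43349 : sm gb N4364 = N6973 := rfl
theorem L43350 : sm gb N6973 = N4364 := flp_b L43349
theorem L43351 : sm gd N4364 = N6974 := rfl
theorem L43352 : sm gd N6974 = N4364 := flp_d L43351
theorem L43353 : sm ga N6974 = N4366 := ded_9_1 L29905 L29897 L43351
theorem L43354 : sm ga N4366 = N6974 := flp_a L43353
theorem L43355 : sm gg N4364 = N6975 := rfl
theorem L43356 : sm gg N6975 = N4364 := flp_g L43355
theorem L43365 : sm ge N4366 = N6977 := rfl
theorem L43366 : sm ge N6977 = N4366 := flp_e L43365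
theorem L43371 : sm gb N4367 = N6979 := rfl
theorem L43372 : sm gb N6979 = N4367 := flp_b L43371
theorem L43373 : sm gc N6979 = N5432 := ded_13_2 L37842 L29754 L23262 L29909 L43371
theorem L43375 : sm gg N6979 = N5993 := ded_17_2 L41416 L41413 L29078 L29906 L43371
theorem L43376 : sm gg N5993 = N6979 := flp_g L43375
theorem L43377 : sm ga N5433 = N6979 := ded_8_3 L43373 L35251 L35256
theorem L43387 : sm gb N4369 = N6981 := rfl
theorem L43388 : sm gb N6981 = N4369 := flp_b L43387
theorem L43389 : sm gd N4369 = N6982 := rfl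
theorem L43391 : sm ga N6982 = N4373 := ded_9_1 L29933 L29919 L43389
theorem L43392 : sm ga N4373 = N6982 := flp_a L43391
theorem L43393 : sm gf N4369 = N6983 := rfl
theorem L43394 : sm gf N6983 = N4369 := flp_f L43393
theorem L43397 : sm gc N6983 = N4370 := ded_20_1 L29921 L29916 L43393
theorem L43398 : sm gc N4370 = N6983 := flp_c L43397
theorem L43399 : sm gg N4369 = N6984 := rfl
theorem L43400 : sm gg N6984 = N4369 := flp_g L43399
theorem L43401 : sm ga N6984 = N4375 := ded_12_1 L29939 L29919 L43399
theorem L43402 : sm ga N4375 = N6984 := flp_a L43401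
theorem L43403 : sm gc N6984 = N4371 := ded_21_1 L29925 L29916 L43399
theorem L43404 : sm gc N4371 = N6984 := flp_c L43403
theorem L43405 : sm gb N4370 = N6985 := rfl
theorem L43406 : sm gb N6985 = N4370 := flp_b L43405
theorem L43409 : sm gf N6985 = N6893 := ded_16_2 L42865 L36193 L26515 L29920 L43405
theorem L43411 : sm ga N6985 = N6061 := ded_7_1 L38161 L27527 L27316 L37789 L43146 L43137 L29792 L29923 L43405
theorem L43412 : sm ga N6061 = N6985 := flp_a L43411
theorem L43413 : sm gb N4371 = N6986 := rfl
theorem L43415 : sm gf N6986 = N6149 := ded_16_2 L38625 L38632 L42871 L29945 L43413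
theorem L43416 : sm gf N6149 = N6986 := flp_f L43415
theorem L43417 : sm ga N4372 = N6987 := rfl
theorem L43418 : sm ga N6987 = N4372 := flp_a L43417
theorem L43419 : sm gc N6987 = N4379 := ded_8_2 L29957 L29931 L43417
theorem L43421 : sm gd N4372 = N6988 := rfl
theorem L43423 : sm gb N6988 = N4373 := ded_14_1 L29933 L29928 L43421
theorem L43424 : sm gb N4373 = N6988 := flp_b L43423
theorem L43425 : sm gf N4372 = N6989 := rfl
theorem L43426 : sm gf N6989 = N4372 := flp_f L43425
theorem L43427 : sm gc N6989 = N4381 := ded_20_1 L29963 L29931 L43425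
theorem L43431 : N5105 = N4372 := coi_30_0 L43425 L43427 L31224 L31218 L31151 L31145 L23894 L23848 L23846 L24220 L19855 L9428 L9435 L18470 L18585 L20784 L20786 L20838 L25415 L33764
theorem L43432 : N5105 = N4372 := eqc rfl L43431 rfl
theorem L43433 : sm ga N4372 = N3432 := trf L43432 L33765 rfl
theorem L43434 : N3432 = N6987 := eqe L43433 L43417
theorem L43435 : N6987 = N3432 := (eqc rfl L43434 rfl).symm
theorem L43436 : sm ga N3432 = N4372 := trf L43435 L43418 rfl
theorem L43437 : sm ga N4372 = N3432 := flp_a L43436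
theorem L43438 : sm gc N3432 = N4379 := trf L43435 L43419 rfl
theorem L43439 : N4379 = N5098 := eqe L43438 L33739
theorem L43440 : N5098 = N4379 := (eqc rfl L43439 rfl).symm
theorem L43441 : sm gb N4379 = N3429 := trf L43440 L33737 rfl
theorem L43443 : sm gc N4379 = N3432 := trf L43440 L33738 rfl
theorem L43444 : sm gc N3432 = N4379 := flp_c L43443
theorem L43445 : sm ga N6988 = N5106 := ded_9_3 L33767 L43436 L43421
theorem L43446 : sm ga N5106 = N6988 := flp_a L43445
theorem L43447 : sm ga N6857 = N4554 := ded_10_3 L30908 L43436 L42623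
theorem L43448 : sm ga N4554 = N6857 := flp_a L43447
theorem L43449 : N6981 = N3450 := coi_7_5 L25486 L20887 L18653 L18632 L20841 L25415 L43436 L29929 L29919 L43387
theorem L43450 : N6981 = N3450 := eqc rfl L43449 rfl
theorem L43451 : sm gb N3450 = N4369 := trf L43450 L43388 rfl
theorem L43452 : N4369 = N5149 := eqe L43451 L33948
theorem L43453 : N5149 = N4369 := (eqc rfl L43452 rfl).symm
theorem L43454 : sm gb N4369 = N3450 := trf L43453 L33949 rfl
theorem L43456 : sm gb N4551 = N6864 := ded_15_3 L42662 L43441 L30897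
theorem L43457 : sm gb N6864 = N4551 := flp_b L43456
theorem L43458 : N5095 = N4433 := coi_7_2 L30235 L23406 L19907 L9449 L9424 L19833 L23271 L29956 L43441 L33727
theorem L43459 : N5095 = N4433 := eqc rfl L43458 rfl
theorem L43460 : sm ga N4433 = N3429 := trf L43459 L33726 rfl
theorem L43461 : sm ga N3429 = N4433 := flp_a L43460
theorem L43462 : sm gc N4433 = N3428 := trf L43459 L33725 rfl
theorem L43463 : sm gc N3428 = N4433 := flp_c L43462
theorem L43464 : sm gc N4554 = N6864 := ded_19_3 L42662 L43443 L30909
theorem L43465 : sm gc N6864 = N4554 := flp_c L43464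
theorem L43466 : sm gb N5150 = N6982 := ded_7_8 L43391 L43424 L43445 L33768 L25419 L20850 L20891 L25490 L33953
theorem L43468 : sm gb N4570 = N6854 := ded_7_8 L42604 L42620 L43447 L30907 L23747 L20108 L20125 L23797 L30986
theorem L43470 : sm gb N5144 = N5622 := ded_13_3 L36130 L26515 L29916 L43454 L33913
theorem L43472 : sm ga N4453 = N4551 := ded_7_9 L43456 L42661 L29615 L23111 L19774 L18464 L19930 L23459 L30328
theorem L43473 : sm ga N4551 = N4453 := flp_a L43472
theorem L43474 : sm gc N4550 = N4453 := ded_19_3 L30330 L43462 L30891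
theorem L43475 : sm gc N4453 = N4550 := flp_c L43474
theorem L43476 : N5616 = N4428 := coi_13_4 L30202 L30234 L43462 L25407 L26471 L36102
theorem L43477 : N5616 = N4428 := eqc rfl L43476 rfl
theorem L43478 : sm gb N4428 = N3668 := trf L43477 L36103 rfl
theorem L43479 : sm gb N3668 = N4428 := flp_b L43478
theorem L43480 : N6313 = N6883 := coi_13_5 L42759 L30989 L43468 L42603 L29600 L39816
theorem L43481 : N6883 = N6313 := (eqc rfl L43480 rfl).symm
theorem L43482 : sm gb N6313 = N4306 := trf L43481 L42759 rfl
theorem L43484 : N6217 = N4788 := coi_13_4 L32162 L30893 L43474 L30329 L27904 L38942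
theorem L43485 : N6217 = N4788 := eqc rfl L43484 rfl
theorem L43486 : sm gb N4788 = N3972 := trf L43485 L38943 rfl
theorem L43487 : sm gb N3972 = N4788 := flp_b L43486
theorem L43488 : sm gg N4372 = N6990 := rfl
theorem L43489 : sm gg N6990 = N4372 := flp_g L43488
theorem L43490 : sm ga N6990 = N5108 := ded_12_1 L33773 L43436 L43488
theorem L43491 : sm ga N5108 = N6990 := flp_a L43490
theorem L43492 : sm gc N6990 = N4382 := ded_21_1 L29965 L29931 L43488
theorem L43493 : sm gc N4382 = N6990 := flp_c L43492
theorem L43498 : sm gf N4373 = N6993 := rfl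
theorem L43499 : sm gf N6993 = N4373 := flp_f L43498
theorem L43502 : sm gg N4373 = N6994 := rfl
theorem L43504 : sm gd N6994 = N4375 := ded_24_1 L29939 L29932 L43502
theorem L43505 : sm gd N4375 = N6994 := flp_d L43504
theorem L43506 : sm gb N4374 = N6995 := rfl
theorem L43514 : sm gb N4375 = N6997 := rfl
theorem L43515 : sm gb N6997 = N4375 := flp_b L43514
theorem L43516 : sm gf N4375 = N6998 := rfl
theorem L43517 : sm gf N6998 = N4375 := flp_f L43516
theorem L43520 : sm gc N6998 = N4378 := ded_20_1 L29951 L29941 L43516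
theorem L43521 : sm gc N4378 = N6998 := flp_c L43520
theorem L43524 : sm ga N4377 = N6999 := rfl
theorem L43525 : sm ga N6999 = N4377 := flp_a L43524
theorem L43528 : sm gg N6999 = N4386 := ded_12_2 L29985 L29949 L43524
theorem L43529 : sm gg N4386 = N6999 := flp_g L43528
theorem L43530 : sm gf N6999 = N6080 := ded_29_0 L38253 L29989 L29949 L43524
theorem L43531 : sm gf N6080 = N6999 := flp_f L43530
theorem L43532 : sm gc N4377 = N7000 := rfl
theorem L43533 : sm gc N7000 = N4377 := flp_c L43532
theorem L43536 : sm gf N4377 = N7001 := rfl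
theorem L43537 : sm gf N7001 = N4377 := flp_f L43536
theorem L43542 : sm gb N4378 = N7002 := rfl
theorem L43543 : sm gb N7002 = N4378 := flp_b L43542
theorem L43546 : sm ga N7002 = N4406 := ded_7_1 L30098 L29913 L38702 L38698 L27819 L38635 L42871 L29953 L43542
theorem L43548 : sm gg N7002 = N4404 := ded_31_3 L30078 L28958 L29752 L38657 L38905 L38903 L27883 L23316 L19852 L19802 L19828 L23269 L29950 L43542
theorem L43550 : sm gc N6555 = N7002 := ded_8_0 L43546 L41155 L41152
theorem L43558 : sm gf N4379 = N7004 := rfl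
theorem L43559 : sm gf N7004 = N4379 := flp_f L43558
theorem L43560 : sm ga N7004 = N4381 := ded_11_1 L29963 L29956 L43558
theorem L43561 : sm ga N4381 = N7004 := flp_a L43560
theorem L43562 : sm gc N7004 = N5107 := ded_20_1 L33771 L43444 L43558
theorem L43564 : sm gg N4379 = N7005 := rfl
theorem L43566 : sm ga N7005 = N4382 := ded_12_1 L29965 L29956 L43564
theorem L43567 : sm ga N4382 = N7005 := flp_a L43566
theorem L43568 : sm gc N7005 = N5108 := ded_21_1 L33773 L43444 L43564
theorem L43570 : sm gc N4380 = N7006 := rfl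
theorem L43572 : sm gb N7006 = N5075 := ded_13_1 L33633 L25359 L23278 L29961 L43570
theorem L43573 : sm gb N5075 = N7006 := flp_b L43572
theorem L43574 : sm ge N4380 = N7007 := rfl
theorem L43575 : sm ge N7007 = N4380 := flp_e L43574
theorem L43578 : sm gf N4380 = N7008 := rfl
theorem L43579 : sm gf N7008 = N4380 := flp_f L43578
theorem L43580 : sm gd N7008 = N4381 := ded_23_1 L29963 L29958 L43578
theorem L43581 : sm gd N4381 = N7008 := flp_d L43580
theorem L43582 : sm gg N4380 = N7009 := rfl
theorem L43584 : sm gd N7009 = N4382 := ded_24_1 L29965 L29958 L43582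
theorem L43585 : sm gd N4382 = N7009 := flp_d L43584
theorem L43586 : sm gg N4381 = N7010 := rfl
theorem L43587 : sm gg N7010 = N4381 := flp_g L43586
theorem L43588 : sm gf N7005 = N7010 := ded_29_0 L43587 L29963 L29964 L43567
theorem L43589 : sm gf N7010 = N7005 := flp_f L43588
theorem L43590 : sm gb N4382 = N7011 := rfl
theorem L43591 : sm gb N7011 = N4382 := flp_b L43590
theorem L43592 : sm gg N7011 = N4385 := ded_17_2 L29983 L23280 L23271 L29964 L43590
theorem L43593 : sm gg N4385 = N7011 := flp_g L43592
theorem L43594 : sm gf N4382 = N7012 := rfl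
theorem L43595 : sm gf N7012 = N4382 := flp_f L43594
theorem L43598 : sm gg N7012 = N7004 := ded_29_3 L43560 L29963 L29964 L43594
theorem L43599 : sm gg N7004 = N7012 := flp_g L43598
theorem L43600 : sm gg N4383 = N7013 := rfl
theorem L43601 : sm gg N7013 = N4383 := flp_g L43600
theorem L43602 : sm ga N7013 = N4392 := ded_12_1 L30013 L29969 L43600
theorem L43606 : sm ge N7013 = N4384 := ded_26_1 L29973 L29966 L43600
theorem L43607 : sm ge N4384 = N7013 := flp_e L43606
theorem L43610 : sm gb N4384 = N7014 := rfl
theorem L43612 : sm gd N7014 = N4385 := ded_14_2 L29983 L29979 L43610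
theorem L43613 : sm gd N4385 = N7014 := flp_d L43612
theorem L43614 : sm ga N4385 = N7015 := rfl
theorem L43615 : sm ga N7015 = N4385 := flp_a L43614
theorem L43616 : sm gc N4385 = N7016 := rfl
theorem L43617 : sm gc N7016 = N4385 := flp_c L43616
theorem L43618 : sm gb N7016 = N4387 := ded_13_1 L29987 L23288 L23284 L29982 L43616
theorem L43619 : sm gb N4387 = N7016 := flp_b L43618
theorem L43620 : sm gf N4385 = N7017 := rfl
theorem L43622 : sm gb N7017 = N6949 := ded_16_1 L43222 L29823 L23286 L29982 L43620
theorem L43624 : sm gb N4386 = N7018 := rfl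
theorem L43625 : sm gb N7018 = N4386 := flp_b L43624
theorem L43628 : sm gf N4587 = N7018 := ded_31_1 L43625 L43529 L43530 L38249 L38258 L38264 L27831 L27786 L27774 L27770 L24798 L24790 L24785 L31091
theorem L43630 : sm ge N7018 = N5234 := ded_25_1 L34349 L31089 L43628
theorem L43632 : sm gg N7018 = N6898 := ded_29_3 L42935 L32715 L31091 L43628
theorem L43634 : sm gb N5234 = N6871 := ded_15_1 L42698 L43624 L43630
theorem L43636 : sm gf N6871 = N5235 := ded_16_2 L34351 L25676 L25671 L34348 L43634
theorem L43638 : sm ga N5235 = N6873 := ded_11_1 L42705 L42696 L43636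
theorem L43639 : sm ga N6873 = N5235 := flp_a L43638
theorem L43640 : sm gc N4386 = N7019 := rfl
theorem L43641 : sm gc N7019 = N4386 := flp_c L43640
theorem L43644 : sm gf N4386 = N7020 := rfl
theorem L43645 : sm gf N7020 = N4386 := flp_f L43644
theorem L43654 : sm gb N7020 = N4402 := ded_16_1 L30061 L31084 L43628 L43625 L43644
theorem L43655 : sm gb N4402 = N7020 := flp_b L43654
theorem L43656 : sm gd N4387 = N7021 := rfl
theorem L43657 : sm gd N7021 = N4387 := flp_d L43656
theorem L43662 : sm ga N4389 = N7023 := rfl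
theorem L43666 : sm gd N7023 = N5531 := ded_9_2 L35741 L29995 L43662
theorem L43668 : sm ge N4389 = N7024 := rfl
theorem L43670 : sm gb N7024 = N4390 := ded_15_1 L29999 L29992 L43668
theorem L43671 : sm gb N4390 = N7024 := flp_b L43670
theorem L43672 : sm gc N7024 = N4444 := ded_19_1 L30285 L29997 L43668
theorem L43673 : sm gc N4444 = N7024 := flp_c L43672
theorem L43674 : sm gf N4389 = N7025 := rfl
theorem L43675 : sm gf N7025 = N4389 := flp_f L43674
theorem L43680 : sm gg N4389 = N7026 := rfl
theorem L43681 : sm gg N7026 = N4389 := flp_g L43680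
theorem L43686 : sm gd N4390 = N7027 := rfl
theorem L43687 : sm gd N7027 = N4390 := flp_d L43686
theorem L43688 : sm ga N7027 = N5484 := ded_9_1 L35498 L30001 L43686
theorem L43689 : sm ga N5484 = N7027 := flp_a L43688
theorem L43692 : sm gg N4390 = N7028 := rfl
theorem L43693 : sm gg N7028 = N4390 := flp_g L43692
theorem L43694 : sm ga N7028 = N5538 := ded_12_1 L35761 L30001 L43692
theorem L43695 : sm ga N5538 = N7028 := flp_a L43694
theorem L43696 : sm gc N7028 = N4392 := ded_21_1 L30013 L30003 L43692
theorem L43698 : sm ge N7028 = N4391 := ded_26_1 L30005 L29998 L43692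
theorem L43704 : sm gb N4392 = N7030 := rfl
theorem L43705 : sm gb N7030 = N4392 := flp_b L43704
theorem L43706 : sm ge N7030 = N4393 := ded_15_2 L30017 L30015 L43704
theorem L43707 : sm ge N4393 = N7030 := flp_e L43706
theorem L43708 : sm gg N7030 = N4447 := ded_17_2 L30297 L23438 L23298 L30012 L43704
theorem L43709 : sm gg N4447 = N7030 := flp_g L43708
theorem L43710 : sm gf N4392 = N7031 := rfl
theorem L43711 : sm gf N7031 = N4392 := flp_f L43710
theorem L43716 : sm gg N7031 = N6942 := ded_29_3 L43189 L29816 L30012 L43710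
theorem L43718 : sm ga N4393 = N7032 := rfl
theorem L43719 : sm ga N7032 = N4393 := flp_a L43718
theorem L43720 : sm gd N7032 = N4395 := ded_9_2 L30031 L30019 L43718
theorem L43721 : sm gd N4395 = N7032 := flp_d L43720
theorem L43722 : sm gg N7032 = N4449 := ded_12_2 L30315 L30021 L43718
theorem L43723 : sm gg N4449 = N7032 := flp_g L43722
theorem L43724 : sm gc N4393 = N7033 := rfl
theorem L43725 : sm gc N7033 = N4393 := flp_c L43724
theorem L43726 : sm gg N7033 = N4450 := ded_21_2 L30319 L30021 L43724
theorem L43727 : sm gg N4450 = N7033 := flp_g L43726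
theorem L43728 : sm gf N4393 = N7034 := rfl
theorem L43729 : sm gf N7034 = N4393 := flp_f L43728
theorem L43730 : sm gd N7034 = N4396 := ded_23_1 L30035 L30019 L43728
theorem L43732 : sm gb N4394 = N7035 := rfl
theorem L43734 : sm gd N7035 = N4397 := ded_14_2 L30037 L30027 L43732
theorem L43735 : sm gd N4397 = N7035 := flp_d L43734
theorem L43736 : sm gb N4395 = N7036 := rfl
theorem L43737 : sm gb N7036 = N4395 := flp_b L43736
theorem L43738 : sm gb N4396 = N7037 := rfl
theorem L43739 : sm gb N7037 = N4396 := flp_b L43738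
theorem L43742 : sm ga N4397 = N7038 := rfl
theorem L43743 : sm ga N7038 = N4397 := flp_a L43742
theorem L43744 : sm gc N4397 = N7039 := rfl
theorem L43745 : sm gc N7039 = N4397 := flp_c L43744
theorem L43746 : sm gb N7039 = N4399 := ded_13_1 L30041 L23316 L23312 L30036 L43744
theorem L43747 : sm gb N4399 = N7039 := flp_b L43746
theorem L43752 : sm gc N4398 = N7041 := rfl
theorem L43753 : sm gc N7041 = N4398 := flp_c L43752
theorem L43754 : sm ga N7041 = N4399 := ded_8_1 L30041 L30038 L43752
theorem L43755 : sm ga N4399 = N7041 := flp_a L43754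
theorem L43756 : sm gb N7041 = N5040 := ded_13_1 L33470 L25297 L33181 L43024 L43752
theorem L43757 : sm gb N5040 = N7041 := flp_b L43756
theorem L43768 : sm gd N4399 = N7043 := rfl
theorem L43769 : sm gd N7043 = N4399 := flp_d L43768
theorem L43770 : sm gg N4399 = N7044 := rfl
theorem L43771 : sm gg N7044 = N4399 := flp_g L43770
theorem L43792 : sm gb N4403 = N7047 := rfl
theorem L43796 : sm ge N7047 = N5231 := ded_15_2 L34337 L30071 L43792
theorem L43797 : sm ge N5231 = N7047 := flp_e L43796
theorem L43798 : sm gg N7047 = N5429 := ded_17_2 L43044 L43042 L31077 L30073 L43792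
theorem L43799 : sm gg N5429 = N7047 := flp_g L43798
theorem L43802 : sm gb N4404 = N7048 := rfl
theorem L43803 : sm gb N7048 = N4404 := flp_b L43802
theorem L43804 : sm gd N7048 = N6144 := ded_14_2 L38607 L30077 L43802
theorem L43805 : sm gd N6144 = N7048 := flp_d L43804
theorem L43806 : sm gc N7048 = N6220 := ded_13_2 L38961 L27913 L28932 L30082 L43802
theorem L43807 : sm gc N6220 = N7048 := flp_c L43806
theorem L43808 : sm gf N7048 = N6895 := ded_16_2 L42814 L29716 L28959 L30079 L43802
theorem L43809 : sm gf N6895 = N7048 := flp_f L43808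
theorem L43810 : sm gg N7048 = N6985 := ded_17_2 L43406 L29955 L43542 L43548 L43802
theorem L43811 : sm gg N6985 = N7048 := flp_g L43810
theorem L43812 : sm gd N4405 = N7049 := rfl
theorem L43813 : sm gd N7049 = N4405 := flp_d L43812
theorem L43814 : sm ga N7049 = N6249 := ded_9_1 L39458 L30089 L43812
theorem L43820 : sm gc N4407 = N7050 := rfl
theorem L43821 : sm gc N7050 = N4407 := flp_c L43820
theorem L43822 : sm gg N4407 = N7051 := rfl
theorem L43823 : sm gg N7051 = N4407 := flp_g L43822
theorem L43824 : sm ga N7051 = N6067 := ded_12_1 L42960 L42955 L43822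
theorem L43826 : sm gd N7051 = N6155 := ded_24_1 L38651 L30103 L43822
theorem L43828 : sm gf N7051 = N6921 := ded_29_2 L43066 L43048 L43051 L43822
theorem L43829 : sm gf N6921 = N7051 := flp_f L43828
theorem L43830 : sm gb N4408 = N7052 := rfl
theorem L43831 : sm gb N7052 = N4408 := flp_b L43830
theorem L43832 : sm gd N4408 = N7053 := rfl
theorem L43833 : sm gd N7053 = N4408 := flp_d L43832
theorem L43834 : sm ga N7053 = N4409 := ded_9_1 L30111 L30107 L43832
theorem L43835 : sm ga N4409 = N7053 := flp_a L43834
theorem L43836 : sm gf N7053 = N4420 := ded_23_2 L30159 L30109 L43832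
theorem L43837 : sm gf N4420 = N7053 := flp_f L43836
theorem L43838 : sm gc N4409 = N7054 := rfl
theorem L43839 : sm gc N7054 = N4409 := flp_c L43838
theorem L43840 : sm gf N7054 = N4423 := ded_20_2 L30175 L30115 L43838
theorem L43841 : sm gf N4423 = N7054 := flp_f L43840
theorem L43842 : sm ge N4409 = N7055 := rfl
theorem L43843 : sm ge N7055 = N4409 := flp_e L43842
theorem L43846 : sm gf N7055 = N4424 := ded_25_2 L30177 L30115 L43842
theorem L43848 : sm gg N4409 = N7056 := rfl
theorem L43849 : sm gg N7056 = N4409 := flp_g L43848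
theorem L43850 : sm gd N7056 = N4410 := ded_24_1 L30117 L30110 L43848
theorem L43856 : sm ga N4411 = N7058 := rfl
theorem L43860 : sm gg N7058 = N4412 := ded_12_2 L30127 L30125 L43856
theorem L43861 : sm gg N4412 = N7058 := flp_g L43860
theorem L43864 : sm gc N4411 = N7059 := rfl
theorem L43865 : sm gc N7059 = N4411 := flp_c L43864
theorem L43866 : sm gg N7059 = N4413 := ded_21_2 L30131 L30125 L43864
theorem L43867 : sm gg N4413 = N7059 := flp_g L43866
theorem L43874 : sm gc N4412 = N7061 := rfl
theorem L43875 : sm gc N7061 = N4412 := flp_c L43874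
theorem L43876 : sm ga N7061 = N4413 := ded_8_1 L30131 L30126 L43874
theorem L43877 : sm ga N4413 = N7061 := flp_a L43876
theorem L43878 : sm gf N4412 = N7062 := rfl
theorem L43880 : sm ga N7062 = N4414 := ded_11_1 L30135 L30126 L43878
theorem L43886 : sm gb N7062 = N6085 := ded_16_1 L38277 L27597 L37804 L38709 L43878
theorem L43888 : sm gd N4413 = N7063 := rfl
theorem L43889 : sm gd N7063 = N4413 := flp_d L43888
theorem L43890 : sm gb N7063 = N5039 := ded_14_1 L33467 L30133 L43888
theorem L43906 : sm gf N4415 = N7066 := rfl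
theorem L43907 : sm gf N7066 = N4415 := flp_f L43906
theorem L43908 : sm ga N7066 = N4417 := ded_11_1 L30149 L30140 L43906
theorem L43910 : sm gc N7066 = N6529 := ded_20_1 L40975 L38750 L43906
theorem L43911 : sm gc N6529 = N7066 := flp_c L43910
theorem L43912 : sm gd N7066 = N6176 := ded_23_1 L38743 L30143 L43906
theorem L43913 : sm gd N6176 = N7066 := flp_d L43912
theorem L43914 : sm ge N7066 = N6693 := ded_25_1 L41747 L38759 L43906
theorem L43916 : sm gg N7066 = N6918 := ded_29_1 L43058 L30153 L30140 L43906
theorem L43917 : sm gg N6918 = N7066 := flp_g L43916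
theorem L43918 : sm gb N4880 = N7066 := ded_7_0 L43908 L43050 L43047 L38572 L38563 L27770 L24265 L24773 L32686
theorem L43920 : N6693 = N5892 := coi_15_1 L37389 L32689 L43918 L43914
theorem L43921 : N6693 = N5892 := eqc rfl L43920 rfl
theorem L43924 : sm gc N5892 = N4216 := trf L43921 L41750 rfl
theorem L43925 : sm gc N4216 = N5892 := flp_c L43924
theorem L43928 : sm gf N5892 = N4215 := trf L43921 L41747 rfl
theorem L43929 : sm gf N4215 = N5892 := flp_f L43928
theorem L43930 : sm gg N4415 = N7067 := rfl
theorem L43931 : sm gg N7067 = N4415 := flp_g L43930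
theorem L43932 : sm ga N7067 = N4418 := ded_12_1 L30153 L30140 L43930
theorem L43933 : sm ga N4418 = N7067 := flp_a L43932
theorem L43938 : sm ge N7067 = N6694 := ded_26_1 L41753 L38759 L43930
theorem L43939 : sm ge N6694 = N7067 := flp_e L43938
theorem L43940 : sm gb N4416 = N7068 := rfl
theorem L43941 : sm gb N7068 = N4416 := flp_b L43940
theorem L43942 : sm ge N7068 = N6432 := ded_15_2 L40474 L38762 L43940
theorem L43943 : sm ge N6432 = N7068 := flp_e L43942
theorem L43944 : sm gc N7068 = N4419 := ded_13_2 L30157 L23364 L23359 L30146 L43940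
theorem L43945 : sm gc N4419 = N7068 := flp_c L43944
theorem L43946 : sm ga N7068 = N6400 := ded_7_1 L40320 L28494 L22499 L19445 L19528 L22687 L28824 L38757 L43940
theorem L43947 : sm ga N6400 = N7068 := flp_a L43946
theorem L43948 : sm gd N4416 = N7069 := rfl
theorem L43949 : sm gd N7069 = N4416 := flp_d L43948
theorem L43950 : sm ga N7069 = N6509 := ded_9_1 L40876 L38757 L43948
theorem L43951 : sm ga N6509 = N7069 := flp_a L43950
theorem L43952 : sm gf N4416 = N7070 := rfl
theorem L43953 : sm gf N7070 = N4416 := flp_f L43952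
theorem L43956 : sm gc N7070 = N4417 := ded_20_1 L30149 L30146 L43952
theorem L43957 : sm gc N4417 = N7070 := flp_c L43956
theorem L43958 : sm ge N7070 = N6690 := ded_25_1 L41731 L38762 L43952
theorem L43959 : sm ge N6690 = N7070 := flp_e L43958
theorem L43960 : sm gg N4416 = N7071 := rfl
theorem L43961 : sm gg N7071 = N4416 := flp_g L43960
theorem L43962 : sm ga N7071 = N6530 := ded_12_1 L40979 L38757 L43960
theorem L43963 : sm ga N6530 = N7071 := flp_a L43962
theorem L43964 : sm gc N7071 = N4418 := ded_21_1 L30153 L30146 L43960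
theorem L43965 : sm gc N4418 = N7071 := flp_c L43964
theorem L43966 : sm ge N7071 = N6691 := ded_26_1 L41737 L38762 L43960
theorem L43967 : sm ge N6691 = N7071 := flp_e L43966
theorem L43968 : sm gg N4417 = N7072 := rfl
theorem L43969 : sm gg N7072 = N4417 := flp_g L43968
theorem L43970 : sm ga N7072 = N6918 := ded_12_1 L43917 L43908 L43968
theorem L43972 : sm gd N7072 = N6182 := ded_24_1 L38791 L30151 L43968
theorem L43974 : sm gf N7067 = N7072 := ded_29_0 L43969 L30149 L30152 L43933
theorem L43975 : sm gf N7072 = N7067 := flp_f L43974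
theorem L43976 : sm gb N6070 = N7072 := ded_31_14 L43969 L30149 L23360 L23367 L23373 L30120 L30124 L30134 L30138 L43296 L43290 L29864 L39212 L38202
theorem L43977 : sm gb N7072 = N6070 := flp_b L43976
theorem L43978 : sm gb N4418 = N7073 := rfl
theorem L43979 : sm gb N7073 = N4418 := flp_b L43978
theorem L43980 : sm gd N7073 = N6183 := ded_14_2 L38795 L30155 L43978
theorem L43982 : sm gf N7073 = N6907 := ded_16_2 L42962 L29749 L43053 L43058 L43978
theorem L43984 : sm gg N7073 = N4422 := ded_17_2 L30171 L23368 L23359 L30152 L43978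
theorem L43986 : sm ga N4419 = N7074 := rfl
theorem L43987 : sm ga N7074 = N4419 := flp_a L43986
theorem L43988 : sm gc N7074 = N6400 := ded_8_2 L43947 L43944 L43986
theorem L43989 : sm gc N6400 = N7074 := flp_c L43988
theorem L43990 : sm ge N7074 = N6433 := ded_10_2 L40480 L39950 L43986
theorem L43992 : sm gd N4419 = N7075 := rfl
theorem L43993 : sm gd N7075 = N4419 := flp_d L43992
theorem L43994 : sm gb N7075 = N4420 := ded_14_1 L30159 L30156 L43992
theorem L43995 : sm gb N4420 = N7075 := flp_b L43994
theorem L43996 : sm gf N4419 = N7076 := rfl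
theorem L43997 : sm gf N7076 = N4419 := flp_f L43996
theorem L43998 : sm gg N4419 = N7077 := rfl
theorem L43999 : sm gg N7077 = N4419 := flp_g L43998
theorem L44000 : sm ge N4420 = N7078 := rfl
theorem L44001 : sm ge N7078 = N4420 := flp_e L44000
theorem L44002 : sm ga N7078 = N4424 := ded_10_1 L30177 L30161 L44000
theorem L44003 : sm ga N4424 = N7078 := flp_a L44002
theorem L44004 : sm gg N4420 = N7079 := rfl
theorem L44005 : sm gg N7079 = N4420 := flp_g L44004
theorem L44006 : sm ga N7079 = N4425 := ded_12_1 L30181 L30161 L44004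
theorem L44007 : sm ga N4425 = N7079 := flp_a L44006
theorem L44008 : sm gd N7079 = N4421 := ded_24_1 L30163 L30158 L44004
theorem L44009 : sm gd N4421 = N7079 := flp_d L44008
theorem L44010 : sm gf N7079 = N7056 := ded_29_2 L43849 L43835 L43836 L44004
theorem L44011 : sm gf N7056 = N7079 := flp_f L44010
theorem L44012 : sm gb N4421 = N7080 := rfl
theorem L44013 : sm gb N7080 = N4421 := flp_b L44012
theorem L44014 : sm gc N4422 = N7081 := rfl
theorem L44015 : sm gc N7081 = N4422 := flp_c L44014
theorem L44020 : sm ge N4423 = N7083 := rfl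
theorem L44021 : sm ge N7083 = N4423 := flp_e L44020
theorem L44022 : sm gc N7083 = N4424 := ded_19_1 L30177 L30174 L44020
theorem L44023 : sm gc N4424 = N7083 := flp_c L44022
theorem L44024 : sm gg N4423 = N7084 := rfl
theorem L44025 : sm gg N7084 = N4423 := flp_g L44024
theorem L44026 : sm gc N7084 = N4425 := ded_21_1 L30181 L30174 L44024
theorem L44028 : sm gg N4424 = N7085 := rfl
theorem L44029 : sm gg N7085 = N4424 := flp_g L44028
theorem L44030 : sm ge N7085 = N4425 := ded_26_1 L30181 L30176 L44028
theorem L44031 : sm ge N4425 = N7085 := flp_e L44030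
theorem L44032 : sm gb N7085 = N5662 := ded_17_1 L36296 L26597 L23494 L30179 L44028
theorem L44034 : sm gf N4425 = N7086 := rfl
theorem L44035 : sm gf N7086 = N4425 := flp_f L44034
theorem L44036 : sm ga N7086 = N7056 := ded_11_1 L44011 L44006 L44034
theorem L44037 : sm ga N7056 = N7086 := flp_a L44036
theorem L44038 : sm gd N7086 = N4426 := ded_23_1 L30187 L30183 L44034
theorem L44039 : sm gd N4426 = N7086 := flp_d L44038
theorem L44042 : sm gb N4426 = N7087 := rfl
theorem L44043 : sm gb N7087 = N4426 := flp_b L44042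
theorem L44044 : sm gf N7087 = N5664 := ded_16_2 L36303 L26554 L23384 L30186 L44042
theorem L44045 : sm gf N5664 = N7087 := flp_f L44044
theorem L44066 : sm gd N4428 = N7091 := rfl
theorem L44067 : sm gd N7091 = N4428 := flp_d L44066
theorem L44068 : sm ga N7091 = N4429 := ded_9_1 L30207 L30200 L44066
theorem L44069 : sm ga N4429 = N7091 := flp_a L44068
theorem L44072 : sm gf N4428 = N7092 := rfl
theorem L44074 : sm ga N7092 = N4430 := ded_11_1 L30211 L30200 L44072
theorem L44075 : sm ga N4430 = N7092 := flp_a L44074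
theorem L44076 : sm gc N7092 = N4435 := ded_20_1 L30241 L30203 L44072
theorem L44077 : sm gc N4435 = N7092 := flp_c L44076
theorem L44080 : sm gg N4428 = N7093 := rfl
theorem L44081 : sm gg N7093 = N4428 := flp_g L44080
theorem L44082 : sm ga N7093 = N4431 := ded_12_1 L30219 L30200 L44080
theorem L44083 : sm ga N4431 = N7093 := flp_a L44082
theorem L44084 : sm gc N7093 = N4436 := ded_21_1 L30245 L30203 L44080
theorem L44086 : sm ge N7093 = N6202 := ded_26_1 L38886 L30205 L44080
theorem L44087 : sm ge N6202 = N7093 := flp_e L44086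
theorem L44088 : sm gc N4429 = N7094 := rfl
theorem L44089 : sm gc N7094 = N4429 := flp_c L44088
theorem L44090 : sm ge N4429 = N7095 := rfl
theorem L44092 : sm gb N7095 = N4432 := ded_15_1 L30227 L30209 L44090
theorem L44093 : sm gb N4432 = N7095 := flp_b L44092
theorem L44096 : sm gf N4429 = N7096 := rfl
theorem L44097 : sm gf N7096 = N4429 := flp_f L44096
theorem L44098 : sm gd N7096 = N4430 := ded_23_1 L30211 L30206 L44096
theorem L44099 : sm gd N4430 = N7096 := flp_d L44098
theorem L44100 : sm gb N7096 = N6889 := ded_16_1 L42781 L29666 L23402 L30209 L44096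
theorem L44102 : sm gg N4429 = N7097 := rfl
theorem L44103 : sm gg N7097 = N4429 := flp_g L44102
theorem L44104 : sm gd N7097 = N4431 := ded_24_1 L30219 L30206 L44102
theorem L44105 : sm gd N4431 = N7097 := flp_d L44104
theorem L44108 : sm gg N4430 = N7098 := rfl
theorem L44109 : sm gg N7098 = N4430 := flp_g L44108
theorem L44110 : sm gc N7098 = N4441 := ded_21_1 L30269 L30213 L44108
theorem L44114 : sm gf N7093 = N7098 := ded_29_0 L44109 L30211 L30218 L44083
theorem L44115 : sm gf N7098 = N7093 := flp_f L44114
theorem L44116 : sm gf N4431 = N7099 := rfl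
theorem L44117 : sm gf N7099 = N4431 := flp_f L44116
theorem L44118 : sm ga N7099 = N7098 := ded_11_1 L44115 L44082 L44116
theorem L44120 : sm gc N7099 = N4442 := ded_20_1 L30273 L30221 L44116
theorem L44122 : sm ge N7099 = N6203 := ded_25_1 L38889 L30223 L44116
theorem L44124 : sm gg N7099 = N7092 := ded_29_3 L44074 L30211 L30218 L44116
theorem L44126 : sm gd N4433 = N7100 := rfl
theorem L44128 : sm ga N7100 = N5099 := ded_9_1 L33741 L43461 L44126
theorem L44129 : sm ga N5099 = N7100 := flp_a L44128
theorem L44130 : sm gb N7100 = N4434 := ded_14_1 L30237 L30234 L44126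
theorem L44131 : sm gb N4434 = N7100 := flp_b L44130
theorem L44132 : sm gf N4433 = N7101 := rfl
theorem L44133 : sm gf N7101 = N4433 := flp_f L44132
theorem L44134 : sm ga N7101 = N5100 := ded_11_1 L33743 L43461 L44132
theorem L44135 : sm ga N5100 = N7101 := flp_a L44134
theorem L44136 : sm gc N7101 = N5096 := ded_20_1 L33729 L43463 L44132
theorem L44137 : sm gc N5096 = N7101 := flp_c L44136
theorem L44138 : sm gg N4433 = N7102 := rfl
theorem L44139 : sm gg N7102 = N4433 := flp_g L44138
theorem L44140 : sm ga N7102 = N5101 := ded_12_1 L33747 L43461 L44138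
theorem L44142 : sm gc N7102 = N5097 := ded_21_1 L33733 L43463 L44138
theorem L44143 : sm gc N5097 = N7102 := flp_c L44142
theorem L44144 : sm gf N7102 = N5918 := ded_29_2 L39343 L44135 L44133 L44138
theorem L44145 : sm gf N5918 = N7102 := flp_f L44144
theorem L44146 : sm gc N4434 = N7103 := rfl
theorem L44147 : sm gc N7103 = N4434 := flp_c L44146
theorem L44148 : sm ga N7103 = N4437 := ded_8_1 L30251 L30239 L44146
theorem L44149 : sm ga N4437 = N7103 := flp_a L44148
theorem L44150 : sm ge N4434 = N7104 := rfl
theorem L44151 : sm ge N7104 = N4434 := flp_e L44150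
theorem L44152 : sm ga N7104 = N4438 := ded_10_1 L30255 L30239 L44150
theorem L44153 : sm ga N4438 = N7104 := flp_a L44152
theorem L44154 : sm gf N4434 = N7105 := rfl
theorem L44155 : sm gf N7105 = N4434 := flp_f L44154
theorem L44156 : sm ga N7105 = N4439 := ded_11_1 L30259 L30239 L44154
theorem L44157 : sm ga N4439 = N7105 := flp_a L44156
theorem L44158 : sm gd N7105 = N4435 := ded_23_1 L30241 L30236 L44154
theorem L44159 : sm gd N4435 = N7105 := flp_d L44158
theorem L44160 : sm gg N4434 = N7106 := rfl
theorem L44161 : sm gg N7106 = N4434 := flp_g L44160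
theorem L44162 : sm ga N7106 = N4440 := ded_12_1 L30263 L30239 L44160
theorem L44163 : sm ga N4440 = N7106 := flp_a L44162
theorem L44164 : sm gd N7106 = N4436 := ded_24_1 L30245 L30236 L44160
theorem L44165 : sm gd N4436 = N7106 := flp_d L44164
theorem L44166 : sm gb N4435 = N7107 := rfl
theorem L44167 : sm gb N7107 = N4435 := flp_b L44166
theorem L44168 : sm gb N4436 = N7108 := rfl
theorem L44169 : sm gb N7108 = N4436 := flp_b L44168
theorem L44170 : sm ge N7108 = N7036 := ded_15_2 L43737 L30249 L44168
theorem L44171 : sm ge N7036 = N7108 := flp_e L44170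
theorem L44172 : sm gd N4437 = N7109 := rfl
theorem L44173 : sm gd N7109 = N4437 := flp_d L44172
theorem L44174 : sm gb N7109 = N6196 := ded_14_1 L38851 L30253 L44172
theorem L44175 : sm gb N6196 = N7109 := flp_b L44174
theorem L44176 : sm ge N4437 = N7110 := rfl
theorem L44178 : sm gb N7110 = N6197 := ded_15_1 L38857 L30253 L44176
theorem L44180 : sm gc N7110 = N4438 := ded_19_1 L30255 L30250 L44176
theorem L44181 : sm gc N4438 = N7110 := flp_c L44180
theorem L44182 : sm gf N4437 = N7111 := rfl
theorem L44183 : sm gf N7111 = N4437 := flp_f L44182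
theorem L44184 : sm gc N7111 = N4439 := ded_20_1 L30259 L30250 L44182
theorem L44185 : sm gc N4439 = N7111 := flp_c L44184
theorem L44186 : sm gg N4437 = N7112 := rfl
theorem L44187 : sm gg N7112 = N4437 := flp_g L44186
theorem L44188 : sm gc N7112 = N4440 := ded_21_1 L30263 L30250 L44186
theorem L44189 : sm gc N4440 = N7112 := flp_c L44188
theorem L44190 : sm gf N4438 = N7113 := rfl
theorem L44191 : sm gf N7113 = N4438 := flp_f L44190
theorem L44192 : sm ge N7113 = N4439 := ded_25_1 L30259 L30254 L44190
theorem L44193 : sm ge N4439 = N7113 := flp_e L44192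
theorem L44194 : sm gg N4438 = N7114 := rfl
theorem L44195 : sm gg N7114 = N4438 := flp_g L44194
theorem L44196 : sm gd N7114 = N7030 := ded_24_1 L43708 L30298 L44194
theorem L44197 : sm gd N7030 = N7114 := flp_d L44196
theorem L44198 : sm ge N7114 = N4440 := ded_26_1 L30263 L30254 L44194
theorem L44199 : sm ge N4440 = N7114 := flp_e L44198
theorem L44200 : sm gb N7114 = N6877 := ded_17_1 L42727 L29640 L23426 L30257 L44194
theorem L44201 : sm gb N6877 = N7114 := flp_b L44200
theorem L44202 : sm gg N4439 = N7115 := rfl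
theorem L44203 : sm gg N7115 = N4439 := flp_g L44202
theorem L44204 : sm gd N7115 = N4441 := ded_24_1 L30269 L30261 L44202
theorem L44205 : sm gd N4441 = N7115 := flp_d L44204
theorem L44206 : sm gf N7106 = N7115 := ded_29_0 L44203 L30259 L30262 L44163
theorem L44207 : sm gf N7115 = N7106 := flp_f L44206
theorem L44208 : sm gf N4440 = N7116 := rfl
theorem L44209 : sm gf N7116 = N4440 := flp_f L44208
theorem L44210 : sm ga N7116 = N7115 := ded_11_1 L44207 L44162 L44208
theorem L44211 : sm ga N7115 = N7116 := flp_a L44210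
theorem L44212 : sm gd N7116 = N4442 := ded_23_1 L30273 L30265 L44208
theorem L44213 : sm gd N4442 = N7116 := flp_d L44212
theorem L44214 : sm gg N7116 = N7105 := ded_29_3 L44156 L30259 L30262 L44208
theorem L44215 : sm gg N7105 = N7116 := flp_g L44214
theorem L44216 : sm gb N4441 = N7117 := rfl
theorem L44217 : sm gb N7117 = N4441 := flp_b L44216
theorem L44218 : sm gb N4442 = N7118 := rfl
theorem L44219 : sm gb N7118 = N4442 := flp_b L44218
theorem L44232 : sm gf N4443 = N7121 := rfl
theorem L44234 : sm ga N7121 = N4445 := ded_11_1 L30289 L30280 L44232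
theorem L44236 : sm gd N7121 = N6209 := ded_23_1 L38909 L30283 L44232
theorem L44237 : sm gd N6209 = N7121 := flp_d L44236
theorem L44244 : sm gf N4444 = N7123 := rfl
theorem L44245 : sm gf N7123 = N4444 := flp_f L44244
theorem L44258 : sm gf N4446 = N7126 := rfl
theorem L44259 : sm gf N7126 = N4446 := flp_f L44258
theorem L44264 : sm gg N7126 = N7121 := ded_29_3 L44234 L30289 L30292 L44258
theorem L44265 : sm gg N7121 = N7126 := flp_g L44264
theorem L44266 : sm ga N4447 = N7127 := rfl
theorem L44267 : sm ga N7127 = N4447 := flp_a L44266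
theorem L44268 : sm gd N7127 = N7104 := ded_9_2 L44152 L30299 L44266
theorem L44270 : sm ge N7127 = N4449 := ded_10_2 L30315 L30301 L44266
theorem L44272 : sm gc N4447 = N7128 := rfl
theorem L44273 : sm gc N7128 = N4447 := flp_c L44272
theorem L44274 : sm ge N7128 = N4450 := ded_19_2 L30319 L30301 L44272
theorem L44275 : sm ge N4450 = N7128 := flp_e L44274
theorem L44276 : sm gf N4447 = N7129 := rfl
theorem L44277 : sm gf N7129 = N4447 := flp_f L44276
theorem L44278 : sm gd N7129 = N7113 := ded_23_1 L44191 L30299 L44276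
theorem L44279 : sm gd N7113 = N7129 := flp_d L44278
theorem L44280 : sm ge N7129 = N4451 := ded_25_1 L30321 L30301 L44276
theorem L44281 : sm ge N4451 = N7129 := flp_e L44280
theorem L44282 : sm gb N4448 = N7130 := rfl
theorem L44283 : sm gb N7130 = N4448 := flp_b L44282
theorem L44284 : sm gd N7130 = N6753 := ded_14_2 L41972 L30309 L44282
theorem L44285 : sm gd N6753 = N7130 := flp_d L44284
theorem L44286 : sm ge N7130 = N4452 := ded_15_2 L30325 L30311 L44282
theorem L44287 : sm ge N4452 = N7130 := flp_e L44286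
theorem L44288 : sm gb N4449 = N7131 := rfl
theorem L44289 : sm gb N7131 = N4449 := flp_b L44288
theorem L44292 : sm gc N4449 = N7132 := rfl
theorem L44293 : sm gc N7132 = N4449 := flp_c L44292
theorem L44294 : sm ga N7132 = N4450 := ded_8_1 L30319 L30314 L44292
theorem L44295 : sm ga N4450 = N7132 := flp_a L44294
theorem L44296 : sm gf N4449 = N7133 := rfl
theorem L44297 : sm gf N7133 = N4449 := flp_f L44296
theorem L44300 : sm gd N7133 = N4454 := ded_23_1 L30333 L30317 L44296
theorem L44302 : sm gg N7034 = N7133 := ded_29_1 L44297 L43723 L43719 L43728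
theorem L44303 : sm gg N7133 = N7034 := flp_g L44302
theorem L44304 : sm gd N4450 = N7134 := rfl
theorem L44305 : sm gd N7134 = N4450 := flp_d L44304
theorem L44306 : sm gf N4450 = N7135 := rfl
theorem L44307 : sm gf N7135 = N4450 := flp_f L44306
theorem L44308 : sm gc N7135 = N4451 := ded_20_1 L30321 L30318 L44306
theorem L44310 : sm gb N4451 = N7136 := rfl
theorem L44312 : sm gd N7136 = N4455 := ded_14_2 L30341 L30323 L44310
theorem L44313 : sm gd N4455 = N7136 := flp_d L44312
theorem L44314 : sm gf N7136 = N4452 := ded_16_2 L30325 L23450 L23445 L30320 L44310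
theorem L44316 : sm gg N4451 = N7137 := rfl
theorem L44317 : sm gg N7137 = N4451 := flp_g L44316
theorem L44320 : sm gd N7137 = N4456 := ded_24_1 L30347 L30323 L44316
theorem L44322 : sm gf N7032 = N7137 := ded_29_0 L44317 L30321 L30021 L43718
theorem L44324 : sm ga N4452 = N7138 := rfl
theorem L44326 : sm gd N7138 = N4457 := ded_9_2 L30355 L30327 L44324
theorem L44327 : sm gd N4457 = N7138 := flp_d L44326
theorem L44328 : sm gc N4452 = N7139 := rfl
theorem L44329 : sm gc N7139 = N4452 := flp_c L44328
theorem L44330 : sm gb N7139 = N7094 := ded_13_1 L44089 L30208 L23454 L30324 L44328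
theorem L44331 : sm gb N7094 = N7139 := flp_b L44330
theorem L44332 : sm gg N4452 = N7140 := rfl
theorem L44333 : sm gg N7140 = N4452 := flp_g L44332
theorem L44338 : sm gf N4453 = N7141 := rfl
theorem L44339 : sm gf N7141 = N4453 := flp_f L44338
theorem L44346 : sm gb N4454 = N7143 := rfl
theorem L44347 : sm gb N7143 = N4454 := flp_b L44346
theorem L44348 : sm ge N7143 = N7107 := ded_15_2 L44167 L30337 L44346
theorem L44349 : sm ge N7107 = N7143 := flp_e L44348
theorem L44350 : sm gg N4455 = N7144 := rfl
theorem L44351 : sm gg N7144 = N4455 := flp_g L44350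
theorem L44352 : sm ge N7144 = N6756 := ded_26_1 L41985 L30343 L44350
theorem L44353 : sm ge N6756 = N7144 := flp_e L44352
theorem L44354 : sm gb N4456 = N7145 := rfl
theorem L44356 : sm ge N7145 = N7117 := ded_15_2 L44217 L30351 L44354
theorem L44357 : sm ge N7117 = N7145 := flp_e L44356
theorem L44358 : sm gg N4457 = N7146 := rfl
theorem L44359 : sm gg N7146 = N4457 := flp_g L44358
theorem L44360 : sm ga N7146 = N4458 := ded_12_1 L30359 L30354 L44358
theorem L44362 : sm ge N7146 = N6751 := ded_26_1 L41963 L30357 L44358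
theorem L44363 : sm ge N6751 = N7146 := flp_e L44362
theorem L44364 : sm gf N7146 = N7144 := ded_29_2 L44351 L37477 L37479 L44358
theorem L44365 : sm gf N7144 = N7146 := flp_f L44364
theorem L44366 : sm gf N4458 = N7147 := rfl
theorem L44367 : sm gf N7147 = N4458 := flp_f L44366
theorem L44368 : sm ga N7147 = N7144 := ded_11_1 L44365 L44360 L44366
theorem L44370 : sm ge N7147 = N6757 := ded_25_1 L41989 L30361 L44366
theorem L44371 : sm ge N6757 = N7147 := flp_e L44370
theorem L44372 : sm gg N7147 = N5913 := ded_29_3 L37476 L30344 L30358 L44366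
theorem L44373 : sm gg N5913 = N7147 := flp_g L44372
theorem L44374 : sm gb N4459 = N7148 := rfl
theorem L44375 : sm gb N7148 = N4459 := flp_b L44374
theorem L44376 : sm gd N4459 = N7149 := rfl
theorem L44377 : sm gd N7149 = N4459 := flp_d L44376
theorem L44378 : sm ga N7149 = N4460 := ded_9_1 L30369 L30364 L44376
theorem L44379 : sm ga N4460 = N7149 := flp_a L44378
theorem L44380 : sm gf N4459 = N7150 := rfl
theorem L44381 : sm gf N7150 = N4459 := flp_f L44380
theorem L44382 : sm ga N7150 = N4461 := ded_11_1 L30373 L30364 L44380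
theorem L44384 : sm gc N7150 = N5913 := ded_20_1 L37479 L30367 L44380
theorem L44386 : sm gb N5912 = N7150 := ded_30_2 L44382 L30373 L23473 L23468 L19936 L19560 L9286 L4590 L18061 L1861 L1856 L3757 L7714 L19278 L19282 L19404 L22384 L27143 L37468
theorem L44387 : sm gb N7150 = N5912 := flp_b L44386
theorem L44388 : sm gf N7148 = N6354 := ded_16_4 L40071 L37473 L44386 L44381 L44374
theorem L44389 : sm gf N6354 = N7148 := flp_f L44388
theorem L44390 : sm gg N4459 = N7151 := rfl
theorem L44391 : sm gg N7151 = N4459 := flp_g L44390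
theorem L44394 : sm gc N7151 = N7146 := ded_21_1 L44359 L30367 L44390
theorem L44395 : sm gc N7146 = N7151 := flp_c L44394
theorem L44396 : sm gc N4460 = N7152 := rfl
theorem L44397 : sm gc N7152 = N4460 := flp_c L44396
theorem L44398 : sm ge N4460 = N7153 := rfl
theorem L44399 : sm ge N7153 = N4460 := flp_e L44398
theorem L44402 : sm gf N4460 = N7154 := rfl
theorem L44403 : sm gf N7154 = N4460 := flp_f L44402
theorem L44408 : sm gg N4460 = N7155 := rfl
theorem L44409 : sm gg N7155 = N4460 := flp_g L44408
theorem L44414 : sm gg N4461 = N7156 := rfl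
theorem L44416 : sm gc N7156 = N7144 := ded_21_1 L44351 L30375 L44414
theorem L44417 : sm gc N7144 = N7156 := flp_c L44416
theorem L44420 : sm gf N4462 = N7157 := rfl
theorem L44421 : sm gf N7157 = N4462 := flp_f L44420
theorem L44424 : sm gc N7157 = N7147 := ded_20_1 L44367 L30381 L44420
theorem L44425 : sm gc N7147 = N7157 := flp_c L44424
theorem L44426 : sm gg N7157 = N7150 := ded_29_3 L44382 L30373 L30378 L44420
theorem L44427 : sm gg N7150 = N7157 := flp_g L44426
theorem L44472 : sm gg N4466 = N7166 := rfl
theorem L44474 : sm gc N7166 = N5176 := ded_21_1 L34051 L30407 L44472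
theorem L44478 : sm gb N7166 = N5816 := ded_17_1 L37034 L26829 L23502 L30402 L44472
theorem L44479 : sm gb N5816 = N7166 := flp_b L44478
theorem L44482 : sm gd N4468 = N7168 := rfl
theorem L44483 : sm gd N7168 = N4468 := flp_d L44482
theorem L44484 : sm ga N7168 = N4469 := ded_9_1 L30423 L30418 L44482
theorem L44485 : sm ga N4469 = N7168 := flp_a L44484
theorem L44486 : sm ge N4468 = N7169 := rfl
theorem L44488 : sm ga N7169 = N4470 := ded_10_1 L30427 L30418 L44486
theorem L44489 : sm ga N4470 = N7169 := flp_a L44488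
theorem L44490 : sm gc N7169 = N4476 := ded_19_1 L30464 L30421 L44486
theorem L44504 : sm gc N4469 = N7172 := rfl
theorem L44505 : sm gc N7172 = N4469 := flp_c L44504
theorem L44506 : sm gb N7172 = N7152 := ded_13_1 L44397 L30370 L23529 L30425 L44504
theorem L44508 : sm ge N4469 = N7173 := rfl
theorem L44510 : sm gb N7173 = N4473 := ded_15_1 L30445 L30425 L44508
theorem L44511 : sm gb N4473 = N7173 := flp_b L44510
theorem L44512 : sm gf N4469 = N7174 := rfl
theorem L44513 : sm gf N7174 = N4469 := flp_f L44512
theorem L44518 : sm gg N4469 = N7175 := rfl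
theorem L44519 : sm gg N7175 = N4469 := flp_g L44518
theorem L44524 : sm gd N4470 = N7176 := rfl
theorem L44526 : sm gb N7176 = N4474 := ded_14_1 L30455 L30429 L44524
theorem L44527 : sm gb N4474 = N7176 := flp_b L44526
theorem L44528 : sm gf N4470 = N7177 := rfl
theorem L44529 : sm gf N7177 = N4470 := flp_f L44528
theorem L44536 : sm gg N4470 = N7178 := rfl
theorem L44537 : sm gg N7178 = N4470 := flp_g L44536
theorem L44591 : sm gf N4476 = N7188 := rfl
theorem L44593 : sm ga N7188 = N4480 := ded_11_1 L30483 L30466 L44591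
theorem L44631 : sm gf N4481 = N7196 := rfl
theorem L44632 : sm gf N7196 = N4481 := flp_f L44631
theorem L44637 : sm gg N7196 = N7188 := ded_29_3 L44593 L30483 L30487 L44631
theorem L44638 : sm gg N7188 = N7196 := flp_g L44637
theorem L44647 : sm gf N4484 = N7199 := rfl
theorem L44648 : sm gf N7199 = N4484 := flp_f L44647
theorem L44651 : sm gd N7199 = N4943 := ded_23_1 L33031 L30508 L44647
theorem L44652 : sm gd N4943 = N7199 := flp_d L44651
theorem L44655 : sm gg N4484 = N7200 := rfl
theorem L44656 : sm gg N7200 = N4484 := flp_g L44655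
theorem L44675 : sm gb N4486 = N7203 := rfl
theorem L44677 : sm gd N7203 = N4489 := ded_14_2 L30535 L30519 L44675
theorem L44679 : sm gg N7203 = N4496 := ded_17_2 L30595 L23608 L23574 L30516 L44675
theorem L44681 : sm ga N6246 = N7203 := ded_9_3 L44677 L39359 L39432
theorem L44683 : sm gf N4486 = N7204 := rfl
theorem L44684 : sm gf N7204 = N4486 := flp_f L44683
theorem L44689 : sm gg N7204 = N4936 := ded_29_3 L32992 L30513 L30516 L44683
theorem L44690 : sm gg N4936 = N7204 := flp_g L44689
theorem L44691 : sm ga N4487 = N7205 := rfl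
theorem L44692 : sm ga N7205 = N4487 := flp_a L44691
theorem L44695 : sm gf N7205 = N4497 := ded_11_2 L30599 L30525 L44691
theorem L44703 : sm gg N4487 = N7207 := rfl
theorem L44705 : sm ge N7207 = N4951 := ded_26_1 L33073 L30523 L44703
theorem L44707 : sm gb N4488 = N7208 := rfl
theorem L44708 : sm gb N7208 = N4488 := flp_b L44707
theorem L44709 : sm ge N7208 = N4952 := ded_15_2 L33075 L30531 L44707
theorem L44711 : sm gf N4489 = N7209 := rfl
theorem L44713 : sm ga N7209 = N6247 := ded_11_1 L39437 L39358 L44711
theorem L44715 : sm gc N7209 = N6245 := ded_20_1 L39425 L39364 L44711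
theorem L44717 : sm ge N7209 = N4955 := ded_25_1 L33085 L30537 L44711
theorem L44718 : sm ge N4955 = N7209 := flp_e L44717
theorem L44719 : sm gb N4490 = N7210 := rfl
theorem L44721 : sm ge N7210 = N4956 := ded_15_2 L33087 L30547 L44719
theorem L44722 : sm ge N4956 = N7210 := flp_e L44721
theorem L44723 : sm gb N4491 = N7211 := rfl
theorem L44724 : sm gb N7211 = N4491 := flp_b L44723
theorem L44725 : sm gd N7211 = N6220 := ded_14_2 L38961 L30557 L44723
theorem L44726 : sm gd N6220 = N7211 := flp_d L44725
theorem L44727 : sm ge N7211 = N6899 := ded_15_2 L42829 L30559 L44723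
theorem L44728 : sm ge N6899 = N7211 := flp_e L44727
theorem L44731 : sm gb N4492 = N7212 := rfl
theorem L44733 : sm gd N7212 = N5232 := ded_14_2 L42908 L30567 L44731
theorem L44739 : sm ga N5226 = N7212 := ded_9_3 L44733 L34339 L34309
theorem L44741 : sm gb N4493 = N7213 := rfl
theorem L44742 : sm gb N7213 = N4493 := flp_b L44741
theorem L44743 : sm gd N7213 = N4961 := ded_14_2 L33113 L30577 L44741
theorem L44744 : sm gd N4961 = N7213 := flp_d L44743
theorem L44757 : sm gc N4495 = N7216 := rfl
theorem L44758 : sm gc N7216 = N4495 := flp_c L44757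
theorem L44759 : sm gg N4495 = N7217 := rfl
theorem L44760 : sm gg N7217 = N4495 := flp_g L44759
theorem L44761 : sm gd N7217 = N4499 := ded_24_1 L30607 L30593 L44759
theorem L44762 : sm gd N4499 = N7217 := flp_d L44761
theorem L44763 : sm ga N4496 = N7218 := rfl
theorem L44764 : sm ga N7218 = N4496 := flp_a L44763
theorem L44767 : sm gg N7218 = N6246 := ded_12_2 L44681 L44679 L44763
theorem L44768 : sm gg N6246 = N7218 := flp_g L44767
theorem L44769 : sm gc N4496 = N7219 := rfl
theorem L44770 : sm gc N7219 = N4496 := flp_c L44769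
theorem L44771 : sm gf N4496 = N7220 := rfl
theorem L44775 : sm gb N4497 = N7221 := rfl
theorem L44777 : sm ge N7221 = N4969 := ded_15_2 L33141 L30601 L44775
theorem L44778 : sm ge N4969 = N7221 := flp_e L44777
theorem L44793 : sm gd N4498 = N7224 := rfl
theorem L44794 : sm gd N7224 = N4498 := flp_d L44793
theorem L44795 : sm gg N4498 = N7225 := rfl
theorem L44797 : sm gc N7225 = N4499 := ded_21_1 L30607 L30602 L44795
theorem L44799 : sm ge N7225 = N4973 := ded_26_1 L33155 L30605 L44795
theorem L44800 : sm ge N4973 = N7225 := flp_e L44799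
theorem L44801 : sm gf N4499 = N7226 := rfl
theorem L44802 : sm gf N7226 = N4499 := flp_f L44801
theorem L44805 : sm ge N7226 = N4974 := ded_25_1 L33159 L30609 L44801
theorem L44807 : sm gg N7226 = N7205 := ded_29_3 L44692 L30524 L30606 L44801
theorem L44808 : sm gg N7205 = N7226 := flp_g L44807
theorem L44809 : sm gb N4839 = N7226 := ded_15_3 L44805 L36702 L32443
theorem L44810 : sm gb N7226 = N4839 := flp_b L44809
theorem L44811 : sm gb N4500 = N7227 := rfl
theorem L44817 : sm gg N7227 = N6349 := ded_17_2 L40050 L28331 L27998 L39189 L44811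
theorem L44818 : sm gg N6349 = N7227 := flp_g L44817
theorem L44819 : sm gf N4500 = N7228 := rfl
theorem L44827 : sm gg N7228 = N7209 := ded_29_3 L44713 L39437 L39189 L44819
theorem L44829 : sm gd N4501 = N7229 := rfl
theorem L44830 : sm gd N7229 = N4501 := flp_d L44829
theorem L44831 : sm ga N7229 = N4505 := ded_9_1 L30638 L39220 L44829
theorem L44833 : sm gg N7229 = N6235 := ded_24_2 L39044 L39222 L44829
theorem L44834 : sm gg N6235 = N7229 := flp_g L44833
theorem L44841 : sm gc N4503 = N7231 := rfl
theorem L44842 : sm gc N7231 = N4503 := flp_c L44841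
theorem L44845 : sm gb N7231 = N4512 := ded_13_1 L30693 L23646 L23624 L30622 L44841
theorem L44846 : sm gb N4512 = N7231 := flp_b L44845
theorem L44851 : sm gb N4504 = N7233 := rfl
theorem L44852 : sm gb N7233 = N4504 := flp_b L44851
theorem L44853 : sm gd N7233 = N6227 := ded_14_2 L39007 L30633 L44851
theorem L44861 : sm gf N4505 = N7235 := rfl
theorem L44862 : sm gf N7235 = N4505 := flp_f L44861
theorem L44869 : sm ga N4507 = N7237 := rfl
theorem L44870 : sm ga N7237 = N4507 := flp_a L44869
theorem L44871 : sm gd N7237 = N4999 := ded_9_2 L33297 L30655 L44869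
theorem L44873 : sm ge N7237 = N4511 := ded_10_2 L30687 L30657 L44869
theorem L44874 : sm ge N4511 = N7237 := flp_e L44873
theorem L44875 : sm gf N7237 = N4532 := ded_11_2 L30789 L30659 L44869
theorem L44877 : sm gc N4507 = N7238 := rfl
theorem L44878 : sm gc N7238 = N4507 := flp_c L44877
theorem L44879 : sm ge N7238 = N4512 := ded_19_2 L30693 L30657 L44877
theorem L44883 : sm gg N4507 = N7239 := rfl
theorem L44884 : sm gg N7239 = N4507 := flp_g L44883
theorem L44887 : sm ge N7239 = N4513 := ded_26_1 L30697 L30657 L44883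
theorem L44889 : sm gb N4508 = N7240 := rfl
theorem L44891 : sm gd N7240 = N5002 := ded_14_2 L33313 L30663 L44889
theorem L44895 : sm ga N4509 = N7241 := rfl
theorem L44896 : sm ga N7241 = N4509 := flp_a L44895
theorem L44899 : sm ge N7241 = N4515 := ded_10_2 L30705 L30673 L44895
theorem L44900 : sm ge N4515 = N7241 := flp_e L44899
theorem L44903 : sm gc N4509 = N7242 := rfl
theorem L44904 : sm gc N7242 = N4509 := flp_c L44903
theorem L44907 : sm gg N7242 = N4536 := ded_21_2 L30813 L30675 L44903
theorem L44908 : sm gg N4536 = N7242 := flp_g L44907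
theorem L44915 : sm gb N4510 = N7244 := rfl
theorem L44916 : sm gb N7244 = N4510 := flp_b L44915
theorem L44917 : sm gd N7244 = N5006 := ded_14_2 L33333 L30681 L44915
theorem L44919 : sm ge N7244 = N4518 := ded_15_2 L30719 L30683 L44915
theorem L44920 : sm ge N4518 = N7244 := flp_e L44919
theorem L44921 : sm gb N4511 = N7245 := rfl
theorem L44922 : sm gb N7245 = N4511 := flp_b L44921
theorem L44923 : sm gd N7245 = N4519 := ded_14_2 L30723 L30689 L44921
theorem L44925 : sm gc N4511 = N7246 := rfl
theorem L44927 : sm ga N7246 = N4512 := ded_8_1 L30693 L30686 L44925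
theorem L44928 : sm ga N4512 = N7246 := flp_a L44927
theorem L44929 : sm gf N7246 = N4539 := ded_20_2 L30829 L30691 L44925
theorem L44931 : sm gd N4512 = N7247 := rfl
theorem L44932 : sm gd N7247 = N4512 := flp_d L44931
theorem L44933 : sm gf N7247 = N4541 := ded_23_2 L30841 L30695 L44931
theorem L44934 : sm gf N4541 = N7247 := flp_f L44933
theorem L44935 : sm gg N4512 = N7248 := rfl
theorem L44936 : sm gg N7248 = N4512 := flp_g L44935
theorem L44949 : sm gc N4514 = N7251 := rfl
theorem L44961 : sm gc N4515 = N7254 := rfl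
theorem L44963 : sm ga N7254 = N4516 := ded_8_1 L30711 L30704 L44961
theorem L44964 : sm ga N4516 = N7254 := flp_a L44963
theorem L44967 : sm gd N4516 = N7255 := rfl
theorem L44968 : sm gd N7255 = N4516 := flp_d L44967
theorem L44969 : sm gg N7255 = N4547 := ded_24_2 L30873 L30713 L44967
theorem L44970 : sm gg N4547 = N7255 := flp_g L44969
theorem L44975 : sm gb N4517 = N7257 := rfl
theorem L44976 : sm gb N7257 = N4517 := flp_b L44975
theorem L44979 : sm gf N7257 = N4518 := ded_16_2 L30719 L23664 L23657 L30714 L44975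
theorem L44980 : sm gf N4518 = N7257 := flp_f L44979
theorem L44981 : sm ga N4518 = N7258 := rfl
theorem L44982 : sm ga N7258 = N4518 := flp_a L44981
theorem L44983 : sm gd N7258 = N4529 := ded_9_2 L30775 L30721 L44981
theorem L44984 : sm gd N4529 = N7258 := flp_d L44983
theorem L44985 : sm gc N4518 = N7259 := rfl
theorem L44986 : sm gc N7259 = N4518 := flp_c L44985
theorem L44987 : sm gg N4518 = N7260 := rfl
theorem L44988 : sm gg N7260 = N4518 := flp_g L44987
theorem L44989 : sm gd N7260 = N4531 := ded_24_1 L30783 L30721 L44987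
theorem L44990 : sm gd N4531 = N7260 := flp_d L44989
theorem L44991 : sm gb N7260 = N7217 := ded_17_1 L44760 L30591 L23670 L30718 L44987
theorem L44993 : sm gg N4519 = N7261 := rfl
theorem L44994 : sm gg N7261 = N4519 := flp_g L44993
theorem L44999 : sm gf N7261 = N6937 := ded_29_2 L43158 L43128 L43134 L44993
theorem L45000 : sm gf N6937 = N7261 := flp_f L44999
theorem L45001 : sm gb N4520 = N7262 := rfl
theorem L45002 : sm gb N7262 = N4520 := flp_b L45001
theorem L45003 : sm ge N7262 = N5027 := ded_15_2 L33419 L30731 L45001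
theorem L45007 : sm ga N7262 = N5977 := ded_30_3 L37741 L27271 L21778 L19112 L6465 L3087 L1557 L1031 L1034 L762 L735 L1279 L2442 L4975 L10164 L20100 L23676 L30726 L45001
theorem L45008 : sm ga N5977 = N7262 := flp_a L45007
theorem L45009 : sm gf N5975 = N7262 := ded_25_0 L45003 L39065 L39062
theorem L45010 : sm gf N7262 = N5975 := flp_f L45009
theorem L45011 : sm gd N4520 = N7263 := rfl
theorem L45015 : sm gf N7263 = N4555 := ded_23_2 L30911 L30733 L45011
theorem L45017 : sm gc N4521 = N7264 := rfl
theorem L45018 : sm gc N7264 = N4521 := flp_c L45017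
theorem L45019 : sm gf N7264 = N4558 := ded_20_2 L30929 L30737 L45017
theorem L45020 : sm gf N4558 = N7264 := flp_f L45019
theorem L45021 : sm ge N4521 = N7265 := rfl
theorem L45023 : sm gf N7265 = N4559 := ded_25_2 L30931 L30737 L45021
theorem L45025 : sm gd N7265 = N5030 := ded_22_1 L33431 L25280 L23680 L30734 L45021
theorem L45026 : sm gd N5030 = N7265 := flp_d L45025
theorem L45081 : sm gg N4526 = N7276 := rfl
theorem L45085 : sm ge N7276 = N5041 := ded_26_1 L33473 L30761 L45081
theorem L45089 : sm ga N4527 = N7277 := rfl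
theorem L45091 : sm ge N7277 = N5042 := ded_10_2 L33479 L30767 L45089
theorem L45092 : sm ge N5042 = N7277 := flp_e L45091
theorem L45097 : sm gf N4527 = N7279 := rfl
theorem L45098 : sm gf N7279 = N4527 := flp_f L45097
theorem L45099 : sm ge N7279 = N5044 := ded_25_1 L33483 L30767 L45097
theorem L45100 : sm ge N5044 = N7279 := flp_e L45099
theorem L45107 : sm ga N4528 = N7281 := rfl
theorem L45108 : sm ga N7281 = N4528 := flp_a L45107
theorem L45111 : sm gf N7281 = N4529 := ded_11_2 L30775 L30773 L45107
theorem L45112 : sm gf N4529 = N7281 := flp_f L45111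
theorem L45113 : sm gc N4528 = N7282 := rfl
theorem L45114 : sm gc N7282 = N4528 := flp_c L45113
theorem L45117 : sm gf N7282 = N4530 := ded_20_2 L30779 L30773 L45113
theorem L45118 : sm gf N4530 = N7282 := flp_f L45117
theorem L45119 : sm gg N4528 = N7283 := rfl
theorem L45120 : sm gg N7283 = N4528 := flp_g L45119
theorem L45123 : sm gb N7283 = N5440 := ded_17_1 L35299 L30979 L23788 L30768 L45119
theorem L45124 : sm gb N5440 = N7283 := flp_b L45123
theorem L45129 : sm gb N4529 = N7284 := rfl
theorem L45131 : sm ge N7284 = N5049 := ded_15_2 L33499 L30777 L45129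
theorem L45133 : sm gg N4799 = N7284 := ded_26_0 L45131 L33513 L32224
theorem L45134 : sm gg N7284 = N4799 := flp_g L45133
theorem L45135 : sm gc N4529 = N7285 := rfl
theorem L45137 : sm ga N7285 = N4530 := ded_8_1 L30779 L30774 L45135
theorem L45141 : sm gg N4529 = N7286 := rfl
theorem L45143 : sm ga N7286 = N4531 := ded_12_1 L30783 L30774 L45141
theorem L45147 : sm gf N7286 = N7283 := ded_29_2 L45120 L45107 L45111 L45141
theorem L45148 : sm gf N7283 = N7286 := flp_f L45147
theorem L45153 : sm gg N4530 = N7288 := rfl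
theorem L45154 : sm gg N7288 = N4530 := flp_g L45153
theorem L45155 : sm gc N7288 = N4531 := ded_21_1 L30783 L30778 L45153
theorem L45156 : sm gc N4531 = N7288 := flp_c L45155
theorem L45159 : sm gf N4531 = N7289 := rfl
theorem L45160 : sm gf N7289 = N4531 := flp_f L45159
theorem L45161 : sm ga N7289 = N7283 := ded_11_1 L45148 L45143 L45159
theorem L45162 : sm ga N7283 = N7289 := flp_a L45161
theorem L45165 : sm gg N7289 = N7281 := ded_29_3 L45108 L30772 L30782 L45159
theorem L45166 : sm gg N7281 = N7289 := flp_g L45165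
theorem L45167 : sm gb N4532 = N7290 := rfl
theorem L45168 : sm gb N7290 = N4532 := flp_b L45167
theorem L45169 : sm gd N7290 = N5055 := ded_14_2 L33527 L30791 L45167
theorem L45170 : sm gd N5055 = N7290 := flp_d L45169
theorem L45173 : sm gc N4532 = N7291 := rfl
theorem L45174 : sm gc N7291 = N4532 := flp_c L45173
theorem L45175 : sm ga N7291 = N4533 := ded_8_1 L30795 L30788 L45173
theorem L45177 : sm ge N7291 = N4539 := ded_19_2 L30829 L30793 L45173
theorem L45179 : sm gg N4532 = N7292 := rfl
theorem L45180 : sm gg N7292 = N4532 := flp_g L45179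
theorem L45181 : sm ga N7292 = N4534 := ded_12_1 L30801 L30788 L45179
theorem L45185 : sm ge N7292 = N4540 := ded_26_1 L30833 L30793 L45179
theorem L45187 : sm gf N7292 = N7239 := ded_29_2 L44884 L44869 L44875 L45179
theorem L45188 : sm gf N7239 = N7292 := flp_f L45187
theorem L45189 : sm gd N4533 = N7293 := rfl
theorem L45190 : sm gd N7293 = N4533 := flp_d L45189
theorem L45191 : sm gb N7293 = N6629 := ded_14_1 L41443 L30799 L45189
theorem L45192 : sm gb N6629 = N7293 := flp_b L45191
theorem L45193 : sm gg N4533 = N7294 := rfl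
theorem L45194 : sm gg N7294 = N4533 := flp_g L45193
theorem L45195 : sm gc N7294 = N4534 := ded_21_1 L30801 L30794 L45193
theorem L45196 : sm gc N4534 = N7294 := flp_c L45195
theorem L45197 : sm ge N7294 = N4542 := ded_26_1 L30845 L30797 L45193
theorem L45198 : sm ge N4542 = N7294 := flp_e L45197
theorem L45199 : sm gf N4534 = N7295 := rfl
theorem L45200 : sm gf N7295 = N4534 := flp_f L45199
theorem L45201 : sm ga N7295 = N7239 := ded_11_1 L45188 L45181 L45199
theorem L45202 : sm ga N7239 = N7295 := flp_a L45201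
theorem L45209 : sm gb N4535 = N7296 := rfl
theorem L45211 : sm gd N7296 = N5061 := ded_14_2 L33563 L30809 L45209
theorem L45212 : sm gd N5061 = N7296 := flp_d L45211
theorem L45213 : sm ge N7296 = N4544 := ded_15_2 L30857 L30811 L45209
theorem L45231 : sm gd N4536 = N7299 := rfl
theorem L45233 : sm gb N7299 = N6639 := ded_14_1 L41499 L30817 L45231
theorem L45241 : sm gg N4537 = N7301 := rfl
theorem L45242 : sm gg N7301 = N4537 := flp_g L45241
theorem L45245 : sm gd N7301 = N5066 := ded_24_1 L33591 L30821 L45241
theorem L45249 : sm gf N7241 = N7301 := ded_29_0 L45242 L30819 L30675 L44895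
theorem L45259 : sm gf N4538 = N7304 := rfl
theorem L45261 : sm gd N7304 = N4552 := ded_23_1 L30899 L30827 L45259
theorem L45267 : sm gb N4539 = N7306 := rfl
theorem L45268 : sm gb N7306 = N4539 := flp_b L45267
theorem L45269 : sm gd N4539 = N7307 := rfl
theorem L45270 : sm gd N7307 = N4539 := flp_d L45269
theorem L45271 : sm ga N7307 = N4541 := ded_9_1 L30841 L30831 L45269
theorem L45272 : sm ga N4541 = N7307 := flp_a L45271
theorem L45273 : sm gg N4539 = N7308 := rfl
theorem L45274 : sm gg N7308 = N4539 := flp_g L45273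
theorem L45275 : sm ga N7308 = N4542 := ded_12_1 L30845 L30831 L45273
theorem L45276 : sm ga N4542 = N7308 := flp_a L45275
theorem L45277 : sm gc N7308 = N4540 := ded_21_1 L30833 L30828 L45273
theorem L45278 : sm gc N4540 = N7308 := flp_c L45277
theorem L45279 : sm gf N7308 = N7248 := ded_29_2 L44936 L44928 L44929 L45273
theorem L45280 : sm gf N7248 = N7308 := flp_f L45279
theorem L45281 : sm gb N4540 = N7309 := rfl
theorem L45282 : sm gb N7309 = N4540 := flp_b L45281
theorem L45283 : sm gd N7309 = N4557 := ded_14_2 L30925 L30837 L45281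
theorem L45284 : sm gd N4557 = N7309 := flp_d L45283
theorem L45285 : sm gc N4541 = N7310 := rfl
theorem L45286 : sm gc N7310 = N4541 := flp_c L45285
theorem L45287 : sm ge N4541 = N7311 := rfl
theorem L45288 : sm ge N7311 = N4541 := flp_e L45287
theorem L45291 : sm gg N4541 = N7312 := rfl
theorem L45292 : sm gg N7312 = N4541 := flp_g L45291
theorem L45293 : sm gd N7312 = N4542 := ded_24_1 L30845 L30840 L45291
theorem L45294 : sm gd N4542 = N7312 := flp_d L45293
theorem L45295 : sm gb N4542 = N7313 := rfl
theorem L45296 : sm gb N7313 = N4542 := flp_b L45295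
theorem L45299 : sm gf N4542 = N7314 := rfl
theorem L45300 : sm gf N7314 = N4542 := flp_f L45299
theorem L45301 : sm ga N7314 = N7248 := ded_11_1 L45280 L45275 L45299
theorem L45303 : sm gc N7314 = N4543 := ded_20_1 L30849 L30847 L45299
theorem L45304 : sm gc N4543 = N7314 := flp_c L45303
theorem L45307 : sm gb N4543 = N7315 := rfl
theorem L45308 : sm gb N7315 = N4543 := flp_b L45307
theorem L45309 : sm gd N7315 = N4563 := ded_14_2 L30957 L30853 L45307
theorem L45323 : sm gg N4544 = N7319 := rfl
theorem L45325 : sm gd N7319 = N4567 := ded_24_1 L30975 L30859 L45323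
theorem L45343 : sm gb N4546 = N7323 := rfl
theorem L45344 : sm gb N7323 = N4546 := flp_b L45343
theorem L45353 : sm ge N4547 = N7325 := rfl
theorem L45354 : sm ge N7325 = N4547 := flp_e L45353
theorem L45355 : sm gb N7325 = N6676 := ded_15_1 L41665 L30875 L45353
theorem L45356 : sm gb N6676 = N7325 := flp_b L45355
theorem L45365 : sm gg N4548 = N7328 := rfl
theorem L45366 : sm gg N7328 = N4548 := flp_g L45365
theorem L45369 : sm gc N7328 = N4549 := ded_21_1 L30881 L30879 L45365
theorem L45370 : sm gc N4549 = N7328 := flp_c L45369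
theorem L45371 : sm gf N7254 = N7328 := ded_29_0 L45366 L30877 L30713 L44964
theorem L45372 : sm gf N7328 = N7254 := flp_f L45371
theorem L45377 : sm gf N4550 = N7330 := rfl
theorem L45378 : sm gf N7330 = N4550 := flp_f L45377
theorem L45379 : sm ga N7330 = N4552 := ded_11_1 L30899 L30888 L45377
theorem L45381 : sm gc N7330 = N7141 := ded_20_1 L44339 L43475 L45377
theorem L45382 : sm gc N7141 = N7330 := flp_c L45381
theorem L45383 : sm ge N7330 = N5096 := ded_25_1 L33729 L30891 L45377
theorem L45384 : sm ge N5096 = N7330 := flp_e L45383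
theorem L45385 : sm gg N4550 = N7331 := rfl
theorem L45387 : sm ga N7331 = N4553 := ded_12_1 L30903 L30888 L45385
theorem L45388 : sm ga N4553 = N7331 := flp_a L45387
theorem L45397 : sm gf N4551 = N7333 := rfl
theorem L45401 : sm gc N7333 = N4552 := ded_20_1 L30899 L30894 L45397
theorem L45402 : sm gc N4552 = N7333 := flp_c L45401
theorem L45403 : sm ge N7333 = N5100 := ded_25_1 L33743 L30897 L45397
theorem L45404 : sm ge N5100 = N7333 := flp_e L45403
theorem L45405 : sm gg N4551 = N7334 := rfl
theorem L45409 : sm gc N7334 = N4553 := ded_21_1 L30903 L30894 L45405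
theorem L45410 : sm gc N4553 = N7334 := flp_c L45409
theorem L45411 : sm ge N7334 = N5101 := ded_26_1 L33747 L30897 L45405
theorem L45412 : sm ge N5101 = N7334 := flp_e L45411
theorem L45413 : sm gg N4552 = N7335 := rfl
theorem L45414 : sm gg N7335 = N4552 := flp_g L45413
theorem L45417 : sm gf N7331 = N7335 := ded_29_0 L45414 L30899 L30902 L45388
theorem L45418 : sm gf N7335 = N7331 := flp_f L45417
theorem L45419 : sm gb N6025 = N7335 := ded_31_14 L45414 L30899 L23742 L23751 L23757 L30744 L30748 L30758 L30762 L39442 L39437 L27997 L28332 L37981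
theorem L45421 : sm gb N4553 = N7336 := rfl
theorem L45425 : sm gg N7336 = N4557 := ded_17_2 L30925 L23752 L23741 L30902 L45421
theorem L45426 : sm gg N4557 = N7336 := flp_g L45425
theorem L45427 : sm gf N4553 = N7337 := rfl
theorem L45428 : sm gf N7337 = N4553 := flp_f L45427
theorem L45429 : sm ga N7337 = N7335 := ded_11_1 L45418 L45387 L45427
theorem L45430 : sm ga N7335 = N7337 := flp_a L45429
theorem L45433 : sm gg N7337 = N7330 := ded_29_3 L45379 L30899 L30902 L45427
theorem L45434 : sm gg N7330 = N7337 := flp_g L45433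
theorem L45435 : sm gd N4554 = N7338 := rfl
theorem L45436 : sm gd N7338 = N4554 := flp_d L45435
theorem L45437 : sm gb N7338 = N4555 := ded_14_1 L30911 L30906 L45435
theorem L45438 : sm gb N4555 = N7338 := flp_b L45437
theorem L45439 : sm gf N4554 = N7339 := rfl
theorem L45440 : sm gf N7339 = N4554 := flp_f L45439
theorem L45443 : sm gb N7339 = N5975 := ded_16_1 L45009 L45002 L30732 L30906 L45439
theorem L45445 : sm gg N4554 = N7340 := rfl
theorem L45446 : sm gg N7340 = N4554 := flp_g L45445
theorem L45447 : sm ge N7340 = N5108 := ded_26_1 L33773 L30909 L45445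
theorem L45448 : sm ge N5108 = N7340 := flp_e L45447
theorem L45449 : sm gc N4555 = N7341 := rfl
theorem L45450 : sm gc N7341 = N4555 := flp_c L45449
theorem L45451 : sm ga N7341 = N4558 := ded_8_1 L30929 L30913 L45449
theorem L45452 : sm ga N4558 = N7341 := flp_a L45451
theorem L45453 : sm gd N7310 = N7341 := ded_28_1 L45450 L30911 L23746 L23720 L30828 L45269 L45271 L45285
theorem L45454 : sm gd N7341 = N7310 := flp_d L45453
theorem L45455 : sm ge N4555 = N7342 := rfl
theorem L45456 : sm ge N7342 = N4555 := flp_e L45455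
theorem L45457 : sm ga N7342 = N4559 := ded_10_1 L30931 L30913 L45455
theorem L45461 : sm gg N4555 = N7343 := rfl
theorem L45462 : sm gg N7343 = N4555 := flp_g L45461
theorem L45465 : sm gd N7343 = N4556 := ded_24_1 L30915 L30910 L45461
theorem L45469 : sm gb N4556 = N7344 := rfl
theorem L45470 : sm gb N7344 = N4556 := flp_b L45469
theorem L45489 : sm gd N4558 = N7348 := rfl
theorem L45490 : sm gd N7348 = N4558 := flp_d L45489
theorem L45491 : sm ga N7348 = N7310 := ded_9_1 L45453 L45451 L45489
theorem L45492 : sm ga N7310 = N7348 := flp_a L45491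
theorem L45495 : sm ge N4558 = N7349 := rfl
theorem L45496 : sm ge N7349 = N4558 := flp_e L45495
theorem L45497 : sm gc N7349 = N4559 := ded_19_1 L30931 L30928 L45495
theorem L45499 : sm gg N4558 = N7350 := rfl
theorem L45500 : sm gg N7350 = N4558 := flp_g L45499
theorem L45503 : sm gg N4559 = N7351 := rfl
theorem L45505 : sm gd N7351 = N5120 := ded_24_1 L33823 L30935 L45503
theorem L45506 : sm gd N5120 = N7351 := flp_d L45505
theorem L45507 : sm ge N7351 = N4560 := ded_26_1 L30937 L30930 L45503
theorem L45509 : sm gb N4560 = N7352 := rfl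
theorem L45513 : sm gg N7352 = N4576 := ded_17_2 L31023 L23812 L23762 L30936 L45509
theorem L45514 : sm gg N4576 = N7352 := flp_g L45513
theorem L45523 : sm ga N4561 = N7354 := rfl
theorem L45525 : sm ge N7354 = N5123 := ded_10_2 L33841 L30943 L45523
theorem L45533 : sm gb N4562 = N7356 := rfl
theorem L45535 : sm ge N7356 = N5125 := ded_15_2 L33847 L30953 L45533
theorem L45547 : sm gg N4563 = N7359 := rfl
theorem L45548 : sm gg N7359 = N4563 := flp_g L45547
theorem L45551 : sm gb N7359 = N7261 := ded_17_1 L44994 L30723 L23776 L30956 L45547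
theorem L45552 : sm gb N7261 = N7359 := flp_b L45551
theorem L45553 : sm gc N4564 = N7360 := rfl
theorem L45554 : sm gc N7360 = N4564 := flp_c L45553
theorem L45555 : sm ga N7360 = N4565 := ded_8_1 L30967 L30960 L45553
theorem L45557 : sm ge N7360 = N5129 := ded_19_2 L33857 L30963 L45553
theorem L45558 : sm ge N5129 = N7360 := flp_e L45557
theorem L45559 : sm gf N4564 = N7361 := rfl
theorem L45560 : sm gf N7361 = N4564 := flp_f L45559
theorem L45561 : sm ga N7361 = N4566 := ded_11_1 L30971 L30960 L45559
theorem L45565 : sm gg N4564 = N7362 := rfl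
theorem L45566 : sm gg N7362 = N4564 := flp_g L45565
theorem L45569 : sm ge N7362 = N5131 := ded_26_1 L33865 L30963 L45565
theorem L45571 : sm gb N6923 = N7362 := ded_15_3 L45569 L36351 L43088
theorem L45573 : sm gc N7362 = N6925 := ded_13_2 L43094 L29765 L29762 L43083 L45571
theorem L45575 : sm gg N6925 = N7360 := ded_21_2 L45554 L45565 L45573
theorem L45576 : sm gg N7360 = N6925 := flp_g L45575
theorem L45577 : sm gd N4565 = N7363 := rfl
theorem L45593 : sm gb N4566 = N7366 := rfl
theorem L45595 : sm ge N7366 = N5135 := ded_15_2 L33879 L30973 L45593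
theorem L45597 : sm gf N7366 = N4568 := ded_16_2 L30979 L23782 L23777 L30970 L45593
theorem L45599 : sm ga N5139 = N7366 := ded_10_3 L45595 L35291 L35297
theorem L45601 : sm gc N5138 = N7366 := ded_20_3 L45597 L35295 L35293
theorem L45609 : sm gf N4567 = N7368 := rfl
theorem L45613 : sm ge N7368 = N5137 := ded_25_1 L33887 L30977 L45609
theorem L45615 : sm gg N7368 = N7361 := ded_29_3 L45561 L30971 L30974 L45609
theorem L45617 : sm ga N4568 = N7369 := rfl
theorem L45618 : sm ga N7369 = N4568 := flp_a L45617
theorem L45619 : sm gc N7369 = N5135 := ded_8_2 L35291 L35294 L45617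
theorem L45621 : sm ge N7369 = N5138 := ded_10_2 L33893 L30981 L45617
theorem L45623 : sm gf N7369 = N5139 := ded_11_2 L45599 L45597 L45617
theorem L45624 : sm gf N5139 = N7369 := flp_f L45623
theorem L45635 : sm gf N4569 = N7372 := rfl
theorem L45637 : sm ge N7372 = N5143 := ded_25_1 L33907 L30985 L45635
theorem L45638 : sm ge N5143 = N7372 := flp_e L45637
theorem L45639 : sm gb N7372 = N7279 := ded_16_1 L45098 L30765 L23795 L30982 L45635
theorem L45645 : sm gf N4570 = N7374 := rfl
theorem L45647 : sm ga N7374 = N4572 := ded_11_1 L30997 L30986 L45645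
theorem L45649 : sm gc N7374 = N6885 := ded_20_1 L42765 L30989 L45645
theorem L45650 : sm gc N6885 = N7374 := flp_c L45649
theorem L45653 : sm gb N6919 = N7374 := ded_30_2 L45647 L30997 L23801 L23146 L19784 L20883 L20877 L18640 L5788 L17343 L9513 L19891 L23366 L30109 L30105 L30100 L42956 L42957 L43059
theorem L45654 : sm gb N7374 = N6919 := flp_b L45653
theorem L45671 : sm gf N4571 = N7378 := rfl
theorem L45672 : sm gf N7378 = N4571 := flp_f L45671
theorem L45673 : sm gd N7378 = N4572 := ded_23_1 L30997 L30992 L45671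
theorem L45674 : sm gd N4572 = N7378 := flp_d L45673
theorem L45675 : sm gg N4571 = N7379 := rfl
theorem L45677 : sm gd N7379 = N4573 := ded_24_1 L31003 L30992 L45675
theorem L45678 : sm gd N4573 = N7379 := flp_d L45677
theorem L45679 : sm gg N4572 = N7380 := rfl
theorem L45680 : sm gg N7380 = N4572 := flp_g L45679
theorem L45683 : sm ge N7380 = N5157 := ded_26_1 L33977 L31001 L45679
theorem L45684 : sm ge N5157 = N7380 := flp_e L45683
theorem L45687 : sm gf N4573 = N7381 := rfl
theorem L45693 : sm ge N7381 = N5158 := ded_25_1 L33981 L31007 L45687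
theorem L45697 : sm gb N4575 = N7382 := rfl
theorem L45699 : sm gd N7382 = N5166 := ded_14_2 L34011 L31019 L45697
theorem L45700 : sm gd N5166 = N7382 := flp_d L45699
theorem L45701 : sm ge N7382 = N4576 := ded_15_2 L31023 L31021 L45697
theorem L45702 : sm ge N4576 = N7382 := flp_e L45701
theorem L45703 : sm ga N4576 = N7383 := rfl
theorem L45704 : sm ga N7383 = N4576 := flp_a L45703
theorem L45727 : sm gg N4578 = N7388 := rfl
theorem L45728 : sm gg N7388 = N4578 := flp_g L45727
theorem L45733 : sm gf N7354 = N7388 := ded_29_0 L45728 L31031 L30945 L45523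
theorem L45734 : sm gf N7388 = N7354 := flp_f L45733
theorem L45735 : sm gb N4579 = N7389 := rfl
theorem L45736 : sm gb N7389 = N4579 := flp_b L45735
theorem L45737 : sm ge N7389 = N7148 := ded_15_2 L44375 L31039 L45735
theorem L45739 : sm gf N5972 = N7389 := ded_25_0 L45737 L44388 L40072
theorem L45740 : sm gf N7389 = N5972 := flp_f L45739
theorem L45741 : sm gd N4579 = N7390 := rfl
theorem L45742 : sm gd N7390 = N4579 := flp_d L45741
theorem L45743 : sm ga N7390 = N4580 := ded_9_1 L31041 L31034 L45741
theorem L45744 : sm ga N4580 = N7390 := flp_a L45743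
theorem L45745 : sm gf N4579 = N7391 := rfl
theorem L45746 : sm gf N7391 = N4579 := flp_f L45745
theorem L45747 : sm ga N7391 = N4581 := ded_11_1 L31045 L31034 L45745
theorem L45749 : sm gc N7391 = N6750 := ded_20_1 L41955 L31037 L45745
theorem L45750 : sm gc N6750 = N7391 := flp_c L45749
theorem L45751 : sm ge N7391 = N7150 := ded_25_1 L44381 L31039 L45745
theorem L45753 : sm gb N7391 = N5974 := ded_16_1 L37725 L37718 L45739 L45736 L45745
theorem L45755 : sm gg N4579 = N7392 := rfl
theorem L45756 : sm gg N7392 = N4579 := flp_g L45755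
theorem L45757 : sm ga N7392 = N4582 := ded_12_1 L31053 L31034 L45755
theorem L45758 : sm ga N4582 = N7392 := flp_a L45757
theorem L45759 : sm gc N7392 = N6751 := ded_21_1 L41963 L31037 L45755
theorem L45760 : sm gc N6751 = N7392 := flp_c L45759
theorem L45761 : sm ge N7392 = N7151 := ded_26_1 L44391 L31039 L45755
theorem L45762 : sm ge N7151 = N7392 := flp_e L45761
theorem L45763 : sm gc N4580 = N7393 := rfl
theorem L45764 : sm gc N7393 = N4580 := flp_c L45763
theorem L45767 : sm ge N4580 = N7394 := rfl
theorem L45768 : sm ge N7394 = N4580 := flp_e L45767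
theorem L45771 : sm gd N7394 = N7153 := ded_22_1 L44399 L30369 L23824 L31040 L45767
theorem L45773 : sm gf N4580 = N7395 := rfl
theorem L45774 : sm gf N7395 = N4580 := flp_f L45773
theorem L45775 : sm gd N7395 = N4581 := ded_23_1 L31045 L31040 L45773
theorem L45776 : sm gd N4581 = N7395 := flp_d L45775
theorem L45777 : sm gb N7395 = N7378 := ded_16_1 L45672 L30994 L23832 L31043 L45773
theorem L45779 : sm gg N4580 = N7396 := rfl
theorem L45780 : sm gg N7396 = N4580 := flp_g L45779
theorem L45781 : sm gd N7396 = N4582 := ded_24_1 L31053 L31040 L45779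
theorem L45782 : sm gd N4582 = N7396 := flp_d L45781
theorem L45783 : sm gg N4581 = N7397 := rfl
theorem L45784 : sm gg N7397 = N4581 := flp_g L45783
theorem L45785 : sm gc N7397 = N6756 := ded_21_1 L41985 L31047 L45783
theorem L45789 : sm gf N7392 = N7397 := ded_29_0 L45784 L31045 L31052 L45758
theorem L45790 : sm gf N7397 = N7392 := flp_f L45789
theorem L45791 : sm gf N4582 = N7398 := rfl
theorem L45792 : sm gf N7398 = N4582 := flp_f L45791
theorem L45793 : sm ga N7398 = N7397 := ded_11_1 L45790 L45757 L45791
theorem L45794 : sm ga N7397 = N7398 := flp_a L45793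
theorem L45795 : sm gc N7398 = N6757 := ded_20_1 L41989 L31055 L45791
theorem L45796 : sm gc N6757 = N7398 := flp_c L45795
theorem L45797 : sm ge N7398 = N7157 := ded_25_1 L44421 L31057 L45791
theorem L45798 : sm ge N7157 = N7398 := flp_e L45797
theorem L45799 : sm gg N7398 = N7391 := ded_29_3 L45747 L31045 L31052 L45791
theorem L45800 : sm gg N7391 = N7398 := flp_g L45799
theorem L45801 : sm ga N4584 = N7399 := rfl
theorem L45802 : sm ga N7399 = N4584 := flp_a L45801
theorem L45805 : sm gb N7399 = N7330 := ded_7_2 L45379 L43131 L43127 L31142 L31135 L23894 L23848 L31068 L45801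
theorem L45806 : sm gb N7330 = N7399 := flp_b L45805
theorem L45807 : sm gg N4584 = N7400 := rfl
theorem L45808 : sm gg N7400 = N4584 := flp_g L45807
theorem L45811 : sm gf N4585 = N7401 := rfl
theorem L45812 : sm gf N7401 = N4585 := flp_f L45811
theorem L45813 : sm ge N7401 = N5221 := ded_25_1 L34269 L31075 L45811
theorem L45814 : sm ge N5221 = N7401 := flp_e L45813
theorem L45815 : sm ga N4586 = N7402 := rfl
theorem L45819 : sm ge N7402 = N5228 := ded_10_2 L34325 L31081 L45815
theorem L45820 : sm ge N5228 = N7402 := flp_e L45819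
theorem L45825 : sm gb N7402 = N6176 := ded_7_2 L38744 L29742 L29738 L28959 L30081 L30047 L24257 L31076 L45815
theorem L45827 : sm gc N4586 = N7403 := rfl
theorem L45829 : sm ge N7403 = N5229 := ded_19_2 L34329 L31081 L45827
theorem L45830 : sm ge N5229 = N7403 := flp_e L45829
theorem L45833 : sm gb N7403 = N4595 := ded_13_1 L31145 L23894 L23864 L31076 L45827
theorem L45834 : sm gb N4595 = N7403 := flp_b L45833
theorem L45835 : sm gc N4587 = N7404 := rfl
theorem L45836 : sm gc N7404 = N4587 := flp_c L45835
theorem L45839 : sm gg N7404 = N4885 := ded_21_2 L32709 L31091 L45835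
theorem L45841 : sm gb N7404 = N4599 := ded_13_1 L31167 L23906 L23870 L31084 L45835
theorem L45843 : sm gb N4588 = N7405 := rfl
theorem L45869 : sm gf N4589 = N7408 := rfl
theorem L45875 : sm gd N7408 = N5248 := ded_23_1 L34423 L31101 L45869
theorem L45881 : sm ga N4590 = N7409 := rfl
theorem L45885 : sm gf N7409 = N4604 := ded_11_2 L31193 L31109 L45881
theorem L45893 : sm gg N4590 = N7411 := rfl
theorem L45894 : sm gg N7411 = N4590 := flp_g L45893
theorem L45895 : sm gd N7411 = N4596 := ded_24_1 L31153 L31107 L45893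
theorem L45896 : sm gd N4596 = N7411 := flp_d L45895
theorem L45897 : sm gb N4591 = N7412 := rfl
theorem L45899 : sm gd N7412 = N4597 := ded_14_2 L31157 L31115 L45897
theorem L45900 : sm gd N4597 = N7412 := flp_d L45899
theorem L45901 : sm ga N4592 = N7413 := rfl
theorem L45902 : sm ga N7413 = N4592 := flp_a L45901
theorem L45905 : sm gg N7413 = N4607 := ded_12_2 L31203 L31123 L45901
theorem L45906 : sm gg N4607 = N7413 := flp_g L45905
theorem L45911 : sm gf N4592 = N7415 := rfl
theorem L45913 : sm gd N7415 = N4600 := ded_23_1 L31173 L31121 L45911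
theorem L45925 : sm gg N4595 = N7418 := rfl
theorem L45926 : sm gg N7418 = N4595 := flp_g L45925
theorem L45927 : sm ga N7418 = N6941 := ded_12_1 L43180 L31147 L45925
theorem L45928 : sm ga N6941 = N7418 := flp_a L45927
theorem L45929 : sm gc N7418 = N4596 := ded_21_1 L31153 L31144 L45925
theorem L45930 : sm gc N4596 = N7418 := flp_c L45929
theorem L45957 : sm gb N4598 = N7423 := rfl
theorem L45958 : sm gb N7423 = N4598 := flp_b L45957
theorem L45959 : sm ge N7423 = N5265 := ded_15_2 L34509 L31163 L45957
theorem L45963 : sm gg N7277 = N7423 := ded_26_0 L45959 L36344 L45092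
theorem L45964 : sm gg N7423 = N7277 := flp_g L45963
theorem L45965 : sm gc N4598 = N7424 := rfl
theorem L45966 : sm gc N7424 = N4598 := flp_c L45965
theorem L45967 : sm ga N7424 = N4599 := ded_8_1 L31167 L31160 L45965
theorem L45968 : sm ga N4599 = N7424 := flp_a L45967
theorem L45971 : sm gg N7424 = N4617 := ded_21_2 L31257 L31165 L45965
theorem L45972 : sm gg N4617 = N7424 := flp_g L45971
theorem L45973 : sm gd N4599 = N7425 := rfl
theorem L45974 : sm gd N7425 = N4599 := flp_d L45973
theorem L45975 : sm gg N7425 = N4619 := ded_24_2 L31271 L31171 L45973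
theorem L45976 : sm gg N4619 = N7425 := flp_g L45975
theorem L45977 : sm gf N4599 = N7426 := rfl
theorem L46007 : sm ga N4602 = N7431 := rfl
theorem L46008 : sm ga N7431 = N4602 := flp_a L46007
theorem L46009 : sm gd N7431 = N5287 := ded_9_2 L34611 L31183 L46007
theorem L46010 : sm gd N5287 = N7431 := flp_d L46009
theorem L46013 : sm gc N4602 = N7432 := rfl
theorem L46014 : sm gc N7432 = N4602 := flp_c L46013
theorem L46017 : sm gg N4602 = N7433 := rfl
theorem L46018 : sm gg N7433 = N4602 := flp_g L46017
theorem L46023 : sm ga N4603 = N7434 := rfl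
theorem L46025 : sm gd N7434 = N5290 := ded_9_2 L34623 L31189 L46023
theorem L46026 : sm gd N5290 = N7434 := flp_d L46025
theorem L46027 : sm ge N7434 = N4607 := ded_10_2 L31203 L31191 L46023
theorem L46033 : sm gf N4603 = N7436 := rfl
theorem L46034 : sm gf N7436 = N4603 := flp_f L46033
theorem L46037 : sm ge N7436 = N4609 := ded_25_1 L31209 L31191 L46033
theorem L46038 : sm ge N4609 = N7436 := flp_e L46037
theorem L46047 : sm gg N4604 = N7439 := rfl
theorem L46049 : sm ga N7439 = N4606 := ded_12_1 L31199 L31192 L46047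
theorem L46053 : sm gf N7439 = N7411 := ded_29_2 L45894 L45881 L45885 L46047
theorem L46054 : sm gf N7411 = N7439 := flp_f L46053
theorem L46055 : sm gd N4605 = N7440 := rfl
theorem L46056 : sm gd N7440 = N4605 := flp_d L46055
theorem L46061 : sm gf N4606 = N7442 := rfl
theorem L46062 : sm gf N7442 = N4606 := flp_f L46061
theorem L46063 : sm ga N7442 = N7411 := ded_11_1 L46054 L46049 L46061
theorem L46064 : sm ga N7411 = N7442 := flp_a L46063
theorem L46069 : sm gb N4607 = N7443 := rfl
theorem L46070 : sm gb N7443 = N4607 := flp_b L46069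
theorem L46071 : sm gd N7443 = N4616 := ded_14_2 L31253 L31205 L46069
theorem L46072 : sm gd N4616 = N7443 := flp_d L46071
theorem L46077 : sm gf N4607 = N7445 := rfl
theorem L46078 : sm gf N7445 = N4607 := flp_f L46077
theorem L46079 : sm ga N7445 = N4609 := ded_11_1 L31209 L31202 L46077
theorem L46083 : sm gg N7415 = N7445 := ded_29_1 L46078 L45906 L45902 L45911
theorem L46091 : sm gg N4609 = N7448 := rfl
theorem L46092 : sm gg N7448 = N4609 := flp_g L46091
theorem L46093 : sm ga N7448 = N7415 := ded_12_1 L46083 L46079 L46091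
theorem L46097 : sm gf N7413 = N7448 := ded_29_0 L46092 L31209 L31123 L45901
theorem L46099 : sm ga N4610 = N7449 := rfl
theorem L46101 : sm ge N7449 = N5305 := ded_10_2 L34695 L31215 L46099
theorem L46103 : sm gb N7449 = N4662 := ded_7_2 L31493 L24084 L20247 L10344 L10314 L20184 L23943 L31212 L46099
theorem L46105 : sm gf N7221 = N7449 := ded_25_0 L46101 L34706 L44778
theorem L46107 : sm gc N4610 = N7450 := rfl
theorem L46109 : sm ge N7450 = N5306 := ded_19_2 L34699 L31215 L46107
theorem L46111 : sm gb N7450 = N6989 := ded_13_1 L43427 L31224 L31217 L31212 L46107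
theorem L46112 : sm gb N6989 = N7450 := flp_b L46111
theorem L46113 : sm gf N6995 = N7450 := ded_16_0 L46111 L43426 L29929 L29934 L43506
theorem L46114 : sm gf N7450 = N6995 := flp_f L46113
theorem L46115 : sm gf N4610 = N7451 := rfl
theorem L46121 : sm ge N7451 = N5307 := ded_25_1 L34701 L31215 L46115
theorem L46122 : sm ge N5307 = N7451 := flp_e L46121
theorem L46123 : sm gb N7451 = N6936 := ded_16_1 L43150 L31142 L31138 L31212 L46115
theorem L46124 : sm gb N6936 = N7451 := flp_b L46123
theorem L46129 : sm gd N4611 = N7453 := rfl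
theorem L46131 : sm ga N7453 = N4613 := ded_9_1 L31235 L31219 L46129
theorem L46132 : sm ga N4613 = N7453 := flp_a L46131
theorem L46135 : sm gf N7453 = N6940 := ded_23_2 L43176 L31223 L46129
theorem L46137 : sm gg N4611 = N7454 := rfl
theorem L46138 : sm gg N7454 = N4611 := flp_g L46137
theorem L46139 : sm ga N7454 = N4614 := ded_12_1 L31239 L31219 L46137
theorem L46140 : sm ga N4614 = N7454 := flp_a L46139
theorem L46141 : sm gc N7454 = N4612 := ded_21_1 L31227 L31216 L46137
theorem L46142 : sm gc N4612 = N7454 := flp_c L46141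
theorem L46145 : sm gf N7418 = N7454 := ded_29_0 L46138 L31222 L43179 L45928
theorem L46146 : sm gf N7454 = N7418 := flp_f L46145
theorem L46147 : sm gb N4612 = N7455 := rfl
theorem L46148 : sm gb N7455 = N4612 := flp_b L46147
theorem L46151 : sm gf N4845 = N7455 := ded_31_1 L46148 L31227 L31139 L31143 L43157 L45000 L45552 L45548 L32530 L32526 L24653 L24602 L24619 L32469
theorem L46153 : sm gc N4613 = N7456 := rfl
theorem L46155 : sm ge N4613 = N7457 := rfl
theorem L46156 : sm ge N7457 = N4613 := flp_e L46155
theorem L46157 : sm gb N7457 = N4901 := ded_15_1 L32803 L31237 L46155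
theorem L46159 : sm gd N7457 = N5314 := ded_22_1 L34733 L25840 L23950 L31234 L46155
theorem L46160 : sm gd N5314 = N7457 := flp_d L46159
theorem L46161 : sm gg N4613 = N7458 := rfl
theorem L46162 : sm gg N7458 = N4613 := flp_g L46161
theorem L46175 : sm gg N4616 = N7461 := rfl
theorem L46176 : sm gg N7461 = N4616 := flp_g L46175
theorem L46177 : sm ga N7461 = N7227 := ded_12_1 L44817 L40046 L46175
theorem L46178 : sm ga N7227 = N7461 := flp_a L46177
theorem L46179 : sm ge N7461 = N5322 := ded_26_1 L34763 L31255 L46175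
theorem L46180 : sm ge N5322 = N7461 := flp_e L46179
theorem L46181 : sm gb N7461 = N7277 := ded_17_1 L45963 L45958 L31164 L31252 L46175
theorem L46182 : sm gb N7277 = N7461 := flp_b L46181
theorem L46183 : sm gb N4617 = N7462 := rfl
theorem L46184 : sm gb N7462 = N4617 := flp_b L46183
theorem L46185 : sm ge N7462 = N5323 := ded_15_2 L34765 L31261 L46183
theorem L46191 : sm gf N4617 = N7464 := rfl
theorem L46192 : sm gf N7464 = N4617 := flp_f L46191
theorem L46193 : sm ga N7464 = N4620 := ded_11_1 L31275 L31259 L46191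
theorem L46194 : sm ga N4620 = N7464 := flp_a L46193
theorem L46195 : sm gc N7464 = N4618 := ded_20_1 L31263 L31256 L46191
theorem L46199 : sm gg N7426 = N7464 := ded_29_1 L46192 L45972 L45967 L45977
theorem L46201 : sm gb N4618 = N7465 := rfl
theorem L46203 : sm ge N7465 = N5326 := ded_15_2 L34779 L31267 L46201
theorem L46205 : sm gg N4810 = N7465 := ded_26_0 L46203 L36405 L32280
theorem L46206 : sm gg N7465 = N4810 := flp_g L46205
theorem L46219 : sm gb N4620 = N7469 := rfl
theorem L46220 : sm gb N7469 = N4620 := flp_b L46219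
theorem L46223 : sm gf N7469 = N4911 := ded_16_2 L32850 L24917 L23966 L31274 L46219
theorem L46224 : sm gf N4911 = N7469 := flp_f L46223
theorem L46225 : sm gg N4620 = N7470 := rfl
theorem L46226 : sm gg N7470 = N4620 := flp_g L46225
theorem L46233 : sm gf N7424 = N7470 := ded_29_0 L46226 L31275 L31171 L45968
theorem L46235 : sm ga N4622 = N7471 := rfl
theorem L46236 : sm ga N7471 = N4622 := flp_a L46235
theorem L46247 : sm gb N4623 = N7474 := rfl
theorem L46249 : sm ge N7474 = N4702 := ded_15_2 L31720 L31297 L46247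
theorem L46251 : sm ga N4624 = N7475 := rfl
theorem L46252 : sm ga N7475 = N4624 := flp_a L46251
theorem L46253 : sm gg N7475 = N4634 := ded_12_2 L31357 L31303 L46251
theorem L46254 : sm gg N4634 = N7475 := flp_g L46253
theorem L46255 : sm gc N4624 = N7476 := rfl
theorem L46257 : sm gg N7476 = N4635 := ded_21_2 L31359 L31303 L46255
theorem L46259 : sm gb N7476 = N4700 := ded_13_1 L31712 L24298 L23978 L31300 L46255
theorem L46260 : sm gb N4700 = N7476 := flp_b L46259
theorem L46261 : sm gf N4624 = N7477 := rfl
theorem L46262 : sm gf N7477 = N4624 := flp_f L46261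
theorem L46291 : sm gc N4628 = N7484 := rfl
theorem L46292 : sm gc N7484 = N4628 := flp_c L46291
theorem L46293 : sm ge N7484 = N4635 := ded_19_2 L31359 L31331 L46291
theorem L46297 : sm gf N4628 = N7485 := rfl
theorem L46298 : sm gf N7485 = N4628 := flp_f L46297
theorem L46333 : sm gf N4632 = N7493 := rfl
theorem L46334 : sm gf N7493 = N4632 := flp_f L46333
theorem L46337 : sm gg N7493 = N7471 := ded_29_3 L46236 L31290 L31350 L46333
theorem L46338 : sm gg N7471 = N7493 := flp_g L46337
theorem L46343 : sm gc N4633 = N7495 := rfl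
theorem L46345 : sm gb N7495 = N4652 := ded_13_1 L31449 L24062 L23996 L31352 L46343
theorem L46347 : sm gf N4633 = N7496 := rfl
theorem L46348 : sm gf N7496 = N4633 := flp_f L46347
theorem L46351 : sm gb N7496 = N5340 := ded_16_1 L34837 L25904 L23999 L31352 L46347
theorem L46352 : sm gb N5340 = N7496 := flp_b L46351
theorem L46359 : sm gf N4634 = N7499 := rfl
theorem L46360 : sm gf N7499 = N4634 := flp_f L46359
theorem L46361 : sm ga N7499 = N4636 := ded_11_1 L31363 L31356 L46359
theorem L46362 : sm ga N4636 = N7499 := flp_a L46361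
theorem L46363 : sm gg N7477 = N7499 := ded_29_1 L46360 L46254 L46252 L46261
theorem L46364 : sm gg N7499 = N7477 := flp_g L46363
theorem L46369 : sm gf N4635 = N7501 := rfl
theorem L46370 : sm gf N7501 = N4635 := flp_f L46369
theorem L46373 : sm gb N4636 = N7502 := rfl
theorem L46375 : sm gd N7502 = N5358 := ded_14_2 L34914 L34608 L46373
theorem L46376 : sm gd N5358 = N7502 := flp_d L46375
theorem L46377 : sm gf N7502 = N4637 := ded_16_2 L31365 L24004 L24001 L31362 L46373
theorem L46378 : sm gf N4637 = N7502 := flp_f L46377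
theorem L46389 : sm gc N4637 = N7505 := rfl
theorem L46390 : sm gc N7505 = N4637 := flp_c L46389
theorem L46391 : sm gb N7505 = N4660 := ded_13_1 L31485 L24080 L24008 L31364 L46389
theorem L46392 : sm gb N4660 = N7505 := flp_b L46391
theorem L46393 : sm gg N4637 = N7506 := rfl
theorem L46395 : sm gd N7506 = N5354 := ded_24_1 L34898 L31367 L46393
theorem L46396 : sm gd N5354 = N7506 := flp_d L46395
theorem L46397 : sm gb N7506 = N5337 := ded_17_1 L34825 L25900 L24012 L31364 L46393
theorem L46405 : sm gc N4638 = N7508 := rfl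
theorem L46407 : sm ga N7508 = N4639 := ded_8_1 L31377 L31368 L46405
theorem L46409 : sm ge N7508 = N4647 := ded_19_2 L31425 L31373 L46405
theorem L46410 : sm ge N4647 = N7508 := flp_e L46409
theorem L46423 : sm gb N4640 = N7511 := rfl
theorem L46424 : sm gb N7511 = N4640 := flp_b L46423
theorem L46427 : sm ge N7511 = N4650 := ded_15_2 L31439 L31387 L46423
theorem L46429 : sm gg N7511 = N4641 := ded_17_2 L31389 L24022 L24013 L31382 L46423
theorem L46430 : sm gg N4641 = N7511 := flp_g L46429
theorem L46437 : sm gc N4641 = N7513 := rfl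
theorem L46439 : sm ge N7513 = N4652 := ded_19_2 L31449 L31393 L46437
theorem L46440 : sm ge N4652 = N7513 := flp_e L46439
theorem L46441 : sm gf N4641 = N7514 := rfl
theorem L46443 : sm gd N7514 = N5376 := ded_23_1 L34993 L31391 L46441
theorem L46444 : sm gd N5376 = N7514 := flp_d L46443
theorem L46447 : sm gb N7514 = N7436 := ded_16_1 L46034 L31187 L24027 L31388 L46441
theorem L46448 : sm gb N7436 = N7514 := flp_b L46447
theorem L46481 : sm ga N4645 = N7520 := rfl
theorem L46483 : sm gd N7520 = N5382 := ded_9_2 L35027 L31417 L46481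
theorem L46484 : sm gd N5382 = N7520 := flp_d L46483
theorem L46485 : sm ge N7520 = N4659 := ded_10_2 L31481 L31419 L46481
theorem L46511 : sm gg N4646 = N7526 := rfl
theorem L46513 : sm gd N7526 = N4665 := ded_24_1 L31507 L31423 L46511
theorem L46514 : sm gd N4665 = N7526 := flp_d L46513
theorem L46517 : sm gd N4647 = N7528 := rfl
theorem L46518 : sm gd N7528 = N4647 := flp_d L46517
theorem L46519 : sm ga N7528 = N4648 := ded_9_1 L31431 L31427 L46517
theorem L46543 : sm ga N4650 = N7533 := rfl
theorem L46544 : sm ga N7533 = N4650 := flp_a L46543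
theorem L46547 : sm gg N7533 = N4651 := ded_12_2 L31445 L31443 L46543
theorem L46548 : sm gg N4651 = N7533 := flp_g L46547
theorem L46553 : sm gf N4650 = N7535 := rfl
theorem L46554 : sm gf N7535 = N4650 := flp_f L46553
theorem L46557 : sm gb N4651 = N7536 := rfl
theorem L46565 : sm gf N4651 = N7538 := rfl
theorem L46566 : sm gf N7538 = N4651 := flp_f L46565
theorem L46567 : sm ga N7538 = N4653 := ded_11_1 L31451 L31444 L46565
theorem L46571 : sm gg N7535 = N7538 := ded_29_1 L46566 L46548 L46544 L46553
theorem L46587 : sm gc N4654 = N7542 := rfl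
theorem L46609 : sm ga N4658 = N7548 := rfl
theorem L46613 : sm gf N7548 = N4659 := ded_11_2 L31481 L31479 L46609
theorem L46615 : sm gc N4658 = N7549 := rfl
theorem L46617 : sm gf N7549 = N4660 := ded_20_2 L31485 L31479 L46615
theorem L46619 : sm gg N4658 = N7550 := rfl
theorem L46620 : sm gg N7550 = N4658 := flp_g L46619
theorem L46631 : sm gg N4659 = N7553 := rfl
theorem L46637 : sm gf N7553 = N7550 := ded_29_2 L46620 L46609 L46613 L46631
theorem L46653 : sm gc N4662 = N7557 := rfl

end Cfsg.Agent.Helper28.SuzA
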