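import Cfsg.Agent.Helper28.SuzB5

/-! # The Suzuki group presentation, cosets of the subgroup generated by a, …, f: the coset enumeration, part 6 (helper28; generated) -/

set_option autoImplicit false

noncomputable section

namespace Cfsg.Agent.Helper28.SuzA

open Cfsg.Agent.Helper28.CosetTable

theorem L46657 : sm ge N7557 = N5420 := ded_19_2 L35197 L31495 L46653
theorem L46658 : sm ge N5420 = N7557 := flp_e L46657
theorem L46659 : sm gf N4662 = N7558 := rfl
theorem L46660 : sm gf N7558 = N4662 := flp_f L46659
theorem L46661 : sm ga N7558 = N4664 := ded_11_1 L31501 L31492 L46659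
theorem L46662 : sm ga N4664 = N7558 := flp_a L46661
theorem L46665 : sm gb N7558 = N7205 := ded_16_1 L44695 L44775 L46105 L46103 L46659
theorem L46667 : sm gg N4662 = N7559 := rfl
theorem L46668 : sm gg N7559 = N4662 := flp_g L46667
theorem L46669 : sm ga N7559 = N4665 := ded_12_1 L31507 L31492 L46667
theorem L46670 : sm ga N4665 = N7559 := flp_a L46669
theorem L46673 : sm gb N7368 = N7559 := ded_31_14 L46668 L46659 L46665 L44808 L44802 L30787 L30783 L30773 L30769 L23787 L23782 L23777 L30974 L45609
theorem L46674 : sm gb N7559 = N7368 := flp_b L46673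
theorem L46683 : sm gg N4663 = N7562 := rfl
theorem L46685 : sm gc N7562 = N4665 := ded_21_1 L31507 L31496 L46683
theorem L46686 : sm gc N4665 = N7562 := flp_c L46685
theorem L46695 : sm gf N4665 = N7564 := rfl
theorem L46696 : sm gf N7564 = N4665 := flp_f L46695
theorem L46699 : sm ge N7564 = N5428 := ded_25_1 L35231 L31509 L46695
theorem L46700 : sm ge N5428 = N7564 := flp_e L46699
theorem L46703 : sm gb N4666 = N7565 := rfl
theorem L46705 : sm ge N7565 = N5435 := ded_15_2 L35267 L31513 L46703
theorem L46707 : sm gg N7565 = N6735 := ded_17_2 L41906 L35301 L31527 L31515 L46703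
theorem L46709 : sm gc N6736 = N7565 := ded_21_3 L46707 L41905 L41908
theorem L46711 : sm gc N4666 = N7566 := rfl
theorem L46713 : sm ga N7566 = N4667 := ded_8_1 L31517 L31510 L46711
theorem L46714 : sm ga N4667 = N7566 := flp_a L46713
theorem L46717 : sm gg N7566 = N4670 := ded_21_2 L31531 L31515 L46711
theorem L46718 : sm gg N4670 = N7566 := flp_g L46717
theorem L46723 : sm gf N4667 = N7568 := rfl
theorem L46727 : sm ge N7568 = N5438 := ded_25_1 L35279 L31519 L46723
theorem L46729 : sm ga N4669 = N7569 := rfl
theorem L46730 : sm ga N7569 = N4669 := flp_a L46729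
theorem L46747 : sm gf N4670 = N7572 := rfl
theorem L46748 : sm gf N7572 = N4670 := flp_f L46747
theorem L46749 : sm ga N7572 = N4673 := ded_11_1 L31549 L31533 L46747
theorem L46750 : sm ga N4673 = N7572 := flp_a L46749
theorem L46755 : sm gg N7568 = N7572 := ded_29_1 L46748 L46718 L46713 L46723
theorem L46769 : sm gb N4673 = N7576 := rfl
theorem L46770 : sm gb N7576 = N4673 := flp_b L46769
theorem L46773 : sm gc N7576 = N7469 := ded_13_2 L46220 L31276 L24108 L31551 L46769
theorem L46774 : sm gc N7469 = N7576 := flp_c L46773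
theorem L46777 : sm gg N4673 = N7577 := rfl
theorem L46778 : sm gg N7577 = N4673 := flp_g L46777
theorem L46785 : sm gf N7566 = N7577 := ded_29_0 L46778 L31549 L31521 L46714
theorem L46786 : sm gf N7577 = N7566 := flp_f L46785
theorem L46795 : sm gb N4679 = N7579 := rfl
theorem L46796 : sm gb N7579 = N4679 := flp_b L46795
theorem L46797 : sm ge N7579 = N5459 := ded_15_2 L35384 L31584 L46795
theorem L46798 : sm ge N5459 = N7579 := flp_e L46797
theorem L46799 : sm gc N4679 = N7580 := rfl
theorem L46801 : sm ga N7580 = N4680 := ded_8_1 L31588 L31581 L46799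
theorem L46805 : sm gf N7580 = N4683 := ded_20_2 L31603 L31586 L46799
theorem L46818 : sm ga N4682 = N7583 := rfl
theorem L46819 : sm ga N7583 = N4682 := flp_a L46818
theorem L46824 : sm gb N7583 = N7569 := ded_7_2 L46730 L31527 L24094 L20257 L10367 L20272 L24119 L31598 L46818
theorem L46825 : sm gb N7569 = N7583 := flp_b L46824
theorem L46826 : sm gc N4682 = N7584 := rfl
theorem L46828 : sm ge N7584 = N5464 := ded_19_2 L35407 L31601 L46826
theorem L46829 : sm ge N5464 = N7584 := flp_e L46828
theorem L46830 : sm gf N4682 = N7585 := rfl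
theorem L46842 : sm gd N4683 = N7587 := rfl
theorem L46844 : sm ga N7587 = N4685 := ded_9_1 L31617 L31605 L46842
theorem L46858 : sm ge N4685 = N7590 := rfl
theorem L46860 : sm gb N7590 = N4926 := ded_15_1 L32936 L31619 L46858
theorem L46876 : sm gf N4686 = N7593 := rfl
theorem L46880 : sm gc N7593 = N4687 := ded_20_1 L31627 L31623 L46876
theorem L46884 : sm gg N7593 = N7580 := ded_29_3 L46801 L31591 L31620 L46876
theorem L46886 : sm gb N4687 = N7594 := rfl
theorem L46888 : sm ge N7594 = N5474 := ded_15_2 L35453 L31631 L46886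
theorem L46892 : sm ga N7372 = N7594 := ded_10_3 L46888 L36520 L45638
theorem L46893 : sm ga N7594 = N7372 := flp_a L46892
theorem L46894 : sm ga N4688 = N7595 := rfl
theorem L46896 : sm gd N7595 = N6410 := ded_9_2 L40393 L31637 L46894
theorem L46897 : sm gd N6410 = N7595 := flp_d L46896
theorem L46898 : sm ge N7595 = N7471 := ded_10_2 L46236 L31639 L46894
theorem L46914 : sm ga N4689 = N7598 := rfl
theorem L46915 : sm ga N7598 = N4689 := flp_a L46914
theorem L46922 : sm gc N4689 = N7599 := rfl
theorem L46923 : sm gc N7599 = N4689 := flp_c L46922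
theorem L46928 : sm gf N4689 = N7600 := rfl
theorem L46930 : sm gd N7600 = N6415 := ded_23_1 L40403 L31645 L46928
theorem L46934 : sm gf N4690 = N7601 := rfl
theorem L46935 : sm gf N7601 = N4690 := flp_f L46934
theorem L46936 : sm ga N7601 = N5237 := ded_11_1 L34363 L31653 L46934
theorem L46940 : sm gd N7601 = N6381 := ded_23_1 L40220 L31657 L46934
theorem L46944 : sm gg N4690 = N7602 := rfl
theorem L46945 : sm gg N7602 = N4690 := flp_g L46944
theorem L46946 : sm ga N7602 = N5238 := ded_12_1 L34367 L31653 L46944
theorem L46947 : sm ga N5238 = N7602 := flp_a L46946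
theorem L46948 : sm gc N7602 = N4692 := ded_21_1 L31668 L31650 L46944
theorem L46949 : sm gc N4692 = N7602 := flp_c L46948
theorem L46950 : sm gd N7602 = N6382 := ded_24_1 L40224 L31657 L46944
theorem L46954 : sm gb N4691 = N7603 := rfl
theorem L46955 : sm gb N7603 = N4691 := flp_b L46954
theorem L46956 : sm gd N7603 = N4693 := ded_14_2 L31676 L31664 L46954
theorem L46958 : sm ge N7603 = N6383 := ded_15_2 L40228 L31666 L46954
theorem L46959 : sm ge N6383 = N7603 := flp_e L46958
theorem L46970 : sm ga N4693 = N7605 := rfl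
theorem L46974 : sm gf N7605 = N4705 := ded_11_2 L31736 L31680 L46970
theorem L46984 : sm gg N4693 = N7607 := rfl
theorem L46985 : sm gg N7607 = N4693 := flp_g L46984
theorem L46988 : sm ga N4694 = N7608 := rfl
theorem L46989 : sm ga N7608 = N4694 := flp_a L46988
theorem L46992 : sm gg N7608 = N4708 := ded_12_2 L31750 L31686 L46988
theorem L46993 : sm gg N4708 = N7608 := flp_g L46992
theorem L47002 : sm gf N4694 = N7610 := rfl
theorem L47003 : sm gf N7610 = N4694 := flp_f L47002
theorem L47004 : sm ge N7610 = N4701 := ded_25_1 L31716 L31684 L47002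
theorem L47005 : sm ge N4701 = N7610 := flp_e L47004
theorem L47006 : sm gb N4695 = N7611 := rfl
theorem L47008 : sm gd N7611 = N6416 := ded_14_2 L40405 L31690 L47006
theorem L47010 : sm gc N4695 = N7612 := rfl
theorem L47012 : sm ga N7612 = N4696 := ded_8_1 L31694 L31687 L47010
theorem L47013 : sm ga N4696 = N7612 := flp_a L47012
theorem L47014 : sm gf N7612 = N4712 := ded_20_2 L31768 L31692 L47010
theorem L47016 : sm gd N4696 = N7613 := rfl
theorem L47018 : sm gf N7613 = N4714 := ded_23_2 L31780 L31696 L47016
theorem L47020 : sm gg N4696 = N7614 := rfl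
theorem L47021 : sm gg N7614 = N4696 := flp_g L47020
theorem L47042 : sm gb N4699 = N7619 := rfl
theorem L47043 : sm gb N7619 = N4699 := flp_b L47042
theorem L47044 : sm gd N7619 = N6424 := ded_14_2 L40445 L31708 L47042
theorem L47066 : sm ga N4702 = N7624 := rfl
theorem L47068 : sm gd N7624 = N6429 := ded_9_2 L40465 L31722 L47066
theorem L47084 : sm gc N4703 = N7628 := rfl
theorem L47085 : sm gc N7628 = N4703 := flp_c L47084
theorem L47086 : sm ge N7628 = N6395 := ded_19_2 L40302 L31728 L47084
theorem L47087 : sm ge N6395 = N7628 := flp_e L47086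
theorem L47088 : sm gb N7628 = N7628 := ded_13_1 L47085 L31724 L24315 L31723 L47084
theorem L47095 : sm ga N4704 = N7630 := rfl
theorem L47099 : sm ge N7630 = N6397 := ded_10_2 L40309 L31734 L47095
theorem L47100 : sm ge N6397 = N7630 := flp_e L47099
theorem L47106 : sm gf N4704 = N7632 := rfl
theorem L47108 : sm gd N7632 = N4710 := ded_23_1 L31760 L31732 L47106
theorem L47110 : sm ge N7632 = N6399 := ded_25_1 L40316 L31734 L47106
theorem L47111 : sm ge N6399 = N7632 := flp_e L47110
theorem L47116 : sm gc N4705 = N7634 := rfl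
theorem L47118 : sm ga N7634 = N4706 := ded_8_1 L31740 L31735 L47116
theorem L47120 : sm ge N7634 = N4712 := ded_19_2 L31768 L31738 L47116
theorem L47122 : sm gg N4705 = N7635 := rfl
theorem L47123 : sm gg N7635 = N4705 := flp_g L47122
theorem L47128 : sm gf N7635 = N7607 := ded_29_2 L46985 L46970 L46974 L47122
theorem L47129 : sm gf N7607 = N7635 := flp_f L47128
theorem L47158 : sm gf N4708 = N7641 := rfl
theorem L47159 : sm gf N7641 = N4708 := flp_f L47158
theorem L47162 : sm ge N7641 = N4719 := ded_25_1 L31804 L31752 L47158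
theorem L47163 : sm ge N4719 = N7641 := flp_e L47162
theorem L47164 : sm gg N7610 = N7641 := ded_29_1 L47159 L46993 L46989 L47002
theorem L47170 : sm gf N4709 = N7643 := rfl
theorem L47172 : sm gc N7643 = N4710 := ded_20_1 L31760 L31753 L47170
theorem L47173 : sm gc N4710 = N7643 := flp_c L47172
theorem L47174 : sm ge N7643 = N4721 := ded_25_1 L31816 L31756 L47170
theorem L47192 : sm gf N4711 = N7647 := rfl
theorem L47193 : sm gf N7647 = N4711 := flp_f L47192
theorem L47194 : sm gd N7647 = N6434 := ded_23_1 L40483 L31766 L47192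
theorem L47195 : sm gd N6434 = N7647 := flp_d L47194
theorem L47196 : sm gg N4711 = N7648 := rfl
theorem L47198 : sm gd N7648 = N6435 := ded_24_1 L40487 L31766 L47196
theorem L47206 : sm gg N4712 = N7651 := rfl
theorem L47212 : sm gf N7651 = N7614 := ded_29_2 L47021 L47013 L47014 L47206
theorem L47220 : sm ge N4714 = N7654 := rfl
theorem L47222 : sm gb N7654 = N4752 := ded_15_1 L32000 L31782 L47220
theorem L47228 : sm gb N4715 = N7656 := rfl
theorem L47230 : sm gg N7656 = N4754 := ded_17_2 L32006 L24424 L24344 L31783 L47228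
theorem L47231 : sm gg N4754 = N7656 := flp_g L47230
theorem L47240 : sm gb N4716 = N7658 := rfl
theorem L47241 : sm gb N7658 = N4716 := flp_b L47240
theorem L47310 : sm gc N4723 = N7674 := rfl
theorem L47311 : sm gc N7674 = N4723 := flp_c L47310
theorem L47312 : sm ge N7674 = N4744 := ded_19_2 L31964 L31832 L47310
theorem L47313 : sm ge N4744 = N7674 := flp_e L47312
theorem L47330 : sm gd N4724 = N7678 := rfl
theorem L47331 : sm gd N7678 = N4724 := flp_d L47330
theorem L47332 : sm ga N7678 = N4726 := ded_9_1 L31850 L31836 L47330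
theorem L47333 : sm ga N4726 = N7678 := flp_a L47332
theorem L47334 : sm gg N4724 = N7679 := rfl
theorem L47335 : sm gg N7679 = N4724 := flp_g L47334
theorem L47338 : sm gc N7679 = N4725 := ded_21_1 L31840 L31833 L47334
theorem L47339 : sm gc N4725 = N7679 := flp_c L47338
theorem L47344 : sm gb N4725 = N7680 := rfl
theorem L47345 : sm gb N7680 = N4725 := flp_b L47344
theorem L47350 : sm gc N4726 = N7681 := rfl
theorem L47360 : sm gb N4727 = N7684 := rfl
theorem L47362 : sm ge N7684 = N4754 := ded_15_2 L32006 L31856 L47360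
theorem L47364 : sm gf N4727 = N7685 := rfl
theorem L47365 : sm gf N7685 = N4727 := flp_f L47364
theorem L47372 : sm gg N7685 = N7508 := ded_29_3 L46407 L31380 L31851 L47364
theorem L47373 : sm gg N7508 = N7685 := flp_g L47372
theorem L47374 : sm ga N4728 = N7686 := rfl
theorem L47375 : sm ga N7686 = N4728 := flp_a L47374
theorem L47380 : sm gg N7686 = N4730 := ded_12_2 L31876 L31864 L47374
theorem L47381 : sm gg N4730 = N7686 := flp_g L47380
theorem L47382 : sm gc N4728 = N7687 := rfl
theorem L47383 : sm gc N7687 = N4728 := flp_c L47382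
theorem L47384 : sm ge N7687 = N4757 := ded_19_2 L32022 L31862 L47382
theorem L47385 : sm ge N4757 = N7687 := flp_e L47384
theorem L47386 : sm gg N7687 = N4731 := ded_21_2 L31882 L31864 L47382
theorem L47387 : sm gg N4731 = N7687 := flp_g L47386
theorem L47388 : sm gf N4728 = N7688 := rfl
theorem L47389 : sm gf N7688 = N4728 := flp_f L47388
theorem L47390 : sm gd N7688 = N5490 := ded_23_1 L35531 L31860 L47388
theorem L47391 : sm gd N5490 = N7688 := flp_d L47390
theorem L47392 : sm ge N7688 = N4758 := ded_25_1 L32026 L31862 L47388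
theorem L47393 : sm ge N4758 = N7688 := flp_e L47392
theorem L47400 : sm gb N4730 = N7690 := rfl
theorem L47401 : sm gb N7690 = N4730 := flp_b L47400
theorem L47402 : sm gd N7690 = N5492 := ded_14_2 L35539 L31878 L47400
theorem L47403 : sm gd N5492 = N7690 := flp_d L47402
theorem L47406 : sm gc N4730 = N7691 := rfl
theorem L47407 : sm gc N7691 = N4730 := flp_c L47406
theorem L47408 : sm ga N7691 = N4731 := ded_8_1 L31882 L31875 L47406
theorem L47409 : sm ga N4731 = N7691 := flp_a L47408
theorem L47410 : sm ge N7691 = N4761 := ded_19_2 L32038 L31880 L47406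
theorem L47411 : sm ge N4761 = N7691 := flp_e L47410
theorem L47412 : sm gf N4730 = N7692 := rfl
theorem L47413 : sm gf N7692 = N4730 := flp_f L47412
theorem L47414 : sm ga N7692 = N4732 := ded_11_1 L31886 L31875 L47412
theorem L47420 : sm gg N7688 = N7692 := ded_29_1 L47413 L47381 L47375 L47388
theorem L47422 : sm gd N4731 = N7693 := rfl
theorem L47423 : sm gd N7693 = N4731 := flp_d L47422
theorem L47424 : sm gf N4731 = N7694 := rfl
theorem L47425 : sm gf N7694 = N4731 := flp_f L47424
theorem L47430 : sm gg N4732 = N7695 := rfl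
theorem L47432 : sm ga N7695 = N7688 := ded_12_1 L47420 L47414 L47430
theorem L47436 : sm ge N7695 = N4765 := ded_26_1 L32056 L31890 L47430
theorem L47437 : sm ge N4765 = N7695 := flp_e L47436
theorem L47456 : sm gg N4733 = N7699 := rfl
theorem L47458 : sm gd N7699 = N5501 := ded_24_1 L35585 L31896 L47456
theorem L47460 : sm ge N7699 = N4769 := ded_26_1 L32074 L31898 L47456
theorem L47461 : sm ge N4769 = N7699 := flp_e L47460
theorem L47496 : sm gb N4737 = N7707 := rfl
theorem L47498 : sm ge N7707 = N4776 := ded_15_2 L32104 L31922 L47496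
theorem L47510 : sm ga N4738 = N7709 := rfl
theorem L47512 : sm gd N7709 = N5511 := ded_9_2 L35635 L31926 L47510
theorem L47516 : sm gf N7709 = N4740 := ded_11_2 L31942 L31930 L47510
theorem L47517 : sm gf N4740 = N7709 := flp_f L47516
theorem L47524 : sm gg N4738 = N7711 := rfl
theorem L47525 : sm gg N7711 = N4738 := flp_g L47524
theorem L47528 : sm ge N7711 = N4780 := ded_26_1 L32124 L31928 L47524
theorem L47529 : sm ge N4780 = N7711 := flp_e L47528
theorem L47542 : sm gc N4740 = N7714 := rfl
theorem L47544 : sm ga N7714 = N4741 := ded_8_1 L31948 L31941 L47542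
theorem L47545 : sm ga N4741 = N7714 := flp_a L47544
theorem L47548 : sm gg N4740 = N7715 := rfl
theorem L47549 : sm gg N7715 = N4740 := flp_g L47548
theorem L47556 : sm gf N7715 = N7711 := ded_29_2 L47525 L47510 L47516 L47548
theorem L47557 : sm gf N7711 = N7715 := flp_f L47556
theorem L47576 : sm gc N4743 = N7719 := rfl
theorem L47578 : sm ga N7719 = N4744 := ded_8_1 L31964 L31959 L47576
theorem L47580 : sm gf N4743 = N7720 := rfl
theorem L47581 : sm gf N7720 = N4743 := flp_f L47580
theorem L47582 : sm ga N7720 = N4745 := ded_11_1 L31966 L31959 L47580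
theorem L47618 : sm gf N4746 = N7728 := rfl
theorem L47622 : sm gd N7728 = N4796 := ded_23_1 L32206 L31972 L47618
theorem L47623 : sm gd N4796 = N7728 := flp_d L47622
theorem L47624 : sm gg N7728 = N7720 := ded_29_3 L47582 L31966 L31969 L47618
theorem L47654 : sm ga N4750 = N7736 := rfl
theorem L47655 : sm ga N7736 = N4750 := flp_a L47654
theorem L47656 : sm gd N7736 = N4797 := ded_9_2 L32214 L31992 L47654
theorem L47657 : sm gd N4797 = N7736 := flp_d L47656
theorem L47660 : sm gf N4750 = N7738 := rfl
theorem L47664 : sm gb N7738 = N7535 := ded_16_1 L46554 L31439 L24420 L31989 L47660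
theorem L47666 : sm gb N4751 = N7739 := rfl
theorem L47668 : sm gd N7739 = N6305 := ded_14_2 L39783 L31998 L47666
theorem L47670 : sm ge N4751 = N7740 := rfl
theorem L47671 : sm ge N7740 = N4751 := flp_e L47670
theorem L47676 : sm gg N4751 = N7741 := rfl
theorem L47677 : sm gg N7741 = N4751 := flp_g L47676
theorem L47678 : sm ga N7741 = N6309 := ded_12_1 L39799 L31996 L47676
theorem L47679 : sm ga N6309 = N7741 := flp_a L47678
theorem L47682 : sm gd N7741 = N6306 := ded_24_1 L39785 L31998 L47676
theorem L47684 : sm gg N4752 = N7742 := rfl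
theorem L47686 : sm ge N7742 = N4753 := ded_26_1 L32002 L31999 L47684
theorem L47692 : sm gf N4753 = N7744 := rfl
theorem L47698 : sm gg N7744 = N7528 := ded_29_3 L46519 L31432 L32001 L47692
theorem L47700 : sm ga N4754 = N7745 := rfl
theorem L47701 : sm ga N7745 = N4754 := flp_a L47700
theorem L47702 : sm gc N4754 = N7746 := rfl
theorem L47703 : sm gc N7746 = N4754 := flp_c L47702
theorem L47704 : sm gb N7746 = N4757 := ded_13_1 L32022 L24428 L24426 L32005 L47702
theorem L47706 : sm gf N4754 = N7747 := rfl
theorem L47707 : sm gf N7747 = N4754 := flp_f L47706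
theorem L47710 : sm gb N4756 = N7749 := rfl
theorem L47712 : sm gd N7749 = N4800 := ded_14_2 L32228 L32018 L47710
theorem L47713 : sm gd N4800 = N7749 := flp_d L47712
theorem L47714 : sm gc N4756 = N7750 := rfl
theorem L47716 : sm ga N7750 = N4757 := ded_8_1 L32022 L32015 L47714
theorem L47718 : sm gg N7750 = N4761 := ded_21_2 L32038 L32020 L47714
theorem L47719 : sm gg N4761 = N7750 := flp_g L47718
theorem L47720 : sm gd N4757 = N7751 := rfl
theorem L47721 : sm gd N7751 = N4757 := flp_d L47720
theorem L47722 : sm gg N7751 = N4763 := ded_24_2 L32050 L32024 L47720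
theorem L47724 : sm gf N4757 = N7752 := rfl
theorem L47725 : sm gf N7752 = N4757 := flp_f L47724
theorem L47726 : sm gc N7752 = N4758 := ded_20_1 L32026 L32021 L47724
theorem L47727 : sm gc N4758 = N7752 := flp_c L47726
theorem L47734 : sm ga N4759 = N7754 := rfl
theorem L47736 : sm gd N7754 = N4805 := ded_9_2 L32256 L32032 L47734
theorem L47737 : sm gd N4805 = N7754 := flp_d L47736
theorem L47760 : sm gb N4761 = N7761 := rfl
theorem L47761 : sm gb N7761 = N4761 := flp_b L47760
theorem L47762 : sm gd N4761 = N7762 := rfl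
theorem L47763 : sm gd N7762 = N4761 := flp_d L47762
theorem L47764 : sm ga N7762 = N4763 := ded_9_1 L32050 L32040 L47762
theorem L47765 : sm ga N4763 = N7762 := flp_a L47764
theorem L47766 : sm gf N4761 = N7763 := rfl
theorem L47767 : sm gf N7763 = N4761 := flp_f L47766
theorem L47768 : sm ga N7763 = N4764 := ded_11_1 L32052 L32040 L47766
theorem L47772 : sm gg N7752 = N7763 := ded_29_1 L47767 L47719 L47716 L47724
theorem L47778 : sm gc N4763 = N7765 := rfl
theorem L47779 : sm gc N7765 = N4763 := flp_c L47778
theorem L47782 : sm gf N4763 = N7767 := rfl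
theorem L47783 : sm gf N7767 = N4763 := flp_f L47782
theorem L47784 : sm gd N7767 = N4764 := ded_23_1 L32052 L32049 L47782
theorem L47785 : sm gd N4764 = N7767 := flp_d L47784
theorem L47790 : sm gg N4764 = N7769 := rfl
theorem L47792 : sm ga N7769 = N7752 := ded_12_1 L47772 L47768 L47790
theorem L47794 : sm gc N7769 = N4765 := ded_21_1 L32056 L32054 L47790
theorem L47795 : sm gc N4765 = N7769 := flp_c L47794
theorem L47912 : sm ga N4776 = N7794 := rfl
theorem L47926 : sm gc N4778 = N7799 := rfl
theorem L47928 : sm ga N7799 = N4779 := ded_8_1 L32120 L32113 L47926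
theorem L47929 : sm ga N4779 = N7799 := flp_a L47928
theorem L47930 : sm gf N7799 = N4783 := ded_20_2 L32136 L32118 L47926
theorem L47936 : sm gg N4779 = N7801 := rfl
theorem L47937 : sm gg N7801 = N4779 := flp_g L47936
theorem L47938 : sm gc N7801 = N4780 := ded_21_1 L32124 L32119 L47936
theorem L47939 : sm gc N4780 = N7801 := flp_c L47938
theorem L47980 : sm gg N4783 = N7812 := rfl
theorem L47984 : sm gc N7812 = N4784 := ded_21_1 L32140 L32135 L47980
theorem L47985 : sm gc N4784 = N7812 := flp_c L47984
theorem L47986 : sm gf N7812 = N7801 := ded_29_2 L47937 L47929 L47930 L47980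
theorem L48012 : sm gb N4787 = N7819 := rfl
theorem L48014 : sm gd N7819 = N4855 := ded_14_2 L32526 L32158 L48012
theorem L48015 : sm gd N4855 = N7819 := flp_d L48014
theorem L48016 : sm gf N7819 = N7315 := ded_16_2 L45308 L30849 L24500 L32153 L48012
theorem L48017 : sm gf N7315 = N7819 := flp_f L48016
theorem L48040 : sm gb N4789 = N7823 := rfl
theorem L48041 : sm gb N7823 = N4789 := flp_b L48040
theorem L48042 : sm ge N7823 = N5620 := ded_15_2 L36121 L32172 L48040
theorem L48043 : sm ge N5620 = N7823 := flp_e L48042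
theorem L48048 : sm gb N4790 = N7824 := rfl
theorem L48049 : sm gb N7824 = N4790 := flp_b L48048
theorem L48050 : sm ge N7824 = N5621 := ded_15_2 L36127 L32178 L48048
theorem L48052 : sm gf N7461 = N7824 := ded_25_0 L48050 L36354 L46180
theorem L48053 : sm gf N7824 = N7461 := flp_f L48052
theorem L48068 : sm gb N4792 = N7829 := rfl
theorem L48069 : sm gb N7829 = N4792 := flp_b L48068
theorem L48072 : sm gg N4792 = N7830 := rfl
theorem L48074 : sm gc N7830 = N4794 := ded_21_1 L32194 L32184 L48072
theorem L48075 : sm gc N4794 = N7830 := flp_c L48074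
theorem L48094 : sm gb N4794 = N7833 := rfl
theorem L48095 : sm gb N7833 = N4794 := flp_b L48094
theorem L48096 : sm ge N7833 = N5634 := ded_15_2 L36175 L32196 L48094
theorem L48098 : sm gf N7833 = N7277 := ded_16_2 L46182 L48052 L48049 L32197 L48094
theorem L48100 : sm ga N7279 = N7833 := ded_10_3 L48096 L36352 L45100
theorem L48102 : sm ga N4795 = N7834 := rfl
theorem L48103 : sm ga N7834 = N4795 := flp_a L48102
theorem L48104 : sm ge N7834 = N5635 := ded_10_2 L36177 L32202 L48102
theorem L48106 : sm gg N7834 = N4797 := ded_12_2 L32214 L32204 L48102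
theorem L48107 : sm gg N4797 = N7834 := flp_g L48106
theorem L48108 : sm gf N7834 = N7284 := ded_29_0 L45134 L32222 L32204 L48102
theorem L48109 : sm gf N7284 = N7834 := flp_f L48108
theorem L48116 : sm gf N4795 = N7836 := rfl
theorem L48118 : sm ga N7836 = N7284 := ded_11_1 L48109 L48103 L48116
theorem L48122 : sm gb N4796 = N7837 := rfl
theorem L48124 : sm ge N7837 = N5638 := ded_15_2 L36191 L32210 L48122
theorem L48126 : sm ga N7837 = N4833 := ded_7_1 L32409 L31629 L46886 L46893 L45639 L48100 L48095 L32208 L48122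
theorem L48127 : sm ga N4833 = N7837 := flp_a L48126
theorem L48128 : sm gg N4831 = N7837 := ded_26_0 L48124 L36527 L32399
theorem L48129 : sm gg N7837 = N4831 := flp_g L48128
theorem L48130 : sm gb N4797 = N7838 := rfl
theorem L48131 : sm gb N7838 = N4797 := flp_b L48130
theorem L48132 : sm ge N7838 = N5647 := ded_15_2 L36239 L32216 L48130
theorem L48134 : sm gg N7401 = N7838 := ded_26_0 L48132 L36557 L45814
theorem L48135 : sm gg N7838 = N7401 := flp_g L48134
theorem L48142 : sm gf N4797 = N7840 := rfl
theorem L48143 : sm gf N7840 = N4797 := flp_f L48142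
theorem L48146 : sm ge N7840 = N5649 := ded_25_1 L36245 L32216 L48142
theorem L48148 : sm gg N7840 = N7836 := ded_29_3 L48118 L48109 L48106 L48142
theorem L48149 : sm gg N7836 = N7840 := flp_g L48148
theorem L48150 : sm gb N4829 = N7840 := ded_15_3 L48146 L36251 L32385
theorem L48151 : sm gb N7840 = N4829 := flp_b L48150
theorem L48154 : sm gf N4798 = N7842 := rfl
theorem L48156 : sm gc N7842 = N4799 := ded_20_1 L32222 L32217 L48154
theorem L48157 : sm gc N4799 = N7842 := flp_c L48156
theorem L48158 : sm ge N7842 = N5651 := ded_25_1 L36255 L32220 L48154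
theorem L48159 : sm ge N5651 = N7842 := flp_e L48158
theorem L48160 : sm ga N4800 = N7843 := rfl
theorem L48162 : sm ge N7843 = N5655 := ded_10_2 L36273 L32230 L48160
theorem L48163 : sm ge N5655 = N7843 := flp_e L48162
theorem L48164 : sm gc N4800 = N7844 := rfl
theorem L48166 : sm ge N7844 = N5656 := ded_19_2 L36275 L32230 L48164
theorem L48167 : sm ge N5656 = N7844 := flp_e L48166
theorem L48168 : sm gf N4800 = N7845 := rfl
theorem L48169 : sm gf N7845 = N4800 := flp_f L48168
theorem L48170 : sm ge N7845 = N5657 := ded_25_1 L36277 L32230 L48168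
theorem L48172 : sm gg N7579 = N7845 := ded_26_0 L48170 L36522 L46798
theorem L48173 : sm gg N7845 = N7579 := flp_g L48172
theorem L48174 : sm gg N4800 = N7846 := rfl
theorem L48175 : sm gg N7846 = N4800 := flp_g L48174
theorem L48176 : sm ge N7846 = N5658 := ded_26_1 L36279 L32230 L48174
theorem L48177 : sm ge N5658 = N7846 := flp_e L48176
theorem L48180 : sm gb N4801 = N7847 := rfl
theorem L48181 : sm gb N7847 = N4801 := flp_b L48180
theorem L48182 : sm ge N7847 = N5659 := ded_15_2 L36283 L32236 L48180
theorem L48184 : sm gd N4801 = N7848 := rfl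
theorem L48185 : sm gd N7848 = N4801 := flp_d L48184
theorem L48186 : sm ga N7848 = N4802 := ded_9_1 L32240 L32234 L48184
theorem L48187 : sm ga N4802 = N7848 := flp_a L48186
theorem L48190 : sm gc N4802 = N7849 := rfl
theorem L48191 : sm gc N7849 = N4802 := flp_c L48190
theorem L48194 : sm ge N4802 = N7850 := rfl
theorem L48195 : sm ge N7850 = N4802 := flp_e L48194
theorem L48200 : sm gf N4802 = N7851 := rfl
theorem L48201 : sm gf N7851 = N4802 := flp_f L48200
theorem L48202 : sm gd N7851 = N4803 := ded_23_1 L32244 L32239 L48200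
theorem L48203 : sm gd N4803 = N7851 := flp_d L48202
theorem L48204 : sm gb N4803 = N7852 := rfl
theorem L48205 : sm gb N7852 = N4803 := flp_b L48204
theorem L48250 : sm gf N4807 = N7859 := rfl
theorem L48254 : sm ge N7859 = N5673 := ded_25_1 L36363 L32266 L48250
theorem L48256 : sm gg N7859 = N6366 := ded_29_3 L40144 L32253 L32263 L48250
theorem L48257 : sm gg N6366 = N7859 := flp_g L48256
theorem L48264 : sm gf N4808 = N7861 := rfl
theorem L48265 : sm gf N7861 = N4808 := flp_f L48264
theorem L48266 : sm ga N7861 = N4810 := ded_11_1 L32278 L32269 L48264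
theorem L48267 : sm ga N4810 = N7861 := flp_a L48266
theorem L48270 : sm gg N4808 = N7862 := rfl
theorem L48271 : sm gg N7862 = N4808 := flp_g L48270
theorem L48272 : sm ga N7862 = N4811 := ded_12_1 L32282 L32269 L48270
theorem L48276 : sm gf N7862 = N7465 := ded_29_2 L46206 L48267 L48265 L48270
theorem L48280 : sm gb N4809 = N7863 := rfl
theorem L48284 : sm gc N7863 = N4812 := ded_13_2 L32286 L24546 L24541 L32273 L48280
theorem L48318 : sm ga N4812 = N7869 := rfl
theorem L48319 : sm ga N7869 = N4812 := flp_a L48318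
theorem L48322 : sm gd N4812 = N7870 := rfl
theorem L48324 : sm gb N7870 = N4813 := ded_14_1 L32290 L32285 L48322
theorem L48326 : sm gf N4812 = N7871 := rfl
theorem L48327 : sm gf N7871 = N4812 := flp_f L48326
theorem L48328 : sm ge N7871 = N5685 := ded_25_1 L36427 L32288 L48326
theorem L48330 : sm gg N4812 = N7872 := rfl
theorem L48332 : sm ge N7872 = N5686 := ded_26_1 L36429 L32288 L48330
theorem L48333 : sm ge N5686 = N7872 := flp_e L48332
theorem L48334 : sm gc N4813 = N7873 := rfl
theorem L48335 : sm gc N7873 = N4813 := flp_c L48334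
theorem L48336 : sm ga N7873 = N4816 := ded_8_1 L32308 L32292 L48334
theorem L48338 : sm gd N7765 = N7873 := ded_28_1 L48335 L32290 L24546 L24444 L32037 L47762 L47764 L47778
theorem L48362 : sm gd N4816 = N7878 := rfl
theorem L48363 : sm gd N7878 = N4816 := flp_d L48362
theorem L48364 : sm ga N7878 = N7765 := ded_9_1 L48338 L48336 L48362
theorem L48366 : sm gc N7762 = N7878 := ded_28_0 L48363 L32308 L24560 L20412 L20366 L24445 L32049 L47765
theorem L48367 : sm gc N7878 = N7762 := flp_c L48366
theorem L48376 : sm gf N4817 = N7881 := rfl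
theorem L48377 : sm gf N7881 = N4817 := flp_f L48376
theorem L48378 : sm gd N7881 = N5696 := ded_23_1 L36471 L32314 L48376
theorem L48379 : sm gd N5696 = N7881 := flp_d L48378
theorem L48382 : sm gb N4818 = N7882 := rfl
theorem L48383 : sm gb N7882 = N4818 := flp_b L48382
theorem L48384 : sm gd N7882 = N4819 := ded_14_2 L32320 L32318 L48382
theorem L48385 : sm gd N4819 = N7882 := flp_d L48384
theorem L48386 : sm gf N7882 = N4862 := ded_16_2 L32580 L24674 L24562 L32315 L48382
theorem L48396 : sm ga N4819 = N7884 := rfl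
theorem L48397 : sm ga N7884 = N4819 := flp_a L48396
theorem L48398 : sm gc N7884 = N6549 := ded_8_2 L41089 L32324 L48396
theorem L48399 : sm gc N6549 = N7884 := flp_c L48398
theorem L48402 : sm gf N7884 = N4863 := ded_11_2 L32584 L32326 L48396
theorem L48403 : sm gf N4863 = N7884 := flp_f L48402
theorem L48404 : sm gg N4819 = N7885 := rfl
theorem L48405 : sm gg N7885 = N4819 := flp_g L48404
theorem L48436 : sm gb N4822 = N7890 := rfl
theorem L48438 : sm ge N7890 = N5705 := ded_15_2 L36529 L32348 L48436
theorem L48444 : sm gf N4822 = N7892 := rfl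
theorem L48445 : sm gf N7892 = N4822 := flp_f L48444
theorem L48446 : sm ga N7892 = N4826 := ded_11_1 L32365 L32346 L48444
theorem L48452 : sm gg N4822 = N7893 := rfl
theorem L48456 : sm gc N7893 = N4824 := ded_21_1 L32356 L32343 L48452
theorem L48457 : sm gc N4824 = N7893 := flp_c L48456
theorem L48458 : sm ge N7893 = N5708 := ded_26_1 L36541 L32348 L48452
theorem L48460 : sm gb N4823 = N7894 := rfl
theorem L48461 : sm gb N7894 = N4823 := flp_b L48460
theorem L48462 : sm ge N7894 = N5709 := ded_15_2 L36547 L32354 L48460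
theorem L48464 : sm gg N7451 = N7894 := ded_26_0 L48462 L36558 L46122
theorem L48466 : sm gb N4824 = N7895 := rfl
theorem L48467 : sm gb N7895 = N4824 := flp_b L48466
theorem L48468 : sm ge N7895 = N5710 := ded_15_2 L36549 L32360 L48466
theorem L48470 : sm gf N7895 = N7838 := ded_16_2 L48131 L48142 L48151 L32387 L48466
theorem L48472 : sm gg N7895 = N6923 := ded_17_2 L45571 L45566 L30964 L32355 L48466
theorem L48476 : sm gc N6149 = N7895 := ded_21_3 L48472 L43084 L42879
theorem L48478 : sm gc N7838 = N6986 := ded_20_3 L43415 L48476 L48470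
theorem L48479 : sm gc N6986 = N7838 := flp_c L48478
theorem L48480 : sm gb N7893 = N6150 := ded_13_3 L38629 L38624 L48476 L48467 L48457
theorem L48481 : sm gb N6150 = N7893 := flp_b L48480
theorem L48512 : sm gf N4827 = N7902 := rfl
theorem L48518 : sm ge N7902 = N5718 := ded_25_1 L36586 L32375 L48512
theorem L48519 : sm ge N5718 = N7902 := flp_e L48518
theorem L48520 : sm gg N7902 = N7892 := ded_29_3 L48446 L32365 L32370 L48512
theorem L48536 : sm gg N4828 = N7905 := rfl
theorem L48537 : sm gg N7905 = N4828 := flp_g L48536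
theorem L48542 : sm gf N7837 = N7905 := ded_29_0 L48537 L32380 L32405 L48127
theorem L48544 : sm gb N7905 = N7836 := ded_17_1 L48149 L48151 L32383 L32376 L48536
theorem L48546 : sm gb N4830 = N7906 := rfl
theorem L48548 : sm ge N7906 = N5722 := ded_15_2 L36612 L32393 L48546
theorem L48550 : sm gg N7906 = N6936 := ded_17_2 L46124 L48464 L48461 L32395 L48546
theorem L48554 : sm gc N6938 = N7906 := ded_19_3 L48548 L39353 L43164
theorem L48555 : sm gc N7906 = N6938 := flp_c L48554
theorem L48556 : sm gb N4831 = N7907 := rfl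
theorem L48557 : sm gb N7907 = N4831 := flp_b L48556
theorem L48560 : sm gg N7907 = N7823 := ded_17_2 L48041 L32212 L48122 L48129 L48556
theorem L48561 : sm gg N7823 = N7907 := flp_g L48560
theorem L48562 : sm gf N7400 = N7907 := ded_31_1 L48557 L48128 L48542 L48544 L48149 L48143 L48130 L48135 L45812 L31073 L23852 L23845 L31068 L45807
theorem L48563 : sm gf N7907 = N7400 := flp_f L48562
theorem L48579 : sm ga N4834 = N7911 := rfl
theorem L48580 : sm ga N7911 = N4834 := flp_a L48579
theorem L48581 : sm ge N7911 = N5727 := ded_10_2 L36643 L32414 L48579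
theorem L48583 : sm gf N7911 = N6735 := ded_30_4 L41905 L29291 L22895 L19663 L18507 L5786 L2752 L2878 L2882 L2904 L15441 L5172 L10485 L20460 L24626 L32422 L32416 L32411 L48579
theorem L48584 : sm gf N6735 = N7911 := flp_f L48583
theorem L48585 : sm gc N6731 = N7911 := ded_20_3 L48583 L41905 L41891
theorem L48586 : sm gc N7911 = N6731 := flp_c L48585
theorem L48587 : sm gg N7210 = N7911 := ded_31_0 L48583 L41906 L35301 L35306 L45124 L45120 L30772 L23702 L20070 L20015 L20006 L23579 L30540 L44719
theorem L48589 : sm gg N5727 = N4956 := ded_26_2 L44722 L48587 L48581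
theorem L48590 : sm gg N4956 = N5727 := flp_g L48589
theorem L48593 : sm gc N4834 = N7912 := rfl
theorem L48594 : sm gc N7912 = N4834 := flp_c L48593
theorem L48597 : sm ge N7912 = N5728 := ded_19_2 L36645 L32414 L48593
theorem L48598 : sm ge N5728 = N7912 := flp_e L48597
theorem L48599 : sm gf N6734 = N7912 := ded_30_0 L48594 L32412 L24599 L20440 L20455 L20459 L18484 L6123 L6122 L2905 L1476 L1473 L2755 L5785 L18635 L20864 L22898 L29290 L41902
theorem L48600 : sm gf N7912 = N6734 := flp_f L48599
theorem L48601 : sm gf N4834 = N7913 := rfl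
theorem L48603 : sm ga N7913 = N6735 := ded_11_1 L48584 L48580 L48601
theorem L48607 : sm ge N7913 = N5729 := ded_25_1 L36647 L32414 L48601
theorem L48609 : sm gb N7913 = N4844 := ded_16_1 L32466 L24620 L24603 L32411 L48601
theorem L48610 : sm gb N4844 = N7913 := flp_b L48609
theorem L48611 : sm gg N4834 = N7914 := rfl
theorem L48612 : sm gg N7914 = N4834 := flp_g L48611
theorem L48623 : sm gd N4835 = N7916 := rfl
theorem L48625 : sm ga N7916 = N4836 := ded_9_1 L32424 L32418 L48623
theorem L48627 : sm gf N7916 = N4847 := ded_23_2 L32478 L32422 L48623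
theorem L48669 : sm gc N4839 = N7924 := rfl
theorem L48671 : sm ga N7924 = N4840 := ded_8_1 L32445 L32440 L48669
theorem L48675 : sm gf N6029 = N7924 := ded_11_0 L48671 L39385 L37998
theorem L48676 : sm gf N7924 = N6029 := flp_f L48675
theorem L48677 : sm gf N4839 = N7925 := rfl
theorem L48679 : sm ga N7925 = N4841 := ded_11_1 L32450 L32440 L48677
theorem L48687 : sm gb N7925 = N7289 := ded_16_1 L45160 L30786 L44801 L44810 L48677
theorem L48688 : sm gb N7289 = N7925 := flp_b L48687
theorem L48706 : sm gc N4842 = N7928 := rfl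
theorem L48708 : sm ga N7928 = N4843 := ded_8_1 L32462 L32455 L48706
theorem L48710 : sm ge N7928 = N5746 := ded_19_2 L36728 L32458 L48706
theorem L48711 : sm ge N5746 = N7928 := flp_e L48710
theorem L48728 : sm gb N4843 = N7931 := rfl
theorem L48729 : sm gb N7931 = N4843 := flp_b L48728
theorem L48734 : sm gd N4843 = N7932 := rfl
theorem L48735 : sm gd N7932 = N4843 := flp_d L48734
theorem L48736 : sm gf N4843 = N7933 := rfl
theorem L48738 : sm gc N7933 = N4844 := ded_20_1 L32466 L32461 L48736
theorem L48739 : sm gc N4844 = N7933 := flp_c L48738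
theorem L48742 : sm gg N4843 = N7934 := rfl
theorem L48744 : sm gc N7934 = N4845 := ded_21_1 L32470 L32461 L48742
theorem L48745 : sm gc N4845 = N7934 := flp_c L48744
theorem L48748 : sm gg N4844 = N7935 := rfl
theorem L48749 : sm gg N7935 = N4844 := flp_g L48748
theorem L48752 : sm ge N7935 = N5753 := ded_26_1 L36760 L32468 L48748
theorem L48756 : sm gb N7228 = N7935 := ded_31_14 L48749 L32466 L24620 L24629 L24635 L32434 L32438 L32449 L39263 L28388 L28383 L27998 L39189 L44819
theorem L48757 : sm gb N7935 = N7228 := flp_b L48756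
theorem L48758 : sm gb N4845 = N7936 := rfl
theorem L48764 : sm gg N7936 = N4849 := ded_17_2 L32492 L24630 L24619 L32469 L48758
theorem L48765 : sm gg N4849 = N7936 := flp_g L48764
theorem L48766 : sm ga N4846 = N7937 := rfl
theorem L48770 : sm gb N7937 = N5755 := ded_7_2 L36774 L26708 L21464 L18933 L18483 L20460 L24626 L32473 L48766
theorem L48771 : sm gb N5755 = N7937 := flp_b L48770
theorem L48796 : sm gg N4847 = N7943 := rfl
theorem L48798 : sm ga N7943 = N4852 := ded_12_1 L32504 L32480 L48796
theorem L48799 : sm ga N4852 = N7943 := flp_a L48798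
theorem L48800 : sm gd N7943 = N4848 := ded_24_1 L32482 L32477 L48796
theorem L48808 : sm gc N4849 = N7945 := rfl
theorem L48809 : sm gc N7945 = N4849 := flp_c L48808
theorem L48810 : sm ge N7945 = N5763 := ded_19_2 L36804 L32494 L48808
theorem L48811 : sm ge N5763 = N7945 := flp_e L48810
theorem L48826 : sm gg N4851 = N7949 := rfl
theorem L48830 : sm ge N7949 = N4852 := ded_26_1 L32504 L32497 L48826
theorem L48838 : sm gf N4852 = N7951 := rfl
theorem L48844 : sm gg N7951 = N7916 := ded_29_3 L48625 L32426 L32503 L48838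
theorem L48846 : sm ga N4853 = N7952 := rfl
theorem L48847 : sm ga N7952 = N4853 := flp_a L48846
theorem L48852 : sm gg N7952 = N4867 := ded_12_2 L32612 L32514 L48846
theorem L48853 : sm gg N4867 = N7952 := flp_g L48852
theorem L48854 : sm gf N4853 = N7953 := rfl
theorem L48864 : sm ga N4855 = N7955 := rfl
theorem L48865 : sm ga N7955 = N4855 := flp_a L48864
theorem L48866 : sm ge N7955 = N5774 := ded_10_2 L36854 L32528 L48864
theorem L48867 : sm ge N5774 = N7955 := flp_e L48866
theorem L48876 : sm gg N4855 = N7957 := rfl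
theorem L48882 : sm gb N7957 = N7914 := ded_17_1 L48612 L32412 L24654 L32525 L48876
theorem L48888 : sm gd N4856 = N7959 := rfl
theorem L48890 : sm ga N7959 = N4857 := ded_9_1 L32538 L32531 L48888
theorem L48892 : sm gf N4856 = N7960 := rfl
theorem L48893 : sm gf N7960 = N4856 := flp_f L48892
theorem L48894 : sm ga N7960 = N4858 := ded_11_1 L32542 L32531 L48892
theorem L48900 : sm gg N4856 = N7961 := rfl
theorem L48902 : sm ga N7961 = N4859 := ded_12_1 L32550 L32531 L48900
theorem L48903 : sm ga N4859 = N7961 := flp_a L48902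
theorem L48906 : sm ge N7961 = N5780 := ded_26_1 L36880 L32536 L48900
theorem L48907 : sm ge N5780 = N7961 := flp_e L48906
theorem L48908 : sm gc N4857 = N7962 := rfl
theorem L48909 : sm gc N7962 = N4857 := flp_c L48908
theorem L48910 : sm ge N4857 = N7963 := rfl
theorem L48914 : sm gd N7963 = N5782 := ded_22_1 L36886 L26754 L24658 L32537 L48910
theorem L48916 : sm gf N4857 = N7964 := rfl
theorem L48917 : sm gf N7964 = N4857 := flp_f L48916
theorem L48918 : sm gd N7964 = N4858 := ded_23_1 L32542 L32537 L48916
theorem L48919 : sm gd N4858 = N7964 := flp_d L48918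
theorem L48928 : sm gg N4858 = N7966 := rfl
theorem L48929 : sm gg N7966 = N4858 := flp_g L48928
theorem L48934 : sm gf N7961 = N7966 := ded_29_0 L48929 L32542 L32549 L48903
theorem L48935 : sm gf N7966 = N7961 := flp_f L48934
theorem L48936 : sm gf N4859 = N7967 := rfl
theorem L48937 : sm gf N7967 = N4859 := flp_f L48936
theorem L48938 : sm ga N7967 = N7966 := ded_11_1 L48935 L48902 L48936
theorem L48939 : sm ga N7966 = N7967 := flp_a L48938
theorem L48944 : sm gg N7967 = N7960 := ded_29_3 L48894 L32542 L32549 L48936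
theorem L48946 : sm gb N4861 = N7968 := rfl
theorem L48947 : sm gb N7968 = N4861 := flp_b L48946
theorem L48948 : sm gd N7968 = N5792 := ded_14_2 L36922 L32574 L48946
theorem L48949 : sm gd N5792 = N7968 := flp_d L48948
theorem L48952 : sm ga N4862 = N7969 := rfl
theorem L48954 : sm gd N7969 = N4863 := ded_9_2 L32584 L32582 L48952
theorem L48956 : sm gc N4862 = N7970 := rfl
theorem L48957 : sm gc N7970 = N4862 := flp_c L48956
theorem L48958 : sm gb N7970 = N7962 := ded_13_1 L48909 L32539 L24678 L32579 L48956
theorem L48959 : sm gb N7962 = N7970 := flp_b L48958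
theorem L48960 : sm gg N4862 = N7971 := rfl
theorem L48961 : sm gg N7971 = N4862 := flp_g L48960
theorem L48966 : sm gb N4863 = N7972 := rfl
theorem L48967 : sm gb N7972 = N4863 := flp_b L48966
theorem L48968 : sm ge N7972 = N5796 := ded_15_2 L36938 L32588 L48966
theorem L48970 : sm gg N4863 = N7973 := rfl
theorem L48972 : sm ga N7973 = N4864 := ded_12_1 L32590 L32583 L48970
theorem L48978 : sm gf N7973 = N7885 := ded_29_2 L48405 L48396 L48402 L48970
theorem L48979 : sm gf N7885 = N7973 := flp_f L48978
theorem L48980 : sm gf N4864 = N7974 := rfl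
theorem L48982 : sm ga N7974 = N7885 := ded_11_1 L48979 L48972 L48980
theorem L48983 : sm ga N7885 = N7974 := flp_a L48982
theorem L48984 : sm gc N7974 = N6554 := ded_20_1 L41115 L32592 L48980
theorem L48985 : sm gc N6554 = N7974 := flp_c L48984
theorem L48990 : sm gb N4865 = N7975 := rfl
theorem L48992 : sm gd N7975 = N5806 := ded_14_2 L36988 L32602 L48990
theorem L48993 : sm gd N5806 = N7975 := flp_d L48992
theorem L48994 : sm ge N7975 = N4866 := ded_15_2 L32608 L32604 L48990
theorem L49012 : sm gf N4867 = N7980 := rfl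
theorem L49013 : sm gf N7980 = N4867 := flp_f L49012
theorem L49020 : sm gg N7953 = N7980 := ded_29_1 L49013 L48853 L48847 L48854
theorem L49063 : sm gb N4872 = N7990 := rfl
theorem L49064 : sm gb N7990 = N4872 := flp_b L49063
theorem L49065 : sm gc N7990 = N5816 := ded_13_2 L44479 L44474 L37149 L37146 L49063
theorem L49066 : sm gc N5816 = N7990 := flp_c L49065
theorem L49075 : sm gg N4873 = N7992 := rfl
theorem L49076 : sm gg N7992 = N4873 := flp_g L49075
theorem L49111 : sm gd N4878 = N7998 := rfl
theorem L49112 : sm gd N7998 = N4878 := flp_d L49111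
theorem L49113 : sm gf N7998 = N5878 := ded_23_2 L37336 L32677 L49111
theorem L49129 : sm gd N4881 = N8001 := rfl
theorem L49131 : sm gb N8001 = N4889 := ded_14_1 L32733 L32695 L49129
theorem L49132 : sm gb N4889 = N8001 := flp_b L49131
theorem L49133 : sm gg N4881 = N8002 := rfl
theorem L49134 : sm gg N8002 = N4881 := flp_g L49133
theorem L49137 : sm gc N8002 = N4882 := ded_21_1 L32697 L32690 L49133
theorem L49141 : sm gb N7333 = N8002 := ded_13_5 L49137 L39345 L43125 L43132 L45402
theorem L49143 : sm gc N4883 = N8003 := rfl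
theorem L49149 : sm gf N8003 = N7906 := ded_20_2 L48555 L43166 L49143
theorem L49159 : sm gf N4885 = N8005 := rfl
theorem L49160 : sm gf N8005 = N4885 := flp_f L49159
theorem L49165 : sm gg N4886 = N8006 := rfl
theorem L49166 : sm gg N8006 = N4886 := flp_g L49165
theorem L49167 : sm ga N8006 = N7018 := ded_12_1 L43632 L42935 L49165
theorem L49171 : sm ge N8006 = N5908 := ded_26_1 L37453 L32717 L49165
theorem L49172 : sm ge N5908 = N8006 := flp_e L49171
theorem L49173 : sm gf N6062 = N8006 := ded_29_0 L49166 L32715 L31091 L42934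
theorem L49174 : sm gf N8006 = N6062 := flp_f L49173
theorem L49183 : sm gd N4888 = N8008 := rfl
theorem L49187 : sm gf N8008 = N4898 := ded_23_2 L32787 L32729 L49183
theorem L49189 : sm gg N8008 = N6005 := ded_24_2 L37891 L32731 L49183
theorem L49190 : sm gg N6005 = N8008 := flp_g L49189
theorem L49201 : sm gg N4889 = N8011 := rfl
theorem L49205 : sm gd N8011 = N4890 := ded_24_1 L32737 L32732 L49201
theorem L49206 : sm gd N4890 = N8011 := flp_d L49205
theorem L49207 : sm gb N4890 = N8012 := rfl
theorem L49209 : sm ge N8012 = N5918 := ded_15_2 L37499 L32743 L49207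
theorem L49210 : sm ge N5918 = N8012 := flp_e L49209
theorem L49229 : sm gd N4892 = N8015 := rfl
theorem L49230 : sm gd N8015 = N4892 := flp_d L49229
theorem L49231 : sm ga N8015 = N4893 := ded_9_1 L32761 L32755 L49229
theorem L49232 : sm ga N4893 = N8015 := flp_a L49231
theorem L49233 : sm gg N8015 = N4906 := ded_24_2 L32826 L32759 L49229
theorem L49234 : sm gg N4906 = N8015 := flp_g L49233
theorem L49235 : sm gc N4893 = N8016 := rfl
theorem L49236 : sm gc N8016 = N4893 := flp_c L49235
theorem L49237 : sm gg N8016 = N4908 := ded_21_2 L32840 L32763 L49235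
theorem L49238 : sm gg N4908 = N8016 := flp_g L49237
theorem L49245 : sm gf N4893 = N8018 := rfl
theorem L49246 : sm gf N8018 = N4893 := flp_f L49245
theorem L49247 : sm gd N8018 = N4894 := ded_23_1 L32765 L32760 L49245
theorem L49249 : sm gb N4894 = N8019 := rfl
theorem L49251 : sm ge N8019 = N5926 := ded_15_2 L37531 L32769 L49249
theorem L49253 : sm gd N4895 = N8020 := rfl
theorem L49255 : sm ga N8020 = N5982 := ded_9_1 L37758 L32773 L49253
theorem L49256 : sm ga N5982 = N8020 := flp_a L49255
theorem L49257 : sm gg N8020 = N5973 := ded_24_2 L37721 L32777 L49253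
theorem L49259 : sm gb N4896 = N8021 := rfl
theorem L49260 : sm gb N8021 = N4896 := flp_b L49259
theorem L49261 : sm ge N8021 = N5930 := ded_15_2 L37551 L32781 L49259
theorem L49263 : sm gc N8021 = N4897 := ded_13_2 L32783 L24858 L24851 L32778 L49259
theorem L49265 : sm gd N4896 = N8022 := rfl
theorem L49266 : sm gd N8022 = N4896 := flp_d L49265
theorem L49267 : sm ga N4897 = N8023 := rfl
theorem L49268 : sm ga N8023 = N4897 := flp_a L49267
theorem L49269 : sm ge N8023 = N5933 := ded_10_2 L37567 L32785 L49267
theorem L49270 : sm ge N5933 = N8023 := flp_e L49269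
theorem L49271 : sm gd N4897 = N8024 := rfl
theorem L49273 : sm gb N8024 = N4898 := ded_14_1 L32787 L32782 L49271
theorem L49274 : sm gb N4898 = N8024 := flp_b L49273
theorem L49275 : sm gg N4897 = N8025 := rfl
theorem L49277 : sm ge N8025 = N5936 := ded_26_1 L37577 L32785 L49275
theorem L49278 : sm ge N5936 = N8025 := flp_e L49277
theorem L49279 : sm ge N4898 = N8026 := rfl
theorem L49283 : sm gd N8026 = N5938 := ded_22_1 L37585 L27184 L24862 L32786 L49279
theorem L49323 : sm gf N4903 = N8035 := rfl
theorem L49325 : sm ge N8035 = N5949 := ded_25_1 L37633 L32813 L49323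
theorem L49326 : sm ge N5949 = N8035 := flp_e L49325
theorem L49327 : sm gb N4904 = N8036 := rfl
theorem L49328 : sm gb N8036 = N4904 := flp_b L49327
theorem L49329 : sm ge N8036 = N5951 := ded_15_2 L37639 L32818 L49327
theorem L49330 : sm ge N5951 = N8036 := flp_e L49329
theorem L49338 : sm ga N4905 = N8038 := rfl
theorem L49339 : sm ga N8038 = N4905 := flp_a L49338
theorem L49340 : sm ge N8038 = N5954 := ded_10_2 L37651 L32824 L49338
theorem L49354 : sm ge N4906 = N8042 := rfl
theorem L49355 : sm ge N8042 = N4906 := flp_e L49354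
theorem L49356 : sm ga N8042 = N4909 := ded_10_1 L32842 L32828 L49354
theorem L49358 : sm gd N8042 = N5959 := ded_22_1 L37667 L27224 L24903 L32825 L49354
theorem L49359 : sm gd N5959 = N8042 := flp_d L49358
theorem L49360 : sm gf N4906 = N8043 := rfl
theorem L49361 : sm gf N8043 = N4906 := flp_f L49360
theorem L49362 : sm ga N8043 = N4910 := ded_11_1 L32846 L32828 L49360
theorem L49364 : sm gd N8043 = N4907 := ded_23_1 L32830 L32825 L49360
theorem L49366 : sm gg N8018 = N8043 := ded_29_1 L49361 L49234 L49231 L49245
theorem L49367 : sm gg N8043 = N8018 := flp_g L49366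
theorem L49368 : sm gb N4907 = N8044 := rfl
theorem L49370 : sm ge N8044 = N5961 := ded_15_2 L37679 L32836 L49368
theorem L49371 : sm ge N5961 = N8044 := flp_e L49370
theorem L49380 : sm gf N4908 = N8047 := rfl
theorem L49381 : sm gf N8047 = N4908 := flp_f L49380
theorem L49384 : sm gf N4909 = N8048 := rfl
theorem L49386 : sm gd N8048 = N5966 := ded_23_1 L37697 L32844 L49384
theorem L49394 : sm gg N4910 = N8050 := rfl
theorem L49395 : sm gg N8050 = N4910 := flp_g L49394
theorem L49396 : sm ga N8050 = N8018 := ded_12_1 L49366 L49362 L49394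
theorem L49398 : sm gd N8050 = N4912 := ded_24_1 L32854 L32848 L49394
theorem L49400 : sm gf N8015 = N8050 := ded_29_0 L49395 L32846 L32763 L49232
theorem L49402 : sm ga N4911 = N8051 := rfl
theorem L49403 : sm ga N8051 = N4911 := flp_a L49402
theorem L49404 : sm ge N8051 = N5969 := ded_10_2 L37713 L32852 L49402
theorem L49406 : sm gg N4911 = N8052 := rfl
theorem L49407 : sm gg N8052 = N4911 := flp_g L49406
theorem L49408 : sm ge N8052 = N5970 := ded_26_1 L37715 L32852 L49406
theorem L49410 : sm gb N4912 = N8053 := rfl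
theorem L49412 : sm ge N8053 = N5971 := ded_15_2 L37717 L32860 L49410
theorem L49416 : sm ga N4913 = N8054 := rfl
theorem L49417 : sm ga N8054 = N4913 := flp_a L49416
theorem L49418 : sm ge N8054 = N6006 := ded_10_2 L37895 L32866 L49416
theorem L49419 : sm ge N6006 = N8054 := flp_e L49418
theorem L49424 : sm gf N4913 = N8056 := rfl
theorem L49425 : sm gf N8056 = N4913 := flp_f L49424
theorem L49426 : sm ge N8056 = N6008 := ded_25_1 L37901 L32866 L49424
theorem L49428 : sm gg N4913 = N8057 := rfl
theorem L49429 : sm gg N8057 = N4913 := flp_g L49428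
theorem L49430 : sm ge N8057 = N6009 := ded_26_1 L37903 L32866 L49428
theorem L49432 : sm ge N4914 = N8058 := rfl
theorem L49433 : sm ge N8058 = N4914 := flp_e L49432
theorem L49436 : sm gd N8058 = N6011 := ded_22_1 L37911 L27356 L24943 L32867 L49432
theorem L49437 : sm gd N6011 = N8058 := flp_d L49436
theorem L49438 : sm gf N4914 = N8059 := rfl
theorem L49442 : sm gd N8059 = N4915 := ded_23_1 L32872 L32867 L49438
theorem L49454 : sm ge N4916 = N8062 := rfl
theorem L49455 : sm ge N8062 = N4916 := flp_e L49454
theorem L49462 : sm gf N4917 = N8064 := rfl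
theorem L49464 : sm gd N8064 = N6018 := ded_23_1 L37941 L32886 L49462
theorem L49465 : sm gd N6018 = N8064 := flp_d L49464
theorem L49466 : sm ge N8064 = N4918 := ded_25_1 L32888 L32883 L49462
theorem L49472 : sm gg N4918 = N8066 := rfl
theorem L49473 : sm gg N8066 = N4918 := flp_g L49472
theorem L49478 : sm gf N6368 = N8066 := ded_29_0 L49473 L32888 L28401 L40152
theorem L49479 : sm gf N8066 = N6368 := flp_f L49478
theorem L49480 : sm ga N4919 = N8067 := rfl
theorem L49481 : sm ga N8067 = N4919 := flp_a L49480
theorem L49482 : sm gc N8067 = N8051 := ded_8_2 L49403 L32896 L49480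
theorem L49483 : sm gc N8051 = N8067 := flp_c L49482
theorem L49484 : sm ge N8067 = N6021 := ded_10_2 L37957 L32894 L49480
theorem L49486 : sm gg N4919 = N8068 := rfl
theorem L49488 : sm gc N8068 = N8052 := ded_21_1 L49407 L32896 L49486
theorem L49489 : sm gc N8052 = N8068 := flp_c L49488
theorem L49490 : sm ge N8068 = N6022 := ded_26_1 L37961 L32894 L49486
theorem L49496 : sm ga N4922 = N8070 := rfl
theorem L49502 : sm gf N8070 = N5741 := ded_11_2 L36690 L39381 L49496
theorem L49510 : sm gg N4922 = N8072 := rfl
theorem L49514 : sm ge N8072 = N6032 := ded_26_1 L38008 L32916 L49510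
theorem L49548 : sm gg N4926 = N8079 := rfl
theorem L49552 : sm ge N8079 = N4927 := ded_26_1 L32941 L32935 L49548
theorem L49574 : sm gb N4929 = N8083 := rfl
theorem L49575 : sm gb N8083 = N4929 := flp_b L49574
theorem L49576 : sm gc N8083 = N5208 := ded_13_2 L34216 L25618 L25036 L32950 L49574
theorem L49577 : sm gc N5208 = N8083 := flp_c L49576
theorem L49578 : sm ga N8083 = N8083 := ded_7_1 L49575 L32952 L29441 L29436 L28671 L29437 L29440 L32953 L49574
theorem L49579 : sm gd N4929 = N8084 := rfl
theorem L49580 : sm gd N8084 = N4929 := flp_d L49579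
theorem L49581 : sm ga N8084 = N4940 := ded_9_1 L33015 L32953 L49579
theorem L49582 : sm ga N4940 = N8084 := flp_a L49581
theorem L49585 : sm ge N4929 = N8084 := ded_10_0 L49581 L33021 L32953
theorem L49586 : sm ge N8084 = N4929 := flp_e L49585
theorem L49587 : sm gf N4929 = N8085 := rfl
theorem L49588 : sm gf N8085 = N4929 := flp_f L49587
theorem L49589 : sm ga N8085 = N4941 := ded_11_1 L33023 L32953 L49587
theorem L49593 : sm gg N4929 = N8086 := rfl
theorem L49595 : sm ga N8086 = N4942 := ded_12_1 L33027 L32953 L49593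
theorem L49597 : sm gc N8086 = N4932 := ded_21_1 L32967 L32950 L49593
theorem L49598 : sm gc N4932 = N8086 := flp_c L49597
theorem L49605 : sm gg N4930 = N8088 := rfl
theorem L49606 : sm gg N8088 = N4930 := flp_g L49605
theorem L49607 : sm ga N8088 = N4944 := ded_12_1 L33035 L32957 L49605
theorem L49609 : sm ge N8088 = N4932 := ded_26_1 L32967 L32954 L49605
theorem L49635 : sm gf N4934 = N8093 := rfl
theorem L49636 : sm gf N8093 = N4934 := flp_f L49635
theorem L49637 : sm ga N8093 = N5647 := ded_11_1 L36551 L36554 L49635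
theorem L49639 : sm gb N5655 = N8093 := ded_7_0 L49637 L36239 L26530 L21387 L18879 L18889 L21398 L26541 L36272
theorem L49640 : sm gb N8093 = N5655 := flp_b L49639
theorem L49641 : sm gf N4952 = N5655 := ded_16_0 L49639 L49636 L32977 L25091 L33074
theorem L49645 : sm gf N7843 = N7208 := ded_25_2 L44709 L49641 L48163
theorem L49659 : sm gg N4935 = N8095 := rfl
theorem L49661 : sm ga N8095 = N7200 := ded_12_1 L44656 L32983 L49659
theorem L49662 : sm ga N7200 = N8095 := flp_a L49661
theorem L49665 : sm gd N8095 = N8088 := ded_24_1 L49606 L32986 L49659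
theorem L49669 : sm gb N4936 = N8096 := rfl
theorem L49670 : sm gb N8096 = N4936 := flp_b L49669
theorem L49673 : sm gf N8096 = N5882 := ded_16_2 L37353 L27001 L25054 L32990 L49669
theorem L49674 : sm gf N5882 = N8096 := flp_f L49673
theorem L49681 : sm gc N4938 = N8098 := rfl
theorem L49682 : sm gc N8098 = N4938 := flp_c L49681
theorem L49685 : sm gf N8098 = N6561 := ded_20_2 L41142 L33007 L49681
theorem L49686 : sm gf N6561 = N8098 := flp_f L49685
theorem L49687 : sm gb N8098 = N4950 := ded_13_1 L33069 L25086 L25060 L33002 L49681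
theorem L49697 : sm gf N4939 = N8100 := rfl
theorem L49698 : sm gf N8100 = N4939 := flp_f L49697
theorem L49701 : sm ge N8100 = N8093 := ded_25_1 L49636 L33011 L49697
theorem L49703 : sm gb N8100 = N7843 := ded_16_1 L49645 L44708 L30533 L33008 L49697
theorem L49705 : sm gf N4940 = N8101 := rfl
theorem L49706 : sm gf N8101 = N4940 := flp_f L49705
theorem L49713 : sm gg N4940 = N8102 := rfl
theorem L49714 : sm gg N8102 = N4940 := flp_g L49713
theorem L49717 : sm gd N8102 = N4942 := ded_24_1 L33027 L33014 L49713
theorem L49721 : sm gb N4941 = N8103 := rfl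
theorem L49722 : sm gb N8103 = N4941 := flp_b L49721
theorem L49729 : sm gb N4942 = N8105 := rfl
theorem L49730 : sm gb N8105 = N4942 := flp_b L49729
theorem L49731 : sm gf N4942 = N8106 := rfl
theorem L49737 : sm gg N8106 = N8085 := ded_29_3 L49589 L33023 L33026 L49731
theorem L49739 : sm gb N4943 = N8107 := rfl
theorem L49740 : sm gb N8107 = N4943 := flp_b L49739
theorem L49743 : sm gf N8107 = N4961 := ded_16_2 L33113 L25126 L25076 L33030 L49739
theorem L49744 : sm gf N4961 = N8107 := flp_f L49743
theorem L49765 : sm ga N4945 = N8111 := rfl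
theorem L49766 : sm ga N8111 = N4945 := flp_a L49765
theorem L49769 : sm gf N8111 = N4963 := ded_11_2 L33121 L33043 L49765
theorem L49770 : sm gf N4963 = N8111 := flp_f L49769
theorem L49803 : sm gg N4950 = N8119 := rfl
theorem L49804 : sm gg N8119 = N4950 := flp_g L49803
theorem L49807 : sm gb N6733 = N8119 := ded_31_14 L49804 L33070 L30093 L41157 L41151 L29083 L29081 L29073 L29071 L22899 L22894 L22891 L29288 L41896
theorem L49808 : sm gb N8119 = N6733 := flp_b L49807
theorem L49809 : sm gb N4951 = N8120 := rfl
theorem L49811 : sm gf N8120 = N5658 := ded_16_2 L36280 L36412 L36418 L33150 L49809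
theorem L49812 : sm gf N5658 = N8120 := flp_f L49811
theorem L49815 : sm ga N8120 = N5459 := ded_7_1 L35384 L26133 L21221 L18925 L21458 L26688 L36703 L33160 L49809
theorem L49816 : sm ga N5459 = N8120 := flp_a L49815
theorem L49817 : sm gc N4952 = N8121 := rfl
theorem L49818 : sm gc N8121 = N4952 := flp_c L49817
theorem L49819 : sm gb N4955 = N8122 := rfl
theorem L49820 : sm gb N8122 = N4955 := flp_b L49819
theorem L49821 : sm gf N8122 = N4956 := ded_16_2 L33087 L25098 L25093 L33084 L49819
theorem L49825 : sm ga N8122 = N5435 := ded_7_1 L35267 L26086 L21205 L18896 L21408 L26561 L36331 L33184 L49819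
theorem L49829 : sm gb N4957 = N8124 := rfl
theorem L49830 : sm gb N8124 = N4957 := flp_b L49829
theorem L49837 : sm gb N4958 = N8125 := rfl
theorem L49839 : sm gd N8125 = N6459 := ded_14_2 L40587 L33105 L49837
theorem L49843 : sm gg N8125 = N6463 := ded_17_2 L40609 L28656 L25108 L33098 L49837
theorem L49845 : sm ga N4959 = N8126 := rfl
theorem L49846 : sm ga N8126 = N4959 := flp_a L49845
theorem L49847 : sm gc N4959 = N8127 := rfl
theorem L49848 : sm gc N8127 = N4959 := flp_c L49847
theorem L49849 : sm gb N8127 = N4964 := ded_13_1 L33125 L25138 L25118 L33108 L49847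
theorem L49850 : sm gb N4964 = N8127 := flp_b L49849
theorem L49859 : sm gf N4960 = N8131 := rfl
theorem L49860 : sm gf N8131 = N4960 := flp_f L49859
theorem L49861 : sm ga N4961 = N8132 := rfl
theorem L49862 : sm ga N8132 = N4961 := flp_a L49861
theorem L49863 : sm ge N8132 = N4963 := ded_10_2 L33121 L33115 L49861
theorem L49869 : sm gg N4961 = N8134 := rfl
theorem L49870 : sm gg N8134 = N4961 := flp_g L49869
theorem L49871 : sm ge N8134 = N4965 := ded_26_1 L33127 L33115 L49869
theorem L49872 : sm ge N4965 = N8134 := flp_e L49871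
theorem L49877 : sm gc N4962 = N8136 := rfl
theorem L49879 : sm ge N8136 = N4967 := ded_19_2 L33135 L33119 L49877
theorem L49881 : sm gf N4962 = N8137 := rfl
theorem L49882 : sm gf N8137 = N4962 := flp_f L49881
theorem L49883 : sm ge N8137 = N4968 := ded_25_1 L33137 L33119 L49881
theorem L49889 : sm gc N4963 = N8139 := rfl
theorem L49891 : sm ga N8139 = N4964 := ded_8_1 L33125 L33120 L49889
theorem L49907 : sm gf N4965 = N8143 := rfl
theorem L49908 : sm gf N8143 = N4965 := flp_f L49907
theorem L49913 : sm gg N8143 = N8111 := ded_29_3 L49766 L33042 L33126 L49907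
theorem L49914 : sm gg N8111 = N8143 := flp_g L49913
theorem L49917 : sm gb N4966 = N8144 := rfl
theorem L49919 : sm gd N8144 = N4975 := ded_14_2 L33165 L33133 L49917
theorem L49921 : sm gc N4966 = N8145 := rfl
theorem L49922 : sm gc N8145 = N4966 := flp_c L49921
theorem L49923 : sm ga N8145 = N4967 := ded_8_1 L33135 L33130 L49921
theorem L49924 : sm ga N4967 = N8145 := flp_a L49923
theorem L49943 : sm gg N4968 = N8149 := rfl
theorem L49944 : sm gg N8149 = N4968 := flp_g L49943
theorem L49949 : sm gf N6071 = N8149 := ded_29_0 L49944 L33137 L33055 L39371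
theorem L49950 : sm gf N8149 = N6071 := flp_f L49949
theorem L49953 : sm gc N4969 = N8150 := rfl
theorem L49954 : sm gc N8150 = N4969 := flp_c L49953
theorem L49955 : sm gg N4969 = N8151 := rfl
theorem L49959 : sm gf N8151 = N5308 := ded_29_2 L34709 L34694 L34706 L49955
theorem L49961 : sm gb N8151 = N5675 := ded_17_1 L36417 L36418 L33147 L33140 L49955
theorem L49962 : sm gb N5675 = N8151 := flp_b L49961
theorem L49963 : sm gd N4970 = N8152 := rfl
theorem L49967 : sm gb N8152 = N7647 := ded_14_1 L47194 L40484 L49963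
theorem L49968 : sm gb N7647 = N8152 := flp_b L49967
theorem L49969 : sm gf N8152 = N7611 := ded_23_2 L47008 L40410 L49963
theorem L49971 : sm gg N4970 = N8153 := rfl
theorem L49973 : sm ga N8153 = N4973 := ded_12_1 L33155 L33145 L49971
theorem L49975 : sm gc N8153 = N4971 := ded_21_1 L33147 L33142 L49971
theorem L49976 : sm gc N4971 = N8153 := flp_c L49975
theorem L49977 : sm gf N8153 = N8119 := ded_29_2 L49804 L40409 L40410 L49971
theorem L49978 : sm gf N8119 = N8153 := flp_f L49977
theorem L49979 : sm gb N8153 = N7464 := ded_30_2 L46193 L31275 L23962 L20189 L10321 L10364 L10368 L10675 L20674 L20680 L25003 L32913 L49496 L49502 L36689 L36703 L33160 L33151 L49976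
theorem L49980 : sm gb N7464 = N8153 := flp_b L49979
theorem L49981 : sm gc N7465 = N5682 := ded_13_4 L36418 L49976 L49979 L46195 L46201
theorem L49983 : N6616 = N4617 := coi_16_4 L46191 L49980 L49977 L49808 L41897 L41383
theorem L49984 : N6616 = N4617 := eqc rfl L49983 rfl
theorem L49985 : sm gb N4617 = N4235 := trf L49984 L41382 rfl
theorem L49986 : N4235 = N7462 := eqe L49985 L46183
theorem L49987 : N7462 = N4235 := (eqc rfl L49986 rfl).symm
theorem L49988 : sm gg N4617 = N4181 := trf L49984 L41381 rfl
theorem L49989 : N4181 = N7424 := eqe L49988 L45972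
theorem L49990 : N7424 = N4181 := (eqc rfl L49989 rfl).symm
theorem L49991 : sm ga N4181 = N4599 := trf L49990 L45967 rfl
theorem L49992 : N4599 = N6613 := eqe L49991 L41372
theorem L49993 : N6613 = N4599 := (eqc rfl L49992 rfl).symm
theorem L49994 : sm gc N4181 = N4598 := trf L49990 L45966 rfl
theorem L49995 : N4598 = N6614 := eqe L49994 L41374
theorem L49996 : N6614 = N4598 := (eqc rfl L49995 rfl).symm
theorem L50000 : sm gf N4181 = N7470 := trf L49990 L46233 rfl
theorem L50001 : N7470 = N6615 := eqe L50000 L41378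
theorem L50002 : N7470 = N6615 := eqc rfl L50001 rfl
theorem L50011 : sm gg N6615 = N4620 := trf L50002 L46226 rfl
theorem L50017 : sm gb N4598 = N5043 := trf L49996 L41376 rfl
theorem L50018 : N5043 = N7423 := eqe L50017 L45957
theorem L50019 : N7423 = N5043 := (eqc rfl L50018 rfl).symm
theorem L50029 : sm gg N5043 = N7277 := trf L50019 L45964 rfl
theorem L50035 : sm ga N4599 = N4181 := trf L49993 L41373 rfl
theorem L50037 : sm gb N4235 = N4617 := trf L49987 L46184 rfl
theorem L50039 : sm ge N4235 = N5323 := trf L49987 L46185 rfl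
theorem L50040 : N5323 = N6547 := eqe L50039 L41083
theorem L50041 : N6547 = N5323 := (eqc rfl L50040 rfl).symm
theorem L50042 : sm ge N5323 = N4235 := trf L50041 L41082 rfl
theorem L50043 : sm ge N4235 = N5323 := flp_e L50042
theorem L50044 : sm gg N5323 = N4144 := trf L50041 L41081 rfl
theorem L50045 : sm gg N4144 = N5323 := flp_g L50044
theorem L50048 : N5680 = N7862 := coi_20_0 L48276 L49981 L36413 L36393
theorem L50049 : N7862 = N5680 := (eqc rfl L50048 rfl).symm
theorem L50050 : sm ga N5680 = N4811 := trf L50049 L48272 rfl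
theorem L50051 : sm ga N4811 = N5680 := flp_a L50050
theorem L50057 : sm gf N5680 = N7465 := trf L50049 L48276 rfl
theorem L50058 : sm gf N7465 = N5680 := flp_f L50057
theorem L50059 : sm gg N5680 = N4808 := trf L50049 L48271 rfl
theorem L50060 : N4808 = N3695 := eqe L50059 L36391
theorem L50061 : N4808 = N3695 := eqc rfl L50060 rfl
theorem L50062 : sm ga N3695 = N3277 := trf L50061 L32270 rfl
theorem L50063 : N3277 = N5674 := eqe L50062 L36371
theorem L50064 : N5674 = N3277 := (eqc rfl L50063 rfl).symm
theorem L50065 : sm gb N3695 = N4842 := trf L50061 L32460 rfl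
theorem L50066 : N4842 = N5677 := eqe L50065 L36380
theorem L50067 : N5677 = N4842 := (eqc rfl L50066 rfl).symm
theorem L50074 : sm ge N3695 = N3694 := trf L50061 L32271 rfl
theorem L50075 : N3694 = N4809 := eqe L50074 L32276
theorem L50076 : N4809 = N3694 := (eqc rfl L50075 rfl).symm
theorem L50077 : sm gf N3695 = N7861 := trf L50061 L48264 rfl
theorem L50078 : N7861 = N5679 := eqe L50077 L36386
theorem L50079 : N7861 = N5679 := eqc rfl L50078 rfl
theorem L50080 : sm ga N5679 = N4810 := trf L50079 L48266 rfl
theorem L50081 : sm ga N4810 = N5679 := flp_a L50080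
theorem L50093 : sm gb N3694 = N7863 := trf L50076 L48280 rfl
theorem L50094 : N7863 = N3728 := eqe L50093 L26700
theorem L50095 : N7863 = N3728 := eqc rfl L50094 rfl
theorem L50101 : sm ge N3694 = N3695 := trf L50076 L32275 rfl
theorem L50102 : sm ge N3695 = N3694 := flp_e L50101
theorem L50104 : sm gc N3728 = N4812 := trf L50095 L48284 rfl
theorem L50105 : N4812 = N5746 := eqe L50104 L36727
theorem L50106 : N5746 = N4812 := (eqc rfl L50105 rfl).symm
theorem L50108 : sm ga N4812 = N3729 := trf L50106 L36729 rfl
theorem L50109 : N3729 = N7869 := eqe L50108 L48318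
theorem L50110 : N7869 = N3729 := (eqc rfl L50109 rfl).symm
theorem L50111 : sm gc N4812 = N3728 := trf L50106 L36728 rfl
theorem L50113 : sm ge N4812 = N7928 := trf L50106 L48711 rfl
theorem L50114 : N7928 = N3698 := eqe L50113 L32287
theorem L50115 : N7928 = N3698 := eqc rfl L50114 rfl
theorem L50116 : sm ga N3698 = N4843 := trf L50115 L48708 rfl
theorem L50117 : N4843 = N5683 := eqe L50116 L36420
theorem L50118 : N5683 = N4843 := (eqc rfl L50117 rfl).symm
theorem L50121 : sm ga N4843 = N3698 := trf L50118 L36421 rfl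
theorem L50122 : sm ga N3698 = N4843 := flp_a L50121
theorem L50124 : sm ga N3729 = N4812 := trf L50110 L48319 rfl
theorem L50131 : sm gb N4842 = N3695 := trf L50067 L36381 rfl
theorem L50133 : sm gc N4842 = N3698 := trf L50067 L36382 rfl
theorem L50135 : sm ga N3277 = N3695 := trf L50064 L36370 rfl
theorem L50136 : sm ga N3695 = N3277 := flp_a L50135
theorem L50137 : sm gc N3277 = N3694 := trf L50064 L36369 rfl
theorem L50138 : sm gc N3694 = N3277 := flp_c L50137
theorem L50145 : sm gg N8019 = N6744 := ded_31_6 L41935 L29301 L29302 L29306 L41914 L41916 L41924 L41926 L50011 L31275 L23965 L24838 L32764 L49249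
theorem L50146 : sm gg N6744 = N8019 := flp_g L50145
theorem L50149 : sm gc N7277 = N5045 := ded_21_1 L33485 L33480 L50029
theorem L50153 : sm ga N6564 = N7404 := ded_7_9 L45841 L50035 L29069 L22790 L19601 L19575 L22735 L28962 L41158
theorem L50157 : sm gb N6348 = N6730 := ded_13_5 L41886 L50037 L31257 L31252 L40042
theorem L50158 : sm gb N6730 = N6348 := flp_b L50157
theorem L50159 : sm gc N5747 = N7871 := ded_20_3 L48327 L50111 L36731
theorem L50160 : sm gc N7871 = N5747 := flp_c L50159
theorem L50163 : sm ga N5684 = N7932 := ded_9_3 L48735 L50121 L36422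
theorem L50169 : sm ga N5777 = N7931 := ded_7_9 L48729 L50121 L26578 L21414 L18903 L18942 L21486 L26751 L36869
theorem L50171 : N6726 = N6729 := coi_30_12 L41881 L29283 L22892 L19659 L19662 L19664 L18908 L21419 L21417 L21412 L26577 L50122 L48736 L48738 L48610 L48603 L48584 L48586 L41889 L41871
theorem L50172 : N6729 = N6726 := (eqc rfl L50171 rfl).symm
theorem L50175 : sm gf N6726 = N4233 := trf L50172 L41881 rfl
theorem L50176 : N4233 = N4232 := eqe L50175 L41869
theorem L50177 : N4233 = N4232 := eqc rfl L50176 rfl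
theorem L50181 : sm gb N4232 = N3443 := trf L50177 L29284 rfl
theorem L50182 : N3443 = N6445 := eqe L50181 L40537
theorem L50183 : N6445 = N3443 := (eqc rfl L50182 rfl).symm
theorem L50189 : sm ge N4232 = N6545 := trf L50177 L41073 rfl
theorem L50190 : N6545 = N6544 := eqe L50189 L41069
theorem L50191 : N6545 = N6544 := eqc rfl L50190 rfl
theorem L50192 : sm gg N4232 = N6730 := trf L50177 L41884 rfl
theorem L50193 : N6730 = N6727 := eqe L50192 L41872
theorem L50194 : N6730 = N6727 := eqc rfl L50193 rfl
theorem L50195 : sm gb N6727 = N6348 := trf L50194 L50158 rfl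
theorem L50196 : sm gb N6348 = N6727 := flp_b L50195
theorem L50201 : sm gc N6544 = N4144 := trf L50191 L41071 rfl
theorem L50202 : sm gc N4144 = N6544 := flp_c L50201
theorem L50211 : sm ga N3443 = N4092 := trf L50183 L40535 rfl
theorem L50212 : N4092 = N5129 := eqe L50211 L33859
theorem L50213 : N5129 = N4092 := (eqc rfl L50212 rfl).symm
theorem L50214 : sm gb N3443 = N4232 := trf L50183 L40536 rfl
theorem L50215 : sm gb N4232 = N3443 := flp_b L50214
theorem L50216 : sm ga N4092 = N3443 := trf L50213 L33858 rfl
theorem L50221 : sm ge N4092 = N7360 := trf L50213 L45558 rfl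
theorem L50222 : N7360 = N6403 := eqe L50221 L40346
theorem L50223 : N7360 = N6403 := eqc rfl L50222 rfl
theorem L50224 : sm ga N6403 = N4565 := trf L50223 L45555 rfl
theorem L50226 : sm gc N6403 = N4564 := trf L50223 L45554 rfl
theorem L50228 : sm gg N6403 = N6925 := trf L50223 L45576 rfl
theorem L50234 : sm ga N7870 = N5750 := ded_9_3 L36750 L50124 L48322
theorem L50236 : sm ga N7871 = N5751 := ded_11_3 L36752 L50124 L48326
theorem L50238 : sm ga N7872 = N5752 := ded_12_3 L36756 L50124 L48330
theorem L50239 : sm ga N5752 = N7872 := flp_a L50238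
theorem L50246 : sm gc N6062 = N6564 := ded_8_0 L50153 L45836 L42934
theorem L50248 : sm gg N6897 = N6564 := ded_12_0 L50153 L45839 L42938
theorem L50249 : sm gg N6564 = N6897 := flp_g L50248
theorem L50250 : N8038 = N2882 := coi_7_8 L28307 L40038 L50196 L41874 L50037 L31258 L23965 L24901 L32821 L49338
theorem L50251 : N8038 = N2882 := eqc rfl L50250 rfl
theorem L50252 : sm ga N2882 = N4905 := trf L50251 L49339 rfl
theorem L50253 : N4905 = N4038 := eqe L50252 L28288
theorem L50254 : N4905 = N4038 := eqc rfl L50253 rfl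
theorem L50255 : sm ge N2882 = N5954 := trf L50251 L49340 rfl
theorem L50256 : N5954 = N2794 := eqe L50255 L22348
theorem L50257 : N5954 = N2794 := eqc rfl L50256 rfl
theorem L50258 : sm ga N2794 = N3835 := trf L50257 L37651 rfl
theorem L50259 : N3835 = N3882 := eqe L50258 L27456
theorem L50260 : N3882 = N3835 := (eqc rfl L50259 rfl).symm
theorem L50261 : sm ga N3835 = N2794 := trf L50260 L27455 rfl
theorem L50262 : sm ga N2794 = N3835 := flp_a L50261
theorem L50266 : sm gc N3835 = N2790 := trf L50260 L27457 rfl
theorem L50267 : N2790 = N5951 := eqe L50266 L37641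
theorem L50268 : N5951 = N2790 := (eqc rfl L50267 rfl).symm
theorem L50269 : sm gd N3835 = N3514 := trf L50260 L27459 rfl
theorem L50270 : N3514 = N5955 := eqe L50269 L37652
theorem L50271 : N5955 = N3514 := (eqc rfl L50270 rfl).symm
theorem L50274 : sm gf N3835 = N3887 := trf L50260 L27494 rfl
theorem L50275 : N3887 = N5956 := eqe L50274 L37656
theorem L50276 : N5956 = N3887 := (eqc rfl L50275 rfl).symm
theorem L50289 : sm gf N3887 = N3835 := trf L50276 L37657 rfl
theorem L50292 : sm gb N3514 = N3836 := trf L50271 L37654 rfl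
theorem L50293 : N3836 = N5280 := eqe L50292 L34582
theorem L50294 : N5280 = N3836 := (eqc rfl L50293 rfl).symm
theorem L50297 : sm gb N3836 = N3514 := trf L50294 L34583 rfl
theorem L50300 : sm ge N3836 = N3516 := trf L50294 L34584 rfl
theorem L50301 : N3516 = N5959 := eqe L50300 L37666
theorem L50302 : N5959 = N3516 := (eqc rfl L50301 rfl).symm
theorem L50306 : sm gd N3516 = N8042 := trf L50302 L49359 rfl
theorem L50307 : N8042 = N3197 := eqe L50306 L25797
theorem L50308 : N8042 = N3197 := eqc rfl L50307 rfl
theorem L50309 : sm ge N3516 = N3836 := trf L50302 L37667 rfl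
theorem L50311 : sm ga N3197 = N4909 := trf L50308 L49356 rfl
theorem L50312 : N4909 = N4634 := eqe L50311 L31356
theorem L50313 : N4909 = N4634 := eqc rfl L50312 rfl
theorem L50314 : sm ge N3197 = N4906 := trf L50308 L49355 rfl
theorem L50315 : N4906 = N4628 := eqe L50314 L31331
theorem L50316 : N4906 = N4628 := eqc rfl L50315 rfl
theorem L50323 : sm gc N4628 = N5963 := trf L50316 L37686 rfl
theorem L50324 : N5963 = N7484 := eqe L50323 L46291
theorem L50325 : N7484 = N5963 := (eqc rfl L50324 rfl).symm
theorem L50326 : sm gd N4628 = N3333 := trf L50316 L32826 rfl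
theorem L50327 : N3333 = N6343 := eqe L50326 L40013
theorem L50328 : N6343 = N3333 := (eqc rfl L50327 rfl).symm
theorem L50329 : sm gf N4628 = N8043 := trf L50316 L49360 rfl
theorem L50330 : N8043 = N7485 := eqe L50329 L46297
theorem L50331 : N8043 = N7485 := eqc rfl L50330 rfl
theorem L50332 : sm gg N4628 = N8015 := trf L50316 L49234 rfl
theorem L50333 : N8015 = N4689 := eqe L50332 L31649
theorem L50334 : N8015 = N4689 := eqc rfl L50333 rfl
theorem L50335 : sm ga N4689 = N4893 := trf L50334 L49231 rfl
theorem L50336 : N4893 = N7598 := eqe L50335 L46914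
theorem L50337 : N7598 = N4893 := (eqc rfl L50336 rfl).symm
theorem L50338 : sm gd N4689 = N4892 := trf L50334 L49230 rfl
theorem L50339 : N4892 = N4077 := eqe L50338 L31644
theorem L50340 : N4892 = N4077 := eqc rfl L50339 rfl
theorem L50341 : sm gf N4689 = N8050 := trf L50334 L49400 rfl
theorem L50342 : N8050 = N7600 := eqe L50341 L46928
theorem L50343 : N8050 = N7600 := eqc rfl L50342 rfl
theorem L50344 : sm ga N7600 = N8018 := trf L50343 L49396 rfl
theorem L50345 : sm ga N8018 = N7600 := flp_a L50344
theorem L50346 : sm gd N7600 = N4912 := trf L50343 L49398 rfl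
theorem L50347 : N4912 = N6415 := eqe L50346 L46930
theorem L50348 : N6415 = N4912 := (eqc rfl L50347 rfl).symm
theorem L50349 : sm gg N7600 = N4910 := trf L50343 L49395 rfl
theorem L50350 : sm gg N4910 = N7600 := flp_g L50349
theorem L50351 : sm gb N4912 = N6423 := trf L50348 L40443 rfl
theorem L50352 : N6423 = N8053 := eqe L50351 L49410
theorem L50353 : N8053 = N6423 := (eqc rfl L50352 rfl).symm
theorem L50362 : sm ge N6423 = N5971 := trf L50353 L49412 rfl
theorem L50364 : sm ga N4077 = N3323 := trf L50340 L32754 rfl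
theorem L50365 : N3323 = N6413 := eqe L50364 L40398
theorem L50366 : N6413 = N3323 := (eqc rfl L50365 rfl).symm
theorem L50370 : sm gc N4077 = N3322 := trf L50340 L32753 rfl
theorem L50371 : N3322 = N6414 := eqe L50370 L40400
theorem L50372 : N6414 = N3322 := (eqc rfl L50371 rfl).symm
theorem L50373 : sm ge N4077 = N3817 := trf L50340 L32756 rfl
theorem L50374 : N3817 = N6380 := eqe L50373 L40216
theorem L50375 : N6380 = N3817 := (eqc rfl L50374 rfl).symm
theorem L50376 : sm gf N4077 = N4912 := trf L50340 L32861 rfl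
theorem L50383 : sm ge N3817 = N4077 := trf L50375 L40215 rfl
theorem L50384 : sm ge N4077 = N3817 := flp_e L50383
theorem L50390 : sm gc N3322 = N4077 := trf L50372 L40401 rfl
theorem L50391 : sm gc N4077 = N3322 := flp_c L50390
theorem L50392 : sm ga N3323 = N4077 := trf L50366 L40399 rfl
theorem L50393 : sm ga N4077 = N3323 := flp_a L50392
theorem L50395 : sm ga N4893 = N4689 := trf L50337 L46915 rfl
theorem L50406 : sm ga N7485 = N4910 := trf L50331 L49362 rfl
theorem L50408 : sm gd N7485 = N4907 := trf L50331 L49364 rfl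
theorem L50409 : sm gd N4907 = N7485 := flp_d L50408
theorem L50410 : sm gg N7485 = N8018 := trf L50331 L49367 rfl
theorem L50417 : sm gg N3333 = N4077 := trf L50328 L40016 rfl
theorem L50421 : sm gc N5963 = N4628 := trf L50325 L46292 rfl
theorem L50422 : sm gc N4628 = N5963 := flp_c L50421
theorem L50423 : sm ge N5963 = N4635 := trf L50325 L46293 rfl
theorem L50424 : sm ge N4635 = N5963 := flp_e L50423
theorem L50440 : sm ge N4634 = N3335 := trf L50313 L32842 rfl
theorem L50441 : sm ge N3335 = N4634 := flp_e L50440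
theorem L50442 : sm gf N4634 = N8048 := trf L50313 L49384 rfl
theorem L50443 : N8048 = N7499 := eqe L50442 L46359
theorem L50444 : N8048 = N7499 := eqc rfl L50443 rfl
theorem L50445 : sm gd N7499 = N5966 := trf L50444 L49386 rfl
theorem L50457 : sm gb N2790 = N3833 := trf L50268 L37639 rfl
theorem L50458 : N3833 = N3883 := eqe L50457 L27461
theorem L50459 : N3883 = N3833 := (eqc rfl L50458 rfl).symm
theorem L50460 : sm gc N2790 = N3835 := trf L50268 L37640 rfl
theorem L50462 : sm ge N2790 = N8036 := trf L50268 L49330 rfl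
theorem L50463 : N8036 = N2880 := eqe L50462 L22337
theorem L50464 : N8036 = N2880 := eqc rfl L50463 rfl
theorem L50465 : sm gb N2880 = N4904 := trf L50464 L49328 rfl
theorem L50466 : N4904 = N3834 := eqe L50465 L27220
theorem L50467 : N4904 = N3834 := eqc rfl L50466 rfl
theorem L50470 : sm gc N3834 = N3332 := trf L50467 L32815 rfl
theorem L50471 : N3332 = N5953 := eqe L50470 L37649
theorem L50472 : N5953 = N3332 := (eqc rfl L50471 rfl).symm
theorem L50491 : sm gc N3332 = N3834 := trf L50472 L37648 rfl
theorem L50492 : sm gc N3834 = N3332 := flp_c L50491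
theorem L50496 : sm gb N3833 = N2790 := trf L50459 L27462 rfl
theorem L50497 : sm gb N2790 = N3833 := flp_b L50496
theorem L50503 : sm gf N3833 = N3332 := trf L50459 L27467 rfl
theorem L50512 : sm gb N4038 = N3333 := trf L50254 L32822 rfl
theorem L50513 : sm gb N3333 = N4038 := flp_b L50512
theorem L50522 : sm ga N5134 = N6448 := ded_12_3 L40543 L50216 L33874
theorem L50523 : sm ga N6448 = N5134 := flp_a L50522
theorem L50524 : N7890 = N6404 := coi_13_4 L40348 L40343 L50226 L30964 L32343 L48436
theorem L50525 : N7890 = N6404 := eqc rfl L50524 rfl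
theorem L50528 : sm ge N6404 = N5705 := trf L50525 L48438 rfl
theorem L50529 : N5705 = N4093 := eqe L50528 L40351
theorem L50530 : N5705 = N4093 := eqc rfl L50529 rfl
theorem L50531 : sm gb N4093 = N3708 := trf L50530 L36529 rfl
theorem L50532 : N3708 = N6449 := eqe L50531 L40544
theorem L50533 : N6449 = N3708 := (eqc rfl L50532 rfl).symm
theorem L50534 : sm gb N3708 = N4093 := trf L50533 L40545 rfl
theorem L50536 : sm ge N6925 = N6448 := ded_26_1 L40543 L40346 L50228
theorem L50538 : sm gb N6911 = N6390 := ded_17_3 L40279 L40343 L50228 L43094 L43002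
theorem L50539 : sm gb N6390 = N6911 := flp_b L50538
theorem L50546 : N6565 = N6459 := coi_13_3 L40587 L28641 L38166 L50246 L41159 L41160
theorem L50547 : N6565 = N6459 := eqc rfl L50546 rfl
theorem L50548 : sm ga N6459 = N4159 := trf L50547 L41162 rfl
theorem L50552 : N6557 = N6468 := coi_17_3 L40644 L42143 L42825 L50248 L41159 L41129
theorem L50553 : N6557 = N6468 := eqc rfl L50552 rfl
theorem L50554 : sm ga N6468 = N4153 := trf L50553 L41127 rfl
theorem L50555 : sm ga N4153 = N6468 := flp_a L50554
theorem L50556 : sm gf N6468 = N6569 := trf L50553 L41182 rfl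
theorem L50558 : sm gg N6468 = N4158 := trf L50553 L41128 rfl
theorem L50560 : sm gf N5961 = N6054 := ded_16_4 L38125 L50289 L27222 L27227 L37678
theorem L50568 : sm ge N5960 = N5286 := ded_25_3 L34607 L50309 L37670
theorem L50576 : sm gf N5971 = N6389 := ded_25_2 L40273 L40440 L50362
theorem L50577 : sm gf N6389 = N5971 := flp_f L50576
theorem L50580 : sm ga N6424 = N6779 := ded_7_7 L42825 L42937 L32712 L50392 L28531 L22523 L22533 L28548 L40444
theorem L50582 : sm ga N7599 = N8016 := ded_8_3 L49236 L50395 L46922
theorem L50583 : sm ga N8016 = N7599 := flp_a L50582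
theorem L50592 : sm ga N5966 = N5286 := ded_9_1 L34608 L46362 L50445
theorem L50596 : N6006 = N8056 := coi_30_12 L49425 L37637 L37635 L27207 L27194 L27191 L27082 L21875 L21868 L50460 L27222 L21747 L21757 L21759 L19135 L21804 L21802 L21797 L27353 L37894
theorem L50597 : N8056 = N6006 := (eqc rfl L50596 rfl).symm
theorem L50598 : sm ge N6006 = N6008 := trf L50597 L49426 rfl
theorem L50599 : N6008 = N8054 := eqe L50598 L49419
theorem L50600 : N8054 = N6008 := (eqc rfl L50599 rfl).symm
theorem L50601 : sm gf N6006 = N4913 := trf L50597 L49425 rfl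
theorem L50603 : sm ga N6008 = N4913 := trf L50600 L49417 rfl
theorem L50604 : sm ga N4913 = N6008 := flp_a L50603
theorem L50605 : sm ge N6008 = N6006 := trf L50600 L49418 rfl
theorem L50606 : sm ge N6006 = N6008 := flp_e L50605
theorem L50609 : sm gb N6450 = N5706 := ded_14_3 L36531 L50534 L40546
theorem L50610 : sm gb N5706 = N6450 := flp_b L50609
theorem L50611 : sm gb N6448 = N6794 := ded_15_1 L42238 L43093 L50536
theorem L50612 : sm gb N6794 = N6448 := flp_b L50611
theorem L50615 : sm ga N6567 = N8125 := ded_9_3 L49839 L50548 L41170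
theorem L50617 : N6558 = N6467 := coi_12_3 L40637 L40591 L50548 L41133
theorem L50618 : N6558 = N6467 := eqc rfl L50617 rfl
theorem L50621 : sm gg N6467 = N4159 := trf L50618 L41132 rfl
theorem L50627 : sm ge N6569 = N6568 := ded_25_1 L41175 L40643 L50556
theorem L50628 : sm ge N6568 = N6569 := flp_e L50627
theorem L50631 : sm gc N6778 = N6424 := ded_8_0 L50580 L42139 L42132
theorem L50632 : sm gc N6424 = N6778 := flp_c L50631
theorem L50633 : sm gg N6794 = N6424 := ded_12_0 L50580 L42142 L42237
theorem L50634 : sm gg N6424 = N6794 := flp_g L50633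
theorem L50649 : sm gb N4973 = N8157 := rfl
theorem L50650 : sm gb N8157 = N4973 := flp_b L50649
theorem L50651 : sm gf N4973 = N8158 := rfl
theorem L50652 : sm gf N8158 = N4973 := flp_f L50651
theorem L50653 : sm ga N8158 = N8119 := ded_11_1 L49978 L49973 L50651
theorem L50657 : sm gg N8158 = N6416 := ded_29_3 L40408 L33070 L33154 L50651
theorem L50658 : sm gg N6416 = N8158 := flp_g L50657
theorem L50683 : sm ga N4983 = N8162 := rfl
theorem L50684 : sm ga N8162 = N4983 := flp_a L50683
theorem L50685 : sm gd N8162 = N4991 := ded_9_2 L33269 L33211 L50683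
theorem L50687 : sm gf N8162 = N5335 := ded_11_2 L34817 L33213 L50683
theorem L50689 : sm gc N4983 = N8163 := rfl
theorem L50690 : sm gc N8163 = N4983 := flp_c L50689
theorem L50691 : sm gf N8163 = N5336 := ded_20_2 L34821 L33213 L50689
theorem L50692 : sm gf N5336 = N8163 := flp_f L50691
theorem L50697 : sm gb N4984 = N8165 := rfl
theorem L50698 : sm gb N8165 = N4984 := flp_b L50697
theorem L50699 : sm gd N8165 = N4994 := ded_14_2 L33281 L33219 L50697
theorem L50701 : sm ga N4985 = N8166 := rfl
theorem L50705 : sm gg N8166 = N5338 := ded_12_2 L34829 L33227 L50701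
theorem L50706 : sm gg N5338 = N8166 := flp_g L50705
theorem L50719 : sm ga N4987 = N8170 := rfl
theorem L50720 : sm ga N8170 = N4987 := flp_a L50719
theorem L50721 : sm ge N8170 = N4991 := ded_10_2 L33269 L33241 L50719
theorem L50722 : sm ge N4991 = N8170 := flp_e L50721
theorem L50723 : sm gf N8170 = N5341 := ded_11_2 L34841 L33243 L50719
theorem L50725 : sm gc N4987 = N8171 := rfl
theorem L50726 : sm gc N8171 = N4987 := flp_c L50725
theorem L50729 : sm gf N8171 = N5342 := ded_20_2 L34845 L33243 L50725
theorem L50730 : sm gf N5342 = N8171 := flp_f L50729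
theorem L50731 : sm gb N8171 = N5000 := ded_13_1 L33303 L25210 L25178 L33238 L50725
theorem L50732 : sm gb N5000 = N8171 := flp_b L50731
theorem L50733 : sm gg N4987 = N8172 := rfl
theorem L50734 : sm gg N8172 = N4987 := flp_g L50733
theorem L50741 : sm ga N4989 = N8174 := rfl
theorem L50745 : sm gg N8174 = N5345 := ded_12_2 L34859 L33257 L50741
theorem L50746 : sm gg N5345 = N8174 := flp_g L50745
theorem L50747 : sm gc N4989 = N8175 := rfl
theorem L50751 : sm gg N8175 = N5346 := ded_21_2 L34863 L33257 L50747
theorem L50753 : sm gb N8175 = N5004 := ded_13_1 L33323 L25222 L25184 L33252 L50747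
theorem L50754 : sm gb N5004 = N8175 := flp_b L50753
theorem L50763 : sm gb N4991 = N8178 := rfl
theorem L50764 : sm gb N8178 = N4991 := flp_b L50763
theorem L50765 : sm gc N4991 = N8179 := rfl
theorem L50766 : sm gc N8179 = N4991 := flp_c L50765
theorem L50767 : sm ga N8179 = N4992 := ded_8_1 L33273 L33268 L50765
theorem L50768 : sm ga N4992 = N8179 := flp_a L50767
theorem L50769 : sm gf N8179 = N5350 := ded_20_2 L34879 L33271 L50765
theorem L50770 : sm gf N5350 = N8179 := flp_f L50769
theorem L50777 : sm gg N4992 = N8181 := rfl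
theorem L50778 : sm gg N8181 = N4992 := flp_g L50777
theorem L50785 : sm ga N4994 = N8183 := rfl
theorem L50786 : sm ga N8183 = N4994 := flp_a L50785
theorem L50791 : sm gf N4994 = N8185 := rfl
theorem L50792 : sm gf N8185 = N4994 := flp_f L50791
theorem L50793 : sm gb N8185 = N8131 := ded_16_1 L49860 L33111 L25195 L33280 L50791
theorem L50797 : sm gc N4995 = N8187 := rfl
theorem L50799 : sm ga N8187 = N4996 := ded_8_1 L33287 L33282 L50797
theorem L50800 : sm ga N4996 = N8187 := flp_a L50799
theorem L50801 : sm gg N8187 = N5360 := ded_21_2 L34919 L33285 L50797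
theorem L50813 : sm gb N4997 = N8190 := rfl
theorem L50814 : sm gb N8190 = N4997 := flp_b L50813
theorem L50815 : sm gf N8190 = N4998 := ded_16_2 L33295 L25202 L25197 L33292 L50813
theorem L50816 : sm gf N4998 = N8190 := flp_f L50815
theorem L50827 : sm gb N4999 = N8194 := rfl
theorem L50828 : sm gb N8194 = N4999 := flp_b L50827
theorem L50831 : sm gc N4999 = N8195 := rfl
theorem L50832 : sm gc N8195 = N4999 := flp_c L50831
theorem L50833 : sm ga N8195 = N5000 := ded_8_1 L33303 L33296 L50831
theorem L50834 : sm ga N5000 = N8195 := flp_a L50833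
theorem L50835 : sm ge N8195 = N5008 := ded_19_2 L33341 L33299 L50831
theorem L50837 : sm gf N8195 = N5056 := ded_20_2 L33531 L33301 L50831
theorem L50839 : sm gd N5000 = N8196 := rfl
theorem L50841 : sm gf N8196 = N5058 := ded_23_2 L33545 L33307 L50839
theorem L50863 : sm gf N5002 = N8201 := rfl
theorem L50867 : sm gb N8201 = N8137 := ded_16_1 L49882 L33117 L25219 L33312 L50863
theorem L50905 : sm gg N5006 = N8209 := rfl
theorem L50909 : sm gb N8209 = N8134 := ded_17_1 L49870 L33113 L25234 L33332 L50905
theorem L50910 : sm gb N8134 = N8209 := flp_b L50909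
theorem L50911 : sm ga N5007 = N8210 := rfl
theorem L50913 : sm gd N8210 = N5023 := ded_9_2 L33409 L33339 L50911
theorem L50914 : sm gd N5023 = N8210 := flp_d L50913
theorem L50915 : sm gc N5007 = N8211 := rfl
theorem L50917 : sm gf N5007 = N8212 := rfl
theorem L50921 : sm gb N8212 = N5069 := ded_16_1 L33607 L25342 L25240 L33336 L50917
theorem L50923 : sm gg N5007 = N8213 := rfl
theorem L50924 : sm gg N8213 = N5007 := flp_g L50923
theorem L50925 : sm gd N8213 = N5026 := ded_24_1 L33417 L33339 L50923
theorem L50926 : sm gd N5026 = N8213 := flp_d L50925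
theorem L50929 : sm gd N5008 = N8215 := rfl
theorem L50930 : sm gd N8215 = N5008 := flp_d L50929
theorem L50931 : sm ga N8215 = N5009 := ded_9_1 L33347 L33343 L50929
theorem L50932 : sm ga N5009 = N8215 := flp_a L50931
theorem L50949 : sm ga N5011 = N8220 := rfl
theorem L50950 : sm ga N8220 = N5011 := flp_a L50949
theorem L50951 : sm gd N8220 = N5033 := ded_9_2 L33441 L33357 L50949
theorem L50952 : sm gd N5033 = N8220 := flp_d L50951
theorem L50953 : sm gg N8220 = N5012 := ded_12_2 L33361 L33359 L50949
theorem L50954 : sm gg N5012 = N8220 := flp_g L50953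
theorem L50959 : sm gf N5011 = N8222 := rfl
theorem L50960 : sm gf N8222 = N5011 := flp_f L50959
theorem L50963 : sm gb N5012 = N8223 := rfl
theorem L50965 : sm gd N8223 = N5036 := ded_14_2 L33451 L33363 L50963
theorem L50967 : sm gf N5586 = N8223 := ded_23_0 L50965 L33464 L35969
theorem L50973 : sm gf N5012 = N8225 := rfl
theorem L50974 : sm gf N8225 = N5012 := flp_f L50973
theorem L50979 : sm gg N8222 = N8225 := ded_29_1 L50974 L50954 L50950 L50959
theorem L50980 : sm gg N8225 = N8222 := flp_g L50979
theorem L51007 : sm gg N5015 = N8232 := rfl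
theorem L51009 : sm gd N8232 = N5045 := ded_24_1 L33485 L33375 L51007
theorem L51011 : sm gb N8232 = N5084 := ded_17_1 L33671 L25374 L25258 L33372 L51007
theorem L51012 : sm gb N5084 = N8232 := flp_b L51011
theorem L51015 : sm gd N5016 = N8234 := rfl
theorem L51017 : sm ga N8234 = N5017 := ded_9_1 L33383 L33379 L51015
theorem L51018 : sm ga N5017 = N8234 := flp_a L51017
theorem L51019 : sm gg N8234 = N5086 := ded_24_2 L33677 L33381 L51015
theorem L51021 : sm gc N8234 = N6588 := ded_28_6 L41273 L41269 L41267 L29020 L22791 L25256 L33376 L51015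
theorem L51022 : sm gc N6588 = N8234 := flp_c L51021
theorem L51023 : sm gc N5017 = N8235 := rfl
theorem L51025 : sm ga N8235 = N6588 := ded_8_1 L51022 L51017 L51023
theorem L51026 : sm ga N6588 = N8235 := flp_a L51025
theorem L51027 : sm gg N8235 = N5089 := ded_21_2 L33695 L33385 L51023
theorem L51055 : sm gb N5020 = N8242 := rfl
theorem L51056 : sm gb N8242 = N5020 := flp_b L51055
theorem L51057 : sm gd N8242 = N5049 := ded_14_2 L33499 L33399 L51055
theorem L51059 : sm gg N5537 = N8242 := ded_24_0 L51057 L33513 L35757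
theorem L51060 : sm gg N8242 = N5537 := flp_g L51059
theorem L51065 : sm gg N5020 = N8244 := rfl
theorem L51073 : sm gb N8244 = N5398 := ded_17_1 L35101 L35759 L51059 L51056 L51065
theorem L51074 : sm gb N5398 = N8244 := flp_b L51073
theorem L51089 : sm gd N5024 = N8248 := rfl
theorem L51090 : sm gd N8248 = N5024 := flp_d L51089
theorem L51093 : sm gg N5024 = N8249 := rfl
theorem L51094 : sm gg N8249 = N5024 := flp_g L51093
theorem L51095 : sm ga N8249 = N5901 := ded_12_1 L42398 L42392 L51093
theorem L51096 : sm ga N5901 = N8249 := flp_a L51095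
theorem L51097 : sm gc N8249 = N5026 := ded_21_1 L33417 L33410 L51093
theorem L51101 : sm gf N5899 = N8249 := ded_29_0 L51094 L39095 L37410 L37418
theorem L51102 : sm gf N8249 = N5899 := flp_f L51101
theorem L51103 : sm gf N5026 = N8250 := rfl
theorem L51107 : sm gc N8250 = N5899 := ded_20_1 L51101 L51097 L51103
theorem L51108 : sm gc N5899 = N8250 := flp_c L51107
theorem L51113 : sm gb N8250 = N5702 := ded_31_2 L36502 L36518 L35453 L26167 L26134 L26143 L33802 L33799 L25430 L20843 L20787 L25271 L33416 L51103
theorem L51119 : sm gg N5027 = N8252 := rfl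
theorem L51120 : sm gg N8252 = N5027 := flp_g L51119
theorem L51121 : sm gc N8252 = N6243 := ded_21_1 L39092 L38992 L51119
theorem L51123 : sm gf N8252 = N6242 := ded_29_2 L39081 L39061 L39064 L51119
theorem L51141 : sm gd N5029 = N8256 := rfl
theorem L51142 : sm gd N8256 = N5029 := flp_d L51141
theorem L51147 : sm gc N8215 = N8256 := ded_28_0 L51142 L33427 L25280 L20789 L20761 L25241 L33346 L50932
theorem L51148 : sm gc N8256 = N8215 := flp_c L51147
theorem L51159 : sm gg N5030 = N8259 := rfl
theorem L51160 : sm gg N8259 = N5030 := flp_g L51159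
theorem L51161 : sm ge N8259 = N5031 := ded_26_1 L33435 L33430 L51159
theorem L51162 : sm ge N5031 = N8259 := flp_e L51161
theorem L51181 : sm gc N5033 = N8265 := rfl
theorem L51183 : sm ga N8265 = N5034 := ded_8_1 L33445 L33440 L51181
theorem L51185 : sm gg N8265 = N5037 := ded_21_2 L33453 L33443 L51181
theorem L51186 : sm gg N5037 = N8265 := flp_g L51185
theorem L51187 : sm gd N5034 = N8266 := rfl
theorem L51188 : sm gd N8266 = N5034 := flp_d L51187
theorem L51189 : sm gg N8266 = N5039 := ded_24_2 L33467 L33447 L51187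
theorem L51190 : sm gg N5039 = N8266 := flp_g L51189
theorem L51191 : sm gf N5034 = N8267 := rfl
theorem L51205 : sm gf N5037 = N8271 := rfl
theorem L51206 : sm gf N8271 = N5037 := flp_f L51205
theorem L51207 : sm ga N8271 = N5040 := ded_11_1 L33469 L33455 L51205
theorem L51211 : sm gg N8267 = N8271 := ded_29_1 L51206 L51186 L51183 L51191
theorem L51241 : sm gg N5044 = N8278 := rfl
theorem L51242 : sm gg N8278 = N5044 := flp_g L51241
theorem L51249 : sm gb N5774 = N8278 := ded_31_14 L51242 L33483 L25300 L20798 L20864 L25465 L33896 L33901 L26096 L26088 L26119 L35346 L36624 L36856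
theorem L51250 : sm gb N8278 = N5774 := flp_b L51249
theorem L51251 : sm gf N5045 = N8279 := rfl
theorem L51255 : sm gc N8279 = N7833 := ded_20_1 L48098 L50149 L51251
theorem L51259 : sm gb N8279 = N5427 := ded_16_1 L35229 L35211 L33887 L33487 L51251
theorem L51260 : sm gb N5427 = N8279 := flp_b L51259
theorem L51273 : sm gd N5047 = N8282 := rfl
theorem L51275 : sm gf N8282 = N5052 := ded_23_2 L33515 L33495 L51273
theorem L51276 : sm gf N5052 = N8282 := flp_f L51275
theorem L51283 : sm gd N5050 = N8285 := rfl
theorem L51285 : sm ga N8285 = N5052 := ded_9_1 L33515 L33503 L51283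
theorem L51286 : sm ga N5052 = N8285 := flp_a L51285
theorem L51295 : sm gc N5052 = N8287 := rfl
theorem L51297 : sm ge N5052 = N8288 := rfl
theorem L51298 : sm ge N8288 = N5052 := flp_e L51297
theorem L51315 : sm ga N5055 = N8292 := rfl
theorem L51316 : sm ga N8292 = N5055 := flp_a L51315
theorem L51317 : sm ge N8292 = N5067 := ded_10_2 L33599 L33529 L51315
theorem L51319 : sm gb N8292 = N5475 := ded_7_2 L35457 L26170 L21235 L18818 L18606 L20804 L25313 L33526 L51315
theorem L51320 : sm gb N5475 = N8292 := flp_b L51319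
theorem L51321 : sm gc N5055 = N8293 := rfl
theorem L51322 : sm gc N8293 = N5055 := flp_c L51321
theorem L51323 : sm ge N8293 = N5068 := ded_19_2 L33605 L33529 L51321
theorem L51324 : sm ge N5068 = N8293 := flp_e L51323
theorem L51325 : sm gf N5055 = N8294 := rfl
theorem L51326 : sm gf N8294 = N5055 := flp_f L51325
theorem L51327 : sm ge N8294 = N5069 := ded_25_1 L33607 L33529 L51325
theorem L51328 : sm ge N5069 = N8294 := flp_e L51327
theorem L51329 : sm gg N5055 = N8295 := rfl
theorem L51330 : sm gg N8295 = N5055 := flp_g L51329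
theorem L51331 : sm ge N8295 = N5070 := ded_26_1 L33611 L33529 L51329
theorem L51333 : sm gb N5056 = N8296 := rfl
theorem L51334 : sm gb N8296 = N5056 := flp_b L51333
theorem L51335 : sm ge N8296 = N5071 := ded_15_2 L33615 L33535 L51333
theorem L51336 : sm ge N5071 = N8296 := flp_e L51335
theorem L51341 : sm gg N5056 = N8298 := rfl
theorem L51342 : sm gg N8298 = N5056 := flp_g L51341
theorem L51343 : sm ga N8298 = N5059 := ded_12_1 L33549 L33533 L51341
theorem L51344 : sm ga N5059 = N8298 := flp_a L51343
theorem L51363 : sm gg N5058 = N8302 := rfl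
theorem L51365 : sm gd N8302 = N5059 := ded_24_1 L33549 L33544 L51363
theorem L51373 : sm gf N5059 = N8304 := rfl
theorem L51379 : sm ge N8304 = N5079 := ded_25_1 L33647 L33553 L51373
theorem L51381 : sm gg N8304 = N8195 := ded_29_3 L50833 L33306 L33548 L51373
theorem L51382 : sm gg N8195 = N8304 := flp_g L51381
theorem L51401 : sm gg N5061 = N8309 := rfl
theorem L51402 : sm gg N8309 = N5061 := flp_g L51401
theorem L51403 : sm ge N8309 = N5084 := ded_26_1 L33671 L33565 L51401
theorem L51404 : sm ge N5084 = N8309 := flp_e L51403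
theorem L51405 : sm gb N5062 = N8310 := rfl
theorem L51407 : sm ge N8310 = N5085 := ded_15_2 L33675 L33571 L51405
theorem L51423 : sm gb N5063 = N8313 := rfl
theorem L51459 : sm gc N5067 = N8320 := rfl
theorem L51460 : sm gc N8320 = N5067 := flp_c L51459
theorem L51461 : sm ga N8320 = N5068 := ded_8_1 L33605 L33598 L51459
theorem L51462 : sm ga N5068 = N8320 := flp_a L51461
theorem L51463 : sm gf N5067 = N8321 := rfl
theorem L51465 : sm ga N8321 = N5069 := ded_11_1 L33607 L33598 L51463
theorem L51466 : sm ga N5069 = N8321 := flp_a L51465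
theorem L51467 : sm gd N8321 = N5096 := ded_23_1 L33729 L33601 L51463
theorem L51468 : sm gd N5096 = N8321 := flp_d L51467
theorem L51469 : sm gg N5067 = N8322 := rfl
theorem L51470 : sm gg N8322 = N5067 := flp_g L51469
theorem L51471 : sm ga N8322 = N5070 := ded_12_1 L33611 L33598 L51469
theorem L51472 : sm ga N5070 = N8322 := flp_a L51471
theorem L51475 : sm gb N5068 = N8323 := rfl
theorem L51476 : sm gb N8323 = N5068 := flp_b L51475
theorem L51477 : sm gc N8323 = N5071 := ded_13_2 L33615 L25346 L25341 L33604 L51475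
theorem L51478 : sm gc N5071 = N8323 := flp_c L51477
theorem L51479 : sm gd N5068 = N8324 := rfl
theorem L51480 : sm gd N8324 = N5068 := flp_d L51479
theorem L51481 : sm gf N5068 = N8325 := rfl
theorem L51482 : sm gf N8325 = N5068 := flp_f L51481
theorem L51483 : sm gc N8325 = N5069 := ded_20_1 L33607 L33604 L51481
theorem L51484 : sm gc N5069 = N8325 := flp_c L51483
theorem L51485 : sm gg N5068 = N8326 := rfl
theorem L51486 : sm gg N8326 = N5068 := flp_g L51485
theorem L51487 : sm gc N8326 = N5070 := ded_21_1 L33611 L33604 L51485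
theorem L51488 : sm gc N5070 = N8326 := flp_c L51487
theorem L51489 : sm gg N5069 = N8327 := rfl
theorem L51490 : sm gg N8327 = N5069 := flp_g L51489
theorem L51493 : sm gf N8322 = N8327 := ded_29_0 L51490 L33607 L33610 L51472
theorem L51494 : sm gf N8327 = N8322 := flp_f L51493
theorem L51495 : sm gb N5070 = N8328 := rfl
theorem L51496 : sm gb N8328 = N5070 := flp_b L51495
theorem L51499 : sm gg N8328 = N5074 := ded_17_2 L33629 L25350 L25341 L33610 L51495
theorem L51501 : sm gf N5070 = N8329 := rfl
theorem L51502 : sm gf N8329 = N5070 := flp_f L51501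
theorem L51505 : sm gd N8329 = N5104 := ded_23_1 L33759 L33613 L51501
theorem L51507 : sm gg N8329 = N8321 := ded_29_3 L51465 L33607 L33610 L51501
theorem L51533 : sm ga N5074 = N8337 := rfl
theorem L51534 : sm ga N8337 = N5074 := flp_a L51533
theorem L51535 : sm gd N8337 = N5113 := ded_9_2 L33795 L33631 L51533
theorem L51539 : sm gf N5074 = N8339 := rfl
theorem L51540 : sm gf N8339 = N5074 := flp_f L51539
theorem L51541 : sm gd N8339 = N5115 := ded_23_1 L33799 L33631 L51539
theorem L51543 : sm gb N8339 = N8222 := ded_16_1 L50960 L33355 L25356 L33628 L51539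
theorem L51544 : sm gb N8222 = N8339 := flp_b L51543
theorem L51545 : sm gg N5414 = N8339 := ded_24_0 L51541 L33803 L35169
theorem L51546 : sm gg N8339 = N5414 := flp_g L51545
theorem L51547 : sm ge N5075 = N8340 := rfl
theorem L51548 : sm ge N8340 = N5075 := flp_e L51547
theorem L51551 : sm gg N5075 = N8341 := rfl
theorem L51552 : sm gg N8341 = N5075 := flp_g L51551
theorem L51565 : sm gf N5077 = N8344 := rfl
theorem L51569 : sm gd N8344 = N5079 := ded_23_1 L33647 L33641 L51565
theorem L51571 : sm gg N8344 = N8215 := ded_29_3 L50931 L33348 L33638 L51565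
theorem L51572 : sm gg N8215 = N8344 := flp_g L51571
theorem L51589 : sm gg N5080 = N8350 := rfl
theorem L51591 : sm gd N8350 = N5128 := ded_24_1 L33853 L33657 L51589
theorem L51592 : sm gd N5128 = N8350 := flp_d L51591
theorem L51593 : sm gb N8350 = N8213 := ded_17_1 L50924 L33337 L25372 L33654 L51589
theorem L51594 : sm gb N8213 = N8350 := flp_b L51593
theorem L51605 : sm gg N5081 = N8353 := rfl
theorem L51607 : sm ga N8353 = N5084 := ded_12_1 L33671 L33658 L51605
theorem L51608 : sm ga N5084 = N8353 := flp_a L51607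
theorem L51625 : sm gb N5083 = N8358 := rfl
theorem L51626 : sm gb N8358 = N5083 := flp_b L51625
theorem L51629 : sm gf N8358 = N5088 := ded_16_2 L33691 L25382 L25373 L33666 L51625
theorem L51630 : sm gf N5088 = N8358 := flp_f L51629
theorem L51631 : sm gg N5083 = N8359 := rfl
theorem L51632 : sm gg N8359 = N5083 := flp_g L51631
theorem L51635 : sm gf N8353 = N8359 := ded_29_0 L51632 L33667 L33670 L51608
theorem L51636 : sm gf N8359 = N8353 := flp_f L51635
theorem L51637 : sm gf N5084 = N8360 := rfl
theorem L51638 : sm gf N8360 = N5084 := flp_f L51637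
theorem L51639 : sm ga N8360 = N8359 := ded_11_1 L51636 L51607 L51637
theorem L51641 : sm gd N8360 = N5137 := ded_23_1 L33887 L33673 L51637
theorem L51642 : sm gd N5137 = N8360 := flp_d L51641
theorem L51655 : sm ge N5086 = N8365 := rfl
theorem L51659 : sm gc N8365 = N6676 := ded_19_1 L41665 L33681 L51655
theorem L51673 : sm ga N5088 = N8368 := rfl
theorem L51675 : sm gd N8368 = N5138 := ded_9_2 L33893 L33693 L51673
theorem L51676 : sm gd N5138 = N8368 := flp_d L51675
theorem L51679 : sm gg N5088 = N8370 := rfl
theorem L51680 : sm gg N8370 = N5088 := flp_g L51679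
theorem L51681 : sm gd N8370 = N5140 := ded_24_1 L33897 L33693 L51679
theorem L51682 : sm gd N5140 = N8370 := flp_d L51681
theorem L51685 : sm gf N5396 = N8370 := ded_23_0 L51681 L33901 L35089
theorem L51686 : sm gf N8370 = N5396 := flp_f L51685
theorem L51699 : sm gf N5089 = N8373 := rfl
theorem L51703 : sm gc N8373 = N5091 := ded_20_1 L33705 L33694 L51699
theorem L51717 : sm gg N5091 = N8376 := rfl
theorem L51718 : sm gg N8376 = N5091 := flp_g L51717
theorem L51723 : sm gf N8234 = N8376 := ded_29_0 L51718 L33705 L33385 L51018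
theorem L51724 : sm gf N8376 = N8234 := flp_f L51723
theorem L51725 : sm ga N5092 = N8377 := rfl
theorem L51726 : sm ga N8377 = N5092 := flp_a L51725
theorem L51727 : sm gf N8377 = N5590 := ded_11_2 L35991 L33711 L51725
theorem L51747 : sm gb N5097 = N8383 := rfl
theorem L51749 : sm gf N8383 = N5319 := ded_16_2 L34756 L35354 L36338 L33753 L51747
theorem L51751 : sm gg N8383 = N5621 := ded_17_2 L36127 L26480 L25408 L33732 L51747
theorem L51755 : sm gc N6057 = N8383 := ded_20_3 L51749 L39305 L38136
theorem L51756 : sm gc N8383 = N6057 := flp_c L51755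
theorem L51761 : sm gf N5099 = N8386 := rfl
theorem L51762 : sm gf N8386 = N5099 := flp_f L51761
theorem L51763 : sm gd N8386 = N5100 := ded_23_1 L33743 L33740 L51761
theorem L51764 : sm gd N5100 = N8386 := flp_d L51763
theorem L51771 : sm gf N5101 = N8389 := rfl
theorem L51772 : sm gf N8389 = N5101 := flp_f L51771
theorem L51773 : sm ga N8389 = N5918 := ded_11_1 L44145 L44140 L51771
theorem L51774 : sm ga N5918 = N8389 := flp_a L51773
theorem L51783 : sm gb N5104 = N8391 := rfl
theorem L51785 : sm gf N8391 = N5439 := ded_16_2 L35405 L35402 L33755 L33758 L51783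
theorem L51786 : sm gf N5439 = N8391 := flp_f L51785
theorem L51787 : sm ga N8391 = N5140 := ded_7_1 L33898 L33523 L36698 L36694 L26695 L35357 L36338 L33761 L51783
theorem L51789 : sm gg N8391 = N5138 := ded_29_1 L35292 L35289 L35282 L51786
theorem L51790 : sm gg N5138 = N8391 := flp_g L51789
theorem L51791 : sm gc N7569 = N8391 := ded_8_0 L51787 L35304 L46729
theorem L51792 : sm gc N8391 = N7569 := flp_c L51791
theorem L51803 : sm gg N5106 = N8395 := rfl
theorem L51804 : sm gg N8395 = N5106 := flp_g L51803
theorem L51805 : sm gd N8395 = N5108 := ded_24_1 L33773 L33766 L51803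
theorem L51807 : sm gg N5107 = N8396 := rfl
theorem L51808 : sm gg N8396 = N5107 := flp_g L51807
theorem L51811 : sm gf N6990 = N8396 := ded_29_0 L51808 L33771 L33772 L43491
theorem L51812 : sm gf N8396 = N6990 := flp_f L51811
theorem L51813 : sm gb N5108 = N8397 := rfl
theorem L51814 : sm gb N8397 = N5108 := flp_b L51813
theorem L51815 : sm gg N8397 = N5112 := ded_17_2 L33793 L25422 L25415 L33772 L51813
theorem L51817 : sm gf N5108 = N8398 := rfl
theorem L51818 : sm gf N8398 = N5108 := flp_f L51817
theorem L51821 : sm gc N8398 = N7010 := ded_20_1 L43589 L43568 L51817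
theorem L51822 : sm gc N7010 = N8398 := flp_c L51821
theorem L51835 : sm gg N5109 = N8401 := rfl
theorem L51837 : sm ga N8401 = N5119 := ded_12_1 L33819 L33777 L51835
theorem L51841 : sm gd N8401 = N8341 := ded_24_1 L51552 L33778 L51835
theorem L51842 : sm gd N8341 = N8401 := flp_d L51841
theorem L51853 : sm gb N5111 = N8403 := rfl
theorem L51855 : sm gd N8403 = N5112 := ded_14_2 L33793 L33789 L51853
theorem L51867 : sm gb N5113 = N8407 := rfl
theorem L51868 : sm gb N8407 = N5113 := flp_b L51867
theorem L51871 : sm gf N5219 = N8407 := ded_31_1 L51868 L35413 L35409 L26144 L26149 L26153 L26666 L26664 L26647 L26645 L26648 L26651 L36548 L36552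
theorem L51879 : sm gf N5113 = N8409 := rfl
theorem L51885 : sm gb N8409 = N5136 := ded_16_1 L33885 L36351 L51871 L51868 L51879
theorem L51886 : sm gb N5136 = N8409 := flp_b L51885
theorem L51899 : sm gd N5116 = N8413 := rfl
theorem L51901 : sm gb N8413 = N5117 := ded_14_1 L33809 L33804 L51899
theorem L51902 : sm gb N5117 = N8413 := flp_b L51901
theorem L51917 : sm ge N5117 = N8417 := rfl
theorem L51919 : sm ga N8417 = N8340 := ded_10_1 L51548 L33811 L51917
theorem L51920 : sm ga N8340 = N8417 := flp_a L51919
theorem L51923 : sm gg N5117 = N8418 := rfl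
theorem L51925 : sm ga N8418 = N8341 := ded_12_1 L51552 L33811 L51923
theorem L51926 : sm ga N8341 = N8418 := flp_a L51925
theorem L51933 : sm gg N5118 = N8420 := rfl
theorem L51935 : sm gc N8420 = N5120 := ded_21_1 L33823 L33817 L51933
theorem L51936 : sm gc N5120 = N8420 := flp_c L51935
theorem L51937 : sm ge N8420 = N5119 := ded_26_1 L33819 L33814 L51933
theorem L51939 : sm gb N5119 = N8421 := rfl
theorem L51963 : sm ga N5121 = N8425 := rfl
theorem L51964 : sm ga N8425 = N5121 := flp_a L51963
theorem L51967 : sm gg N8425 = N5167 := ded_12_2 L34015 L33831 L51963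
theorem L51968 : sm gg N5167 = N8425 := flp_g L51967
theorem L51973 : sm gf N5121 = N8427 := rfl
theorem L51981 : sm gb N5123 = N8429 := rfl
theorem L51993 : sm gg N5125 = N8433 := rfl
theorem L51995 : sm gb N8433 = N8252 := ded_17_1 L51120 L33419 L25452 L33846 L51993
theorem L52007 : sm gf N5128 = N8437 := rfl
theorem L52011 : sm gg N8437 = N5774 := ded_29_3 L36854 L26749 L33852 L52007
theorem L52041 : sm gb N5133 = N8443 := rfl
theorem L52043 : sm gg N5133 = N8444 := rfl
theorem L52044 : sm gg N8444 = N5133 := flp_g L52043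
theorem L52045 : sm gc N8444 = N5136 := ded_21_1 L33883 L33873 L52043
theorem L52046 : sm gc N5136 = N8444 := flp_c L52045
theorem L52047 : sm gf N6448 = N8444 := ded_29_0 L52044 L33871 L33874 L50522
theorem L52048 : sm gf N8444 = N6448 := flp_f L52047
theorem L52049 : sm gb N5134 = N8445 := rfl
theorem L52050 : sm gb N8445 = N5134 := flp_b L52049
theorem L52051 : sm gc N8445 = N7461 := ded_13_2 L46181 L50149 L33486 L33877 L52049
theorem L52052 : sm gc N7461 = N8445 := flp_c L52051
theorem L52053 : sm gg N8445 = N6348 := ded_17_2 L50196 L41873 L50215 L33874 L52049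
theorem L52055 : sm ga N8445 = N6223 := ded_7_1 L38979 L27935 L28942 L50555 L40644 L42237 L50612 L50523 L52049
theorem L52056 : sm ga N6223 = N8445 := flp_a L52055
theorem L52087 : sm gg N5143 = N8452 := rfl
theorem L52093 : sm gb N8452 = N8437 := ded_17_1 L52011 L51249 L51242 L33909 L52087
theorem L52115 : sm gc N5145 = N8456 := rfl
theorem L52116 : sm gc N8456 = N5145 := flp_c L52115
theorem L52117 : sm gb N8456 = N6534 := ded_13_1 L41001 L28844 L25483 L33919 L52115
theorem L52118 : sm gb N6534 = N8456 := flp_b L52117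
theorem L52125 : sm gf N5145 = N8458 := rfl
theorem L52127 : sm gd N8458 = N5146 := ded_23_1 L33921 L33916 L52125
theorem L52128 : sm gd N5146 = N8458 := flp_d L52127
theorem L52129 : sm gb N8458 = N6216 := ded_16_1 L38939 L27898 L25480 L33919 L52125
theorem L52159 : sm ge N5150 = N8463 := rfl
theorem L52160 : sm ge N8463 = N5150 := flp_e L52159
theorem L52161 : sm ga N8463 = N5154 := ded_10_1 L33965 L33953 L52159
theorem L52163 : sm gf N5150 = N8464 := rfl
theorem L52165 : sm ga N8464 = N5155 := ded_11_1 L33969 L33953 L52163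
theorem L52167 : sm gd N8464 = N5151 := ded_23_1 L33955 L33950 L52163
theorem L52207 : sm gg N5154 = N8473 := rfl
theorem L52209 : sm ge N8473 = N5156 := ded_26_1 L33973 L33964 L52207
theorem L52217 : sm gf N5156 = N8475 := rfl
theorem L52221 : sm gd N8475 = N5158 := ded_23_1 L33981 L33975 L52217
theorem L52223 : sm gg N8475 = N8464 := ded_29_3 L52165 L33969 L33972 L52217
theorem L52281 : sm gb N5164 = N8489 := rfl
theorem L52282 : sm gb N8489 = N5164 := flp_b L52281
theorem L52283 : sm ge N8489 = N5165 := ded_15_2 L34007 L34003 L52281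
theorem L52284 : sm ge N5165 = N8489 := flp_e L52283
theorem L52285 : sm ga N5165 = N8490 := rfl
theorem L52286 : sm ga N8490 = N5165 := flp_a L52285
theorem L52287 : sm gd N8490 = N5836 := ded_9_2 L37141 L34009 L52285
theorem L52288 : sm gd N5836 = N8490 := flp_d L52287
theorem L52307 : sm gf N5166 = N8495 := rfl
theorem L52308 : sm gf N8495 = N5166 := flp_f L52307
theorem L52311 : sm gb N5167 = N8496 := rfl
theorem L52313 : sm gd N8496 = N5170 := ded_14_2 L34025 L34017 L52311
theorem L52314 : sm gd N5170 = N8496 := flp_d L52313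
theorem L52319 : sm gf N5167 = N8498 := rfl
theorem L52320 : sm gf N8498 = N5167 := flp_f L52319
theorem L52323 : sm gd N8498 = N5171 := ded_23_1 L34027 L34017 L52319
theorem L52325 : sm gg N8427 = N8498 := ded_29_1 L52320 L51968 L51964 L51973
theorem L52341 : sm ga N5170 = N8502 := rfl
theorem L52342 : sm ga N8502 = N5170 := flp_a L52341
theorem L52343 : sm gc N5170 = N8503 := rfl
theorem L52344 : sm gc N8503 = N5170 := flp_c L52343
theorem L52347 : sm gg N5170 = N8505 := rfl
theorem L52348 : sm gg N8505 = N5170 := flp_g L52347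
theorem L52546 : sm ga N5191 = N8549 := rfl
theorem L52547 : sm ga N8549 = N5191 := flp_a L52546
theorem L52548 : sm gg N8549 = N5199 := ded_12_2 L34166 L34121 L52546
theorem L52549 : sm gg N5199 = N8549 := flp_g L52548
theorem L52550 : sm gc N5191 = N8550 := rfl
theorem L52551 : sm gc N8550 = N5191 := flp_c L52550
theorem L52552 : sm gg N8550 = N5200 := ded_21_2 L34168 L34121 L52550
theorem L52553 : sm gg N5200 = N8550 := flp_g L52552
theorem L52555 : sm gf N5191 = N8551 := rfl
theorem L52583 : sm gf N5195 = N8557 := rfl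
theorem L52585 : sm gd N8557 = N5201 := ded_23_1 L34172 L34148 L52583
theorem L52586 : sm gd N5201 = N8557 := flp_d L52585
theorem L52587 : sm gb N8557 = N5789 := ded_16_1 L36916 L26770 L25567 L34145 L52583
theorem L52617 : sm gf N5199 = N8565 := rfl
theorem L52618 : sm gf N8565 = N5199 := flp_f L52617
theorem L52619 : sm ga N8565 = N5201 := ded_11_1 L34172 L34165 L52617
theorem L52621 : sm gg N8551 = N8565 := ded_29_1 L52618 L52549 L52547 L52555
theorem L52646 : sm gb N5204 = N8571 := rfl
theorem L52648 : sm gd N8571 = N5206 := ded_14_2 L34204 L34190 L52646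
theorem L52649 : sm gd N5206 = N8571 := flp_d L52648
theorem L52662 : sm gg N5206 = N8573 := rfl
theorem L52663 : sm gg N8573 = N5206 := flp_g L52662
theorem L52664 : sm ga N8573 = N6276 := ded_12_1 L40628 L40622 L52662
theorem L52665 : sm ga N6276 = N8573 := flp_a L52664
theorem L52672 : sm gd N5208 = N8575 := rfl
theorem L52673 : sm gd N8575 = N5208 := flp_d L52672
theorem L52674 : sm ga N8575 = N8575 := ded_9_1 L52673 L34217 L52672
theorem L52675 : sm gb N8575 = N5209 := ded_14_1 L34219 L34215 L52672
theorem L52676 : sm gb N5209 = N8575 := flp_b L52675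
theorem L52677 : sm ge N5208 = N8575 := ded_15_0 L52675 L34225 L34215
theorem L52678 : sm ge N8575 = N5208 := flp_e L52677
theorem L52679 : sm gf N5208 = N8576 := rfl
theorem L52680 : sm gf N8576 = N5208 := flp_f L52679
theorem L52682 : sm gg N5208 = N8577 := rfl
theorem L52683 : sm gg N8577 = N5208 := flp_g L52682
theorem L52685 : sm gf N5209 = N8578 := rfl
theorem L52686 : sm gf N8578 = N5209 := flp_f L52685
theorem L52689 : sm gc N8578 = N5212 := ded_20_1 L34239 L34222 L52685
theorem L52690 : sm gc N5212 = N8578 := flp_c L52689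
theorem L52693 : sm ge N8578 = N5210 := ded_25_1 L34227 L34224 L52685
theorem L52695 : sm gg N5209 = N8579 := rfl
theorem L52696 : sm gg N8579 = N5209 := flp_g L52695
theorem L52699 : sm gc N8579 = N5213 := ded_21_1 L34245 L34222 L52695
theorem L52700 : sm gc N5213 = N8579 := flp_c L52699
theorem L52705 : sm gb N5210 = N8580 := rfl
theorem L52706 : sm gb N8580 = N5210 := flp_b L52705
theorem L52717 : sm ga N5214 = N8584 := rfl
theorem L52718 : sm ga N8584 = N5214 := flp_a L52717
theorem L52719 : sm gd N8584 = N5216 := ded_9_2 L34259 L34253 L52717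
theorem L52721 : sm gb N8321 = N8584 := ded_14_3 L52719 L34477 L51468
theorem L52737 : sm gf N5215 = N8589 := rfl
theorem L52739 : sm gd N8589 = N5221 := ded_23_1 L34269 L34257 L52737
theorem L52740 : sm gd N5221 = N8589 := flp_d L52739
theorem L52741 : sm gc N5216 = N8590 := rfl
theorem L52742 : sm gc N8590 = N5216 := flp_c L52741
theorem L52743 : sm ga N8590 = N5217 := ded_8_1 L34261 L34258 L52741
theorem L52745 : sm gd N5217 = N8591 := rfl
theorem L52746 : sm gd N8591 = N5217 := flp_d L52745
theorem L52747 : sm gg N5217 = N8592 := rfl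
theorem L52749 : sm gc N8592 = N5218 := ded_21_1 L34263 L34260 L52747
theorem L52769 : sm ga N5224 = N8597 := rfl
theorem L52775 : sm gf N8597 = N5884 := ded_11_2 L37361 L34297 L52769
theorem L52783 : sm gg N5224 = N8599 := rfl
theorem L52784 : sm gg N8599 = N5224 := flp_g L52783
theorem L52795 : sm gc N5226 = N8601 := rfl
theorem L52797 : sm ge N8601 = N5889 := ded_19_2 L37379 L34311 L52795
theorem L52798 : sm ge N5889 = N8601 := flp_e L52797
theorem L52799 : sm gg N8601 = N5889 := ded_21_2 L37379 L34313 L52795
theorem L52800 : sm gg N5889 = N8601 := flp_g L52799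
theorem L52813 : sm gb N5228 = N8604 := rfl
theorem L52817 : sm gf N8604 = N6125 := ded_16_2 L38761 L43929 L37389 L34327 L52813
theorem L52819 : sm ga N8604 = N6127 := ded_7_1 L42200 L42194 L40627 L40622 L34204 L25603 L25661 L34324 L52813
theorem L52821 : sm gc N6699 = N8604 := ded_20_3 L52817 L38754 L41776
theorem L52823 : sm gc N5228 = N8605 := rfl
theorem L52824 : sm gc N8605 = N5228 := flp_c L52823
theorem L52825 : sm ga N8605 = N5229 := ded_8_1 L34329 L34324 L52823
theorem L52826 : sm ga N5229 = N8605 := flp_a L52825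
theorem L52827 : sm gf N8605 = N5893 := ded_20_2 L37391 L34327 L52823
theorem L52828 : sm gf N5893 = N8605 := flp_f L52827
theorem L52835 : sm gg N5229 = N8607 := rfl
theorem L52836 : sm gg N8607 = N5229 := flp_g L52835
theorem L52837 : sm gc N8607 = N5230 := ded_21_1 L34335 L34328 L52835
theorem L52839 : sm gc N5231 = N8608 := rfl
theorem L52840 : sm gc N8608 = N5231 := flp_c L52839
theorem L52841 : sm gb N8608 = N5263 := ded_13_1 L34503 L25746 L25668 L34336 L52839
theorem L52873 : sm gg N5235 = N8614 := rfl
theorem L52875 : sm ga N8614 = N6282 := ded_12_1 L42710 L43639 L52873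
theorem L52879 : sm gf N8614 = N6862 := ded_29_2 L42650 L42696 L43636 L52873
theorem L52880 : sm gf N6862 = N8614 := flp_f L52879
theorem L52883 : sm gf N5236 = N8615 := rfl
theorem L52884 : sm gf N8615 = N5236 := flp_f L52883
theorem L52885 : sm ga N8615 = N6381 := ded_11_1 L40220 L34355 L52883
theorem L52887 : sm gc N8615 = N5273 := ded_20_1 L34537 L34358 L52883
theorem L52888 : sm gc N5273 = N8615 := flp_c L52887
theorem L52893 : sm gg N5236 = N8616 := rfl
theorem L52894 : sm gg N8616 = N5236 := flp_g L52893
theorem L52895 : sm ga N8616 = N6382 := ded_12_1 L40224 L34355 L52893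
theorem L52896 : sm ga N6382 = N8616 := flp_a L52895
theorem L52897 : sm gc N8616 = N5274 := ded_21_1 L34545 L34358 L52893
theorem L52899 : sm gd N8616 = N5238 := ded_24_1 L34367 L34352 L52893
theorem L52907 : sm gg N5237 = N8618 := rfl
theorem L52908 : sm gg N8618 = N5237 := flp_g L52907
theorem L52911 : sm gf N7602 = N8618 := ded_29_0 L52908 L34363 L34366 L46947
theorem L52912 : sm gf N8618 = N7602 := flp_f L52911
theorem L52913 : sm gb N5238 = N8619 := rfl
theorem L52915 : sm gg N8619 = N5243 := ded_17_2 L34395 L25698 L25683 L34366 L52913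
theorem L52917 : sm gf N5238 = N8620 := rfl
theorem L52921 : sm gc N8620 = N5278 := ded_20_1 L34571 L34369 L52917
theorem L52922 : sm gc N5278 = N8620 := flp_c L52921
theorem L52923 : sm gg N8620 = N7601 := ded_29_3 L46936 L34363 L34366 L52917
theorem L52947 : sm gf N5240 = N8624 := rfl
theorem L52948 : sm gf N8624 = N5240 := flp_f L52947
theorem L52951 : sm gc N8624 = N5248 := ded_20_1 L34423 L34381 L52947
theorem L52952 : sm gc N5248 = N8624 := flp_c L52951
theorem L52953 : sm gd N8624 = N5244 := ded_23_1 L34397 L34383 L52947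
theorem L52977 : sm gb N5244 = N8632 := rfl
theorem L52978 : sm gb N8632 = N5244 := flp_b L52977
theorem L53019 : sm gb N5249 = N8641 := rfl
theorem L53020 : sm gb N8641 = N5249 := flp_b L53019
theorem L53021 : sm gd N8641 = N5257 := ded_14_2 L34467 L34433 L53019
theorem L53023 : sm ga N8641 = N8212 := ded_7_1 L50921 L51466 L52721 L52718 L34251 L25627 L25709 L34430 L53019
theorem L53025 : sm gf N8210 = N8641 := ded_23_0 L53021 L34473 L50914
theorem L53027 : sm gc N5249 = N8642 := rfl
theorem L53029 : sm ga N8642 = N5250 := ded_8_1 L34437 L34430 L53027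
theorem L53031 : sm gf N8642 = N5294 := ded_20_2 L34639 L34435 L53027
theorem L53032 : sm gf N5294 = N8642 := flp_f L53031
theorem L53071 : sm gc N5253 = N8650 := rfl
theorem L53073 : sm ga N8650 = N5254 := ded_8_1 L34455 L34448 L53071
theorem L53074 : sm ga N5254 = N8650 := flp_a L53073
theorem L53075 : sm gg N8650 = N5300 := ded_21_2 L34669 L34453 L53071
theorem L53076 : sm gg N5300 = N8650 := flp_g L53075
theorem L53099 : sm gg N5256 = N8656 := rfl
theorem L53103 : sm gd N8656 = N5272 := ded_24_1 L34533 L34465 L53099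
theorem L53104 : sm gd N5272 = N8656 := flp_d L53103
theorem L53107 : sm gd N5258 = N8657 := rfl
theorem L53109 : sm ga N8657 = N5259 := ded_9_1 L34489 L34481 L53107
theorem L53110 : sm ga N5259 = N8657 := flp_a L53109
theorem L53113 : sm gf N8657 = N5310 := ded_23_2 L34717 L34485 L53107
theorem L53119 : sm ge N5259 = N8659 := rfl
theorem L53121 : sm gf N8659 = N5314 := ded_25_2 L34733 L34491 L53119
theorem L53123 : sm gg N5259 = N8660 := rfl
theorem L53124 : sm gg N8660 = N5259 := flp_g L53123
theorem L53129 : sm gc N5261 = N8662 := rfl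
theorem L53130 : sm gc N8662 = N5261 := flp_c L53129
theorem L53131 : sm gg N8662 = N5263 := ded_21_2 L34503 L34499 L53129
theorem L53132 : sm gg N5263 = N8662 := flp_g L53131
theorem L53155 : sm gd N5266 = N8667 := rfl
theorem L53157 : sm ga N8667 = N5267 := ded_9_1 L34517 L34513 L53155
theorem L53158 : sm ga N5267 = N8667 := flp_a L53157
theorem L53161 : sm gg N8667 = N5324 := ded_24_2 L34767 L34515 L53155
theorem L53162 : sm gg N5324 = N8667 := flp_g L53161
theorem L53175 : sm gb N5268 = N8671 := rfl
theorem L53195 : sm gf N5272 = N8676 := rfl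
theorem L53201 : sm gb N8676 = N5719 := ded_16_1 L36595 L36625 L36630 L34535 L53195
theorem L53209 : sm gb N5273 = N8677 := rfl
theorem L53211 : sm gd N8677 = N6379 := ded_14_2 L40208 L34541 L53209
theorem L53239 : sm gf N5277 = N8683 := rfl
theorem L53240 : sm gf N8683 = N5277 := flp_f L53239
theorem L53241 : sm gd N8683 = N7477 := ded_23_1 L46262 L34567 L53239
theorem L53242 : sm gd N7477 = N8683 := flp_d L53241
theorem L53245 : sm gg N8683 = N5966 := ded_29_3 L50592 L34607 L34569 L53239
theorem L53255 : sm gc N5279 = N8686 := rfl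
theorem L53257 : sm ge N8686 = N5282 := ded_19_2 L34591 L34581 L53255
theorem L53258 : sm ge N5282 = N8686 := flp_e L53257
theorem L53259 : sm gb N8686 = N5288 := ded_13_1 L34615 L25800 L25780 L34578 L53255
theorem L53305 : sm gg N5286 = N8696 := rfl
theorem L53306 : sm gg N8696 = N5286 := flp_g L53305
theorem L53307 : sm ga N8696 = N8683 := ded_12_1 L53245 L50592 L53305
theorem L53308 : sm ga N8683 = N8696 := flp_a L53307
theorem L53319 : sm gc N5287 = N8698 := rfl
theorem L53321 : sm ga N8698 = N5288 := ded_8_1 L34615 L34610 L53319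
theorem L53323 : sm ge N8698 = N5294 := ded_19_2 L34639 L34613 L53319
theorem L53325 : sm gg N5287 = N8699 := rfl
theorem L53326 : sm gg N8699 = N5287 := flp_g L53325
theorem L53329 : sm ge N8699 = N5295 := ded_26_1 L34643 L34613 L53325
theorem L53330 : sm ge N5295 = N8699 := flp_e L53329
theorem L53359 : sm gf N5290 = N8705 := rfl
theorem L53360 : sm gf N8705 = N5290 := flp_f L53359
theorem L53363 : sm ge N8705 = N5301 := ded_25_1 L34673 L34625 L53359
theorem L53364 : sm ge N5301 = N8705 := flp_e L53363
theorem L53391 : sm gf N5293 = N8710 := rfl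
theorem L53392 : sm gf N8710 = N5293 := flp_f L53391
theorem L53395 : sm gd N8710 = N5307 := ded_23_1 L34701 L34637 L53391
theorem L53396 : sm gd N5307 = N8710 := flp_d L53395
theorem L53397 : sm gb N8710 = N8210 := ded_16_1 L53025 L53020 L34434 L34634 L53391
theorem L53398 : sm gb N8210 = N8710 := flp_b L53397
theorem L53405 : sm gd N5294 = N8713 := rfl
theorem L53407 : sm ga N8713 = N5296 := ded_9_1 L34651 L34641 L53405
theorem L53423 : sm gc N5296 = N8716 := rfl
theorem L53427 : sm gg N5296 = N8718 := rfl
theorem L53428 : sm gg N8718 = N5296 := flp_g L53427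
theorem L53429 : sm gd N8718 = N5297 := ded_24_1 L34653 L34650 L53427
theorem L53430 : sm gd N5297 = N8718 := flp_d L53429
theorem L53433 : sm gf N5297 = N8720 := rfl
theorem L53434 : sm gf N8720 = N5297 := flp_f L53433
theorem L53439 : sm gg N8720 = N8642 := ded_29_3 L53029 L34438 L34652 L53433
theorem L53440 : sm gg N8642 = N8720 := flp_g L53439
theorem L53451 : sm gf N5299 = N8723 := rfl
theorem L53453 : sm gd N8723 = N5321 := ded_23_1 L34761 L34667 L53451
theorem L53454 : sm gd N5321 = N8723 := flp_d L53453
theorem L53465 : sm gd N5300 = N8726 := rfl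
theorem L53466 : sm gd N8726 = N5300 := flp_d L53465
theorem L53467 : sm ga N8726 = N5302 := ded_9_1 L34681 L34671 L53465
theorem L53468 : sm ga N5302 = N8726 := flp_a L53467
theorem L53477 : sm gb N5301 = N8728 := rfl
theorem L53478 : sm gb N8728 = N5301 := flp_b L53477
theorem L53479 : sm gd N8728 = N5326 := ded_14_2 L34779 L34677 L53477
theorem L53481 : sm gg N5555 = N8728 := ded_24_0 L53479 L36405 L35833
theorem L53493 : sm gg N5303 = N8733 := rfl
theorem L53494 : sm gg N8733 = N5303 := flp_g L53493
theorem L53497 : sm gc N8733 = N5304 := ded_21_1 L34687 L34685 L53493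
theorem L53499 : sm gf N8650 = N8733 := ded_29_0 L53494 L34683 L34457 L53074
theorem L53501 : sm gc N5305 = N8734 := rfl
theorem L53503 : sm ga N8734 = N5306 := ded_8_1 L34699 L34694 L53501
theorem L53505 : sm gf N8734 = N8150 := ded_20_2 L49954 L34707 L53501
theorem L53506 : sm gf N8150 = N8734 := flp_f L53505
theorem L53507 : sm gb N5306 = N8735 := rfl
theorem L53508 : sm gb N8735 = N5306 := flp_b L53507
theorem L53509 : sm ge N8735 = N6989 := ded_15_2 L46112 L46109 L53507
theorem L53510 : sm ge N6989 = N8735 := flp_e L53509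
theorem L53511 : sm gc N8735 = N5309 := ded_13_2 L34711 L25830 L25827 L34698 L53507
theorem L53513 : sm ga N8735 = N7339 := ded_30_3 L45440 L43464 L43457 L43473 L44338 L45382 L45806 L45802 L33007 L49681 L49687 L40409 L40410 L33143 L33140 L34704 L34701 L34698 L53507
theorem L53514 : sm ga N7339 = N8735 := flp_a L53513
theorem L53515 : sm gf N6857 = N8735 := ded_25_0 L53509 L43426 L42623
theorem L53516 : sm gf N8735 = N6857 := flp_f L53515
theorem L53519 : sm gf N5306 = N8737 := rfl
theorem L53521 : sm ga N8737 = N8150 := ded_11_1 L53506 L53503 L53519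
theorem L53522 : sm ga N8150 = N8737 := flp_a L53521
theorem L53523 : sm gc N8737 = N5307 := ded_20_1 L34701 L34698 L53519
theorem L53524 : sm gc N5307 = N8737 := flp_c L53523
theorem L53525 : sm ge N8737 = N6995 := ded_25_1 L46113 L46109 L53519
theorem L53533 : sm ga N5309 = N8739 := rfl
theorem L53534 : sm ga N8739 = N5309 := flp_a L53533
theorem L53535 : sm gc N8739 = N7339 := ded_8_2 L53514 L53511 L53533
theorem L53537 : sm ge N8739 = N7004 := ded_10_2 L43560 L34713 L53533
theorem L53539 : sm gf N8739 = N6864 := ded_11_2 L42661 L34715 L53533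
theorem L53547 : sm gg N5309 = N8741 := rfl
theorem L53548 : sm gg N8741 = N5309 := flp_g L53547
theorem L53551 : sm gc N5310 = N8742 := rfl
theorem L53552 : sm gc N8742 = N5310 := flp_c L53551
theorem L53555 : sm gd N8716 = N8742 := ded_28_1 L53552 L34717 L25830 L25810 L34638 L53405 L53407 L53423
theorem L53561 : sm gg N5310 = N8744 := rfl
theorem L53567 : sm gf N8744 = N8660 := ded_29_2 L53124 L53110 L53113 L53561
theorem L53571 : sm gc N5312 = N8746 := rfl
theorem L53575 : sm gg N8746 = N7871 := ded_21_2 L50160 L36736 L53571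
theorem L53599 : sm gb N5315 = N8752 := rfl
theorem L53601 : sm gd N8752 = N5316 := ded_14_2 L34741 L34739 L53599
theorem L53603 : sm gg N8752 = N5946 := ded_17_2 L37619 L27200 L25842 L34736 L53599
theorem L53604 : sm gg N5946 = N8752 := flp_g L53603
theorem L53613 : sm ga N5316 = N8754 := rfl
theorem L53614 : sm ga N8754 = N5316 := flp_a L53613
theorem L53615 : sm gg N8754 = N5948 := ded_12_2 L37631 L34743 L53613
theorem L53616 : sm gg N5948 = N8754 := flp_g L53615
theorem L53625 : sm gb N5320 = N8757 := rfl
theorem L53627 : sm ge N8757 = N6727 := ded_15_2 L50195 L40040 L53625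
theorem L53631 : sm ga N8757 = N5323 := ded_7_1 L34765 L25857 L21068 L21748 L27221 L50261 L27496 L39394 L53625
theorem L53633 : sm gg N6544 = N8757 := ded_26_0 L53627 L41873 L41069
theorem L53641 : sm gg N5320 = N8759 := rfl
theorem L53643 : sm ga N8759 = N6050 := ded_12_1 L38102 L39394 L53641
theorem L53644 : sm ga N6050 = N8759 := flp_a L53643
theorem L53645 : sm gc N8759 = N5322 := ded_21_1 L34763 L34758 L53641
theorem L53647 : sm gd N8759 = N8174 := ded_24_1 L50745 L39396 L53641
theorem L53653 : sm gd N5323 = N8760 := rfl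
theorem L53655 : sm gb N8760 = N5324 := ded_14_1 L34767 L34764 L53653
theorem L53657 : sm gg N8760 = N6519 := ded_24_2 L40926 L50045 L53653
theorem L53658 : sm gg N6519 = N8760 := flp_g L53657
theorem L53659 : sm gf N5323 = N8761 := rfl
theorem L53661 : sm ge N8761 = N6733 := ded_25_1 L41897 L50043 L53659
theorem L53662 : sm ge N6733 = N8761 := flp_e L53661
theorem L53697 : sm gd N5327 = N8767 := rfl
theorem L53698 : sm gd N8767 = N5327 := flp_d L53697
theorem L53701 : sm gc N8726 = N8767 := ded_28_0 L53698 L34781 L25866 L21067 L21055 L25821 L34680 L53468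
theorem L53702 : sm gc N8767 = N8726 := flp_c L53701
theorem L53703 : sm ge N5327 = N8768 := rfl
theorem L53704 : sm ge N8768 = N5327 := flp_e L53703
theorem L53705 : sm gc N8768 = N5328 := ded_19_1 L34783 L34780 L53703
theorem L53706 : sm gc N5328 = N8768 := flp_c L53705
theorem L53711 : sm gf N5328 = N8770 := rfl
theorem L53712 : sm gf N8770 = N5328 := flp_f L53711
theorem L53713 : sm ge N8770 = N5329 := ded_25_1 L34787 L34782 L53711
theorem L53714 : sm ge N5329 = N8770 := flp_e L53713
theorem L53715 : sm gb N5329 = N8771 := rfl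
theorem L53719 : sm gf N8771 = N5967 := ded_16_2 L37701 L27240 L25868 L34786 L53715
theorem L53720 : sm gf N5967 = N8771 := flp_f L53719
theorem L53721 : sm gg N5329 = N8772 := rfl
theorem L53722 : sm gg N8772 = N5329 := flp_g L53721
theorem L53727 : sm gf N8667 = N8772 := ded_29_0 L53722 L34787 L34519 L53158
theorem L53729 : sm ga N5330 = N8773 := rfl
theorem L53730 : sm ga N8773 = N5330 := flp_a L53729
theorem L53731 : sm gf N8773 = N5969 := ded_11_2 L37713 L34793 L53729
theorem L53747 : sm gc N5333 = N8777 := rfl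
theorem L53749 : sm ge N8777 = N5336 := ded_19_2 L34821 L34809 L53747
theorem L53750 : sm ge N5336 = N8777 := flp_e L53749
theorem L53751 : sm gb N8777 = N7432 := ded_13_1 L46014 L31181 L25884 L34804 L53747
theorem L53759 : sm ga N5334 = N8779 := rfl
theorem L53761 : sm gd N8779 = N6348 := ded_9_2 L40039 L34813 L53759
theorem L53762 : sm gd N6348 = N8779 := flp_d L53761
theorem L53763 : sm ge N8779 = N5338 := ded_10_2 L34829 L34815 L53759
theorem L53781 : sm gc N5335 = N8783 := rfl
theorem L53783 : sm ga N8783 = N5336 := ded_8_1 L34821 L34816 L53781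
theorem L53793 : sm gd N5336 = N8785 := rfl
theorem L53795 : sm gb N8785 = N7440 := ded_14_1 L46056 L34823 L53793
theorem L53801 : sm gf N5337 = N8787 := rfl
theorem L53807 : sm gg N8787 = N8162 := ded_29_3 L50684 L33212 L34824 L53801
theorem L53809 : sm gb N5338 = N8788 := rfl
theorem L53811 : sm gd N8788 = N5359 := ded_14_2 L34917 L34831 L53809
theorem L53812 : sm gd N5359 = N8788 := flp_d L53811
theorem L53833 : sm gg N5340 = N8793 := rfl
theorem L53834 : sm gg N8793 = N5340 := flp_g L53833
theorem L53839 : sm gf N8166 = N8793 := ded_29_0 L53834 L34837 L33227 L50701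
theorem L53841 : sm gb N5341 = N8794 := rfl
theorem L53842 : sm gb N8794 = N5341 := flp_b L53841
theorem L53843 : sm ge N8794 = N5349 := ded_15_2 L34877 L34843 L53841
theorem L53844 : sm ge N5349 = N8794 := flp_e L53843
theorem L53845 : sm gc N5341 = N8795 := rfl
theorem L53847 : sm ga N8795 = N5342 := ded_8_1 L34845 L34840 L53845
theorem L53848 : sm ga N5342 = N8795 := flp_a L53847
theorem L53851 : sm gg N5341 = N8796 := rfl
theorem L53857 : sm gf N8796 = N8172 := ded_29_2 L50734 L50719 L50723 L53851
theorem L53859 : sm gd N5342 = N8797 := rfl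
theorem L53860 : sm gd N8797 = N5342 := flp_d L53859
theorem L53861 : sm gb N8797 = N5371 := ded_14_1 L34969 L34849 L53859
theorem L53869 : sm gb N5343 = N8799 := rfl
theorem L53870 : sm gb N8799 = N5343 := flp_b L53869
theorem L53871 : sm ge N8799 = N5354 := ded_15_2 L34897 L34853 L53869
theorem L53872 : sm ge N5354 = N8799 := flp_e L53871
theorem L53887 : sm gc N5344 = N8802 := rfl
theorem L53888 : sm gc N8802 = N5344 := flp_c L53887
theorem L53889 : sm ge N8802 = N5357 := ded_19_2 L34909 L34857 L53887
theorem L53890 : sm ge N5357 = N8802 := flp_e L53889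
theorem L53891 : sm gb N8802 = N5375 := ded_13_1 L34989 L25970 L25914 L34854 L53887
theorem L53892 : sm gb N5375 = N8802 := flp_b L53891
theorem L53893 : sm gf N5344 = N8803 := rfl
theorem L53894 : sm gf N8803 = N5344 := flp_f L53893
theorem L53895 : sm gd N8803 = N5961 := ded_23_1 L50560 L38126 L53893
theorem L53896 : sm gd N5961 = N8803 := flp_d L53895
theorem L53897 : sm ge N8803 = N5358 := ded_25_1 L34913 L34857 L53893
theorem L53898 : sm ge N5358 = N8803 := flp_e L53897
theorem L53899 : sm gb N8803 = N5960 := ded_16_1 L37671 L50297 L25917 L34854 L53893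
theorem L53900 : sm gb N5960 = N8803 := flp_b L53899
theorem L53901 : sm gb N5345 = N8804 := rfl
theorem L53905 : sm ge N8804 = N5359 := ded_15_2 L34917 L34861 L53901
theorem L53907 : sm ga N8804 = N8760 := ded_7_1 L53655 L34768 L25867 L27226 L50297 L25785 L25919 L34858 L53901
theorem L53908 : sm ga N8760 = N8804 := flp_a L53907
theorem L53915 : sm gf N5345 = N8806 := rfl
theorem L53916 : sm gf N8806 = N5345 := flp_f L53915
theorem L53921 : sm ge N8806 = N5361 := ded_25_1 L34923 L34861 L53915
theorem L53922 : sm ge N5361 = N8806 := flp_e L53921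
theorem L53929 : sm gf N5346 = N8808 := rfl
theorem L53933 : sm ge N8808 = N5363 := ded_25_1 L34933 L34865 L53929
theorem L53935 : sm gb N5347 = N8809 := rfl
theorem L53939 : sm gf N8809 = N5348 := ded_16_2 L34873 L25924 L25919 L34868 L53935
theorem L53940 : sm gf N5348 = N8809 := flp_f L53939
theorem L53941 : sm gg N5347 = N8810 := rfl
theorem L53942 : sm gg N8810 = N5347 := flp_g L53941
theorem L53947 : sm gf N8174 = N8810 := ded_29_0 L53942 L34869 L33257 L50741
theorem L53953 : sm gc N5348 = N8812 := rfl
theorem L53955 : sm ge N8812 = N5367 := ded_19_2 L34949 L34875 L53953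
theorem L53956 : sm ge N5367 = N8812 := flp_e L53955
theorem L53959 : sm gg N5348 = N8813 := rfl
theorem L53961 : sm ge N8813 = N5368 := ded_26_1 L34953 L34875 L53959
theorem L53969 : sm gf N5349 = N8816 := rfl
theorem L53970 : sm gf N8816 = N5349 := flp_f L53969
theorem L53979 : sm gg N5350 = N8820 := rfl
theorem L53981 : sm ga N8820 = N5353 := ded_12_1 L34893 L34881 L53979
theorem L53985 : sm gf N8820 = N8181 := ded_29_2 L50778 L50768 L50769 L53979
theorem L53986 : sm gf N8181 = N8820 := flp_f L53985
theorem L53989 : sm gc N5352 = N8822 := rfl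
theorem L53990 : sm gc N8822 = N5352 := flp_c L53989
theorem L54003 : sm gf N5353 = N8826 := rfl
theorem L54005 : sm ga N8826 = N8181 := ded_11_1 L53986 L53981 L54003
theorem L54011 : sm ga N5354 = N8827 := rfl
theorem L54012 : sm ga N8827 = N5354 := flp_a L54011
theorem L54013 : sm gg N8827 = N5356 := ded_12_2 L34907 L34899 L54011
theorem L54015 : sm gc N5354 = N8828 := rfl
theorem L54017 : sm gg N8828 = N5357 := ded_21_2 L34909 L34899 L54015
theorem L54023 : sm gb N5356 = N8831 := rfl
theorem L54024 : sm gb N8831 = N5356 := flp_b L54023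
theorem L54025 : sm gc N5356 = N8832 := rfl
theorem L54026 : sm gc N8832 = N5356 := flp_c L54025
theorem L54027 : sm ga N8832 = N5357 := ded_8_1 L34909 L34906 L54025
theorem L54028 : sm ga N5357 = N8832 := flp_a L54027
theorem L54029 : sm gf N5356 = N8833 := rfl
theorem L54030 : sm gf N8833 = N5356 := flp_f L54029
theorem L54031 : sm ga N8833 = N5358 := ded_11_1 L34913 L34906 L54029
theorem L54032 : sm ga N5358 = N8833 := flp_a L54031
theorem L54035 : sm gd N5357 = N8834 := rfl
theorem L54036 : sm gd N8834 = N5357 := flp_d L54035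
theorem L54037 : sm gb N8834 = N5399 := ded_14_1 L35103 L34911 L54035
theorem L54038 : sm gb N5399 = N8834 := flp_b L54037
theorem L54039 : sm gf N5357 = N8835 := rfl
theorem L54040 : sm gf N8835 = N5357 := flp_f L54039
theorem L54041 : sm gc N8835 = N5358 := ded_20_1 L34913 L34908 L54039
theorem L54042 : sm gc N5358 = N8835 := flp_c L54041
theorem L54043 : sm gg N5358 = N8836 := rfl
theorem L54044 : sm gg N8836 = N5358 := flp_g L54043
theorem L54047 : sm gf N8827 = N8836 := ded_29_0 L54044 L34913 L34899 L54011
theorem L54048 : sm gf N8836 = N8827 := flp_f L54047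
theorem L54049 : sm ga N5359 = N8837 := rfl
theorem L54051 : sm ge N8837 = N8760 := ded_10_2 L53908 L53905 L54049
theorem L54052 : sm ge N8760 = N8837 := flp_e L54051
theorem L54059 : sm gg N5359 = N8840 := rfl
theorem L54060 : sm gg N8840 = N5359 := flp_g L54059
theorem L54063 : sm gd N5360 = N8842 := rfl
theorem L54065 : sm ga N8842 = N5362 := ded_9_1 L34929 L34921 L54063
theorem L54079 : sm ge N5362 = N8846 := rfl
theorem L54081 : sm gb N8846 = N5408 := ded_15_1 L35143 L34931 L54079
theorem L54091 : sm gg N5363 = N8849 := rfl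
theorem L54092 : sm gg N8849 = N5363 := flp_g L54091
theorem L54097 : sm gf N8187 = N8849 := ded_29_0 L54092 L34933 L33289 L50800
theorem L54098 : sm gf N8849 = N8187 := flp_f L54097
theorem L54111 : sm gb N5366 = N8854 := rfl
theorem L54113 : sm gc N5366 = N8855 := rfl
theorem L54114 : sm gc N8855 = N5366 := flp_c L54113
theorem L54115 : sm ga N8855 = N5367 := ded_8_1 L34949 L34946 L54113
theorem L54116 : sm ga N5367 = N8855 := flp_a L54115
theorem L54127 : sm gg N5367 = N8858 := rfl
theorem L54128 : sm gg N8858 = N5367 := flp_g L54127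
theorem L54129 : sm gc N8858 = N5368 := ded_21_1 L34953 L34948 L54127
theorem L54130 : sm gc N5368 = N8858 := flp_c L54129
theorem L54151 : sm gg N5369 = N8863 := rfl
theorem L54153 : sm ge N8863 = N5388 := ded_26_1 L35053 L34959 L54151
theorem L54159 : sm gd N5370 = N8865 := rfl
theorem L54161 : sm ga N8865 = N5371 := ded_9_1 L34969 L34963 L54159
theorem L54162 : sm ga N5371 = N8865 := flp_a L54161
theorem L54165 : sm gc N5371 = N8866 := rfl
theorem L54166 : sm gc N8866 = N5371 := flp_c L54165
theorem L54167 : sm gf N8866 = N5483 := ded_20_2 L35495 L34971 L54165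
theorem L54168 : sm gf N5483 = N8866 := flp_f L54167
theorem L54169 : sm ge N5371 = N8867 := rfl
theorem L54170 : sm ge N8867 = N5371 := flp_e L54169
theorem L54173 : sm gd N8867 = N5390 := ded_22_1 L35059 L26004 L25962 L34968 L54169
theorem L54174 : sm gd N5390 = N8867 := flp_d L54173
theorem L54175 : sm gg N5371 = N8868 := rfl
theorem L54176 : sm gg N8868 = N5371 := flp_g L54175
theorem L54177 : sm gd N8868 = N5372 := ded_24_1 L34973 L34968 L54175
theorem L54178 : sm gd N5372 = N8868 := flp_d L54177
theorem L54183 : sm ga N5373 = N8870 := rfl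
theorem L54184 : sm ga N8870 = N5373 := flp_a L54183
theorem L54185 : sm ge N8870 = N5393 := ded_10_2 L35073 L34981 L54183
theorem L54186 : sm ge N5393 = N8870 := flp_e L54185
theorem L54189 : sm gc N5373 = N8871 := rfl
theorem L54193 : sm gg N8871 = N5375 := ded_21_2 L34989 L34983 L54189
theorem L54194 : sm gg N5375 = N8871 := flp_g L54193
theorem L54199 : sm gb N5374 = N8873 := rfl
theorem L54201 : sm ge N8873 = N5396 := ded_15_2 L35087 L34987 L54199
theorem L54202 : sm ge N5396 = N8873 := flp_e L54201
theorem L54203 : sm gc N5374 = N8874 := rfl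
theorem L54205 : sm ga N8874 = N5375 := ded_8_1 L34989 L34984 L54203
theorem L54206 : sm ga N5375 = N8874 := flp_a L54205
theorem L54217 : sm gd N5375 = N8876 := rfl
theorem L54218 : sm gd N8876 = N5375 := flp_d L54217
theorem L54219 : sm gf N5375 = N8877 := rfl
theorem L54221 : sm gc N8877 = N5376 := ded_20_1 L34993 L34988 L54219
theorem L54222 : sm gc N5376 = N8877 := flp_c L54221
theorem L54225 : sm gg N5376 = N8878 := rfl
theorem L54226 : sm gg N8878 = N5376 := flp_g L54225
theorem L54231 : sm gf N8870 = N8878 := ded_29_0 L54226 L34993 L34983 L54183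
theorem L54239 : sm gc N5377 = N8880 := rfl
theorem L54241 : sm ge N8880 = N5403 := ded_19_2 L35121 L35001 L54239
theorem L54243 : sm gf N5377 = N8881 := rfl
theorem L54244 : sm gf N8881 = N5377 := flp_f L54243
theorem L54259 : sm gd N5378 = N8884 := rfl
theorem L54263 : sm gg N8884 = N5503 := ded_24_2 L35593 L35009 L54259
theorem L54283 : sm ga N5381 = N8889 := rfl
theorem L54287 : sm gf N8889 = N5382 := ded_11_2 L35027 L35025 L54283
theorem L54295 : sm gg N5381 = N8891 := rfl
theorem L54296 : sm gg N8891 = N5381 := flp_g L54295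
theorem L54297 : sm ge N8891 = N5413 := ded_26_1 L35163 L35023 L54295
theorem L54298 : sm ge N5413 = N8891 := flp_e L54297
theorem L54309 : sm gg N5382 = N8894 := rfl
theorem L54310 : sm gg N8894 = N5382 := flp_g L54309
theorem L54315 : sm gf N8894 = N8891 := ded_29_2 L54296 L54283 L54287 L54309
theorem L54316 : sm gf N8891 = N8894 := flp_f L54315
theorem L54373 : sm gf N5388 = N8906 := rfl
theorem L54377 : sm gd N8906 = N5428 := ded_23_1 L35231 L35055 L54373
theorem L54389 : sm gg N5390 = N8910 := rfl
theorem L54390 : sm gg N8910 = N5390 := flp_g L54389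
theorem L54391 : sm gc N8910 = N7031 := ded_21_1 L43716 L43191 L54389
theorem L54395 : sm gf N7028 = N8910 := ded_29_0 L54390 L35060 L35760 L43695
theorem L54413 : sm gc N5393 = N8916 := rfl
theorem L54415 : sm ga N8916 = N5394 := ded_8_1 L35079 L35072 L54413
theorem L54416 : sm ga N5394 = N8916 := flp_a L54415
theorem L54417 : sm gg N8916 = N5397 := ded_21_2 L35091 L35077 L54413
theorem L54418 : sm gg N5397 = N8916 := flp_g L54417
theorem L54419 : sm gd N5394 = N8917 := rfl
theorem L54420 : sm gd N8917 = N5394 := flp_d L54419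
theorem L54421 : sm gg N8917 = N5399 := ded_24_2 L35103 L35081 L54419
theorem L54422 : sm gg N5399 = N8917 := flp_g L54421
theorem L54423 : sm gf N5394 = N8918 := rfl
theorem L54425 : sm gc N8918 = N5395 := ded_20_1 L35083 L35078 L54423
theorem L54426 : sm gc N5395 = N8918 := flp_c L54425
theorem L54427 : sm ga N5396 = N8919 := rfl
theorem L54428 : sm ga N8919 = N5396 := flp_a L54427
theorem L54429 : sm gd N8919 = N5439 := ded_9_2 L35283 L35089 L54427
theorem L54430 : sm gd N5439 = N8919 := flp_d L54429
theorem L54431 : sm gg N8358 = N8919 := ded_29_3 L54428 L51685 L51680 L51630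
theorem L54432 : sm gg N8919 = N8358 := flp_g L54431
theorem L54433 : sm gc N5396 = N8920 := rfl
theorem L54434 : sm gc N8920 = N5396 := flp_c L54433
theorem L54435 : sm gg N5396 = N8921 := rfl
theorem L54436 : sm gg N8921 = N5396 := flp_g L54435
theorem L54437 : sm ga N8921 = N8358 := ded_12_1 L54431 L54428 L54435
theorem L54438 : sm ga N8358 = N8921 := flp_a L54437
theorem L54443 : sm gb N5397 = N8922 := rfl
theorem L54444 : sm gb N8922 = N5397 := flp_b L54443
theorem L54445 : sm gd N5397 = N8923 := rfl
theorem L54447 : sm ga N8923 = N5399 := ded_9_1 L35103 L35093 L54445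
theorem L54448 : sm ga N5399 = N8923 := flp_a L54447
theorem L54449 : sm gf N5397 = N8924 := rfl
theorem L54450 : sm gf N8924 = N5397 := flp_f L54449
theorem L54451 : sm ga N8924 = N5400 := ded_11_1 L35105 L35093 L54449
theorem L54453 : sm gc N8924 = N5398 := ded_20_1 L35095 L35090 L54449
theorem L54454 : sm gc N5398 = N8924 := flp_c L54453
theorem L54455 : sm gg N8918 = N8924 := ded_29_1 L54450 L54418 L54415 L54423
theorem L54461 : sm gf N5399 = N8927 := rfl
theorem L54463 : sm gd N8927 = N5400 := ded_23_1 L35105 L35102 L54461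
theorem L54465 : sm gb N5400 = N8928 := rfl
theorem L54466 : sm gb N8928 = N5400 := flp_b L54465
theorem L54469 : sm gg N5400 = N8929 := rfl
theorem L54470 : sm gg N8929 = N5400 := flp_g L54469
theorem L54471 : sm ga N8929 = N8918 := ded_12_1 L54455 L54451 L54469
theorem L54472 : sm ga N8918 = N8929 := flp_a L54471
theorem L54475 : sm gf N8916 = N8929 := ded_29_0 L54470 L35105 L35081 L54416
theorem L54477 : sm gb N5401 = N8930 := rfl
theorem L54478 : sm gb N8930 = N5401 := flp_b L54477
theorem L54479 : sm gd N8930 = N5450 := ded_14_2 L35347 L35113 L54477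
theorem L54483 : sm ga N8350 = N8930 := ded_9_3 L54479 L36617 L51592
theorem L54485 : sm gc N5402 = N8931 := rfl
theorem L54486 : sm gc N8931 = N5402 := flp_c L54485
theorem L54487 : sm ga N8931 = N5403 := ded_8_1 L35121 L35116 L54485
theorem L54489 : sm gg N8931 = N6076 := ded_21_2 L38235 L39300 L54485
theorem L54491 : sm gd N7542 = N8931 := ded_28_1 L54486 L35118 L39304 L22369 L28327 L40064 L40066 L46587
theorem L54493 : sm gf N5402 = N8932 := rfl
theorem L54501 : sm gb N8932 = N8327 := ded_31_2 L51490 L33607 L25342 L25349 L25355 L33354 L33358 L33366 L33370 L49943 L49950 L38212 L39300 L54493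
theorem L54507 : sm gd N5403 = N8934 := rfl
theorem L54509 : sm ga N8934 = N7542 := ded_9_1 L54491 L54487 L54507
theorem L54539 : sm ge N5407 = N8941 := rfl
theorem L54541 : sm ga N8941 = N5408 := ded_10_1 L35143 L35137 L54539
theorem L54542 : sm ga N5408 = N8941 := flp_a L54541
theorem L54543 : sm gc N8941 = N5408 := ded_19_1 L35143 L35140 L54539
theorem L54544 : sm gc N5408 = N8941 := flp_c L54543
theorem L54545 : sm gg N8941 = N5581 := ded_26_2 L35943 L35139 L54539
theorem L54546 : sm gg N5581 = N8941 := flp_g L54545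
theorem L54547 : sm gf N5408 = N8942 := rfl
theorem L54581 : sm ga N5414 = N8951 := rfl
theorem L54582 : sm ga N8951 = N5414 := flp_a L54581
theorem L54585 : sm gf N8951 = N8328 := ded_29_0 L51499 L51539 L51546 L54581
theorem L54586 : sm gf N8328 = N8951 := flp_f L54585
theorem L54591 : sm gf N5414 = N8953 := rfl
theorem L54593 : sm ga N8953 = N8328 := ded_11_1 L54586 L54582 L54591
theorem L54597 : sm gg N8953 = N8337 := ded_29_3 L51534 L51539 L51546 L54591
theorem L54657 : sm gg N5420 = N8966 := rfl
theorem L54658 : sm gg N8966 = N5420 := flp_g L54657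
theorem L54659 : sm ga N8966 = N5426 := ded_12_1 L35223 L35199 L54657
theorem L54660 : sm ga N5426 = N8966 := flp_a L54659
theorem L54663 : sm ga N5423 = N8967 := rfl
theorem L54664 : sm ga N8967 = N5423 := flp_a L54663
theorem L54665 : sm gc N8967 = N5429 := ded_8_2 L35237 L35215 L54663
theorem L54666 : sm gc N5429 = N8967 := flp_c L54665
theorem L54667 : sm gf N8967 = N6156 := ded_30_4 L42859 L42857 L29707 L23189 L23207 L28959 L30081 L30050 L30086 L30092 L33145 L40411 L40407 L35205 L35202 L26070 L26067 L35212 L54663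
theorem L54669 : sm gb N8967 = N6187 := ded_30_2 L38816 L38809 L38806 L37574 L30355 L30345 L30375 L30376 L33957 L33955 L33913 L43470 L36129 L36136 L36138 L35245 L42863 L42861 L54666
theorem L54670 : sm gb N6187 = N8967 := flp_b L54669
theorem L54697 : sm gb N5425 = N8975 := rfl
theorem L54698 : sm gb N8975 = N5425 := flp_b L54697
theorem L54701 : sm gg N5425 = N8976 := rfl
theorem L54702 : sm gg N8976 = N5425 := flp_g L54701
theorem L54703 : sm gc N8976 = N5427 := ded_21_1 L35227 L35221 L54701
theorem L54705 : sm gf N8966 = N8976 := ded_29_0 L54702 L35219 L35222 L54660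
theorem L54706 : sm gf N8976 = N8966 := flp_f L54705
theorem L54707 : sm gb N7830 = N8976 := ded_13_5 L54703 L51260 L51255 L48095 L48075
theorem L54709 : sm gg N8975 = N7829 := ded_17_4 L48069 L48072 L54707 L54702 L54697
theorem L54710 : sm gg N7829 = N8975 := flp_g L54709
theorem L54731 : sm gf N5431 = N8980 := rfl
theorem L54732 : sm gf N8980 = N5431 := flp_f L54731
theorem L54737 : sm gg N8980 = N6905 := ded_29_3 L42862 L35241 L35246 L54731
theorem L54751 : sm gc N5435 = N8983 := rfl
theorem L54752 : sm gc N8983 = N5435 := flp_c L54751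
theorem L54753 : sm ge N8983 = N6736 := ded_19_2 L46709 L46705 L54751
theorem L54755 : sm gg N6548 = N8983 := ded_26_0 L54753 L41909 L41087
theorem L54756 : sm gg N8983 = N6548 := flp_g L54755
theorem L54757 : sm gg N5435 = N8984 := rfl
theorem L54758 : sm gg N8984 = N5435 := flp_g L54757
theorem L54761 : sm gc N8984 = N6548 := ded_21_1 L54755 L54752 L54757
theorem L54762 : sm gc N6548 = N8984 := flp_c L54761
theorem L54765 : sm gf N5727 = N8984 := ded_29_0 L54758 L36868 L36651 L36642
theorem L54766 : sm gf N8984 = N5727 := flp_f L54765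
theorem L54767 : sm gb N8984 = N5441 := ded_17_1 L35289 L26096 L26088 L35266 L54757
theorem L54771 : sm gd N5436 = N8986 := rfl
theorem L54773 : sm ga N8986 = N5437 := ded_9_1 L35275 L35271 L54771
theorem L54774 : sm ga N5437 = N8986 := flp_a L54773
theorem L54775 : sm gg N8986 = N5443 := ded_24_2 L35311 L35273 L54771
theorem L54789 : sm gb N5438 = N8990 := rfl
theorem L54790 : sm gb N8990 = N5438 := flp_b L54789
theorem L54791 : sm gc N5439 = N8991 := rfl
theorem L54792 : sm gc N8991 = N5439 := flp_c L54791
theorem L54793 : sm ga N8991 = N5440 := ded_8_1 L35287 L35282 L54791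
theorem L54794 : sm ga N5440 = N8991 := flp_a L54793
theorem L54797 : sm gf N8991 = N7569 := ded_20_2 L51791 L51785 L54791
theorem L54798 : sm gf N7569 = N8991 := flp_f L54797
theorem L54801 : sm gb N7337 = N8991 := ded_7_0 L54793 L45124 L45162 L48688 L48679 L39263 L37977 L45419 L45430
theorem L54817 : sm gd N5442 = N8994 := rfl
theorem L54819 : sm gb N8994 = N5443 := ded_14_1 L35311 L35308 L54817
theorem L54820 : sm gb N5443 = N8994 := flp_b L54819
theorem L54851 : sm gb N5445 = N9000 := rfl
theorem L54852 : sm gb N9000 = N5445 := flp_b L54851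
theorem L54853 : sm gc N9000 = N6014 := ded_13_2 L37925 L27368 L26110 L35322 L54851
theorem L54854 : sm gc N6014 = N9000 := flp_c L54853
theorem L54855 : sm gd N5445 = N9001 := rfl
theorem L54856 : sm gd N9001 = N5445 := flp_d L54855
theorem L54859 : sm gc N8923 = N9001 := ded_28_0 L54856 L35323 L26108 L21211 L21169 L26021 L35102 L54448
theorem L54860 : sm gc N9001 = N8923 := flp_c L54859
theorem L54873 : sm gb N5447 = N9005 := rfl
theorem L54874 : sm gb N9005 = N5447 := flp_b L54873
theorem L54875 : sm gd N9005 = N5448 := ded_14_2 L35333 L35331 L54873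
theorem L54876 : sm gd N5448 = N9005 := flp_d L54875
theorem L54877 : sm gf N9005 = N6019 := ded_16_2 L37945 L27372 L26110 L35328 L54873
theorem L54879 : sm gg N5447 = N9006 := rfl
theorem L54880 : sm gg N9006 = N5447 := flp_g L54879
theorem L54885 : sm gf N8986 = N9006 := ded_29_0 L54880 L35329 L35277 L54774
theorem L54886 : sm gf N9006 = N8986 := flp_f L54885
theorem L54887 : sm ga N5448 = N9007 := rfl
theorem L54888 : sm ga N9007 = N5448 := flp_a L54887
theorem L54889 : sm gc N9007 = N8773 := ded_8_2 L53730 L35335 L54887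
theorem L54890 : sm gc N8773 = N9007 := flp_c L54889
theorem L54891 : sm gf N9007 = N6021 := ded_11_2 L37957 L35337 L54887
theorem L54893 : sm gg N5448 = N9008 := rfl
theorem L54894 : sm gg N9008 = N5448 := flp_g L54893
theorem L54905 : sm gc N5459 = N9011 := rfl
theorem L54907 : sm gf N5459 = N9012 := rfl
theorem L54908 : sm gf N9012 = N5459 := flp_f L54907
theorem L54909 : sm ga N9012 = N5658 := ded_11_1 L49812 L49815 L54907
theorem L54911 : sm gg N9012 = N5655 := ded_29_3 L36273 L36276 L36522 L54907
theorem L54913 : sm gb N9012 = N5465 := ded_16_1 L35409 L26144 L26135 L35383 L54907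
theorem L54914 : sm gb N5465 = N9012 := flp_b L54913
theorem L54915 : sm gb N5460 = N9013 := rfl
theorem L54916 : sm gb N9013 = N5460 := flp_b L54915
theorem L54917 : sm gd N5460 = N9014 := rfl
theorem L54919 : sm ga N9014 = N5461 := ded_9_1 L35392 L35388 L54917
theorem L54921 : sm gf N9014 = N5467 := ded_23_2 L35417 L35390 L54917
theorem L54936 : sm gb N5462 = N9018 := rfl
theorem L54937 : sm gb N9018 = N5462 := flp_b L54936
theorem L54945 : sm gb N5464 = N9020 := rfl
theorem L54946 : sm gb N9020 = N5464 := flp_b L54945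
theorem L54947 : sm gc N9020 = N5466 := ded_13_2 L35415 L26146 L26143 L35406 L54945
theorem L54949 : sm ga N9020 = N5949 := ded_30_3 L37633 L27444 L27442 L27426 L27430 L21837 L19144 L21727 L21728 L27073 L37498 L51774 L51772 L33748 L33754 L35411 L35409 L35406 L54945
theorem L54950 : sm ga N5949 = N9020 := flp_a L54949
theorem L54951 : sm gf N5948 = N9020 := ded_20_0 L54947 L39415 L38059
theorem L54952 : sm gf N9020 = N5948 := flp_f L54951
theorem L54957 : sm gf N5464 = N9022 := rfl
theorem L54958 : sm gf N9022 = N5464 := flp_f L54957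
theorem L54961 : sm gc N9022 = N5465 := ded_20_1 L35409 L35406 L54957
theorem L54995 : sm gb N5469 = N9029 := rfl
theorem L54996 : sm gb N9029 = N5469 := flp_b L54995
theorem L54997 : sm gc N9029 = N6037 := ded_13_2 L38032 L27432 L26158 L35428 L54995
theorem L54998 : sm gc N6037 = N9029 := flp_c L54997
theorem L55009 : sm gg N5469 = N9032 := rfl
theorem L55011 : sm gc N9032 = N5471 := ded_21_1 L35435 L35428 L55009
theorem L55023 : sm gf N5471 = N9035 := rfl
theorem L55029 : sm gg N9035 = N9014 := ded_29_3 L54919 L35394 L35434 L55023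
theorem L55057 : sm gg N5475 = N9041 := rfl
theorem L55058 : sm gg N9041 = N5475 := flp_g L55057
theorem L55059 : sm ga N9041 = N5478 := ded_12_1 L35469 L35456 L55057
theorem L55060 : sm ga N5478 = N9041 := flp_a L55059
theorem L55063 : sm gb N5476 = N9042 := rfl
theorem L55064 : sm gb N9042 = N5476 := flp_b L55063
theorem L55067 : sm gc N9042 = N5479 := ded_13_2 L35473 L26174 L26169 L35460 L55063
theorem L55068 : sm gc N5479 = N9042 := flp_c L55067
theorem L55069 : sm gd N5476 = N9043 := rfl
theorem L55070 : sm gd N9043 = N5476 := flp_d L55069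
theorem L55071 : sm gf N5476 = N9044 := rfl
theorem L55073 : sm gc N9044 = N5477 := ded_20_1 L35465 L35460 L55071
theorem L55077 : sm gg N5476 = N9045 := rfl
theorem L55078 : sm gg N9045 = N5476 := flp_g L55077
theorem L55081 : sm ge N9045 = N5527 := ded_26_1 L35717 L35463 L55077
theorem L55082 : sm ge N5527 = N9045 := flp_e L55081
theorem L55083 : sm gg N5477 = N9046 := rfl
theorem L55084 : sm gg N9046 = N5477 := flp_g L55083
theorem L55087 : sm gf N9041 = N9046 := ded_29_0 L55084 L35465 L35468 L55060
theorem L55088 : sm gf N9046 = N9041 := flp_f L55087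
theorem L55089 : sm gb N5478 = N9047 := rfl
theorem L55091 : sm ge N9047 = N5529 := ded_15_2 L35727 L35471 L55089
theorem L55092 : sm ge N5529 = N9047 := flp_e L55091
theorem L55093 : sm gg N9047 = N5482 := ded_17_2 L35491 L26180 L26169 L35468 L55089
theorem L55107 : sm gd N5479 = N9050 := rfl
theorem L55108 : sm gd N9050 = N5479 := flp_d L55107
theorem L55109 : sm gb N9050 = N5480 := ded_14_1 L35477 L35472 L55107
theorem L55115 : sm gg N5479 = N9052 := rfl
theorem L55116 : sm gg N9052 = N5479 := flp_g L55115
theorem L55117 : sm ge N9052 = N5533 := ded_26_1 L35745 L35475 L55115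
theorem L55118 : sm ge N5533 = N9052 := flp_e L55117
theorem L55153 : sm gd N5483 = N9060 := rfl
theorem L55154 : sm gd N9060 = N5483 := flp_d L55153
theorem L55157 : sm gc N7678 = N9060 := ded_28_0 L55154 L35495 L26188 L21239 L20326 L24367 L31849 L47333
theorem L55158 : sm gc N9060 = N7678 := flp_c L55157
theorem L55163 : sm gg N5483 = N9062 := rfl
theorem L55165 : sm gc N9062 = N5485 := ded_21_1 L35501 L35494 L55163
theorem L55167 : sm gg N5484 = N9063 := rfl
theorem L55168 : sm gg N9063 = N5484 := flp_g L55167
theorem L55171 : sm ge N9063 = N5485 := ded_26_1 L35501 L35496 L55167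
theorem L55172 : sm ge N5485 = N9063 := flp_e L55171
theorem L55177 : sm gf N5485 = N9065 := rfl
theorem L55178 : sm gf N9065 = N5485 := flp_f L55177
theorem L55183 : sm gg N9065 = N8865 := ded_29_3 L54161 L34970 L35500 L55177
theorem L55184 : sm gg N8865 = N9065 := flp_g L55183
theorem L55207 : sm gc N5488 = N9071 := rfl
theorem L55209 : sm ga N9071 = N5489 := ded_8_1 L35525 L35518 L55207
theorem L55210 : sm ga N5489 = N9071 := flp_a L55209
theorem L55211 : sm ge N9071 = N5546 := ded_19_2 L35793 L35521 L55207
theorem L55212 : sm ge N5546 = N9071 := flp_e L55211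
theorem L55213 : sm gg N9071 = N5493 := ded_21_2 L35543 L35523 L55207
theorem L55214 : sm gg N5493 = N9071 := flp_g L55213
theorem L55215 : sm gd N5489 = N9072 := rfl
theorem L55217 : sm gg N9072 = N5495 := ded_24_2 L35557 L35529 L55215
theorem L55218 : sm gg N5495 = N9072 := flp_g L55217
theorem L55219 : sm gf N5489 = N9073 := rfl
theorem L55221 : sm gc N9073 = N5490 := ded_20_1 L35531 L35524 L55219
theorem L55222 : sm gc N5490 = N9073 := flp_c L55221
theorem L55245 : sm ga N5492 = N9078 := rfl
theorem L55246 : sm ga N9078 = N5492 := flp_a L55245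
theorem L55247 : sm ge N9078 = N5553 := ded_10_2 L35825 L35541 L55245
theorem L55249 : sm gc N5492 = N9079 := rfl
theorem L55250 : sm gc N9079 = N5492 := flp_c L55249
theorem L55251 : sm ge N9079 = N5554 := ded_19_2 L35829 L35541 L55249
theorem L55252 : sm ge N5554 = N9079 := flp_e L55251
theorem L55253 : sm gf N5492 = N9080 := rfl
theorem L55254 : sm gf N9080 = N5492 := flp_f L55253
theorem L55255 : sm ge N9080 = N5555 := ded_25_1 L35831 L35541 L55253
theorem L55256 : sm ge N5555 = N9080 := flp_e L55255
theorem L55257 : sm gg N5492 = N9081 := rfl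
theorem L55258 : sm gg N9081 = N5492 := flp_g L55257
theorem L55259 : sm ge N9081 = N5556 := ded_26_1 L35835 L35541 L55257
theorem L55260 : sm ge N5556 = N9081 := flp_e L55259
theorem L55261 : sm gb N5493 = N9082 := rfl
theorem L55262 : sm gb N9082 = N5493 := flp_b L55261
theorem L55263 : sm ge N9082 = N5557 := ded_15_2 L35839 L35547 L55261
theorem L55264 : sm ge N5557 = N9082 := flp_e L55263
theorem L55265 : sm gd N5493 = N9083 := rfl
theorem L55267 : sm ga N9083 = N5495 := ded_9_1 L35557 L35545 L55265
theorem L55269 : sm gf N5493 = N9084 := rfl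
theorem L55270 : sm gf N9084 = N5493 := flp_f L55269
theorem L55271 : sm ga N9084 = N5496 := ded_11_1 L35559 L35545 L55269
theorem L55277 : sm gg N9073 = N9084 := ded_29_1 L55270 L55214 L55209 L55219
theorem L55283 : sm gc N5495 = N9086 := rfl
theorem L55284 : sm gc N9086 = N5495 := flp_c L55283
theorem L55285 : sm ge N5495 = N9087 := rfl
theorem L55286 : sm ge N9087 = N5495 := flp_e L55285
theorem L55287 : sm gd N9087 = N5562 := ded_22_1 L35859 L26358 L26216 L35556 L55285
theorem L55299 : sm gg N5496 = N9090 := rfl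
theorem L55300 : sm gg N9090 = N5496 := flp_g L55299
theorem L55301 : sm ga N9090 = N9073 := ded_12_1 L55277 L55271 L55299
theorem L55303 : sm gc N9090 = N5497 := ded_21_1 L35565 L35561 L55299
theorem L55307 : sm gf N9071 = N9090 := ded_29_0 L55300 L35559 L35529 L55210
theorem L55308 : sm gf N9090 = N9071 := flp_f L55307
theorem L55359 : sm gg N5500 = N9100 := rfl
theorem L55361 : sm ge N9100 = N5575 := ded_26_1 L35919 L35583 L55359
theorem L55401 : sm gf N5503 = N9108 := rfl
theorem L55403 : sm ga N9108 = N5508 := ded_11_1 L35617 L35595 L55401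
theorem L55473 : sm gg N5509 = N9122 := rfl
theorem L55475 : sm ge N9122 = N5592 := ded_26_1 L35999 L35623 L55473
theorem L55485 : sm gc N5511 = N9125 := rfl
theorem L55487 : sm ga N9125 = N5512 := ded_8_1 L35641 L35634 L55485
theorem L55488 : sm ga N5512 = N9125 := flp_a L55487
theorem L55491 : sm gf N9125 = N5516 := ded_20_2 L35659 L35639 L55485
theorem L55497 : sm gg N5512 = N9127 := rfl
theorem L55498 : sm gg N9127 = N5512 := flp_g L55497
theorem L55517 : sm gf N5514 = N9131 := rfl
theorem L55519 : sm ge N9131 = N5601 := ded_25_1 L36033 L35653 L55517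
theorem L55520 : sm ge N5601 = N9131 := flp_e L55519
theorem L55521 : sm gb N9131 = N8881 := ded_16_1 L54244 L34999 L26261 L35650 L55517
theorem L55523 : sm ga N5515 = N9132 := rfl
theorem L55527 : sm gb N9132 = N9078 := ded_7_2 L55246 L35539 L26210 L21247 L18834 L21262 L26263 L35654 L55523
theorem L55529 : sm gc N5515 = N9133 := rfl
theorem L55530 : sm gc N9133 = N5515 := flp_c L55529
theorem L55531 : sm ge N9133 = N5603 := ded_19_2 L36045 L35657 L55529
theorem L55532 : sm ge N5603 = N9133 := flp_e L55531
theorem L55549 : sm gg N5516 = N9138 := rfl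
theorem L55550 : sm gg N9138 = N5516 := flp_g L55549
theorem L55557 : sm gf N9138 = N9127 := ded_29_2 L55498 L55488 L55491 L55549
theorem L55558 : sm gf N9127 = N9138 := flp_f L55557
theorem L55599 : sm gb N5521 = N9146 := rfl
theorem L55600 : sm gb N9146 = N5521 := flp_b L55599
theorem L55605 : sm gf N5521 = N9148 := rfl
theorem L55606 : sm gf N9148 = N5521 := flp_f L55605
theorem L55607 : sm ga N9148 = N5526 := ded_11_1 L35713 L35693 L55605
theorem L55611 : sm gg N5521 = N9149 := rfl
theorem L55613 : sm ga N9149 = N5527 := ded_12_1 L35717 L35693 L55611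
theorem L55614 : sm ga N5527 = N9149 := flp_a L55613
theorem L55631 : sm ga N5524 = N9152 := rfl
theorem L55632 : sm ga N9152 = N5524 := flp_a L55631
theorem L55633 : sm gc N9152 = N5531 := ded_8_2 L35741 L35709 L55631
theorem L55634 : sm gc N5531 = N9152 := flp_c L55633
theorem L55635 : sm gd N6395 = N9152 := ded_28_7 L55632 L35708 L29995 L29996 L23429 L22503 L28488 L40301
theorem L55636 : sm gd N9152 = N6395 := flp_d L55635
theorem L55637 : sm gb N9152 = N9152 := ded_14_1 L55636 L40303 L55635
theorem L55638 : sm ga N9146 = N9146 := ded_7_5 L55600 L35692 L35706 L55631 L55637 L55632 L35707 L35693 L55599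
theorem L55639 : sm gd N5524 = N9153 := rfl
theorem L55641 : sm ga N9153 = N6395 := ded_9_1 L55635 L55632 L55639
theorem L55643 : sm gb N9153 = N5525 := ded_14_1 L35711 L35706 L55639
theorem L55644 : sm gb N5525 = N9153 := flp_b L55643
theorem L55659 : sm gf N5525 = N9158 := rfl
theorem L55661 : sm gd N9158 = N5526 := ded_23_1 L35713 L35710 L55659
theorem L55669 : sm gg N5526 = N9161 := rfl
theorem L55670 : sm gg N9161 = N5526 := flp_g L55669
theorem L55673 : sm gf N9149 = N9161 := ded_29_0 L55670 L35713 L35716 L55614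
theorem L55674 : sm gf N9161 = N9149 := flp_f L55673
theorem L55677 : sm gf N5527 = N9163 := rfl
theorem L55678 : sm gf N9163 = N5527 := flp_f L55677
theorem L55679 : sm ga N9163 = N9161 := ded_11_1 L55674 L55613 L55677
theorem L55681 : sm gc N9163 = N5530 := ded_20_1 L35733 L35719 L55677
theorem L55683 : sm gg N9163 = N9148 := ded_29_3 L55607 L35713 L35716 L55677
theorem L55684 : sm gg N9148 = N9163 := flp_g L55683
theorem L55693 : sm ga N5529 = N9165 := rfl
theorem L55694 : sm ga N9165 = N5529 := flp_a L55693
theorem L55697 : sm gg N9165 = N5535 := ded_12_2 L35749 L35731 L55693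
theorem L55698 : sm gg N5535 = N9165 := flp_g L55697
theorem L55699 : sm gf N9165 = N8242 := ded_29_0 L51060 L35755 L35731 L55693
theorem L55700 : sm gf N8242 = N9165 := flp_f L55699
theorem L55705 : sm gf N5529 = N9167 := rfl
theorem L55707 : sm ga N9167 = N8242 := ded_11_1 L55700 L55694 L55705
theorem L55708 : sm ga N8242 = N9167 := flp_a L55707
theorem L55709 : sm gd N9167 = N5637 := ded_23_1 L36187 L35729 L55705
theorem L55722 : sm gf N5531 = N9170 := rfl
theorem L55724 : sm ga N9170 = N5532 := ded_11_1 L35743 L35740 L55722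
theorem L55738 : sm gf N5533 = N9174 := rfl
theorem L55739 : sm gf N9174 = N5533 := flp_f L55738
theorem L55742 : sm gg N9174 = N9170 := ded_29_3 L55724 L35743 L35744 L55738
theorem L55743 : sm gg N9170 = N9174 := flp_g L55742
theorem L55754 : sm gb N5535 = N9178 := rfl
theorem L55755 : sm gb N9178 = N5535 := flp_b L55754
theorem L55756 : sm gd N9178 = N5647 := ded_14_2 L36239 L35751 L55754
theorem L55758 : sm gg N8589 = N9178 := ded_24_0 L55756 L36557 L52740
theorem L55764 : sm gf N5535 = N9180 := rfl
theorem L55766 : sm ga N9180 = N5537 := ded_11_1 L35755 L35748 L55764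
theorem L55767 : sm ga N5537 = N9180 := flp_a L55766
theorem L55768 : sm gd N9180 = N5649 := ded_23_1 L36245 L35751 L55764
theorem L55772 : sm gb N5575 = N9180 := ded_14_3 L55768 L36251 L35921
theorem L55773 : sm gb N9180 = N5575 := flp_b L55772
theorem L55820 : sm gd N5542 = N9192 := rfl
theorem L55822 : sm gb N9192 = N5547 := ded_14_1 L35799 L35783 L55820
theorem L55823 : sm gb N5547 = N9192 := flp_b L55822
theorem L55848 : sm ga N5545 = N9199 := rfl
theorem L55849 : sm ga N9199 = N5545 := flp_a L55848
theorem L55850 : sm gd N9199 = N5655 := ded_9_2 L36273 L35791 L55848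
theorem L55851 : sm gd N5655 = N9199 := flp_d L55850
theorem L55864 : sm gg N5545 = N9202 := rfl
theorem L55865 : sm gg N9202 = N5545 := flp_g L55864
theorem L55868 : sm gb N9202 = N5556 := ded_17_1 L35835 L26342 L26328 L35788 L55864
theorem L55872 : sm gd N5546 = N9204 := rfl
theorem L55874 : sm ga N9204 = N5547 := ded_9_1 L35799 L35795 L55872
theorem L55876 : sm gg N9204 = N5558 := ded_24_2 L35841 L35797 L55872
theorem L55877 : sm gg N5558 = N9204 := flp_g L55876
theorem L55878 : sm gc N5547 = N9205 := rfl
theorem L55886 : sm gf N5547 = N9207 := rfl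
theorem L55887 : sm gf N9207 = N5547 := flp_f L55886
theorem L55892 : sm ga N5549 = N9209 := rfl
theorem L55893 : sm ga N9209 = N5549 := flp_a L55892
theorem L55894 : sm gd N9209 = N5665 := ded_9_2 L36305 L35809 L55892
theorem L55898 : sm gb N6078 = N9209 := ded_14_3 L55894 L39338 L38243
theorem L55899 : sm gb N9209 = N6078 := flp_b L55898
theorem L55930 : sm gf N5552 = N9216 := rfl
theorem L55931 : sm gf N9216 = N5552 := flp_f L55930
theorem L55934 : sm gd N9216 = N5673 := ded_23_1 L36363 L35821 L55930
theorem L55935 : sm gd N5673 = N9216 := flp_d L55934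
theorem L55936 : sm gg N9216 = N9209 := ded_29_3 L55893 L35810 L35818 L55930
theorem L55938 : sm gc N5553 = N9217 := rfl
theorem L55940 : sm ga N9217 = N5554 := ded_8_1 L35829 L35824 L55938
theorem L55942 : sm gf N5553 = N9218 := rfl
theorem L55944 : sm ga N9218 = N5555 := ded_11_1 L35831 L35824 L55942
theorem L55945 : sm ga N5555 = N9218 := flp_a L55944
theorem L55946 : sm gd N9218 = N5675 := ded_23_1 L36373 L35827 L55942
theorem L55948 : sm gg N5553 = N9219 := rfl
theorem L55950 : sm ga N9219 = N5556 := ded_12_1 L35835 L35824 L55948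
theorem L55951 : sm ga N5556 = N9219 := flp_a L55950
theorem L55952 : sm gd N9219 = N5676 := ded_24_1 L36377 L35827 L55948
theorem L55956 : sm gb N8723 = N9219 := ded_14_3 L55952 L36411 L53454
theorem L55958 : sm gb N5554 = N9220 := rfl
theorem L55959 : sm gb N9220 = N5554 := flp_b L55958
theorem L55960 : sm gc N9220 = N5557 := ded_13_2 L35839 L26346 L26341 L35828 L55958
theorem L55961 : sm gc N5557 = N9220 := flp_c L55960
theorem L55962 : sm gd N5554 = N9221 := rfl
theorem L55963 : sm gd N9221 = N5554 := flp_d L55962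
theorem L55964 : sm gf N5554 = N9222 := rfl
theorem L55965 : sm gf N9222 = N5554 := flp_f L55964
theorem L55966 : sm gc N9222 = N5555 := ded_20_1 L35831 L35828 L55964
theorem L55967 : sm gc N5555 = N9222 := flp_c L55966
theorem L55968 : sm gg N5554 = N9223 := rfl
theorem L55969 : sm gg N9223 = N5554 := flp_g L55968
theorem L55970 : sm gc N9223 = N5556 := ded_21_1 L35835 L35828 L55968
theorem L55971 : sm gc N5556 = N9223 := flp_c L55970
theorem L55992 : sm gd N5557 = N9227 := rfl
theorem L55993 : sm gd N9227 = N5557 := flp_d L55992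
theorem L55994 : sm gb N9227 = N5558 := ded_14_1 L35841 L35838 L55992
theorem L55995 : sm gb N5558 = N9227 := flp_b L55994
theorem L56000 : sm ge N5558 = N9230 := rfl
theorem L56001 : sm ge N9230 = N5558 := flp_e L56000
theorem L56002 : sm ga N9230 = N5562 := ded_10_1 L35859 L35843 L56000
theorem L56003 : sm ga N5562 = N9230 := flp_a L56002
theorem L56004 : sm gf N5558 = N9231 := rfl
theorem L56005 : sm gf N9231 = N5558 := flp_f L56004
theorem L56006 : sm ga N9231 = N5563 := ded_11_1 L35861 L35843 L56004
theorem L56010 : sm gg N9207 = N9231 := ded_29_1 L56005 L55877 L55874 L55886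
theorem L56030 : sm gb N5563 = N9238 := rfl
theorem L56031 : sm gb N9238 = N5563 := flp_b L56030
theorem L56032 : sm gd N9238 = N5564 := ded_14_2 L35865 L35863 L56030
theorem L56033 : sm gd N5564 = N9238 := flp_d L56032
theorem L56034 : sm gg N5563 = N9239 := rfl
theorem L56036 : sm ga N9239 = N9207 := ded_12_1 L56010 L56006 L56034
theorem L56076 : sm gf N5567 = N9248 := rfl
theorem L56078 : sm ga N9248 = N5572 := ded_11_1 L35905 L35885 L56076
theorem L56088 : sm gb N5568 = N9250 := rfl
theorem L56089 : sm gb N9250 = N5568 := flp_b L56088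
theorem L56090 : sm gd N9250 = N5709 := ded_14_2 L36547 L35891 L56088
theorem L56092 : sm gg N8710 = N9250 := ded_24_0 L56090 L36558 L53396
theorem L56108 : sm gd N5570 = N9253 := rfl
theorem L56109 : sm gd N9253 = N5570 := flp_d L56108
theorem L56110 : sm gb N9253 = N5571 := ded_14_1 L35903 L35898 L56108
theorem L56111 : sm gb N5571 = N9253 := flp_b L56110
theorem L56116 : sm gg N5570 = N9255 := rfl
theorem L56118 : sm gc N9255 = N5580 := ded_21_1 L35941 L35901 L56116
theorem L56128 : sm gg N5571 = N9259 := rfl
theorem L56129 : sm gg N9259 = N5571 := flp_g L56128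
theorem L56130 : sm gd N9259 = N5573 := ded_24_1 L35909 L35902 L56128
theorem L56131 : sm gd N5573 = N9259 := flp_d L56130
theorem L56142 : sm gf N5573 = N9263 := rfl
theorem L56143 : sm gf N9263 = N5573 := flp_f L56142
theorem L56148 : sm gg N9263 = N9248 := ded_29_3 L56078 L35905 L35908 L56142
theorem L56149 : sm gg N9248 = N9263 := flp_g L56148
theorem L56172 : sm gb N5576 = N9267 := rfl
theorem L56176 : sm gg N9267 = N8210 := ded_17_2 L53398 L56092 L56089 L35931 L56172
theorem L56178 : sm ga N9267 = N8213 := ded_7_1 L51594 L54483 L54478 L35110 L35759 L55767 L55773 L35927 L56172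
theorem L56179 : sm ga N8213 = N9267 := flp_a L56178
theorem L56186 : sm gf N5577 = N9270 := rfl
theorem L56188 : sm ga N9270 = N5579 := ded_11_1 L35939 L35932 L56186
theorem L56206 : sm gb N5579 = N9275 := rfl
theorem L56208 : sm gf N9275 = N5583 := ded_16_2 L35959 L26394 L26385 L35938 L56206
theorem L56214 : sm gf N5580 = N9277 := rfl
theorem L56218 : sm gg N9277 = N9270 := ded_29_3 L56188 L35939 L35940 L56214
theorem L56220 : sm gf N5581 = N9278 := rfl
theorem L56221 : sm gf N9278 = N5581 := flp_f L56220
theorem L56224 : sm gc N9278 = N5587 := ded_20_1 L35973 L35947 L56220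
theorem L56228 : sm gg N8942 = N9278 := ded_29_1 L56221 L54546 L54541 L54547
theorem L56266 : sm gg N5587 = N9288 := rfl
theorem L56270 : sm gc N9288 = N8942 := ded_21_1 L56228 L56224 L56266
theorem L56272 : sm ge N9288 = N5589 := ded_26_1 L35981 L35975 L56266
theorem L56292 : sm gc N5590 = N9294 := rfl
theorem L56294 : sm ga N9294 = N5591 := ded_8_1 L35993 L35990 L56292
theorem L56318 : sm gf N5592 = N9299 := rfl
theorem L56322 : sm gg N9299 = N8377 := ded_29_3 L51726 L33710 L35998 L56318
theorem L56348 : sm gg N5594 = N9306 := rfl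
theorem L56349 : sm gg N9306 = N5594 := flp_g L56348
theorem L56352 : sm gd N9306 = N5730 := ded_24_1 L36651 L36005 L56348
theorem L56358 : sm gd N5595 = N9308 := rfl
theorem L56360 : sm ga N9308 = N5596 := ded_9_1 L36013 L36009 L56358
theorem L56362 : sm gf N9308 = N5607 := ded_23_2 L36057 L36011 L56358
theorem L56364 : sm gc N5596 = N9309 := rfl
theorem L56366 : sm gf N9309 = N5610 := ded_20_2 L36073 L36015 L56364
theorem L56416 : sm gg N5601 = N9320 := rfl
theorem L56417 : sm gg N9320 = N5601 := flp_g L56416
theorem L56424 : sm gb N9320 = N9216 := ded_17_1 L55936 L55899 L39390 L36037 L56416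
theorem L56425 : sm gb N9216 = N9320 := flp_b L56424
theorem L56446 : sm gb N5603 = N9324 := rfl
theorem L56447 : sm gb N9324 = N5603 := flp_b L56446
theorem L56448 : sm gc N9324 = N5606 := ded_13_2 L36055 L26444 L26439 L36044 L56446
theorem L56449 : sm gc N5606 = N9324 := flp_c L56448
theorem L56478 : sm ga N5606 = N9330 := rfl
theorem L56480 : sm gd N5606 = N9331 := rfl
theorem L56481 : sm gd N9331 = N5606 := flp_d L56480
theorem L56482 : sm gb N9331 = N5607 := ded_14_1 L36057 L36054 L56480
theorem L56483 : sm gb N5607 = N9331 := flp_b L56482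
theorem L56486 : sm gg N5606 = N9333 := rfl
theorem L56488 : sm ge N5607 = N9334 := rfl
theorem L56490 : sm ga N9334 = N5611 := ded_10_1 L36075 L36059 L56488
theorem L56512 : sm gg N5610 = N9340 := rfl
theorem L56514 : sm gc N9340 = N5612 := ded_21_1 L36079 L36072 L56512
theorem L56520 : sm gb N5612 = N9342 := rfl
theorem L56524 : sm gg N9342 = N9192 := ded_17_2 L55822 L35800 L26458 L36078 L56520
theorem L56526 : sm gf N5612 = N9343 := rfl
theorem L56530 : sm gd N9343 = N5614 := ded_23_1 L36089 L36081 L56526
theorem L56532 : sm gg N9343 = N9308 := ded_29_3 L56360 L36014 L36078 L56526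
theorem L56556 : sm gg N5615 = N9349 := rfl
theorem L56558 : sm gd N9349 = N5776 := ded_24_1 L36862 L36099 L56556
theorem L56562 : sm gb N9349 = N9306 := ded_17_1 L56349 L36003 L26470 L36096 L56556
theorem L56586 : sm gb N5618 = N9354 := rfl
theorem L56587 : sm gb N9354 = N5618 := flp_b L56586
theorem L56590 : sm gc N5620 = N9356 := rfl
theorem L56591 : sm gc N9356 = N5620 := flp_c L56590
theorem L56596 : sm gc N5621 = N9357 := rfl
theorem L56597 : sm gc N9357 = N5621 := flp_c L56596
theorem L56598 : sm gf N9357 = N8759 := ded_20_2 L53645 L36355 L56596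
theorem L56599 : sm gf N8759 = N9357 := flp_f L56598
theorem L56600 : sm gg N9357 = N6057 := ded_21_2 L51755 L51751 L56596
theorem L56602 : sm gd N8810 = N9357 := ded_23_3 L56598 L53647 L53947
theorem L56610 : sm gf N5622 = N9359 := rfl
theorem L56612 : sm ga N9359 = N5624 := ded_11_1 L36137 L36128 L56610
theorem L56650 : sm gf N5625 = N9368 := rfl
theorem L56651 : sm gf N9368 = N5625 := flp_f L56650
theorem L56656 : sm gg N9368 = N9359 := ded_29_3 L56612 L36137 L36140 L56650
theorem L56657 : sm gg N9359 = N9368 := flp_g L56656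
theorem L56728 : sm gc N5632 = N9384 := rfl
theorem L56729 : sm gc N9384 = N5632 := flp_c L56728
theorem L56730 : sm gb N9384 = N5636 := ded_13_1 L36183 L26502 L26496 L36164 L56728
theorem L56731 : sm gb N5636 = N9384 := flp_b L56730
theorem L56732 : sm gf N5632 = N9385 := rfl
theorem L56734 : sm gb N5633 = N9386 := rfl
theorem L56735 : sm gb N9386 = N5633 := flp_b L56734
theorem L56748 : sm gc N5635 = N9388 := rfl
theorem L56750 : sm ga N9388 = N5636 := ded_8_1 L36183 L36176 L56748
theorem L56756 : sm gg N9388 = N5648 := ded_21_2 L36241 L36179 L56748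
theorem L56757 : sm gg N5648 = N9388 := flp_g L56756
theorem L56776 : sm gb N5640 = N9392 := rfl
theorem L56780 : sm gf N9392 = N6922 := ded_16_2 L43079 L43281 L43287 L36209 L56776
theorem L56784 : sm ga N6924 = N9392 := ded_11_3 L56780 L43072 L43089
theorem L56836 : sm gf N5648 = N9400 := rfl
theorem L56837 : sm gf N9400 = N5648 := flp_f L56836
theorem L56840 : sm gc N9400 = N5649 := ded_20_1 L36245 L36240 L56836
theorem L56841 : sm gc N5649 = N9400 := flp_c L56840
theorem L56852 : sm gb N5651 = N9404 := rfl
theorem L56853 : sm gb N9404 = N5651 := flp_b L56852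
theorem L56854 : sm gc N9404 = N8990 := ded_13_2 L54790 L35280 L26536 L36257 L56852
theorem L56878 : sm gc N5655 = N9409 := rfl
theorem L56879 : sm gc N9409 = N5655 := flp_c L56878
theorem L56880 : sm ga N9409 = N5656 := ded_8_1 L36275 L36272 L56878
theorem L56882 : sm gf N9409 = N8121 := ded_20_2 L49818 L49641 L56878
theorem L56883 : sm gf N8121 = N9409 := flp_f L56882
theorem L56884 : sm gb N5656 = N9410 := rfl
theorem L56885 : sm gb N9410 = N5656 := flp_b L56884
theorem L56886 : sm gc N9410 = N5659 := ded_13_2 L36283 L26544 L26541 L36274 L56884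
theorem L56890 : sm gf N5656 = N9412 := rfl
theorem L56891 : sm gf N9412 = N5656 := flp_f L56890
theorem L56892 : sm ga N9412 = N8121 := ded_11_1 L56883 L56880 L56890
theorem L56893 : sm ga N8121 = N9412 := flp_a L56892
theorem L56894 : sm gc N9412 = N5657 := ded_20_1 L36277 L36274 L56890
theorem L56896 : sm gg N9011 = N9412 := ded_21_0 L56894 L36522 L54905
theorem L56898 : sm gg N5656 = N9413 := rfl
theorem L56899 : sm gg N9413 = N5656 := flp_g L56898
theorem L56900 : sm gc N9413 = N5658 := ded_21_1 L36279 L36274 L56898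
theorem L56901 : sm gc N5658 = N9413 := flp_c L56900
theorem L56902 : sm ga N5659 = N9414 := rfl
theorem L56904 : sm gd N5659 = N9415 := rfl
theorem L56906 : sm gb N9415 = N5660 := ded_14_1 L36285 L36282 L56904
theorem L56907 : sm gb N5660 = N9415 := flp_b L56906
theorem L56908 : sm gf N5659 = N9416 := rfl
theorem L56909 : sm gf N9416 = N5659 := flp_f L56908
theorem L56914 : sm gc N5660 = N9418 := rfl
theorem L56915 : sm gc N9418 = N5660 := flp_c L56914
theorem L56916 : sm ga N9418 = N5661 := ded_8_1 L36291 L36287 L56914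
theorem L56917 : sm ga N5661 = N9418 := flp_a L56916
theorem L56918 : sm gg N9418 = N5687 := ded_21_2 L36431 L36289 L56914
theorem L56919 : sm gg N5687 = N9418 := flp_g L56918
theorem L56920 : sm gd N9205 = N9418 := ded_28_1 L56915 L36285 L26544 L26326 L35792 L55872 L55874 L55878
theorem L56921 : sm gd N9418 = N9205 := flp_d L56920
theorem L56922 : sm ge N5660 = N9419 := rfl
theorem L56923 : sm ge N9419 = N5660 := flp_e L56922
theorem L56938 : sm ge N5661 = N9422 := rfl
theorem L56939 : sm ge N9422 = N5661 := flp_e L56938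
theorem L56942 : sm gg N9422 = N5694 := ded_26_2 L36463 L36293 L56938
theorem L56943 : sm gg N5694 = N9422 := flp_g L56942
theorem L56944 : sm gf N5661 = N9423 := rfl
theorem L56956 : sm ga N5664 = N9426 := rfl
theorem L56957 : sm ga N9426 = N5664 := flp_a L56956
theorem L56958 : sm gc N5664 = N9427 := rfl
theorem L56959 : sm gc N9427 = N5664 := flp_c L56958
theorem L56960 : sm gb N9427 = N5666 := ded_13_1 L36309 L26558 L26556 L36302 L56958
theorem L57088 : sm gf N5687 = N9453 := rfl
theorem L57089 : sm gf N9453 = N5687 := flp_f L57088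
theorem L57090 : sm ga N9453 = N5695 := ded_11_1 L36467 L36433 L57088
theorem L57096 : sm gg N9423 = N9453 := ded_29_1 L57089 L56919 L56916 L56944
theorem L57128 : sm ga N5692 = N9460 := rfl
theorem L57129 : sm ga N9460 = N5692 := flp_a L57128
theorem L57130 : sm gc N9460 = N5787 := ded_8_2 L36910 L36455 L57128
theorem L57131 : sm gc N5787 = N9460 := flp_c L57130
theorem L57136 : sm ge N5692 = N9462 := rfl
theorem L57138 : sm gb N9462 = N5694 := ded_15_1 L36463 L36452 L57136
theorem L57150 : sm ge N5693 = N9465 := rfl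
theorem L57154 : sm gc N9465 = N9230 := ded_19_1 L56001 L36460 L57150
theorem L57174 : sm gg N5695 = N9470 := rfl
theorem L57176 : sm ga N9470 = N9423 := ded_12_1 L57096 L57090 L57174
theorem L57177 : sm ga N9423 = N9470 := flp_a L57176
theorem L57178 : sm gc N9470 = N5698 := ded_21_1 L36481 L36469 L57174
theorem L57196 : sm ga N5697 = N9473 := rfl
theorem L57198 : sm gd N9473 = N5699 := ded_9_2 L36489 L36477 L57196
theorem L57199 : sm gd N5699 = N9473 := flp_d L57198
theorem L57200 : sm gf N9473 = N5793 := ded_11_2 L36926 L36479 L57196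
theorem L57220 : sm ga N5701 = N9479 := rfl
theorem L57221 : sm ga N9479 = N5701 := flp_a L57220
theorem L57226 : sm gf N5701 = N9481 := rfl
theorem L57228 : sm gb N9481 = N9416 := ded_16_1 L56909 L36283 L26615 L36498 L57226
theorem L57229 : sm gb N9416 = N9481 := flp_b L57228
theorem L57240 : sm gf N5703 = N9484 := rfl
theorem L57242 : sm gc N9484 = N5704 := ded_20_1 L36509 L36504 L57240
theorem L57243 : sm gc N5704 = N9484 := flp_c L57242
theorem L57252 : sm ge N5706 = N9486 := rfl
theorem L57253 : sm ge N9486 = N5706 := flp_e L57252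
theorem L57262 : sm gg N5706 = N9488 := rfl
theorem L57264 : sm ga N9488 = N5714 := ded_12_1 L36570 L36533 L57262
theorem L57265 : sm ga N5714 = N9488 := flp_a L57264
theorem L57270 : sm gb N5708 = N9490 := rfl
theorem L57271 : sm gb N9490 = N5708 := flp_b L57270
theorem L57272 : sm ge N9490 = N6150 := ded_15_2 L48481 L48458 L57270
theorem L57276 : sm gc N6098 = N9490 := ded_19_3 L57272 L38629 L38345
theorem L57282 : sm gc N5710 = N9492 := rfl
theorem L57286 : sm ge N9492 = N6149 := ded_19_2 L48476 L48468 L57282
theorem L57292 : sm gb N9492 = N6098 := ded_13_1 L57276 L57271 L36544 L36548 L57282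
theorem L57293 : sm gb N6098 = N9492 := flp_b L57292
theorem L57328 : sm gg N5713 = N9501 := rfl
theorem L57329 : sm gg N9501 = N5713 := flp_g L57328
theorem L57332 : sm gf N9488 = N9501 := ded_29_0 L57329 L36566 L36569 L57265
theorem L57361 : sm gb N5718 = N9508 := rfl
theorem L57362 : sm gb N9508 = N5718 := flp_b L57361
theorem L57363 : sm gc N9508 = N5876 := ded_13_2 L37427 L39352 L36612 L36590 L57361
theorem L57364 : sm gc N5876 = N9508 := flp_c L57363
theorem L57365 : sm gf N9508 = N5875 := ded_16_2 L37325 L39402 L36583 L36585 L57361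
theorem L57366 : sm gf N5875 = N9508 := flp_f L57365
theorem L57389 : sm gc N5723 = N9512 := rfl
theorem L57391 : sm gf N9512 = N8592 := ded_20_2 L52749 L36629 L57389
theorem L57392 : sm gf N8592 = N9512 := flp_f L57391
theorem L57393 : sm gg N9512 = N9356 := ded_21_2 L56591 L36628 L57389
theorem L57412 : sm gb N5726 = N9518 := rfl
theorem L57414 : sm gc N9518 = N9018 := ded_13_2 L54937 L35398 L26666 L36641 L57412
theorem L57417 : sm gc N5727 = N9519 := rfl
theorem L57419 : sm ga N9519 = N5728 := ded_8_1 L36645 L36642 L57417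
theorem L57423 : sm gf N9519 = N6548 := ded_20_2 L54762 L54766 L57417
theorem L57424 : sm gf N6548 = N9519 := flp_f L57423
theorem L57429 : sm gb N5728 = N9520 := rfl
theorem L57430 : sm gb N9520 = N5728 := flp_b L57429
theorem L57431 : sm gc N9520 = N5731 := ded_13_2 L36653 L26670 L26667 L36644 L57429
theorem L57432 : sm gc N5731 = N9520 := flp_c L57431
theorem L57435 : sm gf N5728 = N9522 := rfl
theorem L57436 : sm gf N9522 = N5728 := flp_f L57435
theorem L57437 : sm ga N9522 = N6548 := ded_11_1 L57424 L57419 L57435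
theorem L57438 : sm ga N6548 = N9522 := flp_a L57437
theorem L57441 : sm ge N9522 = N6734 := ded_25_1 L48599 L48597 L57435
theorem L57443 : sm gg N5728 = N9523 := rfl
theorem L57444 : sm gg N9523 = N5728 := flp_g L57443
theorem L57447 : sm gc N9523 = N5730 := ded_21_1 L36651 L36644 L57443
theorem L57448 : sm gc N5730 = N9523 := flp_c L57447
theorem L57449 : sm gf N9523 = N8983 := ded_29_2 L54756 L57438 L57436 L57443
theorem L57461 : sm gg N5731 = N9527 := rfl
theorem L57462 : sm gg N9527 = N5731 := flp_g L57461
theorem L57463 : sm gc N5732 = N9528 := rfl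
theorem L57464 : sm gc N9528 = N5732 := flp_c L57463
theorem L57465 : sm ga N9528 = N5733 := ded_8_1 L36661 L36657 L57463
theorem L57469 : sm gd N9309 = N9528 := ded_28_1 L57464 L36655 L26670 L26424 L36006 L56358 L56360 L56364
theorem L57470 : sm gd N9528 = N9309 := flp_d L57469
theorem L57488 : sm ge N5733 = N9532 := rfl
theorem L57490 : sm gc N9532 = N5734 := ded_19_1 L36665 L36660 L57488
theorem L57491 : sm gc N5734 = N9532 := flp_c L57490
theorem L57492 : sm gf N9532 = N5766 := ded_25_2 L36816 L36663 L57488
theorem L57510 : sm gc N5736 = N9537 := rfl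
theorem L57513 : sm gb N9537 = N5738 := ded_13_1 L36681 L26685 L26683 L36673 L57510
theorem L57548 : sm gd N5749 = N9546 := rfl
theorem L57549 : sm gd N9546 = N5749 := flp_d L57548
theorem L57550 : sm gb N9546 = N5750 := ded_14_1 L36750 L36745 L57548
theorem L57551 : sm gb N5750 = N9546 := flp_b L57550
theorem L57556 : sm gg N5749 = N9548 := rfl
theorem L57558 : sm gc N9548 = N5758 := ded_21_1 L36782 L36748 L57556
theorem L57574 : sm gg N5751 = N9554 := rfl
theorem L57575 : sm gg N9554 = N5751 := flp_g L57574
theorem L57576 : sm ga N9554 = N8746 := ded_12_1 L53575 L50236 L57574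
theorem L57582 : sm gf N7872 = N9554 := ded_29_0 L57575 L36752 L36755 L50239
theorem L57586 : sm gc N5754 = N9556 := rfl
theorem L57588 : sm gf N9556 = N8662 := ded_20_2 L53130 L36770 L57586
theorem L57589 : sm gf N8662 = N9556 := flp_f L57588
theorem L57590 : sm gg N9556 = N5763 := ded_21_2 L36804 L36772 L57586
theorem L57592 : sm gd N5755 = N9557 := rfl
theorem L57593 : sm gd N9557 = N5755 := flp_d L57592
theorem L57594 : sm ga N9557 = N5756 := ded_9_1 L36776 L36773 L57592
theorem L57595 : sm ga N5756 = N9557 := flp_a L57594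
theorem L57596 : sm gf N5755 = N9558 := rfl
theorem L57597 : sm gf N9558 = N5755 := flp_f L57596
theorem L57598 : sm ga N9558 = N5757 := ded_11_1 L36780 L36773 L57596
theorem L57626 : sm gf N5758 = N9566 := rfl
theorem L57630 : sm gg N9566 = N9558 := ded_29_3 L57598 L36780 L36781 L57626
theorem L57714 : sm gg N5766 = N9584 := rfl
theorem L57718 : sm ge N9584 = N5767 := ded_26_1 L36820 L36815 L57714
theorem L57722 : sm gf N5767 = N9586 := rfl
theorem L57728 : sm gg N9586 = N9528 := ded_29_3 L57465 L36662 L36819 L57722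
theorem L57744 : sm ga N5769 = N9589 := rfl
theorem L57745 : sm ga N9589 = N5769 := flp_a L57744
theorem L57748 : sm gg N9589 = N5807 := ded_12_2 L36992 L36832 L57744
theorem L57749 : sm gg N5807 = N9589 := flp_g L57748
theorem L57750 : sm gc N5769 = N9590 := rfl
theorem L57751 : sm gc N9590 = N5769 := flp_c L57750
theorem L57752 : sm gg N9590 = N5808 := ded_21_2 L36996 L36832 L57750
theorem L57753 : sm gg N5808 = N9590 := flp_g L57752
theorem L57754 : sm gf N5769 = N9591 := rfl
theorem L57770 : sm gc N5773 = N9596 := rfl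
theorem L57771 : sm gc N9596 = N5773 := flp_c L57770
theorem L57772 : sm gb N9596 = N5775 := ded_13_1 L36858 L26748 L26744 L36851 L57770
theorem L57773 : sm gb N5775 = N9596 := flp_b L57772
theorem L57774 : sm gg N5773 = N9597 := rfl
theorem L57776 : sm gb N9597 = N9527 := ded_17_1 L57462 L36653 L26746 L36851 L57774
theorem L57788 : sm gg N5775 = N9600 := rfl
theorem L57789 : sm gg N9600 = N5775 := flp_g L57788
theorem L57790 : sm gc N9600 = N5776 := ded_21_1 L36862 L36857 L57788
theorem L57791 : sm gc N5776 = N9600 := flp_c L57790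
theorem L57840 : sm gf N5782 = N9614 := rfl
theorem L57844 : sm gb N9614 = N8495 := ded_16_1 L52308 L34011 L26768 L36888 L57840
theorem L57880 : sm gg N5787 = N9623 := rfl
theorem L57881 : sm gg N9623 = N5787 := flp_g L57880
theorem L57882 : sm ga N9623 = N5790 := ded_12_1 L36918 L36909 L57880
theorem L57883 : sm ga N5790 = N9623 := flp_a L57882
theorem L57896 : sm gg N5789 = N9627 := rfl
theorem L57897 : sm gg N9627 = N5789 := flp_g L57896
theorem L57898 : sm gf N9623 = N9627 := ded_29_0 L57897 L36916 L36917 L57883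
theorem L57899 : sm gf N9627 = N9623 := flp_f L57898
theorem L57906 : sm ga N5792 = N9629 := rfl
theorem L57907 : sm ga N9629 = N5792 := flp_a L57906
theorem L57908 : sm ge N9629 = N5793 := ded_10_2 L36926 L36924 L57906
theorem L57909 : sm ge N5793 = N9629 := flp_e L57908
theorem L57910 : sm gc N5792 = N9630 := rfl
theorem L57912 : sm ge N9630 = N5794 := ded_19_2 L36930 L36924 L57910
theorem L57920 : sm gb N5793 = N9632 := rfl
theorem L57922 : sm gd N9632 = N5796 := ded_14_2 L36938 L36928 L57920
theorem L57924 : sm gc N5793 = N9633 := rfl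
theorem L57925 : sm gc N9633 = N5793 := flp_c L57924
theorem L57926 : sm ga N9633 = N5794 := ded_8_1 L36930 L36925 L57924
theorem L57927 : sm ga N5794 = N9633 := flp_a L57926
theorem L57936 : sm gd N5794 = N9635 := rfl
theorem L57937 : sm gd N9635 = N5794 := flp_d L57936
theorem L57950 : sm ga N5796 = N9638 := rfl
theorem L57951 : sm ga N9638 = N5796 := flp_a L57950
theorem L57952 : sm gb N9638 = N8502 := ded_7_2 L52342 L34025 L25522 L20901 L18950 L21506 L26787 L36937 L57950
theorem L57953 : sm gb N8502 = N9638 := flp_b L57952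
theorem L57954 : sm gc N5796 = N9639 := rfl
theorem L57955 : sm gc N9639 = N5796 := flp_c L57954
theorem L57956 : sm gb N9639 = N6743 := ded_13_1 L41933 L29301 L26790 L36937 L57954
theorem L57957 : sm gb N6743 = N9639 := flp_b L57956
theorem L57958 : sm gf N5796 = N9640 := rfl
theorem L57959 : sm gf N9640 = N5796 := flp_f L57958
theorem L57960 : sm gg N5796 = N9641 := rfl
theorem L57961 : sm gg N9641 = N5796 := flp_g L57960
theorem L58009 : sm gb N5802 = N9652 := rfl
theorem L58011 : sm gd N9652 = N7990 := ded_14_2 L49064 L36971 L58009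
theorem L58012 : sm gd N7990 = N9652 := flp_d L58011
theorem L58013 : sm gg N9652 = N5805 := ded_17_2 L36984 L26807 L26797 L36968 L58009
theorem L58023 : sm gc N5803 = N9654 := rfl
theorem L58024 : sm gc N9654 = N5803 := flp_c L58023
theorem L58025 : sm ge N9654 = N5867 := ded_19_2 L37299 L36976 L58023
theorem L58026 : sm ge N5867 = N9654 := flp_e L58025
theorem L58028 : sm gd N9654 = N9654 := ded_28_1 L58024 L36973 L26803 L24695 L26904 L37219 L37221 L58023
theorem L58029 : sm gg N5803 = N9655 := rfl
theorem L58031 : sm gd N9655 = N5804 := ded_24_1 L36978 L36972 L58029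
theorem L58032 : sm gd N5804 = N9655 := flp_d L58031
theorem L58033 : sm ge N9655 = N7992 := ded_26_1 L49076 L36976 L58029
theorem L58043 : sm gc N5805 = N9658 := rfl
theorem L58045 : sm gb N9658 = N5808 := ded_13_1 L36996 L26817 L26809 L36983 L58043
theorem L58051 : sm ga N5806 = N9660 := rfl
theorem L58052 : sm ga N9660 = N5806 := flp_a L58051
theorem L58053 : sm ge N9660 = N5807 := ded_10_2 L36992 L36990 L58051
theorem L58054 : sm ge N5807 = N9660 := flp_e L58053
theorem L58071 : sm gf N5807 = N9665 := rfl
theorem L58072 : sm gf N9665 = N5807 := flp_f L58071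
theorem L58077 : sm gg N9591 = N9665 := ded_29_1 L58072 L57749 L57745 L57754
theorem L58111 : sm gf N5813 = N9675 := rfl
theorem L58113 : sm ga N9675 = N5815 := ded_11_1 L37028 L37019 L58111
theorem L58145 : sm gf N5816 = N9681 := rfl
theorem L58146 : sm gf N9681 = N5816 := flp_f L58145
theorem L58151 : sm gg N9681 = N9675 := ded_29_3 L58113 L37028 L37033 L58145
theorem L58152 : sm gg N9675 = N9681 := flp_g L58151
theorem L58184 : sm gg N5819 = N9691 := rfl
theorem L58185 : sm gg N9691 = N5819 := flp_g L58184
theorem L58186 : sm ga N9691 = N5826 := ded_12_1 L37083 L37054 L58184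
theorem L58187 : sm ga N5826 = N9691 := flp_a L58186
theorem L58236 : sm gf N5824 = N9702 := rfl
theorem L58238 : sm ge N9702 = N5825 := ded_25_1 L37079 L37074 L58236
theorem L58240 : sm gg N5824 = N9703 := rfl
theorem L58241 : sm gg N9703 = N5824 := flp_g L58240
theorem L58244 : sm gg N5825 = N9704 := rfl
theorem L58245 : sm gg N9704 = N5825 := flp_g L58244
theorem L58248 : sm gf N9691 = N9704 := ded_29_0 L58245 L37079 L37082 L58187
theorem L58249 : sm gf N9704 = N9691 := flp_f L58248
theorem L58268 : sm gb N5828 = N9709 := rfl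
theorem L58272 : sm gf N9709 = N5835 := ded_16_2 L37135 L26867 L26850 L37090 L58268
theorem L58292 : sm ga N5830 = N9712 := rfl
theorem L58293 : sm ga N9712 = N5830 := flp_a L58292
theorem L58296 : sm gf N9712 = N5836 := ded_11_2 L37141 L37103 L58292
theorem L58316 : sm gg N5835 = N9718 := rfl
theorem L58320 : sm ge N9718 = N5837 := ded_26_1 L37145 L37137 L58316
theorem L58334 : sm gf N5837 = N9721 := rfl
theorem L58340 : sm gg N9721 = N9712 := ded_29_3 L58293 L37102 L37144 L58334
theorem L58383 : sm gf N5840 = N9733 := rfl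
theorem L58384 : sm gf N9733 = N5840 := flp_f L58383
theorem L58385 : sm ga N9733 = N5848 := ded_11_1 L37193 L37159 L58383
theorem L58419 : sm gd N5844 = N9741 := rfl
theorem L58421 : sm gb N9741 = N5853 := ded_14_1 L37220 L37178 L58419
theorem L58422 : sm gb N5853 = N9741 := flp_b L58421
theorem L58423 : sm ge N9741 = N5847 := ded_22_2 L37189 L26888 L26883 L37175 L58419
theorem L58440 : sm gb N5846 = N9745 := rfl
theorem L58444 : sm gg N9745 = N5855 := ded_17_2 L37237 L26907 L26886 L37184 L58440
theorem L58461 : sm gg N5847 = N9749 := rfl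
theorem L58463 : sm gd N9749 = N5849 := ded_24_1 L37199 L37188 L58461
theorem L58478 : sm gf N5849 = N9752 := rfl
theorem L58485 : sm gg N9752 = N9733 := ded_29_3 L58385 L37193 L37198 L58478
theorem L58490 : sm ga N5851 = N9754 := rfl
theorem L58492 : sm gg N9754 = N5859 := ded_12_2 L37254 L37211 L58490
theorem L58503 : sm gc N5853 = N9758 := rfl
theorem L58504 : sm gc N9758 = N5853 := flp_c L58503
theorem L58505 : sm ga N9758 = N9654 := ded_8_1 L58024 L37222 L58503
theorem L58506 : sm ga N9654 = N9758 := flp_a L58505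
theorem L58533 : sm gf N5855 = N9763 := rfl
theorem L58535 : sm gd N9763 = N5861 := ded_23_1 L37260 L37239 L58533
theorem L58553 : sm ga N5858 = N9767 := rfl
theorem L58554 : sm ga N9767 = N5858 := flp_a L58553
theorem L58555 : sm ge N9767 = N5859 := ded_10_2 L37254 L37252 L58553
theorem L58556 : sm ge N5859 = N9767 := flp_e L58555
theorem L58557 : sm gc N5858 = N9768 := rfl
theorem L58559 : sm ge N9768 = N5860 := ded_19_2 L37256 L37252 L58557
theorem L58579 : sm gd N5860 = N9773 := rfl
theorem L58581 : sm gb N9773 = N5863 := ded_14_1 L37270 L37258 L58579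
theorem L58589 : sm gg N5861 = N9775 := rfl
theorem L58590 : sm gg N9775 = N5861 := flp_g L58589
theorem L58593 : sm gf N9754 = N9775 := ded_29_0 L58590 L37260 L37211 L58490
theorem L58594 : sm gf N9775 = N9754 := flp_f L58593
theorem L58655 : sm ga N5869 = N9787 := rfl
theorem L58656 : sm ga N9787 = N5869 := flp_a L58655
theorem L58657 : sm gd N9787 = N5871 := ded_9_2 L37314 L37308 L58655
theorem L58659 : sm gc N5869 = N9788 := rfl
theorem L58660 : sm gc N9788 = N5869 := flp_c L58659
theorem L58693 : sm gf N5873 = N9796 := rfl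
theorem L58699 : sm gg N9796 = N6095 := ded_29_3 L38325 L27641 L37319 L58693
theorem L58703 : sm gc N5874 = N9797 := rfl
theorem L58705 : sm ga N9797 = N5875 := ded_8_1 L37324 L37321 L58703
theorem L58709 : sm gb N9797 = N6425 := ded_13_1 L40447 L40444 L50632 L42877 L58703
theorem L58710 : sm gb N6425 = N9797 := flp_b L58709
theorem L58733 : sm gb N5877 = N9801 := rfl
theorem L58734 : sm gb N9801 = N5877 := flp_b L58733
theorem L58739 : sm gd N5877 = N9802 := rfl
theorem L58740 : sm gd N9802 = N5877 := flp_d L58739
theorem L58741 : sm ga N9802 = N5878 := ded_9_1 L37336 L37332 L58739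
theorem L58743 : sm gg N9802 = N8022 := ded_24_2 L49266 L37334 L58739
theorem L58744 : sm gg N8022 = N9802 := flp_g L58743
theorem L58745 : sm gc N5878 = N9803 := rfl
theorem L58749 : sm gg N5878 = N9805 := rfl
theorem L58751 : sm ga N9805 = N8022 := ded_12_1 L58744 L58741 L58749
theorem L58752 : sm ga N8022 = N9805 := flp_a L58751
theorem L58753 : sm gd N9805 = N5879 := ded_24_1 L37338 L37335 L58749
theorem L58755 : sm gf N5931 = N9805 := ded_23_0 L58753 L37344 L37554
theorem L58756 : sm gf N9805 = N5931 := flp_f L58755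
theorem L58757 : sm gb N5879 = N9806 := rfl
theorem L58758 : sm gb N9806 = N5879 := flp_b L58757
theorem L58782 : sm gc N5883 = N9813 := rfl
theorem L58784 : sm gb N9813 = N5889 := ded_13_1 L37379 L27027 L27013 L37356 L58782
theorem L58800 : sm gg N5884 = N9817 := rfl
theorem L58804 : sm gd N9817 = N5894 := ded_24_1 L37395 L37363 L58800
theorem L58806 : sm gf N9817 = N8599 := ded_29_2 L52784 L52769 L52775 L58800
theorem L58807 : sm gf N8599 = N9817 := flp_f L58806
theorem L58816 : sm gb N5886 = N9820 := rfl
theorem L58818 : sm gd N9820 = N5897 := ded_14_2 L37409 L37369 L58816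
theorem L58820 : sm gg N9820 = N5887 := ded_17_2 L37371 L27021 L27016 L37366 L58816
theorem L58821 : sm gg N5887 = N9820 := flp_g L58820
theorem L58824 : sm gf N8248 = N9820 := ded_23_0 L58818 L39094 L51089
theorem L58825 : sm gf N9820 = N8248 := flp_f L58824
theorem L58838 : sm ga N5887 = N9822 := rfl
theorem L58839 : sm ga N9822 = N5887 := flp_a L58838
theorem L58840 : sm gd N9822 = N5899 := ded_9_2 L37419 L37373 L58838
theorem L58841 : sm gd N5899 = N9822 := flp_d L58840
theorem L58878 : sm gg N5890 = N9830 := rfl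
theorem L58879 : sm gg N9830 = N5890 := flp_g L58878
theorem L58886 : sm gf N7212 = N9830 := ded_29_0 L58879 L37381 L34313 L44739
theorem L58902 : sm gg N5892 = N9834 := rfl
theorem L58903 : sm gg N9834 = N5892 := flp_g L58902
theorem L58904 : sm gc N9834 = N6695 := ded_21_1 L41759 L43925 L58902
theorem L58905 : sm gc N6695 = N9834 := flp_c L58904
theorem L58908 : sm gf N6332 = N9834 := ded_29_0 L58903 L43928 L41752 L41754
theorem L58909 : sm gf N9834 = N6332 := flp_f L58908
theorem L58910 : sm gb N9834 = N6789 := ded_17_1 L42203 L39117 L37395 L37388 L58902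
theorem L58912 : sm gb N5893 = N9835 := rfl
theorem L58914 : sm gc N9835 = N6596 := ded_13_2 L41306 L43925 L37389 L37390 L58912
theorem L58915 : sm gc N6596 = N9835 := flp_c L58914
theorem L58916 : sm ga N9835 = N7143 := ded_7_1 L44347 L30334 L30340 L37477 L37475 L27062 L27043 L37393 L58912
theorem L58917 : sm ga N7143 = N9835 := flp_a L58916
theorem L58924 : sm gg N5893 = N9837 := rfl
theorem L58925 : sm gg N9837 = N5893 := flp_g L58924
theorem L58926 : sm ga N9837 = N5896 := ded_12_1 L37405 L37393 L58924
theorem L58928 : sm gc N9837 = N5894 := ded_21_1 L37395 L37390 L58924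
theorem L58929 : sm gc N5894 = N9837 := flp_c L58928
theorem L58932 : sm gf N9837 = N8607 := ded_29_2 L52836 L52826 L52827 L58924
theorem L58933 : sm gf N8607 = N9837 := flp_f L58932
theorem L58940 : sm gg N5895 = N9840 := rfl
theorem L58941 : sm gg N9840 = N5895 := flp_g L58940
theorem L58942 : sm gd N9840 = N5896 := ded_24_1 L37405 L37400 L58940
theorem L58944 : sm gb N8386 = N9840 := ded_14_3 L58942 L39108 L51764
theorem L58946 : sm gf N5896 = N9841 := rfl
theorem L58948 : sm ga N9841 = N8607 := ded_11_1 L58933 L58926 L58946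
theorem L58954 : sm gb N9841 = N7004 := ded_16_1 L43559 L43441 L33742 L39109 L58946
theorem L58955 : sm gb N7004 = N9841 := flp_b L58954
theorem L58956 : sm gg N6949 = N5949 := ded_31_9 L37633 L27204 L21733 L21701 L27043 L37404 L58946 L58954 L43599 L43595 L43590 L43592 L43620 L43622
theorem L58958 : sm gb N8607 = N8023 := ded_7_2 L49268 L32783 L24859 L23952 L31219 L31225 L43561 L58955 L58948
theorem L58959 : sm gb N8023 = N8607 := flp_b L58958
theorem L58962 : N8754 = N4346 := coi_29_2 L43221 L58956 L54950 L54952 L53616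
theorem L58963 : N8754 = N4346 := eqc rfl L58962 rfl
theorem L58964 : sm ga N4346 = N5316 := trf L58963 L53614 rfl
theorem L58965 : N5316 = N6947 := eqe L58964 L43215
theorem L58966 : N6947 = N5316 := (eqc rfl L58965 rfl).symm
theorem L58970 : sm gg N4346 = N5948 := trf L58963 L53615 rfl
theorem L58971 : N5948 = N6603 := eqe L58970 L41335
theorem L58972 : N6603 = N5948 := (eqc rfl L58971 rfl).symm
theorem L58973 : sm gb N5948 = N4176 := trf L58972 L41333 rfl
theorem L58981 : sm ga N5316 = N4346 := trf L58966 L43216 rfl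
theorem L58987 : sm gb N6605 = N6043 := ded_13_5 L38059 L58973 L29052 L29054 L41340
theorem L58989 : N6704 = N9022 := coi_16_4 L54958 L54945 L54952 L58973 L29237 L41798
theorem L58990 : N9022 = N6704 := (eqc rfl L58989 rfl).symm
theorem L58993 : sm gc N6704 = N5465 := trf L58990 L54961 rfl
theorem L58994 : sm gc N5465 = N6704 := flp_c L58993
theorem L58995 : sm gf N6704 = N5464 := trf L58990 L54958 rfl
theorem L59001 : sm ga N6946 = N8752 := ded_9_3 L53601 L58981 L43214
theorem L59002 : sm ga N8752 = N6946 := flp_a L59001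
theorem L59007 : sm gf N9013 = N6605 := ded_16_0 L58987 L39414 L35415 L35390 L54915
theorem L59009 : N9012 = N6706 := coi_13_2 L41803 L29239 L29235 L41798 L58993 L54914
theorem L59010 : N9012 = N6706 := eqc rfl L59009 rfl
theorem L59011 : sm ga N6706 = N5658 := trf L59010 L54909 rfl
theorem L59015 : sm gf N6706 = N5459 := trf L59010 L54908 rfl
theorem L59016 : sm gf N5459 = N6706 := flp_f L59015
theorem L59017 : sm gg N6706 = N5655 := trf L59010 L54911 rfl
theorem L59019 : N4228 = N8051 := coi_30_7 L49403 L46224 L46774 L46770 L46750 L46748 L31531 L31526 L46729 L54798 L54792 L35405 L35401 L35408 L58994 L41799 L29232 L29250 L29254 L29264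
theorem L59020 : N8051 = N4228 := (eqc rfl L59019 rfl).symm
theorem L59021 : sm ga N4228 = N4911 := trf L59020 L49403 rfl
theorem L59022 : N4911 = N6716 := eqe L59021 L41842
theorem L59023 : N6716 = N4911 := (eqc rfl L59022 rfl).symm
theorem L59024 : sm gc N4228 = N8067 := trf L59020 L49483 rfl
theorem L59025 : N8067 = N6717 := eqe L59024 L41844
theorem L59026 : N8067 = N6717 := eqc rfl L59025 rfl
theorem L59027 : sm ge N4228 = N5969 := trf L59020 L49404 rfl
theorem L59028 : N5969 = N6540 := eqe L59027 L41041
theorem L59029 : N6540 = N5969 := (eqc rfl L59028 rfl).symm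
theorem L59030 : sm gb N5969 = N4141 := trf L59029 L41039 rfl
theorem L59031 : sm gb N4141 = N5969 := flp_b L59030
theorem L59032 : sm ge N5969 = N4228 := trf L59029 L41040 rfl
theorem L59033 : sm ge N4228 = N5969 := flp_e L59032
theorem L59034 : sm ga N6717 = N4919 := trf L59026 L49481 rfl
theorem L59035 : sm ga N4919 = N6717 := flp_a L59034
theorem L59036 : sm ge N6717 = N6021 := trf L59026 L49484 rfl
theorem L59037 : sm ge N6021 = N6717 := flp_e L59036
theorem L59038 : sm ga N4911 = N4228 := trf L59023 L41843 rfl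
theorem L59042 : sm gc N6606 = N9013 := ded_20_3 L59007 L41341 L41344
theorem L59044 : N9413 = N6705 := coi_8_3 L41801 L41802 L59011 L56901
theorem L59045 : N9413 = N6705 := eqc rfl L59044 rfl
theorem L59046 : sm gc N6705 = N5658 := trf L59045 L56900 rfl
theorem L59047 : sm gc N5658 = N6705 := flp_c L59046
theorem L59048 : sm gg N6705 = N5656 := trf L59045 L56899 rfl
theorem L59049 : sm gg N5656 = N6705 := flp_g L59048
theorem L59050 : N9011 = N6707 := coi_20_2 L41805 L41802 L59015 L54905
theorem L59051 : N9011 = N6707 := eqc rfl L59050 rfl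
theorem L59054 : sm gg N6707 = N9412 := trf L59051 L56896 rfl
theorem L59055 : sm gg N9412 = N6707 := flp_g L59054
theorem L59056 : N9409 = N6696 := coi_21_2 L41764 L41802 L59017 L56878
theorem L59057 : N9409 = N6696 := eqc rfl L59056 rfl
theorem L59058 : sm ga N6696 = N5656 := trf L59057 L56880 rfl
theorem L59059 : sm ga N5656 = N6696 := flp_a L59058
theorem L59060 : sm gc N6696 = N5655 := trf L59057 L56879 rfl
theorem L59061 : sm gc N5655 = N6696 := flp_c L59060
theorem L59064 : sm gb N6539 = N8773 := ded_16_5 L53731 L59030 L28863 L28854 L41032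
theorem L59065 : sm gb N8773 = N6539 := flp_b L59064
theorem L59070 : sm ga N6715 = N7469 := ded_11_3 L46223 L59038 L41841
theorem L59071 : sm ga N7469 = N6715 := flp_a L59070
theorem L59074 : sm ga N8157 = N6724 := ded_7_7 L41861 L29276 L41838 L59070 L46220 L46194 L49980 L49973 L50649
theorem L59090 : sm gf N5903 = N9844 := rfl
theorem L59092 : sm ga N9844 = N5906 := ded_11_1 L37445 L37433 L59090
theorem L59094 : sm gc N9844 = N5904 := ded_20_1 L37435 L37430 L59090
theorem L59098 : sm gb N7071 = N9844 := ded_30_2 L59092 L37445 L27051 L21685 L21657 L21682 L21680 L21704 L27084 L21902 L21899 L27564 L39230 L33084 L39367 L43976 L43970 L43058 L43965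
theorem L59100 : sm gb N5904 = N9845 := rfl
theorem L59104 : sm gc N9845 = N7073 := ded_13_2 L43979 L43965 L59098 L59094 L59100
theorem L59108 : sm ga N9845 = N6323 := ded_7_1 L39895 L28206 L22256 L22248 L28201 L39866 L37449 L37437 L59100
theorem L59110 : sm gg N7081 = N9845 := ded_21_0 L59104 L43984 L44014
theorem L59111 : sm gg N9845 = N7081 := flp_g L59110
theorem L59122 : sm gb N5906 = N9849 := rfl
theorem L59123 : sm gb N9849 = N5906 := flp_b L59122
theorem L59124 : sm gf N9849 = N5926 := ded_16_2 L37531 L27124 L27053 L37444 L59122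
theorem L59125 : sm gf N5926 = N9849 := flp_f L59124
theorem L59134 : sm gc N5907 = N9851 := rfl
theorem L59140 : sm gf N9851 = N5910 := ded_20_2 L37461 L37451 L59134
theorem L59141 : sm gf N5910 = N9851 := flp_f L59140
theorem L59142 : sm gg N8429 = N9851 := ded_31_0 L59140 L37462 L28340 L37473 L44386 L44427 L44421 L30382 L26762 L26757 L26759 L34032 L34037 L51981
theorem L59144 : sm gb N9851 = N8505 := ded_17_1 L52348 L34025 L33843 L51981 L59142
theorem L59145 : sm gb N8505 = N9851 := flp_b L59144
theorem L59146 : sm gc N8505 = N9849 := ded_13_2 L59123 L37446 L37448 L59134 L59144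
theorem L59147 : sm gc N9849 = N8505 := flp_c L59146
theorem L59148 : sm gg N9849 = N8503 := ded_21_2 L52344 L52347 L59146
theorem L59149 : sm gg N8503 = N9849 := flp_g L59148
theorem L59168 : sm gc N5909 = N9854 := rfl
theorem L59170 : sm ga N9854 = N5910 := ded_8_1 L37461 L37458 L59168
theorem L59174 : sm gf N9854 = N6322 := ded_20_2 L39889 L39865 L59168
theorem L59184 : sm gd N5912 = N9857 := rfl
theorem L59185 : sm gd N9857 = N5912 := flp_d L59184
theorem L59186 : sm ga N9857 = N6352 := ded_9_1 L40061 L37471 L59184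
theorem L59188 : sm gf N9857 = N6355 := ded_23_2 L40075 L37473 L59184
theorem L59190 : sm gd N5913 = N9858 := rfl
theorem L59191 : sm gd N9858 = N5913 := flp_d L59190
theorem L59192 : sm ga N9858 = N7136 := ded_9_1 L44312 L37477 L59190
theorem L59193 : sm ga N7136 = N9858 := flp_a L59192
theorem L59194 : sm gb N9858 = N5914 := ded_14_1 L37481 L37474 L59190
theorem L59196 : sm gf N9858 = N7138 := ded_23_2 L44326 L37478 L59190
theorem L59197 : sm gf N7138 = N9858 := flp_f L59196
theorem L59206 : sm ge N5914 = N9860 := rfl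
theorem L59208 : sm ga N9860 = N5916 := ded_10_1 L37491 L37483 L59206
theorem L59209 : sm ga N5916 = N9860 := flp_a L59208
theorem L59210 : sm gf N9860 = N5938 := ded_25_2 L37585 L37485 L59206
theorem L59211 : sm gf N5938 = N9860 := flp_f L59210
theorem L59232 : sm gg N5916 = N9865 := rfl
theorem L59233 : sm gg N9865 = N5916 := flp_g L59232
theorem L59236 : sm gb N5917 = N9866 := rfl
theorem L59240 : sm gg N9866 = N8386 := ded_17_2 L58944 L58941 L37402 L37494 L59236
theorem L59250 : sm gc N5922 = N9869 := rfl
theorem L59256 : sm gg N9869 = N5958 := ded_21_2 L37661 L37517 L59250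
theorem L59258 : sm gd N9869 = N8016 := ded_28_7 L50583 L46923 L31644 L50391 L24827 L27113 L37512 L59250
theorem L59259 : sm gd N8016 = N9869 := flp_d L59258
theorem L59284 : sm gc N5926 = N9875 := rfl
theorem L59286 : sm gf N9875 = N8505 := ded_20_2 L59146 L59124 L59284
theorem L59287 : sm gf N8505 = N9875 := flp_f L59286
theorem L59290 : sm gg N5926 = N9876 := rfl
theorem L59291 : sm gg N9876 = N5926 := flp_g L59290
theorem L59292 : sm ge N9876 = N6744 := ded_26_1 L50146 L49251 L59290
theorem L59294 : sm gf N6552 = N9876 := ded_25_0 L59292 L41935 L41105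
theorem L59296 : sm ga N8503 = N6552 := ded_29_4 L59294 L59291 L59125 L59148
theorem L59297 : sm ga N6552 = N8503 := flp_a L59296
theorem L59298 : sm gc N6552 = N8502 := ded_8_2 L52342 L52343 L59296
theorem L59300 : sm ge N6742 = N8503 := ded_10_0 L59296 L41104 L41928
theorem L59301 : sm ge N8503 = N6742 := flp_e L59300
theorem L59304 : sm ge N8502 = N6743 := ded_19_2 L41933 L41105 L59298
theorem L59306 : sm gc N9638 = N7972 := ded_13_2 L48967 L32585 L41102 L59298 L57953
theorem L59307 : sm gc N7972 = N9638 := flp_c L59306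
theorem L59316 : sm ge N9639 = N9638 := ded_15_2 L57952 L59304 L57957
theorem L59317 : sm ge N9638 = N9639 := flp_e L59316
theorem L59318 : sm ga N7972 = N9639 := ded_8_1 L57955 L57950 L59306
theorem L59328 : sm gd N5927 = N9877 := rfl
theorem L59332 : sm gg N9877 = N6352 := ded_24_2 L40061 L37537 L59328
theorem L59334 : sm gc N5928 = N9878 := rfl
theorem L59335 : sm gc N9878 = N5928 := flp_c L59334
theorem L59338 : sm gb N5929 = N9880 := rfl
theorem L59342 : sm gc N9880 = N5972 := ded_13_2 L37719 L27256 L27166 L37540 L59338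
theorem L59343 : sm gc N5972 = N9880 := flp_c L59342
theorem L59346 : sm gd N5929 = N9881 := rfl
theorem L59348 : sm ga N9881 = N5931 := ded_9_1 L37555 L37543 L59346
theorem L59349 : sm ga N5931 = N9881 := flp_a L59348
theorem L59350 : sm gf N9881 = N8022 := ded_23_2 L49266 L37547 L59346
theorem L59352 : sm gg N9881 = N7998 := ded_24_2 L49112 L37549 L59346
theorem L59353 : sm gg N7998 = N9881 := flp_g L59352
theorem L59354 : sm gd N5930 = N9882 := rfl
theorem L59355 : sm gd N9882 = N5930 := flp_d L59354
theorem L59356 : sm gb N9882 = N5931 := ded_14_1 L37555 L37550 L59354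
theorem L59357 : sm gb N5931 = N9882 := flp_b L59356
theorem L59364 : sm gc N5931 = N9884 := rfl
theorem L59365 : sm gc N9884 = N5931 := flp_c L59364
theorem L59366 : sm ge N5931 = N9885 := rfl
theorem L59367 : sm ge N9885 = N5931 := flp_e L59366
theorem L59368 : sm gg N5931 = N9886 := rfl
theorem L59369 : sm gg N9886 = N5931 := flp_g L59368
theorem L59370 : sm ga N9886 = N7998 := ded_12_1 L59353 L59348 L59368
theorem L59376 : sm gb N5932 = N9887 := rfl
theorem L59377 : sm gb N9887 = N5932 := flp_b L59376
theorem L59378 : sm ge N9887 = N9801 := ded_15_2 L58734 L37563 L59376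
theorem L59382 : sm gb N5933 = N9888 := rfl
theorem L59383 : sm gb N9888 = N5933 := flp_b L59382
theorem L59384 : sm ge N9888 = N8607 := ded_15_2 L58958 L49269 L59382
theorem L59390 : sm gg N7403 = N9888 := ded_26_0 L59384 L52836 L45830
theorem L59396 : sm gg N5933 = N9890 := rfl
theorem L59397 : sm gg N9890 = N5933 := flp_g L59396
theorem L59398 : sm ga N9890 = N5936 := ded_12_1 L37577 L37566 L59396
theorem L59399 : sm ga N5936 = N9890 := flp_a L59398
theorem L59402 : sm gb N9890 = N7418 := ded_17_1 L45926 L45834 L59390 L59383 L59396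
theorem L59403 : sm gb N7418 = N9890 := flp_b L59402
theorem L59404 : sm gc N5934 = N9891 := rfl
theorem L59405 : sm gc N9891 = N5934 := flp_c L59404
theorem L59406 : sm ge N5934 = N9892 := rfl
theorem L59408 : sm gb N9892 = N5938 := ded_15_1 L37585 L37571 L59406
theorem L59409 : sm gb N5938 = N9892 := flp_b L59408
theorem L59410 : sm gf N5934 = N9893 := rfl
theorem L59411 : sm gf N9893 = N5934 := flp_f L59410
theorem L59412 : sm gd N9893 = N5935 := ded_23_1 L37573 L37568 L59410
theorem L59414 : sm gb N9893 = N7138 := ded_16_1 L59197 L59194 L37484 L37571 L59410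
theorem L59415 : sm gb N7138 = N9893 := flp_b L59414
theorem L59416 : sm gg N5934 = N9894 := rfl
theorem L59417 : sm gg N9894 = N5934 := flp_g L59416
theorem L59418 : sm gd N9894 = N5936 := ded_24_1 L37577 L37568 L59416
theorem L59419 : sm gd N5936 = N9894 := flp_d L59418
theorem L59420 : sm gg N5935 = N9895 := rfl
theorem L59421 : sm gg N9895 = N5935 := flp_g L59420
theorem L59422 : sm gf N9890 = N9895 := ded_29_0 L59421 L37573 L37576 L59399
theorem L59423 : sm gf N9895 = N9890 := flp_f L59422
theorem L59428 : sm gf N5936 = N9897 := rfl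
theorem L59429 : sm gf N9897 = N5936 := flp_f L59428
theorem L59430 : sm ga N9897 = N9895 := ded_11_1 L59423 L59398 L59428
theorem L59434 : sm gg N9897 = N6178 := ded_29_3 L38776 L37573 L37576 L59428
theorem L59435 : sm gg N6178 = N9897 := flp_g L59434
theorem L59440 : sm ge N5937 = N9899 := rfl
theorem L59444 : sm gc N9899 = N5938 := ded_19_1 L37585 L37578 L59440
theorem L59445 : sm gc N5938 = N9899 := flp_c L59444
theorem L59456 : sm gg N5938 = N9901 := rfl
theorem L59457 : sm gg N9901 = N5938 := flp_g L59456
theorem L59460 : sm ge N9901 = N5939 := ded_26_1 L37589 L37584 L59456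
theorem L59462 : sm gf N9901 = N9865 := ded_29_2 L59233 L59209 L59210 L59456
theorem L59468 : sm ga N5940 = N9903 := rfl
theorem L59469 : sm ga N9903 = N5940 := flp_a L59468
theorem L59470 : sm gf N5940 = N9904 := rfl
theorem L59471 : sm gf N9904 = N5940 := flp_f L59470
theorem L59472 : sm gb N9904 = N7102 := ded_16_1 L44144 L37499 L27194 L37596 L59470
theorem L59473 : sm gb N7102 = N9904 := flp_b L59472
theorem L59474 : sm gg N7108 = N9904 := ded_31_0 L59471 L37597 L27188 L27065 L37474 L44373 L44367 L30362 L29325 L29320 L29322 L30268 L30271 L44168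
theorem L59475 : sm gg N9904 = N7108 := flp_g L59474
theorem L59552 : sm gb N5949 = N9922 := rfl
theorem L59553 : sm gb N9922 = N5949 := flp_b L59552
theorem L59554 : sm gf N9922 = N5950 := ded_16_2 L37635 L27206 L27203 L37632 L59552
theorem L59558 : sm ga N6004 = N9922 := ded_30_19 L59554 L37636 L32864 L24940 L24979 L24981 L20672 L24907 L24905 L24898 L50513 L28287 L28311 L28315 L27088 L24865 L24974 L27347 L37884
theorem L59559 : sm ga N9922 = N6004 := flp_a L59558
theorem L59560 : sm ga N5950 = N9923 := rfl
theorem L59562 : sm gc N9923 = N6008 := ded_8_2 L50603 L37637 L59560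
theorem L59564 : sm ge N9923 = N9922 := ded_10_2 L59559 L37886 L59560
theorem L59566 : sm gf N9923 = N6004 := ded_11_2 L59558 L59554 L59560
theorem L59568 : sm gb N8035 = N9923 := ded_15_3 L59564 L59553 L49326
theorem L59588 : sm ga N5961 = N9926 := rfl
theorem L59589 : sm ga N9926 = N5961 := flp_a L59588
theorem L59590 : sm gg N5961 = N9927 := rfl
theorem L59591 : sm gg N9927 = N5961 := flp_g L59590
theorem L59592 : sm gb N9927 = N9876 := ded_17_1 L59291 L37531 L27233 L37678 L59590
theorem L59593 : sm gb N9876 = N9927 := flp_b L59592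
theorem L59612 : sm gf N5963 = N9931 := rfl
theorem L59613 : sm gf N9931 = N5963 := flp_f L59612
theorem L59614 : sm ga N9931 = N8047 := ded_11_1 L49381 L37685 L59612
theorem L59616 : sm gc N9931 = N7485 := ded_20_1 L46298 L50422 L59612
theorem L59620 : sm ge N9931 = N7501 := ded_25_1 L46370 L50424 L59612
theorem L59621 : sm ge N7501 = N9931 := flp_e L59620
theorem L59652 : sm ga N5967 = N9937 := rfl
theorem L59654 : sm gd N9937 = N5969 := ded_9_2 L37713 L37703 L59652
theorem L59656 : sm gb N6515 = N9937 := ded_14_3 L59654 L59030 L40908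
theorem L59657 : sm gb N9937 = N6515 := flp_b L59656
theorem L59660 : sm gg N5967 = N9939 := rfl
theorem L59661 : sm gg N9939 = N5967 := flp_g L59660
theorem L59662 : sm gd N9939 = N5970 := ded_24_1 L37715 L37703 L59660
theorem L59663 : sm gd N5970 = N9939 := flp_d L59662
theorem L59668 : sm gg N5969 = N9941 := rfl
theorem L59669 : sm gg N9941 = N5969 := flp_g L59668
theorem L59672 : sm ge N9941 = N6718 := ded_26_1 L41847 L59033 L59668
theorem L59673 : sm ge N6718 = N9941 := flp_e L59672
theorem L59676 : sm gb N5970 = N9942 := rfl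
theorem L59677 : sm gb N9942 = N5970 := flp_b L59676
theorem L59688 : sm ga N5972 = N9945 := rfl
theorem L59689 : sm ga N9945 = N5972 := flp_a L59688
theorem L59692 : sm gb N9945 = N8734 := ded_7_2 L53503 L53507 L53513 L45443 L37733 L27270 L27258 L37718 L59688
theorem L59693 : sm gb N8734 = N9945 := flp_b L59692
theorem L59694 : sm gd N5972 = N9946 := rfl
theorem L59696 : sm gb N9946 = N5973 := ded_14_1 L37721 L37718 L59694
theorem L59700 : sm gc N5973 = N9948 := rfl
theorem L59701 : sm gc N9948 = N5973 := flp_c L59700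
theorem L59702 : sm ga N9948 = N5979 := ded_8_1 L37749 L37723 L59700
theorem L59703 : sm ga N5979 = N9948 := flp_a L59702
theorem L59704 : sm gd N6356 = N9948 := ded_28_1 L59701 L37721 L27256 L22387 L28333 L40074 L40076 L40080
theorem L59705 : sm gd N9948 = N6356 := flp_d L59704
theorem L59706 : sm ge N5973 = N9949 := rfl
theorem L59707 : sm ge N9949 = N5973 := flp_e L59706
theorem L59708 : sm ga N9949 = N5980 := ded_10_1 L37751 L37723 L59706
theorem L59709 : sm ga N5980 = N9949 := flp_a L59708
theorem L59710 : sm gf N5973 = N9950 := rfl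
theorem L59711 : sm gf N9950 = N5973 := flp_f L59710
theorem L59712 : sm ga N9950 = N5981 := ded_11_1 L37753 L37723 L59710
theorem L59713 : sm ga N5981 = N9950 := flp_a L59712
theorem L59714 : sm gd N9950 = N5974 := ded_23_1 L37725 L37720 L59710
theorem L59715 : sm gd N5974 = N9950 := flp_d L59714
theorem L59720 : sm gg N5975 = N9952 := rfl
theorem L59722 : sm ga N9952 = N5978 := ded_12_1 L37745 L37732 L59720
theorem L59723 : sm ga N5978 = N9952 := flp_a L59722
theorem L59724 : sm gc N9952 = N5989 := ded_21_1 L37793 L37735 L59720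
theorem L59728 : sm ge N5976 = N9954 := rfl
theorem L59729 : sm ge N9954 = N5976 := flp_e L59728
theorem L59730 : sm gb N9954 = N5980 := ded_15_1 L37751 L37739 L59728
theorem L59736 : sm gg N5976 = N9956 := rfl
theorem L59738 : sm gd N9956 = N5978 := ded_24_1 L37745 L37736 L59736
theorem L59739 : sm gd N5978 = N9956 := flp_d L59738
theorem L59740 : sm gb N5977 = N9957 := rfl
theorem L59741 : sm gb N9957 = N5977 := flp_b L59740
theorem L59742 : sm gc N9957 = N6048 := ded_13_2 L38083 L27474 L27316 L37743 L59740
theorem L59743 : sm gc N6048 = N9957 := flp_c L59742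
theorem L59744 : sm gf N9957 = N5983 := ded_16_2 L37761 L27276 L27269 L37740 L59740
theorem L59752 : sm gb N5978 = N9959 := rfl
theorem L59753 : sm gb N9959 = N5978 := flp_b L59752
theorem L59754 : sm gg N9959 = N5985 := ded_17_2 L37773 L27280 L27269 L37744 L59752
theorem L59756 : sm gf N5978 = N9960 := rfl
theorem L59757 : sm gf N9960 = N5978 := flp_f L59756
theorem L59762 : sm ge N9960 = N8252 := ded_25_1 L51123 L39084 L59756
theorem L59763 : sm ge N8252 = N9960 := flp_e L59762
theorem L59766 : sm gb N5979 = N9961 := rfl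
theorem L59767 : sm gb N9961 = N5979 := flp_b L59766
theorem L59768 : sm gd N5979 = N9962 := rfl
theorem L59769 : sm gd N9962 = N5979 := flp_d L59768
theorem L59770 : sm ga N9962 = N6356 := ded_9_1 L59704 L59702 L59768
theorem L59771 : sm ga N6356 = N9962 := flp_a L59770
theorem L59772 : sm gc N6355 = N9962 := ded_28_0 L59769 L37749 L27274 L21770 L19407 L22390 L28341 L40077
theorem L59774 : sm gg N9962 = N9878 := ded_21_2 L59335 L40079 L59772
theorem L59775 : sm gg N9878 = N9962 := flp_g L59774
theorem L59776 : sm ge N5979 = N9963 := rfl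
theorem L59777 : sm ge N9963 = N5979 := flp_e L59776
theorem L59778 : sm gc N9963 = N5980 := ded_19_1 L37751 L37748 L59776
theorem L59780 : sm gf N5979 = N9964 := rfl
theorem L59781 : sm gf N9964 = N5979 := flp_f L59780
theorem L59784 : sm gg N5979 = N9965 := rfl
theorem L59785 : sm gg N9965 = N5979 := flp_g L59784
theorem L59788 : sm gd N9965 = N9878 := ded_24_1 L59775 L59769 L59784
theorem L59789 : sm gd N9878 = N9965 := flp_d L59788
theorem L59790 : sm gf N5980 = N9966 := rfl
theorem L59791 : sm gf N9966 = N5980 := flp_f L59790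
theorem L59792 : sm ge N9966 = N5981 := ded_25_1 L37753 L37750 L59790
theorem L59794 : sm gg N5980 = N9967 := rfl
theorem L59795 : sm gg N9967 = N5980 := flp_g L59794
theorem L59796 : sm ge N9967 = N5982 := ded_26_1 L37757 L37750 L59794
theorem L59797 : sm ge N5982 = N9967 := flp_e L59796
theorem L59798 : sm gb N5981 = N9968 := rfl
theorem L59799 : sm gb N9968 = N5981 := flp_b L59798
theorem L59800 : sm gd N9968 = N5983 := ded_14_2 L37761 L37755 L59798
theorem L59801 : sm gd N5983 = N9968 := flp_d L59800
theorem L59802 : sm gg N5981 = N9969 := rfl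
theorem L59803 : sm gg N9969 = N5981 := flp_g L59802
theorem L59804 : sm gd N9969 = N5984 := ded_24_1 L37765 L37755 L59802
theorem L59805 : sm gd N5984 = N9969 := flp_d L59804
theorem L59806 : sm gf N8020 = N9969 := ded_29_0 L59803 L37753 L37756 L49256
theorem L59807 : sm gf N9969 = N8020 := flp_f L59806
theorem L59808 : sm gb N5982 = N9970 := rfl
theorem L59809 : sm gb N9970 = N5982 := flp_b L59808
theorem L59810 : sm gd N9970 = N5985 := ded_14_2 L37773 L37759 L59808
theorem L59812 : sm gf N5982 = N9971 := rfl
theorem L59813 : sm gf N9971 = N5982 := flp_f L59812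
theorem L59816 : sm gd N9971 = N5986 := ded_23_1 L37775 L37759 L59812
theorem L59817 : sm gd N5986 = N9971 := flp_d L59816
theorem L59818 : sm gg N9971 = N9950 := ded_29_3 L59712 L37753 L37756 L59812
theorem L59820 : sm ga N5983 = N9972 := rfl
theorem L59821 : sm ga N9972 = N5983 := flp_a L59820
theorem L59824 : sm gg N5983 = N9973 := rfl
theorem L59825 : sm gg N9973 = N5983 := flp_g L59824
theorem L59826 : sm gc N9973 = N6053 := ded_21_1 L38121 L37763 L59824
theorem L59827 : sm gc N6053 = N9973 := flp_c L59826
theorem L59838 : sm gb N5986 = N9977 := rfl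
theorem L59839 : sm gb N9977 = N5986 := flp_b L59838
theorem L59852 : sm gb N5990 = N9979 := rfl
theorem L59856 : sm gf N9979 = N6183 := ded_16_2 L38795 L38798 L42939 L37802 L59852
theorem L59860 : sm ga N9979 = N6966 := ded_7_1 L43310 L29877 L23250 L19877 L23355 L30126 L38708 L37806 L59852
theorem L59861 : sm ga N6966 = N9979 := flp_a L59860
theorem L59866 : sm gf N5993 = N9981 := rfl
theorem L59867 : sm gf N9981 = N5993 := flp_f L59866
theorem L59886 : sm gg N5996 = N9985 := rfl
theorem L59887 : sm gg N9985 = N5996 := flp_g L59886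
theorem L59890 : sm gc N9985 = N5997 := ded_21_1 L37855 L37853 L59886
theorem L59892 : sm gf N6979 = N9985 := ded_29_0 L59887 L37851 L35259 L43377
theorem L59906 : sm gc N5999 = N9990 := rfl
theorem L59907 : sm gc N9990 = N5999 := flp_c L59906
theorem L59908 : sm ga N9990 = N6000 := ded_8_1 L37871 L37867 L59906
theorem L59909 : sm ga N6000 = N9990 := flp_a L59908
theorem L59912 : sm gd N6369 = N9990 := ded_28_1 L59907 L37865 L27334 L22419 L28390 L40149 L40151 L40155
theorem L59913 : sm gd N9990 = N6369 := flp_d L59912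
theorem L59956 : sm gg N6004 = N9999 := rfl
theorem L59958 : sm gc N9999 = N6009 := ded_21_1 L37903 L37889 L59956
theorem L59959 : sm gc N6009 = N9999 := flp_c L59958
theorem L59964 : sm gb N9999 = N6757 := ded_17_1 L41992 L41960 L32730 L37884 L59956
theorem L59965 : sm gb N6757 = N9999 := flp_b L59964
theorem L59990 : sm gg N6006 = N10004 := rfl
theorem L59991 : sm gg N10004 = N6006 := flp_g L59990
theorem L59992 : sm ga N10004 = N6009 := ded_12_1 L37903 L37894 L59990
theorem L60016 : sm gg N6008 = N10010 := rfl
theorem L60018 : sm ga N10010 = N8057 := ded_12_1 L49429 L50604 L60016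
theorem L60020 : sm ge N10010 = N10004 := ded_26_1 L59991 L50606 L60016
theorem L60076 : sm ge N6015 = N10023 := rfl
theorem L60078 : sm ga N10023 = N8062 := ded_10_1 L49455 L37929 L60076
theorem L60080 : sm gc N10023 = N8058 := ded_19_1 L49433 L37930 L60076
theorem L60081 : sm gc N8058 = N10023 := flp_c L60080
theorem L60100 : sm gg N6017 = N10028 := rfl
theorem L60101 : sm gg N10028 = N6017 := flp_g L60100
theorem L60106 : sm gf N9990 = N10028 := ded_29_0 L60101 L37937 L37873 L59909
theorem L60107 : sm gf N10028 = N9990 := flp_f L60106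
theorem L60112 : sm gg N6018 = N10030 := rfl
theorem L60113 : sm gg N10030 = N6018 := flp_g L60112
theorem L60120 : sm ga N6019 = N10031 := rfl
theorem L60122 : sm gd N10031 = N6021 := ded_9_2 L37957 L37947 L60120
theorem L60126 : sm gg N6019 = N10033 := rfl
theorem L60128 : sm gd N10033 = N6022 := ded_24_1 L37961 L37947 L60126
theorem L60134 : sm gb N6021 = N10035 := rfl
theorem L60135 : sm gb N10035 = N6021 := flp_b L60134
theorem L60136 : sm gg N6021 = N10036 := rfl
theorem L60137 : sm gg N10036 = N6021 := flp_g L60136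
theorem L60138 : sm ga N10036 = N6022 := ded_12_1 L37961 L37956 L60136
theorem L60139 : sm ga N6022 = N10036 := flp_a L60138
theorem L60140 : sm gc N10036 = N9941 := ded_21_1 L59669 L37959 L60136
theorem L60141 : sm gc N9941 = N10036 := flp_c L60140
theorem L60142 : sm gf N10036 = N9008 := ded_29_2 L54894 L54887 L54891 L60136
theorem L60143 : sm gf N9008 = N10036 := flp_f L60142
theorem L60144 : sm gb N6022 = N10037 := rfl
theorem L60145 : sm gb N10037 = N6022 := flp_b L60144
theorem L60148 : sm gf N6022 = N10038 := rfl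
theorem L60150 : sm ga N10038 = N9008 := ded_11_1 L60143 L60138 L60148
theorem L60154 : sm gg N10038 = N9007 := ded_29_3 L54888 L35336 L37960 L60148
theorem L60174 : sm gd N6025 = N10043 := rfl
theorem L60175 : sm gd N10043 = N6025 := flp_d L60174
theorem L60176 : sm ga N10043 = N6027 := ded_9_1 L37989 L37977 L60174
theorem L60178 : sm gf N10043 = N6353 := ded_23_2 L40065 L37981 L60174
theorem L60179 : sm gf N6353 = N10043 := flp_f L60178
theorem L60194 : sm gd N6029 = N10047 := rfl
theorem L60196 : sm ga N10047 = N6030 := ded_9_1 L38001 L37998 L60194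
theorem L60210 : sm ge N6030 = N10050 := rfl
theorem L60212 : sm gb N10050 = N6034 := ded_15_1 L38017 L38003 L60210
theorem L60222 : sm gf N6032 = N10053 := rfl
theorem L60230 : sm gg N10053 = N7924 := ded_29_3 L48671 L39385 L38007 L60222
theorem L60253 : sm gg N6034 = N10057 := rfl
theorem L60257 : sm ge N10057 = N6035 := ded_26_1 L38022 L38016 L60253
theorem L60279 : sm gd N6037 = N10062 := rfl
theorem L60280 : sm gd N10062 = N6037 := flp_d L60279
theorem L60281 : sm gb N10062 = N6038 := ded_14_1 L38034 L38031 L60279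
theorem L60282 : sm gb N6038 = N10062 := flp_b L60281
theorem L60299 : sm gg N6038 = N10067 := rfl
theorem L60300 : sm gg N10067 = N6038 := flp_g L60299
theorem L60305 : sm gd N10067 = N6040 := ded_24_1 L38046 L38033 L60299
theorem L60306 : sm gd N6040 = N10067 := flp_d L60305
theorem L60312 : sm gg N6039 = N10069 := rfl
theorem L60314 : sm gc N10069 = N6041 := ded_21_1 L38050 L38043 L60312
theorem L60315 : sm gc N6041 = N10069 := flp_c L60314
theorem L60316 : sm ge N10069 = N6040 := ded_26_1 L38046 L38040 L60312
theorem L60360 : sm gg N6048 = N10079 := rfl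
theorem L60361 : sm gg N10079 = N6048 := flp_g L60360
theorem L60362 : sm gd N10079 = N8172 := ded_24_1 L50734 L38085 L60360
theorem L60363 : sm gd N8172 = N10079 := flp_d L60362
theorem L60386 : sm gb N6052 = N10083 := rfl
theorem L60387 : sm gb N10083 = N6052 := flp_b L60386
theorem L60388 : sm gd N10083 = N8794 := ded_14_2 L53842 L38119 L60386
theorem L60390 : sm gg N6052 = N10084 := rfl
theorem L60391 : sm gg N10084 = N6052 := flp_g L60390
theorem L60392 : sm ga N10084 = N6053 := ded_12_1 L38121 L38116 L60390
theorem L60393 : sm ga N6053 = N10084 := flp_a L60392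
theorem L60398 : sm gb N6053 = N10085 := rfl
theorem L60399 : sm gb N10085 = N6053 := flp_b L60398
theorem L60400 : sm gd N10085 = N8799 := ded_14_2 L53870 L38123 L60398
theorem L60401 : sm gd N8799 = N10085 := flp_d L60400
theorem L60412 : sm ga N6054 = N10087 := rfl
theorem L60416 : sm gf N10087 = N9926 := ded_11_2 L59589 L50560 L60412
theorem L60417 : sm gf N9926 = N10087 := flp_f L60416
theorem L60418 : sm gb N6057 = N10088 := rfl
theorem L60419 : sm gb N10088 = N6057 := flp_b L60418
theorem L60422 : sm gc N10088 = N9904 := ded_13_2 L59472 L44142 L51747 L51756 L60418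
theorem L60423 : sm gc N9904 = N10088 := flp_c L60422
theorem L60426 : sm ga N6058 = N10089 := rfl
theorem L60427 : sm ga N10089 = N6058 := flp_a L60426
theorem L60428 : sm gc N10089 = N9903 := ded_8_2 L59469 L38145 L60426
theorem L60440 : sm gc N6061 = N10091 := rfl
theorem L60441 : sm gc N10091 = N6061 := flp_c L60440
theorem L60442 : sm ge N10091 = N7048 := ded_19_2 L43806 L38962 L60440
theorem L60444 : sm gf N10091 = N6894 := ded_20_2 L42803 L38165 L60440
theorem L60445 : sm gf N6894 = N10091 := flp_f L60444
theorem L60448 : sm gg N6061 = N10092 := rfl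
theorem L60449 : sm gg N10092 = N6061 := flp_g L60448
theorem L60450 : sm ga N10092 = N7048 := ded_12_1 L43810 L43411 L60448
theorem L60452 : sm gd N10092 = N6895 := ded_24_1 L42809 L38163 L60448
theorem L60454 : sm gf N6144 = N10092 := ded_29_0 L60449 L38164 L42808 L42817
theorem L60455 : sm gf N10092 = N6144 := flp_f L60454
theorem L60456 : sm gb N10092 = N6906 := ded_17_1 L42959 L38191 L27555 L38160 L60448
theorem L60458 : sm gc N6063 = N10093 := rfl
theorem L60459 : sm gc N10093 = N6063 := flp_c L60458
theorem L60460 : sm gb N6066 = N10094 := rfl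
theorem L60464 : sm gf N10094 = N6067 := ded_16_2 L38191 L27550 L27543 L38186 L60460
theorem L60468 : sm ga N10094 = N6921 := ded_7_1 L43069 L29825 L23234 L19851 L23315 L30038 L43023 L39213 L60460
theorem L60469 : sm ga N6921 = N10094 := flp_a L60468
theorem L60472 : sm gf N6068 = N10096 := rfl
theorem L60476 : sm gc N10096 = N8100 := ded_20_1 L49698 L39373 L60472
theorem L60480 : sm gg N10096 = N6924 := ded_29_3 L56784 L56780 L43077 L60472
theorem L60481 : sm gg N6924 = N10096 := flp_g L60480
theorem L60500 : sm gd N6076 = N10100 := rfl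
theorem L60504 : sm gg N10100 = N7542 := ded_24_2 L54491 L54489 L60500
theorem L60505 : sm gg N7542 = N10100 := flp_g L60504
theorem L60548 : sm ge N6083 = N10109 := rfl
theorem L60549 : sm ge N10109 = N6083 := flp_e L60548
theorem L60556 : sm gb N6084 = N10111 := rfl
theorem L60557 : sm gb N10111 = N6084 := flp_b L60556
theorem L60560 : sm gg N10111 = N6092 := ded_17_2 L38309 L27618 L27592 L38272 L60556
theorem L60572 : sm gd N6086 = N10114 := rfl
theorem L60574 : sm gb N10114 = N6087 := ded_14_1 L38287 L38284 L60572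
theorem L60575 : sm gb N6087 = N10114 := flp_b L60574
theorem L60578 : sm gc N6087 = N10116 := rfl
theorem L60579 : sm gc N10116 = N6087 := flp_c L60578
theorem L60584 : sm ge N6087 = N10117 := rfl
theorem L60585 : sm ge N10117 = N6087 := flp_e L60584
theorem L60588 : sm gg N6087 = N10118 := rfl
theorem L60589 : sm gg N10118 = N6087 := flp_g L60588
theorem L60592 : sm gd N10118 = N6088 := ded_24_1 L38291 L38286 L60588
theorem L60593 : sm gd N6088 = N10118 := flp_d L60592
theorem L60602 : sm gb N6089 = N10120 := rfl
theorem L60603 : sm gb N10120 = N6089 := flp_b L60602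
theorem L60612 : sm ge N6089 = N10122 := rfl
theorem L60613 : sm ge N10122 = N6089 := flp_e L60612
theorem L60624 : sm gb N6091 = N10125 := rfl
theorem L60625 : sm gb N10125 = N6091 := flp_b L60624
theorem L60626 : sm gd N10125 = N6092 := ded_14_2 L38309 L38307 L60624
theorem L60627 : sm gd N6092 = N10125 := flp_d L60626
theorem L60642 : sm gc N6093 = N10129 := rfl
theorem L60643 : sm gc N10129 = N6093 := flp_c L60642
theorem L60646 : sm gb N10129 = N8163 := ded_13_1 L50690 L33209 L27626 L38312 L60642
theorem L60647 : sm gb N8163 = N10129 := flp_b L60646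
theorem L60648 : sm gg N6093 = N10130 := rfl
theorem L60649 : sm gg N10130 = N6093 := flp_g L60648
theorem L60650 : sm gd N10130 = N6097 := ded_24_1 L38339 L38315 L60648
theorem L60651 : sm gd N6097 = N10130 := flp_d L60650
theorem L60668 : sm gb N6095 = N10134 := rfl
theorem L60669 : sm gb N10134 = N6095 := flp_b L60668
theorem L60670 : sm ge N10134 = N6144 := ded_15_2 L38607 L38327 L60668
theorem L60674 : sm ga N10134 = N6894 := ded_7_1 L42804 L42118 L38399 L27686 L21970 L21930 L27637 L38324 L60668
theorem L60675 : sm ga N6894 = N10134 := flp_a L60674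
theorem L60676 : sm gc N6893 = N10134 := ded_30_1 L60669 L38325 L27641 L37315 L37317 L37332 L37564 L37560 L27179 L21845 L19151 L19148 L21851 L22579 L28629 L28633 L38160 L43412 L43409
theorem L60677 : sm gc N10134 = N6893 := flp_c L60676
theorem L60712 : sm ga N6101 = N10140 := rfl
theorem L60714 : sm gd N10140 = N8126 := ded_9_2 L49846 L38363 L60712
theorem L60715 : sm gd N8126 = N10140 := flp_d L60714
theorem L60716 : sm ge N10140 = N7049 := ded_10_2 L43814 L39460 L60712
theorem L60732 : sm ga N6102 = N10143 := rfl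
theorem L60733 : sm ga N10143 = N6102 := flp_a L60732
theorem L60738 : sm gg N10143 = N6806 := ded_12_2 L42315 L38373 L60732
theorem L60739 : sm gg N6806 = N10143 := flp_g L60738
theorem L60740 : sm gf N6102 = N10144 := rfl
theorem L60744 : sm gd N10144 = N8131 := ded_23_1 L49860 L38369 L60740
theorem L60745 : sm gd N8131 = N10144 := flp_d L60744
theorem L60746 : sm gb N6103 = N10145 := rfl
theorem L60747 : sm gb N10145 = N6103 := flp_b L60746
theorem L60748 : sm gd N10145 = N6108 := ded_14_2 L38399 L38377 L60746
theorem L60749 : sm gd N6108 = N10145 := flp_d L60748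
theorem L60750 : sm gc N6103 = N10146 := rfl
theorem L60751 : sm gc N10146 = N6103 := flp_c L60750
theorem L60754 : sm gf N10146 = N6120 := ded_20_2 L38469 L38379 L60750
theorem L60764 : sm gb N6105 = N10149 := rfl
theorem L60766 : sm gd N10149 = N6112 := ded_14_2 L38423 L38387 L60764
theorem L60768 : sm gg N10149 = N6106 := ded_17_2 L38389 L27672 L27665 L38384 L60764
theorem L60769 : sm gg N6106 = N10149 := flp_g L60768
theorem L60770 : sm ga N6106 = N10150 := rfl
theorem L60771 : sm ga N10150 = N6106 := flp_a L60770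
theorem L60782 : sm ga N6107 = N10153 := rfl
theorem L60786 : sm gf N10153 = N6266 := ded_11_2 L39553 L38397 L60782
theorem L60787 : sm gf N6266 = N10153 := flp_f L60786
theorem L60792 : sm gg N6107 = N10155 := rfl
theorem L60793 : sm gg N10155 = N6107 := flp_g L60792
theorem L60796 : sm gb N10155 = N10130 := ded_17_1 L60649 L38313 L27684 L38392 L60792
theorem L60798 : sm gg N6108 = N10156 := rfl
theorem L60800 : sm ga N10156 = N6781 := ded_12_1 L42152 L42118 L60798
theorem L60801 : sm ga N6781 = N10156 := flp_a L60800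
theorem L60804 : sm ge N10156 = N6155 := ded_26_1 L38651 L38401 L60798
theorem L60808 : sm gb N6109 = N10157 := rfl
theorem L60809 : sm gb N10157 = N6109 := flp_b L60808
theorem L60810 : sm ge N10157 = N6156 := ded_15_2 L38659 L38407 L60808
theorem L60811 : sm ge N6156 = N10157 := flp_e L60810
theorem L60812 : sm gd N6109 = N10158 := rfl
theorem L60814 : sm ga N10158 = N6110 := ded_9_1 L38411 L38405 L60812
theorem L60815 : sm ga N6110 = N10158 := flp_a L60814
theorem L60816 : sm gf N10158 = N6130 := ded_23_2 L38517 L38409 L60812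
theorem L60830 : sm gg N6110 = N10161 := rfl
theorem L60831 : sm gg N10161 = N6110 := flp_g L60830
theorem L60832 : sm gd N10161 = N6111 := ded_24_1 L38417 L38410 L60830
theorem L60840 : sm ga N6112 = N10163 := rfl
theorem L60841 : sm ga N10163 = N6112 := flp_a L60840
theorem L60844 : sm gg N10163 = N6113 := ded_12_2 L38429 L38427 L60840
theorem L60845 : sm gg N6113 = N10163 := flp_g L60844
theorem L60852 : sm gf N6112 = N10165 := rfl
theorem L60862 : sm gf N6113 = N10167 := rfl
theorem L60863 : sm gf N10167 = N6113 := flp_f L60862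
theorem L60864 : sm ga N10167 = N6115 := ded_11_1 L38439 L38428 L60862
theorem L60868 : sm gg N10165 = N10167 := ded_29_1 L60863 L60845 L60841 L60852
theorem L60882 : sm gg N6115 = N10170 := rfl
theorem L60883 : sm gg N10170 = N6115 := flp_g L60882
theorem L60884 : sm ga N10170 = N10165 := ded_12_1 L60868 L60864 L60882
theorem L60885 : sm ga N10165 = N10170 := flp_a L60884
theorem L60890 : sm gb N6116 = N10171 := rfl
theorem L60891 : sm gb N10171 = N6116 := flp_b L60890
theorem L60892 : sm ge N10171 = N6171 := ded_15_2 L38723 L38447 L60890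
theorem L60896 : sm gf N7081 = N10171 := ded_31_1 L60891 L39679 L39673 L28089 L27986 L27946 L27942 L27947 L27952 L42909 L34340 L37434 L59100 L59111
theorem L60930 : sm gf N6119 = N10177 := rfl
theorem L60932 : sm gd N10177 = N6127 := ded_23_1 L38505 L38467 L60930
theorem L60933 : sm gd N6127 = N10177 := flp_d L60932
theorem L60938 : sm gb N6120 = N10179 := rfl
theorem L60939 : sm gb N10179 = N6120 := flp_b L60938
theorem L60940 : sm gd N6120 = N10180 := rfl
theorem L60941 : sm gd N10180 = N6120 := flp_d L60940
theorem L60942 : sm ga N10180 = N6122 := ded_9_1 L38481 L38471 L60940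
theorem L60943 : sm ga N6122 = N10180 := flp_a L60942
theorem L60944 : sm gg N6120 = N10181 := rfl
theorem L60945 : sm gg N10181 = N6120 := flp_g L60944
theorem L60972 : sm gf N6123 = N10187 := rfl
theorem L60973 : sm gf N10187 = N6123 := flp_f L60972
theorem L60976 : sm gc N10187 = N6124 := ded_20_1 L38489 L38487 L60972
theorem L60977 : sm gc N6124 = N10187 := flp_c L60976
theorem L60986 : sm gg N6125 = N10189 := rfl
theorem L60988 : sm ga N10189 = N6128 := ded_12_1 L38509 L38496 L60986
theorem L60989 : sm ga N6128 = N10189 := flp_a L60988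
theorem L60990 : sm gc N10189 = N6700 := ded_21_1 L41779 L38755 L60986
theorem L60994 : sm gb N6126 = N10190 := rfl
theorem L60995 : sm gb N10190 = N6126 := flp_b L60994
theorem L60996 : sm ge N10190 = N6178 := ded_15_2 L38773 L38503 L60994
theorem L60998 : sm gc N10190 = N6129 := ded_13_2 L38513 L27732 L27727 L38500 L60994
theorem L60999 : sm gc N6129 = N10190 := flp_c L60998
theorem L61000 : sm ga N10190 = N6748 := ded_7_1 L41945 L29315 L22920 L19670 L19653 L22860 L29224 L38753 L60994
theorem L61001 : sm ga N6748 = N10190 := flp_a L61000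
theorem L61002 : sm gf N8023 = N10190 := ded_25_0 L60996 L38779 L49270
theorem L61008 : sm gf N6126 = N10192 := rfl
theorem L61009 : sm gf N10192 = N6126 := flp_f L61008
theorem L61012 : sm gc N10192 = N6127 := ded_20_1 L38505 L38500 L61008
theorem L61013 : sm gc N6127 = N10192 := flp_c L61012
theorem L61014 : sm ge N10192 = N6180 := ded_25_1 L38783 L38503 L61008
theorem L61015 : sm ge N6180 = N10192 := flp_e L61014
theorem L61018 : sm gg N6126 = N10193 := rfl
theorem L61019 : sm gg N10193 = N6126 := flp_g L61018
theorem L61020 : sm ga N10193 = N6700 := ded_12_1 L41779 L38753 L61018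
theorem L61021 : sm ga N6700 = N10193 := flp_a L61020
theorem L61024 : sm ge N10193 = N6181 := ded_26_1 L38787 L38503 L61018
theorem L61025 : sm ge N6181 = N10193 := flp_e L61024
theorem L61026 : sm gg N6127 = N10194 := rfl
theorem L61027 : sm gg N10194 = N6127 := flp_g L61026
theorem L61030 : sm gf N10189 = N10194 := ded_29_0 L61027 L38505 L38508 L60989
theorem L61031 : sm gf N10194 = N10189 := flp_f L61030
theorem L61034 : sm gb N6128 = N10195 := rfl
theorem L61035 : sm gb N10195 = N6128 := flp_b L61034
theorem L61036 : sm ge N10195 = N6183 := ded_15_2 L38795 L38511 L61034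
theorem L61038 : sm gg N10195 = N6132 := ded_17_2 L38531 L27738 L27727 L38508 L61034
theorem L61040 : sm gf N6128 = N10196 := rfl
theorem L61048 : sm gb N10196 = N6240 := ded_31_2 L39069 L38989 L38991 L51093 L51102 L42757 L42753 L38561 L38557 L27761 L27689 L27727 L38508 L61040
theorem L61050 : sm ga N6129 = N10197 := rfl
theorem L61051 : sm ga N10197 = N6129 := flp_a L61050
theorem L61052 : sm gc N10197 = N6748 := ded_8_2 L61001 L60998 L61050
theorem L61056 : sm gf N10197 = N8021 := ded_30_4 L49263 L32783 L24859 L24812 L24808 L20591 L20563 L20561 L24237 L19225 L7501 L7502 L19195 L21969 L27685 L27689 L27731 L38512 L61050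
theorem L61057 : sm gf N8021 = N10197 := flp_f L61056
theorem L61062 : sm gf N6129 = N10199 := rfl
theorem L61063 : sm gf N10199 = N6129 := flp_f L61062
theorem L61064 : sm ga N10199 = N8021 := ded_11_1 L61057 L61051 L61062
theorem L61066 : sm gc N10199 = N8023 := ded_20_1 L61002 L60998 L61062
theorem L61068 : sm ge N10199 = N6187 := ded_25_1 L38815 L38515 L61062
theorem L61074 : sm gc N6130 = N10201 := rfl
theorem L61075 : sm gc N10201 = N6130 := flp_c L61074
theorem L61076 : sm ga N10201 = N6133 := ded_8_1 L38535 L38519 L61074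
theorem L61077 : sm ga N6133 = N10201 := flp_a L61076
theorem L61080 : sm ge N6130 = N10202 := rfl
theorem L61081 : sm ge N10202 = N6130 := flp_e L61080
theorem L61086 : sm gg N6130 = N10203 := rfl
theorem L61088 : sm ga N10203 = N6135 := ded_12_1 L38543 L38519 L61086
theorem L61089 : sm ga N6135 = N10203 := flp_a L61088
theorem L61092 : sm gf N10203 = N10161 := ded_29_2 L60831 L60815 L60816 L61086
theorem L61093 : sm gf N10161 = N10203 := flp_f L61092
theorem L61094 : sm gb N6131 = N10204 := rfl
theorem L61095 : sm gb N10204 = N6131 := flp_b L61094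
theorem L61096 : sm ge N10204 = N6192 := ded_15_2 L38841 L38527 L61094
theorem L61097 : sm ge N6192 = N10204 := flp_e L61096
theorem L61110 : sm gd N6133 = N10207 := rfl
theorem L61111 : sm gd N10207 = N6133 := flp_d L61110
theorem L61114 : sm gc N10180 = N10207 := ded_28_0 L61111 L38535 L27746 L22002 L21996 L27717 L38480 L60943
theorem L61120 : sm gg N6133 = N10209 := rfl
theorem L61122 : sm gc N10209 = N6135 := ded_21_1 L38543 L38534 L61120
theorem L61130 : sm gf N6135 = N10211 := rfl
theorem L61132 : sm ga N10211 = N10161 := ded_11_1 L61093 L61088 L61130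
theorem L61136 : sm gg N10211 = N10158 := ded_29_3 L60814 L38414 L38542 L61130
theorem L61142 : sm ga N6137 = N10213 := rfl
theorem L61143 : sm ga N10213 = N6137 := flp_a L61142
theorem L61146 : sm gf N10213 = N6880 := ded_11_2 L42745 L38561 L61142
theorem L61160 : sm gc N6138 = N10216 := rfl
theorem L61161 : sm gc N10216 = N6138 := flp_c L61160
theorem L61162 : sm ga N10216 = N6139 := ded_8_1 L38575 L38562 L61160
theorem L61163 : sm ga N6139 = N10216 := flp_a L61162
theorem L61166 : sm gf N10216 = N6145 := ded_20_2 L38609 L38569 L61160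
theorem L61167 : sm gf N6145 = N10216 := flp_f L61166
theorem L61168 : sm gg N10216 = N6953 := ded_21_2 L43238 L38570 L61160
theorem L61169 : sm gg N6953 = N10216 := flp_g L61168
theorem L61170 : sm gb N10216 = N6885 := ded_13_1 L45650 L45654 L43060 L38572 L61160
theorem L61178 : sm gg N6139 = N10218 := rfl
theorem L61180 : sm ga N10218 = N6953 := ded_12_1 L61169 L61162 L61178
theorem L61181 : sm ga N6953 = N10218 := flp_a L61180
theorem L61220 : sm gd N6145 = N10223 := rfl
theorem L61222 : sm ga N10223 = N6147 := ded_9_1 L38619 L38611 L61220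
theorem L61224 : sm gg N6145 = N10224 := rfl
theorem L61225 : sm gg N10224 = N6145 := flp_g L61224
theorem L61230 : sm gf N10218 = N10224 := ded_29_0 L61225 L61167 L61168 L61181
theorem L61231 : sm gf N10224 = N10218 := flp_f L61230
theorem L61232 : sm gc N6147 = N10225 := rfl
theorem L61233 : sm gc N10225 = N6147 := flp_c L61232
theorem L61236 : sm gg N6147 = N10227 := rfl
theorem L61237 : sm gg N10227 = N6147 := flp_g L61236
theorem L61238 : sm gd N10227 = N6148 := ded_24_1 L38621 L38618 L61236
theorem L61288 : sm ge N6157 = N10238 := rfl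
theorem L61289 : sm ge N10238 = N6157 := flp_e L61288
theorem L61290 : sm ga N10238 = N6159 := ded_10_1 L38671 L38663 L61288
theorem L61310 : sm gg N6158 = N10242 := rfl
theorem L61311 : sm gg N10242 = N6158 := flp_g L61310
theorem L61312 : sm gc N10242 = N6160 := ded_21_1 L38675 L38666 L61310
theorem L61313 : sm gc N6160 = N10242 := flp_c L61312
theorem L61344 : sm gb N6166 = N10251 := rfl
theorem L61346 : sm gc N10251 = N6207 := ded_13_2 L38904 L38654 L38706 L38692 L61344
theorem L61347 : sm gc N6207 = N10251 := flp_c L61346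
theorem L61348 : sm gg N6206 = N10251 := ded_21_0 L61346 L38903 L38898
theorem L61349 : sm gg N10251 = N6206 := flp_g L61348
theorem L61382 : sm gc N6171 = N10259 := rfl
theorem L61383 : sm gc N10259 = N6171 := flp_c L61382
theorem L61390 : sm gf N6323 = N10259 := ded_30_0 L61383 L38723 L27822 L22043 L27589 L27591 L27602 L28415 L28409 L27305 L21763 L21715 L21710 L27053 L37433 L59090 L59094 L59100 L59108
theorem L61391 : sm gf N10259 = N6323 := flp_f L61390
theorem L61392 : sm gf N6171 = N10260 := rfl
theorem L61394 : sm ga N10260 = N7073 := ded_11_1 L43982 L42967 L61392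
theorem L61396 : sm gc N10260 = N6323 := ded_20_1 L61390 L61383 L61392
theorem L61398 : sm ge N10260 = N7081 := ded_25_1 L60896 L60892 L61392
theorem L61400 : sm gg N10260 = N6910 := ded_29_3 L42986 L42990 L42971 L61392
theorem L61402 : sm gb N10260 = N6999 := ded_16_1 L43530 L38249 L27824 L38722 L61392
theorem L61403 : sm gb N6999 = N10260 := flp_b L61402
theorem L61428 : sm gd N6175 = N10267 := rfl
theorem L61430 : sm ga N10267 = N6179 := ded_9_1 L38781 L38741 L61428
theorem L61431 : sm ga N6179 = N10267 := flp_a L61430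
theorem L61434 : sm gf N6175 = N10268 := rfl
theorem L61435 : sm gf N10268 = N6175 := flp_f L61434
theorem L61436 : sm ga N10268 = N6180 := ded_11_1 L38783 L38741 L61434
theorem L61437 : sm ga N6180 = N10268 := flp_a L61436
theorem L61438 : sm gc N10268 = N6176 := ded_20_1 L38743 L38738 L61434
theorem L61439 : sm gc N6176 = N10268 := flp_c L61438
theorem L61442 : N7070 = N10083 := coi_30_6 L60387 L38117 L38087 L59743 L59741 L45008 L45010 L37734 L37782 L43036 L43034 L43029 L43031 L61437 L61435 L38739 L30145 L30141 L30148 L43957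
theorem L61443 : N10083 = N7070 := (eqc rfl L61442 rfl).symm
theorem L61444 : sm gb N7070 = N6052 := trf L61443 L60387 rfl
theorem L61446 : sm gd N7070 = N8794 := trf L61443 L60388 rfl
theorem L61447 : sm gd N8794 = N7070 := flp_d L61446
theorem L61448 : sm gb N6344 = N6690 := ded_15_3 L43959 L61444 L40021
theorem L61449 : sm gb N6690 = N6344 := flp_b L61448
theorem L61450 : sm gf N8794 = N7069 := ded_23_2 L43949 L43952 L61446
theorem L61452 : sm ge N7069 = N8816 := ded_25_1 L53970 L53844 L61450
theorem L61453 : sm ge N8816 = N7069 := flp_e L61452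
theorem L61454 : sm gg N6175 = N10269 := rfl
theorem L61455 : sm gg N10269 = N6175 := flp_g L61454
theorem L61456 : sm ga N10269 = N6181 := ded_12_1 L38787 L38741 L61454
theorem L61457 : sm ga N6181 = N10269 := flp_a L61456
theorem L61460 : sm ge N10269 = N6700 := ded_26_1 L41779 L38748 L61454
theorem L61462 : sm gd N6178 = N10270 := rfl
theorem L61466 : sm gb N10270 = N6179 := ded_14_1 L38781 L38772 L61462
theorem L61470 : sm gc N6179 = N10271 := rfl
theorem L61471 : sm gc N10271 = N6179 := flp_c L61470
theorem L61472 : sm ge N6179 = N10272 := rfl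
theorem L61473 : sm ge N10272 = N6179 := flp_e L61472
theorem L61474 : sm gf N6179 = N10273 := rfl
theorem L61475 : sm gf N10273 = N6179 := flp_f L61474
theorem L61476 : sm gd N10273 = N6180 := ded_23_1 L38783 L38780 L61474
theorem L61478 : sm gg N6179 = N10274 := rfl
theorem L61479 : sm gg N10274 = N6179 := flp_g L61478
theorem L61480 : sm gd N10274 = N6181 := ded_24_1 L38787 L38780 L61478
theorem L61481 : sm gd N6181 = N10274 := flp_d L61480
theorem L61482 : sm gg N6180 = N10275 := rfl
theorem L61483 : sm gg N10275 = N6180 := flp_g L61482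
theorem L61486 : sm gf N10269 = N10275 := ded_29_0 L61483 L38783 L38786 L61457
theorem L61487 : sm gf N10275 = N10269 := flp_f L61486
theorem L61488 : sm gb N6181 = N10276 := rfl
theorem L61489 : sm gb N10276 = N6181 := flp_b L61488
theorem L61490 : sm gf N6181 = N10277 := rfl
theorem L61491 : sm gf N10277 = N6181 := flp_f L61490
theorem L61492 : sm ga N10277 = N10275 := ded_11_1 L61487 L61456 L61490
theorem L61494 : sm gc N10277 = N6184 := ded_20_1 L38799 L38789 L61490
theorem L61495 : sm gc N6184 = N10277 := flp_c L61494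
theorem L61498 : sm ga N6183 = N10278 := rfl
theorem L61500 : sm gd N10278 = N10260 := ded_9_2 L61394 L43980 L61498
theorem L61502 : sm gf N10278 = N6966 := ded_11_2 L59861 L59856 L61498
theorem L61503 : sm gf N6966 = N10278 := flp_f L61502
theorem L61512 : sm gb N6185 = N10280 := rfl
theorem L61513 : sm gb N10280 = N6185 := flp_b L61512
theorem L61514 : sm gc N10280 = N7148 := ded_13_2 L44375 L30366 L37575 L38807 L61512
theorem L61515 : sm gc N7148 = N10280 := flp_c L61514
theorem L61516 : sm gf N10280 = N9806 := ded_16_2 L58758 L37344 L37550 L38809 L61512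
theorem L61517 : sm gf N9806 = N10280 := flp_f L61516
theorem L61518 : sm ga N10280 = N6208 := ded_7_1 L38907 L27886 L22072 L19260 L19253 L22050 L27841 L38804 L61512
theorem L61519 : sm ga N6208 = N10280 := flp_a L61518
theorem L61520 : sm gd N6185 = N10281 := rfl
theorem L61522 : sm ga N10281 = N6186 := ded_9_1 L38811 L38804 L61520
theorem L61524 : sm gf N10281 = N9882 := ded_23_2 L59355 L38809 L61520
theorem L61525 : sm gf N9882 = N10281 := flp_f L61524
theorem L61526 : sm gg N6185 = N10282 := rfl
theorem L61527 : sm gg N10282 = N6185 := flp_g L61526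
theorem L61528 : sm ga N10282 = N6188 := ded_12_1 L38821 L38804 L61526
theorem L61529 : sm ga N6188 = N10282 := flp_a L61528
theorem L61532 : sm gc N6186 = N10283 := rfl
theorem L61538 : sm gf N6186 = N10285 := rfl
theorem L61540 : sm ga N10285 = N9882 := ded_11_1 L61525 L61522 L61538
theorem L61541 : sm ga N9882 = N10285 := flp_a L61540
theorem L61542 : sm gd N10285 = N6187 := ded_23_1 L38815 L38810 L61538
theorem L61548 : sm gg N6187 = N10287 := rfl
theorem L61549 : sm gg N10287 = N6187 := flp_g L61548
theorem L61552 : sm gc N10287 = N9890 := ded_21_1 L59397 L38819 L61548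
theorem L61554 : sm gf N10282 = N10287 := ded_29_0 L61549 L38815 L38820 L61529
theorem L61555 : sm gf N10287 = N10282 := flp_f L61554
theorem L61556 : sm gb N6188 = N10288 := rfl
theorem L61558 : sm gg N10288 = N6192 := ded_17_2 L38841 L27848 L27841 L38820 L61556
theorem L61559 : sm gg N6192 = N10288 := flp_g L61558
theorem L61580 : sm gg N6190 = N10292 := rfl
theorem L61582 : sm ga N10292 = N6199 := ded_12_1 L38865 L38831 L61580
theorem L61583 : sm ga N6199 = N10292 := flp_a L61582
theorem L61584 : sm ge N10292 = N6191 := ded_26_1 L38833 L38828 L61580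
theorem L61585 : sm ge N6191 = N10292 := flp_e L61584
theorem L61592 : sm ga N6192 = N10294 := rfl
theorem L61593 : sm ga N10294 = N6192 := flp_a L61592
theorem L61594 : sm gc N6192 = N10295 := rfl
theorem L61596 : sm gb N10295 = N6194 := ded_13_1 L38845 L27856 L27852 L38840 L61594
theorem L61598 : sm gf N6192 = N10296 := rfl
theorem L61599 : sm gf N10296 = N6192 := flp_f L61598
theorem L61602 : sm gc N6193 = N10297 := rfl
theorem L61604 : sm ga N10297 = N6194 := ded_8_1 L38845 L38842 L61602
theorem L61605 : sm ga N6194 = N10297 := flp_a L61604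
theorem L61606 : sm gf N10297 = N10093 := ded_20_2 L60459 L42992 L61602
theorem L61608 : sm ga N9386 = N10296 := ded_30_19 L61599 L61594 L61596 L61605 L61606 L60459 L38173 L27552 L27550 L27481 L38098 L53644 L56599 L56597 L36127 L26481 L26505 L36171 L56734
theorem L61610 : sm gf N10294 = N9386 := ded_11_0 L61608 L61599 L61592
theorem L61612 : sm gb N9385 = N10294 := ded_16_5 L61610 L56735 L36167 L36164 L56732
theorem L61628 : sm gg N6196 = N10301 := rfl
theorem L61630 : sm ga N10301 = N7084 := ded_12_1 L44025 L38853 L61628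
theorem L61631 : sm ga N7084 = N10301 := flp_a L61630
theorem L61632 : sm gc N10301 = N7079 := ded_21_1 L44005 L38854 L61628
theorem L61638 : sm gg N6197 = N10303 := rfl
theorem L61639 : sm gg N10303 = N6197 := flp_g L61638
theorem L61640 : sm gc N10303 = N6199 := ded_21_1 L38865 L38859 L61638
theorem L61641 : sm gc N6199 = N10303 := flp_c L61640
theorem L61644 : sm gb N6198 = N10304 := rfl
theorem L61645 : sm gb N10304 = N6198 := flp_b L61644
theorem L61660 : sm gf N6199 = N10307 := rfl
theorem L61666 : sm gg N10307 = N10238 := ded_29_3 L61290 L38672 L38864 L61660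
theorem L61668 : sm ga N6200 = N10308 := rfl
theorem L61669 : sm ga N10308 = N6200 := flp_a L61668
theorem L61670 : sm gd N10308 = N6202 := ded_9_2 L38883 L38871 L61668
theorem L61672 : sm gg N10308 = N6214 := ded_12_2 L38931 L38873 L61668
theorem L61673 : sm gg N6214 = N10308 := flp_g L61672
theorem L61674 : sm gc N6200 = N10309 := rfl
theorem L61676 : sm gg N10309 = N6215 := ded_21_2 L38935 L38873 L61674
theorem L61677 : sm gg N6215 = N10309 := flp_g L61676
theorem L61678 : sm gf N6200 = N10310 := rfl
theorem L61680 : sm gd N10310 = N6203 := ded_23_1 L38889 L38871 L61678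
theorem L61686 : sm gb N6202 = N10312 := rfl
theorem L61687 : sm gb N10312 = N6202 := flp_b L61686
theorem L61692 : sm ga N6204 = N10314 := rfl
theorem L61702 : sm gc N6205 = N10317 := rfl
theorem L61704 : sm ga N10317 = N6206 := ded_8_1 L38899 L38894 L61702
theorem L61705 : sm ga N6206 = N10317 := flp_a L61704
theorem L61706 : sm gf N10317 = N7041 := ded_20_2 L43753 L38897 L61702
theorem L61714 : sm gc N6208 = N10319 := rfl
theorem L61716 : sm ga N10319 = N7148 := ded_8_1 L61515 L61518 L61714
theorem L61717 : sm ga N7148 = N10319 := flp_a L61716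
theorem L61718 : sm gb N10319 = N7074 := ded_13_1 L43988 L40320 L28495 L38906 L61714
theorem L61720 : sm gf N6208 = N10320 := rfl
theorem L61721 : sm gf N10320 = N6208 := flp_f L61720
theorem L61722 : sm ga N10320 = N9806 := ded_11_1 L61517 L61518 L61720
theorem L61726 : sm gb N7557 = N10320 := ded_30_2 L61722 L61517 L61514 L44375 L30365 L30372 L30374 L30341 L30335 L30333 L27904 L43487 L32163 L32181 L32183 L31505 L46662 L46660 L46653
theorem L61730 : sm gb N6209 = N10322 := rfl
theorem L61731 : sm gb N10322 = N6209 := flp_b L61730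
theorem L61734 : sm gf N10322 = N7557 := ded_16_2 L61726 L61721 L38907 L38908 L61730
theorem L61735 : sm gf N7557 = N10322 := flp_f L61734
theorem L61752 : sm ga N6213 = N10326 := rfl
theorem L61753 : sm ga N10326 = N6213 := flp_a L61752
theorem L61754 : sm ge N10326 = N6214 := ded_10_2 L38931 L38929 L61752
theorem L61755 : sm ge N6214 = N10326 := flp_e L61754
theorem L61756 : sm gc N6213 = N10327 := rfl
theorem L61758 : sm ge N10327 = N6215 := ded_19_2 L38935 L38929 L61756
theorem L61759 : sm ge N6215 = N10327 := flp_e L61758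
theorem L61766 : sm gc N6214 = N10329 := rfl
theorem L61767 : sm gc N10329 = N6214 := flp_c L61766
theorem L61768 : sm ga N10329 = N6215 := ded_8_1 L38935 L38930 L61766
theorem L61769 : sm ga N6215 = N10329 := flp_a L61768
theorem L61770 : sm gf N6214 = N10330 := rfl
theorem L61771 : sm gf N10330 = N6214 := flp_f L61770
theorem L61772 : sm ga N10330 = N6216 := ded_11_1 L38939 L38930 L61770
theorem L61773 : sm ga N6216 = N10330 := flp_a L61772
theorem L61776 : sm gg N10310 = N10330 := ded_29_1 L61771 L61673 L61669 L61678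
theorem L61778 : sm gd N6215 = N10331 := rfl
theorem L61779 : sm gd N10331 = N6215 := flp_d L61778
theorem L61782 : sm gf N6215 = N10332 := rfl
theorem L61783 : sm gf N10332 = N6215 := flp_f L61782
theorem L61784 : sm gc N10332 = N6216 := ded_20_1 L38939 L38934 L61782
theorem L61785 : sm gc N6216 = N10332 := flp_c L61784
theorem L61786 : sm gg N6216 = N10333 := rfl
theorem L61787 : sm gg N10333 = N6216 := flp_g L61786
theorem L61788 : sm ga N10333 = N10310 := ded_12_1 L61776 L61772 L61786
theorem L61790 : sm gd N10333 = N6219 := ded_24_1 L38953 L38941 L61786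
theorem L61792 : sm gf N10308 = N10333 := ded_29_0 L61787 L38939 L38873 L61668
theorem L61793 : sm gf N10333 = N10308 := flp_f L61792
theorem L61800 : sm ga N6220 = N10336 := rfl
theorem L61802 : sm gc N10336 = N10092 := ded_8_2 L60450 L43806 L61800
theorem L61806 : sm gf N10336 = N6901 := ded_11_2 L42837 L38965 L61800
theorem L61807 : sm gf N6901 = N10336 := flp_f L61806
theorem L61810 : sm gb N10336 = N6855 := ded_7_2 L42610 L42401 L42392 L38990 L38985 L27942 L27912 L38960 L61800
theorem L61811 : sm gb N6855 = N10336 := flp_b L61810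
theorem L61812 : sm gg N6220 = N10337 := rfl
theorem L61813 : sm gg N10337 = N6220 := flp_g L61812
theorem L61816 : sm gc N10337 = N6985 := ded_21_1 L43811 L43806 L61812
theorem L61818 : sm ge N10337 = N10092 := ded_26_1 L60449 L38963 L61812
theorem L61819 : sm ge N10092 = N10337 := flp_e L61818
theorem L61822 : sm ga N6222 = N10338 := rfl
theorem L61826 : sm gf N10338 = N6344 := ded_11_2 L40019 L38977 L61822
theorem L61827 : sm gf N6344 = N10338 := flp_f L61826
theorem L61828 : sm gc N6222 = N10339 := rfl
theorem L61832 : sm gf N10339 = N6345 := ded_20_2 L40023 L38977 L61828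
theorem L61834 : sm gb N10339 = N6225 := ded_13_1 L38995 L27942 L27930 L38972 L61828
theorem L61835 : sm gb N6225 = N10339 := flp_b L61834
theorem L61836 : sm gg N6222 = N10340 := rfl
theorem L61837 : sm gg N10340 = N6222 := flp_g L61836
theorem L61838 : sm ge N10340 = N10079 := ded_26_1 L60361 L38975 L61836
theorem L61839 : sm ge N10079 = N10340 := flp_e L61838
theorem L61844 : sm gd N6225 = N10342 := rfl
theorem L61845 : sm gd N10342 = N6225 := flp_d L61844
theorem L61850 : sm gg N6225 = N10343 := rfl
theorem L61851 : sm gg N10343 = N6225 := flp_g L61850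
theorem L61852 : sm ga N10343 = N8252 := ded_12_1 L51120 L38997 L61850
theorem L61853 : sm ga N8252 = N10343 := flp_a L61852
theorem L61854 : sm gc N10343 = N6226 := ded_21_1 L39003 L38994 L61850
theorem L61858 : sm gb N6226 = N10344 := rfl
theorem L61859 : sm gb N10344 = N6226 := flp_b L61858
theorem L61862 : sm gf N10344 = N10195 := ded_16_2 L61035 L61040 L61048 L39074 L61858
theorem L61864 : sm gg N10344 = N6227 := ded_17_2 L39007 L27948 L27941 L39002 L61858
theorem L61865 : sm gg N6227 = N10344 := flp_g L61864
theorem L61886 : sm gg N6231 = N10349 := rfl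
theorem L61890 : sm ge N10349 = N6906 := ded_26_1 L42959 L39029 L61886
theorem L61891 : sm ge N6906 = N10349 := flp_e L61890
theorem L61892 : sm gb N10349 = N10337 := ded_17_1 L61813 L38961 L27966 L39026 L61886
theorem L61893 : sm gb N10337 = N10349 := flp_b L61892
theorem L61894 : sm gf N10349 = N6920 := ded_31_1 L43063 L42450 L42449 L38463 L38459 L27711 L22202 L19332 L19279 L19268 L22099 L27959 L39026 L61886
theorem L61895 : sm gf N6920 = N10349 := flp_f L61894
theorem L61916 : sm gf N6234 = N10354 := rfl
theorem L61920 : sm gd N10354 = N6243 := ded_23_1 L39087 L39041 L61916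
theorem L61921 : sm gd N6243 = N10354 := flp_d L61920
theorem L61934 : sm gf N6235 = N10357 := rfl
theorem L61935 : sm gf N10357 = N6235 := flp_f L61934
theorem L61940 : sm gg N7235 = N10357 := ded_29_1 L61935 L44834 L44831 L44861
theorem L61941 : sm gg N10357 = N7235 := flp_g L61940
theorem L61958 : sm gd N6239 = N10361 := rfl
theorem L61959 : sm gd N10361 = N6239 := flp_d L61958
theorem L61960 : sm ga N10361 = N6241 := ded_9_1 L39077 L39061 L61958
theorem L61961 : sm ga N6241 = N10361 := flp_a L61960
theorem L61978 : sm ge N6241 = N10364 := rfl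
theorem L61980 : sm gb N10364 = N6357 := ded_15_1 L40083 L39079 L61978
theorem L61982 : sm gd N10364 = N9954 := ded_22_1 L59729 L37737 L27982 L39076 L61978
theorem L61988 : sm gb N6242 = N10366 := rfl
theorem L61989 : sm gb N10366 = N6242 := flp_b L61988
theorem L61992 : sm gg N10366 = N6359 := ded_17_2 L40093 L28344 L27984 L39080 L61988
theorem L61993 : sm gg N6359 = N10366 := flp_g L61992
theorem L61994 : sm gf N6244 = N10367 := rfl
theorem L61995 : sm gf N10367 = N6244 := flp_f L61994
theorem L61998 : sm gc N10367 = N8093 := ded_20_1 L49636 L39421 L61994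
theorem L61999 : sm gc N8093 = N10367 := flp_c L61998
theorem L62002 : sm gb N6694 = N10367 := ded_13_5 L61998 L49640 L59061 L41763 L41757
theorem L62003 : sm gb N10367 = N6694 := flp_b L62002
theorem L62004 : sm gb N6245 = N10368 := rfl
theorem L62006 : sm ge N10368 = N7072 := ded_15_2 L43977 L39429 L62004
theorem L62008 : sm gf N10368 = N6694 := ded_16_2 L62002 L61995 L39417 L39424 L62004
theorem L62010 : sm ga N10368 = N9834 := ded_7_1 L58910 L42204 L29555 L42501 L42506 L39620 L28073 L39427 L62004
theorem L62011 : sm ga N9834 = N10368 := flp_a L62010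
theorem L62024 : sm gf N6246 = N10371 := rfl
theorem L62025 : sm gf N10371 = N6246 := flp_f L62024
theorem L62026 : sm gd N10371 = N6247 := ded_23_1 L39437 L39432 L62024
theorem L62028 : sm gg N7220 = N10371 := ded_29_1 L62025 L44768 L44764 L44771
theorem L62030 : sm gb N7754 = N10371 := ded_14_3 L62026 L39445 L47737
theorem L62031 : sm gb N10371 = N7754 := flp_b L62030
theorem L62032 : sm gc N6249 = N10372 := rfl
theorem L62033 : sm gc N10372 = N6249 := flp_c L62032
theorem L62036 : sm gf N10372 = N6254 := ded_20_2 L39501 L39463 L62032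
theorem L62040 : sm gd N10225 = N10372 := ded_28_1 L62033 L39458 L30082 L30076 L38608 L61220 L61222 L61232
theorem L62042 : sm gg N6249 = N10373 := rfl
theorem L62043 : sm gg N10373 = N6249 := flp_g L62042
theorem L62044 : sm gd N10373 = N6555 := ded_24_1 L41123 L39459 L62042
theorem L62045 : sm gd N6555 = N10373 := flp_d L62044
theorem L62054 : sm ga N6251 = N10375 := rfl
theorem L62058 : sm gd N10375 = N6468 := ded_9_2 L50554 L39477 L62054
theorem L62060 : sm ge N10375 = N10143 := ded_10_2 L60733 L39479 L62054
theorem L62061 : sm ge N10143 = N10375 := flp_e L62060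
theorem L62064 : sm gb N6796 = N10375 := ded_14_3 L62058 L40644 L42248
theorem L62065 : sm gb N10375 = N6796 := flp_b L62064
theorem L62074 : sm gb N6252 = N10377 := rfl
theorem L62078 : sm ge N10377 = N8165 := ded_15_2 L50698 L39493 L62074
theorem L62096 : sm gd N6254 = N10381 := rfl
theorem L62098 : sm gb N10381 = N6260 := ded_14_1 L39527 L39503 L62096
theorem L62100 : sm gf N10381 = N10225 := ded_23_2 L62040 L62036 L62096
theorem L62104 : sm gg N6254 = N10382 := rfl
theorem L62105 : sm gg N10382 = N6254 := flp_g L62104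
theorem L62106 : sm gc N10382 = N6255 := ded_21_1 L39505 L39500 L62104
theorem L62107 : sm gc N6255 = N10382 := flp_c L62106
theorem L62116 : sm gb N6256 = N10384 := rfl
theorem L62117 : sm gb N10384 = N6256 := flp_b L62116
theorem L62118 : sm gd N10384 = N6564 := ded_14_2 L41159 L39511 L62116
theorem L62119 : sm gd N6564 = N10384 := flp_d L62118
theorem L62154 : sm gg N6258 = N10390 := rfl
theorem L62158 : sm gd N10390 = N6272 := ded_24_1 L39585 L39519 L62154
theorem L62159 : sm gd N6272 = N10390 := flp_d L62158
theorem L62178 : sm ga N6262 = N10395 := rfl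
theorem L62179 : sm ga N10395 = N6262 := flp_a L62178
theorem L62182 : sm gg N10395 = N6263 := ded_12_2 L39541 L39539 L62178
theorem L62183 : sm gg N6263 = N10395 := flp_g L62182
theorem L62188 : sm gf N6262 = N10397 := rfl
theorem L62202 : sm gf N6263 = N10400 := rfl
theorem L62203 : sm gf N10400 = N6263 := flp_f L62202
theorem L62204 : sm ga N10400 = N6265 := ded_11_1 L39547 L39540 L62202
theorem L62208 : sm gg N10397 = N10400 := ded_29_1 L62203 L62183 L62179 L62188
theorem L62212 : sm gf N6264 = N10402 := rfl
theorem L62213 : sm gf N10402 = N6264 := flp_f L62212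
theorem L62214 : sm gc N10402 = N6265 := ded_20_1 L39547 L39544 L62212
theorem L62232 : sm gg N6266 = N10406 := rfl
theorem L62238 : sm gf N10406 = N10155 := ded_29_2 L60793 L60782 L60786 L62232
theorem L62254 : sm gc N6269 = N10410 := rfl
theorem L62255 : sm gc N10410 = N6269 := flp_c L62254
theorem L62256 : sm ga N10410 = N6270 := ded_8_1 L39573 L39564 L62254
theorem L62258 : sm ge N10410 = N8967 := ded_19_2 L54665 L39567 L62254
theorem L62260 : sm gg N10410 = N8608 := ded_21_2 L52840 L39570 L62254
theorem L62261 : sm gg N8608 = N10410 := flp_g L62260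
theorem L62262 : sm gb N10410 = N10199 := ded_13_1 L61066 L58959 L52837 L39569 L62254
theorem L62264 : sm gf N10157 = N10410 := ded_25_0 L62258 L54667 L60811
theorem L62265 : sm gf N10410 = N10157 := flp_f L62264
theorem L62266 : sm gf N6269 = N10411 := rfl
theorem L62270 : sm gc N10411 = N10157 := ded_20_1 L62264 L62255 L62266
theorem L62271 : sm gc N10157 = N10411 := flp_c L62270
theorem L62274 : sm gb N10411 = N6774 := ded_16_1 L42112 L39117 L37398 L39569 L62266
theorem L62275 : sm gb N6774 = N10411 := flp_b L62274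
theorem L62288 : sm gg N6270 = N10414 := rfl
theorem L62290 : sm ga N10414 = N8608 := ded_12_1 L62261 L62256 L62288
theorem L62291 : sm ga N8608 = N10414 := flp_a L62290
theorem L62292 : sm gc N10414 = N6272 := ded_21_1 L39585 L39572 L62288
theorem L62296 : sm gf N6272 = N10415 := rfl
theorem L62300 : sm ge N10415 = N8980 := ded_25_1 L54732 L39589 L62296
theorem L62306 : sm gc N6273 = N10416 := rfl
theorem L62308 : sm ga N10416 = N6274 := ded_8_1 L39597 L39590 L62306
theorem L62312 : sm gg N10416 = N6277 := ded_21_2 L39613 L39595 L62306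
theorem L62313 : sm gg N6277 = N10416 := flp_g L62312
theorem L62314 : sm gb N10416 = N6838 := ded_13_1 L42512 L29554 L42215 L42218 L62306
theorem L62315 : sm gb N6838 = N10416 := flp_b L62314
theorem L62322 : sm gf N6274 = N10418 := rfl
theorem L62324 : sm gc N10418 = N6275 := ded_20_1 L39605 L39596 L62322
theorem L62328 : sm gb N6277 = N10419 := rfl
theorem L62334 : sm gg N10419 = N6499 := ded_17_2 L40820 L42510 L62315 L62312 L62328
theorem L62335 : sm gg N6499 = N10419 := flp_g L62334
theorem L62340 : sm gf N6277 = N10421 := rfl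
theorem L62341 : sm gf N10421 = N6277 := flp_f L62340
theorem L62346 : sm ge N10421 = N9981 := ded_25_1 L59867 L39617 L62340
theorem L62348 : sm gg N10418 = N10421 := ded_29_1 L62341 L62313 L62308 L62322
theorem L62382 : sm gc N6282 = N10427 := rfl
theorem L62386 : sm gf N6282 = N10428 := rfl
theorem L62387 : sm gf N10428 = N6282 := flp_f L62386
theorem L62388 : sm ga N10428 = N6862 := ded_11_1 L52880 L52875 L62386
theorem L62392 : sm gg N10428 = N6871 := ded_29_3 L42697 L42704 L42711 L62386
theorem L62393 : sm gg N6871 = N10428 := flp_g L62392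
theorem L62394 : sm gb N10428 = N7081 := ded_16_1 L60896 L60891 L38448 L39644 L62386
theorem L62396 : sm gc N7080 = N10428 := ded_13_0 L62394 L44015 L30171 L30167 L44012
theorem L62398 : sm gf N10427 = N7080 := ded_20_0 L62396 L62387 L62382
theorem L62399 : sm gf N7080 = N10427 := flp_f L62398
theorem L62420 : sm ge N6285 = N10433 := rfl
theorem L62422 : sm gb N10433 = N6376 := ded_15_1 L40192 L39665 L62420
theorem L62423 : sm gb N6376 = N10433 := flp_b L62422
theorem L62424 : sm gd N10433 = N10109 := ded_22_1 L60549 L38269 L28082 L39662 L62420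
theorem L62430 : sm gb N6286 = N10435 := rfl
theorem L62432 : sm ge N10435 = N10111 := ded_15_2 L60557 L39671 L62430
theorem L62434 : sm gc N10435 = N10366 := ded_13_2 L61989 L39082 L28090 L39669 L62430
theorem L62435 : sm gc N10366 = N10435 := flp_c L62434
theorem L62448 : sm gb N6287 = N10437 := rfl
theorem L62450 : sm ge N10437 = N7062 := ded_15_2 L43886 L39677 L62448
theorem L62452 : sm gf N10437 = N6764 := ded_16_2 L42037 L39087 L28090 L39672 L62448
theorem L62454 : sm ga N6766 = N10437 := ded_10_3 L62450 L43880 L42047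
theorem L62455 : sm ga N10437 = N6766 := flp_a L62454
theorem L62462 : sm gc N6288 = N10439 := rfl
theorem L62464 : sm ge N10439 = N10129 := ded_19_2 L60643 L39685 L62462
theorem L62465 : sm ge N10129 = N10439 := flp_e L62464
theorem L62466 : sm gg N6288 = N10440 := rfl
theorem L62467 : sm gg N10440 = N6288 := flp_g L62466
theorem L62468 : sm gd N10440 = N6760 := ded_24_1 L42013 L39683 L62466
theorem L62469 : sm gd N6760 = N10440 := flp_d L62468
theorem L62486 : sm gf N6289 = N10443 := rfl
theorem L62487 : sm gf N10443 = N6289 := flp_f L62486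
theorem L62492 : sm gb N6290 = N10444 := rfl
theorem L62493 : sm gb N10444 = N6290 := flp_b L62492
theorem L62494 : sm gd N10444 = N6336 := ded_14_2 L39967 L39695 L62492
theorem L62498 : sm gc N6290 = N10445 := rfl
theorem L62500 : sm ga N10445 = N6291 := ded_8_1 L39701 L39692 L62498
theorem L62501 : sm ga N6291 = N10445 := flp_a L62500
theorem L62504 : sm gf N10445 = N6296 := ded_20_2 L39733 L39699 L62498
theorem L62512 : sm gg N6291 = N10447 := rfl
theorem L62513 : sm gg N10447 = N6291 := flp_g L62512
theorem L62526 : sm ga N6293 = N10449 := rfl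
theorem L62528 : sm gd N10449 = N6764 := ded_9_2 L42033 L39715 L62526
theorem L62529 : sm gd N6764 = N10449 := flp_d L62528
theorem L62530 : sm ge N10449 = N10150 := ded_10_2 L60771 L39717 L62526
theorem L62532 : sm gb N10354 = N10449 := ded_14_3 L62528 L42037 L61921
theorem L62533 : sm gb N10449 = N10354 := flp_b L62532
theorem L62538 : sm gf N6293 = N10451 := rfl
theorem L62540 : sm gd N10451 = N6766 := ded_23_1 L42045 L39715 L62538
theorem L62541 : sm gd N6766 = N10451 := flp_d L62540
theorem L62544 : sm gb N10451 = N10443 := ded_16_1 L62487 L39687 L28121 L39712 L62538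
theorem L62546 : sm ga N6294 = N10452 := rfl
theorem L62548 : sm gd N10452 = N6767 := ded_9_2 L42051 L39721 L62546
theorem L62549 : sm gd N6767 = N10452 := flp_d L62548
theorem L62552 : sm gf N10452 = N6816 := ded_11_2 L42373 L39725 L62546
theorem L62594 : sm gg N6296 = N10460 := rfl
theorem L62600 : sm ge N10460 = N10181 := ded_26_1 L60945 L39737 L62594
theorem L62602 : sm gf N10460 = N10447 := ded_29_2 L62513 L62501 L62504 L62594
theorem L62603 : sm gf N10447 = N10460 := flp_f L62602
theorem L62640 : sm gb N6300 = N10467 := rfl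
theorem L62641 : sm gb N10467 = N6300 := flp_b L62640
theorem L62648 : sm gc N6301 = N10468 := rfl
theorem L62649 : sm gc N10468 = N6301 := flp_c L62648
theorem L62652 : sm gf N6301 = N10469 := rfl
theorem L62653 : sm gf N10469 = N6301 := flp_f L62652
theorem L62654 : sm ga N10469 = N6303 := ded_11_1 L39775 L39768 L62652
theorem L62656 : sm gd N10469 = N6314 := ded_23_1 L39823 L39771 L62652
theorem L62657 : sm gd N6314 = N10469 := flp_d L62656
theorem L62692 : sm gf N6304 = N10477 := rfl
theorem L62696 : sm gd N10477 = N6321 := ded_23_1 L39881 L39781 L62692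
theorem L62698 : sm gg N10477 = N10469 := ded_29_3 L62654 L39775 L39778 L62692
theorem L62708 : sm gc N6307 = N10482 := rfl
theorem L62709 : sm gc N10482 = N6307 := flp_c L62708
theorem L62714 : sm gb N6309 = N10484 := rfl
theorem L62715 : sm gb N10484 = N6309 := flp_b L62714
theorem L62716 : sm gd N10484 = N6310 := ded_14_2 L39803 L39801 L62714
theorem L62717 : sm gd N6310 = N10484 := flp_d L62716
theorem L62770 : sm gf N6316 = N10496 := rfl
theorem L62772 : sm gd N10496 = N6317 := ded_23_1 L39839 L39834 L62770
theorem L62774 : sm gg N6316 = N10497 := rfl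
theorem L62775 : sm gg N10497 = N6316 := flp_g L62774
theorem L62776 : sm gd N10497 = N6318 := ded_24_1 L39845 L39834 L62774
theorem L62777 : sm gd N6318 = N10497 := flp_d L62776
theorem L62778 : sm gb N6317 = N10498 := rfl
theorem L62782 : sm gf N10498 = N7829 := ded_16_2 L48069 L32182 L28192 L39838 L62778
theorem L62848 : sm gb N6324 = N10506 := rfl
theorem L62849 : sm gb N10506 = N6324 := flp_b L62848
theorem L62850 : sm ge N10506 = N7080 := ded_15_2 L44013 L39903 L62848
theorem L62852 : sm gc N10506 = N6999 := ded_13_2 L61403 L61396 L39895 L39898 L62848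
theorem L62856 : sm ga N7000 = N10506 := ded_8_3 L62852 L43525 L43532
theorem L62857 : sm ga N10506 = N7000 := flp_a L62856
theorem L62858 : sm gg N7019 = N10506 := ded_21_0 L62852 L43528 L43640
theorem L62860 : sm gd N6324 = N10507 := rfl
theorem L62861 : sm gd N10507 = N6324 := flp_d L62860
theorem L62862 : sm ga N10507 = N6325 := ded_9_1 L39907 L39901 L62860
theorem L62863 : sm ga N6325 = N10507 := flp_a L62862
theorem L62864 : sm gg N10507 = N6334 := ded_24_2 L39953 L39905 L62860
theorem L62865 : sm gg N6334 = N10507 := flp_g L62864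
theorem L62866 : sm gc N6325 = N10508 := rfl
theorem L62867 : sm gc N10508 = N6325 := flp_c L62866
theorem L62870 : sm ge N6325 = N10509 := rfl
theorem L62871 : sm ge N10509 = N6325 := flp_e L62870
theorem L62876 : sm gd N10509 = N7085 := ded_22_1 L44030 L30182 L28214 L39906 L62870
theorem L62877 : sm gd N7085 = N10509 := flp_d L62876
theorem L62882 : sm gb N6326 = N10511 := rfl
theorem L62884 : sm ge N10511 = N7087 := ded_15_2 L44043 L39917 L62882
theorem L62885 : sm ge N7087 = N10511 := flp_e L62884
theorem L62886 : sm gf N10511 = N7852 := ded_16_2 L48205 L32244 L28218 L39912 L62882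
theorem L62954 : sm gd N6333 = N10521 := rfl
theorem L62955 : sm gd N10521 = N6333 := flp_d L62954
theorem L62956 : sm gb N10521 = N6334 := ded_14_1 L39953 L39948 L62954
theorem L62958 : sm gf N6333 = N10522 := rfl
theorem L62959 : sm gf N10522 = N6333 := flp_f L62958
theorem L62960 : sm ge N10522 = N7076 := ded_25_1 L43997 L39951 L62958
theorem L62962 : sm gg N6333 = N10523 := rfl
theorem L62963 : sm gg N10523 = N6333 := flp_g L62962
theorem L62966 : sm gb N10523 = N7019 := ded_17_1 L62858 L62849 L39904 L39948 L62962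
theorem L62968 : sm gc N6334 = N10524 := rfl
theorem L62969 : sm gc N10524 = N6334 := flp_c L62968
theorem L62974 : sm ge N6334 = N10525 := rfl
theorem L62975 : sm ge N10525 = N6334 := flp_e L62974
theorem L62976 : sm ga N10525 = N6338 := ded_10_1 L39975 L39955 L62974
theorem L62978 : sm gd N10525 = N7078 := ded_22_1 L44001 L30159 L28236 L39952 L62974
theorem L62979 : sm gd N7078 = N10525 := flp_d L62978
theorem L62980 : sm gf N6334 = N10526 := rfl
theorem L62981 : sm gf N10526 = N6334 := flp_f L62980
theorem L62988 : sm gb N6335 = N10527 := rfl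
theorem L62989 : sm gb N10527 = N6335 := flp_b L62988
theorem L62990 : sm ge N10527 = N7052 := ded_15_2 L43831 L39963 L62988
theorem L62991 : sm ge N7052 = N10527 := flp_e L62990
theorem L62992 : sm gc N6336 = N10528 := rfl
theorem L62994 : sm ge N10528 = N7050 := ded_19_2 L43821 L39969 L62992
theorem L62995 : sm ge N7050 = N10528 := flp_e L62994
theorem L63004 : sm ge N6337 = N10530 := rfl
theorem L63005 : sm ge N10530 = N6337 := flp_e L63004
theorem L63008 : sm gc N10530 = N6338 := ded_19_1 L39975 L39970 L63004
theorem L63009 : sm gc N6338 = N10530 := flp_c L63008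
theorem L63014 : sm gf N6338 = N10532 := rfl
theorem L63018 : sm ge N10532 = N6339 := ded_25_1 L39981 L39974 L63014
theorem L63022 : sm gg N6339 = N10533 := rfl
theorem L63023 : sm gg N10533 = N6339 := flp_g L63022
theorem L63028 : sm gf N10507 = N10533 := ded_29_0 L63023 L39981 L39911 L62863
theorem L63050 : sm gf N6341 = N10537 := rfl
theorem L63054 : sm gg N10537 = N10437 := ded_29_3 L62455 L42045 L40001 L63050
theorem L63056 : sm gb N10537 = N10259 := ded_16_1 L61391 L39895 L28263 L39996 L63050
theorem L63057 : sm gb N10259 = N10537 := flp_b L63056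
theorem L63062 : sm ga N6342 = N10538 := rfl
theorem L63063 : sm ga N10538 = N6342 := flp_a L63062
theorem L63070 : sm gf N10538 = N6410 := ded_11_2 L40393 L40009 L63062
theorem L63072 : sm gg N6342 = N10539 := rfl
theorem L63073 : sm gg N10539 = N6342 := flp_g L63072
theorem L63084 : sm gg N6344 = N10541 := rfl
theorem L63085 : sm gg N10541 = N6344 := flp_g L63084
theorem L63088 : sm ge N10541 = N10084 := ded_26_1 L60391 L40021 L63084
theorem L63090 : sm gf N10541 = N10340 := ded_29_2 L61837 L61822 L61826 L63084
theorem L63092 : sm gd N6345 = N10542 := rfl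
theorem L63093 : sm gd N10542 = N6345 := flp_d L63092
theorem L63094 : sm gb N10542 = N6352 := ded_14_1 L40061 L40027 L63092
theorem L63095 : sm gb N6352 = N10542 := flp_b L63094
theorem L63096 : sm gg N6345 = N10543 := rfl
theorem L63097 : sm gg N10543 = N6345 := flp_g L63096
theorem L63098 : sm gc N10543 = N6346 := ded_21_1 L40029 L40022 L63096
theorem L63099 : sm gc N6346 = N10543 := flp_c L63098
theorem L63110 : sm gf N6346 = N10545 := rfl
theorem L63111 : sm gf N10545 = N6346 := flp_f L63110
theorem L63124 : sm gf N6348 = N10547 := rfl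
theorem L63126 : sm ga N10547 = N6350 := ded_11_1 L40053 L40038 L63124
theorem L63134 : sm gb N6705 = N10547 := ded_30_2 L63126 L40053 L40044 L40050 L39239 L39262 L27408 L21820 L19137 L6473 L19139 L21229 L26148 L35390 L35386 L35383 L49816 L49811 L59047
theorem L63135 : sm gb N10547 = N6705 := flp_b L63134
theorem L63142 : sm gf N6349 = N10549 := rfl
theorem L63143 : sm gf N10549 = N6349 := flp_f L63142
theorem L63146 : sm gc N10549 = N6350 := ded_20_1 L40053 L40044 L63142
theorem L63148 : sm ge N10549 = N8383 := ded_25_1 L51749 L40049 L63142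
theorem L63149 : sm ge N8383 = N10549 := flp_e L63148
theorem L63150 : sm gg N7824 = N10549 := ded_29_1 L63143 L44818 L46178 L48052
theorem L63151 : sm gg N10549 = N7824 := flp_g L63150
theorem L63154 : sm gb N6350 = N10550 := rfl
theorem L63155 : sm gb N10550 = N6350 := flp_b L63154
theorem L63156 : sm ge N10550 = N10088 := ded_15_2 L60419 L40055 L63154
theorem L63157 : sm ge N10088 = N10550 := flp_e L63156
theorem L63158 : sm gf N10550 = N6351 := ded_16_2 L40057 L28312 L28307 L40052 L63154
theorem L63159 : sm gf N6351 = N10550 := flp_f L63158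
theorem L63160 : sm ga N10550 = N6714 := ded_7_1 L41837 L29259 L22876 L22864 L29238 L41800 L63134 L63126 L63154
theorem L63161 : sm ga N6714 = N10550 := flp_a L63160
theorem L63162 : sm gg N6350 = N10551 := rfl
theorem L63163 : sm gg N10551 = N6350 := flp_g L63162
theorem L63166 : sm gc N10551 = N7824 := ded_21_1 L63150 L63146 L63162
theorem L63167 : sm gc N7824 = N10551 := flp_c L63166
theorem L63168 : sm ge N10551 = N9357 := ded_26_1 L56600 L40055 L63162
theorem L63169 : sm ge N9357 = N10551 := flp_e L63168
theorem L63170 : sm gf N8445 = N10551 := ded_29_0 L63163 L40053 L38983 L52056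
theorem L63171 : sm gf N10551 = N8445 := flp_f L63170
theorem L63172 : sm ga N6351 = N10552 := rfl
theorem L63174 : sm ge N10552 = N10089 := ded_10_2 L60427 L40059 L63172
theorem L63176 : sm gf N10552 = N6714 := ded_11_2 L63161 L63158 L63172
theorem L63177 : sm gf N6714 = N10552 := flp_f L63176
theorem L63178 : sm gg N6351 = N10553 := rfl
theorem L63179 : sm gg N10553 = N6351 := flp_g L63178
theorem L63182 : sm gb N10553 = N10539 := ded_17_1 L63073 L40003 L28320 L40056 L63178
theorem L63183 : sm gb N10539 = N10553 := flp_b L63182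
theorem L63184 : sm gc N6352 = N10554 := rfl
theorem L63185 : sm gc N10554 = N6352 := flp_c L63184
theorem L63186 : sm gf N10554 = N6356 := ded_20_2 L40081 L40063 L63184
theorem L63187 : sm gf N6356 = N10554 := flp_f L63186
theorem L63188 : sm ge N6352 = N10555 := rfl
theorem L63189 : sm ge N10555 = N6352 := flp_e L63188
theorem L63190 : sm gf N10555 = N6357 := ded_25_2 L40083 L40063 L63188
theorem L63191 : sm gf N6357 = N10555 := flp_f L63190
theorem L63192 : sm gd N10555 = N9966 := ded_22_1 L59792 L37754 L28324 L40060 L63188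
theorem L63193 : sm gd N9966 = N10555 := flp_d L63192
theorem L63202 : sm ga N6354 = N10557 := rfl
theorem L63203 : sm ga N10557 = N6354 := flp_a L63202
theorem L63206 : sm ge N10557 = N9945 := ded_10_2 L59689 L40073 L63202
theorem L63207 : sm ge N9945 = N10557 := flp_e L63206
theorem L63208 : sm gf N10557 = N10319 := ded_11_2 L61716 L44388 L63202
theorem L63209 : sm gf N10319 = N10557 := flp_f L63208
theorem L63210 : sm gd N6354 = N10558 := rfl
theorem L63211 : sm gd N10558 = N6354 := flp_d L63210
theorem L63212 : sm gb N10558 = N6355 := ded_14_1 L40075 L40070 L63210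
theorem L63213 : sm gb N6355 = N10558 := flp_b L63212
theorem L63220 : sm ge N6355 = N10560 := rfl
theorem L63222 : sm ga N10560 = N6357 := ded_10_1 L40083 L40077 L63220
theorem L63226 : sm gd N10560 = N9949 := ded_22_1 L59707 L37721 L28338 L40074 L63220
theorem L63227 : sm gd N9949 = N10560 := flp_d L63226
theorem L63228 : sm gb N6356 = N10561 := rfl
theorem L63229 : sm gb N10561 = N6356 := flp_b L63228
theorem L63230 : sm ge N6356 = N10562 := rfl
theorem L63231 : sm ge N10562 = N6356 := flp_e L63230
theorem L63232 : sm gc N10562 = N6357 := ded_19_1 L40083 L40080 L63230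
theorem L63233 : sm gc N6357 = N10562 := flp_c L63232
theorem L63234 : sm gg N6356 = N10563 := rfl
theorem L63235 : sm gg N10563 = N6356 := flp_g L63234
theorem L63236 : sm ga N10563 = N9878 := ded_12_1 L59775 L59770 L63234
theorem L63238 : sm gc N10563 = N6358 := ded_21_1 L40087 L40080 L63234
theorem L63239 : sm gc N6358 = N10563 := flp_c L63238
theorem L63240 : sm gg N6357 = N10564 := rfl
theorem L63241 : sm gg N10564 = N6357 := flp_g L63240
theorem L63244 : sm gd N10564 = N9967 := ded_24_1 L59795 L40085 L63240
theorem L63246 : sm ge N10564 = N6358 := ded_26_1 L40087 L40082 L63240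
theorem L63247 : sm ge N6358 = N10564 := flp_e L63246
theorem L63260 : sm ga N6359 = N10567 := rfl
theorem L63261 : sm ga N10567 = N6359 := flp_a L63260
theorem L63264 : sm gf N6359 = N10568 := rfl
theorem L63265 : sm gf N10568 = N6359 := flp_f L63264
theorem L63268 : sm gb N6360 = N10569 := rfl
theorem L63269 : sm gb N10569 = N6360 := flp_b L63268
theorem L63270 : sm ge N10569 = N9977 := ded_15_2 L59839 L40103 L63268
theorem L63272 : sm gc N10569 = N6367 := ded_13_2 L40146 L28391 L28362 L40101 L63268
theorem L63273 : sm gc N6367 = N10569 := flp_c L63272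
theorem L63315 : sm gb N6365 = N10576 := rfl
theorem L63317 : sm gd N10576 = N6366 := ded_14_2 L40138 L40134 L63315
theorem L63319 : sm gf N10576 = N7754 := ded_16_2 L62030 L62025 L39434 L40131 L63315
theorem L63320 : sm gf N7754 = N10576 := flp_f L63319
theorem L63335 : sm gg N6367 = N10580 := rfl
theorem L63336 : sm gg N10580 = N6367 := flp_g L63335
theorem L63339 : sm gb N10580 = N8057 := ded_17_1 L49429 L32864 L28397 L40145 L63335
theorem L63340 : sm gb N8057 = N10580 := flp_b L63339
theorem L63351 : sm ge N6369 = N10583 := rfl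
theorem L63352 : sm ge N10583 = N6369 := flp_e L63351
theorem L63353 : sm gc N10583 = N6370 := ded_19_1 L40160 L40155 L63351
theorem L63355 : sm gg N10583 = N8062 := ded_26_2 L49455 L40158 L63351
theorem L63356 : sm gg N8062 = N10583 := flp_g L63355
theorem L63357 : sm gf N6369 = N10584 := rfl
theorem L63361 : sm gd N10584 = N10028 := ded_23_1 L60107 L59913 L63357
theorem L63407 : sm ge N6374 = N10592 := rfl
theorem L63409 : sm ga N10592 = N6376 := ded_10_1 L40192 L40184 L63407
theorem L63417 : sm ge N6375 = N10594 := rfl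
theorem L63419 : sm gc N10594 = N6376 := ded_19_1 L40192 L40187 L63417
theorem L63420 : sm gc N6376 = N10594 := flp_c L63419
theorem L63427 : sm gg N6376 = N10596 := rfl
theorem L63428 : sm gg N10596 = N6376 := flp_g L63427
theorem L63469 : sm gg N6379 = N10602 := rfl
theorem L63471 : sm ge N10602 = N6412 := ded_26_1 L40397 L40210 L63469
theorem L63473 : sm gb N6381 = N10603 := rfl
theorem L63474 : sm gb N10603 = N6381 := flp_b L63473
theorem L63475 : sm gf N10603 = N10603 := ded_16_2 L63474 L40220 L28444 L40219 L63473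
theorem L63476 : sm gg N6381 = N10604 := rfl
theorem L63477 : sm gg N10604 = N6381 := flp_g L63476
theorem L63478 : sm gc N10604 = N6384 := ded_21_1 L40234 L40222 L63476
theorem L63480 : sm gd N10604 = N8620 := ded_24_1 L52923 L46940 L63476
theorem L63484 : sm gf N8616 = N10604 := ded_29_0 L63477 L40220 L40223 L52896
theorem L63485 : sm gf N10604 = N8616 := flp_f L63484
theorem L63489 : sm gf N6382 = N10606 := rfl
theorem L63491 : sm ga N10606 = N10604 := ded_11_1 L63485 L52895 L63489
theorem L63495 : sm gd N10606 = N8618 := ded_23_1 L52912 L46950 L63489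
theorem L63499 : sm gg N10606 = N8615 := ded_29_3 L52885 L40220 L40223 L63489
theorem L63500 : sm gg N8615 = N10606 := flp_g L63499
theorem L63553 : sm gb N6388 = N10616 := rfl
theorem L63557 : sm gg N10616 = N6389 := ded_17_2 L40272 L28462 L28453 L40265 L63553
theorem L63559 : sm ga N6389 = N10617 := rfl
theorem L63560 : sm ga N10617 = N6389 := flp_a L63559
theorem L63561 : sm ge N10617 = N6421 := ded_10_2 L40437 L40274 L63559
theorem L63565 : sm gb N9523 = N10617 := ded_30_2 L63560 L50577 L40180 L40176 L28410 L22450 L21912 L19181 L6496 L6485 L19163 L21893 L27557 L38202 L39366 L49819 L49825 L36868 L57448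
theorem L63567 : sm gc N6390 = N10618 := rfl
theorem L63569 : sm ga N10618 = N6391 := ded_8_1 L40282 L40275 L63567
theorem L63570 : sm ga N6391 = N10618 := flp_a L63569
theorem L63623 : sm gg N6395 = N10627 := rfl
theorem L63624 : sm gg N10627 = N6395 := flp_g L63623
theorem L63625 : sm gc N10627 = N6396 := ded_21_1 L40305 L40301 L63623
theorem L63626 : sm gc N6396 = N10627 := flp_c L63625
theorem L63635 : sm gb N6397 = N10629 := rfl
theorem L63636 : sm gb N10629 = N6397 := flp_b L63635
theorem L63637 : sm gd N10629 = N6403 := ded_14_2 L40344 L40311 L63635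
theorem L63639 : sm ga N7363 = N10629 := ded_9_3 L63637 L50224 L45577
theorem L63668 : sm gf N6400 = N10635 := rfl
theorem L63669 : sm gf N10635 = N6400 := flp_f L63668
theorem L63670 : sm ge N10635 = N6434 := ded_25_1 L40483 L40322 L63668
theorem L63674 : sm gg N8671 = N10635 := ded_31_0 L63669 L40320 L40323 L40331 L63553 L63557 L50577 L37717 L27246 L21758 L21069 L25754 L34520 L53175
theorem L63684 : sm gb N6402 = N10638 := rfl
theorem L63685 : sm gb N10638 = N6402 := flp_b L63684
theorem L63686 : sm ge N10638 = N6444 := ded_15_2 L40533 L40340 L63684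
theorem L63732 : sm gg N6407 = N10646 := rfl
theorem L63733 : sm gg N10646 = N6407 := flp_g L63732
theorem L63740 : sm gf N10618 = N10646 := ded_29_0 L63733 L40366 L40286 L63570
theorem L63742 : sm gb N6408 = N10647 := rfl
theorem L63743 : sm gb N10647 = N6408 := flp_b L63742
theorem L63744 : sm ge N10647 = N6457 := ded_15_2 L40579 L40378 L63742
theorem L63745 : sm ge N6457 = N10647 := flp_e L63744
theorem L63746 : sm gb N6410 = N10648 := rfl
theorem L63747 : sm gb N10648 = N6410 := flp_b L63746
theorem L63750 : sm ga N10648 = N8098 := ded_7_1 L49687 L40409 L40405 L28533 L22526 L22520 L28528 L40392 L63746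
theorem L63764 : sm gg N6410 = N10650 := rfl
theorem L63768 : sm gf N10650 = N10539 := ded_29_2 L63073 L63062 L63070 L63764
theorem L63776 : sm gf N6412 = N10653 := rfl
theorem L63780 : sm gg N10653 = N10538 := ded_29_3 L63063 L40008 L40396 L63776
theorem L63782 : sm gd N6417 = N10654 := rfl
theorem L63784 : sm ga N10654 = N6418 := ded_9_1 L40421 L40415 L63782
theorem L63785 : sm ga N6418 = N10654 := flp_a L63784
theorem L63786 : sm gf N10654 = N6437 := ded_23_2 L40493 L40419 L63782
theorem L63800 : sm gg N6418 = N10657 := rfl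
theorem L63801 : sm gg N10657 = N6418 := flp_g L63800
theorem L63810 : sm ga N6420 = N10659 := rfl
theorem L63811 : sm ga N10659 = N6420 := flp_a L63810
theorem L63812 : sm gg N10659 = N6421 := ded_12_2 L40437 L40435 L63810
theorem L63813 : sm gg N6421 = N10659 := flp_g L63812
theorem L63818 : sm gf N6420 = N10661 := rfl
theorem L63819 : sm gf N10661 = N6420 := flp_f L63818
theorem L63820 : sm gb N6421 = N10662 := rfl
theorem L63821 : sm gb N10662 = N6421 := flp_b L63820
theorem L63822 : sm ge N10662 = N9523 := ded_15_2 L63565 L63561 L63820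
theorem L63826 : sm gf N6736 = N10662 := ded_25_0 L63822 L57449 L54753
theorem L63828 : sm gg N7912 = N10662 := ded_26_0 L63822 L57444 L48598
theorem L63829 : sm gg N10662 = N7912 := flp_g L63828
theorem L63836 : sm gf N6421 = N10664 := rfl
theorem L63837 : sm gf N10664 = N6421 := flp_f L63836
theorem L63844 : sm gg N10661 = N10664 := ded_29_1 L63837 L63813 L63811 L63818
theorem L63846 : sm gb N10664 = N6622 := ded_16_1 L41406 L41911 L63826 L63821 L63836
theorem L63864 : sm gf N6424 = N10667 := rfl
theorem L63865 : sm gf N10667 = N6424 := flp_f L63864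
theorem L63870 : sm gg N6797 = N10667 := ded_29_1 L63865 L50634 L42236 L42250
theorem L63871 : sm gg N10667 = N6797 := flp_g L63870
theorem L63896 : sm gc N6428 = N10674 := rfl
theorem L63897 : sm gc N10674 = N6428 := flp_c L63896
theorem L63898 : sm gf N10674 = N6430 := ded_20_2 L40467 L40463 L63896
theorem L63899 : sm gf N6430 = N10674 := flp_f L63898
theorem L63902 : sm gb N6429 = N10676 := rfl
theorem L63903 : sm gb N10676 = N6429 := flp_b L63902
theorem L63904 : sm gc N6429 = N10677 := rfl
theorem L63905 : sm gc N10677 = N6429 := flp_c L63904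
theorem L63906 : sm ga N10677 = N6430 := ded_8_1 L40467 L40464 L63904
theorem L63908 : sm gb N9484 = N10677 := ded_30_2 L63906 L63899 L63897 L40461 L28613 L28615 L40446 L58710 L58705 L57366 L57363 L37427 L51096 L51102 L51108 L51113 L36501 L36508 L57243
theorem L63910 : N10676 = N9412 := coi_13_4 L56894 L36511 L57243 L63908 L63905 L63902
theorem L63911 : N10676 = N9412 := eqc rfl L63910 rfl
theorem L63912 : sm gb N9412 = N6429 := trf L63911 L63903 rfl
theorem L63913 : sm gb N6429 = N9412 := flp_b L63912
theorem L63934 : sm gf N6432 = N10682 := rfl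
theorem L63936 : sm ga N10682 = N6434 := ded_11_1 L40483 L40472 L63934
theorem L63940 : sm gb N10682 = N10338 := ded_16_1 L61826 L61448 L41731 L40475 L63934
theorem L63941 : sm gb N10338 = N10682 := flp_b L63940
theorem L63942 : sm gg N6432 = N10683 := rfl
theorem L63943 : sm gg N10683 = N6432 := flp_g L63942
theorem L63944 : sm ga N10683 = N6435 := ded_12_1 L40487 L40472 L63942
theorem L63945 : sm ga N6435 = N10683 := flp_a L63944
theorem L63948 : sm gb N6433 = N10684 := rfl
theorem L63950 : sm ge N10684 = N10319 := ded_15_2 L61718 L43990 L63948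
theorem L63952 : sm gc N10684 = N6436 := ded_13_2 L40489 L28563 L28560 L40478 L63948
theorem L63953 : sm gc N6436 = N10684 := flp_c L63952
theorem L63956 : sm gf N9945 = N10684 := ded_25_0 L63950 L63209 L63206
theorem L63984 : sm gb N6435 = N10689 := rfl
theorem L63986 : sm gg N10689 = N6439 := ded_17_2 L40507 L28569 L28560 L40486 L63984
theorem L63988 : sm gf N6435 = N10690 := rfl
theorem L63989 : sm gf N10690 = N6435 := flp_f L63988
theorem L63992 : sm gg N10690 = N10682 := ded_29_3 L63936 L40483 L40486 L63988
theorem L63993 : sm gg N10682 = N10690 := flp_g L63992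
theorem L63994 : sm ga N6436 = N10691 := rfl
theorem L63995 : sm ga N10691 = N6436 := flp_a L63994
theorem L63998 : sm ge N10691 = N10280 := ded_10_2 L61518 L40491 L63994
theorem L63999 : sm ge N10280 = N10691 := flp_e L63998
theorem L64002 : sm gb N10691 = N10197 := ded_7_2 L61051 L38513 L27733 L22005 L19483 L22550 L28565 L40488 L63994
theorem L64004 : sm gd N6436 = N10692 := rfl
theorem L64006 : sm gb N10692 = N6437 := ded_14_1 L40493 L40488 L64004
theorem L64024 : sm gg N6437 = N10696 := rfl
theorem L64030 : sm gf N10696 = N10657 := ded_29_2 L63801 L63785 L63786 L64024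
theorem L64040 : sm gf N6439 = N10700 := rfl
theorem L64042 : sm gb N10700 = N10661 := ded_16_1 L63819 L40433 L28573 L40506 L64040
theorem L64044 : sm gb N6734 = N10541 := ded_31_8 L63085 L61827 L63941 L63993 L63989 L63984 L63986 L64040 L64042 L63844 L63837 L63820 L63829 L48600
theorem L64046 : sm gg N6620 = N10700 := ded_17_0 L64042 L63844 L63846 L41403 L41396
theorem L64047 : sm gg N10700 = N6620 := flp_g L64046
theorem L64048 : sm gb N10084 = N9522 := ded_15_3 L57441 L64044 L63088
theorem L64096 : sm ga N6444 = N10707 := rfl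
theorem L64097 : sm ga N10707 = N6444 := flp_a L64096
theorem L64100 : sm gg N6444 = N10709 := rfl
theorem L64101 : sm gg N10709 = N6444 := flp_g L64100
theorem L64102 : sm gb N10709 = N8158 := ded_17_1 L50657 L40405 L28589 L40532 L64100
theorem L64103 : sm gb N8158 = N10709 := flp_b L64102
theorem L64118 : sm ge N6450 = N10712 := rfl
theorem L64120 : sm ga N10712 = N6454 := ded_10_1 L40563 L40549 L64118
theorem L64121 : sm ga N6454 = N10712 := flp_a L64120
theorem L64122 : sm gb N10712 = N9486 := ded_15_1 L57253 L50610 L64118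
theorem L64174 : sm ga N6457 = N10724 := rfl
theorem L64175 : sm ga N10724 = N6457 := flp_a L64174
theorem L64176 : sm gg N10724 = N8157 := ded_12_2 L59074 L41862 L64174
theorem L64178 : sm gb N6563 = N10724 := ded_17_5 L64176 L50650 L33155 L30093 L41157
theorem L64179 : sm gb N10724 = N6563 := flp_b L64178
theorem L64182 : sm gf N6457 = N10726 := rfl
theorem L64183 : sm gf N10726 = N6457 := flp_f L64182
theorem L64184 : sm gb N10726 = N10667 := ded_16_1 L63865 L40445 L28614 L40578 L64182
theorem L64202 : sm ga N6462 = N10731 := rfl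
theorem L64203 : sm ga N10731 = N6462 := flp_a L64202
theorem L64204 : sm gd N10731 = N6464 := ded_9_2 L40613 L40607 L64202
theorem L64206 : sm gb N8591 = N10731 := ded_14_3 L64204 L40618 L52745
theorem L64207 : sm gb N10731 = N8591 := flp_b L64206
theorem L64214 : sm ga N6463 = N10734 := rfl
theorem L64215 : sm ga N10734 = N6463 := flp_a L64214
theorem L64216 : sm gd N10734 = N6467 := ded_9_2 L40637 L40611 L64214
theorem L64218 : sm gg N10734 = N6567 := ded_12_2 L50615 L49843 L64214
theorem L64219 : sm gg N6567 = N10734 := flp_g L64218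
theorem L64222 : sm gf N6463 = N10736 := rfl
theorem L64223 : sm gf N10736 = N6463 := flp_f L64222
theorem L64236 : sm gd N6465 = N10738 := rfl
theorem L64238 : sm ga N10738 = N8571 := ded_9_1 L52648 L40623 L64236
theorem L64240 : sm gb N10738 = N6790 := ded_14_1 L42211 L40627 L64236
theorem L64241 : sm gb N6790 = N10738 := flp_b L64240
theorem L64246 : sm ge N10738 = N9787 := ded_22_2 L58657 L38567 L38564 L40625 L64236
theorem L64247 : sm ge N9787 = N10738 := flp_e L64246
theorem L64248 : sm gf N6466 = N10739 := rfl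
theorem L64256 : sm gg N10739 = N6759 := ded_29_3 L42004 L40584 L40630 L64248
theorem L64268 : sm gb N6470 = N10741 := rfl
theorem L64269 : sm gb N10741 = N6470 := flp_b L64268
theorem L64270 : sm gd N10741 = N6472 := ded_14_2 L40667 L40655 L64268
theorem L64272 : sm ge N10741 = N6472 := ded_15_2 L40667 L40657 L64268
theorem L64274 : sm gf N10741 = N10741 := ded_16_2 L64269 L40651 L28671 L40650 L64268
theorem L64275 : sm gg N6470 = N10742 := rfl
theorem L64276 : sm gg N10742 = N6470 := flp_g L64275
theorem L64281 : sm ge N10742 = N6473 := ded_26_1 L40670 L40657 L64275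
theorem L64282 : sm ge N6473 = N10742 := flp_e L64281
theorem L64283 : sm gf N6800 = N10742 := ded_29_0 L64276 L40651 L40658 L42277
theorem L64284 : sm gf N10742 = N6800 := flp_f L64283
theorem L64292 : sm gf N6471 = N10744 := rfl
theorem L64294 : sm ga N10744 = N10742 := ded_11_1 L64284 L42276 L64292
theorem L64296 : sm gc N10744 = N6479 := ded_20_1 L40711 L40661 L64292
theorem L64300 : sm ge N10744 = N6475 := ded_25_1 L40679 L40665 L64292
theorem L64302 : sm gg N10744 = N6799 := ded_29_3 L42266 L40651 L40658 L64292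
theorem L64304 : sm ga N6472 = N10745 := rfl
theorem L64305 : sm ga N10745 = N6472 := flp_a L64304
theorem L64306 : sm gf N10745 = N10745 := ded_11_2 L64305 L40668 L64304
theorem L64307 : sm gc N6472 = N10746 := rfl
theorem L64308 : sm gc N10746 = N6472 := flp_c L64307
theorem L64309 : sm gf N10746 = N10746 := ded_20_2 L64308 L40668 L64307
theorem L64310 : sm gb N10746 = N6481 := ded_13_1 L40727 L28697 L28679 L40666 L64307
theorem L64311 : sm gb N6481 = N10746 := flp_b L64310
theorem L64312 : sm gg N6472 = N10747 := rfl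
theorem L64313 : sm gg N10747 = N6472 := flp_g L64312
theorem L64336 : sm gc N6476 = N10754 := rfl
theorem L64338 : sm ge N10754 = N6481 := ded_19_2 L40727 L40691 L64336
theorem L64340 : sm gf N10754 = N6502 := ded_20_2 L40835 L40693 L64336
theorem L64341 : sm gf N6502 = N10754 := flp_f L64340
theorem L64374 : sm gb N6479 = N10760 := rfl
theorem L64376 : sm gd N10760 = N6577 := ded_14_2 L41221 L40715 L64374
theorem L64377 : sm gd N6577 = N10760 := flp_d L64376
theorem L64378 : sm ge N10760 = N6487 := ded_15_2 L40753 L40717 L64374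
theorem L64384 : sm gc N6480 = N10762 := rfl
theorem L64386 : sm ga N10762 = N6481 := ded_8_1 L40727 L40720 L64384
theorem L64387 : sm ga N6481 = N10762 := flp_a L64386
theorem L64388 : sm gf N10762 = N6510 := ded_20_2 L40879 L40725 L64384
theorem L64390 : sm gd N6481 = N10763 := rfl
theorem L64391 : sm gd N10763 = N6481 := flp_d L64390
theorem L64392 : sm gf N10763 = N6512 := ded_23_2 L40891 L40729 L64390
theorem L64393 : sm gf N6512 = N10763 := flp_f L64392
theorem L64394 : sm gg N6481 = N10764 := rfl
theorem L64395 : sm gg N10764 = N6481 := flp_g L64394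
theorem L64396 : sm gc N10764 = N6482 := ded_21_1 L40731 L40726 L64394
theorem L64397 : sm gc N6482 = N10764 := flp_c L64396
theorem L64442 : sm gg N6487 = N10775 := rfl
theorem L64443 : sm gg N10775 = N6487 := flp_g L64442
theorem L64448 : sm ga N6488 = N10776 := rfl
theorem L64450 : sm ge N10776 = N6594 := ded_10_2 L41301 L40759 L64448
theorem L64451 : sm ge N6594 = N10776 := flp_e L64450
theorem L64452 : sm gb N10776 = N8590 := ded_7_2 L52743 L40619 L40613 L28662 L22586 L22617 L28722 L40756 L64448
theorem L64454 : sm gc N6488 = N10777 := rfl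
theorem L64456 : sm ge N10777 = N6595 := ded_19_2 L41303 L40759 L64454
theorem L64457 : sm ge N6595 = N10777 := flp_e L64456
theorem L64458 : sm gf N6488 = N10778 := rfl
theorem L64460 : sm ge N10778 = N6596 := ded_25_1 L41305 L40759 L64458
theorem L64461 : sm ge N6596 = N10778 := flp_e L64460
theorem L64462 : sm gb N10778 = N6529 := ded_16_1 L40975 L28825 L28727 L40756 L64458
theorem L64463 : sm gb N6529 = N10778 := flp_b L64462
theorem L64470 : sm gb N6489 = N10780 := rfl
theorem L64471 : sm gb N10780 = N6489 := flp_b L64470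
theorem L64472 : sm ge N10780 = N6598 := ded_15_2 L41311 L40765 L64470
theorem L64473 : sm ge N6598 = N10780 := flp_e L64472
theorem L64512 : sm gf N6492 = N10787 := rfl
theorem L64513 : sm gf N10787 = N6492 := flp_f L64512
theorem L64514 : sm ge N10787 = N6606 := ded_25_1 L41345 L40783 L64512
theorem L64515 : sm ge N6606 = N10787 := flp_e L64514
theorem L64552 : sm ga N6497 = N10794 := rfl
theorem L64556 : sm gf N10794 = N6498 := ded_11_2 L40813 L40811 L64552
theorem L64558 : sm gc N6497 = N10795 := rfl
theorem L64560 : sm ge N10795 = N6618 := ded_19_2 L41389 L40809 L64558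
theorem L64562 : sm gf N10795 = N6499 := ded_20_2 L40817 L40811 L64558
theorem L64564 : sm gb N10795 = N7282 := ded_13_1 L45114 L30769 L28755 L40806 L64558
theorem L64568 : sm gg N6497 = N10796 := rfl
theorem L64569 : sm gg N10796 = N6497 := flp_g L64568
theorem L64576 : sm gb N6498 = N10797 := rfl
theorem L64577 : sm gb N10797 = N6498 := flp_b L64576
theorem L64578 : sm ge N10797 = N6620 := ded_15_2 L41397 L40815 L64576
theorem L64579 : sm ge N6620 = N10797 := flp_e L64578
theorem L64580 : sm gc N6498 = N10798 := rfl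
theorem L64582 : sm ga N10798 = N6499 := ded_8_1 L40817 L40812 L64580
theorem L64584 : sm ge N10798 = N6621 := ded_19_2 L41399 L40815 L64580
theorem L64585 : sm ge N6621 = N10798 := flp_e L64584
theorem L64586 : sm gg N6498 = N10799 := rfl
theorem L64592 : sm gf N10799 = N10796 := ded_29_2 L64569 L64552 L64556 L64586
theorem L64598 : sm gd N6499 = N10800 := rfl
theorem L64599 : sm gd N10800 = N6499 := flp_d L64598
theorem L64600 : sm gb N10800 = N6837 := ded_14_1 L42509 L40821 L64598
theorem L64601 : sm gb N6837 = N10800 := flp_b L64600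
theorem L64610 : sm gb N6501 = N10802 := rfl
theorem L64612 : sm gd N10802 = N6626 := ded_14_2 L41425 L40831 L64610
theorem L64614 : sm ge N10802 = N6509 := ded_15_2 L40875 L40833 L64610
theorem L64616 : sm ga N8816 = N10802 := ded_10_3 L64614 L43951 L61452
theorem L64620 : sm gc N6501 = N10803 := rfl
theorem L64622 : sm ga N10803 = N6502 := ded_8_1 L40835 L40828 L64620
theorem L64624 : sm ge N10803 = N6510 := ded_19_2 L40879 L40833 L64620
theorem L64636 : sm gd N6502 = N10805 := rfl
theorem L64637 : sm gd N10805 = N6502 := flp_d L64636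
theorem L64639 : sm gg N6502 = N10806 := rfl
theorem L64640 : sm gg N10806 = N6502 := flp_g L64639
theorem L64641 : sm gc N10806 = N6503 := ded_21_1 L40840 L40834 L64639
theorem L64642 : sm gc N6503 = N10806 := flp_c L64641
theorem L64643 : sm ge N10806 = N6513 := ded_26_1 L40894 L40837 L64639
theorem L64645 : sm gb N6503 = N10807 := rfl
theorem L64649 : sm ge N10807 = N6514 := ded_15_2 L40898 L40844 L64645
theorem L64650 : sm ge N6514 = N10807 := flp_e L64649
theorem L64653 : sm gf N6503 = N10808 := rfl
theorem L64654 : sm gf N10808 = N6503 := flp_f L64653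
theorem L64657 : sm gd N10808 = N6632 := ded_23_1 L41457 L40842 L64653
theorem L64659 : sm ge N10808 = N6515 := ded_25_1 L40904 L40844 L64653
theorem L64660 : sm ge N6515 = N10808 := flp_e L64659
theorem L64663 : sm ga N6504 = N10809 := rfl
theorem L64664 : sm ga N10809 = N6504 := flp_a L64663
theorem L64665 : sm gd N10809 = N6633 := ded_9_2 L41465 L40848 L64663
theorem L64666 : sm gd N6633 = N10809 := flp_d L64665
theorem L64669 : sm gc N6504 = N10810 := rfl
theorem L64670 : sm gc N10810 = N6504 := flp_c L64669
theorem L64671 : sm ge N10810 = N6517 := ded_19_2 L40916 L40850 L64669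
theorem L64673 : sm gb N10810 = N10810 := ded_13_1 L64670 L40846 L28770 L40845 L64669
theorem L64682 : sm gb N6505 = N10812 := rfl
theorem L64684 : sm gd N10812 = N6636 := ded_14_2 L41481 L40854 L64682
theorem L64686 : sm ge N10812 = N6519 := ded_15_2 L40925 L40856 L64682
theorem L64688 : sm gg N8837 = N10812 := ded_26_0 L64686 L53658 L54052
theorem L64690 : sm ga N10812 = N8840 := ded_12_1 L54060 L54049 L64688
theorem L64691 : sm ga N8840 = N10812 := flp_a L64690
theorem L64698 : sm gf N6505 = N10814 := rfl
theorem L64699 : sm gf N10814 = N6505 := flp_f L64698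
theorem L64704 : sm ge N10814 = N6521 := ded_25_1 L40933 L40856 L64698
theorem L64705 : sm ge N6521 = N10814 := flp_e L64704
theorem L64717 : sm gb N6507 = N10817 := rfl
theorem L64721 : sm ge N10817 = N6524 := ded_15_2 L40948 L40867 L64717
theorem L64723 : sm gf N10817 = N6508 := ded_16_2 L40869 L28784 L28777 L40862 L64717
theorem L64724 : sm gf N6508 = N10817 := flp_f L64723
theorem L64735 : sm ga N6508 = N10819 := rfl
theorem L64737 : sm gd N10819 = N6643 := ded_9_2 L41521 L40871 L64735
theorem L64738 : sm gd N6643 = N10819 := flp_d L64737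
theorem L64739 : sm ge N10819 = N6526 := ded_10_2 L40962 L40873 L64735
theorem L64741 : sm gc N6508 = N10820 := rfl
theorem L64743 : sm ge N10820 = N6527 := ded_19_2 L40966 L40873 L64741
theorem L64754 : sm gc N6509 = N10822 := rfl
theorem L64755 : sm gc N10822 = N6509 := flp_c L64754
theorem L64756 : sm gd N10271 = N10822 := ded_28_1 L64755 L40876 L38750 L30142 L38738 L61428 L61430 L61470
theorem L64757 : sm gd N10822 = N10271 := flp_d L64756
theorem L64758 : sm gf N6509 = N10823 := rfl
theorem L64760 : sm ga N10823 = N8794 := ded_11_1 L61450 L43950 L64758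
theorem L64761 : sm ga N8794 = N10823 := flp_a L64760
theorem L64762 : sm gd N10823 = N6529 := ded_23_1 L40975 L40877 L64758
theorem L64763 : sm gd N6529 = N10823 := flp_d L64762
theorem L64766 : sm gg N6509 = N10824 := rfl
theorem L64767 : sm gg N10824 = N6509 := flp_g L64766
theorem L64770 : sm gb N6510 = N10825 := rfl
theorem L64771 : sm gb N10825 = N6510 := flp_b L64770
theorem L64772 : sm gd N6510 = N10826 := rfl
theorem L64773 : sm gd N10826 = N6510 := flp_d L64772
theorem L64774 : sm ga N10826 = N6512 := ded_9_1 L40891 L40881 L64772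
theorem L64775 : sm ga N6512 = N10826 := flp_a L64774
theorem L64776 : sm gg N6510 = N10827 := rfl
theorem L64777 : sm gg N10827 = N6510 := flp_g L64776
theorem L64778 : sm ga N10827 = N6513 := ded_12_1 L40894 L40881 L64776
theorem L64779 : sm ga N6513 = N10827 := flp_a L64778
theorem L64780 : sm gc N10827 = N6511 := ded_21_1 L40883 L40878 L64776
theorem L64781 : sm gc N6511 = N10827 := flp_c L64780
theorem L64782 : sm gf N10827 = N10764 := ded_29_2 L64395 L64387 L64388 L64776
theorem L64783 : sm gf N10764 = N10827 := flp_f L64782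
theorem L64793 : sm gg N6512 = N10831 := rfl
theorem L64795 : sm gd N10831 = N6513 := ded_24_1 L40894 L40890 L64793
theorem L64797 : sm gb N6513 = N10832 := rfl
theorem L64798 : sm gb N10832 = N6513 := flp_b L64797
theorem L64799 : sm gg N10832 = N10832 := ded_17_2 L64798 L40894 L28800 L40893 L64797
theorem L64800 : sm gf N6513 = N10833 := rfl
theorem L64801 : sm gf N10833 = N6513 := flp_f L64800
theorem L64802 : sm ga N10833 = N10764 := ded_11_1 L64783 L64778 L64800
theorem L64803 : sm ga N10764 = N10833 := flp_a L64802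
theorem L64804 : sm gc N10833 = N6515 := ded_20_1 L40904 L40896 L64800
theorem L64805 : sm gc N6515 = N10833 := flp_c L64804
theorem L64806 : sm gg N10833 = N10762 := ded_29_3 L64386 L40728 L40893 L64800
theorem L64807 : sm gg N10762 = N10833 := flp_g L64806
theorem L64808 : sm ga N6514 = N10834 := rfl
theorem L64809 : sm ga N10834 = N6514 := flp_a L64808
theorem L64812 : sm gg N10834 = N6516 := ded_12_2 L40912 L40902 L64808
theorem L64813 : sm gg N6516 = N10834 := flp_g L64812
theorem L64814 : sm gc N6514 = N10835 := rfl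
theorem L64815 : sm gc N10835 = N6514 := flp_c L64814
theorem L64816 : sm gg N10835 = N6517 := ded_21_2 L40916 L40902 L64814
theorem L64817 : sm gg N6517 = N10835 := flp_g L64816
theorem L64818 : sm gf N6514 = N10836 := rfl
theorem L64819 : sm gf N10836 = N6514 := flp_f L64818
theorem L64826 : sm gc N6516 = N10838 := rfl
theorem L64827 : sm gc N10838 = N6516 := flp_c L64826
theorem L64828 : sm ga N10838 = N6517 := ded_8_1 L40916 L40911 L64826
theorem L64829 : sm ga N6517 = N10838 := flp_a L64828
theorem L64830 : sm gf N6516 = N10839 := rfl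
theorem L64831 : sm gf N10839 = N6516 := flp_f L64830
theorem L64832 : sm ga N10839 = N6518 := ded_11_1 L40919 L40911 L64830
theorem L64836 : sm gg N10836 = N10839 := ded_29_1 L64831 L64813 L64809 L64818
theorem L64838 : sm gd N6517 = N10840 := rfl
theorem L64839 : sm gd N10840 = N6517 := flp_d L64838
theorem L64841 : sm gf N6517 = N10841 := rfl
theorem L64842 : sm gf N10841 = N6517 := flp_f L64841
theorem L64843 : sm gc N10841 = N6518 := ded_20_1 L40919 L40915 L64841
theorem L64844 : sm gc N6518 = N10841 := flp_c L64843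
theorem L64845 : sm gg N6518 = N10842 := rfl
theorem L64847 : sm ga N10842 = N10836 := ded_12_1 L64836 L64832 L64845
theorem L64849 : sm gd N10842 = N6543 := ded_24_1 L41057 L40921 L64845
theorem L64850 : sm gd N6543 = N10842 := flp_d L64849
theorem L64853 : sm ga N6519 = N10843 := rfl
theorem L64855 : sm gd N10843 = N6544 := ded_9_2 L41067 L40927 L64853
theorem L64856 : sm gd N6544 = N10843 := flp_d L64855
theorem L64861 : sm gb N10843 = N7363 := ded_7_2 L63639 L63636 L40309 L28490 L22493 L22674 L28809 L40924 L64853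
theorem L64901 : sm ga N6524 = N10853 := rfl
theorem L64905 : sm gf N10853 = N6526 := ded_11_2 L40962 L40952 L64901
theorem L64907 : sm gc N6524 = N10854 := rfl
theorem L64909 : sm gf N10854 = N6527 := ded_20_2 L40966 L40952 L64907
theorem L64911 : sm gg N6524 = N10855 := rfl
theorem L64912 : sm gg N10855 = N6524 := flp_g L64911
theorem L64919 : sm gb N6526 = N10857 := rfl
theorem L64920 : sm gb N10857 = N6526 := flp_b L64919
theorem L64921 : sm gd N10857 = N6552 := ded_14_2 L41103 L40964 L64919
theorem L64923 : sm gc N6526 = N10858 := rfl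
theorem L64925 : sm ga N10858 = N6527 := ded_8_1 L40966 L40961 L64923
theorem L64927 : sm gg N6526 = N10859 := rfl
theorem L64928 : sm gg N10859 = N6526 := flp_g L64927
theorem L64933 : sm gf N10859 = N10855 := ded_29_2 L64912 L64901 L64905 L64927
theorem L64934 : sm gf N10855 = N10859 := flp_f L64933
theorem L64935 : sm gd N6527 = N10860 := rfl
theorem L64936 : sm gd N10860 = N6527 := flp_d L64935
theorem L64937 : sm gb N10860 = N10860 := ded_14_1 L64936 L40967 L64935
theorem L64950 : sm gg N6529 = N10863 := rfl
theorem L64951 : sm gg N10863 = N6529 := flp_g L64950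
theorem L64952 : sm gc N10863 = N6918 := ded_21_1 L43917 L43910 L64950
theorem L64956 : sm gf N7071 = N10863 := ded_29_0 L64951 L40975 L40978 L43963
theorem L64960 : sm gb N6530 = N10864 := rfl
theorem L64962 : sm ge N10864 = N6696 := ded_15_2 L41763 L40981 L64960
theorem L64966 : sm gg N10864 = N6533 := ded_17_2 L40997 L28835 L28824 L40978 L64960
theorem L64968 : sm ga N7844 = N10864 := ded_10_3 L64962 L59058 L48167
theorem L64992 : sm gg N6531 = N10868 := rfl
theorem L64994 : sm ga N10868 = N6536 := ded_12_1 L41009 L40985 L64992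
theorem L64996 : sm gd N10868 = N6532 := ded_24_1 L40987 L40982 L64992
theorem L64997 : sm gd N6532 = N10868 := flp_d L64996
theorem L65000 : sm gb N6532 = N10869 := rfl
theorem L65001 : sm gb N10869 = N6532 := flp_b L65000
theorem L65002 : sm ge N10869 = N6704 := ded_15_2 L41799 L40993 L65000
theorem L65004 : sm gc N7585 = N10869 := ded_30_1 L65001 L40988 L41014 L41018 L59031 L37713 L34793 L35335 L35333 L35317 L35315 L26098 L26095 L35282 L51786 L51792 L46825 L46819 L46830
theorem L65005 : sm gc N10869 = N7585 := flp_c L65004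
theorem L65006 : sm gf N7584 = N10869 := ded_25_0 L65002 L58995 L46829
theorem L65008 : sm ga N6533 = N10870 := rfl
theorem L65009 : sm ga N10870 = N6533 := flp_a L65008
theorem L65010 : sm ge N10870 = N6705 := ded_10_2 L41801 L40999 L65008
theorem L65011 : sm ge N6705 = N10870 := flp_e L65010
theorem L65012 : sm gg N10870 = N7844 := ded_12_2 L64968 L64966 L65008
theorem L65016 : sm gc N7846 = N10870 := ded_19_3 L65010 L59046 L48177
theorem L65017 : sm gc N10870 = N7846 := flp_c L65016
theorem L65018 : sm gc N6533 = N10871 := rfl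
theorem L65019 : sm gc N10871 = N6533 := flp_c L65018
theorem L65020 : sm ga N10871 = N7846 := ded_8_1 L65016 L65009 L65018
theorem L65021 : sm ga N7846 = N10871 := flp_a L65020
theorem L65026 : sm gb N10871 = N7585 := ded_13_1 L65004 L65001 L40990 L40996 L65018
theorem L65027 : sm gb N7585 = N10871 := flp_b L65026
theorem L65028 : sm gf N10871 = N7579 := ded_29_0 L48172 L48169 L48174 L65021
theorem L65029 : sm gf N7579 = N10871 := flp_f L65028
theorem L65030 : sm gf N6533 = N10872 := rfl
theorem L65032 : sm gc N10872 = N7579 := ded_20_1 L65029 L65019 L65030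
theorem L65033 : sm gc N7579 = N10872 := flp_c L65032
theorem L65036 : sm gb N10872 = N10787 := ded_16_1 L64513 L40781 L28841 L40996 L65030
theorem L65037 : sm gb N10787 = N10872 := flp_b L65036
theorem L65038 : sm gd N6534 = N10873 := rfl
theorem L65039 : sm gd N10873 = N6534 := flp_d L65038
theorem L65042 : sm gc N10826 = N10873 := ded_28_0 L65039 L41001 L28843 L22692 L22666 L28798 L40890 L64775
theorem L65043 : sm gc N10873 = N10826 := flp_c L65042
theorem L65052 : sm gg N6535 = N10876 := rfl
theorem L65054 : sm gd N10876 = N6711 := ded_24_1 L41823 L41007 L65052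
theorem L65055 : sm gd N6711 = N10876 := flp_d L65054
theorem L65058 : sm gb N10876 = N6711 := ded_17_1 L41823 L29244 L28929 L41005 L65052
theorem L65059 : sm gb N6711 = N10876 := flp_b L65058
theorem L65060 : sm gf N6536 = N10877 := rfl
theorem L65064 : sm gd N10877 = N6537 := ded_23_1 L41015 L41011 L65060
theorem L65065 : sm gd N6537 = N10877 := flp_d L65064
theorem L65068 : sm gb N6537 = N10878 := rfl
theorem L65072 : sm gc N10878 = N10035 := ded_13_2 L60135 L37958 L59030 L41019 L65068
theorem L65073 : sm gc N10035 = N10878 := flp_c L65072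
theorem L65074 : sm gf N10878 = N6713 := ded_16_2 L41835 L29251 L28853 L41014 L65068
theorem L65076 : sm gb N6538 = N10879 := rfl
theorem L65078 : sm ge N10879 = N6714 := ded_15_2 L41837 L41029 L65076
theorem L65079 : sm ge N6714 = N10879 := flp_e L65078
theorem L65082 : sm gf N10089 = N10879 := ded_25_0 L65078 L63177 L63174
theorem L65083 : sm gf N10879 = N10089 := flp_f L65082
theorem L65102 : sm gf N6544 = N10884 := rfl
theorem L65103 : sm gf N10884 = N6544 := flp_f L65102
theorem L65104 : sm ga N10884 = N6546 := ded_11_1 L41077 L41066 L65102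
theorem L65106 : sm gc N10884 = N6546 := ded_20_1 L41077 L50202 L65102
theorem L65110 : sm gg N8761 = N10884 := ded_29_1 L65103 L53633 L53631 L53659
theorem L65112 : sm gg N6546 = N10885 := rfl
theorem L65114 : sm ga N10885 = N8761 := ded_12_1 L65110 L65104 L65112
theorem L65115 : sm ga N8761 = N10885 := flp_a L65114
theorem L65116 : sm gc N10885 = N8761 := ded_21_1 L65110 L65106 L65112
theorem L65117 : sm gc N8761 = N10885 := flp_c L65116
theorem L65122 : sm gb N6549 = N10886 := rfl
theorem L65128 : sm ga N10886 = N10085 := ded_7_1 L60399 L60393 L64048 L57437 L41085 L28890 L28898 L41088 L65122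
theorem L65160 : sm gb N6554 = N10892 := rfl
theorem L65162 : sm ge N10892 = N6747 := ded_15_2 L41941 L41119 L65160
theorem L65164 : sm gf N10892 = N10638 := ded_16_2 L63685 L40334 L28923 L41114 L65160
theorem L65165 : sm gf N10638 = N10892 := flp_f L65164
theorem L65166 : sm gb N6555 = N10893 := rfl
theorem L65167 : sm gb N10893 = N6555 := flp_b L65166
theorem L65186 : sm gb N6559 = N10897 := rfl
theorem L65187 : sm gb N10897 = N6559 := flp_b L65186
theorem L65188 : sm gf N10897 = N6560 := ded_16_2 L41137 L28947 L28942 L41134 L65186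
theorem L65189 : sm gf N6560 = N10897 := flp_f L65188
theorem L65196 : sm gg N6560 = N10900 := rfl
theorem L65197 : sm gg N10900 = N6560 := flp_g L65196
theorem L65198 : sm gb N10900 = N10340 := ded_17_1 L61837 L38973 L28953 L41136 L65196
theorem L65199 : sm gb N10340 = N10900 := flp_b L65198
theorem L65200 : sm ga N6561 = N10901 := rfl
theorem L65201 : sm ga N10901 = N6561 := flp_a L65200
theorem L65206 : sm gf N10901 = N10648 := ded_11_2 L63750 L49685 L65200
theorem L65208 : sm gb N10901 = N6594 := ded_7_2 L41301 L29037 L22776 L19591 L19569 L22733 L28954 L41138 L65200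
theorem L65209 : sm gb N6594 = N10901 := flp_b L65208
theorem L65210 : sm gg N8443 = N10901 := ded_31_0 L65206 L63747 L63764 L63768 L63183 L63179 L63159 L63155 L63162 L63171 L52050 L33875 L33870 L52041
theorem L65220 : sm gb N6562 = N10903 := rfl
theorem L65221 : sm gb N10903 = N6562 := flp_b L65220
theorem L65226 : sm gf N6745 = N10903 := ded_31_1 L65221 L41145 L30091 L30092 L33154 L50651 L64103 L64101 L41943 L41941 L29312 L29294 L29300 L41936
theorem L65227 : sm gf N10903 = N6745 := flp_f L65226
theorem L65228 : sm gf N6564 = N10904 := rfl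
theorem L65229 : sm gf N10904 = N6564 := flp_f L65228
theorem L65230 : sm gc N10904 = N8006 := ded_20_1 L49174 L50246 L65228
theorem L65231 : sm gc N8006 = N10904 := flp_c L65230
theorem L65234 : sm gg N8005 = N10904 := ded_29_1 L65229 L50249 L42937 L49159
theorem L65236 : sm gb N6566 = N10905 := rfl
theorem L65237 : sm gb N10905 = N6566 := flp_b L65236
theorem L65238 : sm gg N10905 = N6721 := ded_31_3 L41855 L29267 L29261 L29278 L41860 L41862 L64182 L64184 L63871 L42251 L40645 L50558 L41164 L65236
theorem L65239 : sm gg N6721 = N10905 := flp_g L65238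
theorem L65242 : sm gf N6567 = N10907 := rfl
theorem L65243 : sm gf N10907 = N6567 := flp_f L65242
theorem L65246 : sm gg N10736 = N10907 := ded_29_1 L65243 L64219 L64215 L64222
theorem L65248 : sm gb N6568 = N10908 := rfl
theorem L65249 : sm gb N10908 = N6568 := flp_b L65248
theorem L65250 : sm gf N10908 = N6931 := ded_16_2 L43116 L29777 L28967 L41174 L65248
theorem L65251 : sm gf N6931 = N10908 := flp_f L65250
theorem L65252 : sm gb N6569 = N10909 := rfl
theorem L65253 : sm gb N10909 = N6569 := flp_b L65252
theorem L65254 : sm ge N10909 = N10908 := ded_15_2 L65249 L50628 L65252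
theorem L65268 : sm gd N6571 = N10912 := rfl
theorem L65269 : sm gd N10912 = N6571 := flp_d L65268
theorem L65270 : sm gf N10912 = N6629 := ded_23_2 L41443 L41195 L65268
theorem L65278 : sm gb N6572 = N10914 := rfl
theorem L65280 : sm ge N10914 = N6582 := ded_15_2 L41243 L41199 L65278
theorem L65328 : sm ga N6577 = N10923 := rfl
theorem L65329 : sm ga N10923 = N6577 := flp_a L65328
theorem L65330 : sm ge N10923 = N6591 := ded_10_2 L41287 L41223 L65328
theorem L65331 : sm ge N6591 = N10923 := flp_e L65330
theorem L65332 : sm gc N6577 = N10924 := rfl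
theorem L65336 : sm gb N10924 = N6814 := ded_13_1 L42361 L29489 L28995 L41220 L65332
theorem L65362 : sm gd N6579 = N10931 := rfl
theorem L65363 : sm gd N10931 = N6579 := flp_d L65362
theorem L65364 : sm ga N10931 = N6580 := ded_9_1 L41235 L41231 L65362
theorem L65366 : sm gf N10931 = N6651 := ded_23_2 L41553 L41233 L65362
theorem L65367 : sm gf N6651 = N10931 := flp_f L65366
theorem L65416 : sm gf N6584 = N10943 := rfl
theorem L65418 : sm gc N10943 = N6585 := ded_20_1 L41257 L41252 L65416
theorem L65419 : sm gc N6585 = N10943 := flp_c L65418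
theorem L65420 : sm gg N6585 = N10944 := rfl
theorem L65424 : sm gd N10944 = N6612 := ded_24_1 L41367 L41259 L65420
theorem L65452 : sm ga N6590 = N10951 := rfl
theorem L65456 : sm gf N10951 = N6591 := ded_11_2 L41287 L41285 L65452
theorem L65462 : sm gg N6590 = N10953 := rfl
theorem L65463 : sm gg N10953 = N6590 := flp_g L65462
theorem L65474 : sm gg N6591 = N10956 := rfl
theorem L65475 : sm gg N10956 = N6591 := flp_g L65474
theorem L65478 : sm gd N10956 = N6622 := ded_24_1 L41403 L41289 L65474
theorem L65480 : sm gf N10956 = N10953 := ded_29_2 L65463 L65452 L65456 L65474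
theorem L65481 : sm gf N10953 = N10956 := flp_f L65480
theorem L65498 : sm gc N6594 = N10960 := rfl
theorem L65499 : sm gc N10960 = N6594 := flp_c L65498
theorem L65500 : sm ga N10960 = N6595 := ded_8_1 L41303 L41300 L65498
theorem L65501 : sm ga N6595 = N10960 := flp_a L65500
theorem L65504 : sm gf N7143 = N10960 := ded_30_0 L65499 L65209 L65201 L49686 L49682 L33003 L25057 L23576 L24230 L20696 L18700 L18709 L20973 L25661 L34324 L34326 L37390 L58912 L58916
theorem L65505 : sm gf N10960 = N7143 := flp_f L65504
theorem L65514 : sm gg N6594 = N10962 := rfl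
theorem L65515 : sm gg N10962 = N6594 := flp_g L65514
theorem L65516 : sm ga N10962 = N6597 := ded_12_1 L41309 L41300 L65514
theorem L65517 : sm ga N6597 = N10962 := flp_a L65516
theorem L65518 : sm gb N10962 = N8444 := ded_17_1 L52044 L52041 L65210 L65208 L65514
theorem L65520 : sm gb N6595 = N10963 := rfl
theorem L65522 : sm gc N10963 = N6598 := ded_13_2 L41311 L29039 L29036 L41302 L65520
theorem L65523 : sm gc N6598 = N10963 := flp_c L65522
theorem L65526 : sm gg N6595 = N10965 := rfl
theorem L65527 : sm gg N10965 = N6595 := flp_g L65526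
theorem L65530 : sm gg N6596 = N10966 := rfl
theorem L65531 : sm gg N10966 = N6596 := flp_g L65530
theorem L65532 : sm gf N10962 = N10966 := ded_29_0 L65531 L41305 L41308 L65517
theorem L65533 : sm gf N10966 = N10962 := flp_f L65532
theorem L65546 : sm gf N6598 = N10970 := rfl
theorem L65547 : sm gf N10970 = N6598 := flp_f L65546
theorem L65548 : sm gb N10970 = N6699 := ded_16_1 L41777 L29225 L29043 L41310 L65546
theorem L65549 : sm gb N6699 = N10970 := flp_b L65548
theorem L65550 : sm gg N6598 = N10971 := rfl
theorem L65551 : sm gg N10971 = N6598 := flp_g L65550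
theorem L65578 : sm ge N6600 = N10976 := rfl
theorem L65579 : sm ge N10976 = N6600 := flp_e L65578
theorem L65580 : sm gc N10976 = N6601 := ded_19_1 L41323 L41318 L65578
theorem L65581 : sm gc N6601 = N10976 := flp_c L65580
theorem L65592 : sm gb N6604 = N10979 := rfl
theorem L65593 : sm gb N10979 = N6604 := flp_b L65592
theorem L65598 : sm gc N10087 = N10979 := ded_30_1 L65593 L41337 L41344 L59042 L54916 L35387 L26138 L21227 L18816 L6024 L6016 L5991 L6457 L19102 L21749 L27232 L37678 L59588 L60417
theorem L65670 : sm gb N6612 = N10993 := rfl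
theorem L65672 : sm gg N10993 = N10909 := ded_17_2 L65253 L41179 L29067 L41366 L65670
theorem L65673 : sm gg N10909 = N10993 := flp_g L65672
theorem L65676 : sm gc N6617 = N10995 := rfl
theorem L65678 : sm ga N10995 = N6618 := ded_8_1 L41389 L41384 L65676
theorem L65679 : sm ga N6618 = N10995 := flp_a L65678
theorem L65680 : sm gf N10995 = N6621 := ded_20_2 L41399 L41387 L65676
theorem L65681 : sm gf N6621 = N10995 := flp_f L65680
theorem L65682 : sm gd N6618 = N10996 := rfl
theorem L65686 : sm gf N10996 = N6623 := ded_23_2 L41409 L41391 L65682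
theorem L65687 : sm gf N6623 = N10996 := flp_f L65686
theorem L65688 : sm gg N6618 = N10997 := rfl
theorem L65689 : sm gg N10997 = N6618 := flp_g L65688
theorem L65718 : sm gd N6621 = N11002 := rfl
theorem L65720 : sm ga N11002 = N6623 := ded_9_1 L41409 L41401 L65718
theorem L65721 : sm ga N6623 = N11002 := flp_a L65720
theorem L65722 : sm gg N6621 = N11003 := rfl
theorem L65723 : sm gg N11003 = N6621 := flp_g L65722
theorem L65728 : sm gf N11003 = N10997 := ded_29_2 L65689 L65679 L65680 L65722
theorem L65729 : sm gf N10997 = N11003 := flp_f L65728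
theorem L65750 : sm gb N6625 = N11008 := rfl
theorem L65751 : sm gb N11008 = N6625 := flp_b L65750
theorem L65752 : sm gf N11008 = N10724 := ded_16_2 L64179 L41151 L29083 L41418 L65750
theorem L65754 : sm ga N10726 = N11008 := ded_11_3 L65752 L64175 L64182
theorem L65755 : sm ga N11008 = N10726 := flp_a L65754
theorem L65756 : sm ga N6626 = N11009 := rfl
theorem L65758 : sm gd N11009 = N8816 := ded_9_2 L64616 L64612 L65756
theorem L65760 : sm ge N11009 = N6646 := ded_10_2 L41537 L41427 L65756
theorem L65761 : sm ge N6646 = N11009 := flp_e L65760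
theorem L65764 : sm gc N6626 = N11010 := rfl
theorem L65766 : sm ge N11010 = N6647 := ded_19_2 L41541 L41427 L65764
theorem L65788 : sm gg N6627 = N11015 := rfl
theorem L65789 : sm gg N11015 = N6627 := flp_g L65788
theorem L65790 : sm ga N11015 = N6630 := ded_12_1 L41445 L41431 L65788
theorem L65791 : sm ga N6630 = N11015 := flp_a L65790
theorem L65798 : sm gb N6628 = N11016 := rfl
theorem L65799 : sm gb N11016 = N6628 := flp_b L65798
theorem L65800 : sm ge N11016 = N6653 := ded_15_2 L41565 L41439 L65798
theorem L65801 : sm ge N6653 = N11016 := flp_e L65800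
theorem L65808 : sm gg N6629 = N11019 := rfl
theorem L65810 : sm gd N11019 = N6630 := ded_24_1 L41445 L41442 L65808
theorem L65826 : sm ga N6631 = N11022 := rfl
theorem L65827 : sm ga N11022 = N6631 := flp_a L65826
theorem L65830 : sm gg N11022 = N6633 := ded_12_2 L41465 L41455 L65826
theorem L65831 : sm gg N6633 = N11022 := flp_g L65830
theorem L65838 : sm gf N6631 = N11024 := rfl
theorem L65846 : sm gb N6633 = N11026 := rfl
theorem L65847 : sm gb N11026 = N6633 := flp_b L65846
theorem L65848 : sm ge N11026 = N6663 := ded_15_2 L41605 L41467 L65846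
theorem L65849 : sm ge N6663 = N11026 := flp_e L65848
theorem L65856 : sm gf N6633 = N11028 := rfl
theorem L65857 : sm gf N11028 = N6633 := flp_f L65856
theorem L65858 : sm ga N11028 = N6635 := ded_11_1 L41475 L41464 L65856
theorem L65862 : sm gg N11024 = N11028 := ded_29_1 L65857 L65831 L65827 L65838
theorem L65874 : sm gg N6635 = N11031 := rfl
theorem L65875 : sm gg N11031 = N6635 := flp_g L65874
theorem L65876 : sm ga N11031 = N11024 := ded_12_1 L65862 L65858 L65874
theorem L65880 : sm gf N11022 = N11031 := ded_29_0 L65875 L41475 L41455 L65826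
theorem L65882 : sm ga N6636 = N11032 := rfl
theorem L65883 : sm ga N11032 = N6636 := flp_a L65882
theorem L65884 : sm gd N11032 = N8840 := ded_9_2 L64691 L64684 L65882
theorem L65886 : sm ge N11032 = N6669 := ded_10_2 L41637 L41483 L65882
theorem L65890 : sm gg N8788 = N11032 := ded_24_0 L65884 L54060 L53812
theorem L65900 : sm gg N6636 = N11035 := rfl
theorem L65902 : sm ga N11035 = N8788 := ded_12_1 L65890 L65883 L65900
theorem L65903 : sm ga N8788 = N11035 := flp_a L65902
theorem L65906 : sm ge N11035 = N6672 := ded_26_1 L41647 L41483 L65900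
theorem L65907 : sm ge N6672 = N11035 := flp_e L65906
theorem L65912 : sm gd N6637 = N11037 := rfl
theorem L65913 : sm gd N11037 = N6637 := flp_d L65912
theorem L65914 : sm ga N11037 = N6639 := ded_9_1 L41499 L41487 L65912
theorem L65915 : sm ga N6639 = N11037 := flp_a L65914
theorem L65978 : sm gc N6643 = N11050 := rfl
theorem L65979 : sm gc N11050 = N6643 := flp_c L65978
theorem L65980 : sm ga N11050 = N6644 := ded_8_1 L41525 L41520 L65978
theorem L65982 : sm ge N11050 = N6685 := ded_19_2 L41703 L41523 L65978
theorem L65983 : sm ge N6685 = N11050 := flp_e L65982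
theorem L65992 : sm gd N6644 = N11052 := rfl
theorem L65993 : sm gd N11052 = N6644 := flp_d L65992
theorem L65994 : sm gb N11052 = N7693 := ded_14_1 L47423 L41529 L65992
theorem L66014 : sm gf N6646 = N11056 := rfl
theorem L66015 : sm gf N11056 = N6646 := flp_f L66014
theorem L66016 : sm ga N11056 = N6648 := ded_11_1 L41543 L41536 L66014
theorem L66018 : sm gd N11056 = N6690 := ded_23_1 L41731 L41539 L66014
theorem L66030 : sm gb N6647 = N11058 := rfl
theorem L66032 : sm gc N11058 = N6650 := ded_13_2 L41551 L29121 L29116 L41540 L66030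
theorem L66033 : sm gc N6650 = N11058 := flp_c L66032
theorem L66040 : sm gg N6647 = N11061 := rfl
theorem L66042 : sm gc N11061 = N6649 := ded_21_1 L41547 L41540 L66040
theorem L66058 : sm gf N6649 = N11064 := rfl
theorem L66059 : sm gf N11064 = N6649 := flp_f L66058
theorem L66064 : sm gg N11064 = N11056 := ded_29_3 L66016 L41543 L41546 L66058
theorem L66074 : sm gg N6650 = N11068 := rfl
theorem L66075 : sm gg N11068 = N6650 := flp_g L66074
theorem L66080 : sm gg N6651 = N11070 := rfl
theorem L66081 : sm gg N11070 = N6651 := flp_g L66080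
theorem L66082 : sm ga N11070 = N6656 := ded_12_1 L41573 L41555 L66080
theorem L66084 : sm gd N11070 = N6652 := ded_24_1 L41557 L41552 L66080
theorem L66122 : sm gf N6656 = N11080 := rfl
theorem L66126 : sm gd N11080 = N6658 := ded_23_1 L41579 L41575 L66122
theorem L66128 : sm gg N11080 = N10931 := ded_29_3 L65364 L41236 L41572 L66122
theorem L66129 : sm gg N10931 = N11080 := flp_g L66128
theorem L66146 : sm gc N6659 = N11086 := rfl
theorem L66148 : sm ga N11086 = N6660 := ded_8_1 L41593 L41586 L66146
theorem L66150 : sm gg N11086 = N6664 := ded_21_2 L41609 L41591 L66146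
theorem L66151 : sm gg N6664 = N11086 := flp_g L66150
theorem L66156 : sm gf N6660 = N11088 := rfl
theorem L66168 : sm gg N6662 = N11091 := rfl
theorem L66170 : sm gd N11091 = N6718 := ded_24_1 L41847 L41603 L66168
theorem L66174 : sm ga N6663 = N11092 := rfl
theorem L66175 : sm ga N11092 = N6663 := flp_a L66174
theorem L66190 : sm gd N6664 = N11097 := rfl
theorem L66192 : sm ga N11097 = N6666 := ded_9_1 L41621 L41611 L66190
theorem L66193 : sm ga N6666 = N11097 := flp_a L66192
theorem L66194 : sm gc N11097 = N10840 := ded_28_6 L64839 L64829 L64827 L40913 L28872 L29155 L41608 L66190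
theorem L66195 : sm gc N10840 = N11097 := flp_c L66194
theorem L66196 : sm gf N6664 = N11098 := rfl
theorem L66197 : sm gf N11098 = N6664 := flp_f L66196
theorem L66198 : sm ga N11098 = N6667 := ded_11_1 L41625 L41611 L66196
theorem L66202 : sm gg N11088 = N11098 := ded_29_1 L66197 L66151 L66148 L66156
theorem L66208 : sm gc N6666 = N11100 := rfl
theorem L66210 : sm ga N11100 = N10840 := ded_8_1 L66195 L66192 L66208
theorem L66212 : sm gd N11100 = N10838 := ded_28_7 L64828 L40916 L28807 L22705 L22840 L29156 L41620 L66208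
theorem L66228 : sm gg N6667 = N11104 := rfl
theorem L66230 : sm ga N11104 = N11088 := ded_12_1 L66202 L66198 L66228
theorem L66231 : sm ga N11088 = N11104 := flp_a L66230
theorem L66232 : sm gc N11104 = N6668 := ded_21_1 L41629 L41627 L66228
theorem L66236 : sm gb N6668 = N11105 := rfl
theorem L66237 : sm gb N11105 = N6668 := flp_b L66236
theorem L66238 : sm gd N11105 = N6724 := ded_14_2 L41861 L41633 L66236
theorem L66239 : sm gd N6724 = N11105 := flp_d L66238
theorem L66246 : sm gf N6669 = N11107 := rfl
theorem L66248 : sm ga N11107 = N6671 := ded_11_1 L41643 L41636 L66246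
theorem L66289 : sm gf N6672 = N11115 := rfl
theorem L66290 : sm gf N11115 = N6672 := flp_f L66289
theorem L66293 : sm gd N11115 = N6733 := ded_23_1 L41897 L41649 L66289
theorem L66295 : sm gg N11115 = N11107 := ded_29_3 L66248 L41643 L41646 L66289
theorem L66296 : sm gg N11107 = N11115 := flp_g L66295
theorem L66325 : sm gg N6677 = N11125 := rfl
theorem L66326 : sm gg N11125 = N6677 := flp_g L66325
theorem L66331 : sm gd N11125 = N6679 := ded_24_1 L41673 L41669 L66325
theorem L66332 : sm gd N6679 = N11125 := flp_d L66331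
theorem L66333 : sm gf N8235 = N11125 := ded_29_0 L66326 L41667 L41275 L51026
theorem L66334 : sm gf N11125 = N8235 := flp_f L66333
theorem L66383 : sm ga N6684 = N11138 := rfl
theorem L66384 : sm ga N11138 = N6684 := flp_a L66383
theorem L66385 : sm gd N11138 = N6742 := ded_9_2 L41929 L41701 L66383
theorem L66386 : sm gd N6742 = N11138 := flp_d L66385
theorem L66387 : sm gb N11138 = N11092 := ded_7_2 L66175 L41605 L29153 L22838 L19641 L22851 L29202 L41698 L66383
theorem L66401 : sm gd N6685 = N11143 := rfl
theorem L66402 : sm gd N11143 = N6685 := flp_d L66401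
theorem L66403 : sm ga N11143 = N6687 := ded_9_1 L41715 L41705 L66401
theorem L66405 : sm gc N11143 = N9635 := ded_28_6 L57937 L57927 L57925 L36927 L26789 L29205 L41702 L66401
theorem L66406 : sm gc N9635 = N11143 := flp_c L66405
theorem L66447 : sm gb N6689 = N11151 := rfl
theorem L66449 : sm gd N11151 = N6747 := ded_14_2 L41941 L41727 L66447
theorem L66450 : sm gd N6747 = N11151 := flp_d L66449
theorem L66451 : sm gf N11151 = N7658 := ded_16_2 L47241 L31788 L29215 L41722 L66447
theorem L66453 : sm gb N6691 = N11152 := rfl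
theorem L66454 : sm gb N11152 = N6691 := flp_b L66453
theorem L66459 : sm gf N6897 = N11152 := ded_31_1 L66454 L41737 L41730 L61449 L63084 L63090 L65199 L65197 L65189 L65187 L41168 L41165 L41158 L50249
theorem L66461 : sm ga N11152 = N8005 := ded_30_3 L49160 L32709 L24786 L24268 L24783 L24779 L24819 L27095 L22411 L22406 L27998 L39358 L44711 L44715 L62004 L62010 L58909 L41741 L66453
theorem L66473 : sm gb N6695 = N11155 := rfl
theorem L66477 : sm gf N11155 = N6779 := ded_16_2 L42825 L66459 L66454 L41760 L66473
theorem L66478 : sm gf N6779 = N11155 := flp_f L66477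
theorem L66479 : sm ga N11155 = N10667 := ded_30_3 L63865 L50632 L42877 L37322 L37327 L57364 L57362 L36587 L36581 L36544 L36548 L36554 L49635 L61999 L62003 L41754 L58908 L58904 L66473
theorem L66495 : sm gf N6698 = N11159 := rfl
theorem L66497 : sm gd N11159 = N6699 := ded_23_1 L41777 L41772 L66495
theorem L66498 : sm gd N6699 = N11159 := flp_d L66497
theorem L66503 : sm gg N6699 = N11161 := rfl
theorem L66504 : sm gg N11161 = N6699 := flp_g L66503
theorem L66509 : sm gf N10193 = N11161 := ded_29_0 L66504 L41777 L41778 L61021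
theorem L66510 : sm gf N11161 = N10193 := flp_f L66509
theorem L66511 : sm gf N6700 = N11162 := rfl
theorem L66512 : sm gf N11162 = N6700 := flp_f L66511
theorem L66513 : sm ga N11162 = N11161 := ded_11_1 L66510 L61020 L66511
theorem L66515 : sm gc N11162 = N10194 := ded_20_1 L61031 L60990 L66511
theorem L66517 : sm ge N11162 = N10275 := ded_25_1 L61487 L61460 L66511
theorem L66518 : sm ge N10275 = N11162 := flp_e L66517
theorem L66555 : sm gf N6705 = N11168 := rfl
theorem L66556 : sm gf N11168 = N6705 := flp_f L66555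
theorem L66557 : sm ga N11168 = N6707 := ded_11_1 L41805 L41800 L66555
theorem L66561 : sm gg N11168 = N8121 := ded_29_3 L56893 L56891 L59049 L66555
theorem L66562 : sm gg N8121 = N11168 := flp_g L66561
theorem L66563 : sm gb N11168 = N6732 := ded_16_1 L41895 L50195 L63124 L63135 L66555
theorem L66564 : sm gb N6732 = N11168 := flp_b L66563
theorem L66565 : sm ga N10993 = N10709 := ded_7_5 L64102 L50653 L49808 L41898 L66564 L66557 L41806 L41369 L65670
theorem L66567 : N10707 = N10909 := coi_12_0 L65673 L66565 L64101 L64096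
theorem L66568 : N10909 = N10707 := (eqc rfl L66567 rfl).symm
theorem L66571 : sm ge N10707 = N10908 := trf L66568 L65254 rfl
theorem L66573 : sm gg N10707 = N10993 := trf L66568 L65673 rfl
theorem L66574 : sm gg N10993 = N10707 := flp_g L66573
theorem L66575 : sm ga N10908 = N10638 := ded_10_1 L63686 L64096 L66571
theorem L66577 : sm ga N10892 = N6931 := ded_11_3 L65251 L66575 L65165
theorem L66578 : sm ga N6931 = N10892 := flp_a L66577
theorem L66595 : sm gg N6708 = N11171 := rfl
theorem L66599 : sm gc N11171 = N11070 := ded_21_1 L66081 L41812 L66595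
theorem L66601 : sm gd N11171 = N6710 := ded_24_1 L41819 L41808 L66595
theorem L66602 : sm gd N6710 = N11171 := flp_d L66601
theorem L66621 : sm gf N6711 = N11176 := rfl
theorem L66622 : sm gf N11176 = N6711 := flp_f L66621
theorem L66625 : sm ge N11176 = N6712 := ded_25_1 L41827 L41825 L66621
theorem L66626 : sm ge N6712 = N11176 := flp_e L66625
theorem L66637 : sm gc N6713 = N11179 := rfl
theorem L66638 : sm gc N11179 = N6713 := flp_c L66637
theorem L66641 : sm gf N11179 = N10035 := ded_20_2 L65073 L65074 L66637
theorem L66643 : sm gb N11179 = N6717 := ded_13_1 L41845 L29265 L29255 L41834 L66637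
theorem L66644 : sm gb N6717 = N11179 := flp_b L66643
theorem L66645 : sm gg N6713 = N11180 := rfl
theorem L66647 : sm gb N11180 = N10971 := ded_17_1 L65551 L41311 L29257 L41834 L66645
theorem L66648 : sm gb N10971 = N11180 := flp_b L66647
theorem L66651 : sm gg N6714 = N11182 := rfl
theorem L66653 : sm gf N11182 = N10553 := ded_29_2 L63179 L63172 L63176 L66651
theorem L66654 : sm gf N10553 = N11182 := flp_f L66653
theorem L66655 : sm gb N11182 = N6722 := ded_17_1 L41857 L29267 L29261 L41836 L66651
theorem L66657 : sm gc N6715 = N11183 := rfl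
theorem L66663 : sm gf N11183 = N6717 := ded_20_2 L41845 L41841 L66657
theorem L66665 : sm gb N11183 = N9007 := ded_13_1 L54889 L59065 L41034 L41838 L66657
theorem L66666 : sm gb N9007 = N11183 := flp_b L66665
theorem L66675 : sm gd N6717 = N11185 := rfl
theorem L66676 : sm gd N11185 = N6717 := flp_d L66675
theorem L66679 : sm gg N6717 = N11186 := rfl
theorem L66680 : sm gg N11186 = N6717 := flp_g L66679
theorem L66683 : sm gc N11186 = N6718 := ded_21_1 L41847 L41844 L66679
theorem L66684 : sm gc N6718 = N11186 := flp_c L66683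
theorem L66685 : sm ge N11186 = N10036 := ded_26_1 L60137 L59037 L66679
theorem L66687 : sm gf N6718 = N11187 := rfl
theorem L66693 : sm gg N11187 = N7469 := ded_29_3 L59071 L41840 L41846 L66687
theorem L66695 : sm gf N6719 = N11188 := rfl
theorem L66696 : sm gf N11188 = N6719 := flp_f L66695
theorem L66697 : sm ga N11188 = N6721 := ded_11_1 L41855 L41850 L66695
theorem L66698 : sm ga N6721 = N11188 := flp_a L66697
theorem L66699 : sm gg N6719 = N11189 := rfl
theorem L66700 : sm gg N11189 = N6719 := flp_g L66699
theorem L66701 : sm ga N11189 = N6722 := ded_12_1 L41857 L41850 L66699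
theorem L66702 : sm ga N6722 = N11189 := flp_a L66701
theorem L66703 : sm gf N11189 = N10905 := ded_29_2 L65238 L66698 L66696 L66699
theorem L66704 : sm gf N10905 = N11189 := flp_f L66703
theorem L66705 : sm gb N10904 = N11189 := ded_16_5 L66703 L65237 L41165 L41158 L65228
theorem L66723 : sm gf N6722 = N11194 := rfl
theorem L66725 : sm ga N11194 = N10905 := ded_11_1 L66704 L66701 L66723
theorem L66726 : sm ga N10905 = N11194 := flp_a L66725
theorem L66739 : sm gf N6724 = N11197 := rfl
theorem L66740 : sm gf N11197 = N6724 := flp_f L66739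
theorem L66741 : sm gg N11197 = N11008 := ded_29_3 L65755 L64183 L41863 L66739
theorem L66742 : sm gg N11008 = N11197 := flp_g L66741
theorem L66759 : sm gg N6731 = N11199 := rfl
theorem L66769 : sm gb N11199 = N8121 := ded_17_1 L66562 L66563 L41893 L41888 L66759
theorem L66775 : sm gc N6737 = N11201 := rfl
theorem L66776 : sm gc N11201 = N6737 := flp_c L66775
theorem L66781 : sm gf N10085 = N11201 := ded_30_0 L66776 L41913 L29293 L22903 L21509 L21507 L18949 L18944 L18940 L18489 L10461 L10470 L20484 L24683 L32583 L48403 L48398 L65122 L65128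
theorem L66783 : sm gf N6737 = N11202 := rfl
theorem L66785 : sm gc N11202 = N10085 := ded_20_1 L66781 L66776 L66783
theorem L66791 : sm gb N11202 = N6744 := ded_16_1 L41935 L29301 L29295 L41912 L66783
theorem L66792 : sm gb N6744 = N11202 := flp_b L66791
theorem L66843 : sm gg N6742 = N11212 := rfl
theorem L66845 : sm ga N11212 = N6745 := ded_12_1 L41937 L41928 L66843
theorem L66851 : sm gb N11212 = N8005 := ded_17_1 L65234 L66705 L66700 L41931 L66843
theorem L66852 : sm gb N8005 = N11212 := flp_b L66851
theorem L66853 : sm gd N6743 = N11213 := rfl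
theorem L66854 : sm gd N11213 = N6743 := flp_d L66853
theorem L66855 : sm gf N6743 = N11214 := rfl
theorem L66857 : sm gc N11214 = N6744 := ded_20_1 L41935 L41932 L66855
theorem L66858 : sm gc N6744 = N11214 := flp_c L66857
theorem L66861 : sm gb N9973 = N11214 := ded_13_5 L66857 L66792 L66785 L60399 L59827
theorem L66867 : sm gb N6745 = N11216 := rfl
theorem L66869 : sm gf N11216 = N10893 := ded_16_2 L65167 L41149 L65220 L65227 L66867
theorem L66870 : sm gf N10893 = N11216 := flp_f L66869
theorem L66873 : sm ga N11216 = N9410 := ded_7_1 L56885 L59059 L41763 L41739 L66453 L66461 L66852 L66845 L66867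
theorem L66875 : sm gc N9414 = N11216 := ded_8_0 L66873 L56886 L56902
theorem L66876 : sm gc N11216 = N9414 := flp_c L66875
theorem L66883 : sm ga N6747 = N11218 := rfl
theorem L66884 : sm ga N11218 = N6747 := flp_a L66883
theorem L66885 : sm ge N11218 = N6931 := ded_10_2 L66578 L65162 L66883
theorem L66887 : sm gf N11218 = N10707 := ded_11_2 L64097 L41943 L66883
theorem L66888 : sm gf N10707 = N11218 := flp_f L66887
theorem L66889 : sm gb N6797 = N11218 := ded_15_3 L66885 L43116 L42255
theorem L66890 : sm gb N11218 = N6797 := flp_b L66889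
theorem L66901 : sm gd N6748 = N11221 := rfl
theorem L66902 : sm gd N11221 = N6748 := flp_d L66901
theorem L66903 : sm gb N11221 = N6749 := ded_14_1 L41951 L41944 L66901
theorem L66907 : sm gg N6748 = N11222 := rfl
theorem L66908 : sm gg N11222 = N6748 := flp_g L66907
theorem L66917 : sm ge N6749 = N11224 := rfl
theorem L66919 : sm ga N11224 = N6753 := ded_10_1 L41971 L41953 L66917
theorem L66929 : sm gg N6749 = N11226 := rfl
theorem L66931 : sm ga N11226 = N6755 := ded_12_1 L41981 L41953 L66929
theorem L66932 : sm ga N6755 = N11226 := flp_a L66931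
theorem L66933 : sm gd N11226 = N6751 := ded_24_1 L41963 L41950 L66929
theorem L66935 : sm gb N6751 = N11227 := rfl
theorem L66936 : sm gb N11227 = N6751 := flp_b L66935
theorem L66937 : sm gd N6752 = N11228 := rfl
theorem L66938 : sm gd N11228 = N6752 := flp_d L66937
theorem L66939 : sm gb N11228 = N10207 := ded_14_1 L61111 L41969 L66937
theorem L66940 : sm gb N10207 = N11228 := flp_b L66939
theorem L66941 : sm ge N6752 = N11229 := rfl
theorem L66945 : sm gc N11229 = N6753 := ded_19_1 L41971 L41966 L66941
theorem L66951 : sm gg N6752 = N11231 := rfl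
theorem L66953 : sm gc N11231 = N6755 := ded_21_1 L41981 L41966 L66951
theorem L66955 : sm gf N6753 = N11232 := rfl
theorem L66956 : sm gf N11232 = N6753 := flp_f L66955
theorem L66957 : sm ge N11232 = N6754 := ded_25_1 L41975 L41970 L66955
theorem L66958 : sm ge N6754 = N11232 := flp_e L66957
theorem L66959 : sm gb N11232 = N7113 := ded_16_1 L44191 L30256 L29333 L41973 L66955
theorem L66961 : sm gg N6753 = N11233 := rfl
theorem L66962 : sm gg N11233 = N6753 := flp_g L66961
theorem L66965 : sm gg N6754 = N11234 := rfl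
theorem L66966 : sm gg N11234 = N6754 := flp_g L66965
theorem L66967 : sm gd N11234 = N6756 := ded_24_1 L41985 L41977 L66965
theorem L66969 : sm gf N11226 = N11234 := ded_29_0 L66966 L41975 L41980 L66932
theorem L66970 : sm gf N11234 = N11226 := flp_f L66969
theorem L66971 : sm gf N6755 = N11235 := rfl
theorem L66972 : sm gf N11235 = N6755 := flp_f L66971
theorem L66973 : sm ga N11235 = N11234 := ded_11_1 L66970 L66931 L66971
theorem L66974 : sm ga N11234 = N11235 := flp_a L66973
theorem L66975 : sm gd N11235 = N6757 := ded_23_1 L41989 L41983 L66971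
theorem L66979 : sm gb N6756 = N11236 := rfl
theorem L66980 : sm gb N11236 = N6756 := flp_b L66979
theorem L66981 : sm gg N11236 = N7117 := ded_17_2 L44217 L30269 L29323 L41984 L66979
theorem L66982 : sm gg N7117 = N11236 := flp_g L66981
theorem L66983 : sm gg N6758 = N11237 := rfl
theorem L66984 : sm gg N11237 = N6758 := flp_g L66983
theorem L66991 : sm gf N8573 = N11237 := ded_29_0 L66984 L41998 L40629 L52665
theorem L66992 : sm gf N11237 = N8573 := flp_f L66991
theorem L66995 : sm gd N6759 = N11238 := rfl
theorem L66999 : sm gb N11238 = N7224 := ded_14_1 L44794 L42011 L66995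
theorem L67000 : sm gb N7224 = N11238 := flp_b L66999
theorem L67003 : sm ge N11238 = N8126 := ded_22_2 L60715 L60716 L43813 L42007 L66995
theorem L67015 : sm gf N6762 = N11240 := rfl
theorem L67021 : sm ge N11240 = N6964 := ded_25_1 L43290 L42025 L67015
theorem L67025 : sm gb N11240 = N10213 := ded_16_1 L61146 L43028 L39455 L42027 L67015
theorem L67026 : sm gb N10213 = N11240 := flp_b L67025
theorem L67059 : sm gc N6767 = N11246 := rfl
theorem L67061 : sm ga N11246 = N6768 := ded_8_1 L42057 L42050 L67059
theorem L67062 : sm ga N6768 = N11246 := flp_a L67061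
theorem L67065 : sm gf N11246 = N6835 := ded_20_2 L42493 L42055 L67059
theorem L67067 : sm gd N6768 = N11247 := rfl
theorem L67068 : sm gd N11247 = N6768 := flp_d L67067
theorem L67071 : sm gf N11247 = N6837 := ded_23_2 L42509 L42061 L67067
theorem L67072 : sm gf N6837 = N11247 := flp_f L67071
theorem L67073 : sm gg N6768 = N11248 := rfl
theorem L67074 : sm gg N11248 = N6768 := flp_g L67073
theorem L67087 : sm gc N6770 = N11250 := rfl
theorem L67088 : sm gc N11250 = N6770 := flp_c L67087
theorem L67089 : sm ge N11250 = N7231 := ded_19_2 L44842 L42075 L67087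
theorem L67091 : sm gf N11250 = N6783 := ded_20_2 L42163 L42077 L67087
theorem L67093 : sm gb N11250 = N7238 := ded_13_1 L44878 L30653 L29355 L42070 L67087
theorem L67094 : sm gb N7238 = N11250 := flp_b L67093
theorem L67095 : sm gg N6770 = N11251 := rfl
theorem L67097 : sm gd N11251 = N6776 := ded_24_1 L42125 L42073 L67095
theorem L67101 : sm gb N6771 = N11252 := rfl
theorem L67103 : sm gd N11252 = N6777 := ded_14_2 L42129 L42083 L67101
theorem L67105 : sm ge N11252 = N7233 := ded_15_2 L44852 L42085 L67101
theorem L67107 : sm ga N6772 = N11253 := rfl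
theorem L67108 : sm ga N11253 = N6772 := flp_a L67107
theorem L67113 : sm gg N11253 = N6785 := ded_12_2 L42175 L42095 L67107
theorem L67114 : sm gg N6785 = N11253 := flp_g L67113
theorem L67125 : sm gf N6772 = N11255 := rfl
theorem L67126 : sm gf N11255 = N6772 := flp_f L67125
theorem L67129 : sm ge N11255 = N7235 := ded_25_1 L44862 L42093 L67125
theorem L67145 : sm gd N6779 = N11258 := rfl
theorem L67149 : sm gg N11258 = N6796 := ded_24_2 L42249 L42143 L67145
theorem L67150 : sm gg N6796 = N11258 := flp_g L67149
theorem L67151 : sm gb N6780 = N11259 := rfl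
theorem L67153 : sm ge N11259 = N6914 := ded_15_2 L43012 L42147 L67151
theorem L67157 : sm gf N11259 = N6781 := ded_16_2 L42149 L29389 L29382 L42144 L67151
theorem L67158 : sm gf N6781 = N11259 := flp_f L67157
theorem L67161 : sm ga N11259 = N6791 := ded_7_1 L42218 L39591 L28054 L22264 L28223 L39924 L43025 L42258 L67151
theorem L67179 : sm gd N6783 = N11262 := rfl
theorem L67181 : sm gb N11262 = N10912 := ded_14_1 L65269 L42167 L67179
theorem L67182 : sm gb N10912 = N11262 := flp_b L67181
theorem L67189 : sm gf N6784 = N11264 := rfl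
theorem L67190 : sm gf N11264 = N6784 := flp_f L67189
theorem L67193 : sm gd N11264 = N6792 := ded_23_1 L42221 L42171 L67189
theorem L67194 : sm gd N6792 = N11264 := flp_d L67193
theorem L67215 : sm gf N6785 = N11267 := rfl
theorem L67216 : sm gf N11267 = N6785 := flp_f L67215
theorem L67217 : sm ga N11267 = N6787 := ded_11_1 L42187 L42174 L67215
theorem L67218 : sm ga N6787 = N11267 := flp_a L67217
theorem L67221 : sm ge N11267 = N10357 := ded_25_1 L61935 L42179 L67215
theorem L67223 : sm gg N11255 = N11267 := ded_29_1 L67216 L67114 L67108 L67125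
theorem L67224 : sm gg N11267 = N11255 := flp_g L67223
theorem L67247 : sm gd N6788 = N11271 := rfl
theorem L67249 : sm ga N11271 = N6790 := ded_9_1 L42211 L42195 L67247
theorem L67251 : sm gb N11271 = N10177 := ded_14_1 L60932 L42200 L67247
theorem L67252 : sm gb N10177 = N11271 := flp_b L67251
theorem L67253 : sm gf N11271 = N10145 := ded_23_2 L60748 L42199 L67247
theorem L67254 : sm gf N10145 = N11271 := flp_f L67253
theorem L67257 : sm ge N6790 = N11273 := rfl
theorem L67259 : sm gb N11273 = N9787 := ded_15_1 L64247 L64240 L67257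
theorem L67260 : sm gb N9787 = N11273 := flp_b L67259
theorem L67261 : sm gd N11273 = N6920 := ded_22_1 L43062 L29751 L29417 L42210 L67257
theorem L67281 : sm gd N6794 = N11276 := rfl
theorem L67282 : sm gd N11276 = N6794 := flp_d L67281
theorem L67283 : sm ga N11276 = N6796 := ded_9_1 L42249 L42237 L67281
theorem L67284 : sm ga N6796 = N11276 := flp_a L67283
theorem L67287 : sm gg N11276 = N7619 := ded_24_2 L47044 L50634 L67281
theorem L67289 : sm gf N6794 = N11277 := rfl
theorem L67297 : sm gg N11277 = N11155 := ded_29_3 L66479 L63865 L50634 L67289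
theorem L67298 : sm gg N11155 = N11277 := flp_g L67297
theorem L67299 : sm gb N11277 = N10966 := ded_16_1 L65533 L65518 L52048 L50611 L67289
theorem L67300 : sm gb N10966 = N11277 := flp_b L67299
theorem L67303 : sm ge N6796 = N11279 := rfl
theorem L67304 : sm ge N11279 = N6796 := flp_e L67303
theorem L67305 : sm gb N11279 = N10143 := ded_15_1 L62061 L62065 L67303
theorem L67306 : sm gb N10143 = N11279 := flp_b L67305
theorem L67313 : sm gb N6799 = N11281 := rfl
theorem L67319 : sm gf N11281 = N8103 := ded_16_2 L49722 L33023 L29441 L42264 L67313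
theorem L67320 : sm gf N8103 = N11281 := flp_f L67319
theorem L67321 : sm gb N6800 = N11282 := rfl
theorem L67327 : sm gg N11282 = N8105 := ded_17_2 L49730 L33027 L29441 L42274 L67321
theorem L67328 : sm gg N8105 = N11282 := flp_g L67327
theorem L67329 : sm ga N6801 = N11283 := rfl
theorem L67333 : sm ge N11283 = N10731 := ded_10_2 L64203 L42289 L67329
theorem L67335 : sm gf N11283 = N8126 := ded_11_2 L49846 L42291 L67329
theorem L67336 : sm gf N8126 = N11283 := flp_f L67335
theorem L67337 : sm gc N6801 = N11284 := rfl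
theorem L67338 : sm gc N11284 = N6801 := flp_c L67337
theorem L67341 : sm gf N11284 = N8127 := ded_20_2 L49848 L42291 L67337
theorem L67342 : sm gf N8127 = N11284 := flp_f L67341
theorem L67365 : sm gf N6802 = N11288 := rfl
theorem L67369 : sm ge N11288 = N10736 := ded_25_1 L64223 L42297 L67365
theorem L67411 : sm gf N6806 = N11296 := rfl
theorem L67412 : sm gf N11296 = N6806 := flp_f L67411
theorem L67419 : sm gg N10144 = N11296 := ded_29_1 L67412 L60739 L60733 L60740
theorem L67451 : sm gd N6809 = N11301 := rfl
theorem L67453 : sm ga N11301 = N6810 := ded_9_1 L42337 L42331 L67451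
theorem L67454 : sm ga N6810 = N11301 := flp_a L67453
theorem L67455 : sm gf N11301 = N6845 := ded_23_2 L42553 L42335 L67451
theorem L67457 : sm gc N6810 = N11302 := rfl
theorem L67467 : sm gg N6810 = N11304 := rfl
theorem L67468 : sm gg N11304 = N6810 := flp_g L67467
theorem L67469 : sm gd N11304 = N6811 := ded_24_1 L42341 L42336 L67467
theorem L67475 : sm ga N6812 = N11306 := rfl
theorem L67476 : sm ga N11306 = N6812 := flp_a L67475
theorem L67481 : sm gg N11306 = N6813 := ded_12_2 L42355 L42353 L67475
theorem L67482 : sm gg N6813 = N11306 := flp_g L67481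
theorem L67489 : sm gf N6812 = N11308 := rfl
theorem L67491 : sm gd N11308 = N6827 := ded_23_1 L42439 L42349 L67489
theorem L67495 : sm gb N6813 = N11309 := rfl
theorem L67496 : sm gb N11309 = N6813 := flp_b L67495
theorem L67497 : sm gd N11309 = N6828 := ded_14_2 L42443 L42357 L67495
theorem L67503 : sm gf N10130 = N11309 := ded_23_0 L67497 L42449 L60651
theorem L67513 : sm gf N6813 = N11311 := rfl
theorem L67514 : sm gf N11311 = N6813 := flp_f L67513
theorem L67519 : sm ge N11311 = N10400 := ded_25_1 L62203 L42359 L67513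
theorem L67520 : sm ge N10400 = N11311 := flp_e L67519
theorem L67521 : sm gg N11308 = N11311 := ded_29_1 L67514 L67482 L67476 L67489
theorem L67522 : sm gg N11311 = N11308 := flp_g L67521
theorem L67523 : sm gb N11311 = N10406 := ded_16_1 L62238 L60796 L67503 L67496 L67513
theorem L67527 : sm gf N6814 = N11313 := rfl
theorem L67531 : sm ge N11313 = N10402 := ded_25_1 L62213 L42363 L67527
theorem L67589 : sm gc N6820 = N11321 := rfl
theorem L67590 : sm gc N11321 = N6820 := flp_c L67589
theorem L67591 : sm ga N11321 = N6821 := ded_8_1 L42409 L42405 L67589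
theorem L67593 : sm gf N11321 = N6867 := ded_20_2 L42673 L42407 L67589
theorem L67594 : sm gf N6867 = N11321 := flp_f L67593
theorem L67595 : sm gd N11302 = N11321 := ded_28_1 L67590 L42403 L29505 L29471 L42328 L67451 L67453 L67457
theorem L67596 : sm gd N11321 = N11302 := flp_d L67595
theorem L67597 : sm ge N6820 = N11322 := rfl
theorem L67599 : sm ga N11322 = N6822 := ded_10_1 L42413 L42405 L67597
theorem L67600 : sm ga N6822 = N11322 := flp_a L67599
theorem L67601 : sm gf N11322 = N6868 := ded_25_2 L42679 L42407 L67597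
theorem L67615 : sm ge N6821 = N11325 := rfl
theorem L67617 : sm gc N11325 = N6822 := ded_19_1 L42413 L42408 L67615
theorem L67618 : sm gc N6822 = N11325 := flp_c L67617
theorem L67619 : sm gf N11325 = N6875 := ded_25_2 L42719 L42411 L67615
theorem L67625 : sm gg N6822 = N11327 := rfl
theorem L67626 : sm gg N11327 = N6822 := flp_g L67625
theorem L67651 : sm gb N6825 = N11331 := rfl
theorem L67653 : sm ge N11331 = N6921 := ded_15_2 L43069 L42429 L67651
theorem L67657 : sm gg N11331 = N6920 := ded_17_2 L43063 L42450 L42443 L42431 L67651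
theorem L67658 : sm gg N6920 = N11331 := flp_g L67657
theorem L67745 : sm gb N6835 = N11345 := rfl
theorem L67746 : sm gb N11345 = N6835 := flp_b L67745
theorem L67749 : sm gd N6835 = N11346 := rfl
theorem L67750 : sm gd N11346 = N6835 := flp_d L67749
theorem L67751 : sm ga N11346 = N6837 := ded_9_1 L42509 L42495 L67749
theorem L67753 : sm gg N6835 = N11347 := rfl
theorem L67754 : sm gg N11347 = N6835 := flp_g L67753
theorem L67759 : sm ge N11347 = N6975 := ded_26_1 L43356 L42497 L67753
theorem L67761 : sm gf N11347 = N11248 := ded_29_2 L67074 L67062 L67065 L67753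
theorem L67762 : sm gf N11248 = N11347 := flp_f L67761
theorem L67765 : sm ge N6837 = N11349 := rfl
theorem L67767 : sm gd N11349 = N6977 := ded_22_1 L43366 L29905 L29549 L42508 L67765
theorem L67769 : sm gg N6837 = N11350 := rfl
theorem L67771 : sm gd N11350 = N6838 := ded_24_1 L42511 L42508 L67769
theorem L67773 : sm gf N6838 = N11351 := rfl
theorem L67774 : sm gf N11351 = N6838 := flp_f L67773
theorem L67777 : sm gc N11351 = N6839 := ded_20_1 L42517 L42513 L67773
theorem L67778 : sm gc N6839 = N11351 := flp_c L67777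
theorem L67783 : sm gc N6840 = N11352 := rfl
theorem L67785 : sm ga N11352 = N6841 := ded_8_1 L42533 L42524 L67783
theorem L67786 : sm ga N6841 = N11352 := flp_a L67785
theorem L67787 : sm ge N11352 = N10468 := ded_19_2 L62649 L42529 L67783
theorem L67789 : sm gf N6840 = N11353 := rfl
theorem L67793 : sm gd N11353 = N6855 := ded_23_1 L42609 L42527 L67789
theorem L67795 : sm ge N11353 = N10469 := ded_25_1 L62653 L42529 L67789
theorem L67796 : sm ge N10469 = N11353 := flp_e L67795
theorem L67805 : sm gb N6841 = N11355 := rfl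
theorem L67806 : sm gb N11355 = N6841 := flp_b L67805
theorem L67809 : sm gc N11355 = N6844 := ded_13_2 L42549 L29563 L29556 L42532 L67805
theorem L67810 : sm gc N6844 = N11355 := flp_c L67809
theorem L67813 : sm gf N6841 = N11357 := rfl
theorem L67841 : sm gf N6843 = N11361 := rfl
theorem L67845 : sm gd N11361 = N6863 := ded_23_1 L42653 L42545 L67841
theorem L67867 : sm ge N6845 = N11366 := rfl
theorem L67868 : sm ge N11366 = N6845 := flp_e L67867
theorem L67871 : sm gd N11366 = N7740 := ded_22_1 L47671 L31997 L29567 L42552 L67867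
theorem L67872 : sm gd N7740 = N11366 := flp_d L67871
theorem L67873 : sm gg N6845 = N11367 := rfl
theorem L67874 : sm gg N11367 = N6845 := flp_g L67873
theorem L67877 : sm gd N11367 = N6846 := ded_24_1 L42557 L42552 L67873
theorem L67879 : sm gf N11367 = N11304 := ded_29_2 L67468 L67454 L67455 L67873
theorem L67895 : sm gc N6847 = N11370 := rfl
theorem L67897 : sm ge N11370 = N10482 := ded_19_2 L62709 L42571 L67895
theorem L67971 : sm gd N6854 = N11384 := rfl
theorem L67973 : sm ga N11384 = N6858 := ded_9_1 L42627 L42605 L67971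
theorem L67974 : sm ga N6858 = N11384 := flp_a L67973
theorem L67977 : sm gf N6854 = N11385 := rfl
theorem L67981 : sm gc N11385 = N6855 := ded_20_1 L42609 L42602 L67977
theorem L67983 : sm ge N11385 = N6983 := ded_25_1 L43394 L42607 L67977
theorem L67985 : sm gd N6857 = N11386 := rfl
theorem L67986 : sm gd N11386 = N6857 := flp_d L67985
theorem L67987 : sm ga N11386 = N7338 := ded_9_1 L45436 L43448 L67985
theorem L67988 : sm ga N7338 = N11386 := flp_a L67987
theorem L67989 : sm gb N11386 = N6858 := ded_14_1 L42627 L42620 L67985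
theorem L67991 : sm gg N6857 = N11387 := rfl
theorem L67992 : sm gg N11387 = N6857 := flp_g L67991
theorem L67993 : sm ga N11387 = N7340 := ded_12_1 L45446 L43448 L67991
theorem L67994 : sm ga N7340 = N11387 := flp_a L67993
theorem L67995 : sm gc N11387 = N6866 := ded_21_1 L42669 L42625 L67991
theorem L67997 : sm ge N11387 = N6990 := ded_26_1 L43489 L42623 L67991
theorem L68001 : sm ge N6858 = N11389 := rfl
theorem L68002 : sm ge N11389 = N6858 := flp_e L68001
theorem L68005 : sm gf N6858 = N11390 := rfl
theorem L68006 : sm gf N11390 = N6858 := flp_f L68005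
theorem L68035 : sm gc N6862 = N11395 := rfl
theorem L68037 : sm ga N11395 = N7080 := ded_8_1 L62396 L62388 L68035
theorem L68038 : sm ga N7080 = N11395 := flp_a L68037
theorem L68041 : sm gg N11395 = N6872 := ded_21_2 L42701 L42651 L68035
theorem L68042 : sm gg N6872 = N11395 := flp_g L68041
theorem L68049 : sm gg N6864 = N11397 := rfl
theorem L68051 : sm ga N11397 = N6866 := ded_12_1 L42669 L42660 L68049
theorem L68057 : sm gf N11397 = N8741 := ded_29_2 L53548 L53533 L53539 L68049
theorem L68058 : sm gf N8741 = N11397 := flp_f L68057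
theorem L68067 : sm gg N6865 = N11400 := rfl
theorem L68069 : sm gd N11400 = N6866 := ded_24_1 L42669 L42664 L68067
theorem L68071 : sm gb N6866 = N11401 := rfl
theorem L68073 : sm ge N11401 = N7011 := ded_15_2 L43591 L42671 L68071
theorem L68074 : sm ge N7011 = N11401 := flp_e L68073
theorem L68077 : sm gf N6866 = N11402 := rfl
theorem L68079 : sm ga N11402 = N8741 := ded_11_1 L68058 L68051 L68077
theorem L68083 : sm gg N11402 = N8739 := ded_29_3 L53534 L34714 L42668 L68077
theorem L68085 : sm gb N6867 = N11403 := rfl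
theorem L68089 : sm ge N6867 = N11404 := rfl
theorem L68090 : sm ge N11404 = N6867 := flp_e L68089
theorem L68093 : sm gc N11404 = N6868 := ded_19_1 L42679 L42672 L68089
theorem L68094 : sm gc N6868 = N11404 := flp_c L68093
theorem L68095 : sm gg N6867 = N11405 := rfl
theorem L68097 : sm ga N11405 = N6876 := ded_12_1 L42723 L42675 L68095
theorem L68098 : sm ga N6876 = N11405 := flp_a L68097
theorem L68099 : sm gc N11405 = N6869 := ded_21_1 L42685 L42672 L68095
theorem L68100 : sm gc N6869 = N11405 := flp_c L68099
theorem L68105 : sm gg N6868 = N11406 := rfl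
theorem L68106 : sm gg N11406 = N6868 := flp_g L68105
theorem L68107 : sm ga N11406 = N6877 := ded_12_1 L42727 L42681 L68105
theorem L68108 : sm ga N6877 = N11406 := flp_a L68107
theorem L68109 : sm gd N11406 = N7013 := ded_24_1 L43601 L42683 L68105
theorem L68113 : sm gf N11406 = N11327 := ded_29_2 L67626 L67600 L67601 L68105
theorem L68114 : sm gf N11327 = N11406 := flp_f L68113
theorem L68119 : sm ga N6870 = N11408 := rfl
theorem L68121 : sm ge N11408 = N7015 := ded_10_2 L43615 L42695 L68119
theorem L68122 : sm ge N7015 = N11408 := flp_e L68121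
theorem L68123 : sm gc N6870 = N11409 := rfl
theorem L68125 : sm ge N11409 = N7016 := ded_19_2 L43617 L42695 L68123
theorem L68127 : sm gb N11409 = N6872 := ded_13_1 L42701 L29633 L29627 L42692 L68123
theorem L68128 : sm gb N6872 = N11409 := flp_b L68127
theorem L68149 : sm gf N6872 = N11413 := rfl
theorem L68150 : sm gf N11413 = N6872 := flp_f L68149
theorem L68157 : sm gg N10427 = N11413 := ded_29_1 L68150 L68042 L68037 L62399
theorem L68165 : sm gg N6874 = N11415 := rfl
theorem L68169 : sm gc N11415 = N11367 := ded_21_1 L67874 L42716 L68165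
theorem L68170 : sm gc N11367 = N11415 := flp_c L68169
theorem L68171 : sm gd N11415 = N6876 := ded_24_1 L42723 L42712 L68165
theorem L68172 : sm gd N6876 = N11415 := flp_d L68171
theorem L68173 : sm gd N6875 = N11416 := rfl
theorem L68174 : sm gd N11416 = N6875 := flp_d L68173
theorem L68175 : sm gg N6875 = N11417 := rfl
theorem L68176 : sm gg N11417 = N6875 := flp_g L68175
theorem L68177 : sm gc N11417 = N6877 := ded_21_1 L42727 L42721 L68175
theorem L68179 : sm ge N11417 = N6876 := ded_26_1 L42723 L42718 L68175
theorem L68180 : sm ge N6876 = N11417 := flp_e L68179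
theorem L68181 : sm gb N6876 = N11418 := rfl
theorem L68182 : sm gb N11418 = N6876 := flp_b L68181
theorem L68183 : sm gf N6876 = N11419 := rfl
theorem L68184 : sm gf N11419 = N6876 := flp_f L68183
theorem L68189 : sm gg N11419 = N11321 := ded_29_3 L67591 L42410 L42722 L68183
theorem L68190 : sm gg N11321 = N11419 := flp_g L68189
theorem L68191 : sm gf N6877 = N11420 := rfl
theorem L68192 : sm gf N11420 = N6877 := flp_f L68191
theorem L68195 : sm gd N11420 = N7031 := ded_23_1 L43711 L42729 L68191
theorem L68196 : sm gd N7031 = N11420 := flp_d L68195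
theorem L68197 : sm ge N11420 = N6878 := ded_25_1 L42733 L42731 L68191
theorem L68201 : sm gb N6878 = N11421 := rfl
theorem L68203 : sm gd N11421 = N6879 := ded_14_2 L42741 L42737 L68201
theorem L68204 : sm gd N6879 = N11421 := flp_d L68203
theorem L68233 : sm gf N6882 = N11427 := rfl
theorem L68239 : sm gg N11427 = N10213 := ded_29_3 L61143 L38560 L42752 L68233
theorem L68243 : sm gc N6884 = N11428 := rfl
theorem L68245 : sm ga N11428 = N6887 := ded_8_1 L42773 L42763 L68243
theorem L68246 : sm ga N6887 = N11428 := flp_a L68245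
theorem L68257 : sm gg N6884 = N11431 := rfl
theorem L68258 : sm gg N11431 = N6884 := flp_g L68257
theorem L68259 : sm ga N11431 = N6890 := ded_12_1 L42785 L42763 L68257
theorem L68260 : sm ga N6890 = N11431 := flp_a L68259
theorem L68261 : sm gd N11431 = N6886 := ded_24_1 L42769 L42760 L68257
theorem L68271 : sm gd N6887 = N11433 := rfl
theorem L68273 : sm gb N11433 = N7134 := ded_14_1 L44305 L42775 L68271
theorem L68281 : sm gf N6887 = N11435 := rfl
theorem L68282 : sm gf N11435 = N6887 := flp_f L68281
theorem L68285 : sm gg N6887 = N11436 := rfl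
theorem L68286 : sm gg N11436 = N6887 := flp_g L68285
theorem L68289 : sm gf N6888 = N11437 := rfl
theorem L68290 : sm gf N11437 = N6888 := flp_f L68289
theorem L68299 : sm gg N6889 = N11439 := rfl
theorem L68300 : sm gg N11439 = N6889 := flp_g L68299
theorem L68303 : sm gf N11431 = N11439 := ded_29_0 L68300 L42781 L42784 L68260
theorem L68304 : sm gf N11439 = N11431 := flp_f L68303
theorem L68319 : sm gd N6894 = N11443 := rfl
theorem L68320 : sm gd N11443 = N6894 := flp_d L68319
theorem L68323 : sm gg N11443 = N6899 := ded_24_2 L42830 L42806 L68319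
theorem L68333 : sm ga N6899 = N11445 := rfl
theorem L68334 : sm ga N11445 = N6899 := flp_a L68333
theorem L68335 : sm gd N11445 = N6901 := ded_9_2 L42837 L42831 L68333
theorem L68336 : sm gd N6901 = N11445 := flp_d L68335
theorem L68337 : sm gb N10469 = N11445 := ded_14_3 L68335 L42866 L62657
theorem L68339 : sm gc N6899 = N11446 := rfl
theorem L68340 : sm gc N11446 = N6899 := flp_c L68339
theorem L68341 : sm gc N6906 = N11447 := rfl
theorem L68342 : sm gc N11447 = N6906 := flp_c L68341
theorem L68343 : sm ga N11447 = N7050 := ded_8_1 L43821 L42956 L68341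
theorem L68349 : sm gb N11447 = N11385 := ded_13_1 L67981 L61811 L61802 L60456 L68341
theorem L68351 : sm gd N6909 = N11448 := rfl
theorem L68353 : sm gb N11448 = N11251 := ded_14_1 L67097 L42980 L68351
theorem L68354 : sm gb N11251 = N11448 := flp_b L68353
theorem L68355 : sm gg N11448 = N11252 := ded_24_2 L67103 L42978 L68351
theorem L68357 : sm gd N6911 = N11449 := rfl
theorem L68359 : sm ga N11449 = N6912 := ded_9_1 L43004 L43000 L68357
theorem L68363 : sm gg N11449 = N6926 := ded_24_2 L43096 L43002 L68357
theorem L68364 : sm gg N6926 = N11449 := flp_g L68363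
theorem L68369 : sm gf N6912 = N11451 := rfl
theorem L68370 : sm gf N11451 = N6912 := flp_f L68369
theorem L68409 : sm gd N6925 = N11457 := rfl
theorem L68411 : sm gb N11457 = N6926 := ded_14_1 L43096 L43093 L68409
theorem L68413 : sm gg N11457 = N10629 := ded_24_2 L63637 L50228 L68409
theorem L68414 : sm gg N10629 = N11457 := flp_g L68413
theorem L68433 : sm gf N6926 = N11461 := rfl
theorem L68434 : sm gf N11461 = N6926 := flp_f L68433
theorem L68439 : sm gg N11451 = N11461 := ded_29_1 L68434 L68364 L68359 L68369
theorem L68440 : sm gg N11461 = N11451 := flp_g L68439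
theorem L68475 : sm gb N6932 = N11470 := rfl
theorem L68476 : sm gb N11470 = N6932 := flp_b L68475
theorem L68479 : sm gf N11470 = N10647 := ded_16_2 L63743 L40380 L50539 L43123 L68475
theorem L68480 : sm gf N10647 = N11470 := flp_f L68479
theorem L68481 : sm gd N6933 = N11471 := rfl
theorem L68485 : sm gb N11471 = N7304 := ded_14_1 L45261 L43131 L68481
theorem L68486 : sm gb N7304 = N11471 := flp_b L68485
theorem L68487 : sm gf N11471 = N7245 := ded_23_2 L44923 L43133 L68481
theorem L68493 : sm gf N6935 = N11474 := rfl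
theorem L68497 : sm gd N11474 = N6936 := ded_23_1 L43150 L43147 L68493
theorem L68498 : sm gd N6936 = N11474 := flp_d L68497
theorem L68503 : sm gc N6940 = N11476 := rfl
theorem L68505 : sm gb N11476 = N8822 := ded_13_1 L53990 L34890 L29805 L43178 L68503
theorem L68506 : sm gb N8822 = N11476 := flp_b L68505
theorem L68507 : sm ge N6940 = N11477 := rfl
theorem L68509 : sm gb N11477 = N6942 := ded_15_1 L43188 L43178 L68507
theorem L68511 : sm gg N6940 = N11478 := rfl
theorem L68512 : sm gg N11478 = N6940 := flp_g L68511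
theorem L68513 : sm gd N11478 = N6941 := ded_24_1 L43180 L43175 L68511
theorem L68515 : sm gf N11478 = N7458 := ded_29_2 L46162 L46132 L46135 L68511
theorem L68516 : sm gf N7458 = N11478 := flp_f L68515
theorem L68549 : sm gf N6946 = N11486 := rfl
theorem L68551 : sm gd N11486 = N6949 := ded_23_1 L43222 L43214 L68549
theorem L68591 : sm gd N6953 = N11495 := rfl
theorem L68592 : sm gd N11495 = N6953 := flp_d L68591
theorem L68593 : sm gf N11495 = N10227 := ded_23_2 L61238 L43240 L68591
theorem L68594 : sm gf N10227 = N11495 := flp_f L68593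
theorem L68683 : sm gd N6967 = N11517 := rfl
theorem L68685 : sm ga N11517 = N6968 := ded_9_1 L43322 L43318 L68683
theorem L68686 : sm ga N6968 = N11517 := flp_a L68685
theorem L68687 : sm gf N11517 = N6974 := ded_23_2 L43352 L43320 L68683
theorem L68689 : sm gc N6968 = N11518 := rfl
theorem L68690 : sm gc N11518 = N6968 := flp_c L68689
theorem L68693 : sm ge N6968 = N11519 := rfl
theorem L68694 : sm ge N11519 = N6968 := flp_e L68693
theorem L68695 : sm gb N11519 = N8288 := ded_15_1 L51298 L43324 L68693
theorem L68697 : sm gf N11519 = N6977 := ded_25_2 L43366 L43326 L68693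
theorem L68698 : sm gf N6977 = N11519 := flp_f L68697
theorem L68699 : sm gg N6968 = N11520 := rfl
theorem L68700 : sm gg N11520 = N6968 := flp_g L68699
theorem L68743 : sm gd N6973 = N11527 := rfl
theorem L68745 : sm gb N11527 = N6974 := ded_14_1 L43352 L43349 L68743
theorem L68751 : sm gc N6974 = N11530 := rfl
theorem L68752 : sm gc N11530 = N6974 := flp_c L68751
theorem L68757 : sm ge N6974 = N11531 := rfl
theorem L68758 : sm ge N11531 = N6974 := flp_e L68757
theorem L68759 : sm ga N11531 = N6977 := ded_10_1 L43366 L43354 L68757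
theorem L68760 : sm ga N6977 = N11531 := flp_a L68759
theorem L68761 : sm gg N6974 = N11532 := rfl
theorem L68762 : sm gg N11532 = N6974 := flp_g L68761
theorem L68767 : sm gf N11532 = N11520 := ded_29_2 L68700 L68686 L68687 L68761
theorem L68768 : sm gf N11520 = N11532 := flp_f L68767
theorem L68815 : sm ge N6982 = N11543 := rfl
theorem L68819 : sm gb N11543 = N8463 := ded_15_1 L52160 L43466 L68815
theorem L68821 : sm gf N6982 = N11544 := rfl
theorem L68822 : sm gf N11544 = N6982 := flp_f L68821
theorem L68823 : sm ga N11544 = N6993 := ded_11_1 L43499 L43392 L68821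
theorem L68833 : sm gb N6983 = N11546 := rfl
theorem L68835 : sm ge N11546 = N11447 := ded_15_2 L68349 L67983 L68833
theorem L68841 : sm ga N10528 = N11546 := ded_10_3 L68835 L68343 L62995
theorem L68861 : sm gg N6988 = N11550 := rfl
theorem L68863 : sm ga N11550 = N8395 := ded_12_1 L51804 L43446 L68861
theorem L68865 : sm gd N11550 = N6990 := ded_24_1 L43489 L43421 L68861
theorem L68867 : sm gb N6990 = N11551 := rfl
theorem L68868 : sm gb N11551 = N6990 := flp_b L68867
theorem L68909 : sm gb N6994 = N11561 := rfl
theorem L68911 : sm gd N11561 = N6997 := ded_14_2 L43515 L43505 L68909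
theorem L68912 : sm gd N6997 = N11561 := flp_d L68911
theorem L68913 : sm gf N6994 = N11562 := rfl
theorem L68919 : sm gg N11562 = N11544 := ded_29_3 L68823 L43499 L43502 L68913
theorem L68921 : sm ga N6995 = N11563 := rfl
theorem L68922 : sm ga N11563 = N6995 := flp_a L68921
theorem L68925 : sm ge N11563 = N8150 := ded_10_2 L53522 L53525 L68921
theorem L68926 : sm ge N8150 = N11563 := flp_e L68925
theorem L68941 : sm gf N6997 = N11568 := rfl
theorem L68943 : sm gb N6998 = N11569 := rfl
theorem L68944 : sm gb N11569 = N6998 := flp_b L68943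
theorem L68945 : sm gc N11569 = N10893 := ded_13_2 L65167 L43550 L43543 L43521 L68943
theorem L68951 : sm gf N9414 = N11569 := ded_20_0 L68945 L66870 L66876
theorem L68953 : sm gb N11568 = N9414 := ded_16_5 L68951 L68944 L43517 L43514 L68941
theorem L68954 : sm gb N9414 = N11568 := flp_b L68953
theorem L68955 : sm gd N7000 = N11570 := rfl
theorem L68991 : sm ge N7006 = N11577 := rfl
theorem L68993 : sm gb N11577 = N8340 := ded_15_1 L51548 L43573 L68991
theorem L68995 : sm gc N11577 = N7007 := ded_19_1 L43575 L43570 L68991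
theorem L68996 : sm gc N7007 = N11577 := flp_c L68995
theorem L69013 : sm gg N7008 = N11582 := rfl
theorem L69014 : sm gg N11582 = N7008 := flp_g L69013
theorem L69015 : sm gd N11582 = N7010 := ded_24_1 L43587 L43581 L69013
theorem L69016 : sm gd N7010 = N11582 := flp_d L69015
theorem L69019 : sm gb N7009 = N11583 := rfl
theorem L69021 : sm gd N11583 = N7011 := ded_14_2 L43591 L43585 L69019
theorem L69035 : sm ga N7011 = N11586 := rfl
theorem L69036 : sm ga N11586 = N7011 := flp_a L69035
theorem L69037 : sm gg N11586 = N7015 := ded_12_2 L43615 L43593 L69035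
theorem L69038 : sm gg N7015 = N11586 := flp_g L69037
theorem L69039 : sm gc N7011 = N11587 := rfl
theorem L69040 : sm gc N11587 = N7011 := flp_c L69039
theorem L69041 : sm gg N11587 = N7016 := ded_21_2 L43617 L43593 L69039
theorem L69042 : sm gg N7016 = N11587 := flp_g L69041
theorem L69043 : sm gf N7011 = N11588 := rfl
theorem L69044 : sm gf N11588 = N7011 := flp_f L69043
theorem L69051 : sm ga N7014 = N11591 := rfl
theorem L69053 : sm gd N11591 = N7015 := ded_9_2 L43615 L43613 L69051
theorem L69054 : sm gd N7015 = N11591 := flp_d L69053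
theorem L69065 : sm gb N7015 = N11594 := rfl
theorem L69071 : sm gf N7015 = N11596 := rfl
theorem L69072 : sm gf N11596 = N7015 := flp_f L69071
theorem L69075 : sm gg N11588 = N11596 := ded_29_1 L69072 L69038 L69036 L69043
theorem L69076 : sm gg N11596 = N11588 := flp_g L69075
theorem L69077 : sm gb N10277 = N11596 := ded_31_14 L69076 L69044 L43591 L29965 L29962 L31224 L46137 L46146 L59403 L59397 L38778 L38773 L38786 L61490
theorem L69078 : sm gb N11596 = N10277 := flp_b L69077
theorem L69079 : sm gf N11594 = N10276 := ded_16_4 L61489 L61490 L69077 L69072 L69065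
theorem L69081 : sm gd N7016 = N11597 := rfl
theorem L69083 : sm gb N11597 = N7021 := ded_14_1 L43657 L43619 L69081
theorem L69095 : sm gc N7018 = N11600 := rfl
theorem L69096 : sm gc N11600 = N7018 := flp_c L69095
theorem L69097 : sm ga N11600 = N10904 := ded_8_1 L65230 L49167 L69095
theorem L69098 : sm ga N10904 = N11600 := flp_a L69097
theorem L69123 : sm gc N7021 = N11603 := rfl
theorem L69125 : sm ge N7021 = N11604 := rfl
theorem L69153 : sm gg N7023 = N11610 := rfl
theorem L69154 : sm gg N11610 = N7023 := flp_g L69153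
theorem L69155 : sm ga N11610 = N7026 := ded_12_1 L43681 L43662 L69153
theorem L69156 : sm ga N7026 = N11610 := flp_a L69155
theorem L69161 : sm gd N7024 = N11611 := rfl
theorem L69163 : sm gb N11611 = N7027 := ded_14_1 L43687 L43671 L69161
theorem L69165 : sm ge N11611 = N9050 := ded_22_2 L55108 L35474 L29995 L43668 L69161
theorem L69166 : sm ge N9050 = N11611 := flp_e L69165
theorem L69167 : sm gf N7024 = N11612 := rfl
theorem L69169 : sm gc N11612 = N7123 := ded_20_1 L44245 L43673 L69167
theorem L69170 : sm gc N7123 = N11612 := flp_c L69169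
theorem L69171 : sm ge N11612 = N7025 := ded_25_1 L43675 L43668 L69167
theorem L69179 : sm gg N7025 = N11614 := rfl
theorem L69180 : sm gg N11614 = N7025 := flp_g L69179
theorem L69185 : sm gf N11610 = N11614 := ded_29_0 L69180 L43675 L43680 L69156
theorem L69186 : sm gf N11614 = N11610 := flp_f L69185
theorem L69209 : sm gg N7027 = N11618 := rfl
theorem L69211 : sm ga N11618 = N9063 := ded_12_1 L55168 L43689 L69209
theorem L69213 : sm gd N11618 = N7028 := ded_24_1 L43693 L43686 L69209
theorem L69233 : sm ga N7030 = N11623 := rfl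
theorem L69234 : sm ga N11623 = N7030 := flp_a L69233
theorem L69235 : sm ge N11623 = N7032 := ded_10_2 L43719 L43707 L69233
theorem L69237 : sm gg N11623 = N7127 := ded_12_2 L44267 L43709 L69233
theorem L69238 : sm gg N7127 = N11623 := flp_g L69237
theorem L69245 : sm gf N7030 = N11625 := rfl
theorem L69246 : sm gf N11625 = N7030 := flp_f L69245
theorem L69253 : sm gb N7032 = N11627 := rfl
theorem L69255 : sm gd N11627 = N7036 := ded_14_2 L43737 L43721 L69253
theorem L69256 : sm gd N7036 = N11627 := flp_d L69255
theorem L69257 : sm gc N7032 = N11628 := rfl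
theorem L69259 : sm ga N11628 = N7033 := ded_8_1 L43725 L43718 L69257
theorem L69261 : sm gg N11628 = N7132 := ded_21_2 L44293 L43723 L69257
theorem L69262 : sm gg N7132 = N11628 := flp_g L69261
theorem L69267 : sm gf N7033 = N11630 := rfl
theorem L69269 : sm gc N11630 = N7034 := ded_20_1 L43729 L43724 L69267
theorem L69277 : sm ga N7035 = N11632 := rfl
theorem L69278 : sm ga N11632 = N7035 := flp_a L69277
theorem L69279 : sm gd N11632 = N7038 := ded_9_2 L43743 L43735 L69277
theorem L69280 : sm gd N7038 = N11632 := flp_d L69279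
theorem L69281 : sm gc N7035 = N11633 := rfl
theorem L69283 : sm gg N7035 = N11634 := rfl
theorem L69287 : sm gb N11634 = N11478 := ded_17_1 L68512 L43177 L30029 L43732 L69283
theorem L69288 : sm gb N11478 = N11634 := flp_b L69287
theorem L69293 : sm gf N7036 = N11637 := rfl
theorem L69294 : sm gf N11637 = N7036 := flp_f L69293
theorem L69295 : sm gg N7036 = N11638 := rfl
theorem L69297 : sm ge N11638 = N9904 := ded_26_1 L59475 L44170 L69295
theorem L69303 : sm gc N10550 = N11638 := ded_19_3 L69297 L60423 L63157
theorem L69304 : sm gc N11638 = N10550 := flp_c L69303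
theorem L69339 : sm gc N7038 = N11643 := rfl
theorem L69340 : sm gc N11643 = N7038 := flp_c L69339
theorem L69341 : sm ga N11643 = N7039 := ded_8_1 L43745 L43742 L69339
theorem L69342 : sm ga N7039 = N11643 := flp_a L69341
theorem L69349 : sm gd N7039 = N11645 := rfl
theorem L69350 : sm gd N11645 = N7039 := flp_d L69349
theorem L69351 : sm gb N11645 = N7043 := ded_14_1 L43769 L43747 L69349
theorem L69352 : sm gb N7043 = N11645 := flp_b L69351
theorem L69369 : sm gg N7041 = N11649 := rfl
theorem L69371 : sm ga N11649 = N7044 := ded_12_1 L43771 L43755 L69369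
theorem L69375 : sm gf N11649 = N10251 := ded_29_2 L61349 L61705 L61706 L69369
theorem L69376 : sm gf N10251 = N11649 := flp_f L69375
theorem L69381 : sm gg N7043 = N11652 := rfl
theorem L69382 : sm gg N11652 = N7043 := flp_g L69381
theorem L69383 : sm gd N11652 = N7044 := ded_24_1 L43771 L43768 L69381
theorem L69384 : sm gd N7044 = N11652 := flp_d L69383
theorem L69393 : sm gf N7044 = N11654 := rfl
theorem L69395 : sm ga N11654 = N10251 := ded_11_1 L69376 L69371 L69393
theorem L69401 : sm gc N7047 = N11655 := rfl
theorem L69402 : sm gc N11655 = N7047 := flp_c L69401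
theorem L69405 : sm ge N11655 = N8608 := ded_19_2 L52840 L43797 L69401
theorem L69407 : sm gg N11655 = N8967 := ded_21_2 L54665 L43799 L69401
theorem L69408 : sm gg N8967 = N11655 := flp_g L69407
theorem L69417 : sm gb N7050 = N11657 := rfl
theorem L69418 : sm gb N11657 = N7050 := flp_b L69417
theorem L69419 : sm gc N11657 = N7052 := ded_13_2 L43831 L30105 L30100 L43820 L69417
theorem L69421 : sm gd N7050 = N11658 := rfl
theorem L69422 : sm gd N11658 = N7050 := flp_d L69421
theorem L69435 : sm ga N7052 = N11660 := rfl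
theorem L69436 : sm ga N11660 = N7052 := flp_a L69435
theorem L69437 : sm gd N7052 = N11661 := rfl
theorem L69438 : sm gd N11661 = N7052 := flp_d L69437
theorem L69439 : sm gb N11661 = N7053 := ded_14_1 L43833 L43830 L69437
theorem L69440 : sm gb N7053 = N11661 := flp_b L69439
theorem L69441 : sm gf N7052 = N11662 := rfl
theorem L69443 : sm gb N11662 = N7076 := ded_16_1 L43997 L30157 L30109 L43830 L69441
theorem L69444 : sm gb N7076 = N11662 := flp_b L69443
theorem L69445 : sm gg N7052 = N11663 := rfl
theorem L69446 : sm gg N11663 = N7052 := flp_g L69445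
theorem L69447 : sm ge N7053 = N11664 := rfl
theorem L69448 : sm ge N11664 = N7053 := flp_e L69447
theorem L69449 : sm ga N11664 = N7055 := ded_10_1 L43843 L43835 L69447
theorem L69450 : sm ga N7055 = N11664 := flp_a L69449
theorem L69451 : sm gf N11664 = N7078 := ded_25_2 L44001 L43837 L69447
theorem L69457 : sm ge N7054 = N11666 := rfl
theorem L69461 : sm gf N11666 = N7083 := ded_25_2 L44021 L43841 L69457
theorem L69463 : sm gg N7054 = N11667 := rfl
theorem L69464 : sm gg N11667 = N7054 := flp_g L69463
theorem L69465 : sm gc N11667 = N7056 := ded_21_1 L43849 L43838 L69463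
theorem L69469 : sm gf N10301 = N11667 := ded_29_0 L69464 L43840 L44024 L61631
theorem L69471 : sm gg N7055 = N11668 := rfl
theorem L69472 : sm gg N11668 = N7055 := flp_g L69471
theorem L69473 : sm ge N11668 = N7056 := ded_26_1 L43849 L43842 L69471
theorem L69474 : sm ge N7056 = N11668 := flp_e L69473
theorem L69499 : sm gc N7058 = N11673 := rfl
theorem L69501 : sm ga N11673 = N7059 := ded_8_1 L43865 L43856 L69499
theorem L69503 : sm gg N11673 = N7061 := ded_21_2 L43875 L43861 L69499
theorem L69504 : sm gg N7061 = N11673 := flp_g L69503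
theorem L69509 : sm gf N7059 = N11675 := rfl
theorem L69519 : sm gd N7061 = N11677 := rfl
theorem L69521 : sm ga N11677 = N7063 := ded_9_1 L43889 L43877 L69519
theorem L69523 : sm gf N7061 = N11678 := rfl
theorem L69524 : sm gf N11678 = N7061 := flp_f L69523
theorem L69529 : sm gg N11675 = N11678 := ded_29_1 L69524 L69504 L69501 L69509
theorem L69555 : sm gf N7068 = N11684 := rfl
theorem L69556 : sm gf N11684 = N7068 := flp_f L69555
theorem L69557 : sm ga N11684 = N10635 := ded_11_1 L63669 L43947 L69555
theorem L69558 : sm ga N10635 = N11684 := flp_a L69557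
theorem L69565 : sm gg N7068 = N11685 := rfl
theorem L69569 : sm gc N11685 = N7077 := ded_21_1 L43999 L43945 L69565
theorem L69570 : sm gc N7077 = N11685 := flp_c L69569
theorem L69571 : sm ge N11685 = N10683 := ded_26_1 L63943 L43943 L69565
theorem L69573 : sm gf N11685 = N8671 := ded_29_2 L63674 L69558 L69556 L69565
theorem L69581 : sm gg N7069 = N11687 := rfl
theorem L69583 : sm ga N11687 = N10824 := ded_12_1 L64767 L43951 L69581
theorem L69585 : sm gd N11687 = N7071 := ded_24_1 L43961 L43948 L69581
theorem L69586 : sm gd N7071 = N11687 := flp_d L69585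
theorem L69587 : sm gd N7074 = N11688 := rfl
theorem L69589 : sm ga N11688 = N7075 := ded_9_1 L43993 L43986 L69587
theorem L69590 : sm ga N7075 = N11688 := flp_a L69589
theorem L69591 : sm gf N7074 = N11689 := rfl
theorem L69593 : sm ga N11689 = N7076 := ded_11_1 L43997 L43986 L69591
theorem L69595 : sm gc N11689 = N10635 := ded_20_1 L63669 L43989 L69591
theorem L69596 : sm gc N10635 = N11689 := flp_c L69595
theorem L69601 : sm gg N7074 = N11690 := rfl
theorem L69603 : sm ga N11690 = N7077 := ded_12_1 L43999 L43986 L69601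
theorem L69604 : sm ga N7077 = N11690 := flp_a L69603
theorem L69609 : sm gc N7075 = N11691 := rfl
theorem L69610 : sm gc N11691 = N7075 := flp_c L69609
theorem L69611 : sm ge N7075 = N11692 := rfl
theorem L69613 : sm gb N11692 = N7078 := ded_15_1 L44001 L43995 L69611
theorem L69614 : sm gb N7078 = N11692 := flp_b L69613
theorem L69615 : sm gf N7075 = N11693 := rfl
theorem L69617 : sm gd N11693 = N7076 := ded_23_1 L43997 L43992 L69615
theorem L69618 : sm gd N7076 = N11693 := flp_d L69617
theorem L69623 : sm gg N7076 = N11695 := rfl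
theorem L69624 : sm gg N11695 = N7076 := flp_g L69623
theorem L69625 : sm gf N11690 = N11695 := ded_29_0 L69624 L43997 L43998 L69604
theorem L69626 : sm gf N11695 = N11690 := flp_f L69625
theorem L69627 : sm gf N7077 = N11696 := rfl
theorem L69628 : sm gf N11696 = N7077 := flp_f L69627
theorem L69629 : sm ga N11696 = N11695 := ded_11_1 L69626 L69603 L69627
theorem L69630 : sm ga N11695 = N11696 := flp_a L69629
theorem L69637 : sm gg N7078 = N11697 := rfl
theorem L69639 : sm ga N11697 = N7085 := ded_12_1 L44029 L44003 L69637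
theorem L69643 : sm gf N11697 = N11668 := ded_29_2 L69472 L69450 L69451 L69637
theorem L69644 : sm gf N11668 = N11697 := flp_f L69643
theorem L69645 : sm gb N7079 = N11698 := rfl
theorem L69646 : sm gb N11698 = N7079 := flp_b L69645
theorem L69647 : sm gd N11698 = N7080 := ded_14_2 L44013 L44009 L69645
theorem L69648 : sm gd N7080 = N11698 := flp_d L69647
theorem L69649 : sm gd N7081 = N11699 := rfl
theorem L69671 : sm gg N7083 = N11705 := rfl
theorem L69673 : sm gc N11705 = N7085 := ded_21_1 L44029 L44023 L69671
theorem L69691 : sm gf N7085 = N11708 := rfl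
theorem L69693 : sm ga N11708 = N11668 := ded_11_1 L69644 L69639 L69691
theorem L69695 : sm ge N11708 = N7086 := ded_25_1 L44035 L44031 L69691
theorem L69697 : sm gg N11708 = N11664 := ded_29_3 L69449 L43846 L44028 L69691
theorem L69699 : sm gb N7086 = N11709 := rfl
theorem L69700 : sm gb N11709 = N7086 := flp_b L69699
theorem L69701 : sm gd N11709 = N7087 := ded_14_2 L44043 L44039 L69699
theorem L69702 : sm gd N7087 = N11709 := flp_d L69701
theorem L69705 : sm ga N7087 = N11710 := rfl
theorem L69706 : sm ga N11710 = N7087 := flp_a L69705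
theorem L69707 : sm gf N11710 = N9426 := ded_11_2 L56957 L44045 L69705
theorem L69709 : sm gb N7842 = N11710 := ded_30_2 L69706 L44044 L56958 L56960 L39405 L39406 L36317 L36331 L33184 L33085 L39231 L38194 L38627 L43416 L48479 L48131 L32214 L32221 L48157
theorem L69711 : sm gb N9426 = N9854 := ded_16_1 L59174 L39892 L48154 L69709 L69707
theorem L69713 : sm ge N11710 = N9404 := ded_15_2 L56853 L48159 L69709
theorem L69715 : N10567 = N5701 := coi_7_6 L36499 L26611 L36302 L56956 L69711 L59170 L37462 L28346 L40092 L63260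
theorem L69716 : N10567 = N5701 := eqc rfl L69715 rfl
theorem L69717 : sm ga N5701 = N6359 := trf L69716 L63261 rfl
theorem L69718 : N6359 = N9479 := eqe L69717 L57220
theorem L69719 : N9479 = N6359 := (eqc rfl L69718 rfl).symm
theorem L69734 : sm ga N6359 = N5701 := trf L69719 L57221 rfl
theorem L69736 : sm ga N9404 = N10511 := ded_10_1 L62884 L69705 L69713
theorem L69737 : sm ga N10511 = N9404 := flp_a L69736
theorem L69742 : sm ga N9481 = N10568 := ded_11_3 L63265 L69734 L57226
theorem L69752 : sm gg N7087 = N11712 := rfl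
theorem L69754 : sm gb N11712 = N11663 := ded_17_1 L69446 L43831 L30193 L44042 L69752
theorem L69772 : sm gc N7091 = N11716 := rfl
theorem L69773 : sm gc N11716 = N7091 := flp_c L69772
theorem L69774 : sm ga N11716 = N7094 := ded_8_1 L44089 L44069 L69772
theorem L69775 : sm ga N7094 = N11716 := flp_a L69774
theorem L69776 : sm ge N7091 = N11717 := rfl
theorem L69777 : sm ge N11717 = N7091 := flp_e L69776
theorem L69782 : sm gd N11717 = N10326 := ded_22_1 L61754 L38932 L30205 L44066 L69776
theorem L69783 : sm gd N10326 = N11717 := flp_d L69782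
theorem L69790 : sm gg N7091 = N11719 := rfl
theorem L69792 : sm ga N11719 = N7097 := ded_12_1 L44103 L44069 L69790
theorem L69793 : sm ga N7097 = N11719 := flp_a L69792
theorem L69794 : sm gd N11719 = N7093 := ded_24_1 L44081 L44066 L69790
theorem L69796 : sm gb N7092 = N11720 := rfl
theorem L69800 : sm gf N11720 = N9354 := ded_16_2 L56587 L36109 L43479 L44072 L69796
theorem L69801 : sm gf N9354 = N11720 := flp_f L69800
theorem L69802 : sm ga N11720 = N9887 := ded_7_1 L59377 L37558 L38581 L61163 L61170 L42766 L30217 L44075 L69796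
theorem L69806 : sm gb N7093 = N11721 := rfl
theorem L69808 : sm ge N11721 = N10312 := ded_15_2 L61687 L44087 L69806
theorem L69809 : sm ge N10312 = N11721 := flp_e L69808
theorem L69812 : sm gd N7094 = N11722 := rfl
theorem L69813 : sm gd N11722 = N7094 := flp_d L69812
theorem L69826 : sm gf N7095 = N11726 := rfl
theorem L69830 : sm ge N11726 = N7096 := ded_25_1 L44097 L44090 L69826
theorem L69831 : sm ge N7096 = N11726 := flp_e L69830
theorem L69832 : sm gb N11726 = N11437 := ded_16_1 L68290 L42778 L30229 L44093 L69826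
theorem L69842 : sm gg N7096 = N11728 := rfl
theorem L69843 : sm gg N11728 = N7096 := flp_g L69842
theorem L69844 : sm gd N11728 = N7098 := ded_24_1 L44109 L44099 L69842
theorem L69846 : sm gf N11719 = N11728 := ded_29_0 L69843 L44097 L44102 L69793
theorem L69847 : sm gf N11728 = N11719 := flp_f L69846
theorem L69848 : sm gf N7097 = N11729 := rfl
theorem L69850 : sm ga N11729 = N11728 := ded_11_1 L69847 L69792 L69848
theorem L69851 : sm ga N11728 = N11729 := flp_a L69850
theorem L69852 : sm gd N11729 = N7099 := ded_23_1 L44117 L44105 L69848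
theorem L69853 : sm gd N7099 = N11729 := flp_d L69852
theorem L69878 : sm gf N7100 = N11734 := rfl
theorem L69879 : sm gf N11734 = N7100 := flp_f L69878
theorem L69880 : sm ga N11734 = N8386 := ded_11_1 L51762 L44129 L69878
theorem L69881 : sm ga N8386 = N11734 := flp_a L69880
theorem L69884 : sm gg N7100 = N11735 := rfl
theorem L69888 : sm gd N11735 = N7102 := ded_24_1 L44139 L44126 L69884
theorem L69890 : sm gf N11735 = N9866 := ded_29_2 L59240 L69881 L69879 L69884
theorem L69892 : sm gb N7101 = N11736 := rfl
theorem L69896 : sm gc N11736 = N10776 := ded_13_2 L64452 L52742 L34477 L44137 L69892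
theorem L69897 : sm gc N10776 = N11736 := flp_c L69896
theorem L69898 : sm gf N11736 = N7107 := ded_16_2 L44167 L30241 L30234 L44132 L69892
theorem L69904 : sm gd N7103 = N11738 := rfl
theorem L69905 : sm gd N11738 = N7103 := flp_d L69904
theorem L69906 : sm ga N11738 = N7109 := ded_9_1 L44173 L44149 L69904
theorem L69908 : sm gc N11738 = N11722 := ded_28_6 L69813 L69775 L69773 L44067 L30202 L30236 L44146 L69904
theorem L69909 : sm gc N11722 = N11738 := flp_c L69908
theorem L69910 : sm ge N7103 = N11739 := rfl
theorem L69911 : sm ge N11739 = N7103 := flp_e L69910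
theorem L69916 : sm gf N7103 = N11740 := rfl
theorem L69917 : sm gf N11740 = N7103 := flp_f L69916
theorem L69920 : sm gc N11740 = N7105 := ded_20_1 L44155 L44146 L69916
theorem L69922 : sm gg N7103 = N11741 := rfl
theorem L69923 : sm gg N11741 = N7103 := flp_g L69922
theorem L69924 : sm ga N11741 = N7112 := ded_12_1 L44187 L44149 L69922
theorem L69925 : sm ga N7112 = N11741 := flp_a L69924
theorem L69926 : sm gc N11741 = N7106 := ded_21_1 L44161 L44146 L69922
theorem L69928 : sm gf N7104 = N11742 := rfl
theorem L69930 : sm ga N11742 = N7113 := ded_11_1 L44191 L44153 L69928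
theorem L69931 : sm ga N7113 = N11742 := flp_a L69930
theorem L69932 : sm ge N11742 = N7105 := ded_25_1 L44155 L44150 L69928
theorem L69934 : sm gg N7104 = N11743 := rfl

end Cfsg.Agent.Helper28.SuzA
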