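import Cfsg.Agent.Helper28.SuzB6

/-! # The Suzuki group presentation, cosets of the subgroup generated by a, …, f: the coset enumeration, part 7 (helper28; generated) -/

set_option autoImplicit false

noncomputable section

namespace Cfsg.Agent.Helper28.SuzA

open Cfsg.Agent.Helper28.CosetTable

theorem L69936 : sm ga N11743 = N7114 := ded_12_1 L44195 L44153 L69934
theorem L69937 : sm ga N7114 = N11743 := flp_a L69936
theorem L69938 : sm gd N11743 = N11623 := ded_24_1 L69237 L44268 L69934
theorem L69939 : sm gd N11623 = N11743 := flp_d L69938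
theorem L69940 : sm ge N11743 = N7106 := ded_26_1 L44161 L44150 L69934
theorem L69942 : sm gb N7105 = N11744 := rfl
theorem L69943 : sm gb N11744 = N7105 := flp_b L69942
theorem L69944 : sm gd N11744 = N7107 := ded_14_2 L44167 L44159 L69942
theorem L69946 : sm gb N7106 = N11745 := rfl
theorem L69947 : sm gb N11745 = N7106 := flp_b L69946
theorem L69948 : sm gd N11745 = N7108 := ded_14_2 L44169 L44165 L69946
theorem L69949 : sm gd N7108 = N11745 := flp_d L69948
theorem L69960 : sm gc N7107 = N11747 := rfl
theorem L69961 : sm gc N11747 = N7107 := flp_c L69960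
theorem L69966 : sm gf N11747 = N10776 := ded_20_2 L69897 L69898 L69960
theorem L69967 : sm gf N10776 = N11747 := flp_f L69966
theorem L69970 : sm gg N7107 = N11748 := rfl
theorem L69971 : sm gg N11748 = N7107 := flp_g L69970
theorem L69978 : sm gc N7108 = N11750 := rfl
theorem L69979 : sm gc N11750 = N7108 := flp_c L69978
theorem L69984 : sm gf N7108 = N11751 := rfl
theorem L69985 : sm gf N11751 = N7108 := flp_f L69984
theorem L69990 : sm gg N11751 = N9903 := ded_29_3 L59469 L59470 L59475 L69984
theorem L69991 : sm gg N9903 = N11751 := flp_g L69990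
theorem L69992 : sm gc N7109 = N11752 := rfl
theorem L69994 : sm ga N11752 = N11722 := ded_8_1 L69909 L69906 L69992
theorem L69995 : sm ga N11722 = N11752 := flp_a L69994
theorem L69996 : sm gb N11752 = N11691 := ded_13_1 L69610 L43994 L38854 L44175 L69992
theorem L70008 : sm gg N7109 = N11755 := rfl
theorem L70010 : sm gd N11755 = N7112 := ded_24_1 L44187 L44172 L70008
theorem L70011 : sm gd N7112 = N11755 := flp_d L70010
theorem L70022 : sm gg N7110 = N11758 := rfl
theorem L70023 : sm gg N11758 = N7110 := flp_g L70022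
theorem L70024 : sm gc N11758 = N7114 := ded_21_1 L44195 L44181 L70022
theorem L70026 : sm ge N11758 = N7112 := ded_26_1 L44187 L44176 L70022
theorem L70027 : sm ge N7112 = N11758 := flp_e L70026
theorem L70032 : sm gg N7111 = N11760 := rfl
theorem L70033 : sm gg N11760 = N7111 := flp_g L70032
theorem L70034 : sm gc N11760 = N7115 := ded_21_1 L44203 L44185 L70032
theorem L70036 : sm gf N11741 = N11760 := ded_29_0 L70033 L44183 L44186 L69925
theorem L70037 : sm gf N11760 = N11741 := flp_f L70036
theorem L70038 : sm gb N7112 = N11761 := rfl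
theorem L70039 : sm gb N11761 = N7112 := flp_b L70038
theorem L70040 : sm gc N11761 = N11418 := ded_13_2 L68182 L42724 L30267 L44189 L70038
theorem L70042 : sm gg N11761 = N10304 := ded_17_2 L61645 L38861 L30253 L44186 L70038
theorem L70043 : sm gg N10304 = N11761 := flp_g L70042
theorem L70044 : sm gf N7112 = N11762 := rfl
theorem L70045 : sm gf N11762 = N7112 := flp_f L70044
theorem L70052 : sm gg N7113 = N11763 := rfl
theorem L70053 : sm gg N11763 = N7113 := flp_g L70052
theorem L70054 : sm ge N11763 = N7115 := ded_26_1 L44203 L44193 L70052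
theorem L70056 : sm gf N11743 = N11763 := ded_29_0 L70053 L44191 L44194 L69937
theorem L70057 : sm gf N11763 = N11743 := flp_f L70056
theorem L70058 : sm gf N7114 = N11764 := rfl
theorem L70059 : sm gf N11764 = N7114 := flp_f L70058
theorem L70060 : sm ga N11764 = N11763 := ded_11_1 L70057 L69936 L70058
theorem L70061 : sm ga N11763 = N11764 := flp_a L70060
theorem L70062 : sm gd N11764 = N11625 := ded_23_1 L69246 L44197 L70058
theorem L70064 : sm ge N11764 = N7116 := ded_25_1 L44209 L44199 L70058
theorem L70068 : sm gb N7115 = N11765 := rfl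
theorem L70069 : sm gb N11765 = N7115 := flp_b L70068
theorem L70082 : sm gf N7117 = N11769 := rfl
theorem L70083 : sm gf N11769 = N7117 := flp_f L70082
theorem L70084 : sm gb N11769 = N11751 := ded_16_1 L69985 L44169 L30270 L44216 L70082
theorem L70136 : sm gb N7121 = N11780 := rfl
theorem L70137 : sm gb N11780 = N7121 := flp_b L70136
theorem L70138 : sm gd N11780 = N10322 := ded_14_2 L61731 L44237 L70136
theorem L70139 : sm gd N10322 = N11780 := flp_d L70138
theorem L70178 : sm gf N7127 = N11788 := rfl
theorem L70179 : sm gf N11788 = N7127 := flp_f L70178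
theorem L70180 : sm ga N11788 = N7129 := ded_11_1 L44277 L44266 L70178
theorem L70186 : sm gg N11625 = N11788 := ded_29_1 L70179 L69238 L69234 L69245
theorem L70190 : sm gf N7128 = N11790 := rfl
theorem L70192 : sm gc N11790 = N7129 := ded_20_1 L44277 L44272 L70190
theorem L70194 : sm ge N11790 = N7135 := ded_25_1 L44307 L44275 L70190
theorem L70195 : sm ge N7135 = N11790 := flp_e L70194
theorem L70196 : sm gb N7129 = N11791 := rfl
theorem L70198 : sm gd N11791 = N11232 := ded_14_2 L66959 L44279 L70196
theorem L70199 : sm gd N11232 = N11791 := flp_d L70198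
theorem L70204 : sm gg N7129 = N11792 := rfl
theorem L70205 : sm gg N11792 = N7129 := flp_g L70204
theorem L70206 : sm ga N11792 = N11625 := ded_12_1 L70186 L70180 L70204
theorem L70208 : sm gd N11792 = N11763 := ded_24_1 L70053 L44279 L70204
theorem L70210 : sm ge N11792 = N7137 := ded_26_1 L44317 L44281 L70204
theorem L70212 : sm gf N11623 = N11792 := ded_29_0 L70205 L44277 L43709 L69233
theorem L70213 : sm gf N11792 = N11623 := flp_f L70212
theorem L70226 : sm gg N7130 = N11795 := rfl
theorem L70230 : sm ge N11795 = N7140 := ded_26_1 L44333 L44287 L70226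
theorem L70244 : sm gb N7132 = N11799 := rfl
theorem L70246 : sm gd N7132 = N11800 := rfl
theorem L70248 : sm ga N11800 = N7134 := ded_9_1 L44305 L44295 L70246
theorem L70250 : sm gc N11800 = N10331 := ded_28_6 L61779 L61769 L61767 L38932 L27903 L30317 L44292 L70246
theorem L70251 : sm gc N10331 = N11800 := flp_c L70250
theorem L70252 : sm gf N7132 = N11801 := rfl
theorem L70253 : sm gf N11801 = N7132 := flp_f L70252
theorem L70254 : sm ga N11801 = N7135 := ded_11_1 L44307 L44295 L70252
theorem L70255 : sm ga N7135 = N11801 := flp_a L70254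
theorem L70258 : sm gg N11630 = N11801 := ded_29_1 L70253 L69262 L69259 L69267
theorem L70264 : sm gc N7134 = N11803 := rfl
theorem L70266 : sm ga N11803 = N10331 := ded_8_1 L70251 L70248 L70264
theorem L70268 : sm gd N11803 = N10329 := ded_28_7 L61768 L38935 L27899 L22083 L23448 L30318 L44304 L70264
theorem L70290 : sm gg N7136 = N11809 := rfl
theorem L70291 : sm gg N11809 = N7136 := flp_g L70290
theorem L70292 : sm gd N11809 = N7144 := ded_24_1 L44351 L44313 L70290
theorem L70298 : sm gc N7138 = N11811 := rfl
theorem L70300 : sm ga N11811 = N7139 := ded_8_1 L44329 L44324 L70298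
theorem L70302 : sm gg N7138 = N11812 := rfl
theorem L70304 : sm ga N11812 = N7140 := ded_12_1 L44333 L44324 L70302
theorem L70305 : sm ga N7140 = N11812 := flp_a L70304
theorem L70306 : sm gd N11812 = N7146 := ded_24_1 L44359 L44327 L70302
theorem L70307 : sm gd N7146 = N11812 := flp_d L70306
theorem L70308 : sm gf N11812 = N11809 := ded_29_2 L70291 L59193 L59196 L70302
theorem L70309 : sm gf N11809 = N11812 := flp_f L70308
theorem L70310 : sm gd N7139 = N11813 := rfl
theorem L70312 : sm gb N11813 = N11722 := ded_14_1 L69813 L44331 L70310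
theorem L70314 : sm gg N7139 = N11814 := rfl
theorem L70316 : sm gc N11814 = N7140 := ded_21_1 L44333 L44328 L70314
theorem L70317 : sm gc N7140 = N11814 := flp_c L70316
theorem L70318 : sm gf N7140 = N11815 := rfl
theorem L70319 : sm gf N11815 = N7140 := flp_f L70318
theorem L70320 : sm ga N11815 = N11809 := ded_11_1 L70309 L70304 L70318
theorem L70324 : sm gg N11815 = N9858 := ded_29_3 L59192 L44314 L44332 L70318
theorem L70338 : sm gg N7143 = N11817 := rfl
theorem L70342 : sm ge N11817 = N11748 := ded_26_1 L69971 L44349 L70338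
theorem L70344 : sm gf N11817 = N10965 := ded_29_2 L65527 L65501 L65505 L70338
theorem L70362 : sm gf N7145 = N11821 := rfl
theorem L70364 : sm ge N11821 = N11769 := ded_25_1 L70083 L44357 L70362
theorem L70365 : sm ge N11769 = N11821 := flp_e L70364
theorem L70366 : sm gb N11821 = N11637 := ded_16_1 L69294 L43737 L30352 L44354 L70362
theorem L70368 : sm gb N7146 = N11822 := rfl
theorem L70370 : sm ge N11822 = N11227 := ded_15_2 L66936 L44363 L70368
theorem L70371 : sm ge N11227 = N11822 := flp_e L70370
theorem L70372 : sm gd N7148 = N11823 := rfl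
theorem L70373 : sm gd N11823 = N7148 := flp_d L70372
theorem L70374 : sm gb N11823 = N7149 := ded_14_1 L44377 L44374 L70372
theorem L70375 : sm gb N7149 = N11823 := flp_b L70374
theorem L70376 : sm gf N11823 = N10558 := ded_23_2 L63211 L44389 L70372
theorem L70377 : sm gf N10558 = N11823 := flp_f L70376
theorem L70380 : sm gc N7149 = N11825 := rfl
theorem L70382 : sm ga N11825 = N7152 := ded_8_1 L44397 L44379 L70380
theorem L70388 : sm gf N7149 = N11827 := rfl
theorem L70389 : sm gf N11827 = N7149 := flp_f L70388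
theorem L70390 : sm ga N11827 = N7154 := ded_11_1 L44403 L44379 L70388
theorem L70394 : sm gb N11827 = N9857 := ded_16_1 L59188 L63213 L70377 L70374 L70388
theorem L70404 : sm gd N7152 = N11830 := rfl
theorem L70424 : sm gg N7153 = N11835 := rfl
theorem L70426 : sm ge N11835 = N7155 := ded_26_1 L44409 L44398 L70424
theorem L70436 : sm gf N7155 = N11837 := rfl
theorem L70442 : sm gg N11837 = N11827 := ded_29_3 L70390 L44403 L44408 L70436
theorem L70576 : sm gc N7168 = N11863 := rfl
theorem L70577 : sm gc N11863 = N7168 := flp_c L70576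
theorem L70578 : sm ga N11863 = N7172 := ded_8_1 L44505 L44485 L70576
theorem L70579 : sm ga N7172 = N11863 := flp_a L70578
theorem L70580 : sm gd N11863 = N7172 := ded_28_7 L70579 L70577 L44483 L30420 L23541 L30421 L44482 L70576
theorem L70582 : sm gb N11830 = N11863 := ded_14_3 L70580 L44506 L70404
theorem L70594 : sm gg N7168 = N11866 := rfl
theorem L70596 : sm ga N11866 = N7175 := ded_12_1 L44519 L44485 L70594
theorem L70597 : sm ga N7175 = N11866 := flp_a L70596
theorem L70612 : sm gg N7169 = N11869 := rfl
theorem L70613 : sm gg N11869 = N7169 := flp_g L70612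
theorem L70614 : sm ga N11869 = N7178 := ded_12_1 L44537 L44489 L70612
theorem L70615 : sm ga N7178 = N11869 := flp_a L70614
theorem L70644 : sm gf N7173 = N11876 := rfl
theorem L70645 : sm gf N11876 = N7173 := flp_f L70644
theorem L70646 : sm ge N11876 = N7174 := ded_25_1 L44513 L44508 L70644
theorem L70647 : sm ge N7174 = N11876 := flp_e L70646
theorem L70650 : sm gg N7173 = N11877 := rfl
theorem L70654 : sm gb N11877 = N9703 := ded_17_1 L58241 L37076 L30453 L44511 L70650
theorem L70656 : sm gg N7174 = N11878 := rfl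
theorem L70657 : sm gg N11878 = N7174 := flp_g L70656
theorem L70660 : sm gf N11866 = N11878 := ded_29_0 L70657 L44513 L44518 L70597
theorem L70672 : sm gf N7176 = N11881 := rfl
theorem L70674 : sm gd N11881 = N7177 := ded_23_1 L44529 L44524 L70672
theorem L70684 : sm gg N7177 = N11883 := rfl
theorem L70685 : sm gg N11883 = N7177 := flp_g L70684
theorem L70690 : sm gf N11869 = N11883 := ded_29_0 L70685 L44529 L44536 L70615
theorem L70691 : sm gf N11883 = N11869 := flp_f L70690
theorem L70884 : sm gb N7199 = N11926 := rfl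
theorem L70885 : sm gb N11926 = N7199 := flp_b L70884
theorem L70886 : sm gd N11926 = N8107 := ded_14_2 L49740 L44652 L70884
theorem L70887 : sm gd N8107 = N11926 := flp_d L70886
theorem L70892 : sm gg N7199 = N11927 := rfl
theorem L70893 : sm gg N11927 = N7199 := flp_g L70892
theorem L70900 : sm gf N8095 = N11927 := ded_29_0 L70893 L44648 L44655 L49662
theorem L70901 : sm gf N11927 = N8095 := flp_f L70900
theorem L70990 : sm gb N7209 = N11941 := rfl
theorem L70992 : sm ge N11941 = N8122 := ded_15_2 L49820 L44718 L70990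
theorem L70998 : sm gg N11941 = N7913 := ded_17_2 L48609 L48748 L48757 L44827 L70990
theorem L70999 : sm gg N7913 = N11941 := flp_g L70998
theorem L71012 : sm gc N7211 = N11943 := rfl
theorem L71013 : sm gc N11943 = N7211 := flp_c L71012
theorem L71018 : sm gb N11943 = N7216 := ded_13_1 L44758 L30591 L30555 L44723 L71012
theorem L71020 : sm gd N11446 = N11943 := ded_28_1 L71013 L44725 L43807 L43804 L42839 L68336 L68334 L68339
theorem L71022 : sm gg N7211 = N11944 := rfl
theorem L71024 : sm gd N11944 = N10337 := ded_24_1 L61813 L44726 L71022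
theorem L71026 : sm ge N11944 = N11443 := ded_26_1 L68323 L44728 L71022
theorem L71028 : sm gc N7212 = N11945 := rfl
theorem L71036 : sm gb N11945 = N7219 := ded_13_1 L44770 L30595 L30565 L44731 L71028
theorem L71038 : sm ga N7213 = N11946 := rfl
theorem L71039 : sm ga N11946 = N7213 := flp_a L71038
theorem L71040 : sm gd N11946 = N8132 := ded_9_2 L49862 L44744 L71038
theorem L71041 : sm gd N8132 = N11946 := flp_d L71040
theorem L71044 : sm gc N7213 = N11947 := rfl
theorem L71048 : sm gb N11947 = N11446 := ded_13_1 L68340 L42829 L30575 L44741 L71044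
theorem L71050 : sm gd N7216 = N11947 := ded_14_0 L71048 L71020 L71018
theorem L71051 : sm gd N11947 = N7216 := flp_d L71050
theorem L71052 : sm gc N7224 = N8132 := ded_28_6 L71041 L71039 L71044 L71051 L44758 L30592 L30602 L44793
theorem L71058 : sm ge N8139 = N7224 := ded_19_0 L71052 L49863 L49889
theorem L71062 : sm gb N8126 = N8139 := ded_15_3 L71058 L67000 L67003
theorem L71068 : sm ga N8127 = N8178 := ded_7_3 L50764 L33269 L25188 L25116 L33108 L49845 L71062 L49891 L49850
theorem L71069 : sm ga N8178 = N8127 := flp_a L71068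
theorem L71070 : sm gc N8178 = N8126 := ded_8_2 L49846 L49847 L71068
theorem L71072 : N4107 = N9148 := coi_30_11 L55607 L35713 L26284 L21267 L18842 L18770 L21158 L25938 L34881 L50770 L50766 L50763 L71069 L67342 L67338 L42285 L29446 L28685 L28672 L28671
theorem L71073 : N9148 = N4107 := (eqc rfl L71072 rfl).symm
theorem L71074 : sm ga N4107 = N5526 := trf L71073 L55607 rfl
theorem L71075 : N5526 = N4266 := eqe L71074 L29437
theorem L71076 : N5526 = N4266 := eqc rfl L71075 rfl
theorem L71080 : sm gf N4107 = N5521 := trf L71073 L55606 rfl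
theorem L71081 : N5521 = N6470 := eqe L71080 L40650
theorem L71082 : N6470 = N5521 := (eqc rfl L71081 rfl).symm
theorem L71083 : sm gg N4107 = N9163 := trf L71073 L55684 rfl
theorem L71084 : N9163 = N6471 := eqe L71083 L40658
theorem L71085 : N9163 = N6471 := eqc rfl L71084 rfl
theorem L71086 : sm ga N6471 = N9161 := trf L71085 L55679 rfl
theorem L71087 : N9161 = N6800 := eqe L71086 L42277
theorem L71088 : N9161 = N6800 := eqc rfl L71087 rfl
theorem L71089 : sm gc N6471 = N5530 := trf L71085 L55681 rfl
theorem L71090 : N5530 = N4111 := eqe L71089 L40660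
theorem L71091 : N5530 = N4111 := eqc rfl L71090 rfl
theorem L71092 : sm gf N6471 = N5527 := trf L71085 L55678 rfl
theorem L71093 : N5527 = N10744 := eqe L71092 L64292
theorem L71094 : N10744 = N5527 := (eqc rfl L71093 rfl).symm
theorem L71095 : sm ga N5527 = N10742 := trf L71094 L64294 rfl
theorem L71096 : N10742 = N9149 := eqe L71095 L55614
theorem L71097 : N10742 = N9149 := eqc rfl L71096 rfl
theorem L71098 : sm gc N5527 = N6479 := trf L71094 L64296 rfl
theorem L71099 : N6479 = N3628 := eqe L71098 L35718
theorem L71100 : N6479 = N3628 := eqc rfl L71099 rfl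
theorem L71104 : sm ge N5527 = N6475 := trf L71094 L64300 rfl
theorem L71105 : N6475 = N9045 := eqe L71104 L55082
theorem L71106 : N9045 = N6475 := (eqc rfl L71105 rfl).symm
theorem L71109 : sm gg N5527 = N6799 := trf L71094 L64302 rfl
theorem L71110 : N6799 = N3626 := eqe L71109 L35717
theorem L71111 : N6799 = N3626 := eqc rfl L71110 rfl
theorem L71113 : sm gb N3626 = N11281 := trf L71111 L67313 rfl
theorem L71114 : N11281 = N5524 := eqe L71113 L35706
theorem L71115 : N11281 = N5524 := eqc rfl L71114 rfl
theorem L71116 : sm gc N3626 = N4267 := trf L71111 L42268 rfl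
theorem L71117 : N4267 = N2653 := eqe L71116 L26284
theorem L71118 : N4267 = N2653 := eqc rfl L71117 rfl
theorem L71119 : sm gd N3626 = N6460 := trf L71111 L42270 rfl
theorem L71120 : N6460 = N5525 := eqe L71119 L35710
theorem L71121 : N6460 = N5525 := eqc rfl L71120 rfl
theorem L71122 : sm ge N3626 = N5525 := trf L71111 L42272 L71121
theorem L71123 : N5525 = N5476 := eqe L71122 L35463
theorem L71124 : N5525 = N5476 := eqc rfl L71123 rfl
theorem L71130 : sm gb N5476 = N9153 := trf L71124 L55644 rfl
theorem L71131 : N9153 = N9042 := eqe L71130 L55063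
theorem L71132 : N9153 = N9042 := eqc rfl L71131 rfl
theorem L71136 : sm gd N5476 = N3626 := trf L71124 L35711 rfl
theorem L71137 : N3626 = N9043 := eqe L71136 L55069
theorem L71138 : N9043 = N3626 := (eqc rfl L71137 rfl).symm
theorem L71142 : sm gf N5476 = N9158 := trf L71124 L55659 rfl
theorem L71143 : N9158 = N9044 := eqe L71142 L55071
theorem L71144 : N9158 = N9044 := eqc rfl L71143 rfl
theorem L71147 : sm gd N9044 = N4266 := trf L71144 L55661 L71076
theorem L71148 : sm gd N4266 = N9044 := flp_d L71147
theorem L71149 : N9044 = N4102 := eqe L71148 L29442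
theorem L71150 : N9044 = N4102 := eqc rfl L71149 rfl
theorem L71151 : sm gc N4102 = N5477 := trf L71150 L55073 rfl
theorem L71152 : N5477 = N2923 := eqe L71151 L28646
theorem L71153 : N5477 = N2923 := eqc rfl L71152 rfl
theorem L71157 : N6460 = N5476 := L71121.trans L71124
theorem L71167 : sm ge N2923 = N3627 := trf L71153 L35466 rfl
theorem L71168 : N3627 = N3007 := eqe L71167 L23022
theorem L71169 : N3627 = N3007 := eqc rfl L71168 rfl
theorem L71170 : sm gf N2923 = N3605 := trf L71153 L35465 rfl
theorem L71171 : N3605 = N4103 := eqe L71170 L28649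
theorem L71172 : N4103 = N3605 := (eqc rfl L71171 rfl).symm
theorem L71173 : sm gg N2923 = N9046 := trf L71153 L55083 rfl
theorem L71174 : N9046 = N4104 := eqe L71173 L28655
theorem L71175 : N9046 = N4104 := eqc rfl L71174 rfl
theorem L71182 : sm gf N4104 = N9041 := trf L71175 L55088 rfl
theorem L71183 : N9041 = N4113 := eqe L71182 L28706
theorem L71184 : N9041 = N4113 := eqc rfl L71183 rfl
theorem L71185 : sm ga N4113 = N5478 := trf L71184 L55059 rfl
theorem L71186 : N5478 = N4115 := eqe L71185 L28717
theorem L71187 : N5478 = N4115 := eqc rfl L71186 rfl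
theorem L71191 : sm gg N4113 = N5475 := trf L71184 L55058 rfl
theorem L71192 : N5475 = N2928 := eqe L71191 L28703
theorem L71193 : N5475 = N2928 := eqc rfl L71192 rfl
theorem L71196 : sm gb N2928 = N8292 := trf L71193 L51320 rfl
theorem L71197 : N8292 = N4112 := eqe L71196 L28696
theorem L71198 : N8292 = N4112 := eqc rfl L71197 rfl
theorem L71205 : sm ge N2928 = N3625 := trf L71193 L35458 rfl
theorem L71206 : N3625 = N4110 := eqe L71205 L28689
theorem L71207 : N4110 = N3625 := (eqc rfl L71206 rfl).symm
theorem L71210 : sm gb N3625 = N6476 := trf L71207 L40686 rfl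
theorem L71211 : N6476 = N5067 := eqe L71210 L33603
theorem L71212 : N6476 = N5067 := eqc rfl L71211 rfl
theorem L71214 : sm gd N3625 = N2952 := trf L71207 L28686 rfl
theorem L71215 : N2952 = N2673 := eqe L71214 L26281
theorem L71216 : N2952 = N2673 := eqc rfl L71215 rfl
theorem L71217 : sm ge N3625 = N2928 := trf L71207 L28688 rfl
theorem L71222 : sm ga N2673 = N3008 := trf L71216 L23026 rfl
theorem L71223 : N3008 = N2177 := eqe L71222 L21365
theorem L71224 : N3008 = N2177 := eqc rfl L71223 rfl
theorem L71225 : sm gb N2673 = N4161 := trf L71216 L28970 rfl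
theorem L71226 : N4161 = N3428 := eqe L71225 L25408
theorem L71227 : N4161 = N3428 := eqc rfl L71226 rfl
theorem L71231 : sm ge N2673 = N2320 := trf L71216 L22739 rfl
theorem L71232 : N2320 = N3268 := eqe L71231 L24504
theorem L71233 : N3268 = N2320 := (eqc rfl L71232 rfl).symm
theorem L71237 : sm gg N2673 = N4162 := trf L71216 L28976 rfl
theorem L71238 : N4162 = N3670 := eqe L71237 L26479
theorem L71239 : N4162 = N3670 := eqc rfl L71238 rfl
theorem L71253 : sm gf N3670 = N3009 := trf L71239 L28983 rfl
theorem L71254 : N3009 = N3675 := eqe L71253 L26499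
theorem L71255 : N3675 = N3009 := (eqc rfl L71254 rfl).symm
theorem L71259 : sm gb N3009 = N5634 := trf L71255 L36174 rfl
theorem L71260 : N5634 = N4270 := eqe L71259 L29464
theorem L71261 : N5634 = N4270 := eqc rfl L71260 rfl
theorem L71271 : sm gg N3009 = N2675 := trf L71255 L26498 rfl
theorem L71272 : N2675 = N2348 := eqe L71271 L23032
theorem L71273 : N2675 = N2348 := eqc rfl L71272 rfl
theorem L71282 : sm ge N2348 = N3270 := trf L71273 L24512 rfl
theorem L71283 : N3270 = N2271 := eqe L71282 L19726
theorem L71284 : N3270 = N2271 := eqc rfl L71283 rfl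
theorem L71299 : sm gf N2271 = N2474 := trf L71284 L24510 rfl
theorem L71300 : N2474 = N2854 := eqe L71299 L22147
theorem L71301 : N2854 = N2474 := (eqc rfl L71300 rfl).symm
theorem L71308 : sm gc N2474 = N2272 := trf L71301 L22151 rfl
theorem L71309 : N2272 = N3269 := eqe L71308 L24505
theorem L71310 : N3269 = N2272 := (eqc rfl L71309 rfl).symm
theorem L71311 : sm gd N2474 = N2317 := trf L71301 L22153 rfl
theorem L71312 : N2317 = N3248 := eqe L71311 L24408
theorem L71313 : N3248 = N2317 := (eqc rfl L71312 rfl).symm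
theorem L71315 : sm gf N2474 = N2271 := trf L71301 L22148 rfl
theorem L71316 : sm gf N2271 = N2474 := flp_f L71315
theorem L71317 : sm gg N2474 = N2957 := trf L71301 L22774 rfl
theorem L71318 : N2957 = N3271 := eqe L71317 L24513
theorem L71319 : N3271 = N2957 := (eqc rfl L71318 rfl).symm
theorem L71321 : sm gb N2957 = N4795 := trf L71319 L32199 rfl
theorem L71322 : N4795 = N4172 := eqe L71321 L29032
theorem L71323 : N4795 = N4172 := eqc rfl L71322 rfl
theorem L71332 : sm gf N2957 = N4796 := trf L71319 L32205 rfl
theorem L71333 : N4796 = N2321 := eqe L71332 L22766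
theorem L71334 : N4796 = N2321 := eqc rfl L71333 rfl
theorem L71335 : sm gg N2957 = N2474 := trf L71319 L24514 rfl
theorem L71336 : sm gg N2474 = N2957 := flp_g L71335
theorem L71344 : sm gd N2321 = N7728 := trf L71334 L47623 rfl
theorem L71345 : N7728 = N1742 := eqe L71344 L19588
theorem L71346 : N7728 = N1742 := eqc rfl L71345 rfl
theorem L71353 : sm gg N1742 = N7720 := trf L71346 L47624 rfl
theorem L71354 : N7720 = N885 := eqe L71353 L8880
theorem L71355 : N7720 = N885 := eqc rfl L71354 rfl
theorem L71358 : sm gf N885 = N4743 := trf L71355 L47581 rfl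
theorem L71359 : N4743 = N1741 := eqe L71358 L8875
theorem L71360 : N4743 = N1741 := eqc rfl L71359 rfl
theorem L71365 : sm gc N1741 = N7719 := trf L71360 L47576 rfl
theorem L71366 : N7719 = N936 := eqe L71365 L8877
theorem L71367 : N7719 = N936 := eqc rfl L71366 rfl
theorem L71376 : sm ga N936 = N4744 := trf L71367 L47578 rfl
theorem L71377 : N4744 = N1852 := eqe L71376 L9394
theorem L71378 : N4744 = N1852 := eqc rfl L71377 rfl
theorem L71386 : sm ge N1852 = N7674 := trf L71378 L47313 rfl
theorem L71387 : N7674 = N2346 := eqe L71386 L19715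
theorem L71388 : N7674 = N2346 := eqc rfl L71387 rfl
theorem L71397 : sm gc N2346 = N4723 := trf L71388 L47311 rfl
theorem L71398 : N4723 = N2924 := eqe L71397 L22589
theorem L71399 : N4723 = N2924 := eqc rfl L71398 rfl
theorem L71401 : sm gb N2924 = N3240 := trf L71399 L31828 rfl
theorem L71402 : N3240 = N4105 := eqe L71401 L28661
theorem L71403 : N4105 = N3240 := (eqc rfl L71402 rfl).symm
theorem L71416 : sm gb N3240 = N2924 := trf L71403 L28662 rfl
theorem L71417 : sm gb N2924 = N3240 := flp_b L71416
theorem L71418 : sm gc N3240 = N6465 := trf L71403 L40620 rfl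
theorem L71419 : N6465 = N4724 := eqe L71418 L31833
theorem L71420 : N6465 = N4724 := eqc rfl L71419 rfl
theorem L71427 : sm gf N3240 = N6458 := trf L71403 L40585 rfl
theorem L71428 : N6458 = N4638 := eqe L71427 L31375
theorem L71429 : N6458 = N4638 := eqc rfl L71428 rfl
theorem L71430 : sm gg N3240 = N6466 := trf L71403 L40630 rfl
theorem L71431 : N6466 = N4725 := eqe L71430 L31839
theorem L71432 : N6466 = N4725 := eqc rfl L71431 rfl
theorem L71436 : sm gb N4725 = N6500 := trf L71432 L40827 rfl
theorem L71437 : N6500 = N7680 := eqe L71436 L47344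
theorem L71438 : N7680 = N6500 := (eqc rfl L71437 rfl).symm
theorem L71439 : sm gc N4725 = N6276 := trf L71432 L40632 rfl
theorem L71440 : N6276 = N7679 := eqe L71439 L47339
theorem L71441 : N7679 = N6276 := (eqc rfl L71440 rfl).symm
theorem L71445 : sm ge N4725 = N4157 := trf L71432 L40634 rfl
theorem L71446 : N4157 = N3250 := eqe L71445 L31845
theorem L71447 : N4157 = N3250 := eqc rfl L71446 rfl
theorem L71448 : sm gf N4725 = N10739 := trf L71432 L64248 rfl
theorem L71449 : N10739 = N4640 := eqe L71448 L31847
theorem L71450 : N10739 = N4640 := eqc rfl L71449 rfl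
theorem L71460 : sm gg N4640 = N6759 := trf L71450 L64256 rfl
theorem L71461 : N6759 = N3199 := eqe L71460 L31383
theorem L71462 : N6759 = N3199 := eqc rfl L71461 rfl
theorem L71464 : sm gb N3199 = N4498 := trf L71462 L42010 rfl
theorem L71465 : N4498 = N2441 := eqe L71464 L24014
theorem L71466 : N4498 = N2441 := eqc rfl L71465 rfl
theorem L71467 : sm gc N3199 = N4248 := trf L71462 L42003 rfl
theorem L71468 : N4248 = N4639 := eqe L71467 L31376
theorem L71469 : N4639 = N4248 := (eqc rfl L71468 rfl).symm
theorem L71473 : sm ge N3199 = N4405 := trf L71462 L42006 rfl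
theorem L71474 : N4405 = N2443 := eqe L71473 L24017
theorem L71475 : N4405 = N2443 := eqc rfl L71474 rfl
theorem L71477 : sm ga N2443 = N4151 := trf L71475 L30088 rfl
theorem L71478 : N4151 = N3203 := eqe L71477 L24047
theorem L71479 : N4151 = N3203 := eqc rfl L71478 rfl
theorem L71483 : sm gc N2443 = N3076 := trf L71475 L30087 rfl
theorem L71484 : N3076 = N3204 := eqe L71483 L24053
theorem L71485 : N3204 = N3076 := (eqc rfl L71484 rfl).symm
theorem L71489 : sm gf N2443 = N4155 := trf L71475 L30090 rfl
theorem L71490 : N4155 = N2038 := eqe L71489 L20224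
theorem L71491 : N4155 = N2038 := eqc rfl L71490 rfl
theorem L71497 : sm gc N2038 = N4401 := trf L71491 L30084 rfl
theorem L71498 : N4401 = N2467 := eqe L71497 L20357
theorem L71499 : N4401 = N2467 := eqc rfl L71498 rfl
theorem L71504 : sm gg N2038 = N6562 := trf L71491 L41144 rfl
theorem L71505 : N6562 = N2468 := eqe L71504 L20359
theorem L71506 : N6562 = N2468 := eqc rfl L71505 rfl
theorem L71518 : sm gf N2468 = N6555 := trf L71506 L41148 rfl
theorem L71519 : N6555 = N3254 := eqe L71518 L24433
theorem L71520 : N6555 = N3254 := eqc rfl L71519 rfl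
theorem L71525 : sm gc N3254 = N7002 := trf L71520 L43550 rfl
theorem L71526 : N7002 = N4755 := eqe L71525 L32012
theorem L71527 : N7002 = N4755 := eqc rfl L71526 rfl
theorem L71528 : sm gd N3254 = N10373 := trf L71520 L62045 rfl
theorem L71529 : N10373 = N2477 := eqe L71528 L24437
theorem L71530 : N10373 = N2477 := eqc rfl L71529 rfl
theorem L71540 : sm gg N2477 = N6249 := trf L71530 L62043 rfl
theorem L71541 : N6249 = N2447 := eqe L71540 L20405
theorem L71542 : N6249 = N2447 := eqc rfl L71541 rfl
theorem L71544 : sm gb N2447 = N3990 := trf L71542 L39457 rfl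
theorem L71545 : N3990 = N3211 := eqe L71544 L24083
theorem L71546 : N3990 = N3211 := eqc rfl L71545 rfl
theorem L71551 : sm ge N2447 = N6101 := trf L71542 L39460 rfl
theorem L71552 : N6101 = N2158 := eqe L71551 L20248
theorem L71553 : N6101 = N2158 := eqc rfl L71552 rfl
theorem L71558 : sm gb N2158 = N3914 := trf L71553 L38361 rfl
theorem L71559 : N3914 = N2633 := eqe L71558 L21188
theorem L71560 : N3914 = N2633 := eqc rfl L71559 rfl
theorem L71567 : sm gf N2158 = N4269 := trf L71553 L38364 rfl
theorem L71568 : N4269 = N1196 := eqe L71567 L18793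
theorem L71569 : N4269 = N1196 := eqc rfl L71568 rfl
theorem L71582 : sm gg N1196 = N6805 := trf L71569 L42310 rfl
theorem L71583 : N6805 = N2179 := eqe L71582 L18877
theorem L71584 : N6805 = N2179 := eqc rfl L71583 rfl
theorem L71597 : sm ge N2179 = N6255 := trf L71584 L42312 rfl
theorem L71598 : N6255 = N2475 := eqe L71597 L20390
theorem L71599 : N6255 = N2475 := eqc rfl L71598 rfl
theorem L71607 : sm gb N2475 = N6593 := trf L71599 L41299 rfl
theorem L71608 : N6593 = N3272 := eqe L71607 L24517
theorem L71609 : N6593 = N3272 := eqc rfl L71608 rfl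
theorem L71610 : sm gc N2475 = N10382 := trf L71599 L62107 rfl
theorem L71611 : N10382 = N2871 := eqe L71610 L22250
theorem L71612 : N10382 = N2871 := eqc rfl L71611 rfl
theorem L71617 : sm gg N2871 = N6254 := trf L71612 L62105 rfl
theorem L71618 : N6254 = N2280 := eqe L71617 L22246
theorem L71619 : N6254 = N2280 := eqc rfl L71618 rfl
theorem L71623 : sm gb N2280 = N3995 := trf L71619 L39502 rfl
theorem L71624 : N3995 = N2870 := eqe L71623 L22241
theorem L71625 : N3995 = N2870 := eqc rfl L71624 rfl
theorem L71627 : sm gd N2280 = N10381 := trf L71619 L62096 rfl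
theorem L71628 : N10381 = N2867 := eqe L71627 L22234
theorem L71629 : N10381 = N2867 := eqc rfl L71628 rfl
theorem L71632 : sm gb N2867 = N6260 := trf L71629 L62098 rfl
theorem L71633 : N6260 = N4015 := eqe L71632 L28153
theorem L71634 : N6260 = N4015 := eqc rfl L71633 rfl
theorem L71638 : sm gf N2867 = N10225 := trf L71629 L62100 rfl
theorem L71639 : N10225 = N3994 := eqe L71638 L28032
theorem L71640 : N10225 = N3994 := eqc rfl L71639 rfl
theorem L71644 : sm gc N3994 = N6147 := trf L71640 L61233 rfl
theorem L71645 : N6147 = N6259 := eqe L71644 L39520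
theorem L71646 : N6259 = N6147 := (eqc rfl L71645 rfl).symm
theorem L71654 : sm gc N6147 = N3994 := trf L71646 L39521 rfl
theorem L71664 : sm gg N6147 = N6311 := trf L71646 L39811 rfl
theorem L71665 : N6311 = N10227 := eqe L71664 L61236
theorem L71666 : N10227 = N6311 := (eqc rfl L71665 rfl).symm
theorem L71670 : sm gf N6311 = N11495 := trf L71666 L68594 rfl
theorem L71671 : N11495 = N4019 := eqe L71670 L39805
theorem L71672 : N11495 = N4019 := eqc rfl L71671 rfl
theorem L71673 : sm gg N6311 = N6147 := trf L71666 L61237 rfl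
theorem L71675 : sm gd N4019 = N6953 := trf L71672 L68592 rfl
theorem L71676 : N6953 = N6309 := eqe L71675 L39801
theorem L71677 : N6953 = N6309 := eqc rfl L71676 rfl
theorem L71678 : sm ga N6309 = N10218 := trf L71677 L61181 rfl
theorem L71679 : N10218 = N7741 := eqe L71678 L47679
theorem L71680 : N10218 = N7741 := eqc rfl L71679 rfl
theorem L71692 : sm gg N6309 = N10216 := trf L71677 L61169 rfl
theorem L71693 : N10216 = N4018 := eqe L71692 L39799
theorem L71694 : N10216 = N4018 := eqc rfl L71693 rfl
theorem L71695 : sm ga N4018 = N6139 := trf L71694 L61162 rfl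
theorem L71696 : N6139 = N4751 := eqe L71695 L31996
theorem L71697 : N6139 = N4751 := eqc rfl L71696 rfl
theorem L71701 : sm gc N4018 = N6138 := trf L71694 L61161 rfl
theorem L71702 : N6138 = N4748 := eqe L71701 L31980
theorem L71703 : N6138 = N4748 := eqc rfl L71702 rfl
theorem L71707 : sm gf N4018 = N6145 := trf L71694 L61166 rfl
theorem L71708 : N6145 = N6260 := eqe L71707 L39529
theorem L71709 : N6145 = N4015 := eqc rfl L71708 L71634
theorem L71710 : sm ga N4015 = N3937 := trf L71709 L38610 rfl
theorem L71711 : N3937 = N6301 := eqe L71710 L39768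
theorem L71712 : N6301 = N3937 := (eqc rfl L71711 rfl).symm
theorem L71716 : sm gc N4015 = N3936 := trf L71709 L38609 rfl
theorem L71717 : N3936 = N6302 := eqe L71716 L39772
theorem L71718 : N6302 = N3936 := (eqc rfl L71717 rfl).symm
theorem L71723 : sm gg N4015 = N10224 := trf L71709 L61224 rfl
theorem L71724 : N10224 = N6304 := eqe L71723 L39778
theorem L71725 : N10224 = N6304 := eqc rfl L71724 rfl
theorem L71732 : sm gf N6304 = N7741 := trf L71725 L61231 L71680
theorem L71733 : N7741 = N10477 := eqe L71732 L62692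
theorem L71734 : N10477 = N7741 := (eqc rfl L71733 rfl).symm
theorem L71738 : sm gd N7741 = N6321 := trf L71734 L62696 rfl
theorem L71739 : N6321 = N6306 := eqe L71738 L47682
theorem L71740 : N6321 = N6306 := eqc rfl L71739 rfl
theorem L71746 : sm gg N7741 = N10469 := trf L71734 L62698 rfl
theorem L71747 : N10469 = N4751 := eqe L71746 L47677
theorem L71748 : N10469 = N4751 := eqc rfl L71747 rfl
theorem L71752 : sm gb N4751 = N11445 := trf L71748 L68337 rfl
theorem L71753 : N11445 = N7739 := eqe L71752 L47666
theorem L71754 : N11445 = N7739 := eqc rfl L71753 rfl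
theorem L71755 : sm gd N4751 = N6314 := trf L71748 L62656 rfl
theorem L71756 : N6314 = N4016 := eqe L71755 L31997
theorem L71757 : N6314 = N4016 := eqc rfl L71756 rfl
theorem L71758 : sm ge N4751 = N11353 := trf L71748 L67796 rfl
theorem L71759 : N11353 = N7740 := eqe L71758 L47670
theorem L71760 : N11353 = N7740 := eqc rfl L71759 rfl
theorem L71768 : sm gd N7740 = N6855 := trf L71760 L67793 rfl
theorem L71769 : N6855 = N11366 := eqe L71768 L67872
theorem L71770 : N11366 = N6855 := (eqc rfl L71769 rfl).symm
theorem L71783 : sm ge N6855 = N6845 := trf L71770 L67868 rfl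
theorem L71784 : N6845 = N4370 := eqe L71783 L42612
theorem L71785 : N6845 = N4370 := eqc rfl L71784 rfl
theorem L71786 : sm ga N4370 = N4290 := trf L71785 L42554 rfl
theorem L71787 : N4290 = N3060 := eqe L71786 L29922
theorem L71788 : N4290 = N3060 := eqc rfl L71787 rfl
theorem L71792 : sm gc N4370 = N6874 := trf L71785 L42716 rfl
theorem L71793 : N6874 = N6983 := eqe L71792 L43398
theorem L71794 : N6983 = N6874 := (eqc rfl L71793 rfl).symm
theorem L71795 : sm gd N4370 = N4288 := trf L71785 L42553 rfl
theorem L71796 : N4288 = N5639 := eqe L71795 L36197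
theorem L71797 : N5639 = N4288 := (eqc rfl L71796 rfl).symm
theorem L71801 : sm gg N4370 = N11367 := trf L71785 L67873 rfl
theorem L71802 : N11367 = N4378 := eqe L71801 L29955
theorem L71803 : N11367 = N4378 := eqc rfl L71802 rfl
theorem L71807 : sm gc N4378 = N11415 := trf L71803 L68170 rfl
theorem L71808 : N11415 = N6998 := eqe L71807 L43521
theorem L71809 : N11415 = N6998 := eqc rfl L71808 rfl
theorem L71810 : sm gd N4378 = N6846 := trf L71803 L67877 rfl
theorem L71811 : N6846 = N5643 := eqe L71810 L36221
theorem L71812 : N6846 = N5643 := eqc rfl L71811 rfl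
theorem L71813 : sm gf N4378 = N11304 := trf L71803 L67879 rfl
theorem L71814 : N11304 = N3061 := eqe L71813 L29951
theorem L71815 : N11304 = N3061 := eqc rfl L71814 rfl
theorem L71819 : sm gd N3061 = N6811 := trf L71815 L67469 rfl
theorem L71820 : N6811 = N3680 := eqe L71819 L26524
theorem L71821 : N6811 = N3680 := eqc rfl L71820 rfl
theorem L71822 : sm gg N3061 = N6810 := trf L71815 L67468 rfl
theorem L71823 : N6810 = N2373 := eqe L71822 L23270
theorem L71824 : N6810 = N2373 := eqc rfl L71823 rfl
theorem L71829 : sm gc N2373 = N11302 := trf L71824 L67457 rfl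
theorem L71830 : N11302 = N3059 := eqe L71829 L23265
theorem L71831 : N11302 = N3059 := eqc rfl L71830 rfl
theorem L71832 : sm gd N2373 = N4272 := trf L71824 L42337 rfl
theorem L71833 : N4272 = N2677 := eqe L71832 L21375
theorem L71834 : N4272 = N2677 := eqc rfl L71833 rfl
theorem L71846 : sm ga N2677 = N6809 := trf L71834 L42331 rfl
theorem L71847 : N6809 = N3678 := eqe L71846 L26511
theorem L71848 : N6809 = N3678 := eqc rfl L71847 rfl
theorem L71850 : sm gc N2677 = N3010 := trf L71834 L29477 rfl
theorem L71851 : N3010 = N3671 := eqe L71850 L26486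
theorem L71852 : N3671 = N3010 := (eqc rfl L71851 rfl).symm
theorem L71854 : sm gf N2677 = N3019 := trf L71834 L29480 rfl
theorem L71855 : N3019 = N3679 := eqe L71854 L26517
theorem L71856 : N3679 = N3019 := (eqc rfl L71855 rfl).symm
theorem L71859 : sm gb N3019 = N5430 := trf L71856 L35245 rfl
theorem L71860 : N5430 = N3925 := eqe L71859 L27720
theorem L71861 : N5430 = N3925 := eqc rfl L71860 rfl
theorem L71870 : sm gf N3019 = N2677 := trf L71856 L26518 rfl
theorem L71871 : sm gf N2677 = N3019 := flp_f L71870
theorem L71872 : sm gg N3019 = N5641 := trf L71856 L36204 rfl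
theorem L71873 : N5641 = N4291 := eqe L71872 L29580
theorem L71874 : N5641 = N4291 := eqc rfl L71873 rfl
theorem L71877 : sm gb N4291 = N6963 := trf L71874 L43288 rfl
theorem L71878 : N6963 = N6851 := eqe L71877 L42582
theorem L71879 : N6963 = N6851 := eqc rfl L71878 rfl
theorem L71888 : sm gf N4291 = N5640 := trf L71874 L36209 rfl
theorem L71889 : N5640 = N6852 := eqe L71888 L42586
theorem L71890 : N6852 = N5640 := (eqc rfl L71889 rfl).symm
theorem L71899 : sm ge N5640 = N6311 := trf L71890 L42592 rfl
theorem L71900 : N6311 = N6315 := eqe L71899 L39833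
theorem L71901 : N6315 = N6311 := (eqc rfl L71900 rfl).symm
theorem L71905 : sm ga N6311 = N4024 := trf L71901 L39830 rfl
theorem L71906 : N4024 = N6261 := eqe L71905 L39806
theorem L71907 : N6261 = N4024 := (eqc rfl L71906 rfl).symm
theorem L71919 : sm gg N6311 = N4021 := trf L71901 L39829 rfl
theorem L71920 : N4021 = N6147 := eqe L71919 L71673
theorem L71921 : N6147 = N4021 := (eqc rfl L71920 rfl).symm
theorem L71926 : sm gc N4021 = N3994 := trf L71921 L71654 rfl
theorem L71927 : N3994 = N6313 := eqe L71926 L39816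
theorem L71928 : N6313 = N3994 := (eqc rfl L71927 rfl).symm
theorem L71940 : sm gb N3994 = N4306 := trf L71928 L43482 rfl
theorem L71941 : N4306 = N6258 := eqe L71940 L39516
theorem L71942 : N6258 = N4306 := (eqc rfl L71941 rfl).symm
theorem L71943 : sm gc N3994 = N4021 := trf L71928 L39817 rfl
theorem L71944 : sm gc N4021 = N3994 := flp_c L71943
theorem L71948 : sm ge N3994 = N5622 := trf L71928 L39820 rfl
theorem L71949 : N5622 = N4271 := eqe L71948 L29473
theorem L71950 : N5622 = N4271 := eqc rfl L71949 rfl
theorem L71962 : sm gf N4271 = N9359 := trf L71950 L56610 rfl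
theorem L71963 : N9359 = N3018 := eqe L71962 L29474
theorem L71964 : N9359 = N3018 := eqc rfl L71963 rfl
theorem L71970 : sm gg N3018 = N9368 := trf L71964 L56657 rfl
theorem L71971 : N9368 = N4289 := eqe L71970 L29568
theorem L71972 : N9368 = N4289 := eqc rfl L71971 rfl
theorem L71979 : sm gf N4289 = N5625 := trf L71972 L56651 rfl
theorem L71980 : N5625 = N4273 := eqe L71979 L29576
theorem L71981 : N5625 = N4273 := eqc rfl L71980 rfl
theorem L71991 : sm ge N4273 = N6318 := trf L71981 L39849 rfl
theorem L71992 : N6318 = N3996 := eqe L71991 L29486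
theorem L71993 : N6318 = N3996 := eqc rfl L71992 rfl
theorem L72001 : sm gd N3996 = N10497 := trf L71993 L62777 rfl
theorem L72002 : N10497 = N2860 := eqe L72001 L28039
theorem L72003 : N10497 = N2860 := eqc rfl L72002 rfl
theorem L72006 : sm gg N2860 = N6316 := trf L72003 L62775 rfl
theorem L72007 : N6316 = N2274 := eqe L72006 L22192
theorem L72008 : N6316 = N2274 := eqc rfl L72007 rfl
theorem L72020 : sm gf N2274 = N10496 := trf L72008 L62770 rfl
theorem L72021 : N10496 = N1532 := eqe L72020 L19314
theorem L72022 : N10496 = N1532 := eqc rfl L72021 rfl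
theorem L72023 : sm gd N1532 = N6317 := trf L72022 L62772 rfl
theorem L72024 : N6317 = N2279 := eqe L72023 L19355
theorem L72025 : N6317 = N2279 := eqc rfl L72024 rfl
theorem L72027 : sm gb N2279 = N10498 := trf L72025 L62778 rfl
theorem L72028 : N10498 = N1530 := eqe L72027 L19353
theorem L72029 : N10498 = N1530 := eqc rfl L72028 rfl
theorem L72044 : sm gf N1530 = N7829 := trf L72029 L62782 rfl
theorem L72045 : N7829 = N778 := eqe L72044 L7747
theorem L72046 : N7829 = N778 := eqc rfl L72045 rfl
theorem L72055 : sm gg N778 = N8975 := trf L72046 L54710 rfl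
theorem L72056 : N8975 = N1453 := eqe L72055 L17670
theorem L72057 : N8975 = N1453 := eqc rfl L72056 rfl
theorem L72059 : sm gb N1453 = N5425 := trf L72057 L54698 rfl
theorem L72060 : N5425 = N2249 := eqe L72059 L19191
theorem L72061 : N5425 = N2249 := eqc rfl L72060 rfl
theorem L72074 : sm gf N2249 = N3578 := trf L72061 L35219 rfl
theorem L72075 : N3578 = N2814 := eqe L72074 L21959
theorem L72076 : N3578 = N2814 := eqc rfl L72075 rfl
theorem L72077 : sm gg N2249 = N8976 := trf L72061 L54701 rfl
theorem L72078 : N8976 = N2815 := eqe L72077 L21963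
theorem L72079 : N8976 = N2815 := eqc rfl L72078 rfl
theorem L72092 : sm gf N2815 = N8966 := trf L72079 L54706 rfl
theorem L72093 : N8966 = N3918 := eqe L72092 L27677
theorem L72094 : N8966 = N3918 := eqc rfl L72093 rfl
theorem L72101 : sm gg N3918 = N5420 := trf L72094 L54658 rfl
theorem L72102 : N5420 = N3910 := eqe L72101 L27683
theorem L72103 : N5420 = N3910 := eqc rfl L72102 rfl
theorem L72114 : sm ge N3910 = N7557 := trf L72103 L46658 rfl
theorem L72115 : N7557 = N4007 := eqe L72114 L28098
theorem L72116 : N7557 = N4007 := eqc rfl L72115 rfl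
theorem L72127 : sm gf N4007 = N10322 := trf L72116 L61735 rfl
theorem L72128 : N10322 = N2863 := eqe L72127 L28092
theorem L72129 : N10322 = N2863 := eqc rfl L72128 rfl
theorem L72137 : sm gd N2863 = N11780 := trf L72129 L70139 rfl
theorem L72138 : N11780 = N2341 := eqe L72137 L22207
theorem L72139 : N11780 = N2341 := eqc rfl L72138 rfl
theorem L72141 : sm gb N2341 = N7121 := trf L72139 L70137 rfl
theorem L72142 : N7121 = N2582 := eqe L72141 L24214
theorem L72143 : N7121 = N2582 := eqc rfl L72142 rfl
theorem L72157 : sm gg N2582 = N7126 := trf L72143 L44265 rfl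
theorem L72158 : N7126 = N3478 := eqe L72157 L25609
theorem L72159 : N7126 = N3478 := eqc rfl L72158 rfl
theorem L72175 : sm gf N3478 = N4446 := trf L72159 L44259 rfl
theorem L72176 : N4446 = N3489 := eqe L72175 L25669
theorem L72177 : N4446 = N3489 := eqc rfl L72176 rfl
theorem L72187 : sm gd N3489 = N3969 := trf L72177 L30294 rfl
theorem L72188 : N3969 = N5225 := eqe L72187 L34301
theorem L72189 : N5225 = N3969 := (eqc rfl L72188 rfl).symm
theorem L72193 : sm gg N3489 = N3094 := trf L72177 L30293 rfl
theorem L72194 : N3094 = N2587 := eqe L72193 L25666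
theorem L72195 : N3094 = N2587 := eqc rfl L72194 rfl
theorem L72197 : sm gb N2587 = N2389 := trf L72195 L23428 rfl
theorem L72198 : N2389 = N3488 := eqe L72197 L25661
theorem L72199 : N3488 = N2389 := (eqc rfl L72198 rfl).symm
theorem L72203 : sm gd N2587 = N2841 := trf L72195 L23429 rfl
theorem L72204 : N2841 = N3486 := eqe L72203 L25652
theorem L72205 : N3486 = N2841 := (eqc rfl L72204 rfl).symm
theorem L72206 : sm ge N2587 = N4444 := trf L72195 L30284 rfl
theorem L72207 : N4444 = N3171 := eqe L72206 L23866
theorem L72208 : N4444 = N3171 := eqc rfl L72207 rfl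
theorem L72222 : sm gf N3171 = N7123 := trf L72208 L44244 rfl
theorem L72223 : N7123 = N2428 := eqe L72222 L23862
theorem L72224 : N7123 = N2428 := eqc rfl L72223 rfl
theorem L72230 : sm gc N2428 = N11612 := trf L72224 L69170 rfl
theorem L72231 : N11612 = N2020 := eqe L72230 L20149
theorem L72232 : N11612 = N2020 := eqc rfl L72231 rfl
theorem L72246 : sm ge N2020 = N7025 := trf L72232 L69171 rfl
theorem L72247 : N7025 = N1178 := eqe L72246 L10305
theorem L72248 : N7025 = N1178 := eqc rfl L72247 rfl
theorem L72259 : sm gg N1178 = N11614 := trf L72248 L69179 rfl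
theorem L72260 : N11614 = N2141 := eqe L72259 L18711
theorem L72261 : N11614 = N2141 := eqc rfl L72260 rfl
theorem L72267 : sm gf N2141 = N11610 := trf L72261 L69186 rfl
theorem L72268 : N11610 = N2596 := eqe L72267 L21004
theorem L72269 : N11610 = N2596 := eqc rfl L72268 rfl
theorem L72275 : sm gg N2596 = N7023 := trf L72269 L69154 rfl
theorem L72276 : N7023 = N2584 := eqe L72275 L21008
theorem L72277 : N7023 = N2584 := eqc rfl L72276 rfl
theorem L72283 : sm gd N2584 = N5531 := trf L72277 L43666 rfl
theorem L72284 : N5531 = N3481 := eqe L72283 L25630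
theorem L72285 : N5531 = N3481 := eqc rfl L72284 rfl
theorem L72292 : sm ga N3481 = N3629 := trf L72285 L35741 rfl
theorem L72293 : N3629 = N2591 := eqe L72292 L25627
theorem L72294 : N3629 = N2591 := eqc rfl L72293 rfl
theorem L72298 : sm gc N3481 = N9152 := trf L72285 L55634 rfl
theorem L72299 : N9152 = N5210 := eqe L72298 L34231
theorem L72300 : N9152 = N5210 := eqc rfl L72299 rfl
theorem L72304 : sm gf N3481 = N9170 := trf L72285 L55722 rfl
theorem L72305 : N9170 = N2583 := eqe L72304 L25626
theorem L72306 : N9170 = N2583 := eqc rfl L72305 rfl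
theorem L72310 : sm gg N2583 = N9174 := trf L72306 L55743 rfl
theorem L72311 : N9174 = N3482 := eqe L72310 L25631
theorem L72312 : N9174 = N3482 := eqc rfl L72311 rfl
theorem L72315 : sm gf N3482 = N5533 := trf L72312 L55739 rfl
theorem L72316 : N5533 = N3499 := eqe L72315 L25719
theorem L72317 : N5533 = N3499 := eqc rfl L72316 rfl
theorem L72326 : sm ge N3499 = N9052 := trf L72317 L55118 rfl
theorem L72327 : N9052 = N5246 := eqe L72326 L34413
theorem L72328 : N9052 = N5246 := eqc rfl L72327 rfl
theorem L72330 : sm gg N5246 = N5479 := trf L72328 L55116 rfl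
theorem L72331 : N5479 = N3496 := eqe L72330 L34411
theorem L72332 : N5479 = N3496 := eqc rfl L72331 rfl
theorem L72334 : sm gb N3496 = N3606 := trf L72332 L35473 rfl
theorem L72335 : N3606 = N5245 := eqe L72334 L34404
theorem L72336 : N5245 = N3606 := (eqc rfl L72335 rfl).symm
theorem L72337 : sm gc N3496 = N9042 := trf L72332 L55068 rfl
theorem L72338 : N9042 = N5239 := eqe L72337 L34373
theorem L72339 : N9042 = N5239 := eqc rfl L72338 rfl
theorem L72340 : sm gd N3496 = N9050 := trf L72332 L55107 rfl
theorem L72341 : N9050 = N4588 := eqe L72340 L31095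
theorem L72342 : N9050 = N4588 := eqc rfl L72341 rfl
theorem L72348 : sm gb N4588 = N5480 := trf L72342 L55109 rfl
theorem L72349 : N5480 = N7405 := eqe L72348 L45843
theorem L72350 : N7405 = N5480 := (eqc rfl L72349 rfl).symm
theorem L72351 : sm ge N4588 = N11611 := trf L72342 L69166 rfl
theorem L72352 : N11611 = N3175 := eqe L72351 L31096
theorem L72353 : N11611 = N3175 := eqc rfl L72352 rfl
theorem L72354 : sm gb N3175 = N7027 := trf L72353 L69163 rfl
theorem L72355 : N7027 = N4590 := eqe L72354 L31104
theorem L72356 : N7027 = N4590 := eqc rfl L72355 rfl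
theorem L72364 : sm gd N4590 = N4390 := trf L72356 L43687 rfl
theorem L72365 : N4390 = N3177 := eqe L72364 L31106
theorem L72366 : N4390 = N3177 := eqc rfl L72365 rfl
theorem L72372 : sm gg N4590 = N11618 := trf L72356 L69209 rfl
theorem L72373 : N11618 = N7411 := eqe L72372 L45893
theorem L72374 : N11618 = N7411 := eqc rfl L72373 rfl
theorem L72375 : sm ga N7411 = N9063 := trf L72374 L69211 rfl
theorem L72376 : N9063 = N7442 := eqe L72375 L46064
theorem L72377 : N9063 = N7442 := eqc rfl L72376 rfl
theorem L72378 : sm gd N7411 = N7028 := trf L72374 L69213 rfl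
theorem L72379 : N7028 = N4596 := eqe L72378 L45895
theorem L72380 : N7028 = N4596 := eqc rfl L72379 rfl
theorem L72389 : sm gc N4596 = N4392 := trf L72380 L43696 rfl
theorem L72390 : N4392 = N7418 := eqe L72389 L45930
theorem L72391 : N7418 = N4392 := (eqc rfl L72390 rfl).symm
theorem L72392 : sm ge N4596 = N4391 := trf L72380 L43698 rfl
theorem L72393 : N4391 = N3504 := eqe L72392 L31154
theorem L72394 : N4391 = N3504 := eqc rfl L72393 rfl
theorem L72395 : sm gf N4596 = N8910 := trf L72380 L54395 rfl
theorem L72396 : N8910 = N4612 := eqe L72395 L31233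
theorem L72397 : N8910 = N4612 := eqc rfl L72396 rfl
theorem L72402 : sm gc N4612 = N7031 := trf L72397 L54391 rfl
theorem L72403 : N7031 = N7454 := eqe L72402 L46142
theorem L72404 : N7454 = N7031 := (eqc rfl L72403 rfl).symm
theorem L72408 : sm gg N4612 = N5390 := trf L72397 L54390 rfl
theorem L72409 : N5390 = N3185 := eqe L72408 L31227
theorem L72410 : N5390 = N3185 := eqc rfl L72409 rfl
theorem L72417 : sm gc N3185 = N6942 := trf L72410 L43192 rfl
theorem L72418 : N6942 = N4611 := eqe L72417 L31216
theorem L72419 : N6942 = N4611 := eqc rfl L72418 rfl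
theorem L72420 : sm gd N3185 = N8867 := trf L72410 L54174 rfl
theorem L72421 : N8867 = N4604 := eqe L72420 L31195
theorem L72422 : N8867 = N4604 := eqc rfl L72421 rfl
theorem L72423 : sm ge N3185 = N3563 := trf L72410 L35059 rfl
theorem L72424 : N3563 = N2605 := eqe L72423 L23945
theorem L72425 : N3563 = N2605 := eqc rfl L72424 rfl
theorem L72426 : sm gf N3185 = N3632 := trf L72410 L35060 rfl
theorem L72427 : N3632 = N4594 := eqe L72426 L31139
theorem L72428 : N4594 = N3632 := (eqc rfl L72427 rfl).symm
theorem L72431 : sm gb N3632 = N4338 := trf L72428 L31143 rfl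
theorem L72432 : N4338 = N5076 := eqe L72431 L33637
theorem L72433 : N5076 = N4338 := (eqc rfl L72432 rfl).symm
theorem L72434 : sm gc N3632 = N4341 := trf L72428 L31140 rfl
theorem L72435 : N4341 = N4383 := eqe L72434 L29971
theorem L72436 : N4383 = N4341 := (eqc rfl L72435 rfl).symm
theorem L72438 : sm ge N3632 = N3502 := trf L72428 L31136 rfl
theorem L72439 : N3502 = N2656 := eqe L72438 L26308
theorem L72440 : N3502 = N2656 := eqc rfl L72439 rfl
theorem L72441 : sm gf N3632 = N3185 := trf L72428 L31138 rfl
theorem L72442 : sm gf N3185 = N3632 := flp_f L72441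
theorem L72445 : sm ga N2656 = N2593 := trf L72440 L25736 rfl
theorem L72446 : N2593 = N3066 := eqe L72445 L23292
theorem L72447 : N3066 = N2593 := (eqc rfl L72446 rfl).symm
theorem L72448 : sm gb N2656 = N5257 := trf L72440 L34466 rfl
theorem L72449 : N5257 = N3419 := eqe L72448 L25360
theorem L72450 : N5257 = N3419 := eqc rfl L72449 rfl
theorem L72451 : sm gc N2656 = N5258 := trf L72440 L34478 rfl
theorem L72452 : N5258 = N3063 := eqe L72451 L23278
theorem L72453 : N5258 = N3063 := eqc rfl L72452 rfl
theorem L72459 : sm gg N2656 = N3530 := trf L72440 L25852 rfl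
theorem L72460 : N3530 = N3633 := eqe L72459 L26309
theorem L72461 : N3633 = N3530 := (eqc rfl L72460 rfl).symm
theorem L72473 : sm gf N3530 = N5540 := trf L72461 L35768 rfl
theorem L72474 : N5540 = N2607 := eqe L72473 L25848
theorem L72475 : N5540 = N2607 := eqc rfl L72474 rfl
theorem L72482 : sm gc N2607 = N4345 := trf L72475 L35772 rfl
theorem L72483 : N4345 = N3529 := eqe L72482 L25846
theorem L72484 : N4345 = N3529 := eqc rfl L72483 rfl
theorem L72489 : sm gg N2607 = N4343 := trf L72475 L35776 rfl
theorem L72490 : N4343 = N2146 := eqe L72489 L21063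
theorem L72491 : N4343 = N2146 := eqc rfl L72490 rfl
theorem L72496 : sm gc N2146 = N3047 := trf L72491 L29807 rfl
theorem L72497 : N3047 = N2606 := eqe L72496 L21058
theorem L72498 : N3047 = N2606 := eqc rfl L72497 rfl
theorem L72499 : sm gd N2146 = N3562 := trf L72491 L29812 rfl
theorem L72500 : N3562 = N2603 := eqe L72499 L21051
theorem L72501 : N3562 = N2603 := eqc rfl L72500 rfl
theorem L72513 : sm ge N2603 = N5370 := trf L72501 L34965 rfl
theorem L72514 : N5370 = N3517 := eqe L72513 L25802
theorem L72515 : N5370 = N3517 := eqc rfl L72514 rfl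
theorem L72516 : sm gf N2603 = N2654 := trf L72501 L26001 rfl
theorem L72517 : N2654 = N3498 := eqe L72516 L25714
theorem L72518 : N3498 = N2654 := (eqc rfl L72517 rfl).symm
theorem L72531 : sm gg N2654 = N5251 := trf L72518 L34440 rfl
theorem L72532 : N5251 = N3630 := eqe L72531 L26295
theorem L72533 : N5251 = N3630 := eqc rfl L72532 rfl
theorem L72546 : sm gf N3630 = N5295 := trf L72533 L34649 rfl
theorem L72547 : N5295 = N3564 := eqe L72546 L26301
theorem L72548 : N5295 = N3564 := eqc rfl L72547 rfl
theorem L72559 : sm ge N3564 = N8699 := trf L72548 L53330 rfl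
theorem L72560 : N8699 = N5372 := eqe L72559 L34977
theorem L72561 : N8699 = N5372 := eqc rfl L72560 rfl
theorem L72567 : sm gg N5372 = N5287 := trf L72561 L53326 rfl
theorem L72568 : N5287 = N3554 := eqe L72567 L34973
theorem L72569 : N5287 = N3554 := eqc rfl L72568 rfl
theorem L72575 : sm gc N3554 = N8698 := trf L72569 L53319 rfl
theorem L72576 : N8698 = N2621 := eqe L72575 L25960
theorem L72577 : N8698 = N2621 := eqc rfl L72576 rfl
theorem L72578 : sm gd N3554 = N7431 := trf L72569 L46010 rfl
theorem L72579 : N7431 = N5371 := eqe L72578 L34968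
theorem L72580 : N7431 = N5371 := eqc rfl L72579 rfl
theorem L72594 : sm ga N5371 = N4602 := trf L72580 L46008 rfl
theorem L72595 : N4602 = N8865 := eqe L72594 L54162
theorem L72596 : N8865 = N4602 := (eqc rfl L72595 rfl).symm
theorem L72599 : sm ga N4602 = N5371 := trf L72596 L54161 rfl
theorem L72600 : sm ga N5371 = N4602 := flp_a L72599
theorem L72605 : sm gg N4602 = N9065 := trf L72596 L55184 rfl
theorem L72606 : N9065 = N7433 := eqe L72605 L46017
theorem L72607 : N9065 = N7433 := eqc rfl L72606 rfl
theorem L72611 : sm gf N7433 = N5485 := trf L72607 L55178 rfl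
theorem L72612 : sm gf N5485 = N7433 := flp_f L72611
theorem L72613 : sm ga N2621 = N5288 := trf L72577 L53321 rfl
theorem L72614 : N5288 = N3553 := eqe L72613 L25953
theorem L72615 : N5288 = N3553 := eqc rfl L72614 rfl
theorem L72616 : sm ge N2621 = N5294 := trf L72577 L53323 rfl
theorem L72617 : N5294 = N2154 := eqe L72616 L21128
theorem L72618 : N5294 = N2154 := eqc rfl L72617 rfl
theorem L72627 : sm gf N2154 = N8642 := trf L72618 L53032 rfl
theorem L72628 : N8642 = N1192 := eqe L72627 L18769
theorem L72629 : N8642 = N1192 := eqc rfl L72628 rfl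
theorem L72633 : sm gg N1192 = N8720 := trf L72629 L53440 rfl
theorem L72634 : N8720 = N2171 := eqe L72633 L18847
theorem L72635 : N8720 = N2171 := eqc rfl L72634 rfl
theorem L72638 : sm gf N2171 = N5297 := trf L72635 L53434 rfl
theorem L72639 : N5297 = N2659 := eqe L72638 L21294
theorem L72640 : N5297 = N2659 := eqc rfl L72639 rfl
theorem L72647 : sm gd N2659 = N8718 := trf L72640 L53430 rfl
theorem L72648 : N8718 = N2182 := eqe L72647 L21298
theorem L72649 : N8718 = N2182 := eqc rfl L72648 rfl
theorem L72657 : sm gg N2182 = N5296 := trf L72649 L53428 rfl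
theorem L72658 : N5296 = N2158 := eqe L72657 L18897
theorem L72659 : N5296 = N2158 := eqc rfl L72658 rfl
theorem L72664 : sm gc N2158 = N8716 := trf L72659 L53423 rfl
theorem L72665 : N8716 = N2634 := eqe L72664 L21190
theorem L72666 : N8716 = N2634 := eqc rfl L72665 rfl
theorem L72678 : sm gd N2634 = N8742 := trf L72666 L53555 rfl
theorem L72679 : N8742 = N2366 := eqe L72678 L21197
theorem L72680 : N8742 = N2366 := eqc rfl L72679 rfl
theorem L72684 : sm gc N2366 = N5310 := trf L72680 L53552 rfl
theorem L72685 : N5310 = N3046 := eqe L72684 L23219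
theorem L72686 : N5310 = N3046 := eqc rfl L72685 rfl
theorem L72687 : sm ga N3046 = N3528 := trf L72686 L34718 rfl
theorem L72688 : N3528 = N2367 := eqe L72687 L23221
theorem L72689 : N3528 = N2367 := eqc rfl L72688 rfl
theorem L72693 : sm gd N3046 = N3526 := trf L72686 L34717 rfl
theorem L72694 : N3526 = N4342 := eqe L72693 L29798
theorem L72695 : N4342 = N3526 := (eqc rfl L72694 rfl).symm
theorem L72702 : sm gg N3046 = N8744 := trf L72686 L53561 rfl
theorem L72703 : N8744 = N3070 := eqe L72702 L23314
theorem L72704 : N8744 = N3070 := eqc rfl L72703 rfl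
theorem L72711 : sm gf N3070 = N8660 := trf L72704 L53567 rfl
theorem L72712 : N8660 = N2377 := eqe L72711 L23308
theorem L72713 : N8660 = N2377 := eqc rfl L72712 rfl
theorem L72720 : sm gg N2377 = N5259 := trf L72713 L53124 rfl
theorem L72721 : N5259 = N1859 := eqe L72720 L19845
theorem L72722 : N5259 = N1859 := eqc rfl L72721 rfl
theorem L72733 : sm ge N1859 = N8659 := trf L72722 L53119 rfl
theorem L72734 : N8659 = N2356 := eqe L72733 L19773
theorem L72735 : N8659 = N2356 := eqc rfl L72734 rfl
theorem L72737 : sm gf N2356 = N5314 := trf L72735 L53121 rfl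
theorem L72738 : N5314 = N3014 := eqe L72737 L23076
theorem L72739 : N5314 = N3014 := eqc rfl L72738 rfl
theorem L72741 : sm gb N3014 = N3829 := trf L72739 L34734 rfl
theorem L72742 : N3829 = N4117 := eqe L72741 L28735
theorem L72743 : N4117 = N3829 := (eqc rfl L72742 rfl).symm
theorem L72747 : sm gd N3014 = N7457 := trf L72739 L46160 rfl
theorem L72748 : N7457 = N4278 := eqe L72747 L29512
theorem L72749 : N7457 = N4278 := eqc rfl L72748 rfl
theorem L72755 : sm gb N4278 = N4901 := trf L72749 L46157 rfl
theorem L72756 : N4901 = N6490 := eqe L72755 L40771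
theorem L72757 : N6490 = N4901 := (eqc rfl L72756 rfl).symm
theorem L72758 : sm ge N4278 = N4613 := trf L72749 L46156 rfl
theorem L72759 : N4613 = N6822 := eqe L72758 L42412
theorem L72760 : N6822 = N4613 := (eqc rfl L72759 rfl).symm
theorem L72767 : sm gc N4613 = N11325 := trf L72760 L67618 rfl
theorem L72768 : N11325 = N7456 := eqe L72767 L46153
theorem L72769 : N11325 = N7456 := eqc rfl L72768 rfl
theorem L72770 : sm gd N4613 = N4344 := trf L72760 L42416 rfl
theorem L72771 : N4344 = N3186 := eqe L72770 L31235
theorem L72772 : N4344 = N3186 := eqc rfl L72771 rfl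
theorem L72773 : sm ge N4613 = N4278 := trf L72760 L42413 rfl
theorem L72774 : sm ge N4278 = N4613 := flp_e L72773
theorem L72778 : sm gg N4613 = N11327 := trf L72760 L67625 rfl
theorem L72779 : N11327 = N7458 := eqe L72778 L46161
theorem L72780 : N11327 = N7458 := eqc rfl L72779 rfl
theorem L72788 : sm gf N7458 = N11406 := trf L72780 L68114 rfl
theorem L72789 : N11406 = N11478 := eqe L72788 L68516
theorem L72790 : N11478 = N11406 := (eqc rfl L72789 rfl).symm
theorem L72791 : sm gb N11406 = N11634 := trf L72790 L69288 rfl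
theorem L72792 : sm gb N11634 = N11406 := flp_b L72791
theorem L72793 : sm gd N11406 = N6941 := trf L72790 L68513 rfl
theorem L72794 : N6941 = N7013 := eqe L72793 L68109
theorem L72795 : N7013 = N6941 := (eqc rfl L72794 rfl).symm
theorem L72798 : sm gg N11406 = N6940 := trf L72790 L68512 rfl
theorem L72799 : N6940 = N6868 := eqe L72798 L68106
theorem L72800 : N6940 = N6868 := eqc rfl L72799 rfl
theorem L72805 : sm gc N6868 = N11476 := trf L72800 L68503 rfl
theorem L72806 : N11476 = N11404 := eqe L72805 L68094
theorem L72807 : N11476 = N11404 := eqc rfl L72806 rfl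
theorem L72810 : sm ge N6868 = N11477 := trf L72800 L68507 rfl
theorem L72811 : N11477 = N4298 := eqe L72810 L42679
theorem L72812 : N11477 = N4298 := eqc rfl L72811 rfl
theorem L72815 : sm gb N4298 = N4611 := trf L72812 L68509 L72419
theorem L72816 : N4611 = N6865 := eqe L72815 L42667
theorem L72817 : N6865 = N4611 := (eqc rfl L72816 rfl).symm
theorem L72821 : sm gb N4611 = N4298 := trf L72817 L42666 rfl
theorem L72822 : N4298 = N4381 := eqe L72821 L31225
theorem L72823 : N4381 = N4298 := (eqc rfl L72822 rfl).symm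
theorem L72832 : sm gg N4611 = N11400 := trf L72817 L68067 rfl
theorem L72833 : N11400 = N7454 := eqe L72832 L46137
theorem L72834 : N11400 = N7031 := eqc rfl L72833 L72404
theorem L72835 : sm gd N7031 = N6866 := trf L72834 L68069 rfl
theorem L72836 : N6866 = N11420 := eqe L72835 L68196
theorem L72837 : N11420 = N6866 := (eqc rfl L72836 rfl).symm
theorem L72843 : sm ge N6866 = N6878 := trf L72837 L68197 rfl
theorem L72844 : N6878 = N4382 := eqe L72843 L42670
theorem L72845 : N6878 = N4382 := eqc rfl L72844 rfl
theorem L72846 : sm gf N6866 = N6877 := trf L72837 L68192 rfl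
theorem L72847 : N6877 = N11402 := eqe L72846 L68077
theorem L72848 : N11402 = N6877 := (eqc rfl L72847 rfl).symm
theorem L72851 : sm ga N6877 = N8741 := trf L72848 L68079 rfl
theorem L72852 : N8741 = N11406 := eqe L72851 L68108
theorem L72853 : N11406 = N8741 := (eqc rfl L72852 rfl).symm
theorem L72859 : sm gg N6877 = N8739 := trf L72848 L68083 rfl
theorem L72860 : N8739 = N4302 := eqe L72859 L42727
theorem L72861 : N8739 = N4302 := eqc rfl L72860 rfl
theorem L72862 : sm ga N4302 = N5309 := trf L72861 L53534 rfl
theorem L72863 : N5309 = N6868 := eqe L72862 L42681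
theorem L72864 : N6868 = N5309 := (eqc rfl L72863 rfl).symm
theorem L72868 : sm gc N4302 = N7339 := trf L72861 L53535 rfl
theorem L72869 : N7339 = N6875 := eqe L72868 L42721
theorem L72870 : N7339 = N6875 := eqc rfl L72869 rfl
theorem L72871 : sm ge N4302 = N7004 := trf L72861 L53537 rfl
theorem L72872 : N7004 = N3024 := eqe L72871 L29639
theorem L72873 : N7004 = N3024 := eqc rfl L72872 rfl
theorem L72874 : sm gf N4302 = N6864 := trf L72861 L53539 rfl
theorem L72875 : sm gf N6864 = N4302 := flp_f L72874
theorem L72880 : sm gc N3024 = N5107 := trf L72873 L43562 rfl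
theorem L72881 : N5107 = N4301 := eqe L72880 L29636
theorem L72882 : N5107 = N4301 := eqc rfl L72881 rfl
theorem L72886 : sm gf N3024 = N4379 := trf L72873 L43559 rfl
theorem L72887 : N4379 = N4278 := eqe L72886 L29515
theorem L72888 : N4379 = N4278 := eqc rfl L72887 rfl
theorem L72890 : sm ga N4278 = N3062 := trf L72888 L29957 rfl
theorem L72891 : N3062 = N6820 := eqe L72890 L42405
theorem L72892 : N6820 = N3062 := (eqc rfl L72891 rfl).symm
theorem L72893 : sm gb N4278 = N3429 := trf L72888 L43441 rfl
theorem L72894 : N3429 = N6490 := eqe L72893 L40771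
theorem L72895 : N4901 = N3429 := (eqc rfl L72894 L72757).symm
theorem L72896 : sm gc N4278 = N3432 := trf L72888 L43443 rfl
theorem L72897 : N3432 = N6821 := eqe L72896 L42408
theorem L72898 : N6821 = N3432 := (eqc rfl L72897 rfl).symm
theorem L72902 : sm ge N4278 = N6864 := trf L72888 L42663 rfl
theorem L72903 : N6864 = N4613 := eqe L72902 L72774
theorem L72904 : N6864 = N4613 := eqc rfl L72903 rfl
theorem L72905 : sm gg N4278 = N7005 := trf L72888 L43564 rfl
theorem L72906 : N7005 = N6823 := eqe L72905 L42418
theorem L72907 : N7005 = N6823 := eqc rfl L72906 rfl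
theorem L72920 : sm gf N6823 = N7010 := trf L72907 L43588 rfl
theorem L72921 : N7010 = N6869 := eqe L72920 L42691
theorem L72922 : N7010 = N6869 := eqc rfl L72921 rfl
theorem L72927 : sm gc N6869 = N8398 := trf L72922 L51822 rfl
theorem L72928 : N8398 = N11405 := eqe L72927 L68100
theorem L72929 : N11405 = N8398 := (eqc rfl L72928 rfl).symm
theorem L72930 : sm gd N6869 = N11582 := trf L72922 L69016 rfl
theorem L72931 : N11582 = N4299 := eqe L72930 L42688
theorem L72932 : N11582 = N4299 := eqc rfl L72931 rfl
theorem L72940 : sm gg N4299 = N7008 := trf L72932 L69014 rfl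
theorem L72941 : N7008 = N3022 := eqe L72940 L29623
theorem L72942 : N7008 = N3022 := eqc rfl L72941 rfl
theorem L72952 : sm gf N3022 = N4380 := trf L72942 L43579 rfl
theorem L72953 : N4380 = N4277 := eqe L72952 L29511
theorem L72954 : N4380 = N4277 := eqc rfl L72953 rfl
theorem L72963 : sm ge N4277 = N7007 := trf L72954 L43574 rfl
theorem L72964 : N7007 = N3046 := eqe L72963 L29508
theorem L72965 : N7007 = N3046 := eqc rfl L72964 rfl
theorem L72966 : sm gg N4277 = N7009 := trf L72954 L43582 rfl
theorem L72967 : N7009 = N4304 := eqe L72966 L29657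
theorem L72968 : N7009 = N4304 := eqc rfl L72967 rfl
theorem L72970 : sm gb N4304 = N11583 := trf L72968 L69019 rfl
theorem L72971 : N11583 = N6879 := eqe L72970 L42740
theorem L72972 : N11583 = N6879 := eqc rfl L72971 rfl
theorem L72984 : sm gd N6879 = N7011 := trf L72972 L69021 rfl
theorem L72985 : N7011 = N11421 := eqe L72984 L68204
theorem L72986 : N11421 = N7011 := (eqc rfl L72985 rfl).symm
theorem L73000 : sm gd N7011 = N6879 := trf L72986 L68203 rfl
theorem L73001 : sm gd N6879 = N7011 := flp_d L73000
theorem L73013 : sm gc N3046 = N11577 := trf L72965 L68996 rfl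
theorem L73014 : N11577 = N2366 := eqe L73013 L23220
theorem L73015 : N11577 = N2366 := eqc rfl L73014 rfl
theorem L73019 : sm gb N2366 = N8340 := trf L73015 L68993 rfl
theorem L73020 : N8340 = N3045 := eqe L73019 L23217
theorem L73021 : N8340 = N3045 := eqc rfl L73020 rfl
theorem L73023 : sm ga N3045 = N8417 := trf L73021 L51920 rfl
theorem L73024 : N8417 = N4337 := eqe L73023 L29786
theorem L73025 : N8417 = N4337 := eqc rfl L73024 rfl
theorem L73027 : sm ge N3045 = N5075 := trf L73021 L51548 rfl
theorem L73028 : N5075 = N4276 := eqe L73027 L29503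
theorem L73029 : N5075 = N4276 := eqc rfl L73028 rfl
theorem L73042 : sm gg N4276 = N8341 := trf L73029 L51551 rfl
theorem L73043 : N8341 = N5899 := eqe L73042 L39115
theorem L73044 : N8341 = N5899 := eqc rfl L73043 rfl
theorem L73045 : sm ga N5899 = N8418 := trf L73044 L51926 rfl
theorem L73046 : N8418 = N3806 := eqe L73045 L37419
theorem L73047 : N8418 = N3806 := eqc rfl L73046 rfl
theorem L73051 : sm gd N5899 = N8401 := trf L73044 L51842 rfl
theorem L73052 : N8401 = N9822 := eqe L73051 L58841
theorem L73053 : N9822 = N8401 := (eqc rfl L73052 rfl).symm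
theorem L73054 : sm ga N8401 = N5887 := trf L73053 L58839 rfl
theorem L73055 : N5887 = N5119 := eqe L73054 L51837
theorem L73056 : N5887 = N5119 := eqc rfl L73055 rfl
theorem L73065 : sm gb N5119 = N3800 := trf L73056 L37371 rfl
theorem L73066 : N3800 = N8421 := eqe L73065 L51939
theorem L73067 : N8421 = N3800 := (eqc rfl L73066 rfl).symm
theorem L73079 : sm gg N5119 = N9820 := trf L73056 L58821 rfl
theorem L73080 : N9820 = N3436 := eqe L73079 L33819
theorem L73081 : N9820 = N3436 := eqc rfl L73080 rfl
theorem L73090 : sm gf N3436 = N8248 := trf L73081 L58825 rfl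
theorem L73091 : N8248 = N5029 := eqe L73090 L33429
theorem L73092 : N8248 = N5029 := eqc rfl L73091 rfl
theorem L73099 : sm gd N5029 = N5024 := trf L73092 L51090 rfl
theorem L73100 : N5024 = N8256 := eqe L73099 L51141
theorem L73101 : N8256 = N5024 := (eqc rfl L73100 rfl).symm
theorem L73103 : sm gc N5024 = N8215 := trf L73101 L51148 rfl
theorem L73104 : N8215 = N3397 := eqe L73103 L33411
theorem L73105 : N8215 = N3397 := eqc rfl L73104 rfl
theorem L73106 : sm gd N5024 = N5029 := trf L73101 L51142 rfl
theorem L73107 : sm gd N5029 = N5024 := flp_d L73106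
theorem L73113 : sm gd N3397 = N5008 := trf L73105 L50930 rfl
theorem L73114 : N5008 = N5007 := eqe L73113 L33339
theorem L73115 : N5008 = N5007 := eqc rfl L73114 rfl
theorem L73119 : sm gg N3397 = N8344 := trf L73105 L51572 rfl
theorem L73120 : N8344 = N5026 := eqe L73119 L33416
theorem L73121 : N8344 = N5026 := eqc rfl L73120 rfl
theorem L73125 : sm gd N5026 = N5079 := trf L73121 L51569 rfl
theorem L73126 : N5079 = N8213 := eqe L73125 L50926
theorem L73127 : N8213 = N5079 := (eqc rfl L73126 rfl).symm
theorem L73130 : sm ga N5079 = N9267 := trf L73127 L56179 rfl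
theorem L73131 : N9267 = N5010 := eqe L73130 L33648
theorem L73132 : N9267 = N5010 := eqc rfl L73131 rfl
theorem L73154 : sm gg N5010 = N8210 := trf L73132 L56176 rfl
theorem L73155 : N8210 = N3390 := eqe L73154 L33351
theorem L73156 : N8210 = N3390 := eqc rfl L73155 rfl
theorem L73159 : sm gb N3390 = N8710 := trf L73156 L53398 rfl
theorem L73160 : N8710 = N4992 := eqe L73159 L33277
theorem L73161 : N8710 = N4992 := eqc rfl L73160 rfl
theorem L73163 : sm gf N3390 = N8641 := trf L73156 L53025 rfl
theorem L73164 : N8641 = N2552 := eqe L73163 L25243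
theorem L73165 : N8641 = N2552 := eqc rfl L73164 rfl
theorem L73166 : sm ga N2552 = N8212 := trf L73165 L53023 rfl
theorem L73167 : N8212 = N3417 := eqe L73166 L25348
theorem L73168 : N8212 = N3417 := eqc rfl L73167 rfl
theorem L73171 : sm gb N3417 = N5069 := trf L73168 L50921 rfl
theorem L73172 : N5069 = N5071 := eqe L73171 L33614
theorem L73173 : N5071 = N5069 := (eqc rfl L73172 rfl).symm
theorem L73182 : sm gb N5069 = N3417 := trf L73173 L33615 rfl
theorem L73184 : sm gc N5069 = N8323 := trf L73173 L51478 rfl
theorem L73185 : N8323 = N8325 := eqe L73184 L51484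
theorem L73186 : N8325 = N8323 := (eqc rfl L73185 rfl).symm
theorem L73190 : sm ge N5069 = N8296 := trf L73173 L51336 rfl
theorem L73191 : N8296 = N8294 := eqe L73190 L51328
theorem L73192 : N8296 = N8294 := eqc rfl L73191 rfl
theorem L73199 : sm gb N8294 = N5056 := trf L73192 L51334 rfl
theorem L73200 : sm gb N5056 = N8294 := flp_b L73199
theorem L73202 : sm gc N8323 = N5069 := trf L73186 L51483 rfl
theorem L73203 : sm gc N5069 = N8323 := flp_c L73202
theorem L73204 : sm gf N8323 = N5068 := trf L73186 L51482 rfl
theorem L73212 : sm gf N4992 = N5293 := trf L73161 L53392 rfl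
theorem L73213 : N5293 = N3546 := eqe L73212 L33274
theorem L73214 : N5293 = N3546 := eqc rfl L73213 rfl
theorem L73215 : sm gg N4992 = N9250 := trf L73161 L56092 rfl
theorem L73216 : N9250 = N8181 := eqe L73215 L50777
theorem L73217 : N9250 = N8181 := eqc rfl L73216 rfl
theorem L73220 : sm gd N8181 = N5709 := trf L73217 L56090 rfl
theorem L73229 : sm gd N3546 = N3525 := trf L73214 L34636 rfl
theorem L73230 : N3525 = N5352 := eqe L73229 L34888
theorem L73231 : N5352 = N3525 := (eqc rfl L73230 rfl).symm
theorem L73256 : sm gc N3525 = N8822 := trf L73231 L53989 rfl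
theorem L73257 : N8822 = N5306 := eqe L73256 L34698
theorem L73258 : N8822 = N5306 := eqc rfl L73257 rfl
theorem L73259 : sm gd N3525 = N3546 := trf L73231 L34889 rfl
theorem L73263 : sm gb N5306 = N11404 := trf L73258 L68506 L72807
theorem L73264 : N11404 = N8735 := eqe L73263 L53507
theorem L73265 : N11404 = N8735 := eqc rfl L73264 rfl
theorem L73269 : sm ge N8735 = N6867 := trf L73265 L68090 rfl
theorem L73270 : N6867 = N6989 := eqe L73269 L53509
theorem L73271 : N6989 = N6867 := (eqc rfl L73270 rfl).symm
theorem L73273 : sm gb N6867 = N7450 := trf L73271 L46112 rfl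
theorem L73274 : N7450 = N11403 := eqe L73273 L68085
theorem L73275 : N11403 = N7450 := (eqc rfl L73274 rfl).symm
theorem L73280 : sm ge N6867 = N8735 := trf L73271 L53510 rfl
theorem L73282 : sm gf N6867 = N4372 := trf L73271 L43426 rfl
theorem L73283 : N4372 = N11321 := eqe L73282 L67594
theorem L73284 : N11321 = N4372 := (eqc rfl L73283 rfl).symm
theorem L73289 : sm gd N4372 = N3059 := trf L73284 L67596 L71831
theorem L73290 : N3059 = N6988 := eqe L73289 L43421
theorem L73291 : N6988 = N3059 := (eqc rfl L73290 rfl).symm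
theorem L73292 : sm gf N4372 = N6867 := trf L73284 L67593 rfl
theorem L73293 : sm gf N6867 = N4372 := flp_f L73292
theorem L73294 : sm gg N4372 = N11419 := trf L73284 L68190 rfl
theorem L73295 : N11419 = N6990 := eqe L73294 L43488
theorem L73296 : N11419 = N6990 := eqc rfl L73295 rfl
theorem L73299 : sm gf N6990 = N6876 := trf L73296 L68184 rfl
theorem L73300 : N6876 = N8396 := eqe L73299 L51811
theorem L73301 : N8396 = N6876 := (eqc rfl L73300 rfl).symm
theorem L73305 : sm gf N6876 = N6990 := trf L73301 L51812 rfl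
theorem L73306 : sm gf N6990 = N6876 := flp_f L73305
theorem L73308 : sm ga N3059 = N5106 := trf L73291 L43445 rfl
theorem L73309 : N5106 = N4369 := eqe L73308 L29919
theorem L73310 : N5106 = N4369 := eqc rfl L73309 rfl
theorem L73311 : sm gb N3059 = N4373 := trf L73291 L43423 rfl
theorem L73312 : N4373 = N4372 := eqe L73311 L29928
theorem L73313 : N4373 = N4372 := eqc rfl L73312 rfl
theorem L73325 : sm gg N3059 = N11550 := trf L73291 L68861 rfl
theorem L73326 : N11550 = N4375 := eqe L73325 L29938
theorem L73327 : N11550 = N4375 := eqc rfl L73326 rfl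
theorem L73328 : sm ga N4375 = N8395 := trf L73327 L68863 rfl
theorem L73329 : N8395 = N6984 := eqe L73328 L43402
theorem L73330 : N8395 = N6984 := eqc rfl L73329 rfl
theorem L73331 : sm gd N4375 = N6990 := trf L73327 L68865 rfl
theorem L73332 : N6990 = N6994 := eqe L73331 L43505
theorem L73333 : N6994 = N6990 := (eqc rfl L73332 rfl).symm
theorem L73337 : sm gb N6990 = N11561 := trf L73333 L68909 rfl
theorem L73338 : N11561 = N11551 := eqe L73337 L68867
theorem L73339 : N11561 = N11551 := eqc rfl L73338 rfl
theorem L73343 : sm gd N6990 = N4375 := trf L73333 L43504 rfl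
theorem L73344 : sm gd N4375 = N6990 := flp_d L73343
theorem L73348 : sm gf N6990 = N11562 := trf L73333 L68913 rfl
theorem L73349 : N11562 = N6876 := eqe L73348 L73306
theorem L73350 : N11562 = N6876 := eqc rfl L73349 rfl
theorem L73357 : sm gg N6876 = N11544 := trf L73350 L68919 rfl
theorem L73358 : N11544 = N4301 := eqe L73357 L42723
theorem L73359 : N11544 = N4301 := eqc rfl L73358 rfl
theorem L73364 : sm gf N4301 = N6982 := trf L73359 L68822 rfl
theorem L73365 : N6982 = N6821 := eqe L73364 L42411
theorem L73366 : N6982 = N3432 := eqc rfl L73365 L72898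
theorem L73375 : sm ge N3432 = N11543 := trf L73366 L68815 rfl
theorem L73376 : N11543 = N4554 := eqe L73375 L30909
theorem L73377 : N11543 = N4554 := eqc rfl L73376 rfl
theorem L73382 : sm gb N4554 = N8463 := trf L73377 L68819 rfl
theorem L73383 : N8463 = N3151 := eqe L73382 L30907
theorem L73384 : N8463 = N3151 := eqc rfl L73383 rfl
theorem L73385 : sm ga N3151 = N5154 := trf L73384 L52161 rfl
theorem L73386 : N5154 = N2419 := eqe L73385 L23747
theorem L73387 : N5154 = N2419 := eqc rfl L73386 rfl
theorem L73404 : sm gg N2419 = N8473 := trf L73387 L52207 rfl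
theorem L73405 : N8473 = N3154 := eqe L73404 L23763
theorem L73406 : N8473 = N3154 := eqc rfl L73405 rfl
theorem L73410 : sm ge N3154 = N5156 := trf L73406 L52209 rfl
theorem L73411 : N5156 = N2561 := eqe L73410 L23767
theorem L73412 : N5156 = N2561 := eqc rfl L73411 rfl
theorem L73425 : sm gf N2561 = N8475 := trf L73412 L52217 rfl
theorem L73426 : N8475 = N3440 := eqe L73425 L25445
theorem L73427 : N8475 = N3440 := eqc rfl L73426 rfl
theorem L73432 : sm gd N3440 = N5158 := trf L73427 L52221 rfl
theorem L73433 : N5158 = N5122 := eqe L73432 L33837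
theorem L73434 : N5158 = N5122 := eqc rfl L73433 rfl
theorem L73435 : sm gg N3440 = N8464 := trf L73427 L52223 rfl
theorem L73436 : N8464 = N3398 := eqe L73435 L25451
theorem L73437 : N8464 = N3398 := eqc rfl L73436 rfl
theorem L73441 : sm gd N3398 = N5151 := trf L73437 L52167 rfl
theorem L73442 : N5151 = N5028 := eqe L73441 L33420
theorem L73443 : N5151 = N5028 := eqc rfl L73442 rfl
theorem L73445 : sm ga N5028 = N3452 := trf L73443 L33956 rfl
theorem L73446 : N3452 = N3399 := eqe L73445 L33422
theorem L73447 : N3452 = N3399 := eqc rfl L73446 rfl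
theorem L73457 : sm gf N5028 = N3450 := trf L73443 L33955 rfl
theorem L73458 : N3450 = N3433 := eqe L73457 L33424
theorem L73459 : N3450 = N3433 := eqc rfl L73458 rfl
theorem L73461 : sm ga N3433 = N2567 := trf L73459 L25486 rfl
theorem L73462 : N2567 = N2560 := eqe L73461 L25419
theorem L73463 : N2567 = N2560 := eqc rfl L73462 rfl
theorem L73471 : sm gg N3433 = N5152 := trf L73459 L33958 rfl
theorem L73472 : N5152 = N5111 := eqe L73471 L33784
theorem L73473 : N5152 = N5111 := eqc rfl L73472 rfl
theorem L73485 : sm gf N5111 = N5157 := trf L73473 L33978 rfl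
theorem L73486 : N5157 = N5031 := eqe L73485 L33790
theorem L73487 : N5157 = N5031 := eqc rfl L73486 rfl
theorem L73496 : sm ge N5031 = N7380 := trf L73487 L45684 rfl
theorem L73497 : N7380 = N8259 := eqe L73496 L51162
theorem L73498 : N8259 = N7380 := (eqc rfl L73497 rfl).symm
theorem L73506 : sm gg N7380 = N5030 := trf L73498 L51160 rfl
theorem L73507 : N5030 = N4572 := eqe L73506 L45680
theorem L73508 : N5030 = N4572 := eqc rfl L73507 rfl
theorem L73516 : sm gd N4572 = N7265 := trf L73508 L45026 rfl
theorem L73517 : N7265 = N7378 := eqe L73516 L45674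
theorem L73518 : N7378 = N7265 := (eqc rfl L73517 rfl).symm
theorem L73521 : sm gf N4572 = N3437 := trf L73508 L33432 rfl
theorem L73522 : N3437 = N3159 := eqe L73521 L30997
theorem L73523 : N3437 = N3159 := eqc rfl L73522 rfl
theorem L73531 : sm gd N3159 = N4559 := trf L73523 L30935 rfl
theorem L73532 : N4559 = N4571 := eqe L73531 L30992
theorem L73533 : N4571 = N4559 := (eqc rfl L73532 rfl).symm
theorem L73536 : sm gg N3159 = N5120 := trf L73523 L33822 rfl
theorem L73537 : N5120 = N4573 := eqe L73536 L31002
theorem L73538 : N5120 = N4573 := eqc rfl L73537 rfl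
theorem L73543 : sm gc N4573 = N8420 := trf L73538 L51936 rfl
theorem L73544 : N8420 = N4309 := eqe L73543 L31004
theorem L73545 : N8420 = N4309 := eqc rfl L73544 rfl
theorem L73546 : sm gd N4573 = N7351 := trf L73538 L45506 rfl
theorem L73547 : N7351 = N7379 := eqe L73546 L45678
theorem L73548 : N7379 = N7351 := (eqc rfl L73547 rfl).symm
theorem L73554 : sm gd N7351 = N4573 := trf L73548 L45677 rfl
theorem L73555 : sm gd N4573 = N7351 := flp_d L73554
theorem L73557 : sm ge N4309 = N5119 := trf L73545 L51937 rfl
theorem L73558 : N5119 = N5147 := eqe L73557 L33933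
theorem L73559 : N5147 = N5119 := (eqc rfl L73558 rfl).symm
theorem L73562 : sm gb N5119 = N4090 := trf L73559 L33934 rfl
theorem L73563 : N4090 = N8421 := eqe L73562 L51939
theorem L73564 : N4090 = N3800 := eqc rfl L73563 L73067
theorem L73574 : sm gg N5119 = N3448 := trf L73559 L33929 rfl
theorem L73575 : N3448 = N3436 := eqe L73574 L33819
theorem L73576 : N3448 = N3436 := eqc rfl L73575 rfl
theorem L73582 : sm gd N3436 = N5145 := trf L73576 L33916 rfl
theorem L73583 : N5145 = N5117 := eqe L73582 L33808
theorem L73584 : N5145 = N5117 := eqc rfl L73583 rfl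
theorem L73587 : sm gf N3436 = N5146 := trf L73576 L33920 rfl
theorem L73588 : N5146 = N5029 := eqe L73587 L33429
theorem L73589 : N5146 = N5029 := eqc rfl L73588 rfl
theorem L73595 : sm gd N5029 = N8458 := trf L73589 L52128 rfl
theorem L73596 : N8458 = N5024 := eqe L73595 L73107
theorem L73597 : N8458 = N5024 := eqc rfl L73596 rfl
theorem L73601 : sm gb N5024 = N6216 := trf L73597 L52129 rfl
theorem L73602 : N6216 = N6224 := eqe L73601 L38990
theorem L73603 : N6224 = N6216 := (eqc rfl L73602 rfl).symm
theorem L73606 : sm ga N6216 = N3978 := trf L73603 L38985 rfl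
theorem L73607 : N3978 = N10330 := eqe L73606 L61773
theorem L73608 : N10330 = N3978 := (eqc rfl L73607 rfl).symm
theorem L73611 : sm gc N6216 = N5027 := trf L73603 L38992 rfl
theorem L73612 : N5027 = N10332 := eqe L73611 L61785
theorem L73613 : N10332 = N5027 := (eqc rfl L73612 rfl).symm
theorem L73618 : sm gf N6216 = N3984 := trf L73603 L38988 rfl
theorem L73619 : N3984 = N3971 := eqe L73618 L38939
theorem L73620 : N3984 = N3971 := eqc rfl L73619 rfl
theorem L73621 : sm gg N6216 = N6243 := trf L73603 L39093 rfl
theorem L73622 : N6243 = N10333 := eqe L73621 L61786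
theorem L73623 : N10333 = N6243 := (eqc rfl L73622 rfl).symm
theorem L73624 : sm ga N6243 = N10310 := trf L73623 L61788 rfl
theorem L73625 : N10310 = N6226 := eqe L73624 L39088
theorem L73626 : N10310 = N6226 := eqc rfl L73625 rfl
theorem L73627 : sm gd N6243 = N6219 := trf L73623 L61790 rfl
theorem L73628 : N6219 = N10354 := eqe L73627 L61921
theorem L73629 : N10354 = N6219 := (eqc rfl L73628 rfl).symm
theorem L73630 : sm gf N6243 = N10308 := trf L73623 L61793 rfl
theorem L73631 : N10308 = N3986 := eqe L73630 L39087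
theorem L73632 : N10308 = N3986 := eqc rfl L73631 rfl
theorem L73633 : sm gg N6243 = N6216 := trf L73623 L61787 rfl
theorem L73634 : sm gg N6216 = N6243 := flp_g L73633
theorem L73635 : sm ga N3986 = N6200 := trf L73632 L61669 rfl
theorem L73636 : N6200 = N6240 := eqe L73635 L39071
theorem L73637 : N6240 = N6200 := (eqc rfl L73636 rfl).symm
theorem L73638 : sm gd N3986 = N6202 := trf L73632 L61670 rfl
theorem L73639 : N6202 = N6234 := eqe L73638 L39041
theorem L73640 : N6234 = N6202 := (eqc rfl L73639 rfl).symm
theorem L73641 : sm gg N3986 = N6214 := trf L73632 L61672 rfl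
theorem L73642 : N6214 = N2851 := eqe L73641 L27986
theorem L73643 : N6214 = N2851 := eqc rfl L73642 rfl
theorem L73649 : sm gc N2851 = N10329 := trf L73643 L61766 rfl
theorem L73650 : N10329 = N3985 := eqe L73649 L27979
theorem L73651 : N10329 = N3985 := eqc rfl L73650 rfl
theorem L73652 : sm gd N2851 = N3972 := trf L73643 L38932 rfl
theorem L73653 : N3972 = N3982 := eqe L73652 L27970
theorem L73654 : N3982 = N3972 := (eqc rfl L73653 rfl).symm
theorem L73655 : sm ge N2851 = N10326 := trf L73643 L61755 rfl
theorem L73656 : N10326 = N2772 := eqe L73655 L22121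
theorem L73657 : N10326 = N2772 := eqc rfl L73656 rfl
theorem L73659 : sm ga N2772 = N6213 := trf L73657 L61753 rfl
theorem L73660 : N6213 = N3852 := eqe L73659 L27307
theorem L73661 : N6213 = N3852 := eqc rfl L73660 rfl
theorem L73662 : sm gd N2772 = N11717 := trf L73657 L69783 rfl
theorem L73663 : N11717 = N2364 := eqe L73662 L21779
theorem L73664 : N11717 = N2364 := eqc rfl L73663 rfl
theorem L73671 : sm ge N2364 = N7091 := trf L73664 L69777 rfl
theorem L73672 : N7091 = N3005 := eqe L73671 L23010
theorem L73673 : N7091 = N3005 := eqc rfl L73672 rfl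
theorem L73674 : sm ga N3005 = N4429 := trf L73673 L44068 rfl
theorem L73675 : N4429 = N4260 := eqe L73674 L29410
theorem L73676 : N4429 = N4260 := eqc rfl L73675 rfl
theorem L73683 : sm gd N3005 = N4428 := trf L73673 L44067 rfl
theorem L73684 : N4428 = N4258 := eqe L73683 L29401
theorem L73685 : N4428 = N4258 := eqc rfl L73684 rfl
theorem L73689 : sm gg N3005 = N11719 := trf L73673 L69790 rfl
theorem L73690 : N11719 = N4262 := eqe L73689 L29418
theorem L73691 : N11719 = N4262 := eqc rfl L73690 rfl
theorem L73692 : sm ga N4262 = N7097 := trf L73691 L69792 rfl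
theorem L73693 : N7097 = N6789 := eqe L73692 L42205
theorem L73694 : N7097 = N6789 := eqc rfl L73693 rfl
theorem L73695 : sm gd N4262 = N7093 := trf L73691 L69794 rfl
theorem L73696 : N7093 = N6784 := eqe L73695 L42171
theorem L73697 : N7093 = N6784 := eqc rfl L73696 rfl
theorem L73698 : sm gf N4262 = N11728 := trf L73691 L69846 rfl
theorem L73699 : N11728 = N6792 := eqe L73698 L42220
theorem L73700 : N11728 = N6792 := eqc rfl L73699 rfl
theorem L73701 : sm ga N6792 = N11729 := trf L73700 L69851 rfl
theorem L73702 : N11729 = N6776 := eqe L73701 L42222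
theorem L73703 : N11729 = N6776 := eqc rfl L73702 rfl
theorem L73704 : sm gd N6792 = N7098 := trf L73700 L69844 rfl
theorem L73705 : N7098 = N11264 := eqe L73704 L67194
theorem L73706 : N11264 = N7098 := (eqc rfl L73705 rfl).symm
theorem L73707 : sm gg N6792 = N7096 := trf L73700 L69843 rfl
theorem L73708 : N7096 = N6774 := eqe L73707 L42226
theorem L73709 : N7096 = N6774 := eqc rfl L73708 rfl
theorem L73711 : sm gb N6774 = N6889 := trf L73709 L44100 rfl
theorem L73712 : N6889 = N10411 := eqe L73711 L62275
theorem L73713 : N10411 = N6889 := (eqc rfl L73712 rfl).symm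
theorem L73720 : sm ge N6774 = N11726 := trf L73709 L69831 rfl
theorem L73721 : N11726 = N4317 := eqe L73720 L42110
theorem L73722 : N11726 = N4317 := eqc rfl L73721 rfl
theorem L73724 : sm gb N4317 = N11437 := trf L73722 L69832 rfl
theorem L73725 : N11437 = N6905 := eqe L73724 L42856
theorem L73726 : N11437 = N6905 := eqc rfl L73725 rfl
theorem L73731 : sm gf N6905 = N6888 := trf L73726 L68290 rfl
theorem L73732 : N6888 = N5429 := eqe L73731 L42861
theorem L73733 : N6888 = N5429 := eqc rfl L73732 rfl
theorem L73737 : sm gb N5429 = N4310 := trf L73733 L42778 rfl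
theorem L73738 : N4310 = N6916 := eqe L73737 L43044
theorem L73739 : N6916 = N4310 := (eqc rfl L73738 rfl).symm
theorem L73746 : sm ge N5429 = N4307 := trf L73733 L42777 rfl
theorem L73747 : N4307 = N6269 := eqe L73746 L39567
theorem L73748 : N6269 = N4307 := (eqc rfl L73747 rfl).symm
theorem L73754 : sm ga N4307 = N3999 := trf L73748 L39565 rfl
theorem L73755 : N3999 = N6884 := eqe L73754 L42763
theorem L73756 : N6884 = N3999 := (eqc rfl L73755 rfl).symm
theorem L73760 : sm gc N4307 = N10410 := trf L73748 L62254 rfl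
theorem L73761 : N10410 = N6887 := eqe L73760 L42772
theorem L73762 : N10410 = N6887 := eqc rfl L73761 rfl
theorem L73770 : sm ga N6887 = N6270 := trf L73762 L62256 rfl
theorem L73771 : N6270 = N11428 := eqe L73770 L68246
theorem L73772 : N11428 = N6270 := (eqc rfl L73771 rfl).symm
theorem L73773 : sm gb N6887 = N10199 := trf L73762 L62262 rfl
theorem L73774 : N10199 = N4450 := eqe L73773 L42774
theorem L73775 : N10199 = N4450 := eqc rfl L73774 rfl
theorem L73778 : sm gf N6887 = N10157 := trf L73762 L62265 rfl
theorem L73779 : N10157 = N11435 := eqe L73778 L68281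
theorem L73780 : N11435 = N10157 := (eqc rfl L73779 rfl).symm
theorem L73781 : sm gg N6887 = N8608 := trf L73762 L62260 rfl
theorem L73782 : N8608 = N11436 := eqe L73781 L68285
theorem L73783 : N11436 = N8608 := (eqc rfl L73782 rfl).symm
theorem L73785 : sm gg N8608 = N6887 := trf L73783 L68286 rfl
theorem L73789 : sm gf N10157 = N6887 := trf L73780 L68282 rfl
theorem L73790 : sm gf N6887 = N10157 := flp_f L73789
theorem L73791 : sm ga N4450 = N8021 := trf L73775 L61064 rfl
theorem L73792 : N8021 = N7132 := eqe L73791 L44295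
theorem L73793 : N8021 = N7132 := eqc rfl L73792 rfl
theorem L73797 : sm ge N4450 = N6187 := trf L73775 L61068 rfl
theorem L73798 : N6187 = N7128 := eqe L73797 L44275
theorem L73799 : N7128 = N6187 := (eqc rfl L73798 rfl).symm
theorem L73800 : sm gf N4450 = N6129 := trf L73775 L61063 rfl
theorem L73801 : N6129 = N7135 := eqe L73800 L44306
theorem L73802 : N7135 = N6129 := (eqc rfl L73801 rfl).symm
theorem L73803 : sm ga N6129 = N11801 := trf L73802 L70255 rfl
theorem L73804 : N11801 = N10197 := eqe L73803 L61050
theorem L73805 : N11801 = N10197 := eqc rfl L73804 rfl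
theorem L73809 : sm gc N6129 = N4451 := trf L73802 L44308 rfl
theorem L73810 : N4451 = N10190 := eqe L73809 L60999
theorem L73811 : N10190 = N4451 := (eqc rfl L73810 rfl).symm
theorem L73815 : sm ge N6129 = N11790 := trf L73802 L70195 rfl
theorem L73816 : N11790 = N3957 := eqe L73815 L38514
theorem L73817 : N11790 = N3957 := eqc rfl L73816 rfl
theorem L73829 : sm gc N3957 = N7129 := trf L73817 L70192 rfl
theorem L73830 : N7129 = N6178 := eqe L73829 L38775
theorem L73831 : N7129 = N6178 := eqc rfl L73830 rfl
theorem L73836 : sm gb N6178 = N11791 := trf L73831 L70196 rfl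
theorem L73837 : N11791 = N3954 := eqe L73836 L38773
theorem L73838 : N11791 = N3954 := eqc rfl L73837 rfl
theorem L73839 : sm gd N6178 = N7113 := trf L73831 L44278 rfl
theorem L73840 : N7113 = N10270 := eqe L73839 L61462
theorem L73841 : N10270 = N7113 := (eqc rfl L73840 rfl).symm
theorem L73844 : sm gf N6178 = N4447 := trf L73831 L44277 rfl
theorem L73845 : N4447 = N5933 := eqe L73844 L38779
theorem L73846 : N5933 = N4447 := (eqc rfl L73845 rfl).symm
theorem L73847 : sm gg N6178 = N11792 := trf L73831 L70204 rfl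
theorem L73848 : N11792 = N9897 := eqe L73847 L59435
theorem L73849 : N11792 = N9897 := eqc rfl L73848 rfl
theorem L73850 : sm ga N9897 = N11625 := trf L73849 L70206 rfl
theorem L73851 : N11625 = N9895 := eqe L73850 L59430
theorem L73852 : N11625 = N9895 := eqc rfl L73851 rfl
theorem L73853 : sm gd N9897 = N11763 := trf L73849 L70208 rfl
theorem L73854 : sm gd N11763 = N9897 := flp_d L73853
theorem L73855 : sm ge N9897 = N7137 := trf L73849 L70210 rfl
theorem L73856 : sm ge N7137 = N9897 := flp_e L73855
theorem L73857 : sm gf N9897 = N11623 := trf L73849 L70213 rfl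
theorem L73858 : N11623 = N5936 := eqe L73857 L59429
theorem L73859 : N11623 = N5936 := eqc rfl L73858 rfl
theorem L73860 : sm ga N5936 = N7030 := trf L73859 L69234 rfl
theorem L73861 : N7030 = N9890 := eqe L73860 L59399
theorem L73862 : N9890 = N7030 := (eqc rfl L73861 rfl).symm
theorem L73863 : sm gd N5936 = N11743 := trf L73859 L69939 rfl
theorem L73864 : N11743 = N9894 := eqe L73863 L59419
theorem L73865 : N11743 = N9894 := eqc rfl L73864 rfl
theorem L73866 : sm ge N5936 = N7032 := trf L73859 L69235 rfl
theorem L73867 : N7032 = N8025 := eqe L73866 L49278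
theorem L73868 : N8025 = N7032 := (eqc rfl L73867 rfl).symm
theorem L73869 : sm gg N5936 = N7127 := trf L73859 L69237 rfl
theorem L73870 : N7127 = N3825 := eqe L73869 L37577
theorem L73871 : N7127 = N3825 := eqc rfl L73870 rfl
theorem L73880 : sm gd N3825 = N7104 := trf L73871 L44268 rfl
theorem L73881 : N7104 = N5934 := eqe L73880 L37568
theorem L73882 : N7104 = N5934 := eqc rfl L73881 rfl
theorem L73883 : sm ge N3825 = N4449 := trf L73871 L44270 rfl
theorem L73884 : N4449 = N4897 := eqe L73883 L32785
theorem L73885 : N4897 = N4449 := (eqc rfl L73884 rfl).symm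
theorem L73888 : sm gb N4449 = N3327 := trf L73885 L32783 rfl
theorem L73889 : N3327 = N7131 := eqe L73888 L44288
theorem L73890 : N7131 = N3327 := (eqc rfl L73889 rfl).symm
theorem L73892 : sm gd N4449 = N8024 := trf L73885 L49271 rfl
theorem L73893 : N8024 = N3099 := eqe L73892 L30316
theorem L73894 : N8024 = N3099 := eqc rfl L73893 rfl
theorem L73895 : sm ge N4449 = N3825 := trf L73885 L32784 rfl
theorem L73896 : sm ge N3825 = N4449 := flp_e L73895
theorem L73897 : sm gf N4449 = N6748 := trf L73885 L41948 rfl
theorem L73898 : N6748 = N7133 := eqe L73897 L44296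
theorem L73899 : N7133 = N6748 := (eqc rfl L73898 rfl).symm
theorem L73907 : sm gd N6748 = N4454 := trf L73899 L44300 rfl
theorem L73908 : N4454 = N11221 := eqe L73907 L66901
theorem L73909 : N11221 = N4454 := (eqc rfl L73908 rfl).symm
theorem L73911 : sm gf N6748 = N4449 := trf L73899 L44297 rfl
theorem L73912 : sm gf N4449 = N6748 := flp_f L73911
theorem L73913 : sm gg N6748 = N7034 := trf L73899 L44303 rfl
theorem L73914 : N7034 = N11222 := eqe L73913 L66907
theorem L73915 : N11222 = N7034 := (eqc rfl L73914 rfl).symm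
theorem L73921 : sm gg N7034 = N6748 := trf L73915 L66908 rfl
theorem L73927 : sm gb N4454 = N6749 := trf L73909 L66903 rfl
theorem L73928 : N6749 = N7143 := eqe L73927 L44346
theorem L73929 : N7143 = N6749 := (eqc rfl L73928 rfl).symm
theorem L73930 : sm gd N4454 = N6748 := trf L73909 L66902 rfl
theorem L73931 : sm gd N6748 = N4454 := flp_d L73930
theorem L73933 : sm ga N6749 = N9835 := trf L73929 L58917 rfl
theorem L73934 : N9835 = N4244 := eqe L73933 L41952
theorem L73935 : N9835 = N4244 := eqc rfl L73934 rfl
theorem L73942 : sm ge N6749 = N7107 := trf L73929 L44348 rfl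
theorem L73943 : N7107 = N11224 := eqe L73942 L66917
theorem L73944 : N11224 = N7107 := (eqc rfl L73943 rfl).symm
theorem L73948 : sm gg N6749 = N11817 := trf L73929 L70338 rfl
theorem L73949 : N11817 = N11226 := eqe L73948 L66929
theorem L73950 : N11817 = N11226 := eqc rfl L73949 rfl
theorem L73955 : sm ge N11226 = N11748 := trf L73950 L70342 rfl
theorem L73957 : sm gf N11226 = N10965 := trf L73950 L70344 rfl
theorem L73958 : N10965 = N11234 := eqe L73957 L66969
theorem L73959 : N11234 = N10965 := (eqc rfl L73958 rfl).symm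
theorem L73960 : sm ga N10965 = N11235 := trf L73959 L66974 rfl
theorem L73961 : sm ga N11235 = N10965 := flp_a L73960
theorem L73962 : sm gd N10965 = N6756 := trf L73959 L66967 rfl
theorem L73966 : sm gg N10965 = N6754 := trf L73959 L66966 rfl
theorem L73967 : N6754 = N6595 := eqe L73966 L65527
theorem L73968 : N6754 = N6595 := eqc rfl L73967 rfl
theorem L73970 : sm gb N6595 = N4439 := trf L73968 L41978 rfl
theorem L73971 : N4439 = N10963 := eqe L73970 L65520
theorem L73972 : N10963 = N4439 := (eqc rfl L73971 rfl).symm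
theorem L73979 : sm ge N6595 = N11232 := trf L73968 L66958 rfl
theorem L73980 : N11232 = N10777 := eqe L73979 L64457
theorem L73981 : N11232 = N10777 := eqc rfl L73980 rfl
theorem L73986 : sm gd N10777 = N3954 := trf L73981 L70199 L73838
theorem L73987 : sm gd N3954 = N10777 := flp_d L73986
theorem L73988 : N10777 = N6179 := eqe L73987 L38780
theorem L73989 : N10777 = N6179 := eqc rfl L73988 rfl
theorem L73990 : N11232 = N6179 := L73981.trans L73989
theorem L73991 : sm gf N6179 = N6753 := trf L73990 L66956 rfl
theorem L73992 : N6753 = N10273 := eqe L73991 L61474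
theorem L73993 : N10273 = N6753 := (eqc rfl L73992 rfl).symm
theorem L73997 : sm gd N6753 = N6180 := trf L73993 L61476 rfl
theorem L73998 : N6180 = N7130 := eqe L73997 L44285
theorem L73999 : N7130 = N6180 := (eqc rfl L73998 rfl).symm
theorem L74000 : sm gf N6753 = N6179 := trf L73993 L61475 rfl
theorem L74001 : sm gf N6179 = N6753 := flp_f L74000
theorem L74005 : sm gb N6180 = N4448 := trf L73999 L44283 rfl
theorem L74006 : N4448 = N6915 := eqe L74005 L43032
theorem L74007 : N6915 = N4448 := (eqc rfl L74006 rfl).symm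
theorem L74011 : sm gd N6180 = N6753 := trf L73999 L44284 rfl
theorem L74012 : sm gd N6753 = N6180 := flp_d L74011
theorem L74013 : sm ge N6180 = N4452 := trf L73999 L44286 rfl
theorem L74014 : N4452 = N10192 := eqe L74013 L61015
theorem L74015 : N10192 = N4452 := (eqc rfl L74014 rfl).symm
theorem L74017 : sm gg N6180 = N11795 := trf L73999 L70226 rfl
theorem L74018 : N11795 = N10275 := eqe L74017 L61482
theorem L74019 : N11795 = N10275 := eqc rfl L74018 rfl
theorem L74024 : sm ge N10275 = N7140 := trf L74019 L70230 rfl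
theorem L74025 : N7140 = N11162 := eqe L74024 L66518
theorem L74026 : N11162 = N7140 := (eqc rfl L74025 rfl).symm
theorem L74027 : sm ga N7140 = N11161 := trf L74026 L66513 rfl
theorem L74028 : N11161 = N11812 := eqe L74027 L70305
theorem L74029 : N11812 = N11161 := (eqc rfl L74028 rfl).symm
theorem L74030 : sm gc N7140 = N10194 := trf L74026 L66515 rfl
theorem L74031 : N10194 = N11814 := eqe L74030 L70317
theorem L74032 : N11814 = N10194 := (eqc rfl L74031 rfl).symm
theorem L74035 : sm gf N7140 = N6700 := trf L74026 L66512 rfl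
theorem L74036 : N6700 = N11815 := eqe L74035 L70318
theorem L74037 : N11815 = N6700 := (eqc rfl L74036 rfl).symm
theorem L74039 : sm ga N6700 = N11809 := trf L74037 L70320 rfl
theorem L74040 : N11809 = N10193 := eqe L74039 L61021
theorem L74041 : N11809 = N10193 := eqc rfl L74040 rfl
theorem L74045 : sm gf N6700 = N7140 := trf L74037 L70319 rfl
theorem L74047 : sm gg N6700 = N9858 := trf L74037 L70324 rfl
theorem L74048 : N9858 = N4218 := eqe L74047 L41779
theorem L74049 : N9858 = N4218 := eqc rfl L74048 rfl
theorem L74050 : sm ga N4218 = N7136 := trf L74049 L59192 rfl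
theorem L74051 : N7136 = N6126 := eqe L74050 L38753
theorem L74052 : N7136 = N6126 := eqc rfl L74051 rfl
theorem L74053 : sm gb N4218 = N5914 := trf L74049 L59194 rfl
theorem L74054 : N5914 = N2978 := eqe L74053 L29225
theorem L74055 : N5914 = N2978 := eqc rfl L74054 rfl
theorem L74056 : sm gd N4218 = N5913 := trf L74049 L59191 rfl
theorem L74057 : N5913 = N6698 := eqe L74056 L41772
theorem L74058 : N6698 = N5913 := (eqc rfl L74057 rfl).symm
theorem L74059 : sm gf N4218 = N7138 := trf L74049 L59196 rfl
theorem L74060 : N7138 = N6699 := eqe L74059 L41776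
theorem L74061 : N7138 = N6699 := eqc rfl L74060 rfl
theorem L74064 : sm gb N6699 = N9893 := trf L74061 L59415 rfl
theorem L74065 : N9893 = N10970 := eqe L74064 L65549
theorem L74066 : N10970 = N9893 := (eqc rfl L74065 rfl).symm
theorem L74067 : sm gc N6699 = N11811 := trf L74061 L70298 rfl
theorem L74068 : N11811 = N8604 := eqe L74067 L52821
theorem L74069 : N11811 = N8604 := eqc rfl L74068 rfl
theorem L74070 : sm gd N6699 = N4457 := trf L74061 L44326 rfl
theorem L74071 : N4457 = N11159 := eqe L74070 L66498
theorem L74072 : N11159 = N4457 := (eqc rfl L74071 rfl).symm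
theorem L74075 : sm gd N4457 = N6699 := trf L74072 L66497 rfl
theorem L74076 : sm gd N6699 = N4457 := flp_d L74075
theorem L74078 : sm ga N8604 = N7139 := trf L74069 L70300 rfl
theorem L74079 : N7139 = N6127 := eqe L74078 L52819
theorem L74080 : N7139 = N6127 := eqc rfl L74079 rfl
theorem L74086 : sm gd N6127 = N11813 := trf L74080 L70310 rfl
theorem L74087 : N11813 = N10177 := eqe L74086 L60933
theorem L74088 : N11813 = N10177 := eqc rfl L74087 rfl
theorem L74095 : sm gb N10177 = N11722 := trf L74088 L70312 rfl
theorem L74096 : N11722 = N11271 := eqe L74095 L67252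
theorem L74097 : N11722 = N11271 := eqc rfl L74096 rfl
theorem L74098 : sm ga N11271 = N11752 := trf L74097 L69995 rfl
theorem L74099 : N11752 = N6790 := eqe L74098 L67249
theorem L74100 : N11752 = N6790 := eqc rfl L74099 rfl
theorem L74101 : sm gc N11271 = N11738 := trf L74097 L69909 rfl
theorem L74104 : sm gb N6790 = N11691 := trf L74100 L69996 rfl
theorem L74105 : N11691 = N10738 := eqe L74104 L64241
theorem L74106 : N11691 = N10738 := eqc rfl L74105 rfl
theorem L74113 : sm gc N10738 = N7075 := trf L74106 L69610 rfl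
theorem L74114 : sm gc N7075 = N10738 := flp_c L74113
theorem L74127 : sm gb N9893 = N6699 := trf L74066 L65548 rfl
theorem L74128 : sm gb N6699 = N9893 := flp_b L74127
theorem L74129 : sm gf N9893 = N6598 := trf L74066 L65547 rfl
theorem L74130 : N6598 = N5934 := eqe L74129 L59411
theorem L74131 : N6598 = N5934 := eqc rfl L74130 rfl
theorem L74135 : sm gb N5934 = N4174 := trf L74131 L41311 rfl
theorem L74136 : N4174 = N3826 := eqe L74135 L37570
theorem L74137 : N4174 = N3826 := eqc rfl L74136 rfl
theorem L74138 : sm gc N5934 = N4439 := trf L74131 L65523 L73972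
theorem L74139 : N4439 = N9891 := eqe L74138 L59404
theorem L74140 : N9891 = N4439 := (eqc rfl L74139 rfl).symm
theorem L74144 : sm ge N5934 = N10780 := trf L74131 L64473 rfl
theorem L74145 : N10780 = N9892 := eqe L74144 L59406
theorem L74146 : N10780 = N9892 := eqc rfl L74145 rfl
theorem L74147 : sm gg N5934 = N10971 := trf L74131 L65550 rfl
theorem L74148 : N10971 = N9894 := eqe L74147 L59416
theorem L74149 : N10971 = N9894 := eqc rfl L74148 rfl
theorem L74150 : sm gb N9894 = N11180 := trf L74149 L66648 rfl
theorem L74151 : sm gb N11180 = N9894 := flp_b L74150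
theorem L74152 : sm gb N9892 = N6489 := trf L74146 L64471 rfl
theorem L74153 : N6489 = N5938 := eqe L74152 L59408
theorem L74154 : N6489 = N5938 := eqc rfl L74153 rfl
theorem L74156 : sm gc N5938 = N4116 := trf L74154 L40761 rfl
theorem L74157 : N4116 = N9899 := eqe L74156 L59445
theorem L74158 : N9899 = N4116 := (eqc rfl L74157 rfl).symm
theorem L74163 : sm gf N5938 = N4136 := trf L74154 L40766 rfl
theorem L74164 : N4136 = N9860 := eqe L74163 L59211
theorem L74165 : N9860 = N4136 := (eqc rfl L74164 rfl).symm
theorem L74166 : sm gg N5938 = N6537 := trf L74154 L41023 rfl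
theorem L74167 : N6537 = N9901 := eqe L74166 L59456
theorem L74168 : N9901 = N6537 := (eqc rfl L74167 rfl).symm
theorem L74172 : sm ge N6537 = N5939 := trf L74168 L59460 rfl
theorem L74173 : N5939 = N4225 := eqe L74172 L41020
theorem L74174 : N5939 = N4225 := eqc rfl L74173 rfl
theorem L74175 : sm gf N6537 = N9865 := trf L74168 L59462 rfl
theorem L74176 : N9865 = N4139 := eqe L74175 L41015
theorem L74177 : N9865 = N4139 := eqc rfl L74176 rfl
theorem L74178 : sm gg N6537 = N5938 := trf L74168 L59457 rfl
theorem L74179 : sm gg N5938 = N6537 := flp_g L74178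
theorem L74186 : sm gg N4139 = N5916 := trf L74177 L59233 rfl
theorem L74187 : N5916 = N2941 := eqe L74186 L28847
theorem L74188 : N5916 = N2941 := eqc rfl L74187 rfl
theorem L74199 : sm ge N2941 = N3813 := trf L74188 L37491 rfl
theorem L74200 : N3813 = N2333 := eqe L74199 L22693
theorem L74201 : N3813 = N2333 := eqc rfl L74200 rfl
theorem L74211 : sm gd N2333 = N2749 := trf L74201 L27067 rfl
theorem L74212 : N2749 = N2980 := eqe L74211 L22867
theorem L74213 : N2980 = N2749 := (eqc rfl L74212 rfl).symm
theorem L74214 : sm gf N2333 = N2759 := trf L74201 L27068 rfl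
theorem L74215 : N2759 = N2959 := eqe L74214 L22782
theorem L74216 : N2959 = N2759 := (eqc rfl L74215 rfl).symm
theorem L74221 : sm gc N2759 = N2322 := trf L74216 L22780 rfl
theorem L74222 : N2322 = N3828 := eqe L74221 L27195
theorem L74223 : N3828 = N2322 := (eqc rfl L74222 rfl).symm
theorem L74228 : sm gf N2759 = N2333 := trf L74216 L22781 rfl
theorem L74229 : sm gf N2333 = N2759 := flp_f L74228
theorem L74230 : sm gg N2759 = N4176 := trf L74216 L29050 rfl
theorem L74231 : N4176 = N3830 := eqe L74230 L27199
theorem L74232 : N4176 = N3830 := eqc rfl L74231 rfl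
theorem L74245 : sm gf N3830 = N4220 := trf L74232 L29237 rfl
theorem L74246 : N4220 = N5947 := eqe L74245 L37622
theorem L74247 : N5947 = N4220 := (eqc rfl L74246 rfl).symm
theorem L74255 : sm gd N4220 = N3832 := trf L74247 L37626 rfl
theorem L74256 : N3832 = N6703 := eqe L74255 L41795
theorem L74257 : N6703 = N3832 := (eqc rfl L74256 rfl).symm
theorem L74259 : sm gf N4220 = N3830 := trf L74247 L37623 rfl
theorem L74271 : sm gd N3832 = N4220 := trf L74257 L41794 rfl
theorem L74277 : sm gg N3832 = N4219 := trf L74257 L41791 rfl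
theorem L74278 : N4219 = N3812 := eqe L74277 L27211
theorem L74279 : N4219 = N3812 := eqc rfl L74278 rfl
theorem L74290 : sm gf N3812 = N6599 := trf L74279 L41317 rfl
theorem L74291 : N6599 = N2757 := eqe L74290 L27064
theorem L74292 : N6599 = N2757 := eqc rfl L74291 rfl
theorem L74302 : sm gg N2757 = N6712 := trf L74292 L41833 rfl
theorem L74303 : N6712 = N3827 := eqe L74302 L27187
theorem L74304 : N6712 = N3827 := eqc rfl L74303 rfl
theorem L74314 : sm ge N3827 = N11176 := trf L74304 L66626 rfl
theorem L74315 : N11176 = N4899 := eqe L74314 L32797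
theorem L74316 : N11176 = N4899 := eqc rfl L74315 rfl
theorem L74321 : sm gf N4899 = N6711 := trf L74316 L66622 rfl
theorem L74322 : N6711 = N4890 := eqe L74321 L32799
theorem L74323 : N6711 = N4890 := eqc rfl L74322 rfl
theorem L74326 : sm gb N4890 = N10876 := trf L74323 L65059 rfl
theorem L74327 : N10876 = N8012 := eqe L74326 L49207
theorem L74328 : N10876 = N8012 := eqc rfl L74327 rfl
theorem L74332 : sm gd N4890 = N8012 := trf L74323 L65055 L74328
theorem L74333 : N8012 = N8011 := eqe L74332 L49206
theorem L74334 : N8012 = N8011 := eqc rfl L74333 rfl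
theorem L74336 : sm gg N4890 = N4223 := trf L74323 L41823 rfl
theorem L74337 : N4223 = N3319 := eqe L74336 L32737
theorem L74338 : N4223 = N3319 := eqc rfl L74337 rfl
theorem L74340 : sm gb N3319 = N2994 := trf L74338 L29244 rfl
theorem L74341 : N2994 = N4881 := eqe L74340 L32695
theorem L74342 : N4881 = N2994 := (eqc rfl L74341 rfl).symm
theorem L74346 : sm gd N3319 = N6535 := trf L74338 L41007 rfl
theorem L74347 : N6535 = N4889 := eqe L74346 L32732
theorem L74348 : N6535 = N4889 := eqc rfl L74347 rfl
theorem L74350 : sm gf N3319 = N6601 := trf L74338 L41327 rfl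
theorem L74351 : N6601 = N2510 := eqe L74350 L24811
theorem L74352 : N6601 = N2510 := eqc rfl L74351 rfl
theorem L74355 : sm gc N2510 = N10976 := trf L74352 L65581 rfl
theorem L74356 : N10976 = N2083 := eqe L74355 L20631
theorem L74357 : N10976 = N2083 := eqc rfl L74356 rfl
theorem L74361 : sm ge N2083 = N6600 := trf L74357 L65579 rfl
theorem L74362 : N6600 = N1277 := eqe L74361 L10661
theorem L74363 : N6600 = N1277 := eqc rfl L74362 rfl
theorem L74373 : sm gf N1277 = N4222 := trf L74363 L41320 rfl
theorem L74374 : N4222 = N2219 := eqe L74373 L19081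
theorem L74375 : N4222 = N2219 := eqc rfl L74374 rfl
theorem L74391 : sm gg N2219 = N6710 := trf L74375 L41818 rfl
theorem L74392 : N6710 = N2750 := eqe L74391 L21702
theorem L74393 : N6710 = N2750 := eqc rfl L74392 rfl
theorem L74399 : sm gd N2750 = N11171 := trf L74393 L66602 rfl
theorem L74400 : N11171 = N3320 := eqe L74399 L24816
theorem L74401 : N11171 = N3320 := eqc rfl L74400 rfl
theorem L74407 : sm gc N3320 = N11070 := trf L74401 L66599 rfl
theorem L74408 : N11070 = N4890 := eqe L74407 L32741
theorem L74409 : N11070 = N4890 := eqc rfl L74408 rfl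
theorem L74411 : sm ga N4890 = N6656 := trf L74409 L66082 rfl
theorem L74412 : N6656 = N3861 := eqe L74411 L32738
theorem L74413 : N6656 = N3861 := eqc rfl L74412 rfl
theorem L74414 : sm gd N4890 = N6652 := trf L74409 L66084 rfl
theorem L74415 : N6652 = N8011 := eqe L74414 L49206
theorem L74416 : N8011 = N6652 := (eqc rfl L74415 rfl).symm
theorem L74420 : sm gg N4890 = N6651 := trf L74409 L66081 rfl
theorem L74421 : N6651 = N3319 := eqe L74420 L32737
theorem L74422 : N6651 = N3319 := eqc rfl L74421 rfl
theorem L74423 : sm ga N3319 = N4197 := trf L74422 L41554 rfl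
theorem L74424 : N4197 = N4888 := eqe L74423 L32725
theorem L74425 : N4888 = N4197 := (eqc rfl L74424 rfl).symm
theorem L74430 : sm gd N3319 = N4195 := trf L74422 L41553 rfl
theorem L74431 : N4195 = N4889 := eqe L74430 L32732
theorem L74432 : N4889 = N4195 := (eqc rfl L74431 rfl).symm
theorem L74436 : sm gf N3319 = N10931 := trf L74422 L65367 rfl
theorem L74437 : N10931 = N2510 := eqe L74436 L24811
theorem L74438 : N10931 = N2510 := eqc rfl L74437 rfl
theorem L74439 : sm ga N2510 = N6580 := trf L74438 L65364 rfl
theorem L74440 : N6580 = N3327 := eqe L74439 L24860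
theorem L74441 : N6580 = N3327 := eqc rfl L74440 rfl
theorem L74443 : sm gd N2510 = N6579 := trf L74438 L65363 rfl
theorem L74444 : N6579 = N3329 := eqe L74443 L24873
theorem L74445 : N6579 = N3329 := eqc rfl L74444 rfl
theorem L74446 : sm gg N2510 = N11080 := trf L74438 L66129 rfl
theorem L74447 : N11080 = N3330 := eqe L74446 L24875
theorem L74448 : N11080 = N3330 := eqc rfl L74447 rfl
theorem L74450 : sm gd N3330 = N6658 := trf L74448 L66126 rfl
theorem L74451 : N6658 = N4902 := eqe L74450 L32809
theorem L74452 : N6658 = N4902 := eqc rfl L74451 rfl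
theorem L74466 : sm gf N4902 = N4198 := trf L74452 L41579 rfl
theorem L74467 : N4198 = N6005 := eqe L74466 L37893
theorem L74468 : N6005 = N4198 := (eqc rfl L74467 rfl).symm
theorem L74482 : sm gf N4198 = N4902 := trf L74468 L37892 rfl
theorem L74483 : sm gf N4902 = N4198 := flp_f L74482
theorem L74484 : sm gg N4198 = N8008 := trf L74468 L49190 rfl
theorem L74485 : N8008 = N2970 := eqe L74484 L29135
theorem L74486 : N8008 = N2970 := eqc rfl L74485 rfl
theorem L74495 : sm gf N2970 = N4898 := trf L74486 L49187 rfl
theorem L74496 : N4898 = N4166 := eqe L74495 L29009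
theorem L74497 : N4898 = N4166 := eqc rfl L74496 rfl
theorem L74500 : sm gb N4166 = N3099 := trf L74497 L49274 L73894
theorem L74501 : N3099 = N6233 := eqe L74500 L39037
theorem L74502 : N6233 = N3099 := (eqc rfl L74501 rfl).symm
theorem L74508 : sm ge N4166 = N8026 := trf L74497 L49279 rfl
theorem L74509 : N8026 = N6571 := eqe L74508 L41193
theorem L74510 : N8026 = N6571 := eqc rfl L74509 rfl
theorem L74518 : sm gd N6571 = N5938 := trf L74510 L49283 rfl
theorem L74519 : N5938 = N10912 := eqe L74518 L65268
theorem L74520 : N10912 = N5938 := (eqc rfl L74519 rfl).symm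
theorem L74521 : sm gb N5938 = N11262 := trf L74520 L67182 rfl
theorem L74522 : N11262 = N9892 := eqe L74521 L59409
theorem L74523 : N11262 = N9892 := eqc rfl L74522 rfl
theorem L74524 : sm gd N5938 = N6571 := trf L74520 L65269 rfl
theorem L74525 : sm gd N6571 = N5938 := flp_d L74524
theorem L74526 : sm gf N5938 = N6629 := trf L74520 L65270 rfl
theorem L74527 : N6629 = N9860 := eqe L74526 L59211
theorem L74528 : N6629 = N4136 := eqc rfl L74527 L74165
theorem L74532 : sm gb N4136 = N7293 := trf L74528 L45192 rfl
theorem L74533 : N7293 = N6175 := eqe L74532 L38747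
theorem L74534 : N7293 = N6175 := eqc rfl L74533 rfl
theorem L74538 : sm gd N4136 = N4187 := trf L74528 L41443 rfl
theorem L74539 : N4187 = N6531 := eqe L74538 L40982
theorem L74540 : N6531 = N4187 := (eqc rfl L74539 rfl).symm
theorem L74544 : sm gg N4136 = N11019 := trf L74528 L65808 rfl
theorem L74545 : N11019 = N6532 := eqe L74544 L40986
theorem L74546 : N11019 = N6532 := eqc rfl L74545 rfl
theorem L74547 : sm gd N6532 = N6630 := trf L74546 L65810 rfl
theorem L74548 : N6630 = N10868 := eqe L74547 L64997
theorem L74549 : N10868 = N6630 := (eqc rfl L74548 rfl).symm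
theorem L74550 : sm ga N6630 = N6536 := trf L74549 L64994 rfl
theorem L74551 : N6536 = N11015 := eqe L74550 L65791
theorem L74552 : N11015 = N6536 := (eqc rfl L74551 rfl).symm
theorem L74562 : N6490 = N3429 := L72757.trans L72895
theorem L74572 : N8012 = N6652 := L74334.trans L74416
theorem L74577 : sm gg N6536 = N6627 := trf L74552 L65789 rfl
theorem L74578 : N6627 = N4138 := eqe L74577 L41009
theorem L74579 : N6627 = N4138 := eqc rfl L74578 rfl
theorem L74585 : sm gc N4138 = N4186 := trf L74579 L41429 rfl
theorem L74586 : N4186 = N6534 := eqe L74585 L41000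
theorem L74587 : N6534 = N4186 := (eqc rfl L74586 rfl).symm
theorem L74591 : N6535 = N4195 := L74348.trans L74432
theorem L74597 : sm gb N4186 = N8456 := trf L74587 L52118 rfl
theorem L74598 : N8456 = N6626 := eqe L74597 L41424
theorem L74599 : N8456 = N6626 := eqc rfl L74598 rfl
theorem L74602 : sm gd N4186 = N10873 := trf L74587 L65038 rfl
theorem L74603 : N10873 = N6501 := eqe L74602 L40831
theorem L74604 : N10873 = N6501 := eqc rfl L74603 rfl
theorem L74618 : sm gc N6501 = N10826 := trf L74604 L65043 rfl
theorem L74619 : N10826 = N10803 := eqe L74618 L64620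
theorem L74620 : N10826 = N10803 := eqc rfl L74619 rfl
theorem L74621 : sm ga N10803 = N6512 := trf L74620 L64774 rfl
theorem L74622 : N6512 = N6502 := eqe L74621 L64622
theorem L74623 : N6512 = N6502 := eqc rfl L74622 rfl
theorem L74624 : sm gd N10803 = N6510 := trf L74620 L64773 rfl
theorem L74625 : sm gd N6510 = N10803 := flp_d L74624
theorem L74628 : sm gd N6502 = N4128 := trf L74623 L40891 rfl
theorem L74629 : N4128 = N10805 := eqe L74628 L64636
theorem L74630 : N10805 = N4128 := (eqc rfl L74629 rfl).symm
theorem L74634 : sm gf N6502 = N10763 := trf L74623 L64393 rfl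
theorem L74635 : N10763 = N10754 := eqe L74634 L64341
theorem L74636 : N10763 = N10754 := eqc rfl L74635 rfl
theorem L74637 : sm gg N6502 = N10831 := trf L74623 L64793 rfl
theorem L74638 : N10831 = N10806 := eqe L74637 L64639
theorem L74639 : N10831 = N10806 := eqc rfl L74638 rfl
theorem L74640 : sm gd N10806 = N6513 := trf L74639 L64795 rfl
theorem L74642 : sm gd N10754 = N6481 := trf L74636 L64391 rfl
theorem L74646 : sm gd N4128 = N6502 := trf L74630 L64637 rfl
theorem L74647 : sm gd N6502 = N4128 := flp_d L74646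
theorem L74649 : sm gc N6626 = N5117 := trf L74599 L52116 L73584
theorem L74650 : N5117 = N11010 := eqe L74649 L65764
theorem L74651 : N11010 = N5117 := (eqc rfl L74650 rfl).symm
theorem L74655 : sm ge N5117 = N6647 := trf L74651 L65766 rfl
theorem L74656 : N6647 = N8417 := eqe L74655 L51917
theorem L74657 : N6647 = N4337 := eqc rfl L74656 L73025
theorem L74661 : sm gb N4337 = N11058 := trf L74657 L66030 rfl
theorem L74662 : N11058 = N4882 := eqe L74661 L39344
theorem L74663 : N11058 = N4882 := eqc rfl L74662 rfl
theorem L74673 : sm gg N4337 = N11061 := trf L74657 L66040 rfl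
theorem L74674 : N11061 = N4883 := eqe L74673 L39346
theorem L74675 : N11061 = N4883 := eqc rfl L74674 rfl
theorem L74676 : sm gc N4883 = N6649 := trf L74675 L66042 rfl
theorem L74677 : N6649 = N8003 := eqe L74676 L49143
theorem L74678 : N8003 = N6649 := (eqc rfl L74677 rfl).symm
theorem L74690 : sm gf N6649 = N7906 := trf L74678 L49149 rfl
theorem L74691 : N7906 = N11064 := eqe L74690 L66058
theorem L74692 : N11064 = N7906 := (eqc rfl L74691 rfl).symm
theorem L74699 : sm gf N7906 = N6649 := trf L74692 L66059 rfl
theorem L74700 : sm gf N6649 = N7906 := flp_f L74699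
theorem L74701 : sm gg N7906 = N11056 := trf L74692 L66064 rfl
theorem L74702 : N11056 = N6936 := eqe L74701 L48550
theorem L74703 : N11056 = N6936 := eqc rfl L74702 rfl
theorem L74710 : sm gd N6936 = N6690 := trf L74703 L66018 rfl
theorem L74711 : N6690 = N11474 := eqe L74710 L68498
theorem L74712 : N11474 = N6690 := (eqc rfl L74711 rfl).symm
theorem L74716 : sm gf N6936 = N6646 := trf L74703 L66015 rfl
theorem L74717 : N6646 = N4338 := eqe L74716 L43150
theorem L74718 : N6646 = N4338 := eqc rfl L74717 rfl
theorem L74727 : sm ge N4338 = N11009 := trf L74718 L65761 rfl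
theorem L74728 : N11009 = N5257 := eqe L74727 L34469
theorem L74729 : N11009 = N3419 := eqc rfl L74728 L72450
theorem L74733 : sm gd N3419 = N8816 := trf L74729 L65758 rfl
theorem L74734 : N8816 = N2552 := eqe L74733 L25358
theorem L74735 : N8816 = N2552 := eqc rfl L74734 rfl
theorem L74740 : sm ge N2552 = N7069 := trf L74735 L61453 rfl
theorem L74741 : N7069 = N3411 := eqe L74740 L25320
theorem L74742 : N7069 = N3411 := eqc rfl L74741 rfl
theorem L74743 : sm gf N2552 = N5349 := trf L74735 L53970 rfl
theorem L74744 : N5349 = N3390 := eqe L74743 L25244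
theorem L74745 : N5349 = N3390 := eqc rfl L74744 rfl
theorem L74749 : sm gb N3390 = N3545 := trf L74745 L34877 rfl
theorem L74750 : N3545 = N4992 := eqe L74749 L33277
theorem L74751 : N4992 = N3545 := (eqc rfl L74750 rfl).symm
theorem L74756 : sm ge N3390 = N8794 := trf L74745 L53844 rfl
theorem L74757 : N8794 = N5000 := eqe L74756 L33305
theorem L74758 : N8794 = N5000 := eqc rfl L74757 rfl
theorem L74762 : sm ga N5000 = N10823 := trf L74758 L64761 rfl
theorem L74763 : N10823 = N8195 := eqe L74762 L50834
theorem L74764 : N10823 = N8195 := eqc rfl L74763 rfl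
theorem L74765 : sm gb N5000 = N5341 := trf L74758 L53842 rfl
theorem L74766 : N5341 = N8171 := eqe L74765 L50732
theorem L74767 : N8171 = N5341 := (eqc rfl L74766 rfl).symm
theorem L74768 : sm gd N5000 = N7070 := trf L74758 L61447 rfl
theorem L74769 : N7070 = N8196 := eqe L74768 L50839
theorem L74770 : N8196 = N7070 := (eqc rfl L74769 rfl).symm
theorem L74774 : sm gf N7070 = N5058 := trf L74770 L50841 rfl
theorem L74775 : N5058 = N4416 := eqe L74774 L43953
theorem L74776 : N5058 = N4416 := eqc rfl L74775 rfl
theorem L74780 : sm gb N4416 = N3608 := trf L74776 L33546 rfl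
theorem L74781 : N3608 = N7068 := eqe L74780 L43940
theorem L74782 : N7068 = N3608 := (eqc rfl L74781 rfl).symm
theorem L74791 : sm gg N4416 = N8302 := trf L74776 L51363 rfl
theorem L74792 : N8302 = N7071 := eqe L74791 L43960
theorem L74793 : N8302 = N7071 := eqc rfl L74792 rfl
theorem L74794 : sm gd N7071 = N5059 := trf L74793 L51365 rfl
theorem L74795 : N5059 = N11687 := eqe L74794 L69586
theorem L74796 : N11687 = N5059 := (eqc rfl L74795 rfl).symm
theorem L74797 : sm ga N5059 = N10824 := trf L74796 L69583 rfl
theorem L74798 : N10824 = N8298 := eqe L74797 L51344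
theorem L74799 : N10824 = N8298 := eqc rfl L74798 rfl
theorem L74800 : sm gd N5059 = N7071 := trf L74796 L69585 rfl
theorem L74801 : sm gd N7071 = N5059 := flp_d L74800
theorem L74805 : sm gg N8298 = N6509 := trf L74799 L64767 rfl
theorem L74806 : N6509 = N5056 := eqe L74805 L51342
theorem L74807 : N6509 = N5056 := eqc rfl L74806 rfl
theorem L74809 : sm gb N5056 = N4127 := trf L74807 L40875 rfl
theorem L74810 : N4127 = N8294 := eqe L74809 L73200
theorem L74811 : N8294 = N4127 := (eqc rfl L74810 rfl).symm
theorem L74812 : sm gc N5056 = N10822 := trf L74807 L64754 rfl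
theorem L74813 : N10822 = N3410 := eqe L74812 L33531
theorem L74814 : N10822 = N3410 := eqc rfl L74813 rfl
theorem L74822 : sm gd N3410 = N10271 := trf L74814 L64757 rfl
theorem L74823 : N10271 = N4532 := eqe L74822 L30791
theorem L74824 : N10271 = N4532 := eqc rfl L74823 rfl
theorem L74825 : sm gc N4532 = N6179 := trf L74824 L61471 rfl
theorem L74826 : N6179 = N7291 := eqe L74825 L45173
theorem L74827 : N7291 = N6179 := (eqc rfl L74826 rfl).symm
theorem L74828 : sm ga N6179 = N4533 := trf L74827 L45175 rfl
theorem L74829 : N4533 = N10267 := eqe L74828 L61431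
theorem L74830 : N10267 = N4533 := (eqc rfl L74829 rfl).symm
theorem L74831 : sm gc N6179 = N4532 := trf L74827 L45174 rfl
theorem L74832 : sm gc N4532 = N6179 := flp_c L74831
theorem L74833 : sm ge N6179 = N4539 := trf L74827 L45177 rfl
theorem L74834 : N4539 = N10272 := eqe L74833 L61472
theorem L74835 : N10272 = N4539 := (eqc rfl L74834 rfl).symm
theorem L74836 : sm ge N4539 = N6179 := trf L74835 L61473 rfl
theorem L74837 : sm ge N6179 = N4539 := flp_e L74836
theorem L74838 : sm ga N4533 = N6179 := trf L74830 L61430 rfl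
theorem L74839 : sm ga N6179 = N4533 := flp_a L74838
theorem L74846 : sm ge N4127 = N5069 := trf L74811 L51327 rfl
theorem L74847 : N5069 = N6501 := eqe L74846 L40833
theorem L74848 : N6501 = N5069 := (eqc rfl L74847 rfl).symm
theorem L74849 : sm gf N4127 = N5055 := trf L74811 L51326 rfl
theorem L74850 : N5055 = N6480 := eqe L74849 L40725
theorem L74851 : N6480 = N5055 := (eqc rfl L74850 rfl).symm
theorem L74857 : sm gc N5055 = N10762 := trf L74851 L64384 rfl
theorem L74858 : N10762 = N8293 := eqe L74857 L51321
theorem L74859 : N10762 = N8293 := eqc rfl L74858 rfl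
theorem L74860 : sm gd N5055 = N4116 := trf L74851 L40722 rfl
theorem L74861 : N4116 = N7290 := eqe L74860 L45170
theorem L74862 : N7290 = N4116 := (eqc rfl L74861 rfl).symm
theorem L74866 : sm gf N5055 = N4127 := trf L74851 L40724 rfl
theorem L74867 : sm gf N4127 = N5055 := flp_f L74866
theorem L74868 : sm gg N5055 = N6515 := trf L74851 L40910 rfl
theorem L74869 : N6515 = N8295 := eqe L74868 L51329
theorem L74870 : N8295 = N6515 := (eqc rfl L74869 rfl).symm
theorem L74871 : sm ge N6515 = N5070 := trf L74870 L51331 rfl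
theorem L74872 : N5070 = N10808 := eqe L74871 L64660
theorem L74873 : N10808 = N5070 := (eqc rfl L74872 rfl).symm
theorem L74874 : sm gg N6515 = N5055 := trf L74870 L51330 rfl
theorem L74875 : sm gg N5055 = N6515 := flp_g L74874
theorem L74879 : sm gd N5070 = N6632 := trf L74873 L64657 rfl
theorem L74880 : N6632 = N3431 := eqe L74879 L33612
theorem L74881 : N6632 = N3431 := eqc rfl L74880 rfl
theorem L74882 : sm ge N5070 = N6515 := trf L74873 L64659 rfl
theorem L74883 : sm ge N6515 = N5070 := flp_e L74882
theorem L74884 : sm gf N5070 = N6503 := trf L74873 L64654 rfl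
theorem L74885 : N6503 = N8329 := eqe L74884 L51501
theorem L74886 : N8329 = N6503 := (eqc rfl L74885 rfl).symm
theorem L74891 : sm gd N6503 = N5104 := trf L74886 L51505 rfl
theorem L74892 : N5104 = N4188 := eqe L74891 L40841
theorem L74893 : N5104 = N4188 := eqc rfl L74892 rfl
theorem L74894 : sm gf N6503 = N5070 := trf L74886 L51502 rfl
theorem L74895 : sm gf N5070 = N6503 := flp_f L74894
theorem L74896 : sm gg N6503 = N8321 := trf L74886 L51507 rfl
theorem L74897 : N8321 = N4123 := eqe L74896 L40840
theorem L74898 : N8321 = N4123 := eqc rfl L74897 rfl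
theorem L74904 : sm gd N4123 = N5096 := trf L74898 L51467 rfl
theorem L74905 : N5096 = N2965 := eqe L74904 L28764
theorem L74906 : N5096 = N2965 := eqc rfl L74905 rfl
theorem L74909 : sm ga N2965 = N3430 := trf L74906 L33730 rfl
theorem L74910 : N3430 = N4186 := eqe L74909 L29084
theorem L74911 : N4186 = N3430 := (eqc rfl L74910 rfl).symm
theorem L74915 : sm gc N2965 = N7101 := trf L74906 L44137 rfl
theorem L74916 : N7101 = N4187 := eqe L74915 L29088
theorem L74917 : N7101 = N4187 := eqc rfl L74916 rfl
theorem L74918 : sm ge N2965 = N7330 := trf L74906 L45384 rfl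
theorem L74919 : N7330 = N2328 := eqe L74918 L22803
theorem L74920 : N7330 = N2328 := eqc rfl L74919 rfl
theorem L74924 : sm ga N2328 = N4552 := trf L74920 L45379 rfl
theorem L74925 : N4552 = N2969 := eqe L74924 L22827
theorem L74926 : N4552 = N2969 := eqc rfl L74925 rfl
theorem L74933 : sm gf N2328 = N4550 := trf L74920 L45378 rfl
theorem L74934 : N4550 = N2954 := eqe L74933 L22750
theorem L74935 : N4550 = N2954 := eqc rfl L74934 rfl
theorem L74936 : sm gg N2328 = N7337 := trf L74920 L45434 rfl
theorem L74937 : N7337 = N2971 := eqe L74936 L22833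
theorem L74938 : N7337 = N2971 := eqc rfl L74937 rfl
theorem L74942 : sm gb N2971 = N8991 := trf L74938 L54801 rfl
theorem L74943 : N8991 = N4199 := eqe L74942 L29138
theorem L74944 : N8991 = N4199 := eqc rfl L74943 rfl
theorem L74949 : sm gf N2971 = N4553 := trf L74938 L45428 rfl
theorem L74950 : N4553 = N4200 := eqe L74949 L29144
theorem L74951 : N4553 = N4200 := eqc rfl L74950 rfl
theorem L74955 : sm gb N4200 = N7336 := trf L74951 L45421 rfl
theorem L74956 : N7336 = N6662 := eqe L74955 L41600
theorem L74957 : N7336 = N6662 := eqc rfl L74956 rfl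
theorem L74958 : sm gc N4200 = N7334 := trf L74951 L45410 rfl
theorem L74959 : sm gc N7334 = N4200 := flp_c L74958
theorem L74965 : sm gg N4200 = N3150 := trf L74951 L30903 rfl
theorem L74966 : N3150 = N4165 := eqe L74965 L29150
theorem L74967 : N4165 = N3150 := (eqc rfl L74966 rfl).symm
theorem L74973 : sm gc N3150 = N3329 := trf L74967 L41228 L74445
theorem L74974 : N3329 = N4551 := eqe L74973 L30894
theorem L74975 : N4551 = N3329 := (eqc rfl L74974 rfl).symm
theorem L74976 : sm gd N3150 = N2958 := trf L74967 L29002 rfl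
theorem L74977 : N2958 = N4538 := eqe L74976 L30827
theorem L74978 : N4538 = N2958 := (eqc rfl L74977 rfl).symm
theorem L74984 : sm gg N3150 = N4200 := trf L74967 L29151 rfl
theorem L74985 : sm gg N4200 = N3150 := flp_g L74984
theorem L74996 : sm gb N2958 = N3144 := trf L74978 L30825 rfl
theorem L74997 : N3144 = N4173 := eqe L74996 L29036
theorem L74998 : N4173 = N3144 := (eqc rfl L74997 rfl).symm
theorem L75002 : sm gd N2958 = N3150 := trf L74978 L30826 rfl
theorem L75003 : sm gd N3150 = N2958 := flp_d L75002
theorem L75005 : sm gf N2958 = N7304 := trf L74978 L45259 rfl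
theorem L75006 : N7304 = N2332 := eqe L75005 L22777
theorem L75007 : N7304 = N2332 := eqc rfl L75006 rfl
theorem L75009 : sm gb N2332 = N11471 := trf L75007 L68486 rfl
theorem L75010 : N11471 = N2977 := eqe L75009 L22855
theorem L75011 : N11471 = N2977 := eqc rfl L75010 rfl
theorem L75015 : sm gf N2977 = N7245 := trf L75011 L68487 rfl
theorem L75016 : N7245 = N4216 := eqe L75015 L29220
theorem L75017 : N7245 = N4216 := eqc rfl L75016 rfl
theorem L75019 : sm gb N4216 = N4511 := trf L75017 L44922 rfl
theorem L75020 : N4511 = N6596 := eqe L75019 L41307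
theorem L75021 : N6596 = N4511 := (eqc rfl L75020 rfl).symm
theorem L75027 : sm gb N4511 = N4216 := trf L75021 L41306 rfl
theorem L75029 : sm gc N4511 = N4244 := trf L75021 L58915 L73935
theorem L75030 : N4244 = N7246 := eqe L75029 L44925
theorem L75031 : N7246 = N4244 := (eqc rfl L75030 rfl).symm
theorem L75035 : sm ge N4511 = N10778 := trf L75021 L64461 rfl
theorem L75036 : N10778 = N7237 := eqe L75035 L44874
theorem L75037 : N10778 = N7237 := eqc rfl L75036 rfl
theorem L75039 : sm gg N4511 = N10966 := trf L75021 L65530 rfl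
theorem L75040 : N10966 = N4543 := eqe L75039 L30855
theorem L75041 : N10966 = N4543 := eqc rfl L75040 rfl
theorem L75045 : sm gb N4543 = N11277 := trf L75041 L67300 rfl
theorem L75046 : N11277 = N7315 := eqe L75045 L45307
theorem L75047 : N11277 = N7315 := eqc rfl L75046 rfl
theorem L75051 : sm gf N4543 = N10962 := trf L75041 L65533 rfl
theorem L75052 : N10962 = N3146 := eqe L75051 L30849
theorem L75053 : N10962 = N3146 := eqc rfl L75052 rfl
theorem L75057 : sm gb N3146 = N8444 := trf L75053 L65518 rfl
theorem L75058 : N8444 = N3267 := eqe L75057 L24500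
theorem L75059 : N8444 = N3267 := eqc rfl L75058 rfl
theorem L75060 : sm gg N3146 = N6594 := trf L75053 L65515 rfl
theorem L75061 : N6594 = N2416 := eqe L75060 L23726
theorem L75062 : N6594 = N2416 := eqc rfl L75061 rfl
theorem L75071 : sm ge N2416 = N10776 := trf L75062 L64451 rfl
theorem L75072 : N10776 = N3142 := eqe L75071 L23710
theorem L75073 : N10776 = N3142 := eqc rfl L75072 rfl
theorem L75084 : sm gf N3142 = N11747 := trf L75073 L69967 rfl
theorem L75085 : N11747 = N4507 := eqe L75084 L30659
theorem L75086 : N11747 = N4507 := eqc rfl L75085 rfl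
theorem L75091 : sm gc N4507 = N7107 := trf L75086 L69961 rfl
theorem L75092 : N7107 = N7238 := eqe L75091 L44877
theorem L75093 : N7238 = N7107 := (eqc rfl L75092 rfl).symm
theorem L75095 : sm gb N7107 = N11250 := trf L75093 L67094 rfl
theorem L75096 : N11250 = N4435 := eqe L75095 L44167
theorem L75097 : N11250 = N4435 := eqc rfl L75096 rfl
theorem L75098 : sm gc N7107 = N4507 := trf L75093 L44878 rfl
theorem L75099 : sm gc N4507 = N7107 := flp_c L75098
theorem L75100 : sm ge N7107 = N4512 := trf L75093 L44879 rfl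
theorem L75104 : sm gc N4435 = N6770 := trf L75097 L67088 rfl
theorem L75105 : N6770 = N7092 := eqe L75104 L44077
theorem L75106 : N7092 = N6770 := (eqc rfl L75105 rfl).symm
theorem L75107 : sm ge N4435 = N7231 := trf L75097 L67089 rfl
theorem L75108 : N7231 = N4454 := eqe L75107 L30337
theorem L75109 : N7231 = N4454 := eqc rfl L75108 rfl
theorem L75110 : sm gf N4435 = N6783 := trf L75097 L67091 rfl
theorem L75111 : N6783 = N3089 := eqe L75110 L30241
theorem L75112 : N6783 = N3089 := eqc rfl L75111 rfl
theorem L75116 : sm gb N3089 = N6571 := trf L75112 L42166 rfl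
theorem L75117 : N6571 = N4433 := eqe L75116 L30234
theorem L75118 : N6571 = N4433 := eqc rfl L75117 rfl
theorem L75121 : sm gd N3089 = N9892 := trf L75112 L67179 L74523
theorem L75122 : N9892 = N4434 := eqe L75121 L30236
theorem L75123 : N9892 = N4434 := eqc rfl L75122 rfl
theorem L75135 : sm gb N4434 = N5938 := trf L75123 L59408 rfl
theorem L75136 : N5938 = N7100 := eqe L75135 L44131
theorem L75137 : N7100 = N5938 := (eqc rfl L75136 rfl).symm
theorem L75143 : sm gb N5938 = N4434 := trf L75137 L44130 rfl
theorem L75144 : sm gb N4434 = N5938 := flp_b L75143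
theorem L75156 : sm gg N5938 = N11735 := trf L75137 L69884 rfl
theorem L75157 : N11735 = N6537 := eqe L75156 L74179
theorem L75158 : N11735 = N6537 := eqc rfl L75157 rfl
theorem L75162 : sm gd N6537 = N7102 := trf L75158 L69888 rfl
theorem L75163 : N7102 = N10877 := eqe L75162 L65065
theorem L75164 : N10877 = N7102 := (eqc rfl L75163 rfl).symm
theorem L75165 : sm gf N6537 = N9866 := trf L75158 L69890 rfl
theorem L75166 : N9866 = N4139 := eqe L75165 L41015
theorem L75167 : N9866 = N4139 := eqc rfl L75166 rfl
theorem L75172 : sm gg N4139 = N8386 := trf L75167 L59240 rfl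
theorem L75173 : N8386 = N2941 := eqe L75172 L28847
theorem L75174 : N8386 = N2941 := eqc rfl L75173 rfl
theorem L75179 : sm gd N2941 = N5100 := trf L75174 L51763 rfl
theorem L75180 : N5100 = N4138 := eqe L75179 L28842
theorem L75181 : N5100 = N4138 := eqc rfl L75180 rfl
theorem L75191 : sm ge N4138 = N7333 := trf L75181 L45404 rfl
theorem L75192 : N7333 = N6535 := eqe L75191 L41002
theorem L75193 : N7333 = N4195 := eqc rfl L75192 L74591
theorem L75199 : sm gb N4195 = N8002 := trf L75193 L49141 rfl
theorem L75200 : N8002 = N6650 := eqe L75199 L41550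
theorem L75201 : N8002 = N6650 := eqc rfl L75200 rfl
theorem L75216 : sm gg N6650 = N2994 := trf L75201 L49134 L74342
theorem L75217 : N2994 = N11068 := eqe L75216 L66074
theorem L75218 : N11068 = N2994 := (eqc rfl L75217 rfl).symm
theorem L75219 : sm gg N2994 = N6650 := trf L75218 L66075 rfl
theorem L75220 : N6650 = N4150 := eqe L75219 L28929
theorem L75221 : N6650 = N4150 := eqc rfl L75220 rfl
theorem L75225 : sm gc N4150 = N4882 := trf L75221 L66033 L74663
theorem L75226 : N4882 = N5148 := eqe L75225 L33941
theorem L75227 : N5148 = N4882 := (eqc rfl L75226 rfl).symm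
theorem L75231 : sm ga N4882 = N4432 := trf L75227 L33938 rfl
theorem L75232 : N4432 = N4325 := eqe L75231 L39408
theorem L75233 : N4432 = N4325 := eqc rfl L75232 rfl
theorem L75235 : sm gc N4882 = N4150 := trf L75227 L33940 rfl
theorem L75236 : sm gc N4150 = N4882 := flp_c L75235
theorem L75239 : sm ge N4882 = N3449 := trf L75227 L33937 rfl
theorem L75240 : N3449 = N3805 := eqe L75239 L32698
theorem L75241 : N3805 = N3449 := (eqc rfl L75240 rfl).symm
theorem L75245 : sm gg N4882 = N4098 := trf L75227 L33944 rfl
theorem L75246 : N4098 = N3314 := eqe L75245 L32697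
theorem L75247 : N4098 = N3314 := eqc rfl L75246 rfl
theorem L75248 : sm ga N3314 = N3933 := trf L75247 L28618 rfl
theorem L75249 : N3933 = N4880 := eqe L75248 L32686
theorem L75250 : N4880 = N3933 := (eqc rfl L75249 rfl).symm
theorem L75256 : sm ge N3314 = N2920 := trf L75247 L28617 rfl
theorem L75257 : N2920 = N2744 := eqe L75256 L24775
theorem L75258 : N2920 = N2744 := eqc rfl L75257 rfl
theorem L75261 : sm ga N2744 = N2823 := trf L75258 L22563 rfl
theorem L75262 : N2823 = N3803 := eqe L75261 L27038
theorem L75263 : N3803 = N2823 := (eqc rfl L75262 rfl).symm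
theorem L75267 : sm gc N2744 = N2340 := trf L75258 L22567 rfl
theorem L75268 : N2340 = N3804 := eqe L75267 L27040
theorem L75269 : N3804 = N2340 := (eqc rfl L75268 rfl).symm
theorem L75270 : sm gd N2744 = N2302 := trf L75258 L22562 rfl
theorem L75271 : N2302 = N3799 := eqe L75270 L27019
theorem L75272 : N3799 = N2302 := (eqc rfl L75271 rfl).symm
theorem L75280 : sm gb N2302 = N2742 := trf L75272 L27017 rfl
theorem L75281 : N2742 = N2915 := eqe L75280 L22550
theorem L75282 : N2915 = N2742 := (eqc rfl L75281 rfl).symm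
theorem L75286 : sm gd N2302 = N2744 := trf L75272 L27018 rfl
theorem L75287 : sm gd N2744 = N2302 := flp_d L75286
theorem L75288 : sm ge N2302 = N5224 := trf L75272 L34295 rfl
theorem L75289 : N5224 = N2264 := eqe L75288 L19484
theorem L75290 : N5224 = N2264 := eqc rfl L75289 rfl
theorem L75302 : sm gg N2264 = N8599 := trf L75290 L52783 rfl
theorem L75303 : N8599 = N2359 := eqe L75302 L19787
theorem L75304 : N8599 = N2359 := eqc rfl L75303 rfl
theorem L75311 : sm gf N2359 = N9817 := trf L75304 L58807 rfl
theorem L75312 : N9817 = N2386 := eqe L75311 L19903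
theorem L75313 : N9817 = N2386 := eqc rfl L75312 rfl
theorem L75318 : sm gd N2386 = N5894 := trf L75313 L58804 rfl
theorem L75319 : N5894 = N3088 := eqe L75318 L23399
theorem L75320 : N5894 = N3088 := eqc rfl L75319 rfl
theorem L75326 : sm gc N3088 = N9837 := trf L75320 L58929 rfl
theorem L75327 : N9837 = N3098 := eqe L75326 L23454
theorem L75328 : N9837 = N3098 := eqc rfl L75327 rfl
theorem L75339 : sm gg N3098 = N5893 := trf L75328 L58925 rfl
theorem L75340 : N5893 = N2993 := eqe L75339 L23457
theorem L75341 : N5893 = N2993 := eqc rfl L75340 rfl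
theorem L75351 : sm gf N2993 = N8605 := trf L75341 L52828 rfl
theorem L75352 : N8605 = N2388 := eqe L75351 L22925
theorem L75353 : N8605 = N2388 := eqc rfl L75352 rfl
theorem L75357 : sm gc N2388 = N5228 := trf L75353 L52824 rfl
theorem L75358 : N5228 = N2265 := eqe L75357 L19914
theorem L75359 : N5228 = N2265 := eqc rfl L75358 rfl
theorem L75366 : sm ge N2265 = N7402 := trf L75359 L45820 rfl
theorem L75367 : N7402 = N2842 := eqe L75366 L22073
theorem L75368 : N7402 = N2842 := eqc rfl L75367 rfl
theorem L75380 : sm gb N2842 = N6176 := trf L75368 L45825 rfl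
theorem L75381 : N6176 = N3962 := eqe L75380 L27862
theorem L75382 : N6176 = N3962 := eqc rfl L75381 rfl
theorem L75386 : sm ga N3962 = N3955 := trf L75382 L38744 rfl
theorem L75387 : N3955 = N6190 := eqe L75386 L38831
theorem L75388 : N6190 = N3955 := (eqc rfl L75387 rfl).symm
theorem L75389 : sm gc N3962 = N10268 := trf L75382 L61439 rfl
theorem L75390 : N10268 = N6197 := eqe L75389 L38859
theorem L75391 : N10268 = N6197 := eqc rfl L75390 rfl
theorem L75392 : sm gd N3962 = N7066 := trf L75382 L43913 rfl
theorem L75393 : N7066 = N6134 := eqe L75392 L38541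
theorem L75394 : N7066 = N6134 := eqc rfl L75393 rfl
theorem L75396 : sm gf N3962 = N3953 := trf L75382 L38743 rfl
theorem L75397 : N3953 = N6159 := eqe L75396 L38673
theorem L75398 : N6159 = N3953 := (eqc rfl L75397 rfl).symm
theorem L75399 : sm gg N3962 = N6184 := trf L75382 L38803 rfl
theorem L75400 : N6184 = N6199 := eqe L75399 L38864
theorem L75401 : N6199 = N6184 := (eqc rfl L75400 rfl).symm
theorem L75402 : sm ga N6184 = N10292 := trf L75401 L61583 rfl
theorem L75403 : N10292 = N6182 := eqe L75402 L38800
theorem L75404 : N10292 = N6182 := eqc rfl L75403 rfl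
theorem L75408 : sm gc N6184 = N10303 := trf L75401 L61641 rfl
theorem L75409 : N10303 = N10277 := eqe L75408 L61495
theorem L75410 : N10303 = N10277 := eqc rfl L75409 rfl
theorem L75417 : sm gf N6184 = N10307 := trf L75401 L61660 rfl
theorem L75418 : N10307 = N3956 := eqe L75417 L38799
theorem L75419 : N10307 = N3956 := eqc rfl L75418 rfl
theorem L75420 : sm gg N6184 = N3962 := trf L75401 L38865 rfl
theorem L75428 : sm gg N3956 = N10238 := trf L75419 L61666 rfl
theorem L75429 : N10238 = N2835 := eqe L75428 L27840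
theorem L75430 : N10238 = N2835 := eqc rfl L75429 rfl
theorem L75432 : sm ge N2835 = N6157 := trf L75430 L61289 rfl
theorem L75433 : N6157 = N3927 := eqe L75432 L27730
theorem L75434 : N6157 = N3927 := eqc rfl L75433 rfl
theorem L75436 : sm ga N3927 = N3944 := trf L75434 L38662 rfl
theorem L75437 : N3944 = N6125 := eqe L75436 L38496
theorem L75438 : N6125 = N3944 := (eqc rfl L75437 rfl).symm
theorem L75445 : sm gd N3927 = N3943 := trf L75434 L38661 rfl
theorem L75446 : N3943 = N6119 := eqe L75445 L38467
theorem L75447 : N6119 = N3943 := (eqc rfl L75446 rfl).symm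
theorem L75448 : sm gf N3927 = N3958 := trf L75434 L38664 rfl
theorem L75449 : N3958 = N6127 := eqe L75448 L38504
theorem L75450 : N6127 = N3958 := (eqc rfl L75449 rfl).symm
theorem L75453 : sm gb N3958 = N6788 := trf L75450 L42200 rfl
theorem L75454 : N6788 = N6186 := eqe L75453 L38813
theorem L75455 : N6788 = N6186 := eqc rfl L75454 rfl
theorem L75456 : sm gc N3958 = N4452 := trf L75450 L61013 L74015
theorem L75457 : N4452 = N6189 := eqe L75456 L38822
theorem L75458 : N6189 = N4452 := (eqc rfl L75457 rfl).symm
theorem L75464 : sm gf N3958 = N3927 := trf L75450 L38505 rfl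
theorem L75466 : sm gg N3958 = N10194 := trf L75450 L61026 rfl
theorem L75467 : N10194 = N6191 := eqe L75466 L38832
theorem L75468 : N10194 = N6191 := eqc rfl L75467 rfl
theorem L75475 : sm gf N6191 = N10189 := trf L75468 L61031 rfl
theorem L75476 : N10189 = N6160 := eqe L75475 L38838
theorem L75477 : N10189 = N6160 := eqc rfl L75476 rfl
theorem L75483 : sm gc N6160 = N6700 := trf L75477 L60990 rfl
theorem L75484 : N6700 = N10242 := eqe L75483 L61313
theorem L75485 : N10242 = N6700 := (eqc rfl L75484 rfl).symm
theorem L75500 : sm gg N6700 = N6158 := trf L75485 L61311 rfl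
theorem L75501 : N6158 = N4218 := eqe L75500 L41779
theorem L75502 : N6158 = N4218 := eqc rfl L75501 rfl
theorem L75515 : sm gf N4218 = N3961 := trf L75502 L38668 rfl
theorem L75516 : N3961 = N6699 := eqe L75515 L41776
theorem L75517 : N6699 = N3961 := (eqc rfl L75516 rfl).symm
theorem L75520 : sm gb N3961 = N9893 := trf L75517 L74128 rfl
theorem L75521 : N9893 = N4437 := eqe L75520 L30253
theorem L75522 : N9893 = N4437 := eqc rfl L75521 rfl
theorem L75524 : sm gd N3961 = N4457 := trf L75517 L74076 rfl
theorem L75525 : N4457 = N6196 := eqe L75524 L38850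
theorem L75526 : N6196 = N4457 := (eqc rfl L75525 rfl).symm
theorem L75528 : sm gf N3961 = N4218 := trf L75517 L41777 rfl
theorem L75529 : sm gf N4218 = N3961 := flp_f L75528
theorem L75530 : sm gg N3961 = N11161 := trf L75517 L66503 rfl
theorem L75531 : N11161 = N6198 := eqe L75530 L38860
theorem L75532 : N11161 = N6198 := eqc rfl L75531 rfl
theorem L75538 : sm ga N4457 = N4423 := trf L75526 L38852 rfl
theorem L75539 : N4423 = N3101 := eqe L75538 L30355
theorem L75540 : N4423 = N3101 := eqc rfl L75539 rfl
theorem L75544 : sm gc N4457 = N4420 := trf L75526 L38855 rfl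
theorem L75545 : N4420 = N4459 := eqe L75544 L30367
theorem L75546 : N4459 = N4420 := (eqc rfl L75545 rfl).symm
theorem L75547 : sm gd N4457 = N3961 := trf L75526 L38851 rfl
theorem L75548 : sm gd N3961 = N4457 := flp_d L75547
theorem L75553 : sm gg N4457 = N10301 := trf L75526 L61628 rfl
theorem L75554 : N10301 = N7146 := eqe L75553 L44358
theorem L75555 : N10301 = N7146 := eqc rfl L75554 rfl
theorem L75556 : sm ga N7146 = N7084 := trf L75555 L61630 rfl
theorem L75557 : N7084 = N4458 := eqe L75556 L44360
theorem L75558 : N7084 = N4458 := eqc rfl L75557 rfl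
theorem L75559 : sm gc N7146 = N7079 := trf L75555 L61632 rfl
theorem L75560 : N7079 = N7151 := eqe L75559 L44395
theorem L75561 : N7151 = N7079 := (eqc rfl L75560 rfl).symm
theorem L75564 : N11812 = N6198 := L74029.trans L75532
theorem L75565 : sm gf N7146 = N11667 := trf L75555 L69469 rfl
theorem L75566 : N11667 = N7144 := eqe L75565 L44364
theorem L75567 : N11667 = N7144 := eqc rfl L75566 rfl
theorem L75569 : sm gc N7144 = N7056 := trf L75567 L69465 rfl
theorem L75570 : N7056 = N7156 := eqe L75569 L44417
theorem L75571 : N7156 = N7056 := (eqc rfl L75570 rfl).symm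
theorem L75574 : sm gg N7144 = N7054 := trf L75567 L69464 rfl
theorem L75575 : N7054 = N4455 := eqe L75574 L44351
theorem L75576 : N7054 = N4455 := eqc rfl L75575 rfl
theorem L75581 : sm gc N4455 = N4409 := trf L75576 L43839 rfl
theorem L75582 : N4409 = N4461 := eqe L75581 L30375
theorem L75583 : N4461 = N4409 := (eqc rfl L75582 rfl).symm
theorem L75586 : sm ge N4455 = N11666 := trf L75576 L69457 rfl
theorem L75587 : N11666 = N4245 := eqe L75586 L30342
theorem L75588 : N11666 = N4245 := eqc rfl L75587 rfl
theorem L75591 : sm gf N4245 = N7083 := trf L75588 L69461 rfl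
theorem L75592 : N7083 = N2992 := eqe L75591 L29321
theorem L75593 : N7083 = N2992 := eqc rfl L75592 rfl
theorem L75598 : sm gc N2992 = N4424 := trf L75593 L44022 rfl
theorem L75599 : N4424 = N3164 := eqe L75598 L23826
theorem L75600 : N4424 = N3164 := eqc rfl L75599 rfl
theorem L75605 : sm gg N2992 = N11705 := trf L75593 L69671 rfl
theorem L75606 : N11705 = N4246 := eqe L75605 L29324
theorem L75607 : N11705 = N4246 := eqc rfl L75606 rfl
theorem L75608 : sm gc N4246 = N7085 := trf L75607 L69673 rfl
theorem L75609 : N7085 = N4582 := eqe L75608 L31055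
theorem L75610 : N7085 = N4582 := eqc rfl L75609 rfl
theorem L75615 : sm gb N4582 = N5662 := trf L75610 L44032 rfl
theorem L75616 : N5662 = N4859 := eqe L75615 L32556
theorem L75617 : N5662 = N4859 := eqc rfl L75616 rfl
theorem L75618 : sm gd N4582 = N10509 := trf L75610 L62877 rfl
theorem L75619 : N10509 = N7396 := eqe L75618 L45782
theorem L75620 : N10509 = N7396 := eqc rfl L75619 rfl
theorem L75621 : sm ge N4582 = N4425 := trf L75610 L44030 rfl
theorem L75622 : N4425 = N4462 := eqe L75621 L31056
theorem L75623 : N4462 = N4425 := (eqc rfl L75622 rfl).symm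
theorem L75624 : sm gf N4582 = N11708 := trf L75610 L69691 rfl
theorem L75625 : N11708 = N7398 := eqe L75624 L45791
theorem L75626 : N11708 = N7398 := eqc rfl L75625 rfl
theorem L75628 : sm ga N7398 = N11668 := trf L75626 L69693 rfl
theorem L75629 : N11668 = N7397 := eqe L75628 L45793
theorem L75630 : N11668 = N7397 := eqc rfl L75629 rfl
theorem L75631 : sm ge N7398 = N7086 := trf L75626 L69695 rfl
theorem L75632 : N7086 = N7157 := eqe L75631 L45797
theorem L75633 : N7157 = N7086 := (eqc rfl L75632 rfl).symm
theorem L75634 : sm gg N7398 = N11664 := trf L75626 L69697 rfl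
theorem L75635 : N11664 = N7391 := eqe L75634 L45799
theorem L75636 : N11664 = N7391 := eqc rfl L75635 rfl
theorem L75638 : sm ge N7391 = N7053 := trf L75636 L69448 rfl
theorem L75639 : N7053 = N7150 := eqe L75638 L45751
theorem L75640 : N7150 = N7053 := (eqc rfl L75639 rfl).symm
theorem L75641 : sm gf N7391 = N7078 := trf L75636 L69451 rfl
theorem L75642 : N7078 = N4579 := eqe L75641 L45746
theorem L75643 : N7078 = N4579 := eqc rfl L75642 rfl
theorem L75645 : sm gb N4579 = N11692 := trf L75643 L69614 rfl
theorem L75646 : N11692 = N7389 := eqe L75645 L45735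
theorem L75647 : N11692 = N7389 := eqc rfl L75646 rfl
theorem L75649 : sm gd N4579 = N10525 := trf L75643 L62979 rfl
theorem L75650 : N10525 = N7390 := eqe L75649 L45741
theorem L75651 : N10525 = N7390 := eqc rfl L75650 rfl
theorem L75655 : sm ga N7390 = N6338 := trf L75651 L62976 rfl
theorem L75656 : N6338 = N4580 := eqe L75655 L45743
theorem L75657 : N6338 = N4580 := eqc rfl L75656 rfl
theorem L75658 : sm ge N7390 = N6334 := trf L75651 L62975 rfl
theorem L75659 : sm ge N6334 = N7390 := flp_e L75658
theorem L75660 : sm gb N4580 = N4036 := trf L75657 L39976 rfl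
theorem L75661 : N4036 = N3165 := eqe L75660 L31042
theorem L75662 : N4036 = N3165 := eqc rfl L75661 rfl
theorem L75663 : sm gc N4580 = N10530 := trf L75657 L63009 rfl
theorem L75664 : N10530 = N7393 := eqe L75663 L45763
theorem L75665 : N10530 = N7393 := eqc rfl L75664 rfl
theorem L75667 : sm ge N4580 = N4033 := trf L75657 L39975 rfl
theorem L75668 : N4033 = N7394 := eqe L75667 L45767
theorem L75669 : N7394 = N4033 := (eqc rfl L75668 rfl).symm
theorem L75670 : sm gf N4580 = N10532 := trf L75657 L63014 rfl
theorem L75671 : N10532 = N7395 := eqe L75670 L45773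
theorem L75672 : N10532 = N7395 := eqc rfl L75671 rfl
theorem L75677 : sm ge N7395 = N6339 := trf L75672 L63018 rfl
theorem L75682 : sm gd N4033 = N7153 := trf L75669 L45771 rfl
theorem L75683 : N7153 = N2875 := eqe L75682 L28246
theorem L75684 : N7153 = N2875 := eqc rfl L75683 rfl
theorem L75685 : sm ge N4033 = N4580 := trf L75669 L45768 rfl
theorem L75686 : sm ge N4580 = N4033 := flp_e L75685
theorem L75702 : sm gg N2875 = N11835 := trf L75684 L70424 rfl
theorem L75703 : N11835 = N4027 := eqe L75702 L28216
theorem L75704 : N11835 = N4027 := eqc rfl L75703 rfl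
theorem L75708 : sm ge N4027 = N7155 := trf L75704 L70426 rfl
theorem L75709 : N7155 = N3085 := eqe L75708 L28213
theorem L75710 : N7155 = N3085 := eqc rfl L75709 rfl
theorem L75721 : sm gf N3085 = N11837 := trf L75710 L70436 rfl
theorem L75722 : N11837 = N4426 := eqe L75721 L30186
theorem L75723 : N11837 = N4426 := eqc rfl L75722 rfl
theorem L75729 : sm gg N4426 = N11827 := trf L75723 L70442 rfl
theorem L75730 : N11827 = N4408 := eqe L75729 L30192
theorem L75731 : N11827 = N4408 := eqc rfl L75730 rfl
theorem L75735 : sm gb N4408 = N9857 := trf L75731 L70394 rfl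
theorem L75736 : N9857 = N7052 := eqe L75735 L43830
theorem L75737 : N9857 = N7052 := eqc rfl L75736 rfl
theorem L75739 : sm gf N4408 = N7149 := trf L75731 L70389 rfl
theorem L75740 : N7149 = N3082 := eqe L75739 L30108
theorem L75741 : N7149 = N3082 := eqc rfl L75740 rfl
theorem L75743 : sm gb N3082 = N11823 := trf L75741 L70375 rfl
theorem L75744 : N11823 = N4419 := eqe L75743 L30156
theorem L75745 : N11823 = N4419 := eqc rfl L75744 rfl
theorem L75746 : sm gc N3082 = N11825 := trf L75741 L70380 rfl
theorem L75747 : N11825 = N2383 := eqe L75746 L23364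
theorem L75748 : N11825 = N2383 := eqc rfl L75747 rfl
theorem L75752 : sm ga N2383 = N7152 := trf L75748 L70382 rfl
theorem L75753 : N7152 = N1864 := eqe L75752 L19885
theorem L75754 : N7152 = N1864 := eqc rfl L75753 rfl
theorem L75759 : sm gd N1864 = N11830 := trf L75754 L70404 rfl
theorem L75760 : N11830 = N1487 := eqe L75759 L9441
theorem L75761 : N11830 = N1487 := eqc rfl L75760 rfl
theorem L75768 : sm gb N1487 = N11863 := trf L75761 L70582 rfl
theorem L75769 : N11863 = N744 := eqe L75768 L7507
theorem L75770 : N11863 = N744 := eqc rfl L75769 rfl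
theorem L75772 : sm gc N744 = N7168 := trf L75770 L70577 rfl
theorem L75773 : N7168 = N363 := eqe L75772 L3591
theorem L75774 : N7168 = N363 := eqc rfl L75773 rfl
theorem L75791 : sm gg N363 = N11866 := trf L75774 L70594 rfl
theorem L75792 : N11866 = N230 := eqe L75791 L1793
theorem L75793 : N11866 = N230 := eqc rfl L75792 rfl
theorem L75800 : sm gf N230 = N11878 := trf L75793 L70660 rfl
theorem L75801 : N11878 = N122 := eqe L75800 L1203
theorem L75802 : N11878 = N122 := eqc rfl L75801 rfl
theorem L75809 : sm gg N122 = N7174 := trf L75802 L70657 rfl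
theorem L75810 : N7174 = N231 := eqe L75809 L1206
theorem L75811 : N7174 = N231 := eqc rfl L75810 rfl
theorem L75822 : sm ge N231 = N11876 := trf L75811 L70647 rfl
theorem L75823 : N11876 = N445 := eqe L75822 L2216
theorem L75824 : N11876 = N445 := eqc rfl L75823 rfl
theorem L75829 : sm gf N445 = N7173 := trf L75824 L70645 rfl
theorem L75830 : N7173 = N781 := eqe L75829 L17760
theorem L75831 : N7173 = N781 := eqc rfl L75830 rfl
theorem L75843 : sm gg N781 = N11877 := trf L75831 L70650 rfl
theorem L75844 : N11877 = N378 := eqe L75843 L3778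
theorem L75845 : N11877 = N378 := eqc rfl L75844 rfl
theorem L75846 : sm gb N378 = N9703 := trf L75845 L70654 rfl
theorem L75847 : N9703 = N253 := eqe L75846 L1866
theorem L75848 : N9703 = N253 := eqc rfl L75847 rfl
theorem L75853 : sm gg N253 = N5824 := trf L75848 L58241 rfl
theorem L75854 : N5824 = N506 := eqe L75853 L2512
theorem L75855 : N5824 = N506 := eqc rfl L75854 rfl
theorem L75871 : sm gf N506 = N9702 := trf L75855 L58236 rfl
theorem L75872 : N9702 = N493 := eqe L75871 L2519
theorem L75873 : N9702 = N493 := eqc rfl L75872 rfl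
theorem L75874 : sm ge N493 = N5825 := trf L75873 L58238 rfl
theorem L75875 : N5825 = N277 := eqe L75874 L2456
theorem L75876 : N5825 = N277 := eqc rfl L75875 rfl
theorem L75890 : sm gg N277 = N9704 := trf L75876 L58244 rfl
theorem L75891 : N9704 = N145 := eqe L75890 L1421
theorem L75892 : N9704 = N145 := eqc rfl L75891 rfl
theorem L75899 : sm gf N145 = N9691 := trf L75892 L58249 rfl
theorem L75900 : N9691 = N276 := eqe L75899 L1414
theorem L75901 : N9691 = N276 := eqc rfl L75900 rfl
theorem L75906 : sm gg N276 = N5819 := trf L75901 L58185 rfl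
theorem L75907 : N5819 = N292 := eqe L75906 L1481
theorem L75908 : N5819 = N292 := eqc rfl L75907 rfl
theorem L75916 : sm gd N292 = N3762 := trf L75908 L37052 rfl
theorem L75917 : N3762 = N155 := eqe L75916 L1478
theorem L75918 : N3762 = N155 := eqc rfl L75917 rfl
theorem L75931 : sm gf N155 = N5821 := trf L75918 L37060 rfl
theorem L75932 : N5821 = N85 := eqe L75931 L830
theorem L75933 : N5821 = N85 := eqc rfl L75932 rfl
theorem L75944 : sm gg N85 = N5832 := trf L75933 L37117 rfl
theorem L75945 : N5832 = N48 := eqe L75944 L478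
theorem L75946 : N5832 = N48 := eqc rfl L75945 rfl
theorem L75956 : sm gf N48 = N3766 := trf L75946 L37112 rfl
theorem L75957 : N3766 = N84 := eqe L75956 L472
theorem L75958 : N3766 = N84 := eqc rfl L75957 rfl
theorem L75965 : sm ge N84 = N5829 := trf L75958 L37099 rfl
theorem L75966 : N5829 = N49 := eqe L75965 L475
theorem L75967 : N5829 = N49 := eqc rfl L75966 rfl
theorem L75980 : sm gg N49 = N3764 := trf L75967 L37096 rfl
theorem L75981 : N3764 = N87 := eqe L75980 L487
theorem L75982 : N3764 = N87 := eqc rfl L75981 rfl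
theorem L75992 : sm gf N87 = N5828 := trf L75982 L37090 rfl
theorem L75993 : N5828 = N82 := eqe L75992 L491
theorem L75994 : N5828 = N82 := eqc rfl L75993 rfl
theorem L75996 : sm gb N82 = N9709 := trf L75994 L58268 rfl
theorem L75997 : N9709 = N118 := eqe L75996 L16933
theorem L75998 : N9709 = N118 := eqc rfl L75997 rfl
theorem L76018 : sm gf N118 = N5835 := trf L75998 L58272 rfl
theorem L76019 : N5835 = N222 := eqe L76018 L1158
theorem L76020 : N5835 = N222 := eqc rfl L76019 rfl
theorem L76036 : sm gg N222 = N9718 := trf L76020 L58316 rfl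
theorem L76037 : N9718 = N211 := eqe L76036 L1164
theorem L76038 : N9718 = N211 := eqc rfl L76037 rfl
theorem L76045 : sm ge N211 = N5837 := trf L76038 L58320 rfl
theorem L76046 : N5837 = N418 := eqe L76045 L2083
theorem L76047 : N5837 = N418 := eqc rfl L76046 rfl
theorem L76060 : sm gf N418 = N9721 := trf L76047 L58334 rfl
theorem L76061 : N9721 = N210 := eqe L76060 L2077
theorem L76062 : N9721 = N210 := eqc rfl L76061 rfl
theorem L76070 : sm gg N210 = N9712 := trf L76062 L58340 rfl
theorem L76071 : N9712 = N419 := eqe L76070 L2084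
theorem L76072 : N9712 = N419 := eqc rfl L76071 rfl
theorem L76077 : sm gf N419 = N5836 := trf L76072 L58296 rfl
theorem L76078 : N5836 = N433 := eqe L76077 L2160
theorem L76079 : N5836 = N433 := eqc rfl L76078 rfl
theorem L76087 : sm gd N433 = N8490 := trf L76079 L52288 rfl
theorem L76088 : N8490 = N890 := eqe L76087 L4422
theorem L76089 : N8490 = N890 := eqc rfl L76088 rfl
theorem L76092 : sm ga N890 = N5165 := trf L76089 L52286 rfl
theorem L76093 : N5165 = N892 := eqe L76092 L4434
theorem L76094 : N5165 = N892 := eqc rfl L76093 rfl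
theorem L76102 : sm ge N892 = N8489 := trf L76094 L52284 rfl
theorem L76103 : N8489 = N1718 := eqe L76102 L8770
theorem L76104 : N8489 = N1718 := eqc rfl L76103 rfl
theorem L76107 : sm gb N1718 = N5164 := trf L76104 L52282 rfl
theorem L76108 : N5164 = N2050 := eqe L76107 L16891
theorem L76109 : N5164 = N2050 := eqc rfl L76108 rfl
theorem L76121 : sm gg N2050 = N3456 := trf L76109 L33999 rfl
theorem L76122 : N3456 = N1999 := eqe L76121 L18524
theorem L76123 : N3456 = N1999 := eqc rfl L76122 rfl
theorem L76137 : sm gf N1999 = N4465 := trf L76123 L30399 rfl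
theorem L76138 : N4465 = N2007 := eqe L76137 L10227
theorem L76139 : N4465 = N2007 := eqc rfl L76138 rfl
theorem L76153 : sm gg N2007 = N3748 := trf L76139 L30400 rfl
theorem L76154 : N3748 = N2048 := eqe L76153 L18527
theorem L76155 : N3748 = N2048 := eqc rfl L76154 rfl
theorem L76166 : sm ge N2048 = N2708 := trf L76155 L26772 rfl
theorem L76167 : N2708 = N1208 := eqe L76166 L10464
theorem L76168 : N2708 = N1208 := eqc rfl L76167 rfl
theorem L76176 : sm gc N1208 = N2194 := trf L76168 L21495 rfl
theorem L76177 : N2194 = N2193 := eqe L76176 L18939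
theorem L76178 : N2194 = N2193 := eqc rfl L76177 rfl
theorem L76182 : sm gf N1208 = N3470 := trf L76168 L25567 rfl
theorem L76183 : N3470 = N1147 := eqe L76182 L18457
theorem L76184 : N3470 = N1147 := eqc rfl L76183 rfl
theorem L76190 : sm gc N1147 = N2710 := trf L76184 L25563 rfl
theorem L76191 : N2710 = N2128 := eqe L76190 L18660
theorem L76192 : N2710 = N2128 := eqc rfl L76191 rfl
theorem L76197 : sm gg N1147 = N2576 := trf L76184 L25560 rfl
theorem L76198 : N2576 = N558 := eqe L76197 L5794
theorem L76199 : N2576 = N558 := eqc rfl L76198 rfl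
theorem L76204 : sm gc N558 = N2568 := trf L76199 L20922 rfl
theorem L76205 : N2568 = N1146 := eqe L76204 L5791
theorem L76206 : N2568 = N1146 := eqc rfl L76205 rfl
theorem L76211 : sm gf N558 = N3109 := trf L76199 L23526 rfl
theorem L76212 : N3109 = N947 := eqe L76211 L17343
theorem L76213 : N3109 = N947 := eqc rfl L76212 rfl
theorem L76216 : sm gc N947 = N3103 := trf L76213 L23530 rfl
theorem L76217 : N3103 = N1879 := eqe L76216 L9513
theorem L76218 : N3103 = N1879 := eqc rfl L76217 rfl
theorem L76219 : sm gd N947 = N2397 := trf L76213 L23522 rfl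
theorem L76220 : N2397 = N464 := eqe L76219 L4681
theorem L76221 : N2397 = N464 := eqc rfl L76220 rfl
theorem L76230 : sm gc N464 = N1897 := trf L76221 L19969 rfl
theorem L76231 : N1897 = N956 := eqe L76230 L4735
theorem L76232 : N1897 = N956 := eqc rfl L76231 rfl
theorem L76237 : sm gg N464 = N2199 := trf L76221 L19972 rfl
theorem L76238 : N2199 = N296 := eqe L76237 L17621
theorem L76239 : N2199 = N296 := eqc rfl L76238 rfl
theorem L76242 : sm gc N296 = N1230 := trf L76239 L18969 rfl
theorem L76243 : N1230 = N600 := eqe L76242 L2942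
theorem L76244 : N1230 = N600 := eqc rfl L76243 rfl
theorem L76247 : sm gf N296 = N2721 := trf L76239 L21555 rfl
theorem L76248 : N2721 = N601 := eqe L76247 L2947
theorem L76249 : N2721 = N601 := eqc rfl L76248 rfl
theorem L76252 : sm gc N601 = N2201 := trf L76249 L21559 rfl
theorem L76253 : N2201 = N1231 := eqe L76252 L6224
theorem L76254 : N2201 = N1231 := eqc rfl L76253 rfl
theorem L76257 : sm gg N601 = N2573 := trf L76249 L21561 rfl
theorem L76258 : N2573 = N560 := eqe L76257 L17351
theorem L76259 : N2573 = N560 := eqc rfl L76258 rfl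
theorem L76264 : sm gc N560 = N2129 := trf L76259 L20903 rfl
theorem L76265 : N2129 = N1152 := eqe L76264 L5811
theorem L76266 : N2129 = N1152 := eqc rfl L76265 rfl
theorem L76268 : sm ge N560 = N3463 := trf L76259 L25529 rfl
theorem L76269 : N3463 = N280 := eqe L76268 L2766
theorem L76270 : N3463 = N280 := eqc rfl L76269 rfl
theorem L76284 : sm gf N280 = N4467 := trf L76270 L30415 rfl
theorem L76285 : N4467 = N472 := eqe L76284 L17396
theorem L76286 : N4467 = N472 := eqc rfl L76285 rfl
theorem L76299 : sm gg N472 = N3761 := trf L76286 L30416 rfl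
theorem L76300 : N3761 = N303 := eqe L76299 L12758
theorem L76301 : N3761 = N303 := eqc rfl L76300 rfl
theorem L76313 : sm gf N303 = N3472 := trf L76301 L26838 rfl
theorem L76314 : N3472 = N282 := eqe L76313 L17325
theorem L76315 : N3472 = N282 := eqc rfl L76314 rfl
theorem L76323 : sm gd N282 = N5197 := trf L76315 L34160 rfl
theorem L76324 : N5197 = N498 := eqe L76323 L2481
theorem L76325 : N5197 = N498 := eqc rfl L76324 rfl
theorem L76339 : sm gg N498 = N3471 := trf L76325 L34158 rfl
theorem L76340 : N3471 = N250 := eqe L76339 L2479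
theorem L76341 : N3471 = N250 := eqc rfl L76340 rfl
theorem L76351 : sm gf N250 = N4474 := trf L76341 L30457 rfl
theorem L76352 : N4474 = N382 := eqe L76351 L17299
theorem L76353 : N4474 = N382 := eqc rfl L76352 rfl
theorem L76355 : sm gb N382 = N7176 := trf L76353 L44527 rfl
theorem L76356 : N7176 = N195 := eqe L76355 L1891
theorem L76357 : N7176 = N195 := eqc rfl L76356 rfl
theorem L76395 : sm gf N195 = N11881 := trf L76357 L70672 rfl
theorem L76396 : N11881 = N119 := eqe L76395 L17844
theorem L76397 : N11881 = N119 := eqc rfl L76396 rfl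
theorem L76406 : sm gd N119 = N7177 := trf L76397 L70674 rfl
theorem L76407 : N7177 = N69 := eqe L76406 L657
theorem L76408 : N7177 = N69 := eqc rfl L76407 rfl
theorem L76420 : sm gg N69 = N11883 := trf L76408 L70684 rfl
theorem L76421 : N11883 = N40 := eqe L76420 L394
theorem L76422 : N11883 = N40 := eqc rfl L76421 rfl
theorem L76430 : sm gf N40 = N11869 := trf L76422 L70691 rfl
theorem L76431 : N11869 = N68 := eqe L76430 L389
theorem L76432 : N11869 = N68 := eqc rfl L76431 rfl
theorem L76438 : sm gg N68 = N7169 := trf L76432 L70613 rfl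
theorem L76439 : N7169 = N102 := eqe L76438 L558
theorem L76440 : N7169 = N102 := eqc rfl L76439 rfl
theorem L76445 : sm gc N102 = N4476 := trf L76440 L44490 rfl
theorem L76446 : N4476 = N59 := eqe L76445 L556
theorem L76447 : N4476 = N59 := eqc rfl L76446 rfl
theorem L76463 : sm gf N59 = N7188 := trf L76447 L44591 rfl
theorem L76464 : N7188 = N33 := eqe L76463 L338
theorem L76465 : N7188 = N33 := eqc rfl L76464 rfl
theorem L76478 : sm gg N33 = N7196 := trf L76465 L44638 rfl
theorem L76479 : N7196 = N38 := eqe L76478 L240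
theorem L76480 : N7196 = N38 := eqc rfl L76479 rfl
theorem L76492 : sm gf N38 = N4481 := trf L76480 L44632 rfl
theorem L76493 : N4481 = N64 := eqe L76492 L372
theorem L76494 : N4481 = N64 := eqc rfl L76493 rfl
theorem L76501 : sm ge N64 = N3114 := trf L76494 L30489 rfl
theorem L76502 : N3114 = N113 := eqe L76501 L629
theorem L76503 : N3114 = N113 := eqc rfl L76502 rfl
theorem L76512 : sm gg N113 = N2400 := trf L76503 L23551 rfl
theorem L76513 : N2400 = N128 := eqe L76512 L704
theorem L76514 : N2400 = N128 := eqc rfl L76513 rfl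
theorem L76516 : sm gb N128 = N1942 := trf L76514 L19997 rfl
theorem L76517 : N1942 = N240 := eqe L76516 L1243
theorem L76518 : N1942 = N240 := eqc rfl L76517 rfl
theorem L76720 : sm gc N240 = N977 := trf L76518 L9824 rfl
theorem L76721 : N977 = N475 := eqe L76720 L2351
theorem L76722 : N977 = N475 := eqc rfl L76721 rfl
theorem L76724 : sm ge N240 = N2401 := trf L76518 L19999 rfl
theorem L76725 : N2401 = N129 := eqe L76724 L1246
theorem L76726 : N2401 = N129 := eqc rfl L76725 rfl
theorem L76731 : sm gc N129 = N1943 := trf L76726 L20002 rfl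
theorem L76732 : N1943 = N241 := eqe L76731 L1251
theorem L76733 : N1943 = N241 := eqc rfl L76732 rfl
theorem L76799 : sm gd N241 = N978 := trf L76733 L9834 rfl
theorem L76800 : N978 = N476 := eqe L76799 L2358
theorem L76801 : N978 = N476 := eqc rfl L76800 rfl
theorem L76806 : sm gb N476 = N1938 := trf L76801 L9805 rfl
theorem L76807 : N1938 = N974 := eqe L76806 L4793
theorem L76808 : N1938 = N974 := eqc rfl L76807 rfl
theorem L76810 : sm ge N476 = N476 := trf L76801 L4811 rfl
theorem L76813 : sm ga N974 = N2399 := trf L76808 L19987 rfl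
theorem L76814 : N2399 = N1934 := eqe L76813 L9788
theorem L76815 : N2399 = N1934 := eqc rfl L76814 rfl
theorem L76816 : sm gc N974 = N1169 := trf L76808 L18543 rfl
theorem L76817 : N1169 = N569 := eqe L76816 L17367
theorem L76818 : N1169 = N569 := eqc rfl L76817 rfl
theorem L76820 : sm ge N974 = N974 := trf L76808 L9803 rfl
theorem L76822 : sm gg N974 = N1263 := trf L76808 L18443 rfl
theorem L76823 : N1263 = N621 := eqe L76822 L12853
theorem L76824 : N1263 = N621 := eqc rfl L76823 rfl
theorem L76825 : sm ga N621 = N2206 := trf L76824 L19011 rfl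
theorem L76826 : N2206 = N1260 := eqe L76825 L6382
theorem L76827 : N2206 = N1260 := eqc rfl L76826 rfl
theorem L76829 : sm gc N621 = N2135 := trf L76824 L18689 rfl
theorem L76830 : N2135 = N1170 := eqe L76829 L18441
theorem L76831 : N2135 = N1170 := eqc rfl L76830 rfl
theorem L76835 : sm ge N621 = N621 := trf L76824 L6394 rfl
theorem L76836 : sm gf N621 = N2207 := trf L76824 L19014 rfl
theorem L76837 : N2207 = N1264 := eqe L76836 L6396
theorem L76838 : N2207 = N1264 := eqc rfl L76837 rfl
theorem L76840 : sm gb N1264 = N2077 := trf L76838 L19025 rfl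
theorem L76841 : N2077 = N1058 := eqe L76840 L15584
theorem L76842 : N2077 = N1058 := eqc rfl L76841 rfl
theorem L76844 : sm gd N1264 = N2722 := trf L76838 L21568 rfl
theorem L76845 : N2722 = N622 := eqe L76844 L6398
theorem L76846 : N2722 = N622 := eqc rfl L76845 rfl
theorem L76847 : sm ge N1264 = N1264 := trf L76838 L19020 rfl
theorem L76848 : sm gg N1264 = N2134 := trf L76838 L19022 rfl
theorem L76849 : N2134 = N1167 := eqe L76848 L18448
theorem L76850 : N2134 = N1167 := eqc rfl L76849 rfl
theorem L76855 : sm ge N1167 = N1167 := trf L76850 L18683 rfl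
theorem L76858 : sm gb N622 = N2494 := trf L76846 L21574 rfl
theorem L76859 : N2494 = N514 := eqe L76858 L17427
theorem L76860 : N2494 = N514 := eqc rfl L76859 rfl
theorem L76872 : sm ge N514 = N2062 := trf L76860 L20510 rfl
theorem L76873 : N2062 = N1047 := eqe L76872 L5195
theorem L76874 : N2062 = N1047 := eqc rfl L76873 rfl
theorem L76876 : sm gg N514 = N3309 := trf L76860 L24727 rfl
theorem L76877 : N3309 = N1059 := eqe L76876 L5278
theorem L76878 : N3309 = N1059 := eqc rfl L76877 rfl
theorem L76886 : sm gd N1059 = N2498 := trf L76878 L24731 rfl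
theorem L76887 : N2498 = N2078 := eqe L76886 L10630
theorem L76888 : N2498 = N2078 := eqc rfl L76887 rfl
theorem L76889 : sm ge N1059 = N2495 := trf L76878 L24733 rfl
theorem L76890 : N2495 = N2063 := eqe L76889 L10563
theorem L76891 : N2495 = N2063 := eqc rfl L76890 rfl
theorem L76893 : sm ga N2063 = N2204 := trf L76891 L20518 rfl
theorem L76894 : N2204 = N1236 := eqe L76893 L18477
theorem L76895 : N2204 = N1236 := eqc rfl L76894 rfl
theorem L76896 : sm gb N2063 = N2198 := trf L76891 L20524 rfl
theorem L76897 : N2198 = N1228 := eqe L76896 L10565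
theorem L76898 : N2198 = N1228 := eqc rfl L76897 rfl
theorem L76899 : sm gc N2063 = N3308 := trf L76891 L24724 rfl
theorem L76900 : N3308 = N1048 := eqe L76899 L10560
theorem L76901 : N3308 = N1048 := eqc rfl L76900 rfl
theorem L76902 : sm gd N2063 = N2063 := trf L76891 L20520 rfl
theorem L76916 : sm gg N1048 = N2493 := trf L76901 L24720 rfl
theorem L76917 : N2493 = N509 := eqe L76916 L5198
theorem L76918 : N2493 = N509 := eqc rfl L76917 rfl
theorem L76926 : sm gd N509 = N2712 := trf L76918 L21514 rfl
theorem L76927 : N2712 = N1042 := eqe L76926 L5169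
theorem L76928 : N2712 = N1042 := eqc rfl L76927 rfl
theorem L76937 : sm gc N1042 = N2196 := trf L76928 L21511 rfl
theorem L76938 : N2196 = N2052 := eqe L76937 L10485
theorem L76939 : N2196 = N2052 := eqc rfl L76938 rfl
theorem L76940 : sm ge N1042 = N3754 := trf L76928 L26801 rfl
theorem L76941 : N3754 = N593 := eqe L76940 L5170
theorem L76942 : N3754 = N593 := eqc rfl L76941 rfl
theorem L76958 : sm gg N593 = N5804 := trf L76942 L36977 rfl
theorem L76959 : N5804 = N1213 := eqe L76958 L6124
theorem L76960 : N5804 = N1213 := eqc rfl L76959 rfl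
theorem L76970 : sm gd N1213 = N9655 := trf L76960 L58032 rfl
theorem L76971 : N9655 = N604 := eqe L76970 L6126
theorem L76972 : N9655 = N604 := eqc rfl L76971 rfl
theorem L76978 : sm ge N604 = N7992 := trf L76972 L58033 rfl
theorem L76979 : N7992 = N308 := eqe L76978 L2966
theorem L76980 : N7992 = N308 := eqc rfl L76979 rfl
theorem L76991 : sm gg N308 = N4873 := trf L76980 L49076 rfl
theorem L76992 : N4873 = N160 := eqe L76991 L1546
theorem L76993 : N4873 = N160 := eqc rfl L76992 rfl
theorem L77000 : sm gc N160 = N5867 := trf L76993 L37298 rfl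
theorem L77001 : N5867 = N307 := eqe L77000 L1541
theorem L77002 : N5867 = N307 := eqc rfl L77001 rfl
theorem L77015 : sm ge N307 = N9654 := trf L77002 L58026 rfl
theorem L77016 : N9654 = N603 := eqe L77015 L2961
theorem L77017 : N9654 = N603 := eqc rfl L77016 rfl
theorem L77020 : sm ga N603 = N9758 := trf L77017 L58506 rfl
theorem L77021 : N9758 = N1047 := eqe L77020 L15563
theorem L77022 : N9758 = N1047 := eqc rfl L77021 rfl
theorem L77024 : sm gd N603 = N603 := trf L77017 L58028 L77017
theorem L77025 : N603 = N1235 := eqe L77024 L6252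
theorem L77026 : N1235 = N603 := (eqc rfl L77025 rfl).symm
theorem L77031 : sm gd N603 = N603 := trf L77026 L6253 rfl
theorem L77035 : sm gc N1047 = N5853 := trf L77022 L58504 rfl
theorem L77036 : N5853 = N509 := eqe L77035 L5193
theorem L77037 : N5853 = N509 := eqc rfl L77036 rfl
theorem L77043 : sm gb N509 = N9741 := trf L77037 L58422 rfl
theorem L77044 : N9741 = N256 := eqe L77043 L2535
theorem L77045 : N9741 = N256 := eqc rfl L77044 rfl
theorem L77053 : sm ge N256 = N5847 := trf L77045 L58423 rfl
theorem L77054 : N5847 = N138 := eqe L77053 L1329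
theorem L77055 : N5847 = N138 := eqc rfl L77054 rfl
theorem L77069 : sm gg N138 = N9749 := trf L77055 L58461 rfl
theorem L77070 : N9749 = N132 := eqe L77069 L759
theorem L77071 : N9749 = N132 := eqc rfl L77070 rfl
theorem L77072 : sm gd N132 = N5849 := trf L77071 L58463 rfl
theorem L77073 : N5849 = N81 := eqe L77072 L724
theorem L77074 : N5849 = N81 := eqc rfl L77073 rfl
theorem L77085 : sm gf N81 = N9752 := trf L77074 L58478 rfl
theorem L77086 : N9752 = N47 := eqe L77085 L459
theorem L77087 : N9752 = N47 := eqc rfl L77086 rfl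
theorem L77096 : sm gg N47 = N9733 := trf L77087 L58485 rfl
theorem L77097 : N9733 = N82 := eqe L77096 L463
theorem L77098 : N9733 = N82 := eqc rfl L77097 rfl
theorem L77106 : sm gf N82 = N5840 := trf L77098 L58384 rfl
theorem L77107 : N5840 = N87 := eqe L77106 L490
theorem L77108 : N5840 = N87 := eqc rfl L77107 rfl
theorem L77115 : sm ge N87 = N3771 := trf L77108 L37157 rfl
theorem L77116 : N3771 = N154 := eqe L77115 L826
theorem L77117 : N3771 = N154 := eqc rfl L77116 rfl
theorem L77130 : sm gg N154 = N5842 := trf L77117 L37166 rfl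
theorem L77131 : N5842 = N84 := eqe L77130 L823
theorem L77132 : N5842 = N84 := eqc rfl L77131 rfl
theorem L77142 : sm gf N84 = N5850 := trf L77132 L37206 rfl
theorem L77143 : N5850 = N48 := eqe L77142 L473
theorem L77144 : N5850 = N48 := eqc rfl L77143 rfl
theorem L77154 : sm gg N48 = N3774 := trf L77144 L37204 rfl
theorem L77155 : N3774 = N85 := eqe L77154 L477
theorem L77156 : N3774 = N85 := eqc rfl L77155 rfl
theorem L77160 : sm gd N85 = N5845 := trf L77156 L37182 rfl
theorem L77161 : N5845 = N152 := eqe L77160 L814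
theorem L77162 : N5845 = N152 := eqc rfl L77161 rfl
theorem L77175 : sm gf N152 = N3772 := trf L77162 L37180 rfl
theorem L77176 : N3772 = N292 := eqe L77175 L1474
theorem L77177 : N3772 = N292 := eqc rfl L77176 rfl
theorem L77186 : sm gg N292 = N5846 := trf L77177 L37184 rfl
theorem L77187 : N5846 = N276 := eqe L77186 L1480
theorem L77188 : N5846 = N276 := eqc rfl L77187 rfl
theorem L77190 : sm gb N276 = N9745 := trf L77188 L58440 rfl
theorem L77191 : N9745 = N558 := eqe L77190 L2756
theorem L77192 : N9745 = N558 := eqc rfl L77191 rfl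
theorem L77211 : sm gg N558 = N5855 := trf L77192 L58444 rfl
theorem L77212 : N5855 = N1147 := eqe L77211 L5793
theorem L77213 : N5855 = N1147 := eqc rfl L77212 rfl
theorem L77229 : sm gf N1147 = N9763 := trf L77213 L58533 rfl
theorem L77230 : N9763 = N1208 := eqe L77229 L18456
theorem L77231 : N9763 = N1208 := eqc rfl L77230 rfl
theorem L77235 : sm gd N1208 = N5861 := trf L77231 L58535 rfl
theorem L77236 : N5861 = N599 := eqe L77235 L6106
theorem L77237 : N5861 = N599 := eqc rfl L77236 rfl
theorem L77251 : sm gg N599 = N9775 := trf L77237 L58589 rfl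
theorem L77252 : N9775 = N955 := eqe L77251 L17524
theorem L77253 : N9775 = N955 := eqc rfl L77252 rfl
theorem L77257 : sm gf N955 = N9754 := trf L77253 L58594 rfl
theorem L77258 : N9754 = N560 := eqe L77257 L17515
theorem L77259 : N9754 = N560 := eqc rfl L77258 rfl
theorem L77261 : sm gg N560 = N5859 := trf L77259 L58492 rfl
theorem L77262 : N5859 = N601 := eqe L77261 L17350
theorem L77263 : N5859 = N601 := eqc rfl L77262 rfl
theorem L77272 : sm ge N601 = N9767 := trf L77263 L58556 rfl
theorem L77273 : N9767 = N305 := eqe L77272 L2949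
theorem L77274 : N9767 = N305 := eqc rfl L77273 rfl
theorem L77276 : sm ga N305 = N5858 := trf L77274 L58554 rfl
theorem L77277 : N5858 = N282 := eqe L77276 L18222
theorem L77278 : N5858 = N282 := eqc rfl L77277 rfl
theorem L77282 : sm gc N282 = N9768 := trf L77278 L58557 rfl
theorem L77283 : N9768 = N570 := eqe L77282 L2808
theorem L77284 : N9768 = N570 := eqc rfl L77283 rfl
theorem L77295 : sm ge N570 = N5860 := trf L77284 L58559 rfl
theorem L77296 : N5860 = N1155 := eqe L77295 L5833
theorem L77297 : N5860 = N1155 := eqc rfl L77296 rfl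
theorem L77299 : sm gb N1155 = N3782 := trf L77297 L37257 rfl
theorem L77300 : N3782 = N2133 := eqe L77299 L18676
theorem L77301 : N3782 = N2133 := eqc rfl L77300 rfl
theorem L77303 : sm gd N1155 = N9773 := trf L77297 L58579 rfl
theorem L77304 : N9773 = N2132 := eqe L77303 L18675
theorem L77305 : N9773 = N2132 := eqc rfl L77304 rfl
theorem L77312 : sm gb N2132 = N5863 := trf L77305 L58581 rfl
theorem L77313 : N5863 = N2580 := eqe L77312 L20937
theorem L77314 : N5863 = N2580 := eqc rfl L77313 rfl
theorem L77316 : sm gc N2580 = N5203 := trf L77314 L37275 rfl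
theorem L77317 : N5203 = N3475 := eqe L77316 L25587
theorem L77318 : N5203 = N3475 := eqc rfl L77317 rfl
theorem L77323 : sm gf N2580 = N3475 := trf L77314 L37272 L77318
theorem L77324 : N3475 = N2728 := eqe L77323 L21605
theorem L77325 : N3475 = N2728 := eqc rfl L77324 rfl
theorem L77328 : sm gb N2728 = N5200 := trf L77325 L34170 rfl
theorem L77329 : N5200 = N2204 := eqe L77328 L21601
theorem L77330 : N5200 = N1236 := eqc rfl L77329 L76895
theorem L77331 : sm gc N2728 = N2580 := trf L77325 L25588 rfl
theorem L77332 : N2580 = N3782 := eqe L77331 L26937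
theorem L77333 : N2580 = N2133 := eqc rfl L77332 L77301
theorem L77334 : N5203 = N2728 := L77318.trans L77325
theorem L77335 : sm gd N2728 = N2728 := trf L77325 L34179 L77334
theorem L77336 : N2728 = N2205 := eqe L77335 L21602
theorem L77337 : N2728 = N2205 := eqc rfl L77336 rfl
theorem L77338 : N3475 = N2205 := L77325.trans L77337
theorem L77339 : sm ge N2205 = N5202 := trf L77338 L34177 rfl
theorem L77340 : N5202 = N1272 := eqe L77339 L19000
theorem L77341 : N5202 = N1272 := eqc rfl L77340 rfl
theorem L77348 : sm gc N1272 = N3474 := trf L77341 L34174 rfl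
theorem L77349 : N3474 = N1171 := eqe L77348 L6444
theorem L77350 : N3474 = N1171 := eqc rfl L77349 rfl
theorem L77368 : sm gd N1171 = N2581 := trf L77350 L25581 rfl
theorem L77369 : N2581 = N2136 := eqe L77368 L18695
theorem L77370 : N2581 = N2136 := eqc rfl L77369 rfl
theorem L77372 : sm gf N1171 = N3781 := trf L77350 L26934 rfl
theorem L77373 : N3781 = N1272 := eqe L77372 L18455
theorem L77374 : N3781 = N1272 := eqc rfl L77373 rfl
theorem L77379 : sm gd N1272 = N2733 := trf L77374 L26929 rfl
theorem L77380 : N2733 = N2212 := eqe L77379 L19048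
theorem L77381 : N2733 = N2212 := eqc rfl L77380 rfl
theorem L77385 : sm gb N2212 = N2211 := trf L77381 L21634 rfl
theorem L77386 : N2211 = N1271 := eqe L77385 L19046
theorem L77387 : N2211 = N1271 := eqc rfl L77386 rfl
theorem L77389 : sm ge N2212 = N2212 := trf L77381 L21635 rfl
theorem L77393 : sm gc N1271 = N2732 := trf L77387 L21629 rfl
theorem L77394 : N2732 = N2210 := eqe L77393 L19039
theorem L77395 : N2732 = N2210 := eqc rfl L77394 rfl
theorem L77397 : sm ge N1271 = N1271 := trf L77387 L19043 rfl
theorem L77399 : sm gg N1271 = N1270 := trf L77387 L19042 rfl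
theorem L77400 : N1270 = N627 := eqe L77399 L6439
theorem L77401 : N1270 = N627 := eqc rfl L77400 rfl
theorem L77404 : sm gc N627 = N2209 := trf L77401 L19034 rfl
theorem L77405 : N2209 = N1269 := eqe L77404 L6431
theorem L77406 : N2209 = N1269 := eqc rfl L77405 rfl
theorem L77408 : sm ge N627 = N627 := trf L77401 L6435 rfl
theorem L77410 : sm ga N1269 = N2497 := trf L77406 L20540 rfl
theorem L77411 : N2497 = N2076 := eqe L77410 L18493
theorem L77412 : N2497 = N2076 := eqc rfl L77411 rfl
theorem L77413 : sm gb N1269 = N2729 := trf L77406 L21612 rfl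
theorem L77414 : N2729 = N2208 := eqe L77413 L19026
theorem L77415 : N2729 = N2208 := eqc rfl L77414 rfl
theorem L77416 : sm gd N1269 = N2731 := trf L77406 L21622 rfl
theorem L77417 : N2731 = N1269 := eqe L77416 L18497
theorem L77418 : N2731 = N1269 := eqc rfl L77417 rfl
theorem L77419 : sm ge N1269 = N1269 := trf L77406 L19032 rfl
theorem L77425 : sm gb N1269 = N3783 := trf L77418 L26947 rfl
theorem L77426 : N3783 = N2208 := eqe L77425 L19026
theorem L77427 : N3783 = N2208 := eqc rfl L77426 rfl
theorem L77431 : sm gg N1269 = N3786 := trf L77418 L26962 rfl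
theorem L77432 : N3786 = N2210 := eqe L77431 L19036
theorem L77433 : N3786 = N2210 := eqc rfl L77432 rfl
theorem L77434 : sm ga N2210 = N4876 := trf L77433 L32658 rfl
theorem L77435 : N4876 = N2496 := eqe L77434 L20532
theorem L77436 : N4876 = N2496 := eqc rfl L77435 rfl
theorem L77485 : sm gd N2496 = N3310 := trf L77436 L32656 rfl
theorem L77486 : N3310 = N2496 := eqe L77485 L20528
theorem L77487 : N3310 = N2496 := eqc rfl L77486 rfl
theorem L77494 : sm ge N2496 = N2496 := trf L77487 L24740 rfl
theorem L77504 : sm gf N2208 = N5865 := trf L77427 L37282 rfl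
theorem L77505 : N5865 = N2730 := eqe L77504 L21615
theorem L77506 : N5865 = N2730 := eqc rfl L77505 rfl
theorem L77513 : sm gd N2730 = N3784 := trf L77506 L37285 rfl
theorem L77514 : N3784 = N2730 := eqe L77513 L21619
theorem L77515 : N3784 = N2730 := eqc rfl L77514 rfl
theorem L77522 : sm ge N2730 = N2730 := trf L77515 L26954 rfl
theorem L77569 : sm ge N2208 = N2208 := trf L77415 L21609 rfl
theorem L77572 : sm ge N2076 = N2076 := trf L77412 L20538 rfl
theorem L77575 : sm ge N2210 = N2210 := trf L77395 L21630 rfl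
theorem L77579 : sm ge N2136 = N2136 := trf L77370 L20945 rfl
theorem L77586 : sm gd N2205 = N2205 := trf L77337 L21602 rfl
theorem L77590 : sm gb N2133 = N2132 := trf L77333 L20938 rfl
theorem L77591 : N2132 = N1155 := eqe L77590 L18677
theorem L77592 : N2132 = N1155 := eqc rfl L77591 rfl
theorem L77593 : sm gd N2133 = N2133 := trf L77333 L20939 rfl
theorem L77597 : sm gd N1155 = N1155 := trf L77592 L18674 rfl
theorem L77600 : sm gg N1155 = N1154 := trf L77592 L18673 rfl
theorem L77601 : N1154 = N561 := eqe L77600 L5829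
theorem L77602 : N1154 = N561 := eqc rfl L77601 rfl
theorem L77606 : sm gd N561 = N561 := trf L77602 L5826 rfl
theorem L77629 : sm gg N1236 = N8550 := trf L77330 L52553 rfl
theorem L77630 : N8550 = N603 := eqe L77629 L6257
theorem L77631 : N8550 = N603 := eqc rfl L77630 rfl
theorem L77633 : sm gc N603 = N5191 := trf L77631 L52551 rfl
theorem L77634 : N5191 = N297 := eqe L77633 L2959
theorem L77635 : N5191 = N297 := eqc rfl L77634 rfl
theorem L77648 : sm gf N297 = N8551 := trf L77635 L52555 rfl
theorem L77649 : N8551 = N297 := eqe L77648 L1507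
theorem L77650 : N8551 = N297 := eqc rfl L77649 rfl
theorem L77655 : sm gg N297 = N8565 := trf L77650 L52621 rfl
theorem L77656 : N8565 = N604 := eqe L77655 L2964
theorem L77657 : N8565 = N604 := eqc rfl L77656 rfl
theorem L77658 : sm ga N604 = N5201 := trf L77657 L52619 rfl
theorem L77659 : N5201 = N1048 := eqe L77658 L17327
theorem L77660 : N5201 = N1048 := eqc rfl L77659 rfl
theorem L77682 : sm gd N1048 = N8557 := trf L77660 L52586 rfl
theorem L77683 : N8557 = N2053 := eqe L77682 L10493
theorem L77684 : N8557 = N2053 := eqc rfl L77683 rfl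
theorem L77696 : sm gb N2053 = N5789 := trf L77684 L52587 rfl
theorem L77697 : N5789 = N2001 := eqe L77696 L10496
theorem L77698 : N5789 = N2001 := eqc rfl L77697 rfl
theorem L77711 : sm gg N2001 = N9627 := trf L77698 L57896 rfl
theorem L77712 : N9627 = N1012 := eqe L77711 L10183
theorem L77713 : N9627 = N1012 := eqc rfl L77712 rfl
theorem L77720 : sm gf N1012 = N9623 := trf L77713 L57899 rfl
theorem L77721 : N9623 = N1536 := eqe L77720 L17245
theorem L77722 : N9623 = N1536 := eqc rfl L77721 rfl
theorem L77729 : sm gg N1536 = N5787 := trf L77722 L57881 rfl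
theorem L77730 : N5787 = N1041 := eqe L77729 L7790
theorem L77731 : N5787 = N1041 := eqc rfl L77730 rfl
theorem L77736 : sm gc N1041 = N9460 := trf L77731 L57131 rfl
theorem L77737 : N9460 = N2049 := eqe L77736 L10466
theorem L77738 : N9460 = N2049 := eqc rfl L77737 rfl
theorem L77739 : sm gd N1041 = N5813 := trf L77731 L37022 rfl
theorem L77740 : N5813 = N508 := eqe L77739 L5162
theorem L77741 : N5813 = N508 := eqc rfl L77740 rfl
theorem L77759 : sm gf N508 = N9675 := trf L77741 L58111 rfl
theorem L77760 : N9675 = N1044 := eqe L77759 L17223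
theorem L77761 : N9675 = N1044 := eqc rfl L77760 rfl
theorem L77765 : sm gg N1044 = N9681 := trf L77761 L58152 rfl
theorem L77766 : N9681 = N1014 := eqe L77765 L17249
theorem L77767 : N9681 = N1014 := eqc rfl L77766 rfl
theorem L77770 : sm gf N1014 = N5816 := trf L77767 L58146 rfl
theorem L77771 : N5816 = N1015 := eqe L77770 L5011
theorem L77772 : N5816 = N1015 := eqc rfl L77771 rfl
theorem L77777 : sm gc N1015 = N7990 := trf L77772 L49066 rfl
theorem L77778 : N7990 = N494 := eqe L77777 L5005
theorem L77779 : N7990 = N494 := eqc rfl L77778 rfl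
theorem L77793 : sm gd N494 = N9652 := trf L77779 L58012 rfl
theorem L77794 : N9652 = N1012 := eqe L77793 L4989
theorem L77795 : N9652 = N1012 := eqc rfl L77794 rfl
theorem L77800 : sm gg N1012 = N5805 := trf L77795 L58013 rfl
theorem L77801 : N5805 = N2001 := eqe L77800 L10182
theorem L77802 : N5805 = N2001 := eqc rfl L77801 rfl
theorem L77807 : sm gc N2001 = N9658 := trf L77802 L58043 rfl
theorem L77808 : N9658 = N2425 := eqe L77807 L20133
theorem L77809 : N9658 = N2425 := eqc rfl L77808 rfl
theorem L77813 : sm gb N2425 = N5808 := trf L77809 L58045 rfl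
theorem L77814 : N5808 = N3163 := eqe L77813 L23817
theorem L77815 : N5808 = N3163 := eqc rfl L77814 rfl
theorem L77819 : sm gc N3163 = N3757 := trf L77815 L36996 rfl
theorem L77820 : N3757 = N3305 := eqe L77819 L24709
theorem L77821 : N3757 = N3305 := eqc rfl L77820 rfl
theorem L77831 : sm gg N3163 = N9590 := trf L77815 L57753 rfl
theorem L77832 : N9590 = N4561 := eqe L77831 L30945
theorem L77833 : N9590 = N4561 := eqc rfl L77832 rfl
theorem L77834 : sm gc N4561 = N5769 := trf L77833 L57751 rfl
theorem L77835 : N5769 = N4853 := eqe L77834 L32512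
theorem L77836 : N5769 = N4853 := eqc rfl L77835 rfl
theorem L77849 : sm gf N4853 = N9591 := trf L77836 L57754 rfl
theorem L77850 : N9591 = N7953 := eqe L77849 L48854
theorem L77851 : N9591 = N7953 := eqc rfl L77850 rfl
theorem L77858 : sm gg N7953 = N9665 := trf L77851 L58077 rfl
theorem L77859 : N9665 = N7980 := eqe L77858 L49020
theorem L77860 : N9665 = N7980 := eqc rfl L77859 rfl
theorem L77866 : sm gf N7980 = N5807 := trf L77860 L58072 rfl
theorem L77867 : N5807 = N4867 := eqe L77866 L49013
theorem L77868 : N5807 = N4867 := eqc rfl L77867 rfl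
theorem L77877 : sm ge N4867 = N9660 := trf L77868 L58054 rfl
theorem L77878 : N9660 = N3758 := eqe L77877 L32615
theorem L77879 : N9660 = N3758 := eqc rfl L77878 rfl
theorem L77881 : sm ga N3758 = N5806 := trf L77879 L58052 rfl
theorem L77882 : N5806 = N2715 := eqe L77881 L26821
theorem L77883 : N5806 = N2715 := eqc rfl L77882 rfl
theorem L77886 : sm gd N2715 = N7975 := trf L77883 L48993 rfl
theorem L77887 : N7975 = N3757 := eqe L77886 L26819
theorem L77888 : N7975 = N3305 := eqc rfl L77887 L77821
theorem L77898 : sm ge N3305 = N4866 := trf L77888 L48994 rfl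
theorem L77899 : N4866 = N2715 := eqe L77898 L24706
theorem L77900 : N4866 = N2715 := eqc rfl L77899 rfl
theorem L77902 : sm gb N2715 = N3304 := trf L77900 L32608 rfl
theorem L77903 : N3304 = N2197 := eqe L77902 L21523
theorem L77904 : N3304 = N2197 := eqc rfl L77903 rfl
theorem L77918 : sm ga N2197 = N2714 := trf L77904 L24698 rfl
theorem L77919 : N2714 = N2492 := eqe L77918 L20497
theorem L77920 : N2714 = N2492 := eqc rfl L77919 rfl
theorem L77926 : sm gg N2197 = N2491 := trf L77904 L24697 rfl
theorem L77927 : N2491 = N1212 := eqe L77926 L18959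
theorem L77928 : N2491 = N1212 := eqc rfl L77927 rfl
theorem L77936 : sm ge N1212 = N3303 := trf L77928 L24689 rfl
theorem L77937 : N3303 = N2052 := eqe L77936 L10488
theorem L77938 : N3303 = N2052 := eqc rfl L77937 rfl
theorem L77941 : sm gb N2052 = N4851 := trf L77938 L32500 rfl
theorem L77942 : N4851 = N2486 := eqe L77941 L20460
theorem L77943 : N4851 = N2486 := eqc rfl L77942 rfl
theorem L77963 : sm gg N2486 = N7949 := trf L77943 L48826 rfl
theorem L77964 : N7949 = N3296 := eqe L77963 L24641
theorem L77965 : N7949 = N3296 := eqc rfl L77964 rfl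
theorem L77969 : sm ge N3296 = N4852 := trf L77965 L48830 rfl
theorem L77970 : N4852 = N2704 := eqe L77969 L24645
theorem L77971 : N4852 = N2704 := eqc rfl L77970 rfl
theorem L77972 : sm ga N2704 = N7943 := trf L77971 L48799 rfl
theorem L77973 : N7943 = N3734 := eqe L77972 L26716
theorem L77974 : N7943 = N3734 := eqc rfl L77973 rfl
theorem L77981 : sm gf N2704 = N7951 := trf L77971 L48838 rfl
theorem L77982 : N7951 = N3740 := eqe L77981 L26739
theorem L77983 : N7951 = N3740 := eqc rfl L77982 rfl
theorem L77991 : sm gg N3740 = N7916 := trf L77983 L48844 rfl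
theorem L77992 : N7916 = N3721 := eqe L77991 L26745
theorem L77993 : N7916 = N3721 := eqc rfl L77992 rfl
theorem L77994 : sm ga N3721 = N4836 := trf L77993 L48625 rfl
theorem L77995 : N4836 = N2697 := eqe L77994 L26671
theorem L77996 : N4836 = N2697 := eqc rfl L77995 rfl
theorem L78000 : sm gf N3721 = N4847 := trf L77993 L48627 rfl
theorem L78001 : N4847 = N2701 := eqe L78000 L26673
theorem L78002 : N4847 = N2701 := eqc rfl L78001 rfl
theorem L78010 : sm gd N2701 = N3293 := trf L78002 L32478 rfl
theorem L78011 : N3293 = N3733 := eqe L78010 L26709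
theorem L78012 : N3733 = N3293 := (eqc rfl L78011 rfl).symm
theorem L78018 : sm gb N3293 = N5756 := trf L78012 L36778 rfl
theorem L78019 : N5756 = N4846 := eqe L78018 L32473
theorem L78020 : N5756 = N4846 := eqc rfl L78019 rfl
theorem L78030 : sm gg N3293 = N5761 := trf L78012 L36793 rfl
theorem L78031 : N5761 = N4848 := eqe L78030 L32481
theorem L78032 : N5761 = N4848 := eqc rfl L78031 rfl
theorem L78045 : sm gf N4848 = N5735 := trf L78032 L36799 rfl
theorem L78046 : N5735 = N4837 := eqe L78045 L32489
theorem L78047 : N5735 = N4837 := eqc rfl L78046 rfl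
theorem L78060 : sm gg N4837 = N3722 := trf L78047 L36670 rfl
theorem L78061 : N3722 = N3289 := eqe L78060 L32429
theorem L78062 : N3722 = N3289 := eqc rfl L78061 rfl
theorem L78070 : sm ge N3289 = N5734 := trf L78062 L36664 rfl
theorem L78071 : N5734 = N2697 := eqe L78070 L24606
theorem L78072 : N5734 = N2697 := eqc rfl L78071 rfl
theorem L78078 : sm gc N2697 = N9532 := trf L78072 L57491 rfl
theorem L78079 : N9532 = N2188 := eqe L78078 L21452
theorem L78080 : N9532 = N2188 := eqc rfl L78079 rfl
theorem L78087 : sm gf N2188 = N5766 := trf L78080 L57492 rfl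
theorem L78088 : N5766 = N1202 := eqe L78087 L18920
theorem L78089 : N5766 = N1202 := eqc rfl L78088 rfl
theorem L78103 : sm gg N1202 = N9584 := trf L78089 L57714 rfl
theorem L78104 : N9584 = N2192 := eqe L78103 L18935
theorem L78105 : N9584 = N2192 := eqc rfl L78104 rfl
theorem L78108 : sm ge N2192 = N5767 := trf L78105 L57718 rfl
theorem L78109 : N5767 = N2487 := eqe L78108 L20464
theorem L78110 : N5767 = N2487 := eqc rfl L78109 rfl
theorem L78119 : sm gf N2487 = N9586 := trf L78110 L57722 rfl
theorem L78120 : N9586 = N3297 := eqe L78119 L24647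
theorem L78121 : N9586 = N3297 := eqc rfl L78120 rfl
theorem L78125 : sm gg N3297 = N9528 := trf L78121 L57728 rfl
theorem L78126 : N9528 = N3288 := eqe L78125 L24653
theorem L78127 : N9528 = N3288 := eqc rfl L78126 rfl
theorem L78130 : sm gd N3288 = N9309 := trf L78127 L57470 rfl
theorem L78131 : N9309 = N4778 := eqe L78130 L32116
theorem L78132 : N9309 = N4778 := eqc rfl L78131 rfl
theorem L78140 : sm gf N4778 = N5610 := trf L78132 L56366 rfl
theorem L78141 : N5610 = N3265 := eqe L78140 L32117
theorem L78142 : N5610 = N3265 := eqc rfl L78141 rfl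
theorem L78156 : sm gg N3265 = N9340 := trf L78142 L56512 rfl
theorem L78157 : N9340 = N4784 := eqe L78156 L32139
theorem L78158 : N9340 = N4784 := eqc rfl L78157 rfl
theorem L78160 : sm gc N4784 = N5612 := trf L78158 L56514 rfl
theorem L78161 : N5612 = N7812 := eqe L78160 L47985
theorem L78162 : N7812 = N5612 := (eqc rfl L78161 rfl).symm
theorem L78169 : sm gf N5612 = N7801 := trf L78162 L47986 rfl
theorem L78170 : N7801 = N9343 := eqe L78169 L56526
theorem L78171 : N9343 = N7801 := (eqc rfl L78170 rfl).symm
theorem L78176 : sm gd N7801 = N5614 := trf L78171 L56530 rfl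
theorem L78177 : sm gd N5614 = N7801 := flp_d L78176
theorem L78180 : sm gg N7801 = N9308 := trf L78171 L56532 rfl
theorem L78181 : N9308 = N4779 := eqe L78180 L47937
theorem L78182 : N9308 = N4779 := eqc rfl L78181 rfl
theorem L78189 : sm gf N4779 = N5607 := trf L78182 L56362 rfl
theorem L78190 : N5607 = N3266 := eqe L78189 L32121
theorem L78191 : N5607 = N3266 := eqc rfl L78190 rfl
theorem L78194 : sm gb N3266 = N9331 := trf L78191 L56483 rfl
theorem L78195 : N9331 = N4202 := eqe L78194 L29159
theorem L78196 : N9331 = N4202 := eqc rfl L78195 rfl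
theorem L78198 : sm gd N3266 = N3663 := trf L78191 L36057 rfl
theorem L78199 : N3663 = N4785 := eqe L78198 L32147
theorem L78200 : N4785 = N3663 := (eqc rfl L78199 rfl).symm
theorem L78201 : sm ge N3266 = N9334 := trf L78191 L56488 rfl
theorem L78202 : N9334 = N4741 := eqe L78201 L31950
theorem L78203 : N9334 = N4741 := eqc rfl L78202 rfl
theorem L78205 : sm ga N4741 = N5611 := trf L78203 L56490 rfl
theorem L78206 : N5611 = N7714 := eqe L78205 L47545
theorem L78207 : N7714 = N5611 := (eqc rfl L78206 rfl).symm
theorem L78213 : sm ga N5611 = N4741 := trf L78207 L47544 rfl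
theorem L78221 : sm gb N3663 = N6666 := trf L78200 L41623 rfl
theorem L78222 : N6666 = N5606 := eqe L78221 L36054
theorem L78223 : N6666 = N5606 := eqc rfl L78222 rfl
theorem L78263 : sm ga N5606 = N11097 := trf L78223 L66193 rfl
theorem L78264 : N11097 = N9330 := eqe L78263 L56478
theorem L78265 : N11097 = N9330 := eqc rfl L78264 rfl
theorem L78266 : sm gc N5606 = N11100 := trf L78223 L66208 rfl
theorem L78267 : N11100 = N9324 := eqe L78266 L56449
theorem L78268 : N11100 = N9324 := eqc rfl L78267 rfl
theorem L78281 : sm ga N9324 = N10840 := trf L78268 L66210 rfl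
theorem L78282 : sm ga N10840 = N9324 := flp_a L78281
theorem L78283 : sm gd N9324 = N10838 := trf L78268 L66212 rfl
theorem L78285 : sm gc N9330 = N10840 := trf L78265 L66194 rfl
theorem L78290 : sm gd N4202 = N5606 := trf L78196 L56481 rfl
theorem L78455 : sm ga N4846 = N9557 := trf L78020 L57595 rfl
theorem L78456 : N9557 = N7937 := eqe L78455 L48766
theorem L78457 : N9557 = N7937 := eqc rfl L78456 rfl
theorem L78473 : sm gd N7937 = N5755 := trf L78457 L57593 rfl
theorem L78474 : sm gd N5755 = N7937 := flp_d L78473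
theorem L78491 : sm gd N2697 = N3289 := trf L77996 L32424 rfl
theorem L78492 : sm gd N3289 = N2697 := flp_d L78491
theorem L78507 : sm gd N3734 = N4848 := trf L77974 L48800 rfl
theorem L78508 : sm gd N4848 = N3734 := flp_d L78507
theorem L78523 : sm gd N2492 = N2197 := trf L77920 L21520 rfl
theorem L78524 : sm gd N2197 = N2492 := flp_d L78523
theorem L78549 : sm gd N3305 = N2715 := trf L77821 L26818 rfl
theorem L78550 : sm gd N2715 = N3305 := flp_d L78549
theorem L78802 : sm ga N2049 = N5692 := trf L77738 L57129 rfl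
theorem L78803 : N5692 = N2488 := eqe L78802 L20470
theorem L78804 : N5692 = N2488 := eqc rfl L78803 rfl
theorem L78805 : sm gb N2488 = N3702 := trf L78804 L36453 rfl
theorem L78806 : N3702 = N3298 := eqe L78805 L24655
theorem L78807 : N3702 = N3298 := eqc rfl L78806 rfl
theorem L78812 : sm ge N2488 = N9462 := trf L78804 L57136 rfl
theorem L78813 : N9462 = N2193 := eqe L78812 L20471
theorem L78814 : N9462 = N2193 := eqc rfl L78813 rfl
theorem L78820 : sm gb N2193 = N5694 := trf L78814 L57138 rfl
theorem L78821 : N5694 = N2706 := eqe L78820 L21486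
theorem L78822 : N5694 = N2706 := eqc rfl L78821 rfl
theorem L78827 : sm gc N2706 = N3703 := trf L78822 L36464 rfl
theorem L78828 : N3703 = N3298 := eqe L78827 L24660
theorem L78829 : N3703 = N3298 := eqc rfl L78828 rfl
theorem L78837 : sm gg N2706 = N9422 := trf L78822 L56943 rfl
theorem L78838 : N9422 = N3745 := eqe L78837 L26761
theorem L78839 : N9422 = N3745 := eqc rfl L78838 rfl
theorem L78841 : sm ge N3745 = N5661 := trf L78839 L56939 rfl
theorem L78842 : N5661 = N4859 := eqe L78841 L32554
theorem L78843 : N5661 = N4859 := eqc rfl L78842 rfl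
theorem L78844 : sm ga N4859 = N9418 := trf L78843 L56917 rfl
theorem L78845 : N9418 = N7961 := eqe L78844 L48903
theorem L78846 : N9418 = N7961 := eqc rfl L78845 rfl
theorem L78850 : sm gc N4859 = N3688 := trf L78843 L36291 rfl
theorem L78851 : N3688 = N3745 := eqe L78850 L32551
theorem L78852 : N3745 = N3688 := (eqc rfl L78851 rfl).symm
theorem L78856 : sm gf N4859 = N9423 := trf L78843 L56944 rfl
theorem L78857 : N9423 = N7967 := eqe L78856 L48936
theorem L78858 : N9423 = N7967 := eqc rfl L78857 rfl
theorem L78860 : sm ga N7967 = N9470 := trf L78858 L57177 rfl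
theorem L78861 : N9470 = N7966 := eqe L78860 L48938
theorem L78862 : N9470 = N7966 := eqc rfl L78861 rfl
theorem L78866 : sm gg N7967 = N9453 := trf L78858 L57096 rfl
theorem L78867 : N9453 = N7960 := eqe L78866 L48944
theorem L78868 : N9453 = N7960 := eqc rfl L78867 rfl
theorem L78869 : sm ga N7960 = N5695 := trf L78868 L57090 rfl
theorem L78870 : N5695 = N4858 := eqe L78869 L48894
theorem L78871 : N5695 = N4858 := eqc rfl L78870 rfl
theorem L78877 : sm gf N7960 = N5687 := trf L78868 L57089 rfl
theorem L78878 : N5687 = N4856 := eqe L78877 L48893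
theorem L78879 : N5687 = N4856 := eqc rfl L78878 rfl
theorem L78884 : sm gc N4856 = N3699 := trf L78879 L36431 rfl
theorem L78885 : N3699 = N3742 := eqe L78884 L32533
theorem L78886 : N3742 = N3699 := (eqc rfl L78885 rfl).symm
theorem L78887 : sm gd N4856 = N5561 := trf L78879 L36435 rfl
theorem L78888 : N5561 = N7959 := eqe L78887 L48888
theorem L78889 : N7959 = N5561 := (eqc rfl L78888 rfl).symm
theorem L78894 : sm ga N5561 = N4857 := trf L78889 L48890 rfl
theorem L78895 : N4857 = N5693 := eqe L78894 L36459
theorem L78896 : N5693 = N4857 := (eqc rfl L78895 rfl).symm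
theorem L78902 : sm gc N4857 = N5558 := trf L78896 L36461 rfl
theorem L78903 : N5558 = N7962 := eqe L78902 L48908
theorem L78904 : N7962 = N5558 := (eqc rfl L78903 rfl).symm
theorem L78906 : sm ge N4857 = N9465 := trf L78896 L57150 rfl
theorem L78907 : N9465 = N7963 := eqe L78906 L48910
theorem L78908 : N9465 = N7963 := eqc rfl L78907 rfl
theorem L78920 : sm gc N7963 = N9230 := trf L78908 L57154 rfl
theorem L78922 : sm gb N5558 = N7970 := trf L78904 L48959 rfl
theorem L78923 : N7970 = N9227 := eqe L78922 L55995
theorem L78924 : N9227 = N7970 := (eqc rfl L78923 rfl).symm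
theorem L78929 : sm gd N7970 = N5557 := trf L78924 L55993 rfl
theorem L78934 : sm gb N3699 = N5777 := trf L78886 L36869 rfl
theorem L78935 : N5777 = N5684 := eqe L78934 L36425
theorem L78936 : N5777 = N5684 := eqc rfl L78935 rfl
theorem L78937 : sm gc N3699 = N4856 := trf L78886 L32534 rfl
theorem L78938 : sm gc N4856 = N3699 := flp_c L78937
theorem L78942 : sm ge N3699 = N4856 := trf L78886 L32536 rfl
theorem L78943 : N4856 = N5688 := eqe L78942 L36436
theorem L78944 : N5688 = N4856 := (eqc rfl L78943 rfl).symm
theorem L78946 : sm gg N3699 = N5780 := trf L78886 L36879 rfl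
theorem L78947 : N5780 = N5660 := eqe L78946 L36289
theorem L78948 : N5780 = N5660 := eqc rfl L78947 rfl
theorem L78958 : sm ge N5660 = N7961 := trf L78948 L48907 rfl
theorem L78959 : N7961 = N9419 := eqe L78958 L56922
theorem L78960 : N9419 = N7961 := (eqc rfl L78959 rfl).symm
theorem L78961 : sm gf N5660 = N5785 := trf L78948 L36901 rfl
theorem L78962 : N5785 = N5698 := eqe L78961 L36486
theorem L78963 : N5785 = N5698 := eqc rfl L78962 rfl
theorem L78976 : sm gg N5698 = N3744 := trf L78963 L36900 rfl
theorem L78977 : N3744 = N3704 := eqe L78976 L36481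
theorem L78978 : N3744 = N3704 := eqc rfl L78977 rfl
theorem L78980 : sm gb N3704 = N3461 := trf L78978 L26759 rfl
theorem L78981 : N3461 = N5697 := eqe L78980 L36474
theorem L78982 : N5697 = N3461 := (eqc rfl L78981 rfl).symm
theorem L78988 : sm ge N3704 = N4858 := trf L78978 L32546 rfl
theorem L78989 : N4858 = N5696 := eqe L78988 L36473
theorem L78990 : N5696 = N4858 := (eqc rfl L78989 rfl).symm
theorem L79002 : sm gd N4858 = N7881 := trf L78990 L48379 rfl
theorem L79003 : N7881 = N7964 := eqe L79002 L48919
theorem L79004 : N7964 = N7881 := (eqc rfl L79003 rfl).symm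
theorem L79015 : sm gd N7881 = N4858 := trf L79004 L48918 rfl
theorem L79017 : sm gf N7881 = N4857 := trf L79004 L48917 rfl
theorem L79018 : N4857 = N4817 := eqe L79017 L48377
theorem L79019 : N4857 = N4817 := eqc rfl L79018 rfl
theorem L79023 : sm gb N4817 = N3299 := trf L79019 L32539 rfl
theorem L79024 : N3299 = N3300 := eqe L79023 L32311
theorem L79025 : N3300 = N3299 := (eqc rfl L79024 rfl).symm
theorem L79031 : sm ge N4817 = N7963 := trf L79019 L48910 rfl
theorem L79032 : N7963 = N3280 := eqe L79031 L32310
theorem L79033 : N7963 = N3280 := eqc rfl L79032 rfl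
theorem L79047 : sm gc N3280 = N9230 := trf L79033 L78920 rfl
theorem L79048 : N9230 = N4816 := eqe L79047 L32307
theorem L79049 : N9230 = N4816 := eqc rfl L79048 rfl
theorem L79050 : sm gd N3280 = N5782 := trf L79033 L48914 rfl
theorem L79051 : N5782 = N2479 := eqe L79050 L24560
theorem L79052 : N5782 = N2479 := eqc rfl L79051 rfl
theorem L79065 : sm gf N2479 = N9614 := trf L79052 L57840 rfl
theorem L79066 : N9614 = N3281 := eqe L79065 L24563
theorem L79067 : N9614 = N3281 := eqc rfl L79066 rfl
theorem L79069 : sm gb N3281 = N8495 := trf L79067 L57844 rfl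
theorem L79070 : N8495 = N4819 := eqe L79069 L32319
theorem L79071 : N8495 = N4819 := eqc rfl L79070 rfl
theorem L79076 : sm gf N4819 = N5166 := trf L79071 L52308 rfl
theorem L79077 : N5166 = N3302 := eqe L79076 L32325
theorem L79078 : N5166 = N3302 := eqc rfl L79077 rfl
theorem L79086 : sm gd N3302 = N7382 := trf L79078 L45700 rfl
theorem L79087 : N7382 = N4862 := eqe L79086 L32582
theorem L79088 : N7382 = N4862 := eqc rfl L79087 rfl
theorem L79089 : sm ge N3302 = N3459 := trf L79078 L34012 rfl
theorem L79090 : N3459 = N2711 := eqe L79089 L24685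
theorem L79091 : N3459 = N2711 := eqc rfl L79090 rfl
theorem L79096 : sm gb N2711 = N2571 := trf L79091 L25518 rfl
theorem L79097 : N2571 = N2195 := eqe L79096 L21507
theorem L79098 : N2571 = N2195 := eqc rfl L79097 rfl
theorem L79102 : sm gd N2711 = N2572 := trf L79091 L25519 rfl
theorem L79103 : N2572 = N3750 := eqe L79102 L26786
theorem L79104 : N3750 = N2572 := (eqc rfl L79103 rfl).symm
theorem L79106 : sm gg N2711 = N5121 := trf L79091 L33831 rfl
theorem L79107 : N5121 = N3752 := eqe L79106 L26791
theorem L79108 : N5121 = N3752 := eqc rfl L79107 rfl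
theorem L79120 : sm gf N3752 = N8427 := trf L79108 L51973 rfl
theorem L79121 : N8427 = N5798 := eqe L79120 L36947
theorem L79122 : N8427 = N5798 := eqc rfl L79121 rfl
theorem L79129 : sm gg N5798 = N8498 := trf L79122 L52325 rfl
theorem L79130 : N8498 = N5699 := eqe L79129 L36953
theorem L79131 : N8498 = N5699 := eqc rfl L79130 rfl
theorem L79133 : sm gd N5699 = N5171 := trf L79131 L52323 rfl
theorem L79134 : N5171 = N9473 := eqe L79133 L57199
theorem L79135 : N9473 = N5171 := (eqc rfl L79134 rfl).symm
theorem L79140 : sm gf N5171 = N5793 := trf L79135 L57200 rfl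
theorem L79141 : N5793 = N3460 := eqe L79140 L34027
theorem L79142 : N5793 = N3460 := eqc rfl L79141 rfl
theorem L79145 : sm gb N3460 = N9632 := trf L79142 L57920 rfl
theorem L79146 : N9632 = N5170 := eqe L79145 L34024
theorem L79147 : N9632 = N5170 := eqc rfl L79146 rfl
theorem L79153 : sm ge N3460 = N9629 := trf L79142 L57909 rfl
theorem L79154 : N9629 = N4577 := eqe L79153 L31029
theorem L79155 : N9629 = N4577 := eqc rfl L79154 rfl
theorem L79169 : sm ga N4577 = N5792 := trf L79155 L57907 rfl
theorem L79170 : N5792 = N3163 := eqe L79169 L31027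
theorem L79171 : N5792 = N3163 := eqc rfl L79170 rfl
theorem L79175 : sm gc N3163 = N9630 := trf L79171 L57910 rfl
theorem L79176 : N9630 = N3305 := eqe L79175 L24709
theorem L79177 : N9630 = N3305 := eqc rfl L79176 rfl
theorem L79178 : sm gd N3163 = N7968 := trf L79171 L48949 rfl
theorem L79179 : N7968 = N4576 := eqe L79178 L31025
theorem L79180 : N7968 = N4576 := eqc rfl L79179 rfl
theorem L79184 : sm gb N4576 = N4861 := trf L79180 L48947 rfl
theorem L79185 : N4861 = N3162 := eqe L79184 L31023
theorem L79186 : N4861 = N3162 := eqc rfl L79185 rfl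
theorem L79189 : sm ga N3162 = N4575 := trf L79186 L32569 rfl
theorem L79190 : N4575 = N3301 := eqe L79189 L24676
theorem L79191 : N4575 = N3301 := eqc rfl L79190 rfl
theorem L79197 : sm gg N3162 = N4574 := trf L79186 L32577 rfl
theorem L79198 : N4574 = N2424 := eqe L79197 L23812
theorem L79199 : N4574 = N2424 := eqc rfl L79198 rfl
theorem L79200 : sm ga N2424 = N3161 := trf L79199 L31010 rfl
theorem L79201 : N3161 = N3160 := eqe L79200 L23806
theorem L79202 : N3161 = N3160 := eqc rfl L79201 rfl
theorem L79213 : sm ge N3160 = N2424 := trf L79202 L23808 rfl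
theorem L79214 : sm ge N2424 = N3160 := flp_e L79213
theorem L79220 : sm ge N3301 = N3162 := trf L79191 L31020 rfl
theorem L79221 : sm ge N3162 = N3301 := flp_e L79220
theorem L79223 : sm ge N3305 = N5794 := trf L79177 L57912 rfl
theorem L79224 : N5794 = N2715 := eqe L79223 L24706
theorem L79225 : N5794 = N2715 := eqc rfl L79224 rfl
theorem L79231 : sm gd N2715 = N9635 := trf L79225 L57936 rfl
theorem L79232 : N9635 = N3305 := eqe L79231 L78550
theorem L79233 : N9635 = N3305 := eqc rfl L79232 rfl
theorem L79245 : sm gc N3305 = N11143 := trf L79233 L66406 rfl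
theorem L79246 : N11143 = N3163 := eqe L79245 L24708
theorem L79247 : N11143 = N3163 := eqc rfl L79246 rfl
theorem L79248 : sm ga N3163 = N6687 := trf L79247 L66403 rfl
theorem L79249 : N6687 = N4577 := eqe L79248 L31026
theorem L79250 : N6687 = N4577 := eqc rfl L79249 rfl
theorem L79251 : sm gd N3163 = N6685 := trf L79247 L66402 rfl
theorem L79252 : N6685 = N4576 := eqe L79251 L31025
theorem L79253 : N6685 = N4576 := eqc rfl L79252 rfl
theorem L79254 : sm ga N4576 = N4212 := trf L79253 L41704 rfl
theorem L79255 : N4212 = N7383 := eqe L79254 L45703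
theorem L79256 : N7383 = N4212 := (eqc rfl L79255 rfl).symm
theorem L79263 : sm ge N4576 = N11050 := trf L79253 L65983 rfl
theorem L79264 : N11050 = N7382 := eqe L79263 L45702
theorem L79265 : N11050 = N4862 := eqc rfl L79264 L79088
theorem L79284 : sm ga N4862 = N6644 := trf L79265 L65980 rfl
theorem L79285 : N6644 = N7969 := eqe L79284 L48952
theorem L79286 : N7969 = N6644 := (eqc rfl L79285 rfl).symm
theorem L79287 : sm gc N4862 = N6643 := trf L79265 L65979 rfl
theorem L79288 : N6643 = N7970 := eqe L79287 L48956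
theorem L79289 : N7970 = N6643 := (eqc rfl L79288 rfl).symm
theorem L79293 : sm gc N6643 = N4862 := trf L79289 L48957 rfl
theorem L79295 : sm gd N6643 = N5557 := trf L79289 L78929 rfl
theorem L79296 : N5557 = N10819 := eqe L79295 L64738
theorem L79297 : N10819 = N5557 := (eqc rfl L79296 rfl).symm
theorem L79303 : sm ge N5557 = N6526 := trf L79297 L64739 rfl
theorem L79304 : N6526 = N9082 := eqe L79303 L55264
theorem L79305 : N9082 = N6526 := (eqc rfl L79304 rfl).symm
theorem L79306 : sm gb N6526 = N5493 := trf L79305 L55262 rfl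
theorem L79307 : N5493 = N10857 := eqe L79306 L64919
theorem L79308 : N10857 = N5493 := (eqc rfl L79307 rfl).symm
theorem L79309 : sm ge N6526 = N5557 := trf L79305 L55263 rfl
theorem L79311 : sm gb N5493 = N6526 := trf L79308 L64920 rfl
theorem L79312 : sm gb N6526 = N5493 := flp_b L79311
theorem L79313 : sm gd N5493 = N6552 := trf L79308 L64921 rfl
theorem L79314 : N6552 = N9083 := eqe L79313 L55265
theorem L79315 : N9083 = N6552 := (eqc rfl L79314 rfl).symm
theorem L79316 : sm ga N6552 = N5495 := trf L79315 L55267 rfl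
theorem L79317 : N5495 = N8503 := eqe L79316 L59297
theorem L79318 : N8503 = N5495 := (eqc rfl L79317 rfl).symm
theorem L79326 : sm gc N5495 = N5170 := trf L79318 L52344 rfl
theorem L79327 : N5170 = N9086 := eqe L79326 L55283
theorem L79328 : N9086 = N5170 := (eqc rfl L79327 rfl).symm
theorem L79329 : sm ge N5495 = N6742 := trf L79318 L59301 rfl
theorem L79330 : N6742 = N9087 := eqe L79329 L55285
theorem L79331 : N9087 = N6742 := (eqc rfl L79330 rfl).symm
theorem L79332 : sm gg N5495 = N9849 := trf L79318 L59149 rfl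
theorem L79333 : N9849 = N9072 := eqe L79332 L55218
theorem L79334 : N9849 = N9072 := eqc rfl L79333 rfl
theorem L79339 : sm gc N9072 = N8505 := trf L79334 L59147 rfl
theorem L79343 : sm gf N9072 = N5926 := trf L79334 L59124 rfl
theorem L79348 : sm gd N6742 = N5562 := trf L79331 L55287 rfl
theorem L79349 : N5562 = N11138 := eqe L79348 L66386
theorem L79350 : N11138 = N5562 := (eqc rfl L79349 rfl).symm
theorem L79351 : sm ge N6742 = N5495 := trf L79331 L55286 rfl
theorem L79352 : sm ge N5495 = N6742 := flp_e L79351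
theorem L79353 : sm ga N5562 = N6684 := trf L79350 L66384 rfl
theorem L79354 : N6684 = N9230 := eqe L79353 L56003
theorem L79355 : N6684 = N4816 := eqc rfl L79354 L79049
theorem L79356 : sm gb N5562 = N11092 := trf L79350 L66387 rfl
theorem L79357 : N11092 = N5611 := eqe L79356 L36077
theorem L79358 : N11092 = N5611 := eqc rfl L79357 rfl
theorem L79361 : sm ga N5611 = N6663 := trf L79358 L66175 rfl
theorem L79362 : N6663 = N4741 := eqe L79361 L78213
theorem L79363 : N6663 = N4741 := eqc rfl L79362 rfl
theorem L79366 : sm gb N4741 = N4201 := trf L79363 L41605 rfl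
theorem L79367 : N4201 = N6634 := eqe L79366 L41473
theorem L79368 : N6634 = N4201 := (eqc rfl L79367 rfl).symm
theorem L79375 : sm ge N4741 = N11026 := trf L79363 L65849 rfl
theorem L79376 : N11026 = N3266 := eqe L79375 L31949
theorem L79377 : N11026 = N3266 := eqc rfl L79376 rfl
theorem L79388 : sm gb N3266 = N6633 := trf L79377 L65847 rfl
theorem L79389 : N6633 = N4202 := eqe L79388 L29159
theorem L79390 : N6633 = N4202 := eqc rfl L79389 rfl
theorem L79391 : sm ga N4202 = N4189 := trf L79390 L41465 rfl
theorem L79392 : N4189 = N6664 := eqe L79391 L41611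
theorem L79393 : N6664 = N4189 := (eqc rfl L79392 rfl).symm
theorem L79397 : sm gd N4202 = N10809 := trf L79390 L64666 rfl
theorem L79398 : N10809 = N5606 := eqe L79397 L78290
theorem L79399 : N10809 = N5606 := eqc rfl L79398 rfl
theorem L79405 : sm gg N4202 = N11022 := trf L79390 L65831 rfl
theorem L79406 : N11022 = N6660 := eqe L79405 L41595
theorem L79407 : N11022 = N6660 := eqc rfl L79406 rfl
theorem L79414 : sm gf N6660 = N11031 := trf L79407 L65880 rfl
theorem L79415 : N11031 = N11088 := eqe L79414 L66156
theorem L79416 : N11088 = N11031 := (eqc rfl L79415 rfl).symm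
theorem L79417 : sm ga N11031 = N11104 := trf L79416 L66231 rfl
theorem L79418 : N11104 = N11024 := eqe L79417 L65876
theorem L79419 : N11104 = N11024 := eqc rfl L79418 rfl
theorem L79438 : sm gc N11024 = N6668 := trf L79419 L66232 rfl
theorem L79439 : sm gc N6668 = N11024 := flp_c L79438
theorem L79459 : sm ga N5606 = N6504 := trf L79399 L64664 rfl
theorem L79460 : N6504 = N9330 := eqe L79459 L56478
theorem L79461 : N9330 = N6504 := (eqc rfl L79460 rfl).symm
theorem L79481 : sm gc N6504 = N10840 := trf L79461 L78285 rfl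
theorem L79482 : N10840 = N10810 := eqe L79481 L64669
theorem L79483 : N10840 = N10810 := eqc rfl L79482 rfl
theorem L79485 : sm ga N10810 = N9324 := trf L79483 L78282 rfl
theorem L79486 : sm ga N9324 = N10810 := flp_a L79485
theorem L79488 : sm gd N10810 = N6517 := trf L79483 L64839 rfl
theorem L79492 : sm ga N4189 = N4202 := trf L79393 L41610 rfl
theorem L79493 : sm ga N4202 = N4189 := flp_a L79492
theorem L79507 : sm gc N4201 = N4189 := trf L79368 L41469 rfl
theorem L79508 : sm gc N4189 = N4201 := flp_c L79507
theorem L79516 : sm gd N4816 = N4240 := trf L79355 L41700 rfl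
theorem L79517 : N4240 = N7878 := eqe L79516 L48362
theorem L79518 : N7878 = N4240 := (eqc rfl L79517 rfl).symm
theorem L79531 : sm ga N4240 = N7765 := trf L79518 L48364 rfl
theorem L79532 : N7765 = N6742 := eqe L79531 L41928
theorem L79533 : N7765 = N6742 := eqc rfl L79532 rfl
theorem L79534 : sm gc N4240 = N7762 := trf L79518 L48367 rfl
theorem L79535 : N7762 = N6743 := eqe L79534 L41932
theorem L79536 : N7762 = N6743 := eqc rfl L79535 rfl
theorem L79542 : sm gd N6743 = N4761 := trf L79536 L47763 rfl
theorem L79543 : N4761 = N11213 := eqe L79542 L66853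
theorem L79544 : N11213 = N4761 := (eqc rfl L79543 rfl).symm
theorem L79545 : sm gd N4761 = N6743 := trf L79544 L66854 rfl
theorem L79546 : sm gd N6743 = N4761 := flp_d L79545
theorem L79562 : sm gc N6742 = N4763 := trf L79533 L47779 rfl
theorem L79575 : sm gc N5170 = N5495 := trf L79328 L55284 rfl
theorem L79576 : sm gc N5495 = N5170 := flp_c L79575
theorem L79592 : sm gd N6644 = N4863 := trf L79286 L48954 rfl
theorem L79593 : N4863 = N11052 := eqe L79592 L65992
theorem L79594 : N11052 = N4863 := (eqc rfl L79593 rfl).symm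
theorem L79595 : sm gb N4863 = N7693 := trf L79594 L65994 rfl
theorem L79596 : N7693 = N7972 := eqe L79595 L48966
theorem L79597 : N7972 = N7693 := (eqc rfl L79596 rfl).symm
theorem L79598 : sm gd N4863 = N6644 := trf L79594 L65993 rfl
theorem L79599 : sm gd N6644 = N4863 := flp_d L79598
theorem L79600 : sm ga N7693 = N9639 := trf L79597 L59318 rfl
theorem L79601 : sm ga N9639 = N7693 := flp_a L79600
theorem L79602 : sm gb N7693 = N4863 := trf L79597 L48967 rfl
theorem L79603 : sm gb N4863 = N7693 := flp_b L79602
theorem L79604 : sm gc N7693 = N9638 := trf L79597 L59307 rfl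
theorem L79605 : sm gc N9638 = N7693 := flp_c L79604
theorem L79606 : sm ge N7693 = N5796 := trf L79597 L48968 rfl
theorem L79607 : sm ge N5796 = N7693 := flp_e L79606
theorem L79612 : sm ga N4212 = N4576 := trf L79256 L45704 rfl
theorem L79613 : sm ga N4576 = N4212 := flp_a L79612
theorem L79619 : sm gd N4577 = N4212 := trf L79250 L41715 rfl
theorem L79638 : sm gd N5170 = N5796 := trf L79147 L57922 rfl
theorem L79639 : N5796 = N8496 := eqe L79638 L52314
theorem L79640 : N8496 = N5796 := (eqc rfl L79639 rfl).symm
theorem L79642 : sm gd N5796 = N5170 := trf L79640 L52313 rfl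
theorem L79643 : sm gd N5170 = N5796 := flp_d L79642
theorem L79656 : sm gd N2572 = N2711 := trf L79104 L26785 rfl
theorem L79657 : sm gd N2711 = N2572 := flp_d L79656
theorem L79681 : sm gg N2195 = N2127 := trf L79098 L20897 rfl
theorem L79682 : N2127 = N2126 := eqe L79681 L18953
theorem L79683 : N2127 = N2126 := eqc rfl L79682 rfl
theorem L79691 : sm gf N2126 = N2395 := trf L79683 L19955 rfl
theorem L79692 : N2395 = N2394 := eqe L79691 L19949
theorem L79693 : N2395 = N2394 := eqc rfl L79692 rfl
theorem L79695 : sm gb N2394 = N3084 := trf L79693 L23378 rfl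
theorem L79696 : N3084 = N3102 := eqe L79695 L23471
theorem L79697 : N3102 = N3084 := (eqc rfl L79696 rfl).symm
theorem L79704 : sm gb N3084 = N2394 := trf L79697 L23472 rfl
theorem L79705 : sm gb N2394 = N3084 := flp_b L79704
theorem L79723 : sm ge N4862 = N4576 := trf L79088 L45701 rfl
theorem L79724 : sm ge N4576 = N4862 := flp_e L79723
theorem L79789 : sm gb N3299 = N4817 := trf L79025 L32312 rfl
theorem L79790 : sm gb N4817 = N3299 := flp_b L79789
theorem L79792 : sm ge N3299 = N2489 := trf L79025 L24670 rfl
theorem L79793 : sm ge N2489 = N3299 := flp_e L79792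
theorem L79823 : sm gb N3461 = N3704 := trf L78982 L36475 rfl
theorem L79825 : sm gd N3461 = N3705 := trf L78982 L36476 rfl
theorem L79834 : sm ge N7961 = N5660 := trf L78960 L56923 rfl
theorem L79844 : sm ge N4856 = N3699 := trf L78944 L36437 rfl
theorem L79852 : sm ga N5684 = N7931 := trf L78936 L50169 rfl
theorem L79853 : N7931 = N7932 := eqe L79852 L50163
theorem L79854 : N7932 = N7931 := (eqc rfl L79853 rfl).symm
theorem L79870 : sm gd N7931 = N4843 := trf L79854 L48735 rfl
theorem L79871 : sm gd N4843 = N7931 := flp_d L79870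
theorem L79892 : sm gc N4858 = N3704 := trf L78871 L36468 rfl
theorem L79913 : sm gc N7966 = N5698 := trf L78862 L57178 rfl
theorem L79922 : sm gc N3688 = N4859 := trf L78852 L32552 rfl
theorem L79923 : sm gc N4859 = N3688 := flp_c L79922
theorem L79931 : sm gc N7961 = N5660 := trf L78846 L56915 rfl
theorem L79932 : sm gc N5660 = N7961 := flp_c L79931
theorem L79933 : sm gd N7961 = N9205 := trf L78846 L56921 rfl
theorem L79936 : sm gd N3298 = N4817 := trf L78829 L32314 rfl
theorem L79937 : sm gd N4817 = N3298 := flp_d L79936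
theorem L79938 : sm ge N3298 = N2688 := trf L78829 L26596 rfl
theorem L79939 : sm ge N2688 = N3298 := flp_e L79938
theorem L79941 : sm gc N3298 = N2688 := trf L78807 L26594 rfl
theorem L79942 : sm gc N2688 = N3298 := flp_c L79941
theorem L80305 : sm gd N2052 = N1212 := trf L76939 L18956 rfl
theorem L80306 : sm gd N1212 = N2052 := flp_d L80305
theorem L80325 : sm gd N1228 = N1228 := trf L76898 L18963 rfl
theorem L80327 : sm gg N1228 = N2396 := trf L76898 L19967 rfl
theorem L80328 : N2396 = N1895 := eqe L80327 L18423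
theorem L80329 : N2396 = N1895 := eqc rfl L80328 rfl
theorem L80333 : sm gd N1895 = N1895 := trf L80329 L19959 rfl
theorem L80336 : sm gd N1236 = N1236 := trf L76895 L18996 rfl
theorem L80339 : sm ge N2078 = N2078 := trf L76888 L20548 rfl
theorem L80344 : sm gd N1047 = N1047 := trf L76874 L10556 rfl
theorem L80350 : sm ge N1058 = N1058 := trf L76842 L10625 rfl
theorem L80358 : sm ge N1170 = N1170 := trf L76831 L18690 rfl
theorem L80362 : sm ge N1260 = N1260 := trf L76827 L19009 rfl
theorem L80365 : sm ge N569 = N569 := trf L76818 L5932 rfl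
theorem L80367 : sm ge N1934 = N1934 := trf L76815 L19985 rfl
theorem L80373 : sm gd N475 = N475 := trf L76722 L4806 rfl
theorem L80493 : sm gd N1152 = N1152 := trf L76266 L18662 rfl
theorem L80496 : sm gd N1231 = N1231 := trf L76254 L18979 rfl
theorem L80499 : sm gd N600 = N600 := trf L76244 L6219 rfl
theorem L80502 : sm gd N956 = N956 := trf L76232 L9597 rfl
theorem L80510 : sm gd N1879 = N2394 := trf L76218 L23476 rfl
theorem L80511 : sm gd N2394 = N1879 := flp_d L80510
theorem L80516 : sm gd N1146 = N2126 := trf L76206 L20889 rfl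
theorem L80517 : sm gd N2126 = N1146 := flp_d L80516
theorem L80522 : sm gd N2128 = N2195 := trf L76192 L21502 rfl
theorem L80523 : sm gd N2195 = N2128 := flp_d L80522
theorem L80529 : sm gb N2193 = N2688 := trf L76178 L21425 rfl
theorem L80530 : sm gb N2688 = N2193 := flp_b L80529
theorem L80531 : sm gd N2193 = N1209 := trf L76178 L18946 rfl
theorem L80532 : sm gd N1209 = N2193 := flp_d L80531
theorem L80653 : sm gd N4419 = N7148 := trf L75745 L70373 rfl
theorem L80654 : N7148 = N7075 := eqe L80653 L43992
theorem L80655 : N7148 = N7075 := eqc rfl L80654 rfl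
theorem L80656 : sm gf N4419 = N10558 := trf L75745 L70376 rfl
theorem L80657 : N10558 = N7076 := eqe L80656 L43996
theorem L80658 : N10558 = N7076 := eqc rfl L80657 rfl
theorem L80659 : sm gb N7076 = N6355 := trf L80658 L63212 rfl
theorem L80660 : N6355 = N11662 := eqe L80659 L69444
theorem L80661 : N11662 = N6355 := (eqc rfl L80660 rfl).symm
theorem L80662 : sm gd N7076 = N6354 := trf L80658 L63211 rfl
theorem L80663 : N6354 = N11693 := eqe L80662 L69618
theorem L80664 : N11693 = N6354 := (eqc rfl L80663 rfl).symm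
theorem L80665 : sm gd N6354 = N7076 := trf L80664 L69617 rfl
theorem L80669 : sm gb N6355 = N7076 := trf L80661 L69443 rfl
theorem L80673 : sm ga N7075 = N10319 := trf L80655 L61717 rfl
theorem L80674 : N10319 = N11688 := eqe L80673 L69590
theorem L80675 : N11688 = N10319 := (eqc rfl L80674 rfl).symm
theorem L80677 : sm gc N7075 = N10280 := trf L80655 L61515 rfl
theorem L80678 : N10280 = N10738 := eqe L80677 L74114
theorem L80679 : N10738 = N10280 := (eqc rfl L80678 rfl).symm
theorem L80682 : sm gf N7075 = N6354 := trf L80655 L44388 rfl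
theorem L80687 : sm ga N10280 = N8571 := trf L80679 L64238 rfl
theorem L80688 : N8571 = N6208 := eqe L80687 L61518
theorem L80689 : N8571 = N6208 := eqc rfl L80688 rfl
theorem L80690 : sm gb N10280 = N6790 := trf L80679 L64240 rfl
theorem L80691 : N6790 = N6185 := eqe L80690 L61513
theorem L80692 : N6790 = N6185 := eqc rfl L80691 rfl
theorem L80693 : sm gc N10280 = N7075 := trf L80679 L74113 rfl
theorem L80698 : sm ge N10280 = N9787 := trf L80679 L64246 rfl
theorem L80699 : N9787 = N10691 := eqe L80698 L63999
theorem L80700 : N10691 = N9787 := (eqc rfl L80699 rfl).symm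
theorem L80719 : sm ga N9787 = N6436 := trf L80700 L63995 rfl
theorem L80720 : N6436 = N5869 := eqe L80719 L58656
theorem L80721 : N6436 = N5869 := eqc rfl L80720 rfl
theorem L80722 : sm gb N9787 = N10197 := trf L80700 L64002 rfl
theorem L80723 : N10197 = N11273 := eqe L80722 L67260
theorem L80724 : N11273 = N10197 := (eqc rfl L80723 rfl).symm
theorem L80733 : sm gd N10197 = N6920 := trf L80724 L67261 rfl
theorem L80739 : sm gc N5869 = N10684 := trf L80721 L63953 rfl
theorem L80740 : N10684 = N9788 := eqe L80739 L58659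
theorem L80741 : N10684 = N9788 := eqc rfl L80740 rfl
theorem L80742 : sm gd N5869 = N10692 := trf L80721 L64004 rfl
theorem L80743 : N10692 = N3789 := eqe L80742 L37307
theorem L80744 : N10692 = N3789 := eqc rfl L80743 rfl
theorem L80753 : sm gb N3789 = N6437 := trf L80744 L64006 rfl
theorem L80754 : N6437 = N2736 := eqe L80753 L26985
theorem L80755 : N6437 = N2736 := eqc rfl L80754 rfl
theorem L80767 : sm gg N2736 = N10696 := trf L80755 L64024 rfl
theorem L80768 : N10696 = N2747 := eqe L80767 L21693
theorem L80769 : N10696 = N2747 := eqc rfl L80768 rfl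
theorem L80776 : sm gf N2747 = N10657 := trf L80769 L64030 rfl
theorem L80777 : N10657 = N2218 := eqe L80776 L21687
theorem L80778 : N10657 = N2218 := eqc rfl L80777 rfl
theorem L80785 : sm gg N2218 = N6418 := trf L80778 L63801 rfl
theorem L80786 : N6418 = N1274 := eqe L80785 L19075
theorem L80787 : N6418 = N1274 := eqc rfl L80786 rfl
theorem L80793 : sm gd N1274 = N4079 := trf L80787 L40421 rfl
theorem L80794 : N4079 = N2216 := eqe L80793 L19068
theorem L80795 : N4079 = N2216 := eqc rfl L80794 rfl
theorem L80804 : sm gc N2216 = N2910 := trf L80795 L28537 rfl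
theorem L80805 : N2910 = N2740 := eqe L80804 L21664
theorem L80806 : N2910 = N2740 := eqc rfl L80805 rfl
theorem L80816 : sm gd N2740 = N3226 := trf L80806 L24288 rfl
theorem L80817 : N3226 = N2427 := eqe L80816 L24247
theorem L80818 : N3226 = N2427 := eqc rfl L80817 rfl
theorem L80819 : sm ge N2740 = N4064 := trf L80806 L28456 rfl
theorem L80820 : N4064 = N3485 := eqe L80819 L25646
theorem L80821 : N4064 = N3485 := eqc rfl L80820 rfl
theorem L80825 : sm gg N2740 = N4080 := trf L80806 L28544 rfl
theorem L80826 : N4080 = N3798 := eqe L80825 L27008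
theorem L80827 : N4080 = N3798 := eqc rfl L80826 rfl
theorem L80831 : sm gb N3798 = N6420 := trf L80827 L40432 rfl
theorem L80832 : N6420 = N5883 := eqe L80831 L37356
theorem L80833 : N6420 = N5883 := eqc rfl L80832 rfl
theorem L80841 : sm gf N3798 = N4088 := trf L80827 L28573 rfl
theorem L80842 : N4088 = N4591 := eqe L80841 L31116
theorem L80843 : N4591 = N4088 := (eqc rfl L80842 rfl).symm
theorem L80847 : sm gb N4088 = N7412 := trf L80843 L45897 rfl
theorem L80848 : N7412 = N6439 := eqe L80847 L40506
theorem L80849 : N7412 = N6439 := eqc rfl L80848 rfl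
theorem L80860 : sm gg N4088 = N3175 := trf L80843 L31111 rfl
theorem L80861 : N3175 = N2914 := eqe L80860 L28569
theorem L80862 : N3175 = N2914 := eqc rfl L80861 rfl
theorem L80864 : sm gb N2914 = N4590 := trf L80862 L31104 rfl
theorem L80865 : N4590 = N4086 := eqe L80864 L28560
theorem L80866 : N4590 = N4086 := eqc rfl L80865 rfl
theorem L80869 : sm gd N2914 = N2430 := trf L80862 L23887 rfl
theorem L80870 : N2430 = N3234 := eqe L80869 L24340
theorem L80871 : N3234 = N2430 := (eqc rfl L80870 rfl).symm
theorem L80872 : sm ge N2914 = N4588 := trf L80862 L31097 rfl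
theorem L80873 : N4588 = N4070 := eqe L80872 L28498
theorem L80874 : N4588 = N4070 := eqc rfl L80873 rfl
theorem L80880 : sm gb N4070 = N5480 := trf L80874 L45843 L72350
theorem L80881 : N5480 = N6400 := eqe L80880 L40319
theorem L80882 : N6400 = N5480 := (eqc rfl L80881 rfl).symm
theorem L80886 : sm gd N4070 = N3496 := trf L80874 L31094 rfl
theorem L80887 : N3496 = N6394 := eqe L80886 L40300
theorem L80888 : N6394 = N3496 := (eqc rfl L80887 rfl).symm
theorem L80889 : sm gf N4070 = N3174 := trf L80874 L31093 rfl
theorem L80890 : N3174 = N6387 := eqe L80889 L40264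
theorem L80891 : N6387 = N3174 := (eqc rfl L80890 rfl).symm
theorem L80904 : sm gg N3174 = N6402 := trf L80891 L40342 rfl
theorem L80905 : N6402 = N4589 := eqe L80904 L31098
theorem L80906 : N6402 = N4589 := eqc rfl L80905 rfl
theorem L80916 : sm gf N4589 = N4071 := trf L80906 L40334 rfl
theorem L80917 : N4071 = N7408 := eqe L80916 L45869
theorem L80918 : N7408 = N4071 := (eqc rfl L80917 rfl).symm
theorem L80921 : sm gd N4071 = N5248 := trf L80918 L45875 rfl
theorem L80922 : N5248 = N6396 := eqe L80921 L40307
theorem L80923 : N6396 = N5248 := (eqc rfl L80922 rfl).symm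
theorem L80934 : sm gc N5248 = N10627 := trf L80923 L63626 rfl
theorem L80935 : N10627 = N8624 := eqe L80934 L52952
theorem L80936 : N10627 = N8624 := eqc rfl L80935 rfl
theorem L80943 : sm gg N5248 = N4068 := trf L80923 L40305 rfl
theorem L80944 : N4068 = N5212 := eqe L80943 L34428
theorem L80945 : N5212 = N4068 := (eqc rfl L80944 rfl).symm
theorem L80951 : sm gc N4068 = N8578 := trf L80945 L52690 rfl
theorem L80952 : N8578 = N6395 := eqe L80951 L40301
theorem L80953 : N8578 = N6395 := eqc rfl L80952 rfl
theorem L80955 : sm ge N4068 = N3481 := trf L80945 L34242 rfl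
theorem L80956 : N3481 = N4703 := eqe L80955 L31728
theorem L80957 : N4703 = N3481 := (eqc rfl L80956 rfl).symm
theorem L80958 : sm gf N4068 = N3480 := trf L80945 L34239 rfl
theorem L80959 : N3480 = N6383 := eqe L80958 L40232
theorem L80960 : N6383 = N3480 := (eqc rfl L80959 rfl).symm
theorem L80961 : sm gg N4068 = N5248 := trf L80945 L34429 rfl
theorem L80962 : sm gg N5248 = N4068 := flp_g L80961
theorem L80964 : sm gb N3480 = N4062 := trf L80960 L40228 rfl
theorem L80965 : N4062 = N4930 := eqe L80964 L32959
theorem L80966 : N4930 = N4062 := (eqc rfl L80965 rfl).symm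
theorem L80971 : sm ge N3480 = N7603 := trf L80960 L46959 rfl
theorem L80972 : N7603 = N2583 := eqe L80971 L25622
theorem L80973 : N7603 = N2583 := eqc rfl L80972 rfl
theorem L80974 : sm gf N3480 = N4068 := trf L80960 L40231 rfl
theorem L80975 : sm gf N4068 = N3480 := flp_f L80974
theorem L80982 : sm gb N2583 = N4691 := trf L80973 L46955 rfl
theorem L80983 : N4691 = N3349 := eqe L80982 L25036
theorem L80984 : N4691 = N3349 := eqc rfl L80983 rfl
theorem L80985 : sm gd N2583 = N4693 := trf L80973 L46956 rfl
theorem L80986 : N4693 = N2137 := eqe L80985 L20955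
theorem L80987 : N4693 = N2137 := eqc rfl L80986 rfl
theorem L80992 : sm gb N2137 = N3224 := trf L80987 L31676 rfl
theorem L80993 : N3224 = N2521 := eqe L80992 L20697
theorem L80994 : N3224 = N2521 := eqc rfl L80993 rfl
theorem L80999 : sm gf N2137 = N3232 := trf L80987 L31679 rfl
theorem L81000 : N3232 = N2584 := eqe L80999 L20958
theorem L81001 : N3232 = N2584 := eqc rfl L81000 rfl
theorem L81002 : sm gg N2137 = N7607 := trf L80987 L46984 rfl
theorem L81003 : N7607 = N2585 := eqe L81002 L20962
theorem L81004 : N7607 = N2585 := eqc rfl L81003 rfl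
theorem L81009 : sm gf N2585 = N7635 := trf L81004 L47129 rfl
theorem L81010 : N7635 = N2594 := eqe L81009 L20998
theorem L81011 : N7635 = N2594 := eqc rfl L81010 rfl
theorem L81016 : sm gg N2594 = N4705 := trf L81011 L47123 rfl
theorem L81017 : N4705 = N2140 := eqe L81016 L20997
theorem L81018 : N4705 = N2140 := eqc rfl L81017 rfl
theorem L81023 : sm gc N2140 = N7634 := trf L81018 L47116 rfl
theorem L81024 : N7634 = N2587 := eqe L81023 L20973
theorem L81025 : N7634 = N2587 := eqc rfl L81024 rfl
theorem L81033 : sm ga N2587 = N4706 := trf L81025 L47118 rfl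
theorem L81034 : N4706 = N3477 := eqe L81033 L25604
theorem L81035 : N4706 = N3477 := eqc rfl L81034 rfl
theorem L81036 : sm ge N2587 = N4712 := trf L81025 L47120 rfl
theorem L81037 : N4712 = N3171 := eqe L81036 L23866
theorem L81038 : N4712 = N3171 := eqc rfl L81037 rfl
theorem L81039 : sm ga N3171 = N3235 := trf L81038 L31769 rfl
theorem L81040 : N3235 = N3074 := eqe L81039 L24258
theorem L81041 : N3235 = N3074 := eqc rfl L81040 rfl
theorem L81052 : sm gg N3171 = N7651 := trf L81038 L47206 rfl
theorem L81053 : N7651 = N4403 := eqe L81052 L30073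
theorem L81054 : N7651 = N4403 := eqc rfl L81053 rfl
theorem L81059 : sm gf N4403 = N7614 := trf L81054 L47212 rfl
theorem L81060 : N7614 = N3075 := eqe L81059 L30063
theorem L81061 : N7614 = N3075 := eqc rfl L81060 rfl
theorem L81066 : sm gg N3075 = N4696 := trf L81061 L47021 rfl
theorem L81067 : N4696 = N2379 := eqe L81066 L23332
theorem L81068 : N4696 = N2379 := eqc rfl L81067 rfl
theorem L81074 : sm gd N2379 = N7613 := trf L81068 L47016 rfl
theorem L81075 : N7613 = N2255 := eqe L81074 L19856
theorem L81076 : N7613 = N2255 := eqc rfl L81075 rfl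
theorem L81079 : sm gf N2255 = N4714 := trf L81076 L47018 rfl
theorem L81080 : N4714 = N2826 := eqe L81079 L22021
theorem L81081 : N4714 = N2826 := eqc rfl L81080 rfl
theorem L81083 : sm gb N2826 = N3251 := trf L81081 L31781 rfl
theorem L81084 : N3251 = N3934 := eqe L81083 L27769
theorem L81085 : N3934 = N3251 := (eqc rfl L81084 rfl).symm
theorem L81090 : sm ge N2826 = N7654 := trf L81081 L47220 rfl
theorem L81091 : N7654 = N2736 := eqe L81090 L24250
theorem L81092 : N7654 = N2736 := eqc rfl L81091 rfl
theorem L81097 : sm gb N2736 = N4752 := trf L81092 L47222 rfl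
theorem L81098 : N4752 = N3789 := eqe L81097 L26984
theorem L81099 : N4752 = N3789 := eqc rfl L81098 rfl
theorem L81114 : sm gg N3789 = N7742 := trf L81099 L47684 rfl
theorem L81115 : N7742 = N5873 := eqe L81114 L37319
theorem L81116 : N7742 = N5873 := eqc rfl L81115 rfl
theorem L81117 : sm ge N5873 = N4753 := trf L81116 L47686 rfl
theorem L81118 : N4753 = N6140 := eqe L81117 L38587
theorem L81119 : N6140 = N4753 := (eqc rfl L81118 rfl).symm
theorem L81129 : sm gf N4753 = N6146 := trf L81119 L38616 rfl
theorem L81130 : N6146 = N7744 := eqe L81129 L47692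
theorem L81131 : N7744 = N6146 := (eqc rfl L81130 rfl).symm
theorem L81143 : sm gg N6146 = N7528 := trf L81131 L47698 rfl
theorem L81144 : N7528 = N3936 := eqe L81143 L38613
theorem L81145 : N7528 = N3936 := eqc rfl L81144 rfl
theorem L81152 : sm gd N3936 = N4647 := trf L81145 L46518 rfl
theorem L81153 : N4647 = N4404 := eqe L81152 L30077
theorem L81154 : N4647 = N4404 := eqc rfl L81153 rfl
theorem L81163 : sm ge N4404 = N7508 := trf L81154 L46410 rfl
theorem L81164 : N7508 = N6758 := eqe L81163 L41997
theorem L81165 : N7508 = N6758 := eqc rfl L81164 rfl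
theorem L81166 : sm gf N4404 = N3249 := trf L81154 L31428 rfl
theorem L81167 : N3249 = N4156 := eqe L81166 L30078
theorem L81168 : N4156 = N3249 := (eqc rfl L81167 rfl).symm
theorem L81172 : sm gb N3249 = N3040 := trf L81168 L28958 rfl
theorem L81173 : N3040 = N4747 := eqe L81172 L31973
theorem L81174 : N4747 = N3040 := (eqc rfl L81173 rfl).symm
theorem L81178 : sm gf N3249 = N4404 := trf L81168 L30079 rfl
theorem L81179 : sm gf N4404 = N3249 := flp_f L81178
theorem L81180 : sm gg N3249 = N5992 := trf L81168 L37836 rfl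
theorem L81181 : N5992 = N4749 := eqe L81180 L31981
theorem L81182 : N5992 = N4749 := eqc rfl L81181 rfl
theorem L81192 : sm gf N4749 = N4406 := trf L81182 L37832 rfl
theorem L81193 : N4406 = N4649 := eqe L81192 L31987
theorem L81194 : N4649 = N4406 := (eqc rfl L81193 rfl).symm
theorem L81204 : sm gf N4406 = N4749 := trf L81194 L31988 rfl
theorem L81205 : sm gf N4749 = N4406 := flp_f L81204
theorem L81212 : sm gb N3040 = N3249 := trf L81174 L31974 rfl
theorem L81213 : sm gb N3249 = N3040 := flp_b L81212
theorem L81236 : sm gg N6758 = N7685 := trf L81165 L47373 rfl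
theorem L81237 : N7685 = N11237 := eqe L81236 L66983
theorem L81238 : N11237 = N7685 := (eqc rfl L81237 rfl).symm
theorem L81245 : sm gf N7685 = N8573 := trf L81238 L66992 rfl
theorem L81246 : N8573 = N4727 := eqe L81245 L47365
theorem L81247 : N8573 = N4727 := eqc rfl L81246 rfl
theorem L81257 : sm gg N4727 = N5206 := trf L81247 L52663 rfl
theorem L81258 : N5206 = N3241 := eqe L81257 L31852
theorem L81259 : N5206 = N3241 := eqc rfl L81258 rfl
theorem L81264 : sm gd N3241 = N6208 := trf L81259 L52649 L80689
theorem L81265 : N6208 = N4726 := eqe L81264 L31849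
theorem L81266 : N6208 = N4726 := eqc rfl L81265 rfl
theorem L81270 : sm ga N4726 = N10280 := trf L81266 L61519 rfl
theorem L81271 : N10280 = N7678 := eqe L81270 L47333
theorem L81272 : N10280 = N7678 := eqc rfl L81271 rfl
theorem L81276 : sm gc N4726 = N10319 := trf L81266 L61714 rfl
theorem L81277 : N10319 = N7681 := eqe L81276 L47350
theorem L81278 : N10319 = N7681 := eqc rfl L81277 rfl
theorem L81325 : sm gc N7678 = N7075 := trf L81272 L80693 rfl
theorem L81326 : N7075 = N9060 := eqe L81325 L55157
theorem L81327 : N9060 = N7075 := (eqc rfl L81326 rfl).symm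
theorem L81337 : N11688 = N7681 := L80675.trans L81278
theorem L81338 : sm gc N7075 = N7678 := trf L81327 L55158 rfl
theorem L81340 : sm gd N7075 = N5483 := trf L81327 L55154 rfl
theorem L81341 : N5483 = N4419 := eqe L81340 L43993
theorem L81342 : N5483 = N4419 := eqc rfl L81341 rfl
theorem L81354 : sm gf N4419 = N8866 := trf L81342 L54168 rfl
theorem L81355 : N8866 = N7076 := eqe L81354 L43996
theorem L81356 : N8866 = N7076 := eqc rfl L81355 rfl
theorem L81357 : sm gg N4419 = N9062 := trf L81342 L55163 rfl
theorem L81358 : N9062 = N7077 := eqe L81357 L43998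
theorem L81359 : N9062 = N7077 := eqc rfl L81358 rfl
theorem L81360 : sm gc N7077 = N5485 := trf L81359 L55165 rfl
theorem L81361 : N5485 = N11685 := eqe L81360 L69570
theorem L81362 : N11685 = N5485 := (eqc rfl L81361 rfl).symm
theorem L81369 : sm gc N5485 = N7077 := trf L81362 L69569 rfl
theorem L81371 : sm ge N5485 = N10683 := trf L81362 L69571 rfl
theorem L81372 : N10683 = N9063 := eqe L81371 L55172
theorem L81373 : N10683 = N7442 := eqc rfl L81372 L72377
theorem L81374 : sm gf N5485 = N8671 := trf L81362 L69573 rfl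
theorem L81375 : N8671 = N7433 := eqe L81374 L72612
theorem L81376 : N8671 = N7433 := eqc rfl L81375 rfl
theorem L81386 : sm gg N7433 = N10635 := trf L81376 L63674 rfl
theorem L81387 : N10635 = N4602 := eqe L81386 L46018
theorem L81388 : N10635 = N4602 := eqc rfl L81387 rfl
theorem L81395 : sm gc N4602 = N11689 := trf L81388 L69596 rfl
theorem L81396 : N11689 = N7432 := eqe L81395 L46013
theorem L81397 : N11689 = N7432 := eqc rfl L81396 rfl
theorem L81398 : sm ge N4602 = N6434 := trf L81388 L63670 rfl
theorem L81399 : N6434 = N3183 := eqe L81398 L31184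
theorem L81400 : N6434 = N3183 := eqc rfl L81399 rfl
theorem L81412 : sm gd N3183 = N7647 := trf L81400 L47195 rfl
theorem L81413 : N7647 = N2435 := eqe L81412 L23937
theorem L81414 : N7647 = N2435 := eqc rfl L81413 rfl
theorem L81418 : sm gb N2435 = N8152 := trf L81414 L49968 rfl
theorem L81419 : N8152 = N2022 := eqe L81418 L20185
theorem L81420 : N8152 = N2022 := eqc rfl L81419 rfl
theorem L81421 : sm gf N2435 = N4711 := trf L81414 L47193 rfl
theorem L81422 : N4711 = N3177 := eqe L81421 L23898
theorem L81423 : N4711 = N3177 := eqc rfl L81422 rfl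
theorem L81433 : sm gg N3177 = N7648 := trf L81423 L47196 rfl
theorem L81434 : N7648 = N4596 := eqe L81433 L31152
theorem L81435 : N7648 = N4596 := eqc rfl L81434 rfl
theorem L81436 : sm gd N4596 = N6435 := trf L81435 L47198 rfl
theorem L81437 : N6435 = N7411 := eqe L81436 L45896
theorem L81438 : N7411 = N6435 := (eqc rfl L81437 rfl).symm
theorem L81441 : sm gd N6435 = N4596 := trf L81438 L45895 rfl
theorem L81460 : sm gf N2022 = N7611 := trf L81420 L49969 rfl
theorem L81461 : N7611 = N1029 := eqe L81460 L10312
theorem L81462 : N7611 = N1029 := eqc rfl L81461 rfl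
theorem L81469 : sm gd N1029 = N6416 := trf L81462 L47008 rfl
theorem L81470 : N6416 = N2021 := eqe L81469 L10307
theorem L81471 : N6416 = N2021 := eqc rfl L81470 rfl
theorem L81481 : sm gg N2021 = N8158 := trf L81471 L50658 rfl
theorem L81482 : N8158 = N2434 := eqe L81481 L20178
theorem L81483 : N8158 = N2434 := eqc rfl L81482 rfl
theorem L81493 : sm gf N2434 = N4973 := trf L81483 L50652 rfl
theorem L81494 : N4973 = N2444 := eqe L81493 L20230
theorem L81495 : N4973 = N2444 := eqc rfl L81494 rfl
theorem L81508 : sm ge N2444 = N7225 := trf L81495 L44800 rfl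
theorem L81509 : N7225 = N3200 := eqe L81508 L24026
theorem L81510 : N7225 = N3200 := eqc rfl L81509 rfl
theorem L81515 : sm gc N3200 = N4499 := trf L81510 L44797 rfl
theorem L81516 : N4499 = N4627 := eqe L81515 L31321
theorem L81517 : N4627 = N4499 := (eqc rfl L81516 rfl).symm
theorem L81527 : sm gd N4499 = N4042 := trf L81517 L31322 rfl
theorem L81528 : N4042 = N7217 := eqe L81527 L44762
theorem L81529 : N7217 = N4042 := (eqc rfl L81528 rfl).symm
theorem L81535 : sm gg N4499 = N3193 := trf L81517 L31319 rfl
theorem L81536 : N3193 = N3125 := eqe L81535 L30607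
theorem L81537 : N3193 = N3125 := eqc rfl L81536 rfl
theorem L81538 : sm ga N3125 = N3537 := trf L81537 L25882 rfl
theorem L81539 : N3537 = N4497 := eqe L81538 L30598
theorem L81540 : N4497 = N3537 := (eqc rfl L81539 rfl).symm
theorem L81546 : sm gd N3125 = N4037 := trf L81537 L28282 rfl
theorem L81547 : N4037 = N4495 := eqe L81546 L30593
theorem L81548 : N4495 = N4037 := (eqc rfl L81547 rfl).symm
theorem L81549 : sm ge N3125 = N2439 := trf L81537 L23983 rfl
theorem L81550 : N2439 = N2530 := eqe L81549 L23615
theorem L81551 : N2530 = N2439 := (eqc rfl L81550 rfl).symm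
theorem L81552 : sm gf N3125 = N2438 := trf L81537 L23980 rfl
theorem L81553 : N2438 = N4487 := eqe L81552 L30525
theorem L81554 : N4487 = N2438 := (eqc rfl L81553 rfl).symm
theorem L81558 : sm gb N2438 = N3119 := trf L81554 L30521 rfl
theorem L81559 : N3119 = N2453 := eqe L81558 L21958
theorem L81560 : N3119 = N2453 := eqc rfl L81559 rfl
theorem L81570 : sm gf N2438 = N3125 := trf L81554 L30524 rfl
theorem L81571 : sm gf N3125 = N2438 := flp_f L81570
theorem L81572 : sm gg N2438 = N7207 := trf L81554 L44703 rfl
theorem L81573 : N7207 = N3194 := eqe L81572 L23985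
theorem L81574 : N7207 = N3194 := eqc rfl L81573 rfl
theorem L81585 : sm ge N3194 = N4951 := trf L81574 L44705 rfl
theorem L81586 : N4951 = N2440 := eqe L81585 L23989
theorem L81587 : N4951 = N2440 := eqc rfl L81586 rfl
theorem L81597 : sm gf N2440 = N4971 := trf L81587 L33151 rfl
theorem L81598 : N4971 = N3198 := eqe L81597 L24003
theorem L81599 : N4971 = N3198 := eqc rfl L81598 rfl
theorem L81610 : sm gg N3198 = N3370 := trf L81599 L33147 rfl
theorem L81611 : N3370 = N2612 := eqe L81610 L24011
theorem L81612 : N3370 = N2612 := eqc rfl L81611 rfl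
theorem L81618 : sm gd N2612 = N4963 := trf L81612 L33123 rfl
theorem L81619 : N4963 = N2150 := eqe L81618 L21084
theorem L81620 : N4963 = N2150 := eqc rfl L81619 rfl
theorem L81623 : sm ga N2150 = N3368 := trf L81620 L33121 rfl
theorem L81624 : N3368 = N2599 := eqe L81623 L21023
theorem L81625 : N3368 = N2599 := eqc rfl L81624 rfl
theorem L81635 : sm gf N2150 = N8111 := trf L81620 L49770 rfl
theorem L81636 : N8111 = N1182 := eqe L81635 L18750
theorem L81637 : N8111 = N1182 := eqc rfl L81636 rfl
theorem L81646 : sm gg N1182 = N8143 := trf L81637 L49914 rfl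
theorem L81647 : N8143 = N2151 := eqe L81646 L18753
theorem L81648 : N8143 = N2151 := eqc rfl L81647 rfl
theorem L81654 : sm gf N2151 = N4965 := trf L81648 L49908 rfl
theorem L81655 : N4965 = N2620 := eqe L81654 L21118
theorem L81656 : N4965 = N2620 := eqc rfl L81655 rfl
theorem L81665 : sm ge N2620 = N8134 := trf L81656 L49872 rfl
theorem L81666 : N8134 = N3544 := eqe L81665 L25930
theorem L81667 : N8134 = N3544 := eqc rfl L81666 rfl
theorem L81669 : sm gb N3544 = N8209 := trf L81667 L50910 rfl
theorem L81670 : N8209 = N5348 := eqe L81669 L34872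
theorem L81671 : N8209 = N5348 := eqc rfl L81670 rfl
theorem L81672 : sm gg N3544 = N4961 := trf L81667 L49870 rfl
theorem L81673 : N4961 = N3513 := eqe L81672 L25931
theorem L81674 : N4961 = N3513 := eqc rfl L81673 rfl
theorem L81676 : sm gb N3513 = N3366 := trf L81674 L33113 rfl
theorem L81677 : N3366 = N5279 := eqe L81676 L34578
theorem L81678 : N5279 = N3366 := (eqc rfl L81677 rfl).symm
theorem L81682 : sm gd N3513 = N7213 := trf L81674 L44744 rfl
theorem L81683 : N7213 = N3881 := eqe L81682 L27452
theorem L81684 : N7213 = N3881 := eqc rfl L81683 rfl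
theorem L81686 : sm gf N3513 = N8107 := trf L81674 L49744 rfl
theorem L81687 : N8107 = N2598 := eqe L81686 L25776
theorem L81688 : N8107 = N2598 := eqc rfl L81687 rfl
theorem L81689 : sm gb N2598 = N4943 := trf L81688 L49740 rfl
theorem L81690 : N4943 = N3510 := eqe L81689 L25764
theorem L81691 : N4943 = N3510 := eqc rfl L81690 rfl
theorem L81692 : sm gd N2598 = N11926 := trf L81688 L70887 rfl
theorem L81693 : N11926 = N2788 := eqe L81692 L22307
theorem L81694 : N11926 = N2788 := eqc rfl L81693 rfl
theorem L81696 : sm gb N2788 = N7199 := trf L81694 L70885 rfl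
theorem L81697 : N7199 = N2899 := eqe L81696 L22466
theorem L81698 : N7199 = N2899 := eqc rfl L81697 rfl
theorem L81709 : sm gf N2899 = N4484 := trf L81698 L44648 rfl
theorem L81710 : N4484 = N4059 := eqe L81709 L28426
theorem L81711 : N4484 = N4059 := eqc rfl L81710 rfl
theorem L81712 : sm gg N2899 = N11927 := trf L81698 L70892 rfl
theorem L81713 : N11927 = N4060 := eqe L81712 L28434
theorem L81714 : N11927 = N4060 := eqc rfl L81713 rfl
theorem L81725 : sm gf N4060 = N8095 := trf L81714 L70901 rfl
theorem L81726 : N8095 = N4065 := eqe L81725 L28467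
theorem L81727 : N8095 = N4065 := eqc rfl L81726 rfl
theorem L81734 : sm gd N4065 = N8088 := trf L81727 L49665 rfl
theorem L81735 : N8088 = N6384 := eqe L81734 L40236
theorem L81736 : N8088 = N6384 := eqc rfl L81735 rfl
theorem L81748 : sm ga N6384 = N4944 := trf L81736 L49607 rfl
theorem L81749 : N4944 = N6386 := eqe L81748 L40250
theorem L81750 : N6386 = N4944 := (eqc rfl L81749 rfl).symm
theorem L81751 : sm ge N6384 = N4932 := trf L81736 L49609 rfl
theorem L81752 : N4932 = N5278 := eqe L81751 L40237
theorem L81753 : N5278 = N4932 := (eqc rfl L81752 rfl).symm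
theorem L81762 : sm gc N4932 = N8620 := trf L81753 L52922 rfl
theorem L81763 : N8620 = N8086 := eqe L81762 L49598
theorem L81764 : N8620 = N8086 := eqc rfl L81763 rfl
theorem L81770 : sm gf N4932 = N3512 := trf L81753 L34571 rfl
theorem L81771 : N3512 = N4946 := eqe L81770 L33048
theorem L81772 : N4946 = N3512 := (eqc rfl L81771 rfl).symm
theorem L81787 : sm gf N3512 = N4932 := trf L81772 L33049 rfl
theorem L81788 : sm gf N4932 = N3512 := flp_f L81787
theorem L81789 : sm gg N3512 = N3357 := trf L81772 L33045 rfl
theorem L81790 : N3357 = N2597 := eqe L81789 L25772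
theorem L81791 : N3357 = N2597 := eqc rfl L81790 rfl
theorem L81792 : sm ga N2597 = N4931 := trf L81791 L32963 rfl
theorem L81793 : N4931 = N3223 := eqe L81792 L24154
theorem L81794 : N4931 = N3223 := eqc rfl L81793 rfl
theorem L81796 : sm gc N2597 = N4941 := trf L81791 L33025 rfl
theorem L81797 : N4941 = N3492 := eqe L81796 L25686
theorem L81798 : N4941 = N3492 := eqc rfl L81797 rfl
theorem L81799 : sm gd N2597 = N2524 := trf L81791 L25079 rfl
theorem L81800 : N2524 = N2437 := eqe L81799 L21012
theorem L81801 : N2524 = N2437 := eqc rfl L81800 rfl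
theorem L81803 : sm gf N2597 = N2523 := trf L81791 L25078 rfl
theorem L81804 : N2523 = N3511 := eqe L81803 L25767
theorem L81805 : N3511 = N2523 := (eqc rfl L81804 rfl).symm
theorem L81813 : sm gd N2523 = N3191 := trf L81805 L25769 rfl
theorem L81814 : N3191 = N2104 := eqe L81813 L20701
theorem L81815 : N3191 = N2104 := eqc rfl L81814 rfl
theorem L81816 : sm ge N2523 = N5273 := trf L81805 L34543 rfl
theorem L81817 : N5273 = N3356 := eqe L81816 L25073
theorem L81818 : N5273 = N3356 := eqc rfl L81817 rfl
theorem L81819 : sm gf N2523 = N2597 := trf L81805 L25768 rfl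
theorem L81820 : sm gf N2597 = N2523 := flp_f L81819
theorem L81824 : sm gb N3356 = N8677 := trf L81818 L53209 rfl
theorem L81825 : N8677 = N2527 := eqe L81824 L25075
theorem L81826 : N8677 = N2527 := eqc rfl L81825 rfl
theorem L81827 : sm gc N3356 = N8615 := trf L81818 L52888 rfl
theorem L81828 : N8615 = N4940 := eqe L81827 L33018
theorem L81829 : N8615 = N4940 := eqc rfl L81828 rfl
theorem L81835 : sm ga N4940 = N6381 := trf L81829 L52885 rfl
theorem L81836 : N6381 = N8084 := eqe L81835 L49582
theorem L81837 : N8084 = N6381 := (eqc rfl L81836 rfl).symm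
theorem L81840 : sm gf N4940 = N5236 := trf L81829 L52884 rfl
theorem L81841 : N5236 = N8101 := eqe L81840 L49705
theorem L81842 : N8101 = N5236 := (eqc rfl L81841 rfl).symm
theorem L81843 : sm gg N4940 = N10606 := trf L81829 L63500 rfl
theorem L81844 : N10606 = N8102 := eqe L81843 L49713
theorem L81845 : N10606 = N8102 := eqc rfl L81844 rfl
theorem L81846 : sm ga N8102 = N10604 := trf L81845 L63491 rfl
theorem L81847 : sm ga N10604 = N8102 := flp_a L81846
theorem L81849 : sm gd N8102 = N8618 := trf L81845 L63495 rfl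
theorem L81850 : N8618 = N4942 := eqe L81849 L49717
theorem L81851 : N8618 = N4942 := eqc rfl L81850 rfl
theorem L81857 : sm gf N4942 = N7602 := trf L81851 L52912 rfl
theorem L81858 : N7602 = N8106 := eqe L81857 L49731
theorem L81859 : N8106 = N7602 := (eqc rfl L81858 rfl).symm
theorem L81865 : sm gg N7602 = N8085 := trf L81859 L49737 rfl
theorem L81866 : N8085 = N4690 := eqe L81865 L46945
theorem L81867 : N8085 = N4690 := eqc rfl L81866 rfl
theorem L81870 : sm gf N4690 = N4929 := trf L81867 L49588 rfl
theorem L81871 : N4929 = N7601 := eqe L81870 L46934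
theorem L81872 : N7601 = N4929 := (eqc rfl L81871 rfl).symm
theorem L81879 : sm gf N4929 = N4690 := trf L81872 L46935 rfl
theorem L81880 : sm gf N4690 = N4929 := flp_f L81879
theorem L81885 : sm gf N5236 = N4940 := trf L81842 L49706 rfl
theorem L81886 : sm gf N4940 = N5236 := flp_f L81885
theorem L81887 : sm ga N6381 = N4940 := trf L81837 L49581 rfl
theorem L81888 : sm ga N4940 = N6381 := flp_a L81887
theorem L81890 : sm gd N6381 = N4929 := trf L81837 L49580 rfl
theorem L81891 : sm gd N4929 = N6381 := flp_d L81890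
theorem L81892 : sm ge N6381 = N4929 := trf L81837 L49586 rfl
theorem L81893 : sm ge N4929 = N6381 := flp_e L81892
theorem L81894 : sm gd N2527 = N6379 := trf L81826 L53211 rfl
theorem L81895 : N6379 = N3122 := eqe L81894 L23600
theorem L81896 : N6379 = N3122 := eqc rfl L81895 rfl
theorem L81907 : sm ge N3122 = N4076 := trf L81896 L40209 rfl
theorem L81908 : N4076 = N2403 := eqe L81907 L23594
theorem L81909 : N4076 = N2403 := eqc rfl L81908 rfl
theorem L81913 : sm gg N3122 = N10602 := trf L81896 L63469 rfl
theorem L81914 : N10602 = N4494 := eqe L81913 L30580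
theorem L81915 : N10602 = N4494 := eqc rfl L81914 rfl
theorem L81919 : sm ge N4494 = N6412 := trf L81915 L63471 rfl
theorem L81920 : N6412 = N3124 := eqe L81919 L30588
theorem L81921 : N6412 = N3124 := eqc rfl L81920 rfl
theorem L81934 : sm gf N3124 = N10653 := trf L81921 L63776 rfl
theorem L81935 : N10653 = N3132 := eqe L81934 L23655
theorem L81936 : N10653 = N3132 := eqc rfl L81935 rfl
theorem L81944 : sm gg N3132 = N10538 := trf L81936 L63780 rfl
theorem L81945 : N10538 = N2408 := eqe L81944 L23652
theorem L81946 : N10538 = N2408 := eqc rfl L81945 rfl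
theorem L81958 : sm gf N2408 = N6410 := trf L81946 L63070 rfl
theorem L81959 : N6410 = N1991 := eqe L81958 L20039
theorem L81960 : N6410 = N1991 := eqc rfl L81959 rfl
theorem L81968 : sm gd N1991 = N7595 := trf L81960 L46897 rfl
theorem L81969 : N7595 = N1008 := eqe L81968 L10129
theorem L81970 : N7595 = N1008 := eqc rfl L81969 rfl
theorem L81976 : sm ge N1008 = N7471 := trf L81970 L46898 rfl
theorem L81977 : N7471 = N554 := eqe L81976 L4962
theorem L81978 : N7471 = N554 := eqc rfl L81977 rfl
theorem L81989 : sm gg N554 = N7493 := trf L81978 L46338 rfl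
theorem L81990 : N7493 = N1139 := eqe L81989 L5759
theorem L81991 : N7493 = N1139 := eqc rfl L81990 rfl
theorem L81998 : sm gf N1139 = N4632 := trf L81991 L46334 rfl
theorem L81999 : N4632 = N2115 := eqe L81998 L18597
theorem L82000 : N4632 = N2115 := eqc rfl L81999 rfl
theorem L82016 : sm gg N2115 = N3195 := trf L82000 L31351 rfl
theorem L82017 : N3195 = N2106 := eqe L82016 L18601
theorem L82018 : N3195 = N2106 := eqc rfl L82017 rfl
theorem L82025 : sm gd N2106 = N3515 := trf L82018 L25794 rfl
theorem L82026 : N3515 = N2528 := eqe L82025 L20721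
theorem L82027 : N3515 = N2528 := eqc rfl L82026 rfl
theorem L82035 : sm gc N2528 = N5282 := trf L82027 L34590 rfl
theorem L82036 : N5282 = N3364 := eqe L82035 L25118
theorem L82037 : N5282 = N3364 := eqc rfl L82036 rfl
theorem L82048 : sm ge N3364 = N8686 := trf L82037 L53258 rfl
theorem L82049 : N8686 = N4957 := eqe L82048 L33097
theorem L82050 : N8686 = N4957 := eqc rfl L82049 rfl
theorem L82059 : sm gb N4957 = N3553 := trf L82050 L53259 L72615
theorem L82060 : N3553 = N8124 := eqe L82059 L49829
theorem L82061 : N8124 = N3553 := (eqc rfl L82060 rfl).symm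
theorem L82064 : sm gb N3553 = N4957 := trf L82061 L49830 rfl
theorem L82065 : N4957 = N5369 := eqe L82064 L34956
theorem L82066 : N5369 = N4957 := (eqc rfl L82065 rfl).symm
theorem L82073 : sm gb N4957 = N3553 := trf L82066 L34957 rfl
theorem L82081 : sm ge N4957 = N3561 := trf L82066 L34958 rfl
theorem L82082 : N3561 = N3364 := eqe L82081 L33096
theorem L82083 : N3561 = N3364 := eqc rfl L82082 rfl
theorem L82085 : sm gg N4957 = N8863 := trf L82066 L54151 rfl
theorem L82086 : N8863 = N4990 := eqe L82085 L33267
theorem L82087 : N8863 = N4990 := eqc rfl L82086 rfl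
theorem L82091 : sm ge N4990 = N5388 := trf L82087 L54153 rfl
theorem L82092 : N5388 = N3384 := eqe L82091 L33264
theorem L82093 : N5388 = N3384 := eqc rfl L82092 rfl
theorem L82097 : sm gb N3384 = N5552 := trf L82093 L35823 rfl
theorem L82098 : N5552 = N4998 := eqe L82097 L33294
theorem L82099 : N5552 = N4998 := eqc rfl L82098 rfl
theorem L82106 : sm gf N3384 = N8906 := trf L82093 L54373 rfl
theorem L82107 : N8906 = N2535 := eqe L82106 L25202
theorem L82108 : N8906 = N2535 := eqc rfl L82107 rfl
theorem L82116 : sm gd N2535 = N5428 := trf L82108 L54377 rfl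
theorem L82117 : N5428 = N3378 := eqe L82116 L25174
theorem L82118 : N5428 = N3378 := eqc rfl L82117 rfl
theorem L82125 : sm ge N3378 = N7564 := trf L82118 L46700 rfl
theorem L82126 : N7564 = N4982 := eqe L82125 L33207
theorem L82127 : N7564 = N4982 := eqc rfl L82126 rfl
theorem L82145 : sm gf N4982 = N4665 := trf L82127 L46696 rfl
theorem L82146 : N4665 = N6250 := eqe L82145 L39472
theorem L82147 : N6250 = N4665 := (eqc rfl L82146 rfl).symm
theorem L82149 : sm ga N4665 = N6252 := trf L82147 L39487 rfl
theorem L82150 : N6252 = N7559 := eqe L82149 L46670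
theorem L82151 : N7559 = N6252 := (eqc rfl L82150 rfl).symm
theorem L82155 : sm gc N4665 = N4010 := trf L82147 L39466 rfl
theorem L82156 : N4010 = N7562 := eqe L82155 L46686
theorem L82157 : N7562 = N4010 := (eqc rfl L82156 rfl).symm
theorem L82158 : sm gd N4665 = N4152 := trf L82147 L39468 rfl
theorem L82159 : N4152 = N7526 := eqe L82158 L46514
theorem L82160 : N7526 = N4152 := (eqc rfl L82159 rfl).symm
theorem L82162 : sm gf N4665 = N4982 := trf L82147 L39473 rfl
theorem L82168 : sm gd N4152 = N4665 := trf L82160 L46513 rfl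
theorem L82169 : sm gd N4665 = N4152 := flp_d L82168
theorem L82195 : sm gc N4010 = N4665 := trf L82157 L46685 rfl
theorem L82196 : sm gc N4665 = N4010 := flp_c L82195
theorem L82209 : sm gb N6252 = N7368 := trf L82151 L46674 rfl
theorem L82210 : N7368 = N10377 := eqe L82209 L62074
theorem L82211 : N10377 = N7368 := (eqc rfl L82210 rfl).symm
theorem L82220 : sm ge N7368 = N8165 := trf L82211 L62078 rfl
theorem L82221 : N8165 = N5137 := eqe L82220 L45613
theorem L82222 : N8165 = N5137 := eqc rfl L82221 rfl
theorem L82225 : sm gd N5137 = N4994 := trf L82222 L50699 rfl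
theorem L82226 : N4994 = N8360 := eqe L82225 L51642
theorem L82227 : N8360 = N4994 := (eqc rfl L82226 rfl).symm
theorem L82228 : sm ga N4994 = N8359 := trf L82227 L51639 rfl
theorem L82229 : N8359 = N8183 := eqe L82228 L50785
theorem L82230 : N8359 = N8183 := eqc rfl L82229 rfl
theorem L82234 : sm gf N4994 = N5084 := trf L82227 L51638 rfl
theorem L82235 : N5084 = N8185 := eqe L82234 L50791
theorem L82236 : N8185 = N5084 := (eqc rfl L82235 rfl).symm
theorem L82246 : sm gb N5084 = N8131 := trf L82236 L50793 rfl
theorem L82247 : N8131 = N8232 := eqe L82246 L51012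
theorem L82248 : N8232 = N8131 := (eqc rfl L82247 rfl).symm
theorem L82249 : sm gf N5084 = N4994 := trf L82236 L50792 rfl
theorem L82250 : sm gf N4994 = N5084 := flp_f L82249
theorem L82255 : sm gd N8131 = N5045 := trf L82248 L51009 rfl
theorem L82256 : N5045 = N10144 := eqe L82255 L60745
theorem L82257 : N10144 = N5045 := (eqc rfl L82256 rfl).symm
theorem L82274 : sm gg N5045 = N11296 := trf L82257 L67419 rfl
theorem L82275 : N11296 = N3405 := eqe L82274 L33485
theorem L82276 : N11296 = N3405 := eqc rfl L82275 rfl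
theorem L82286 : sm gf N3405 = N6806 := trf L82276 L67412 rfl
theorem L82287 : N6806 = N5044 := eqe L82286 L33482
theorem L82288 : N6806 = N5044 := eqc rfl L82287 rfl
theorem L82303 : sm gg N5044 = N10143 := trf L82288 L60739 rfl
theorem L82304 : N10143 = N8278 := eqe L82303 L51241
theorem L82305 : N10143 = N8278 := eqc rfl L82304 rfl
theorem L82308 : sm gb N8278 = N11279 := trf L82305 L67306 rfl
theorem L82309 : N11279 = N5774 := eqe L82308 L51250
theorem L82310 : N11279 = N5774 := eqc rfl L82309 rfl
theorem L82320 : sm ge N5774 = N6796 := trf L82310 L67304 rfl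
theorem L82321 : N6796 = N7955 := eqe L82320 L48867
theorem L82322 : N7955 = N6796 := (eqc rfl L82321 rfl).symm
theorem L82323 : sm ga N6796 = N4855 := trf L82322 L48865 rfl
theorem L82324 : N4855 = N11276 := eqe L82323 L67284
theorem L82325 : N11276 = N4855 := (eqc rfl L82324 rfl).symm
theorem L82328 : sm ge N6796 = N5774 := trf L82322 L48866 rfl
theorem L82329 : sm ge N5774 = N6796 := flp_e L82328
theorem L82342 : sm gd N4855 = N6794 := trf L82325 L67282 rfl
theorem L82343 : N6794 = N7819 := eqe L82342 L48015
theorem L82344 : N7819 = N6794 := (eqc rfl L82343 rfl).symm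
theorem L82345 : sm gg N4855 = N7619 := trf L82325 L67287 rfl
theorem L82346 : N7619 = N7957 := eqe L82345 L48876
theorem L82347 : N7957 = N7619 := (eqc rfl L82346 rfl).symm
theorem L82348 : sm gb N7619 = N7914 := trf L82347 L48882 rfl
theorem L82349 : N7914 = N4699 := eqe L82348 L47043
theorem L82350 : N7914 = N4699 := eqc rfl L82349 rfl
theorem L82369 : sm gg N4699 = N4834 := trf L82350 L48612 rfl
theorem L82370 : N4834 = N3237 := eqe L82369 L31709
theorem L82371 : N4834 = N3237 := eqc rfl L82370 rfl
theorem L82387 : sm gf N3237 = N7913 := trf L82371 L48601 rfl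
theorem L82388 : N7913 = N4719 := eqe L82387 L31803
theorem L82389 : N7913 = N4719 := eqc rfl L82388 rfl
theorem L82399 : sm ge N4719 = N5729 := trf L82389 L48607 rfl
theorem L82400 : N5729 = N7641 := eqe L82399 L47163
theorem L82401 : N7641 = N5729 := (eqc rfl L82400 rfl).symm
theorem L82402 : sm gg N4719 = N11941 := trf L82389 L70999 rfl
theorem L82403 : N11941 = N4701 := eqe L82402 L31810
theorem L82404 : N11941 = N4701 := eqc rfl L82403 rfl
theorem L82412 : sm ge N4701 = N8122 := trf L82404 L70992 rfl
theorem L82413 : N8122 = N7610 := eqe L82412 L47005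
theorem L82414 : N8122 = N7610 := eqc rfl L82413 rfl
theorem L82419 : sm gb N7610 = N4955 := trf L82414 L49820 rfl
theorem L82420 : sm gb N4955 = N7610 := flp_b L82419
theorem L82421 : sm gf N7610 = N4956 := trf L82414 L49821 rfl
theorem L82422 : N4956 = N4694 := eqe L82421 L47003
theorem L82423 : N4956 = N4694 := eqc rfl L82422 rfl
theorem L82438 : sm gg N4694 = N5727 := trf L82423 L48590 rfl
theorem L82439 : N5727 = N3233 := eqe L82438 L31685
theorem L82440 : N5727 = N3233 := eqc rfl L82439 rfl
theorem L82453 : sm gf N3233 = N8984 := trf L82440 L54765 rfl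
theorem L82454 : N8984 = N4710 := eqe L82453 L31759
theorem L82455 : N8984 = N4710 := eqc rfl L82454 rfl
theorem L82458 : sm gb N4710 = N5441 := trf L82455 L54767 rfl
theorem L82459 : N5441 = N6635 := eqe L82458 L41479
theorem L82460 : N6635 = N5441 := (eqc rfl L82459 rfl).symm
theorem L82461 : sm gc N4710 = N6548 := trf L82455 L54761 rfl
theorem L82462 : N6548 = N7643 := eqe L82461 L47173
theorem L82463 : N7643 = N6548 := (eqc rfl L82462 rfl).symm
theorem L82469 : sm ge N6548 = N4721 := trf L82463 L47174 rfl
theorem L82470 : N4721 = N4236 := eqe L82469 L41086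
theorem L82471 : N4721 = N4236 := eqc rfl L82470 rfl
theorem L82483 : sm gf N4236 = N3238 := trf L82471 L31816 rfl
theorem L82484 : N3238 = N6731 := eqe L82483 L41891
theorem L82485 : N6731 = N3238 := (eqc rfl L82484 rfl).symm
theorem L82506 : sm gg N3238 = N11199 := trf L82485 L66759 rfl
theorem L82507 : N11199 = N4700 := eqe L82506 L31714
theorem L82508 : N11199 = N4700 := eqc rfl L82507 rfl
theorem L82510 : sm gb N4700 = N8121 := trf L82508 L66769 rfl
theorem L82511 : N8121 = N7476 := eqe L82510 L46260
theorem L82512 : N8121 = N7476 := eqc rfl L82511 rfl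
theorem L82526 : sm gg N7476 = N11168 := trf L82512 L66562 rfl
theorem L82527 : N11168 = N4635 := eqe L82526 L46257
theorem L82528 : N11168 = N4635 := eqc rfl L82527 rfl
theorem L82536 : sm gf N4635 = N6705 := trf L82528 L66556 rfl
theorem L82537 : N6705 = N7501 := eqe L82536 L46369
theorem L82538 : N7501 = N6705 := (eqc rfl L82537 rfl).symm
theorem L82542 : sm ge N6705 = N9931 := trf L82538 L59621 rfl
theorem L82543 : N9931 = N10870 := eqe L82542 L65011
theorem L82544 : N10870 = N9931 := (eqc rfl L82543 rfl).symm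
theorem L82545 : sm gf N6705 = N4635 := trf L82538 L46370 rfl
theorem L82546 : sm gf N4635 = N6705 := flp_f L82545
theorem L82547 : sm ga N9931 = N6533 := trf L82544 L65009 rfl
theorem L82548 : N6533 = N8047 := eqe L82547 L59614
theorem L82549 : N8047 = N6533 := (eqc rfl L82548 rfl).symm
theorem L82552 : sm gc N9931 = N7846 := trf L82544 L65017 rfl
theorem L82553 : N7846 = N7485 := eqe L82552 L59616
theorem L82554 : N7846 = N7485 := eqc rfl L82553 rfl
theorem L82555 : sm ge N9931 = N6705 := trf L82544 L65010 rfl
theorem L82557 : sm gg N9931 = N7844 := trf L82544 L65012 rfl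
theorem L82558 : sm gg N7844 = N9931 := flp_g L82557
theorem L82559 : sm ga N7485 = N10871 := trf L82554 L65021 rfl
theorem L82560 : N10871 = N4910 := eqe L82559 L50406
theorem L82561 : N10871 = N4910 := eqc rfl L82560 rfl
theorem L82566 : sm gg N7485 = N4800 := trf L82554 L48175 rfl
theorem L82567 : N4800 = N8018 := eqe L82566 L50410
theorem L82568 : N8018 = N4800 := (eqc rfl L82567 rfl).symm
theorem L82569 : sm ga N4800 = N7600 := trf L82568 L50345 rfl
theorem L82570 : N7600 = N7843 := eqe L82569 L48160
theorem L82571 : N7843 = N7600 := (eqc rfl L82570 rfl).symm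
theorem L82572 : sm gd N4800 = N4894 := trf L82568 L49247 rfl
theorem L82573 : N4894 = N7749 := eqe L82572 L47713
theorem L82574 : N7749 = N4894 := (eqc rfl L82573 rfl).symm
theorem L82578 : sm gf N4800 = N4893 := trf L82568 L49246 rfl
theorem L82579 : N4893 = N7845 := eqe L82578 L48168
theorem L82580 : N7845 = N4893 := (eqc rfl L82579 rfl).symm
theorem L82594 : sm gg N4893 = N7579 := trf L82580 L48173 rfl
theorem L82595 : N7579 = N3335 := eqe L82594 L32762
theorem L82596 : N7579 = N3335 := eqc rfl L82595 rfl
theorem L82598 : sm gb N3335 = N4679 := trf L82596 L46796 rfl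
theorem L82599 : N4679 = N4619 := eqe L82598 L31273
theorem L82600 : N4679 = N4619 := eqc rfl L82599 rfl
theorem L82601 : sm gc N3335 = N10872 := trf L82596 L65033 rfl
theorem L82602 : N10872 = N4908 := eqe L82601 L32839
theorem L82603 : N10872 = N4908 := eqc rfl L82602 rfl
theorem L82604 : sm ge N3335 = N5459 := trf L82596 L46797 rfl
theorem L82605 : N5459 = N4634 := eqe L82604 L50441
theorem L82606 : N5459 = N4634 := eqc rfl L82605 rfl
theorem L82617 : sm gf N4634 = N6706 := trf L82606 L59016 rfl
theorem L82618 : N6706 = N7499 := eqe L82617 L46359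
theorem L82619 : N7499 = N6706 := (eqc rfl L82618 rfl).symm
theorem L82631 : sm gg N6706 = N7477 := trf L82619 L46364 rfl
theorem L82632 : N7477 = N5655 := eqe L82631 L59017
theorem L82633 : N7477 = N5655 := eqc rfl L82632 rfl
theorem L82635 : sm gd N5655 = N8683 := trf L82633 L53242 rfl
theorem L82636 : N8683 = N9199 := eqe L82635 L55851
theorem L82637 : N9199 = N8683 := (eqc rfl L82636 rfl).symm
theorem L82642 : sm ga N8683 = N5545 := trf L82637 L55849 rfl
theorem L82643 : N5545 = N8696 := eqe L82642 L53308
theorem L82644 : N8696 = N5545 := (eqc rfl L82643 rfl).symm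
theorem L82649 : sm ga N5545 = N8683 := trf L82644 L53307 rfl
theorem L82658 : sm gg N5545 = N5286 := trf L82644 L53306 rfl
theorem L82659 : N5286 = N9202 := eqe L82658 L55864
theorem L82660 : N9202 = N5286 := (eqc rfl L82659 rfl).symm
theorem L82662 : sm gb N5286 = N5556 := trf L82660 L55868 rfl
theorem L82663 : N5556 = N5358 := eqe L82662 L34915
theorem L82664 : N5556 = N5358 := eqc rfl L82663 rfl
theorem L82666 : sm gg N5286 = N5545 := trf L82660 L55865 rfl
theorem L82668 : sm ga N5358 = N9219 := trf L82664 L55951 rfl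
theorem L82669 : N9219 = N8833 := eqe L82668 L54032
theorem L82670 : N9219 = N8833 := eqc rfl L82669 rfl
theorem L82671 : sm gc N5358 = N9223 := trf L82664 L55971 rfl
theorem L82672 : N9223 = N8835 := eqe L82671 L54042
theorem L82673 : N9223 = N8835 := eqc rfl L82672 rfl
theorem L82674 : sm gd N5358 = N3697 := trf L82664 L35836 rfl
theorem L82675 : N3697 = N7502 := eqe L82674 L46376
theorem L82676 : N7502 = N3697 := (eqc rfl L82675 rfl).symm
theorem L82677 : sm ge N5358 = N9081 := trf L82664 L55260 rfl
theorem L82678 : N9081 = N8803 := eqe L82677 L53898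
theorem L82679 : N9081 = N8803 := eqc rfl L82678 rfl
theorem L82683 : sm gg N5358 = N3640 := trf L82664 L35835 rfl
theorem L82684 : N3640 = N8836 := eqe L82683 L54043
theorem L82685 : N8836 = N3640 := (eqc rfl L82684 rfl).symm
theorem L82689 : sm gf N3640 = N8827 := trf L82685 L54048 rfl
theorem L82690 : N8827 = N5555 := eqe L82689 L35830
theorem L82691 : N8827 = N5555 := eqc rfl L82690 rfl
theorem L82692 : sm gg N3640 = N5358 := trf L82685 L54044 rfl
theorem L82693 : sm gg N5358 = N3640 := flp_g L82692
theorem L82694 : sm ga N5555 = N5354 := trf L82691 L54012 rfl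
theorem L82695 : N5354 = N9218 := eqe L82694 L55945
theorem L82696 : N9218 = N5354 := (eqc rfl L82695 rfl).symm
theorem L82697 : sm gg N5555 = N5356 := trf L82691 L54013 rfl
theorem L82698 : N5356 = N8728 := eqe L82697 L53481
theorem L82699 : N8728 = N5356 := (eqc rfl L82698 rfl).symm
theorem L82701 : sm gb N5356 = N5301 := trf L82699 L53478 rfl
theorem L82702 : N5301 = N8831 := eqe L82701 L54023
theorem L82703 : N8831 = N5301 := (eqc rfl L82702 rfl).symm
theorem L82714 : sm gb N5301 = N5356 := trf L82703 L54024 rfl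
theorem L82716 : sm ga N5354 = N5555 := trf L82696 L55944 rfl
theorem L82717 : sm ga N5555 = N5354 := flp_a L82716
theorem L82718 : sm gd N5354 = N5675 := trf L82696 L55946 rfl
theorem L82719 : N5675 = N7506 := eqe L82718 L46396
theorem L82720 : N7506 = N5675 := (eqc rfl L82719 rfl).symm
theorem L82724 : sm gb N5675 = N5337 := trf L82720 L46397 rfl
theorem L82725 : N5337 = N8151 := eqe L82724 L49962
theorem L82726 : N8151 = N5337 := (eqc rfl L82725 rfl).symm
theorem L82739 : sm gf N5337 = N5308 := trf L82726 L49959 rfl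
theorem L82740 : N5308 = N8787 := eqe L82739 L53801
theorem L82741 : N8787 = N5308 := (eqc rfl L82740 rfl).symm
theorem L82751 : sm gg N5308 = N8162 := trf L82741 L53807 rfl
theorem L82752 : N8162 = N3525 := eqe L82751 L34709
theorem L82753 : N8162 = N3525 := eqc rfl L82752 rfl
theorem L82754 : sm ga N3525 = N4983 := trf L82753 L50684 rfl
theorem L82755 : N4983 = N5305 := eqe L82754 L34694
theorem L82756 : N5305 = N4983 := (eqc rfl L82755 rfl).symm
theorem L82757 : sm gd N3525 = N4991 := trf L82753 L50685 rfl
theorem L82758 : N4991 = N3546 := eqe L82757 L73259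
theorem L82759 : N4991 = N3546 := eqc rfl L82758 rfl
theorem L82760 : sm gf N3525 = N5335 := trf L82753 L50687 rfl
theorem L82761 : N5335 = N5307 := eqe L82760 L34700
theorem L82762 : N5335 = N5307 := eqc rfl L82761 rfl
theorem L82767 : sm gc N5307 = N8783 := trf L82762 L53781 rfl
theorem L82768 : N8783 = N8737 := eqe L82767 L53524
theorem L82769 : N8783 = N8737 := eqc rfl L82768 rfl
theorem L82774 : sm ga N8737 = N5336 := trf L82769 L53783 rfl
theorem L82775 : N5336 = N8150 := eqe L82774 L53521
theorem L82776 : N8150 = N5336 := (eqc rfl L82775 rfl).symm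
theorem L82781 : sm ge N5336 = N11563 := trf L82776 L68926 rfl
theorem L82782 : N11563 = N8777 := eqe L82781 L53750
theorem L82783 : N11563 = N8777 := eqc rfl L82782 rfl
theorem L82784 : sm gf N5336 = N8734 := trf L82776 L53506 rfl
theorem L82785 : N8734 = N8163 := eqe L82784 L50692
theorem L82786 : N8734 = N8163 := eqc rfl L82785 rfl
theorem L82789 : sm gb N8163 = N9945 := trf L82786 L59693 rfl
theorem L82790 : N9945 = N10129 := eqe L82789 L60647
theorem L82791 : N10129 = N9945 := (eqc rfl L82790 rfl).symm
theorem L82797 : sm ge N9945 = N10439 := trf L82791 L62465 rfl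
theorem L82798 : N10439 = N10557 := eqe L82797 L63207
theorem L82799 : N10557 = N10439 := (eqc rfl L82798 rfl).symm
theorem L82802 : sm ga N10439 = N6354 := trf L82799 L63203 rfl
theorem L82803 : sm ga N6354 = N10439 := flp_a L82802
theorem L82809 : sm ga N8777 = N6995 := trf L82783 L68922 rfl
theorem L82810 : sm ga N6995 = N8777 := flp_a L82809
theorem L82830 : sm ga N3546 = N3381 := trf L82759 L33269 rfl
theorem L82831 : N3381 = N5350 := eqe L82830 L34881
theorem L82832 : N5350 = N3381 := (eqc rfl L82831 rfl).symm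
theorem L82833 : sm gb N3546 = N8178 := trf L82759 L50763 rfl
theorem L82834 : N8178 = N2626 := eqe L82833 L25937
theorem L82835 : N8178 = N2626 := eqc rfl L82834 rfl
theorem L82838 : sm ge N3546 = N8170 := trf L82759 L50722 rfl
theorem L82839 : N8170 = N5342 := eqe L82838 L34847
theorem L82840 : N8170 = N5342 := eqc rfl L82839 rfl
theorem L82844 : sm ga N5342 = N4987 := trf L82840 L50720 rfl
theorem L82845 : N4987 = N8795 := eqe L82844 L53848
theorem L82846 : N8795 = N4987 := (eqc rfl L82845 rfl).symm
theorem L82871 : sm ga N4987 = N5342 := trf L82846 L53847 rfl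
theorem L82872 : sm ga N5342 = N4987 := flp_a L82871
theorem L82876 : sm ga N2626 = N8127 := trf L82835 L71069 rfl
theorem L82877 : sm ga N8127 = N2626 := flp_a L82876
theorem L82878 : sm gc N2626 = N8126 := trf L82835 L71070 rfl
theorem L82879 : N8126 = N2154 := eqe L82878 L21159
theorem L82880 : N8126 = N2154 := eqc rfl L82879 rfl
theorem L82885 : sm gf N2154 = N11283 := trf L82880 L67336 rfl
theorem L82886 : N11283 = N1192 := eqe L82885 L18769
theorem L82887 : N11283 = N1192 := eqc rfl L82886 rfl
theorem L82890 : sm ge N1192 = N10731 := trf L82887 L67333 rfl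
theorem L82891 : N10731 = N2165 := eqe L82890 L18820
theorem L82892 : N10731 = N2165 := eqc rfl L82891 rfl
theorem L82894 : sm gb N2165 = N8591 := trf L82892 L64207 rfl
theorem L82895 : N8591 = N1190 := eqe L82894 L18818
theorem L82896 : N8591 = N1190 := eqc rfl L82895 rfl
theorem L82899 : sm gd N1190 = N5217 := trf L82896 L52746 rfl
theorem L82900 : N5217 = N2036 := eqe L82899 L10403
theorem L82901 : N5217 = N2036 := eqc rfl L82900 rfl
theorem L82904 : sm gc N2036 = N3483 := trf L82901 L34261 rfl
theorem L82905 : N3483 = N2458 := eqe L82904 L20304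
theorem L82906 : N3483 = N2458 := eqc rfl L82905 rfl
theorem L82911 : sm gg N2036 = N8592 := trf L82901 L52747 rfl
theorem L82912 : N8592 = N2463 := eqe L82911 L20329
theorem L82913 : N8592 = N2463 := eqc rfl L82912 rfl
theorem L82920 : sm gf N2463 = N9512 := trf L82913 L57392 rfl
theorem L82921 : N9512 = N2415 := eqe L82920 L20336
theorem L82922 : N9512 = N2415 := eqc rfl L82921 rfl
theorem L82926 : sm gg N2415 = N9356 := trf L82922 L57393 rfl
theorem L82927 : N9356 = N1994 := eqe L82926 L20083
theorem L82928 : N9356 = N1994 := eqc rfl L82927 rfl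
theorem L82931 : sm gc N1994 = N5620 := trf L82928 L56591 rfl
theorem L82932 : N5620 = N1743 := eqe L82931 L10144
theorem L82933 : N5620 = N1743 := eqc rfl L82932 rfl
theorem L82943 : sm ge N1743 = N7823 := trf L82933 L48043 rfl
theorem L82944 : N7823 = N886 := eqe L82943 L8884
theorem L82945 : N7823 = N886 := eqc rfl L82944 rfl
theorem L82954 : sm gg N886 = N7907 := trf L82945 L48561 rfl
theorem L82955 : N7907 = N1745 := eqe L82954 L8889
theorem L82956 : N7907 = N1745 := eqc rfl L82955 rfl
theorem L82964 : sm gf N1745 = N7400 := trf L82956 L48563 rfl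
theorem L82965 : N7400 = N2331 := eqe L82964 L19638
theorem L82966 : N7400 = N2331 := eqc rfl L82965 rfl
theorem L82975 : sm gg N2331 = N4584 := trf L82966 L45808 rfl
theorem L82976 : N4584 = N2034 := eqe L82975 L19646
theorem L82977 : N4584 = N2034 := eqc rfl L82976 rfl
theorem L82979 : sm gb N2034 = N3168 := trf L82977 L31069 rfl
theorem L82980 : N3168 = N2460 := eqe L82979 L20315
theorem L82981 : N3168 = N2460 := eqc rfl L82980 rfl
theorem L82983 : sm gd N2034 = N5882 := trf L82977 L37355 rfl
theorem L82984 : N5882 = N1693 := eqe L82983 L10390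
theorem L82985 : N5882 = N1693 := eqc rfl L82984 rfl
theorem L82998 : sm gf N1693 = N8096 := trf L82985 L49674 rfl
theorem L82999 : N8096 = N860 := eqe L82998 L8625
theorem L83000 : N8096 = N860 := eqc rfl L82999 rfl
theorem L83002 : sm gb N860 = N4936 := trf L83000 L49670 rfl
theorem L83003 : N4936 = N1692 := eqe L83002 L8622
theorem L83004 : N4936 = N1692 := eqc rfl L83003 rfl
theorem L83013 : sm gg N1692 = N7204 := trf L83004 L44690 rfl
theorem L83014 : N7204 = N2299 := eqe L83013 L19474
theorem L83015 : N7204 = N2299 := eqc rfl L83014 rfl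
theorem L83025 : sm gf N2299 = N4486 := trf L83015 L44684 rfl
theorem L83026 : N4486 = N2913 := eqe L83025 L22537
theorem L83027 : N4486 = N2913 := eqc rfl L83026 rfl
theorem L83033 : sm gd N2913 = N3120 := trf L83027 L30518 rfl
theorem L83034 : N3120 = N3229 := eqe L83033 L24308
theorem L83035 : N3229 = N3120 := (eqc rfl L83034 rfl).symm
theorem L83037 : sm gg N2913 = N3118 := trf L83027 L30517 rfl
theorem L83038 : N3118 = N2908 := eqe L83037 L22541
theorem L83039 : N3118 = N2908 := eqc rfl L83038 rfl
theorem L83044 : sm gd N2908 = N2402 := trf L83039 L23572 rfl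
theorem L83045 : N2402 = N3221 := eqe L83044 L24140
theorem L83046 : N3221 = N2402 := (eqc rfl L83045 rfl).symm
theorem L83049 : sm ga N2402 = N2455 := trf L83046 L24137 rfl
theorem L83050 : N2455 = N2522 := eqe L83049 L24223
theorem L83051 : N2522 = N2455 := (eqc rfl L83050 rfl).symm
theorem L83054 : sm gd N2402 = N2908 := trf L83046 L24139 rfl
theorem L83055 : sm gd N2908 = N2402 := flp_d L83054
theorem L83060 : sm ga N2455 = N2402 := trf L83051 L24222 rfl
theorem L83061 : sm ga N2402 = N2455 := flp_a L83060
theorem L83070 : sm gg N2455 = N3354 := trf L83051 L25063 rfl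
theorem L83071 : N3354 = N3227 := eqe L83070 L24291
theorem L83072 : N3354 = N3227 := eqc rfl L83071 rfl
theorem L83078 : sm gc N3227 = N2525 := trf L83072 L25067 rfl
theorem L83079 : N2525 = N4623 := eqe L83078 L31295
theorem L83080 : N4623 = N2525 := (eqc rfl L83079 rfl).symm
theorem L83094 : sm gb N2525 = N7474 := trf L83080 L46247 rfl
theorem L83095 : N7474 = N3361 := eqe L83094 L25093
theorem L83096 : N7474 = N3361 := eqc rfl L83095 rfl
theorem L83097 : sm gc N2525 = N3227 := trf L83080 L31294 rfl
theorem L83098 : sm gc N3227 = N2525 := flp_c L83097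
theorem L83107 : sm ge N3361 = N4702 := trf L83096 L46249 rfl
theorem L83108 : N4702 = N4489 := eqe L83107 L30537
theorem L83109 : N4702 = N4489 := eqc rfl L83108 rfl
theorem L83110 : sm ga N4489 = N7624 := trf L83109 L47066 rfl
theorem L83111 : N7624 = N3988 := eqe L83110 L39359
theorem L83112 : N7624 = N3988 := eqc rfl L83111 rfl
theorem L83125 : sm gd N3988 = N6429 := trf L83112 L47068 rfl
theorem L83126 : N6429 = N6246 := eqe L83125 L39432
theorem L83127 : N6429 = N6246 := eqc rfl L83126 rfl
theorem L83130 : sm gb N6246 = N9412 := trf L83127 L63913 rfl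
theorem L83131 : N9412 = N4051 := eqe L83130 L39434
theorem L83132 : N9412 = N4051 := eqc rfl L83131 rfl
theorem L83208 : sm gf N4051 = N5656 := trf L83132 L56891 rfl
theorem L83209 : N5656 = N6365 := eqe L83208 L40131
theorem L83210 : N6365 = N5656 := (eqc rfl L83209 rfl).symm
theorem L83211 : sm gg N4051 = N6707 := trf L83132 L59055 rfl
theorem L83212 : N6707 = N6353 := eqe L83211 L40069
theorem L83213 : N6707 = N6353 := eqc rfl L83212 rfl
theorem L83223 : sm gf N6353 = N4221 := trf L83213 L41805 rfl
theorem L83224 : N4221 = N10043 := eqe L83223 L60179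
theorem L83225 : N10043 = N4221 := (eqc rfl L83224 rfl).symm
theorem L83226 : sm ga N4221 = N6027 := trf L83225 L60176 rfl
theorem L83227 : N6027 = N6705 := eqe L83226 L41800
theorem L83228 : N6705 = N6027 := (eqc rfl L83227 rfl).symm
theorem L83229 : sm gd N4221 = N6025 := trf L83225 L60175 rfl
theorem L83230 : N6025 = N6653 := eqe L83229 L41567
theorem L83231 : N6653 = N6025 := (eqc rfl L83230 rfl).symm
theorem L83252 : sm ge N6025 = N11016 := trf L83231 L65801 rfl
theorem L83253 : N11016 = N5452 := eqe L83252 L39137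
theorem L83254 : N11016 = N5452 := eqc rfl L83253 rfl
theorem L83257 : sm gb N5452 = N6628 := trf L83254 L65799 rfl
theorem L83258 : N6628 = N5102 := eqe L83257 L36338
theorem L83259 : N6628 = N5102 := eqc rfl L83258 rfl
theorem L83265 : sm gf N5102 = N6572 := trf L83259 L41440 rfl
theorem L83266 : N6572 = N5097 := eqe L83265 L33753
theorem L83267 : N6572 = N5097 := eqc rfl L83266 rfl
theorem L83270 : sm gb N5097 = N10914 := trf L83267 L65278 rfl
theorem L83271 : N10914 = N8383 := eqe L83270 L51747
theorem L83272 : N10914 = N8383 := eqc rfl L83271 rfl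
theorem L83279 : sm ge N8383 = N6582 := trf L83272 L65280 rfl
theorem L83280 : N6582 = N10549 := eqe L83279 L63149
theorem L83281 : N10549 = N6582 := (eqc rfl L83280 rfl).symm
theorem L83295 : sm gg N6582 = N7824 := trf L83281 L63151 rfl
theorem L83296 : N7824 = N4168 := eqe L83295 L41246
theorem L83297 : N7824 = N4168 := eqc rfl L83296 rfl
theorem L83299 : sm gc N4168 = N10551 := trf L83297 L63167 rfl
theorem L83300 : N10551 = N6584 := eqe L83299 L41252
theorem L83301 : N10551 = N6584 := eqc rfl L83300 rfl
theorem L83304 : sm gf N4168 = N7461 := trf L83297 L48053 rfl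
theorem L83305 : N7461 = N6585 := eqe L83304 L41256
theorem L83306 : N7461 = N6585 := eqc rfl L83305 rfl
theorem L83311 : sm gc N6585 = N8445 := trf L83306 L52052 rfl
theorem L83312 : N8445 = N10943 := eqe L83311 L65419
theorem L83313 : N10943 = N8445 := (eqc rfl L83312 rfl).symm
theorem L83317 : sm gg N6585 = N4616 := trf L83306 L46176 rfl
theorem L83318 : N4616 = N10944 := eqe L83317 L65420
theorem L83319 : N10944 = N4616 := (eqc rfl L83318 rfl).symm
theorem L83321 : sm gd N4616 = N6612 := trf L83319 L65424 rfl
theorem L83322 : N6612 = N7443 := eqe L83321 L46072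
theorem L83323 : N7443 = N6612 := (eqc rfl L83322 rfl).symm
theorem L83328 : sm gb N6612 = N4607 := trf L83323 L46070 rfl
theorem L83329 : N4607 = N10993 := eqe L83328 L65670
theorem L83330 : N10993 = N4607 := (eqc rfl L83329 rfl).symm
theorem L83339 : sm gg N4607 = N10707 := trf L83330 L66574 rfl
theorem L83340 : N10707 = N7413 := eqe L83339 L45906
theorem L83341 : N10707 = N7413 := eqc rfl L83340 rfl
theorem L83350 : sm gf N7413 = N11218 := trf L83341 L66888 rfl
theorem L83351 : N11218 = N7448 := eqe L83350 L46097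
theorem L83352 : N11218 = N7448 := eqc rfl L83351 rfl
theorem L83353 : sm ga N7448 = N6747 := trf L83352 L66884 rfl
theorem L83354 : N6747 = N7415 := eqe L83353 L46093
theorem L83355 : N7415 = N6747 := (eqc rfl L83354 rfl).symm
theorem L83356 : sm gb N7448 = N6797 := trf L83352 L66890 rfl
theorem L83364 : sm gd N6747 = N4600 := trf L83355 L45913 rfl
theorem L83365 : N4600 = N11151 := eqe L83364 L66450
theorem L83366 : N11151 = N4600 := (eqc rfl L83365 rfl).symm
theorem L83376 : sm gf N4600 = N7658 := trf L83366 L66451 rfl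
theorem L83377 : N7658 = N3179 := eqe L83376 L31173
theorem L83378 : N7658 = N3179 := eqc rfl L83377 rfl
theorem L83379 : sm gb N3179 = N4716 := trf L83378 L47241 rfl
theorem L83380 : N4716 = N2431 := eqe L83379 L23906
theorem L83381 : N4716 = N2431 := eqc rfl L83380 rfl
theorem L83387 : sm gf N2431 = N3236 := trf L83381 L31788 rfl
theorem L83388 : N3236 = N3180 := eqe L83387 L23911
theorem L83389 : N3236 = N3180 := eqc rfl L83388 rfl
theorem L83392 : sm gb N3180 = N4213 := trf L83389 L29215 rfl
theorem L83393 : N4213 = N4601 := eqe L83392 L31176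
theorem L83394 : N4601 = N4213 := (eqc rfl L83393 rfl).symm
theorem L83404 : sm gb N4213 = N3180 := trf L83394 L31177 rfl
theorem L83412 : sm ge N4213 = N3509 := trf L83394 L31178 rfl
theorem L83413 : N3509 = N6645 := eqe L83412 L41533
theorem L83414 : N6645 = N3509 := (eqc rfl L83413 rfl).symm
theorem L83427 : sm ge N3509 = N4213 := trf L83414 L41532 rfl
theorem L83428 : sm ge N4213 = N3509 := flp_e L83427
theorem L83432 : sm gg N3509 = N4193 := trf L83414 L41531 rfl
theorem L83433 : N4193 = N5272 := eqe L83432 L34532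
theorem L83434 : N5272 = N4193 := (eqc rfl L83433 rfl).symm
theorem L83435 : sm ga N4193 = N3701 := trf L83434 L36402 rfl
theorem L83436 : N3701 = N6643 := eqe L83435 L41520
theorem L83437 : N6643 = N3701 := (eqc rfl L83436 rfl).symm
theorem L83442 : sm gd N4193 = N8656 := trf L83434 L53104 rfl
theorem L83443 : N8656 = N6508 := eqe L83442 L40871
theorem L83444 : N8656 = N6508 := eqc rfl L83443 rfl
theorem L83446 : sm gf N4193 = N8676 := trf L83434 L53195 rfl
theorem L83447 : N8676 = N6641 := eqe L83446 L41511
theorem L83448 : N8676 = N6641 := eqc rfl L83447 rfl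
theorem L83454 : sm gb N6641 = N5719 := trf L83448 L53201 rfl
theorem L83455 : N5719 = N4192 := eqe L83454 L41507
theorem L83456 : N5719 = N4192 := eqc rfl L83455 rfl
theorem L83490 : sm gg N4192 = N5036 := trf L83456 L36598 rfl
theorem L83491 : N5036 = N6642 := eqe L83490 L41512
theorem L83492 : N6642 = N5036 := (eqc rfl L83491 rfl).symm
theorem L83508 : sm gf N5036 = N6574 := trf L83492 L41519 rfl
theorem L83509 : N6574 = N3719 := eqe L83508 L33464
theorem L83510 : N6574 = N3719 := eqc rfl L83509 rfl
theorem L83511 : sm gg N5036 = N4192 := trf L83492 L41513 rfl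
theorem L83528 : sm gg N3719 = N4190 := trf L83510 L41208 rfl
theorem L83529 : N4190 = N2695 := eqe L83528 L26664
theorem L83530 : N4190 = N2695 := eqc rfl L83529 rfl
theorem L83536 : sm gc N2695 = N6637 := trf L83530 L41484 rfl
theorem L83537 : N6637 = N3718 := eqe L83536 L26660
theorem L83538 : N6637 = N3718 := eqc rfl L83537 rfl
theorem L83539 : sm gd N2695 = N6505 := trf L83530 L40854 rfl
theorem L83540 : N6505 = N3653 := eqe L83539 L26404
theorem L83541 : N6505 = N3653 := eqc rfl L83540 rfl
theorem L83542 : sm ge N2695 = N2973 := trf L83530 L29102 rfl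
theorem L83543 : N2973 = N3287 := eqe L83542 L24597
theorem L83544 : N3287 = N2973 := (eqc rfl L83543 rfl).symm
theorem L83558 : sm gf N2973 = N4828 := trf L83544 L32381 rfl
theorem L83559 : N4828 = N4206 := eqe L83558 L29174
theorem L83560 : N4828 = N4206 := eqc rfl L83559 rfl
theorem L83574 : sm gg N4206 = N7905 := trf L83560 L48536 rfl
theorem L83575 : N7905 = N4171 := eqe L83574 L29181
theorem L83576 : N7905 = N4171 := eqc rfl L83575 rfl
theorem L83578 : sm gb N4171 = N7836 := trf L83576 L48544 rfl
theorem L83579 : N7836 = N6590 := eqe L83578 L41280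
theorem L83580 : N7836 = N6590 := eqc rfl L83579 rfl
theorem L83591 : sm gg N6590 = N7840 := trf L83580 L48149 rfl
theorem L83592 : N7840 = N10953 := eqe L83591 L65462
theorem L83593 : N10953 = N7840 := (eqc rfl L83592 rfl).symm
theorem L83602 : sm gf N7840 = N10956 := trf L83593 L65481 rfl
theorem L83603 : N10956 = N4797 := eqe L83602 L48143
theorem L83604 : N10956 = N4797 := eqc rfl L83603 rfl
theorem L83608 : sm gd N4797 = N6622 := trf L83604 L65478 rfl
theorem L83609 : N6622 = N7736 := eqe L83608 L47657
theorem L83610 : N7736 = N6622 := (eqc rfl L83609 rfl).symm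
theorem L83611 : sm gg N4797 = N6591 := trf L83604 L65475 rfl
theorem L83612 : N6591 = N7834 := eqe L83611 L48107
theorem L83613 : N7834 = N6591 := (eqc rfl L83612 rfl).symm
theorem L83618 : sm ge N6591 = N5635 := trf L83613 L48104 rfl
theorem L83619 : N5635 = N10923 := eqe L83618 L65331
theorem L83620 : N10923 = N5635 := (eqc rfl L83619 rfl).symm
theorem L83625 : sm ga N5635 = N6577 := trf L83620 L65329 rfl
theorem L83626 : N6577 = N3676 := eqe L83625 L36177
theorem L83627 : N6577 = N3676 := eqc rfl L83626 rfl
theorem L83631 : sm gc N3676 = N10924 := trf L83627 L65332 rfl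
theorem L83632 : N10924 = N5636 := eqe L83631 L36182
theorem L83633 : N10924 = N5636 := eqc rfl L83632 rfl
theorem L83634 : sm gd N3676 = N10760 := trf L83627 L64377 rfl
theorem L83635 : N10760 = N5529 := eqe L83634 L35729
theorem L83636 : N10760 = N5529 := eqc rfl L83635 rfl
theorem L83642 : sm ge N5529 = N6487 := trf L83636 L64378 rfl
theorem L83643 : N6487 = N9047 := eqe L83642 L55092
theorem L83644 : N9047 = N6487 := (eqc rfl L83643 rfl).symm
theorem L83646 : sm ge N6487 = N5529 := trf L83644 L55091 rfl
theorem L83647 : sm ge N5529 = N6487 := flp_e L83646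
theorem L83648 : sm gg N6487 = N5482 := trf L83644 L55093 rfl
theorem L83649 : N5482 = N10775 := eqe L83648 L64442
theorem L83650 : N10775 = N5482 := (eqc rfl L83649 rfl).symm
theorem L83654 : sm gg N5482 = N6487 := trf L83650 L64443 rfl
theorem L83655 : sm gg N6487 = N5482 := flp_g L83654
theorem L83656 : sm gb N5636 = N6814 := trf L83633 L65336 rfl
theorem L83657 : N6814 = N9384 := eqe L83656 L56731
theorem L83658 : N9384 = N6814 := (eqc rfl L83657 rfl).symm
theorem L83673 : sm gb N6814 = N5636 := trf L83658 L56730 rfl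
theorem L83674 : sm gb N5636 = N6814 := flp_b L83673
theorem L83675 : sm gc N6814 = N5632 := trf L83658 L56729 rfl
theorem L83676 : N5632 = N4274 := eqe L83675 L42361
theorem L83677 : N5632 = N4274 := eqc rfl L83676 rfl
theorem L83690 : sm gf N4274 = N9385 := trf L83677 L56732 rfl
theorem L83691 : N9385 = N6815 := eqe L83690 L42364
theorem L83692 : N9385 = N6815 := eqc rfl L83691 rfl
theorem L83694 : sm gb N6815 = N10294 := trf L83692 L61612 rfl
theorem L83695 : N10294 = N6787 := eqe L83694 L42370
theorem L83696 : N10294 = N6787 := eqc rfl L83695 rfl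
theorem L83697 : sm ga N6787 = N6192 := trf L83696 L61593 rfl
theorem L83698 : N6192 = N11267 := eqe L83697 L67218
theorem L83699 : N11267 = N6192 := (eqc rfl L83698 rfl).symm
theorem L83700 : sm gf N6787 = N9386 := trf L83696 L61610 rfl
theorem L83701 : N9386 = N4259 := eqe L83700 L42187
theorem L83702 : N9386 = N4259 := eqc rfl L83701 rfl
theorem L83706 : sm gb N4259 = N5633 := trf L83702 L56735 rfl
theorem L83707 : N5633 = N3004 := eqe L83706 L29405
theorem L83708 : N5633 = N3004 := eqc rfl L83707 rfl
theorem L83716 : sm gg N3004 = N5618 := trf L83708 L36172 rfl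
theorem L83717 : N5618 = N2345 := eqe L83716 L22998
theorem L83718 : N5618 = N2345 := eqc rfl L83717 rfl
theorem L83720 : sm gb N2345 = N9354 := trf L83718 L56586 rfl
theorem L83721 : N9354 = N3000 := eqe L83720 L22974
theorem L83722 : N9354 = N3000 := eqc rfl L83721 rfl
theorem L83889 : sm gf N3000 = N11720 := trf L83722 L69801 rfl
theorem L83890 : N11720 = N4252 := eqe L83889 L29352
theorem L83891 : N11720 = N4252 := eqc rfl L83890 rfl
theorem L83892 : sm ga N4252 = N9887 := trf L83891 L69802 rfl
theorem L83893 : N9887 = N4313 := eqe L83892 L29689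
theorem L83894 : N9887 = N4313 := eqc rfl L83893 rfl
theorem L83898 : sm gb N4313 = N5932 := trf L83894 L59377 rfl
theorem L83899 : N5932 = N6899 := eqe L83898 L42828
theorem L83900 : N6899 = N5932 := (eqc rfl L83899 rfl).symm
theorem L83902 : sm ge N4313 = N9801 := trf L83894 L59378 rfl
theorem L83903 : N9801 = N4491 := eqe L83902 L30559
theorem L83904 : N9801 = N4491 := eqc rfl L83903 rfl
theorem L83907 : sm gb N4491 = N5877 := trf L83904 L58734 rfl
theorem L83908 : N5877 = N7211 := eqe L83907 L44723
theorem L83909 : N7211 = N5877 := (eqc rfl L83908 rfl).symm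
theorem L83925 : sm gb N5877 = N4491 := trf L83909 L44724 rfl
theorem L83930 : sm gd N5877 = N6220 := trf L83909 L44725 rfl
theorem L83931 : N6220 = N9802 := eqe L83930 L58739
theorem L83932 : N9802 = N6220 := (eqc rfl L83931 rfl).symm
theorem L83935 : sm gg N5877 = N11944 := trf L83909 L71022 rfl
theorem L83936 : N11944 = N4896 := eqe L83935 L37333
theorem L83937 : N11944 = N4896 := eqc rfl L83936 rfl
theorem L83938 : sm gd N4896 = N10337 := trf L83937 L71024 rfl
theorem L83939 : N10337 = N8022 := eqe L83938 L49265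
theorem L83940 : N10337 = N8022 := eqc rfl L83939 rfl
theorem L83941 : sm ge N4896 = N11443 := trf L83937 L71026 rfl
theorem L83942 : N11443 = N3823 := eqe L83941 L32780
theorem L83943 : N11443 = N3823 := eqc rfl L83942 rfl
theorem L83947 : sm gd N3823 = N6894 := trf L83943 L68320 rfl
theorem L83948 : N6894 = N5931 := eqe L83947 L37554
theorem L83949 : N6894 = N5931 := eqc rfl L83948 rfl
theorem L83951 : sm ga N5931 = N10134 := trf L83949 L60675 rfl
theorem L83952 : N10134 = N9881 := eqe L83951 L59349
theorem L83953 : N10134 = N9881 := eqc rfl L83952 rfl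
theorem L83954 : sm gb N5931 = N6775 := trf L83949 L42804 rfl
theorem L83955 : N6775 = N9882 := eqe L83954 L59357
theorem L83956 : N9882 = N6775 := (eqc rfl L83955 rfl).symm
theorem L83957 : sm gc N5931 = N4311 := trf L83949 L42803 rfl
theorem L83958 : N4311 = N9884 := eqe L83957 L59364
theorem L83959 : N9884 = N4311 := (eqc rfl L83958 rfl).symm
theorem L83960 : sm ge N5931 = N6895 := trf L83949 L42813 rfl
theorem L83961 : N6895 = N9885 := eqe L83960 L59366
theorem L83962 : N9885 = N6895 := (eqc rfl L83961 rfl).symm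
theorem L83963 : sm gf N5931 = N10091 := trf L83949 L60445 rfl
theorem L83964 : N10091 = N9805 := eqe L83963 L58755
theorem L83965 : N10091 = N9805 := eqc rfl L83964 rfl
theorem L83966 : sm gg N5931 = N4315 := trf L83949 L42807 rfl
theorem L83967 : N4315 = N9886 := eqe L83966 L59368
theorem L83968 : N9886 = N4315 := (eqc rfl L83967 rfl).symm
theorem L83969 : sm ga N4315 = N7998 := trf L83968 L59370 rfl
theorem L83970 : N7998 = N6901 := eqe L83969 L42836
theorem L83971 : N7998 = N6901 := eqc rfl L83970 rfl
theorem L83975 : sm gg N4315 = N5931 := trf L83968 L59369 rfl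
theorem L83976 : sm gg N5931 = N4315 := flp_g L83975
theorem L83979 : sm gd N6901 = N4878 := trf L83971 L49112 rfl
theorem L83980 : N4878 = N11445 := eqe L83979 L68336
theorem L83981 : N7739 = N4878 := (eqc rfl L83980 L71754).symm
theorem L83982 : sm gf N6901 = N5878 := trf L83971 L49113 rfl
theorem L83983 : N5878 = N10336 := eqe L83982 L61807
theorem L83984 : N10336 = N5878 := (eqc rfl L83983 rfl).symm
theorem L83992 : sm gc N5878 = N10092 := trf L83984 L61802 rfl
theorem L83993 : N10092 = N9803 := eqe L83992 L58745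
theorem L83994 : N10092 = N9803 := eqc rfl L83993 rfl
theorem L84004 : sm ga N9803 = N7048 := trf L83994 L60450 rfl
theorem L84006 : sm gb N9803 = N6906 := trf L83994 L60456 rfl
theorem L84007 : sm gb N6906 = N9803 := flp_b L84006
theorem L84008 : sm gd N9803 = N6895 := trf L83994 L60452 rfl
theorem L84010 : sm ge N9803 = N8022 := trf L83994 L61819 L83940
theorem L84011 : sm ge N8022 = N9803 := flp_e L84010
theorem L84012 : sm gf N9803 = N6144 := trf L83994 L60455 rfl
theorem L84014 : sm gg N9803 = N6061 := trf L83994 L60449 rfl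
theorem L84023 : sm gd N4878 = N6305 := trf L83981 L47668 rfl
theorem L84024 : sm gd N6305 = N4878 := flp_d L84023
theorem L84028 : sm gc N9805 = N6061 := trf L83965 L60441 rfl
theorem L84030 : sm ge N9805 = N7048 := trf L83965 L60442 rfl
theorem L84032 : sm ge N6895 = N5931 := trf L83962 L59367 rfl
theorem L84033 : sm ge N5931 = N6895 := flp_e L84032
theorem L84034 : sm gc N4311 = N5931 := trf L83959 L59365 rfl
theorem L84035 : sm gc N5931 = N4311 := flp_c L84034
theorem L84036 : sm ga N6775 = N10285 := trf L83956 L61541 rfl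
theorem L84037 : N10285 = N6108 := eqe L84036 L42118
theorem L84038 : N10285 = N6108 := eqc rfl L84037 rfl
theorem L84039 : sm gb N6775 = N5931 := trf L83956 L59356 rfl
theorem L84040 : sm gb N5931 = N6775 := flp_b L84039
theorem L84052 : sm gd N6108 = N6187 := trf L84038 L61542 rfl
theorem L84053 : N6187 = N10145 := eqe L84052 L60749
theorem L84054 : N10145 = N6187 := (eqc rfl L84053 rfl).symm
theorem L84058 : sm gb N6187 = N6103 := trf L84054 L60747 rfl
theorem L84059 : N6103 = N8967 := eqe L84058 L54670
theorem L84060 : N8967 = N6103 := (eqc rfl L84059 rfl).symm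
theorem L84061 : sm gd N6187 = N6108 := trf L84054 L60748 rfl
theorem L84065 : sm gf N6187 = N11271 := trf L84054 L67254 rfl
theorem L84066 : N11271 = N3957 := eqe L84065 L38815
theorem L84067 : N11271 = N3957 := eqc rfl L84066 rfl
theorem L84070 : sm gc N3957 = N11738 := trf L84067 L74101 rfl
theorem L84071 : N11738 = N6178 := eqe L84070 L38775
theorem L84072 : N11738 = N6178 := eqc rfl L84071 rfl
theorem L84075 : sm gd N6178 = N7103 := trf L84072 L69905 rfl
theorem L84076 : N7103 = N10270 := eqe L84075 L61462
theorem L84077 : N7113 = N7103 := (eqc rfl L84076 L73841).symm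
theorem L84078 : sm ga N7103 = N11742 := trf L84077 L69931 rfl
theorem L84079 : N11742 = N4437 := eqe L84078 L44148
theorem L84080 : N11742 = N4437 := eqc rfl L84079 rfl
theorem L84087 : sm ge N7103 = N4439 := trf L84077 L44192 rfl
theorem L84088 : N4439 = N11739 := eqe L84087 L69910
theorem L84089 : N11739 = N4439 := (eqc rfl L84088 rfl).symm
theorem L84090 : sm gf N7103 = N4438 := trf L84077 L44191 rfl
theorem L84091 : N4438 = N11740 := eqe L84090 L69916
theorem L84092 : N11740 = N4438 := (eqc rfl L84091 rfl).symm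
theorem L84093 : sm gg N7103 = N11763 := trf L84077 L70052 rfl
theorem L84094 : N11763 = N11741 := eqe L84093 L69922
theorem L84095 : N11763 = N11741 := eqc rfl L84094 rfl
theorem L84096 : sm ga N11741 = N11764 := trf L84095 L70061 rfl
theorem L84097 : N11764 = N7112 := eqe L84096 L69924
theorem L84098 : N11764 = N7112 := eqc rfl L84097 rfl
theorem L84099 : sm gd N11741 = N9897 := trf L84095 L73854 rfl
theorem L84100 : sm gd N9897 = N11741 := flp_d L84099
theorem L84101 : sm ge N11741 = N7115 := trf L84095 L70054 rfl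
theorem L84103 : sm gf N11741 = N9894 := trf L84095 L70057 L73865
theorem L84104 : N9894 = N11760 := eqe L84103 L70036
theorem L84105 : N11760 = N9894 := (eqc rfl L84104 rfl).symm
theorem L84108 : sm gc N9894 = N7115 := trf L84105 L70034 rfl
theorem L84109 : sm gc N7115 = N9894 := flp_c L84108
theorem L84110 : sm gf N9894 = N11741 := trf L84105 L70037 rfl
theorem L84111 : sm gf N11741 = N9894 := flp_f L84110
theorem L84137 : N10270 = N7103 := L73841.trans L84077
theorem L84141 : sm gd N7112 = N9895 := trf L84098 L70062 L73852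
theorem L84142 : N9895 = N11755 := eqe L84141 L70011
theorem L84143 : N11755 = N9895 := (eqc rfl L84142 rfl).symm
theorem L84144 : sm ge N7112 = N7116 := trf L84098 L70064 rfl
theorem L84145 : N7116 = N11758 := eqe L84144 L70027
theorem L84146 : N11758 = N7116 := (eqc rfl L84145 rfl).symm
theorem L84147 : sm gf N7112 = N7114 := trf L84098 L70059 rfl
theorem L84148 : N7114 = N11762 := eqe L84147 L70044
theorem L84149 : N11762 = N7114 := (eqc rfl L84148 rfl).symm
theorem L84155 : sm gf N7114 = N7112 := trf L84149 L70045 rfl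
theorem L84156 : sm gf N7112 = N7114 := flp_f L84155
theorem L84158 : sm gc N7116 = N7114 := trf L84146 L70024 rfl
theorem L84159 : sm gc N7114 = N7116 := flp_c L84158
theorem L84160 : sm ge N7116 = N7112 := trf L84146 L70026 rfl
theorem L84161 : sm ge N7112 = N7116 := flp_e L84160
theorem L84162 : sm gg N7116 = N7110 := trf L84146 L70023 rfl
theorem L84163 : N7110 = N7105 := eqe L84162 L44214
theorem L84164 : N7110 = N7105 := eqc rfl L84163 rfl
theorem L84166 : sm gb N7105 = N6197 := trf L84164 L44178 rfl
theorem L84167 : N6197 = N11744 := eqe L84166 L69942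
theorem L84168 : N11744 = N6197 := (eqc rfl L84167 rfl).symm
theorem L84182 : sm gb N6197 = N7105 := trf L84168 L69943 rfl
theorem L84183 : sm gb N7105 = N6197 := flp_b L84182
theorem L84184 : sm gd N6197 = N7107 := trf L84168 L69944 rfl
theorem L84185 : sm gd N7107 = N6197 := flp_d L84184
theorem L84186 : sm gd N9895 = N7112 := trf L84143 L70010 rfl
theorem L84189 : sm gc N4438 = N7105 := trf L84092 L69920 rfl
theorem L84190 : sm gc N7105 = N4438 := flp_c L84189
theorem L84191 : sm gf N4438 = N7103 := trf L84092 L69917 rfl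
theorem L84192 : sm gf N7103 = N4438 := flp_f L84191
theorem L84196 : sm ge N4439 = N7103 := trf L84089 L69911 rfl
theorem L84197 : sm ge N7103 = N4439 := flp_e L84196
theorem L84202 : sm ge N4437 = N7105 := trf L84080 L69932 rfl
theorem L84203 : sm ge N7105 = N4437 := flp_e L84202
theorem L84207 : sm ga N6103 = N5423 := trf L84060 L54664 rfl
theorem L84208 : N5423 = N3916 := eqe L84207 L38375
theorem L84209 : N5423 = N3916 := eqc rfl L84208 rfl
theorem L84210 : sm gb N6103 = N6187 := trf L84060 L54669 rfl
theorem L84211 : sm gb N6187 = N6103 := flp_b L84210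
theorem L84212 : sm gc N6103 = N5429 := trf L84060 L54665 rfl
theorem L84213 : N5429 = N10146 := eqe L84212 L60750
theorem L84214 : N10146 = N5429 := (eqc rfl L84213 rfl).symm
theorem L84218 : sm gg N6103 = N11655 := trf L84060 L69408 rfl
theorem L84219 : N11655 = N6124 := eqe L84218 L38495
theorem L84220 : N11655 = N6124 := eqc rfl L84219 rfl
theorem L84227 : sm gc N6124 = N7047 := trf L84220 L69402 rfl
theorem L84228 : N7047 = N10187 := eqe L84227 L60977
theorem L84229 : N10187 = N7047 := (eqc rfl L84228 rfl).symm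
theorem L84230 : sm ge N6124 = N8608 := trf L84220 L69405 rfl
theorem L84231 : N8608 = N6300 := eqe L84230 L39765
theorem L84232 : N8608 = N6300 := eqc rfl L84231 rfl
theorem L84233 : sm ga N6300 = N10414 := trf L84232 L62291 rfl
theorem L84234 : N10414 = N6292 := eqe L84233 L39760
theorem L84235 : N10414 = N6292 := eqc rfl L84234 rfl
theorem L84236 : sm gb N6300 = N5263 := trf L84232 L52841 rfl
theorem L84237 : N5263 = N10467 := eqe L84236 L62640
theorem L84238 : N10467 = N5263 := (eqc rfl L84237 rfl).symm
theorem L84242 : sm gg N6300 = N6887 := trf L84232 L73785 rfl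
theorem L84243 : N6887 = N6290 := eqe L84242 L39766
theorem L84244 : N6887 = N6290 := eqc rfl L84243 rfl
theorem L84245 : sm ga N6290 = N6270 := trf L84244 L68246 L73772
theorem L84246 : N6270 = N4009 := eqe L84245 L39693
theorem L84247 : N6270 = N4009 := eqc rfl L84246 rfl
theorem L84248 : sm gb N6290 = N4450 := trf L84244 L42774 rfl
theorem L84249 : N4450 = N10444 := eqe L84248 L62492
theorem L84250 : N10444 = N4450 := (eqc rfl L84249 rfl).symm
theorem L84254 : sm gd N6290 = N11433 := trf L84244 L68271 rfl
theorem L84255 : N11433 = N4032 := eqe L84254 L39694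
theorem L84256 : N11433 = N4032 := eqc rfl L84255 rfl
theorem L84259 : sm gf N6290 = N10157 := trf L84244 L73790 rfl
theorem L84260 : N10157 = N4012 := eqe L84259 L39698
theorem L84261 : N10157 = N4012 := eqc rfl L84260 rfl
theorem L84265 : sm gb N4012 = N6109 := trf L84261 L60809 rfl
theorem L84266 : N6109 = N6295 := eqe L84265 L39726
theorem L84267 : N6295 = N6109 := (eqc rfl L84266 rfl).symm
theorem L84268 : sm gc N4012 = N6889 := trf L84261 L62271 L73713
theorem L84269 : N6889 = N6296 := eqe L84268 L39732
theorem L84270 : N6889 = N6296 := eqc rfl L84269 rfl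
theorem L84280 : sm gg N6296 = N11439 := trf L84270 L68299 rfl
theorem L84281 : N11439 = N10460 := eqe L84280 L62594
theorem L84282 : N11439 = N10460 := eqc rfl L84281 rfl
theorem L84288 : sm gf N10460 = N11431 := trf L84282 L68304 rfl
theorem L84289 : N11431 = N10447 := eqe L84288 L62602
theorem L84290 : N11431 = N10447 := eqc rfl L84289 rfl
theorem L84293 : sm gd N10447 = N6886 := trf L84290 L68261 rfl
theorem L84295 : sm gg N10447 = N3999 := trf L84290 L68258 L73756
theorem L84296 : N3999 = N6291 := eqe L84295 L62513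
theorem L84297 : N6291 = N3999 := (eqc rfl L84296 rfl).symm
theorem L84310 : sm gf N3999 = N4013 := trf L84297 L39704 rfl
theorem L84311 : N4013 = N6271 := eqe L84310 L39578
theorem L84312 : N6271 = N4013 := (eqc rfl L84311 rfl).symm
theorem L84313 : sm gg N3999 = N10447 := trf L84297 L62512 rfl
theorem L84314 : N10447 = N6272 := eqe L84313 L39584
theorem L84315 : N10447 = N6272 := eqc rfl L84314 rfl
theorem L84319 : sm gd N6272 = N6886 := trf L84315 L84293 rfl
theorem L84320 : N6886 = N10390 := eqe L84319 L62159
theorem L84321 : N10390 = N6886 := (eqc rfl L84320 rfl).symm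
theorem L84325 : sm gf N6272 = N10460 := trf L84315 L62603 rfl
theorem L84326 : N10460 = N10415 := eqe L84325 L62296
theorem L84327 : N10460 = N10415 := eqc rfl L84326 rfl
theorem L84335 : sm ge N10415 = N10181 := trf L84327 L62600 rfl
theorem L84336 : N10181 = N8980 := eqe L84335 L62300
theorem L84337 : N10181 = N8980 := eqc rfl L84336 rfl
theorem L84340 : N10411 = N6296 := L73713.trans L84270
theorem L84348 : sm gg N8980 = N6120 := trf L84337 L60945 rfl
theorem L84349 : N6120 = N6905 := eqe L84348 L54737
theorem L84350 : N6905 = N6120 := (eqc rfl L84349 rfl).symm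
theorem L84352 : sm gb N6120 = N4317 := trf L84350 L42857 rfl
theorem L84353 : N4317 = N10179 := eqe L84352 L60938
theorem L84354 : N10179 = N4317 := (eqc rfl L84353 rfl).symm
theorem L84356 : sm gd N6120 = N6934 := trf L84350 L43142 rfl
theorem L84357 : N6934 = N10180 := eqe L84356 L60940
theorem L84358 : N10180 = N6934 := (eqc rfl L84357 rfl).symm
theorem L84367 : sm gc N6934 = N10207 := trf L84358 L61114 rfl
theorem L84368 : N10207 = N4519 := eqe L84367 L43139
theorem L84369 : N10207 = N4519 := eqc rfl L84368 rfl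
theorem L84370 : sm gd N6934 = N6120 := trf L84358 L60941 rfl
theorem L84375 : sm gb N4519 = N11228 := trf L84369 L66940 rfl
theorem L84376 : N11228 = N3135 := eqe L84375 L30723
theorem L84377 : N11228 = N3135 := eqc rfl L84376 rfl
theorem L84380 : sm gd N3135 = N6752 := trf L84377 L66938 rfl
theorem L84381 : N6752 = N4511 := eqe L84380 L30689
theorem L84382 : N6752 = N4511 := eqc rfl L84381 rfl
theorem L84385 : sm gb N4511 = N6133 := trf L84382 L41968 rfl
theorem L84386 : N6133 = N4216 := eqe L84385 L75027
theorem L84387 : N6133 = N4216 := eqc rfl L84386 rfl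
theorem L84390 : sm ge N4511 = N11229 := trf L84382 L66941 rfl
theorem L84391 : N11229 = N7237 := eqe L84390 L44874
theorem L84392 : N11229 = N7237 := eqc rfl L84391 rfl
theorem L84395 : sm gg N4511 = N11231 := trf L84382 L66951 rfl
theorem L84396 : N11231 = N4543 := eqe L84395 L30855
theorem L84397 : N11231 = N4543 := eqc rfl L84396 rfl
theorem L84398 : sm gc N4543 = N6755 := trf L84397 L66953 rfl
theorem L84399 : N6755 = N7314 := eqe L84398 L45304
theorem L84400 : N7314 = N6755 := (eqc rfl L84399 rfl).symm
theorem L84401 : sm ga N6755 = N7248 := trf L84400 L45301 rfl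
theorem L84402 : N7248 = N11226 := eqe L84401 L66932
theorem L84403 : N11226 = N7248 := (eqc rfl L84402 rfl).symm
theorem L84406 : sm gf N6755 = N4542 := trf L84400 L45300 rfl
theorem L84407 : N4542 = N11235 := eqe L84406 L66971
theorem L84408 : N11235 = N4542 := (eqc rfl L84407 rfl).symm
theorem L84410 : sm ga N4542 = N10965 := trf L84408 L73961 rfl
theorem L84411 : N10965 = N7308 := eqe L84410 L45276
theorem L84412 : N10965 = N7308 := eqc rfl L84411 rfl
theorem L84413 : sm gd N4542 = N6757 := trf L84408 L66975 rfl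
theorem L84414 : N6757 = N7312 := eqe L84413 L45294
theorem L84415 : N7312 = N6757 := (eqc rfl L84414 rfl).symm
theorem L84416 : sm gf N4542 = N6755 := trf L84408 L66972 rfl
theorem L84417 : sm gf N6755 = N4542 := flp_f L84416
theorem L84420 : sm gd N6757 = N4542 := trf L84415 L45293 rfl
theorem L84421 : sm gd N4542 = N6757 := flp_d L84420
theorem L84422 : sm gg N6757 = N4541 := trf L84415 L45292 rfl
theorem L84423 : N4541 = N6750 := eqe L84422 L41992
theorem L84424 : N6750 = N4541 := (eqc rfl L84423 rfl).symm
theorem L84425 : sm ga N4541 = N4245 := trf L84424 L41956 rfl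
theorem L84426 : N4245 = N7307 := eqe L84425 L45272
theorem L84427 : N7307 = N4245 := (eqc rfl L84426 rfl).symm
theorem L84429 : sm gc N4541 = N7391 := trf L84424 L45750 rfl
theorem L84430 : N7391 = N7310 := eqe L84429 L45285
theorem L84431 : N7391 = N7310 := eqc rfl L84430 rfl
theorem L84433 : sm ge N4541 = N5913 := trf L84424 L41958 rfl
theorem L84434 : N5913 = N7311 := eqe L84433 L45287
theorem L84435 : N7311 = N5913 := (eqc rfl L84434 rfl).symm
theorem L84436 : sm gf N4541 = N4243 := trf L84424 L41955 rfl
theorem L84437 : N4243 = N7247 := eqe L84436 L44934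
theorem L84438 : N7247 = N4243 := (eqc rfl L84437 rfl).symm
theorem L84439 : sm gg N4541 = N6757 := trf L84424 L41993 rfl
theorem L84440 : sm gg N6757 = N4541 := flp_g L84439
theorem L84441 : sm gd N4243 = N4512 := trf L84438 L44932 rfl
theorem L84442 : N4512 = N6749 := eqe L84441 L41950
theorem L84443 : N6749 = N4512 := (eqc rfl L84442 rfl).symm
theorem L84444 : sm gf N4243 = N4541 := trf L84438 L44933 rfl
theorem L84445 : sm gf N4541 = N4243 := flp_f L84444
theorem L84451 : sm gd N4512 = N4243 := trf L84443 L41951 rfl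
theorem L84452 : sm gd N4243 = N4512 := flp_d L84451
theorem L84459 : sm ge N5913 = N4541 := trf L84435 L45288 rfl
theorem L84460 : sm ge N4541 = N5913 := flp_e L84459
theorem L84503 : sm ga N7310 = N4581 := trf L84431 L45747 rfl
theorem L84504 : N4581 = N7348 := eqe L84503 L45492
theorem L84505 : N7348 = N4581 := (eqc rfl L84504 rfl).symm
theorem L84506 : sm gb N7310 = N5974 := trf L84431 L45753 rfl
theorem L84507 : sm gb N5974 = N7310 := flp_b L84506
theorem L84508 : sm ge N7310 = N7053 := trf L84431 L45751 L75640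
theorem L84509 : sm ge N7053 = N7310 := flp_e L84508
theorem L84510 : sm gf N7310 = N4579 := trf L84431 L45746 rfl
theorem L84511 : sm gf N4579 = N7310 := flp_f L84510
theorem L84512 : sm gg N7310 = N7398 := trf L84431 L45800 rfl
theorem L84513 : sm gg N7398 = N7310 := flp_g L84512
theorem L84514 : sm ga N4581 = N7310 := trf L84505 L45491 rfl
theorem L84515 : sm ga N7310 = N4581 := flp_a L84514
theorem L84520 : sm gd N4581 = N4558 := trf L84505 L45490 rfl
theorem L84521 : N4558 = N7395 := eqe L84520 L45776
theorem L84522 : N7395 = N4558 := (eqc rfl L84521 rfl).symm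
theorem L84523 : sm gb N4558 = N7265 := trf L84522 L45777 L73518
theorem L84524 : N7265 = N6337 := eqe L84523 L39973
theorem L84525 : N7265 = N6337 := eqc rfl L84524 rfl
theorem L84526 : sm gd N4558 = N4581 := trf L84522 L45775 rfl
theorem L84527 : sm gd N4581 = N4558 := flp_d L84526
theorem L84528 : sm ge N4558 = N6339 := trf L84522 L75677 rfl
theorem L84529 : N6339 = N7349 := eqe L84528 L45495
theorem L84530 : N7349 = N6339 := (eqc rfl L84529 rfl).symm
theorem L84531 : sm gf N4558 = N4580 := trf L84522 L45774 rfl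
theorem L84532 : N4580 = N7264 := eqe L84531 L45020
theorem L84533 : N7264 = N4580 := (eqc rfl L84532 rfl).symm
theorem L84534 : sm gc N4580 = N4521 := trf L84533 L45018 rfl
theorem L84535 : N4521 = N7393 := eqe L84534 L45763
theorem L84536 : N7393 = N4521 := (eqc rfl L84535 rfl).symm
theorem L84537 : sm gf N4580 = N4558 := trf L84533 L45019 rfl
theorem L84538 : sm gf N4558 = N4580 := flp_f L84537
theorem L84542 : sm gc N4521 = N4580 := trf L84536 L45764 rfl
theorem L84543 : sm gc N4580 = N4521 := flp_c L84542
theorem L84551 : N10530 = N4521 := L75665.trans L84536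
theorem L84553 : sm gc N6339 = N4559 := trf L84530 L45497 rfl
theorem L84555 : sm ge N6339 = N4558 := trf L84530 L45496 rfl
theorem L84559 : sm gf N6337 = N4559 := trf L84525 L45023 rfl
theorem L84560 : sm gf N4559 = N6337 := flp_f L84559
theorem L84567 : N7378 = N6337 := L73518.trans L84525
theorem L84572 : sm ga N4245 = N4541 := trf L84427 L45271 rfl
theorem L84573 : sm ga N4541 = N4245 := flp_a L84572
theorem L84574 : sm gd N4245 = N4539 := trf L84427 L45270 rfl
theorem L84575 : sm gd N4539 = N4245 := flp_d L84574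
theorem L84577 : sm gd N7308 = N6756 := trf L84412 L73962 rfl
theorem L84578 : sm gd N6756 = N7308 := flp_d L84577
theorem L84580 : sm gg N7308 = N6595 := trf L84412 L65527 rfl
theorem L84581 : N6595 = N4539 := eqe L84580 L45274
theorem L84582 : N6595 = N4539 := eqc rfl L84581 rfl
theorem L84584 : sm gb N4539 = N4439 := trf L84582 L65520 L73972
theorem L84585 : N4439 = N7306 := eqe L84584 L45267
theorem L84586 : N7306 = N4439 := (eqc rfl L84585 rfl).symm
theorem L84592 : sm gb N4439 = N4539 := trf L84586 L45268 rfl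
theorem L84593 : sm gb N4539 = N4439 := flp_b L84592
theorem L84599 : sm gd N7248 = N6751 := trf L84403 L66933 rfl
theorem L84601 : sm ge N7248 = N11748 := trf L84403 L73955 rfl
theorem L84605 : sm gc N7237 = N6753 := trf L84392 L66945 rfl
theorem L84607 : sm ga N4216 = N10201 := trf L84387 L61077 rfl
theorem L84608 : N10201 = N6690 := eqe L84607 L41733
theorem L84609 : N10201 = N6690 := eqc rfl L84608 rfl
theorem L84610 : sm gc N4216 = N3930 := trf L84387 L38535 rfl
theorem L84611 : N3930 = N5892 := eqe L84610 L43925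
theorem L84612 : N5892 = N3930 := (eqc rfl L84611 rfl).symm
theorem L84621 : sm gg N4216 = N10209 := trf L84387 L61120 rfl
theorem L84622 : N10209 = N6695 := eqe L84621 L41758
theorem L84623 : N10209 = N6695 := eqc rfl L84622 rfl
theorem L84624 : sm gc N6695 = N6135 := trf L84623 L61122 rfl
theorem L84625 : N6135 = N9834 := eqe L84624 L58905
theorem L84626 : N9834 = N6135 := (eqc rfl L84625 rfl).symm
theorem L84627 : sm ga N6135 = N10368 := trf L84626 L62011 rfl
theorem L84628 : N10368 = N10203 := eqe L84627 L61089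
theorem L84629 : N10368 = N10203 := eqc rfl L84628 rfl
theorem L84636 : sm gf N6135 = N6332 := trf L84626 L58909 rfl
theorem L84637 : N6332 = N10211 := eqe L84636 L61130
theorem L84638 : N10211 = N6332 := (eqc rfl L84637 rfl).symm
theorem L84640 : sm ga N6332 = N10161 := trf L84638 L61132 rfl
theorem L84641 : N10161 = N6694 := eqe L84640 L41755
theorem L84642 : N10161 = N6694 := eqc rfl L84641 rfl
theorem L84648 : sm gg N6332 = N10158 := trf L84638 L61136 rfl
theorem L84649 : N10158 = N4030 := eqe L84648 L39945
theorem L84650 : N10158 = N4030 := eqc rfl L84649 rfl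
theorem L84651 : sm ga N4030 = N6110 := trf L84650 L60814 rfl
theorem L84652 : N6110 = N4215 := eqe L84651 L38765
theorem L84653 : N6110 = N4215 := eqc rfl L84652 rfl
theorem L84656 : sm gf N4030 = N6130 := trf L84650 L60816 rfl
theorem L84657 : N6130 = N6331 := eqe L84656 L39940
theorem L84658 : N6331 = N6130 := (eqc rfl L84657 rfl).symm
theorem L84668 : sm ge N6130 = N4417 := trf L84658 L39942 rfl
theorem L84669 : N4417 = N10202 := eqe L84668 L61080
theorem L84670 : N10202 = N4417 := (eqc rfl L84669 rfl).symm
theorem L84671 : sm gf N6130 = N4030 := trf L84658 L39941 rfl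
theorem L84677 : sm ge N4417 = N6130 := trf L84670 L61081 rfl
theorem L84678 : sm ge N6130 = N4417 := flp_e L84677
theorem L84726 : sm gd N4215 = N3920 := trf L84653 L38411 rfl
theorem L84727 : sm gd N3920 = N4215 := flp_d L84726
theorem L84747 : sm gd N6694 = N6111 := trf L84642 L60832 rfl
theorem L84748 : sm gd N6111 = N6694 := flp_d L84747
theorem L84755 : sm ge N10203 = N7072 := trf L84629 L62006 rfl
theorem L84757 : sm gf N10203 = N6694 := trf L84629 L62008 rfl
theorem L84758 : sm gf N6694 = N10203 := flp_f L84757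
theorem L84764 : sm gc N3930 = N4216 := trf L84612 L43924 rfl
theorem L84765 : sm gc N4216 = N3930 := flp_c L84764
theorem L84767 : sm gf N3930 = N4215 := trf L84612 L43928 rfl
theorem L84768 : sm gf N4215 = N3930 := flp_f L84767
theorem L84769 : sm gc N6690 = N6130 := trf L84609 L61075 rfl
theorem L84798 : sm gb N4317 = N6120 := trf L84354 L60939 rfl
theorem L84799 : sm gb N6120 = N4317 := flp_b L84798
theorem L84883 : sm gd N6886 = N6272 := trf L84321 L62158 rfl
theorem L84884 : sm gd N6272 = N6886 := flp_d L84883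
theorem L84949 : sm gf N4013 = N3999 := trf L84312 L39579 rfl
theorem L84977 : sm gb N6109 = N4012 := trf L84267 L39727 rfl
theorem L84978 : sm gb N4012 = N6109 := flp_b L84977
theorem L84979 : sm gd N6109 = N4030 := trf L84267 L39728 rfl
theorem L84980 : sm gd N4030 = N6109 := flp_d L84979
theorem L84989 : sm gb N4032 = N7134 := trf L84256 L68273 rfl
theorem L84990 : N7134 = N6336 := eqe L84989 L39966
theorem L84991 : N7134 = N6336 := eqc rfl L84990 rfl
theorem L84995 : sm gc N6336 = N11803 := trf L84991 L70264 rfl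
theorem L84996 : N11803 = N10528 := eqe L84995 L62992
theorem L84997 : N11803 = N10528 := eqc rfl L84996 rfl
theorem L85009 : sm ga N10528 = N10331 := trf L84997 L70266 rfl
theorem L85010 : N10331 = N11546 := eqe L85009 L68841
theorem L85011 : N11546 = N10331 := (eqc rfl L85010 rfl).symm
theorem L85012 : sm gd N10528 = N3985 := trf L84997 L70268 L73651
theorem L85013 : sm gd N3985 = N10528 := flp_d L85012
theorem L85014 : N10528 = N6241 := eqe L85013 L39076
theorem L85015 : N10528 = N6241 := eqc rfl L85014 rfl
theorem L85016 : sm ga N6241 = N10331 := trf L85015 L68841 L85011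
theorem L85017 : N10331 = N10361 := eqe L85016 L61961
theorem L85018 : N10361 = N10331 := (eqc rfl L85017 rfl).symm
theorem L85022 : sm ge N6241 = N7050 := trf L85015 L62994 rfl
theorem L85023 : N7050 = N10364 := eqe L85022 L61978
theorem L85024 : N10364 = N7050 := (eqc rfl L85023 rfl).symm
theorem L85025 : sm gb N7050 = N6357 := trf L85024 L61980 rfl
theorem L85026 : N6357 = N11657 := eqe L85025 L69417
theorem L85027 : N11657 = N6357 := (eqc rfl L85026 rfl).symm
theorem L85028 : sm gd N7050 = N9954 := trf L85024 L61982 rfl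
theorem L85029 : N9954 = N11658 := eqe L85028 L69421
theorem L85030 : N11658 = N9954 := (eqc rfl L85029 rfl).symm
theorem L85035 : sm gd N9954 = N7050 := trf L85030 L69422 rfl
theorem L85036 : sm gd N7050 = N9954 := flp_d L85035
theorem L85039 : sm gb N6357 = N7050 := trf L85027 L69418 rfl
theorem L85040 : sm gb N7050 = N6357 := flp_b L85039
theorem L85041 : sm gc N6357 = N7052 := trf L85027 L69419 rfl
theorem L85042 : N7052 = N10562 := eqe L85041 L63233
theorem L85043 : N10562 = N7052 := (eqc rfl L85042 rfl).symm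
theorem L85044 : sm gc N7052 = N6357 := trf L85043 L63232 rfl
theorem L85045 : sm gc N6357 = N7052 := flp_c L85044
theorem L85046 : sm ge N7052 = N6356 := trf L85043 L63231 rfl
theorem L85047 : N6356 = N10527 := eqe L85046 L62991
theorem L85048 : N10527 = N6356 := (eqc rfl L85047 rfl).symm
theorem L85049 : sm gb N6356 = N6335 := trf L85048 L62989 rfl
theorem L85050 : N6335 = N10561 := eqe L85049 L63228
theorem L85051 : N10561 = N6335 := (eqc rfl L85050 rfl).symm
theorem L85052 : sm ge N6356 = N7052 := trf L85048 L62990 rfl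
theorem L85053 : sm ge N7052 = N6356 := flp_e L85052
theorem L85054 : sm gb N6335 = N6356 := trf L85051 L63229 rfl
theorem L85063 : sm gd N10331 = N6239 := trf L85018 L61959 rfl
theorem L85064 : N6239 = N6215 := eqe L85063 L61779
theorem L85065 : N6239 = N6215 := eqc rfl L85064 rfl
theorem L85072 : sm ge N6215 = N5975 := trf L85065 L39062 rfl
theorem L85073 : N5975 = N10327 := eqe L85072 L61759
theorem L85074 : N10327 = N5975 := (eqc rfl L85073 rfl).symm
theorem L85090 : sm ge N5975 = N6215 := trf L85074 L61758 rfl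
theorem L85091 : sm ge N6215 = N5975 := flp_e L85090
theorem L85125 : sm gb N4450 = N6290 := trf L84250 L62493 rfl
theorem L85126 : sm gb N6290 = N4450 := flp_b L85125
theorem L85127 : sm gd N4450 = N6336 := trf L84250 L62494 rfl
theorem L85128 : sm gd N6336 = N4450 := flp_d L85127
theorem L85132 : sm gc N4009 = N3999 := trf L84247 L39573 rfl
theorem L85133 : sm gc N3999 = N4009 := flp_c L85132
theorem L85148 : sm gb N5263 = N6300 := trf L84238 L62641 rfl
theorem L85149 : sm gb N6300 = N5263 := flp_b L85148
theorem L85158 : sm gc N6292 = N6272 := trf L84235 L62292 rfl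
theorem L85159 : sm gc N6272 = N6292 := flp_c L85158
theorem L85161 : sm gc N7047 = N6124 := trf L84229 L60976 rfl
theorem L85163 : sm gf N7047 = N6123 := trf L84229 L60973 rfl
theorem L85178 : sm gc N5429 = N6103 := trf L84214 L60751 rfl
theorem L85180 : sm gf N5429 = N6120 := trf L84214 L60754 rfl
theorem L85181 : sm gf N6120 = N5429 := flp_f L85180
theorem L85183 : sm gc N3916 = N3581 := trf L84209 L35214 rfl
theorem L85204 : sm gb N9881 = N6095 := trf L83953 L60669 rfl
theorem L85205 : sm gb N6095 = N9881 := flp_b L85204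
theorem L85206 : sm gc N9881 = N6893 := trf L83953 L60677 rfl
theorem L85207 : sm gc N6893 = N9881 := flp_c L85206
theorem L85208 : sm ge N9881 = N6144 := trf L83953 L60670 rfl
theorem L85225 : sm gb N8022 = N10349 := trf L83940 L61893 rfl
theorem L85226 : sm gb N10349 = N8022 := flp_b L85225
theorem L85227 : sm gc N8022 = N6985 := trf L83940 L61816 rfl
theorem L85228 : sm gc N6985 = N8022 := flp_c L85227
theorem L85233 : sm gd N6220 = N5877 := trf L83932 L58740 rfl
theorem L85234 : sm gd N5877 = N6220 := flp_d L85233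
theorem L85235 : sm gg N6220 = N8022 := trf L83932 L58743 rfl
theorem L85236 : sm gg N8022 = N6220 := flp_g L85235
theorem L85264 : sm gd N5932 = N4315 := trf L83900 L42830 rfl
theorem L85283 : sm ge N6192 = N10357 := trf L83699 L67221 rfl
theorem L85284 : N10357 = N10204 := eqe L85283 L61097
theorem L85285 : N10357 = N10204 := eqc rfl L85284 rfl
theorem L85288 : sm gg N6192 = N11255 := trf L83699 L67224 rfl
theorem L85289 : N11255 = N10288 := eqe L85288 L61559
theorem L85290 : N11255 = N10288 := eqc rfl L85289 rfl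
theorem L85295 : sm ge N10288 = N7235 := trf L85290 L67129 rfl
theorem L85297 : sm gf N10288 = N6772 := trf L85290 L67126 rfl
theorem L85298 : sm gf N6772 = N10288 := flp_f L85297
theorem L85303 : sm gf N10204 = N6235 := trf L85285 L61935 rfl
theorem L85305 : sm gg N10204 = N7235 := trf L85285 L61941 rfl
theorem L85306 : sm gg N7235 = N10204 := flp_g L85305
theorem L85317 : sm ga N6622 = N4750 := trf L83610 L47655 rfl
theorem L85318 : N4750 = N4185 := eqe L85317 L41404
theorem L85319 : N4750 = N4185 := eqc rfl L85318 rfl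
theorem L85330 : sm gf N4185 = N7738 := trf L85319 L47660 rfl
theorem L85331 : N7738 = N6625 := eqe L85330 L41418
theorem L85332 : N7738 = N6625 := eqc rfl L85331 rfl
theorem L85338 : sm gb N6625 = N7535 := trf L85332 L47664 rfl
theorem L85339 : N7535 = N11008 := eqe L85338 L65750
theorem L85340 : N11008 = N7535 := (eqc rfl L85339 rfl).symm
theorem L85346 : sm gb N7535 = N6625 := trf L85340 L65751 rfl
theorem L85351 : sm gg N7535 = N11197 := trf L85340 L66742 rfl
theorem L85352 : N11197 = N7538 := eqe L85351 L46571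
theorem L85353 : N11197 = N7538 := eqc rfl L85352 rfl
theorem L85356 : sm gf N7538 = N6724 := trf L85353 L66740 rfl
theorem L85357 : N6724 = N4651 := eqe L85356 L46566
theorem L85358 : N6724 = N4651 := eqc rfl L85357 rfl
theorem L85360 : sm gb N4651 = N4231 := trf L85358 L41861 rfl
theorem L85361 : N4231 = N7536 := eqe L85360 L46557
theorem L85362 : N7536 = N4231 := (eqc rfl L85361 rfl).symm
theorem L85366 : sm gd N4651 = N11105 := trf L85358 L66239 rfl
theorem L85367 : N11105 = N3213 := eqe L85366 L31446
theorem L85368 : N11105 = N3213 := eqc rfl L85367 rfl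
theorem L85372 : sm gg N4651 = N6457 := trf L85358 L41862 rfl
theorem L85373 : N6457 = N7533 := eqe L85372 L46548
theorem L85374 : N7533 = N6457 := (eqc rfl L85373 rfl).symm
theorem L85382 : sm gg N6457 = N4651 := trf L85374 L46547 rfl
theorem L85383 : sm gg N4651 = N6457 := flp_g L85382
theorem L85393 : sm gb N3213 = N6668 := trf L85368 L66237 rfl
theorem L85394 : N6668 = N4669 := eqe L85393 L31526
theorem L85395 : N6668 = N4669 := eqc rfl L85394 rfl
theorem L85399 : sm gc N4669 = N11024 := trf L85395 L79439 rfl
theorem L85400 : N11024 = N5140 := eqe L85399 L35305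
theorem L85401 : N11024 = N5140 := eqc rfl L85400 rfl
theorem L85407 : sm gf N4669 = N6659 := trf L85395 L41635 rfl
theorem L85408 : N6659 = N5440 := eqe L85407 L35306
theorem L85409 : N6659 = N5440 := eqc rfl L85408 rfl
theorem L85410 : sm gg N4669 = N4203 := trf L85395 L41629 rfl
theorem L85411 : N4203 = N5139 := eqe L85410 L35300
theorem L85412 : N5139 = N4203 := (eqc rfl L85411 rfl).symm
theorem L85413 : sm ga N4203 = N7366 := trf L85412 L45599 rfl
theorem L85414 : N7366 = N6665 := eqe L85413 L41615
theorem L85415 : N7366 = N6665 := eqc rfl L85414 rfl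
theorem L85425 : sm gf N4203 = N7369 := trf L85412 L45624 rfl
theorem L85426 : N7369 = N2972 := eqe L85425 L29161
theorem L85427 : N7369 = N2972 := eqc rfl L85426 rfl
theorem L85430 : sm ga N2972 = N4568 := trf L85427 L45618 rfl
theorem L85431 : N4568 = N4201 := eqe L85430 L29152
theorem L85432 : N4568 = N4201 := eqc rfl L85431 rfl
theorem L85433 : sm gc N2972 = N5135 := trf L85427 L45619 rfl
theorem L85434 : N5135 = N4202 := eqe L85433 L29156
theorem L85435 : N5135 = N4202 := eqc rfl L85434 rfl
theorem L85436 : sm ge N2972 = N5138 := trf L85427 L45621 rfl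
theorem L85437 : N5138 = N4189 := eqe L85436 L29099
theorem L85438 : N5138 = N4189 := eqc rfl L85437 rfl
theorem L85440 : sm ga N4189 = N3446 := trf L85438 L33893 rfl
theorem L85441 : N3446 = N4202 := eqe L85440 L79492
theorem L85442 : N4202 = N3446 := (eqc rfl L85441 rfl).symm
theorem L85446 : sm gc N4189 = N6665 := trf L85438 L45601 L85415
theorem L85447 : N6665 = N4201 := eqe L85446 L79508
theorem L85448 : N6665 = N4201 := eqc rfl L85447 rfl
theorem L85449 : sm gd N4189 = N8368 := trf L85438 L51676 rfl
theorem L85450 : N8368 = N6504 := eqe L85449 L40848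
theorem L85451 : N8368 = N6504 := eqc rfl L85450 rfl
theorem L85454 : sm gg N4189 = N8391 := trf L85438 L51790 rfl
theorem L85455 : N8391 = N6631 := eqe L85454 L41455
theorem L85456 : N8391 = N6631 := eqc rfl L85455 rfl
theorem L85465 : sm gf N6631 = N5439 := trf L85456 L51785 rfl
theorem L85466 : N5439 = N11024 := eqe L85465 L65838
theorem L85467 : N5439 = N5140 := eqc rfl L85466 L85401
theorem L85468 : sm ga N5140 = N3586 := trf L85467 L35283 rfl
theorem L85473 : sm gc N5140 = N4199 := trf L85467 L54791 L74944
theorem L85474 : N4199 = N4669 := eqe L85473 L35304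
theorem L85475 : N4669 = N4199 := (eqc rfl L85474 rfl).symm
theorem L85476 : sm gd N5140 = N8919 := trf L85467 L54430 rfl
theorem L85477 : N8919 = N8370 := eqe L85476 L51682
theorem L85478 : N8919 = N8370 := eqc rfl L85477 rfl
theorem L85481 : N5135 = N3446 := L85435.trans L85442
theorem L85483 : sm ga N8370 = N5396 := trf L85478 L54428 rfl
theorem L85484 : sm ga N5396 = N8370 := flp_a L85483
theorem L85488 : sm gg N8370 = N8358 := trf L85478 L54432 rfl
theorem L85489 : N8358 = N5088 := eqe L85488 L51680
theorem L85490 : N8358 = N5088 := eqc rfl L85489 rfl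
theorem L85491 : sm ga N5088 = N8921 := trf L85490 L54438 rfl
theorem L85492 : N8921 = N8368 := eqe L85491 L51673
theorem L85493 : N8921 = N6504 := eqc rfl L85492 L85451
theorem L85494 : sm gb N5088 = N5083 := trf L85490 L51626 rfl
theorem L85495 : N5083 = N3424 := eqe L85494 L33691
theorem L85496 : N5083 = N3424 := eqc rfl L85495 rfl
theorem L85511 : sm gf N3424 = N3422 := trf L85496 L33667 rfl
theorem L85512 : N3422 = N2554 := eqe L85511 L25382
theorem L85513 : N3422 = N2554 := eqc rfl L85512 rfl
theorem L85514 : sm gg N3424 = N8183 := trf L85496 L51631 L82230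
theorem L85515 : N8183 = N3395 := eqe L85514 L25388
theorem L85516 : N8183 = N3395 := eqc rfl L85515 rfl
theorem L85517 : sm ga N3395 = N4994 := trf L85516 L50786 rfl
theorem L85518 : N4994 = N3427 := eqe L85517 L25400
theorem L85519 : N4994 = N3427 := eqc rfl L85518 rfl
theorem L85532 : sm gf N3427 = N5084 := trf L85519 L82250 rfl
theorem L85533 : N5084 = N3393 := eqe L85532 L25404
theorem L85534 : N5084 = N3393 := eqc rfl L85533 rfl
theorem L85548 : sm ge N3393 = N8309 := trf L85534 L51404 rfl
theorem L85549 : N8309 = N5003 := eqe L85548 L33319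
theorem L85550 : N8309 = N5003 := eqc rfl L85549 rfl
theorem L85552 : sm gg N5003 = N5061 := trf L85550 L51402 rfl
theorem L85553 : N5061 = N3413 := eqe L85552 L33320
theorem L85554 : N5061 = N3413 := eqc rfl L85553 rfl
theorem L85558 : sm gb N3413 = N3413 := trf L85554 L33563 rfl
theorem L85562 : sm gd N3413 = N7296 := trf L85554 L45212 rfl
theorem L85563 : N7296 = N4535 := eqe L85562 L30809
theorem L85564 : N7296 = N4535 := eqc rfl L85563 rfl
theorem L85568 : sm ge N4535 = N4544 := trf L85564 L45213 rfl
theorem L85569 : N4544 = N3147 := eqe L85568 L30810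
theorem L85570 : N4544 = N3147 := eqc rfl L85569 rfl
theorem L85574 : sm gb N3147 = N3147 := trf L85570 L30857 rfl
theorem L85578 : sm gd N3147 = N3156 := trf L85570 L30858 rfl
theorem L85579 : N3156 = N2421 := eqe L85578 L23731
theorem L85580 : N3156 = N2421 := eqc rfl L85579 rfl
theorem L85584 : sm gg N3147 = N7319 := trf L85570 L45323 rfl
theorem L85585 : N7319 = N4515 := eqe L85584 L30709
theorem L85586 : N7319 = N4515 := eqc rfl L85585 rfl
theorem L85587 : sm gd N4515 = N4567 := trf L85586 L45325 rfl
theorem L85588 : N4567 = N3139 := eqe L85587 L30706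
theorem L85589 : N4567 = N3139 := eqc rfl L85588 rfl
theorem L85600 : sm gf N3139 = N7368 := trf L85589 L45609 rfl
theorem L85601 : N7368 = N3158 := eqe L85600 L23795
theorem L85602 : N7368 = N3158 := eqc rfl L85601 rfl
theorem L85614 : sm gg N3158 = N7361 := trf L85602 L45615 rfl
theorem L85615 : N7361 = N2422 := eqe L85614 L23790
theorem L85616 : N7361 = N2422 := eqc rfl L85615 rfl
theorem L85626 : sm gf N2422 = N4564 := trf L85616 L45560 rfl
theorem L85627 : N4564 = N1998 := eqe L85626 L20119
theorem L85628 : N4564 = N1998 := eqc rfl L85627 rfl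
theorem L85637 : sm ge N1998 = N3442 := trf L85628 L30962 rfl
theorem L85638 : N3442 = N1144 := eqe L85637 L10170
theorem L85639 : N3442 = N1144 := eqc rfl L85638 rfl
theorem L85641 : sm ga N1144 = N2563 := trf L85639 L25456 rfl
theorem L85642 : N2563 = N2123 := eqe L85641 L18635
theorem L85643 : N2563 = N2123 := eqc rfl L85642 rfl
theorem L85654 : sm gg N1144 = N5131 := trf L85639 L33864 rfl
theorem L85655 : N5131 = N2114 := eqe L85654 L18596
theorem L85656 : N5131 = N2114 := eqc rfl L85655 rfl
theorem L85666 : sm gf N2114 = N5136 := trf L85656 L33884 rfl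
theorem L85667 : N5136 = N2547 := eqe L85666 L20800
theorem L85668 : N5136 = N2547 := eqc rfl L85667 rfl
theorem L85670 : sm gb N2547 = N8409 := trf L85668 L51886 rfl
theorem L85671 : N8409 = N3406 := eqe L85670 L25301
theorem L85672 : N8409 = N3406 := eqc rfl L85671 rfl
theorem L85673 : sm gc N2547 = N3267 := trf L85668 L52046 L75059
theorem L85674 : N3267 = N2963 := eqe L85673 L22798
theorem L85675 : N3267 = N2963 := eqc rfl L85674 rfl
theorem L85683 : sm gb N2963 = N3146 := trf L85675 L24499 rfl
theorem L85684 : N3146 = N4182 := eqe L85683 L29070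
theorem L85685 : N4182 = N3146 := (eqc rfl L85684 rfl).symm
theorem L85689 : sm gd N2963 = N2487 := trf L85675 L24497 rfl
theorem L85690 : N2487 = N4171 := eqe L85689 L29031
theorem L85691 : N4171 = N2487 := (eqc rfl L85690 rfl).symm
theorem L85692 : sm ge N2963 = N4742 := trf L85675 L31956 rfl
theorem L85693 : N4742 = N4121 := eqe L85692 L28757
theorem L85694 : N4742 = N4121 := eqc rfl L85693 rfl
theorem L85698 : sm gg N2963 = N2473 := trf L85675 L24496 rfl
theorem L85699 : N2473 = N2987 := eqe L85698 L22899
theorem L85700 : N2987 = N2473 := (eqc rfl L85699 rfl).symm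
theorem L85713 : sm ge N2473 = N4145 := trf L85700 L28895 rfl
theorem L85714 : N4145 = N3247 := eqe L85713 L24404
theorem L85715 : N4145 = N3247 := eqc rfl L85714 rfl
theorem L85716 : sm gf N2473 = N2336 := trf L85700 L22894 rfl
theorem L85717 : N2336 = N3263 := eqe L85716 L24480
theorem L85718 : N3263 = N2336 := (eqc rfl L85717 rfl).symm
theorem L85719 : sm gg N2473 = N2963 := trf L85700 L22900 rfl
theorem L85724 : sm gb N2336 = N2472 := trf L85718 L24476 rfl
theorem L85725 : N2472 = N2986 := eqe L85724 L22891
theorem L85726 : N2986 = N2472 := (eqc rfl L85725 rfl).symm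
theorem L85736 : sm gf N2336 = N2473 := trf L85718 L24479 rfl
theorem L85738 : sm gg N2336 = N4780 := trf L85718 L32123 rfl
theorem L85739 : N4780 = N2962 := eqe L85738 L22794
theorem L85740 : N4780 = N2962 := eqc rfl L85739 rfl
theorem L85745 : sm gc N2962 = N7801 := trf L85740 L47939 rfl
theorem L85746 : N7801 = N2546 := eqe L85745 L22791
theorem L85747 : N7801 = N2546 := eqc rfl L85746 rfl
theorem L85751 : sm ge N2962 = N7711 := trf L85740 L47529 rfl
theorem L85752 : N7711 = N4120 := eqe L85751 L28749
theorem L85753 : N7711 = N4120 := eqc rfl L85752 rfl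
theorem L85761 : sm gf N4120 = N7715 := trf L85753 L47557 rfl
theorem L85762 : N7715 = N4147 := eqe L85761 L28912
theorem L85763 : N7715 = N4147 := eqc rfl L85762 rfl
theorem L85770 : sm gg N4147 = N4740 := trf L85763 L47549 rfl
theorem L85771 : N4740 = N2945 := eqe L85770 L28905
theorem L85772 : N4740 = N2945 := eqc rfl L85771 rfl
theorem L85781 : sm gd N2945 = N3622 := trf L85772 L31943 rfl
theorem L85782 : N3622 = N4133 := eqe L85781 L28819
theorem L85783 : N4133 = N3622 := (eqc rfl L85782 rfl).symm
theorem L85785 : sm gf N2945 = N7709 := trf L85772 L47517 rfl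
theorem L85786 : N7709 = N2313 := eqe L85785 L22714
theorem L85787 : N7709 = N2313 := eqc rfl L85786 rfl
theorem L85789 : sm gd N2313 = N5511 := trf L85787 L47512 rfl
theorem L85790 : N5511 = N2938 := eqe L85789 L22677
theorem L85791 : N5511 = N2938 := eqc rfl L85790 rfl
theorem L85803 : sm ge N2938 = N3658 := trf L85791 L35636 rfl
theorem L85804 : N3658 = N4125 := eqe L85803 L28782
theorem L85805 : N4125 = N3658 := (eqc rfl L85804 rfl).symm
theorem L85808 : sm gg N2938 = N5520 := trf L85791 L35689 rfl
theorem L85809 : N5520 = N4114 := eqe L85808 L28713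
theorem L85810 : N5520 = N4114 := eqc rfl L85809 rfl
theorem L85823 : sm gf N4114 = N3624 := trf L85810 L35683 rfl
theorem L85824 : N3624 = N6486 := eqe L85823 L40748
theorem L85825 : N6486 = N3624 := (eqc rfl L85824 rfl).symm
theorem L85838 : sm gf N3624 = N4114 := trf L85825 L40749 rfl
theorem L85839 : sm gf N4114 = N3624 := flp_f L85838
theorem L85840 : sm gg N3624 = N6521 := trf L85825 L40938 rfl
theorem L85841 : N6521 = N2652 := eqe L85840 L26274
theorem L85842 : N6521 = N2652 := eqc rfl L85841 rfl
theorem L85851 : sm ge N2652 = N10814 := trf L85842 L64705 rfl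
theorem L85852 : N10814 = N2176 := eqe L85851 L21264
theorem L85853 : N10814 = N2176 := eqc rfl L85852 rfl
theorem L85861 : sm gf N2176 = N3653 := trf L85853 L64699 L83541
theorem L85862 : N3653 = N2668 := eqe L85861 L21341
theorem L85863 : N3653 = N2668 := eqc rfl L85862 rfl
theorem L85868 : sm gb N2668 = N2665 := trf L85863 L26402 rfl
theorem L85869 : N2665 = N2175 := eqe L85868 L21337
theorem L85870 : N2665 = N2175 := eqc rfl L85869 rfl
theorem L85883 : sm gg N2668 = N5586 := trf L85863 L35966 rfl
theorem L85884 : N5586 = N3660 := eqe L85883 L26431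
theorem L85885 : N5586 = N3660 := eqc rfl L85884 rfl
theorem L85901 : sm gf N3660 = N8223 := trf L85885 L50967 rfl
theorem L85902 : N8223 = N3664 := eqe L85901 L26454
theorem L85903 : N8223 = N3664 := eqc rfl L85902 rfl
theorem L85910 : sm gd N3664 = N5036 := trf L85903 L50965 rfl
theorem L85911 : N5036 = N2702 := eqe L85910 L26451
theorem L85912 : N5036 = N2702 := eqc rfl L85911 rfl
theorem L85928 : sm gg N2702 = N4192 := trf L85912 L83511 rfl
theorem L85929 : N4192 = N2190 := eqe L85928 L21467
theorem L85930 : N4192 = N2190 := eqc rfl L85929 rfl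
theorem L85940 : sm ge N2190 = N2975 := trf L85930 L29110 rfl
theorem L85941 : N2975 = N2485 := eqe L85940 L20454
theorem L85942 : N2975 = N2485 := eqc rfl L85941 rfl
theorem L85943 : sm gf N2190 = N2967 := trf L85930 L29109 rfl
theorem L85944 : N2967 = N2696 := eqe L85943 L21450
theorem L85945 : N2967 = N2696 := eqc rfl L85944 rfl
theorem L85953 : sm ge N2696 = N2330 := trf L85945 L22815 rfl
theorem L85954 : N2330 = N3288 := eqe L85953 L24601
theorem L85955 : N3288 = N2330 := (eqc rfl L85954 rfl).symm
theorem L85956 : sm gg N2696 = N4163 := trf L85945 L28989 rfl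
theorem L85957 : N4163 = N2705 := eqe L85956 L21485
theorem L85958 : N4163 = N2705 := eqc rfl L85957 rfl
theorem L85966 : sm ge N2705 = N2956 := trf L85958 L28986 rfl
theorem L85967 : N2956 = N3297 := eqe L85966 L24652
theorem L85968 : N3297 = N2956 := (eqc rfl L85967 rfl).symm
theorem L85976 : sm gc N2956 = N4854 := trf L85968 L32520 rfl
theorem L85977 : N4854 = N4170 := eqe L85976 L29024
theorem L85978 : N4854 = N4170 := eqc rfl L85977 rfl
theorem L85999 : sm gg N4170 = N4835 := trf L85978 L32523 rfl
theorem L86000 : N4835 = N2974 := eqe L85999 L29026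
theorem L86001 : N4835 = N2974 := eqc rfl L86000 rfl
theorem L86002 : sm ga N2974 = N3289 := trf L86001 L32417 rfl
theorem L86003 : N3289 = N4205 := eqe L86002 L29173
theorem L86004 : N4205 = N3289 := (eqc rfl L86003 rfl).symm
theorem L86014 : sm gf N2974 = N3293 := trf L86001 L32421 rfl
theorem L86015 : N3293 = N4208 := eqe L86014 L29184
theorem L86016 : N4208 = N3293 := (eqc rfl L86015 rfl).symm
theorem L86030 : sm gg N3293 = N6679 := trf L86016 L41672 rfl
theorem L86031 : N6679 = N4848 := eqe L86030 L32481
theorem L86032 : N6679 = N4848 := eqc rfl L86031 rfl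
theorem L86038 : sm gd N4848 = N11125 := trf L86032 L66332 rfl
theorem L86039 : N11125 = N3734 := eqe L86038 L78508
theorem L86040 : N11125 = N3734 := eqc rfl L86039 rfl
theorem L86050 : sm gf N3734 = N8235 := trf L86040 L66334 rfl
theorem L86051 : N8235 = N3723 := eqe L86050 L26719
theorem L86052 : N8235 = N3723 := eqc rfl L86051 rfl
theorem L86059 : sm gg N3723 = N5089 := trf L86052 L51027 rfl
theorem L86060 : N5089 = N2697 := eqe L86059 L26681
theorem L86061 : N5089 = N2697 := eqc rfl L86060 rfl
theorem L86073 : sm gf N2697 = N8373 := trf L86061 L51699 rfl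
theorem L86074 : N8373 = N2191 := eqe L86073 L21453
theorem L86075 : N8373 = N2191 := eqc rfl L86074 rfl
theorem L86077 : sm gc N2191 = N5091 := trf L86075 L51703 rfl
theorem L86078 : N5091 = N1202 := eqe L86077 L18932
theorem L86079 : N5091 = N1202 := eqc rfl L86078 rfl
theorem L86088 : sm gd N1202 = N3426 := trf L86079 L33706 rfl
theorem L86089 : N3426 = N2176 := eqe L86088 L18868
theorem L86090 : N3426 = N2176 := eqc rfl L86089 rfl
theorem L86095 : sm gg N1202 = N8376 := trf L86079 L51717 rfl
theorem L86096 : N8376 = N2192 := eqe L86095 L18935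
theorem L86097 : N8376 = N2192 := eqc rfl L86096 rfl
theorem L86103 : sm gf N2192 = N8234 := trf L86097 L51724 rfl
theorem L86104 : N8234 = N2705 := eqe L86103 L21480
theorem L86105 : N8234 = N2705 := eqc rfl L86104 rfl
theorem L86111 : sm gg N2705 = N5086 := trf L86105 L51019 rfl
theorem L86112 : N5086 = N2696 := eqe L86111 L21484
theorem L86113 : N5086 = N2696 := eqc rfl L86112 rfl
theorem L86119 : sm gd N2696 = N3423 := trf L86113 L33677 rfl
theorem L86120 : N3423 = N3658 := eqe L86119 L26424
theorem L86121 : N3658 = N3423 := (eqc rfl L86120 rfl).symm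
theorem L86122 : sm ge N2696 = N8365 := trf L86113 L51655 rfl
theorem L86123 : N8365 = N3288 := eqe L86122 L24601
theorem L86124 : N8365 = N2330 := eqc rfl L86123 L85955
theorem L86129 : sm gc N2330 = N6676 := trf L86124 L51659 rfl
theorem L86130 : N6676 = N2974 := eqe L86129 L22845
theorem L86131 : N6676 = N2974 := eqc rfl L86130 rfl
theorem L86134 : sm gb N2974 = N7325 := trf L86131 L45356 rfl
theorem L86135 : N7325 = N3148 := eqe L86134 L23736
theorem L86136 : N7325 = N3148 := eqc rfl L86135 rfl
theorem L86153 : sm ge N3148 = N4547 := trf L86136 L45354 rfl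
theorem L86154 : N4547 = N4536 := eqe L86153 L30815
theorem L86155 : N4547 = N4536 := eqc rfl L86154 rfl
theorem L86164 : sm gd N4536 = N3148 := trf L86155 L30873 rfl
theorem L86165 : N3148 = N7299 := eqe L86164 L45231
theorem L86166 : N7299 = N3148 := (eqc rfl L86165 rfl).symm
theorem L86170 : sm gg N4536 = N7255 := trf L86155 L44970 rfl
theorem L86171 : N7255 = N7242 := eqe L86170 L44908
theorem L86172 : N7255 = N7242 := eqc rfl L86171 rfl
theorem L86173 : sm gd N7242 = N4516 := trf L86172 L44968 rfl
theorem L86174 : sm gd N4516 = N7242 := flp_d L86173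
theorem L86177 : sm gb N3148 = N6639 := trf L86166 L45233 rfl
theorem L86178 : N6639 = N2974 := eqe L86177 L23735
theorem L86179 : N6639 = N2974 := eqc rfl L86178 rfl
theorem L86182 : sm ga N2974 = N11037 := trf L86179 L65915 rfl
theorem L86183 : N11037 = N4205 := eqe L86182 L29173
theorem L86184 : N11037 = N3289 := eqc rfl L86183 L86004
theorem L86211 : sm gd N3289 = N3718 := trf L86184 L65913 L83538
theorem L86212 : N3718 = N2697 := eqe L86211 L78492
theorem L86213 : N3718 = N2697 := eqc rfl L86212 rfl
theorem L86227 : sm gg N2697 = N5726 := trf L86213 L36638 rfl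
theorem L86228 : N5726 = N3723 := eqe L86227 L26680
theorem L86229 : N5726 = N3723 := eqc rfl L86228 rfl
theorem L86233 : sm gb N3723 = N9518 := trf L86229 L57412 rfl
theorem L86234 : N9518 = N5736 := eqe L86233 L36673
theorem L86235 : N9518 = N5736 := eqc rfl L86234 rfl
theorem L86248 : sm gc N5736 = N9018 := trf L86235 L57414 rfl
theorem L86249 : N9018 = N9537 := eqe L86248 L57510
theorem L86250 : N9537 = N9018 := (eqc rfl L86249 rfl).symm
theorem L86252 : sm gb N9018 = N5738 := trf L86250 L57513 rfl
theorem L86253 : N5738 = N5462 := eqe L86252 L54937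
theorem L86254 : N5738 = N5462 := eqc rfl L86253 rfl
theorem L86273 : sm gg N5462 = N3726 := trf L86254 L36682 rfl
theorem L86274 : N3726 = N3597 := eqe L86273 L35397
theorem L86275 : N3726 = N3597 := eqc rfl L86274 rfl
theorem L86289 : sm gf N3597 = N4922 := trf L86275 L39381 rfl
theorem L86290 : N4922 = N2643 := eqe L86289 L26138
theorem L86291 : N4922 = N2643 := eqc rfl L86290 rfl
theorem L86307 : sm gg N2643 = N8072 := trf L86291 L49510 rfl
theorem L86308 : N8072 = N3603 := eqe L86307 L26159
theorem L86309 : N8072 = N3603 := eqc rfl L86308 rfl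
theorem L86314 : sm ge N3603 = N6032 := trf L86309 L49514 rfl
theorem L86315 : N6032 = N4686 := eqe L86314 L31625
theorem L86316 : N6032 = N4686 := eqc rfl L86315 rfl
theorem L86330 : sm gf N4686 = N10053 := trf L86316 L60222 rfl
theorem L86331 : N10053 = N7593 := eqe L86330 L46876
theorem L86332 : N10053 = N7593 := eqc rfl L86331 rfl
theorem L86339 : sm gg N7593 = N7924 := trf L86332 L60230 rfl
theorem L86340 : N7924 = N7580 := eqe L86339 L46884
theorem L86341 : N7924 = N7580 := eqc rfl L86340 rfl
theorem L86347 : sm gf N7580 = N6029 := trf L86341 L48676 rfl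
theorem L86348 : N6029 = N4683 := eqe L86347 L46805
theorem L86349 : N6029 = N4683 := eqc rfl L86348 rfl
theorem L86357 : sm gd N4683 = N10047 := trf L86349 L60194 rfl
theorem L86358 : N10047 = N7587 := eqe L86357 L46842
theorem L86359 : N10047 = N7587 := eqc rfl L86358 rfl
theorem L86362 : sm ga N7587 = N6030 := trf L86359 L60196 rfl
theorem L86363 : N6030 = N4685 := eqe L86362 L46844
theorem L86364 : N6030 = N4685 := eqc rfl L86363 rfl
theorem L86372 : sm ge N4685 = N10050 := trf L86364 L60210 rfl
theorem L86373 : N10050 = N7590 := eqe L86372 L46858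
theorem L86374 : N10050 = N7590 := eqc rfl L86373 rfl
theorem L86381 : sm gb N7590 = N6034 := trf L86374 L60212 rfl
theorem L86382 : N6034 = N4926 := eqe L86381 L46860
theorem L86383 : N6034 = N4926 := eqc rfl L86382 rfl
theorem L86393 : sm gg N4926 = N10057 := trf L86383 L60253 rfl
theorem L86394 : N10057 = N8079 := eqe L86393 L49548
theorem L86395 : N10057 = N8079 := eqc rfl L86394 rfl
theorem L86398 : sm ge N8079 = N6035 := trf L86395 L60257 rfl
theorem L86399 : N6035 = N4927 := eqe L86398 L49552
theorem L86400 : N6035 = N4927 := eqc rfl L86399 rfl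
theorem L86412 : sm gd N4927 = N3876 := trf L86400 L38025 rfl
theorem L86413 : N3876 = N3348 := eqe L86412 L32942
theorem L86414 : N3876 = N3348 := eqc rfl L86413 rfl
theorem L86430 : sm gg N3348 = N2784 := trf L86414 L27424 rfl
theorem L86431 : N2784 = N2519 := eqe L86430 L25026
theorem L86432 : N2784 = N2519 := eqc rfl L86431 rfl
theorem L86436 : sm gc N2519 = N2236 := trf L86432 L21822 rfl
theorem L86437 : N2236 = N2086 := eqe L86436 L20682
theorem L86438 : N2236 = N2086 := eqc rfl L86437 rfl
theorem L86445 : sm gb N2086 = N2783 := trf L86438 L21819 rfl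
theorem L86446 : N2783 = N1064 := eqe L86445 L10676
theorem L86447 : N2783 = N1064 := eqc rfl L86446 rfl
theorem L86455 : sm gc N1064 = N3872 := trf L86447 L27407 rfl
theorem L86456 : N3872 = N2031 := eqe L86455 L10369
theorem L86457 : N3872 = N2031 := eqc rfl L86456 rfl
theorem L86465 : sm gg N1064 = N2892 := trf L86447 L24957 rfl
theorem L86466 : N2892 = N1061 := eqe L86465 L5322
theorem L86467 : N2892 = N1061 := eqc rfl L86466 rfl
theorem L86471 : sm gb N1061 = N2895 := trf L86467 L22437 rfl
theorem L86472 : N2895 = N2083 := eqe L86471 L10657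
theorem L86473 : N2895 = N2083 := eqc rfl L86472 rfl
theorem L86481 : sm gf N1061 = N2289 := trf L86467 L22411 rfl
theorem L86482 : N2289 = N516 := eqe L86481 L5291
theorem L86483 : N2289 = N516 := eqc rfl L86482 rfl
theorem L86487 : sm gb N516 = N1552 := trf L86483 L19411 rfl
theorem L86488 : N1552 = N1060 := eqe L86487 L5284
theorem L86489 : N1552 = N1060 := eqc rfl L86488 rfl
theorem L86497 : sm gg N516 = N2885 := trf L86483 L22373 rfl
theorem L86498 : N2885 = N1062 := eqe L86497 L5298
theorem L86499 : N2885 = N1062 := eqc rfl L86498 rfl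
theorem L86501 : sm gb N1062 = N2287 := trf L86499 L22367 rfl
theorem L86502 : N2287 = N2084 := eqe L86501 L10663
theorem L86503 : N2287 = N2084 := eqc rfl L86502 rfl
theorem L86507 : sm gd N1062 = N2796 := trf L86499 L22368 rfl
theorem L86508 : N2796 = N631 := eqe L86507 L5302
theorem L86509 : N2796 = N631 := eqc rfl L86508 rfl
theorem L86515 : sm gb N631 = N2242 := trf L86509 L21870 rfl
theorem L86516 : N2242 = N1278 := eqe L86515 L6457
theorem L86517 : N2242 = N1278 := eqc rfl L86516 rfl
theorem L86521 : sm gf N631 = N3815 := trf L86509 L27080 rfl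
theorem L86522 : N3815 = N633 := eqe L86521 L3076
theorem L86523 : N3815 = N633 := eqc rfl L86522 rfl
theorem L86526 : sm gb N633 = N2750 := trf L86523 L27075 rfl
theorem L86527 : N2750 = N1282 := eqe L86526 L6469
theorem L86528 : N2750 = N1282 := eqc rfl L86527 rfl
theorem L86534 : sm gg N633 = N2751 := trf L86523 L27076 rfl
theorem L86535 : N2751 = N310 := eqe L86534 L3075
theorem L86536 : N2751 = N310 := eqc rfl L86535 rfl
theorem L86538 : sm gb N310 = N2220 := trf L86536 L21705 rfl
theorem L86539 : N2220 = N632 := eqe L86538 L3070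
theorem L86540 : N2220 = N632 := eqc rfl L86539 rfl
theorem L86546 : sm gf N310 = N2802 := trf L86536 L27087 rfl
theorem L86547 : N2802 = N161 := eqe L86546 L1552
theorem L86548 : N2802 = N161 := eqc rfl L86547 rfl
theorem L86553 : sm gc N161 = N3595 := trf L86548 L39321 rfl
theorem L86554 : N3595 = N286 := eqe L86553 L1451
theorem L86555 : N3595 = N286 := eqc rfl L86554 rfl
theorem L86572 : sm gg N286 = N2640 := trf L86555 L26129 rfl
theorem L86573 : N2640 = N581 := eqe L86572 L2853
theorem L86574 : N2640 = N581 := eqc rfl L86573 rfl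
theorem L86576 : sm gb N581 = N2162 := trf L86574 L21219 rfl
theorem L86577 : N2162 = N1188 := eqe L86576 L6017
theorem L86578 : N2162 = N1188 := eqc rfl L86577 rfl
theorem L86586 : sm gf N581 = N3594 := trf L86574 L26126 rfl
theorem L86587 : N3594 = N1189 := eqe L86586 L6022
theorem L86588 : N3594 = N1189 := eqc rfl L86587 rfl
theorem L86596 : sm gg N1189 = N3902 := trf L86588 L39337 rfl
theorem L86597 : N3902 = N1180 := eqe L86596 L6028
theorem L86598 : N3902 = N1180 := eqc rfl L86597 rfl
theorem L86604 : sm gd N1180 = N6078 := trf L86598 L38243 rfl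
theorem L86605 : N6078 = N2144 := eqe L86604 L18728
theorem L86606 : N6078 = N2144 := eqc rfl L86605 rfl
theorem L86621 : sm gf N2144 = N3901 := trf L86606 L38239 rfl
theorem L86622 : N3901 = N1179 := eqe L86621 L18724
theorem L86623 : N3901 = N1179 := eqc rfl L86622 rfl
theorem L86626 : sm gb N1179 = N6071 := trf L86623 L38213 rfl
theorem L86627 : N6071 = N2139 := eqe L86626 L18708
theorem L86628 : N6071 = N2139 := eqc rfl L86627 rfl
theorem L86636 : sm gg N1179 = N5402 := trf L86623 L39300 rfl
theorem L86637 : N5402 = N2145 := eqe L86636 L18729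
theorem L86638 : N5402 = N2145 := eqc rfl L86637 rfl
theorem L86650 : sm gf N2145 = N8932 := trf L86638 L54493 rfl
theorem L86651 : N8932 = N2155 := eqe L86650 L18775
theorem L86652 : N8932 = N2155 := eqc rfl L86651 rfl
theorem L86654 : sm gb N2155 = N8327 := trf L86652 L54501 rfl
theorem L86655 : N8327 = N2628 := eqe L86654 L21166
theorem L86656 : N8327 = N2628 := eqc rfl L86655 rfl
theorem L86662 : sm gf N2628 = N8322 := trf L86656 L51494 rfl
theorem L86663 : N8322 = N3568 := eqe L86662 L26023
theorem L86664 : N8322 = N3568 := eqc rfl L86663 rfl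
theorem L86665 : sm gg N2628 = N5069 := trf L86656 L51490 rfl
theorem L86666 : N5069 = N3565 := eqe L86665 L26016
theorem L86667 : N5069 = N3565 := eqc rfl L86666 rfl
theorem L86668 : sm gb N3565 = N3417 := trf L86667 L73182 rfl
theorem L86669 : N3417 = N2627 := eqe L86668 L26012
theorem L86670 : N3417 = N2627 := eqc rfl L86669 rfl
theorem L86671 : sm gc N3565 = N8323 := trf L86667 L73203 rfl
theorem L86672 : N8323 = N5394 := eqe L86671 L35078
theorem L86673 : N8323 = N5394 := eqc rfl L86672 rfl
theorem L86674 : sm gd N3565 = N3430 := trf L86667 L33608 rfl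
theorem L86675 : N3430 = N2636 := eqe L86674 L26013
theorem L86676 : N3430 = N2636 := eqc rfl L86675 rfl
theorem L86677 : sm gf N3565 = N3416 := trf L86667 L33607 rfl
theorem L86678 : N3416 = N5395 := eqe L86677 L35082
theorem L86679 : N5395 = N3416 := (eqc rfl L86678 rfl).symm
theorem L86686 : sm gc N3416 = N8918 := trf L86679 L54426 rfl
theorem L86687 : N8918 = N5068 := eqe L86686 L33604
theorem L86688 : N8918 = N5068 := eqc rfl L86687 rfl
theorem L86695 : sm gf N3416 = N3565 := trf L86679 L35083 rfl
theorem L86696 : sm gf N3565 = N3416 := flp_f L86695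
theorem L86697 : sm gg N3416 = N5398 := trf L86679 L35100 rfl
theorem L86698 : N5398 = N5070 := eqe L86697 L33610
theorem L86699 : N5398 = N5070 := eqc rfl L86698 rfl
theorem L86702 : sm gb N5070 = N8244 := trf L86699 L51074 rfl
theorem L86703 : N8244 = N8328 := eqe L86702 L51495
theorem L86704 : N8328 = N8244 := (eqc rfl L86703 rfl).symm
theorem L86705 : sm gc N5070 = N8924 := trf L86699 L54454 rfl
theorem L86706 : N8924 = N8326 := eqe L86705 L51488
theorem L86707 : N8924 = N8326 := eqc rfl L86706 rfl
theorem L86708 : sm gd N5070 = N3588 := trf L86699 L35098 rfl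
theorem L86709 : N3588 = N3431 := eqe L86708 L33612
theorem L86710 : N3588 = N3431 := eqc rfl L86709 rfl
theorem L86714 : sm gf N5070 = N3566 := trf L86699 L35095 rfl
theorem L86715 : N3566 = N6503 := eqe L86714 L74895
theorem L86716 : N6503 = N3566 := (eqc rfl L86715 rfl).symm
theorem L86719 : sm gb N3566 = N10807 := trf L86716 L64645 rfl
theorem L86720 : N10807 = N5396 := eqe L86719 L35086
theorem L86721 : N10807 = N5396 := eqc rfl L86720 rfl
theorem L86722 : sm gc N3566 = N10806 := trf L86716 L64642 rfl
theorem L86723 : N10806 = N5397 := eqe L86722 L35090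
theorem L86724 : N10806 = N5397 := eqc rfl L86723 rfl
theorem L86725 : sm gd N3566 = N4188 := trf L86716 L40841 rfl
theorem L86726 : N4188 = N2637 := eqe L86725 L26019
theorem L86727 : N4188 = N2637 := eqc rfl L86726 rfl
theorem L86728 : sm ge N3566 = N4129 := trf L86716 L40843 rfl
theorem L86729 : N4129 = N5374 := eqe L86728 L34987
theorem L86730 : N5374 = N4129 := (eqc rfl L86729 rfl).symm
theorem L86731 : sm gf N3566 = N5070 := trf L86716 L74894 rfl
theorem L86732 : sm gf N5070 = N3566 := flp_f L86731
theorem L86733 : sm gg N3566 = N4123 := trf L86716 L40840 rfl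
theorem L86734 : N4123 = N5393 := eqe L86733 L35077
theorem L86735 : N5393 = N4123 := (eqc rfl L86734 rfl).symm
theorem L86738 : N6501 = N3565 := L74848.trans L86667
theorem L86742 : sm gc N4123 = N8916 := trf L86735 L54413 rfl
theorem L86743 : N8916 = N6502 := eqe L86742 L40834
theorem L86744 : N8916 = N6502 := eqc rfl L86743 rfl
theorem L86748 : sm ge N4123 = N8870 := trf L86735 L54186 rfl
theorem L86749 : N8870 = N2936 := eqe L86748 L28766
theorem L86750 : N8870 = N2936 := eqc rfl L86749 rfl
theorem L86753 : sm gg N4123 = N3566 := trf L86735 L35076 rfl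
theorem L86754 : sm gg N3566 = N4123 := flp_g L86753
theorem L86755 : sm ga N2936 = N5373 := trf L86750 L54184 rfl
theorem L86756 : N5373 = N4127 := eqe L86755 L28794
theorem L86757 : N5373 = N4127 := eqc rfl L86756 rfl
theorem L86758 : sm gf N2936 = N8878 := trf L86750 L54231 rfl
theorem L86759 : N8878 = N4112 := eqe L86758 L28701
theorem L86760 : N8878 = N4112 := eqc rfl L86759 rfl
theorem L86767 : sm gg N4112 = N5376 := trf L86760 L54226 rfl
theorem L86768 : N5376 = N6482 := eqe L86767 L40730
theorem L86769 : N6482 = N5376 := (eqc rfl L86768 rfl).symm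
theorem L86775 : sm gc N5376 = N10764 := trf L86769 L64397 rfl
theorem L86776 : N10764 = N8877 := eqe L86775 L54222
theorem L86777 : N10764 = N8877 := eqc rfl L86776 rfl
theorem L86778 : sm gd N5376 = N4118 := trf L86769 L40732 rfl
theorem L86779 : N4118 = N7514 := eqe L86778 L46444
theorem L86780 : N7514 = N4118 := (eqc rfl L86779 rfl).symm
theorem L86783 : sm gf N5376 = N6511 := trf L86769 L40889 rfl
theorem L86784 : N6511 = N3556 := eqe L86783 L34993
theorem L86785 : N6511 = N3556 := eqc rfl L86784 rfl
theorem L86793 : sm gc N3556 = N10827 := trf L86785 L64781 rfl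
theorem L86794 : N10827 = N5375 := eqe L86793 L34988
theorem L86795 : N10827 = N5375 := eqc rfl L86794 rfl
theorem L86796 : sm gd N3556 = N4137 := trf L86785 L40886 rfl
theorem L86797 : N4137 = N4641 := eqe L86796 L31391
theorem L86798 : N4641 = N4137 := (eqc rfl L86797 rfl).symm
theorem L86805 : sm gb N4137 = N3200 := trf L86798 L31389 rfl
theorem L86806 : N3200 = N6533 := eqe L86805 L40996
theorem L86807 : N6533 = N3200 := (eqc rfl L86806 rfl).symm
theorem L86808 : sm gc N4137 = N7513 := trf L86798 L46437 rfl
theorem L86809 : N7513 = N6532 := eqe L86808 L40991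
theorem L86810 : N7513 = N6532 := eqc rfl L86809 rfl
theorem L86811 : sm gd N4137 = N3556 := trf L86798 L31390 rfl
theorem L86812 : sm gd N3556 = N4137 := flp_d L86811
theorem L86813 : sm ge N4137 = N3206 := trf L86798 L31392 rfl
theorem L86814 : N3206 = N2979 := eqe L86813 L28838
theorem L86815 : N3206 = N2979 := eqc rfl L86814 rfl
theorem L86817 : sm gg N4137 = N7511 := trf L86798 L46430 rfl
theorem L86818 : N7511 = N2940 := eqe L86817 L28835
theorem L86819 : N7511 = N2940 := eqc rfl L86818 rfl
theorem L86820 : sm gb N2940 = N4640 := trf L86819 L46424 rfl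
theorem L86821 : N4640 = N4135 := eqe L86820 L28824
theorem L86822 : N4640 = N4135 := eqc rfl L86821 rfl
theorem L86824 : sm ge N2940 = N4650 := trf L86819 L46427 rfl
theorem L86825 : N4650 = N2332 := eqe L86824 L22689
theorem L86826 : N4650 = N2332 := eqc rfl L86825 rfl
theorem L86827 : sm gb N2332 = N3205 := trf L86826 L31439 rfl
theorem L86828 : N3205 = N2977 := eqe L86827 L22855
theorem L86829 : N3205 = N2977 := eqc rfl L86828 rfl
theorem L86833 : sm gd N2332 = N3212 := trf L86826 L31440 rfl
theorem L86834 : N3212 = N2969 := eqe L86833 L22830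
theorem L86835 : N3212 = N2969 := eqc rfl L86834 rfl
theorem L86836 : sm gf N2332 = N7535 := trf L86826 L46553 rfl
theorem L86837 : N7535 = N2958 := eqe L86836 L22778
theorem L86838 : N7535 = N2958 := eqc rfl L86837 rfl
theorem L86843 : sm gb N2958 = N6625 := trf L86838 L85346 rfl
theorem L86844 : N6625 = N4173 := eqe L86843 L29036
theorem L86845 : N6625 = N3144 := eqc rfl L86844 L74998
theorem L86849 : sm gg N2958 = N7538 := trf L86838 L46571 rfl
theorem L86850 : N7538 = N2983 := eqe L86849 L22884
theorem L86851 : N7538 = N2983 := eqc rfl L86850 rfl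
theorem L86852 : sm ga N2983 = N4653 := trf L86851 L46567 rfl
theorem L86853 : N4653 = N2960 := eqe L86852 L22881
theorem L86854 : N4653 = N2960 := eqc rfl L86853 rfl
theorem L86861 : sm gf N2983 = N4651 := trf L86851 L46566 rfl
theorem L86862 : N4651 = N2334 := eqe L86861 L22880
theorem L86863 : N4651 = N2334 := eqc rfl L86862 rfl
theorem L86865 : sm gb N2334 = N4231 := trf L86863 L46557 L85362
theorem L86866 : N4231 = N2982 := eqe L86865 L22875
theorem L86867 : N4231 = N2982 := eqc rfl L86866 rfl
theorem L86871 : sm gd N2334 = N3213 := trf L86863 L31446 rfl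
theorem L86872 : N3213 = N2971 := eqe L86871 L22836
theorem L86873 : N3213 = N2971 := eqc rfl L86872 rfl
theorem L86875 : sm gg N2334 = N6457 := trf L86863 L85383 rfl
theorem L86876 : N6457 = N1746 := eqe L86875 L19655
theorem L86877 : N6457 = N1746 := eqc rfl L86876 rfl
theorem L86889 : sm ge N1746 = N10647 := trf L86877 L63745 rfl
theorem L86890 : N10647 = N2311 := eqe L86889 L19531
theorem L86891 : N10647 = N2311 := eqc rfl L86890 rfl
theorem L86897 : sm gf N2311 = N11470 := trf L86891 L68480 rfl
theorem L86898 : N11470 = N2930 := eqe L86897 L22622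
theorem L86899 : N11470 = N2930 := eqc rfl L86898 rfl
theorem L86901 : sm gb N2930 = N6932 := trf L86899 L68476 rfl
theorem L86902 : N6932 = N2306 := eqe L86901 L22618
theorem L86903 : N6932 = N2306 := eqc rfl L86902 rfl
theorem L86920 : sm gg N2306 = N4335 := trf L86903 L43118 rfl
theorem L86921 : N4335 = N2931 := eqe L86920 L22623
theorem L86922 : N4335 = N2931 := eqc rfl L86921 rfl
theorem L86935 : sm ge N2931 = N6797 := trf L86922 L42255 rfl
theorem L86936 : N6797 = N2323 := eqe L86935 L22627
theorem L86937 : N6797 = N2323 := eqc rfl L86936 rfl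
theorem L86938 : sm gf N2931 = N3043 := trf L86922 L29777 rfl
theorem L86939 : N3043 = N2925 := eqe L86938 L22630
theorem L86940 : N3043 = N2925 := eqc rfl L86939 rfl
theorem L86944 : sm gb N2925 = N4159 := trf L86940 L28967 rfl
theorem L86945 : N4159 = N4106 := eqe L86944 L28665
theorem L86946 : N4159 = N4106 := eqc rfl L86945 rfl
theorem L86947 : sm gc N2925 = N2365 := trf L86940 L23214 rfl
theorem L86948 : N2365 = N2347 := eqe L86947 L22596
theorem L86949 : N2365 = N2347 := eqc rfl L86948 rfl
theorem L86956 : sm gg N2925 = N4322 := trf L86940 L29729 rfl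
theorem L86957 : N4322 = N2304 := eqe L86956 L22593
theorem L86958 : N4322 = N2304 := eqc rfl L86957 rfl
theorem L86966 : sm gd N2304 = N6912 := trf L86958 L43003 rfl
theorem L86967 : N6912 = N2923 := eqe L86966 L22580
theorem L86968 : N6912 = N2923 := eqc rfl L86967 rfl
theorem L86969 : sm ge N2304 = N6779 := trf L86958 L42141 rfl
theorem L86970 : N6779 = N1739 := eqe L86969 L19495
theorem L86971 : N6779 = N1739 := eqc rfl L86970 rfl
theorem L86982 : sm gd N1739 = N11258 := trf L86971 L67145 rfl
theorem L86983 : N11258 = N2271 := eqe L86982 L19299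
theorem L86984 : N11258 = N2271 := eqc rfl L86983 rfl
theorem L86985 : sm gf N1739 = N11155 := trf L86971 L66478 rfl
theorem L86986 : N11155 = N2317 := eqe L86985 L19566
theorem L86987 : N11155 = N2317 := eqc rfl L86986 rfl
theorem L86997 : sm gg N2317 = N7315 := trf L86987 L67298 L75047
theorem L86998 : N7315 = N2325 := eqe L86997 L19613
theorem L86999 : N7315 = N2325 := eqc rfl L86998 rfl
theorem L87000 : sm gb N2325 = N4543 := trf L86999 L45308 rfl
theorem L87001 : N4543 = N2964 := eqe L87000 L22799
theorem L87002 : N4543 = N2964 := eqc rfl L87001 rfl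
theorem L87003 : sm gd N2325 = N4563 := trf L86999 L45309 rfl
theorem L87004 : N4563 = N2957 := eqe L87003 L22772
theorem L87005 : N4563 = N2957 := eqc rfl L87004 rfl
theorem L87006 : sm gf N2325 = N6794 := trf L86999 L48017 L82344
theorem L87007 : N6794 = N1742 := eqe L87006 L19607
theorem L87008 : N6794 = N1742 := eqc rfl L87007 rfl
theorem L87011 : sm gc N1742 = N4263 := trf L87008 L42235 rfl
theorem L87012 : N4263 = N937 := eqe L87011 L8881
theorem L87013 : N4263 = N937 := eqc rfl L87012 rfl
theorem L87033 : sm gg N937 = N6778 := trf L87013 L42137 rfl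
theorem L87034 : N6778 = N454 := eqe L87033 L4642
theorem L87035 : N6778 = N454 := eqc rfl L87034 rfl
theorem L87047 : sm gf N454 = N6798 := trf L87035 L42262 rfl
theorem L87048 : N6798 = N936 := eqe L87047 L4639
theorem L87049 : N6798 = N936 := eqc rfl L87048 rfl
theorem L87059 : sm gg N936 = N4265 := trf L87049 L42257 rfl
theorem L87060 : N4265 = N1855 := eqe L87059 L9403
theorem L87061 : N4265 = N1855 := eqc rfl L87060 rfl
theorem L87067 : sm gd N1855 = N6787 := trf L87061 L42189 rfl
theorem L87068 : N6787 = N2231 := eqe L87067 L19123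
theorem L87069 : N6787 = N2231 := eqc rfl L87068 rfl
theorem L87084 : sm gf N2231 = N4259 := trf L87069 L42187 rfl
theorem L87085 : N4259 = N2244 := eqe L87084 L19167
theorem L87086 : N4259 = N2244 := eqc rfl L87085 rfl
theorem L87089 : sm gb N2244 = N3004 := trf L87086 L29405 rfl
theorem L87090 : N3004 = N2801 := eqe L87089 L21893
theorem L87091 : N3004 = N2801 := eqc rfl L87090 rfl
theorem L87099 : sm gg N2244 = N6772 := trf L87086 L42095 rfl
theorem L87100 : N6772 = N1285 := eqe L87099 L19159
theorem L87101 : N6772 = N1285 := eqc rfl L87100 rfl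
theorem L87113 : sm gf N1285 = N10288 := trf L87101 L85298 rfl
theorem L87114 : N10288 = N2230 := eqe L87113 L19115
theorem L87115 : N10288 = N2230 := eqc rfl L87114 rfl
theorem L87121 : sm ge N2230 = N7235 := trf L87115 L85295 rfl
theorem L87122 : N7235 = N2269 := eqe L87121 L19285
theorem L87123 : N7235 = N2269 := eqc rfl L87122 rfl
theorem L87132 : sm gg N2269 = N10204 := trf L87123 L85306 rfl
theorem L87133 : N10204 = N2276 := eqe L87132 L19333
theorem L87134 : N10204 = N2276 := eqc rfl L87133 rfl
theorem L87136 : sm gb N2276 = N6131 := trf L87134 L61095 rfl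
theorem L87137 : N6131 = N2862 := eqe L87136 L22201
theorem L87138 : N6131 = N2862 := eqc rfl L87137 rfl
theorem L87143 : sm gf N2276 = N6235 := trf L87134 L85303 rfl
theorem L87144 : N6235 = N1527 := eqe L87143 L19325
theorem L87145 : N6235 = N1527 := eqc rfl L87144 rfl
theorem L87157 : sm gg N1527 = N7229 := trf L87145 L44834 rfl
theorem L87158 : N7229 = N777 := eqe L87157 L7731
theorem L87159 : N7229 = N777 := eqc rfl L87158 rfl
theorem L87164 : sm gd N777 = N4501 := trf L87159 L44830 rfl
theorem L87165 : N4501 = N1525 := eqe L87164 L7720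
theorem L87166 : N4501 = N1525 := eqc rfl L87165 rfl
theorem L87175 : sm gc N1525 = N3126 := trf L87166 L30615 rfl
theorem L87176 : N3126 = N2271 := eqe L87175 L19294
theorem L87177 : N3126 = N2271 := eqc rfl L87176 rfl
theorem L87181 : sm gf N1525 = N6248 := trf L87166 L39454 rfl
theorem L87182 : N6248 = N2272 := eqe L87181 L19300
theorem L87183 : N6248 = N2272 := eqc rfl L87182 rfl
theorem L87195 : sm gg N2272 = N3989 := trf L87183 L39447 rfl
theorem L87196 : N3989 = N2857 := eqe L87195 L22169
theorem L87197 : N3989 = N2857 := eqc rfl L87196 rfl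
theorem L87199 : sm gb N2857 = N4003 := trf L87197 L28074 rfl
theorem L87200 : N4003 = N3997 := eqe L87199 L28041
theorem L87201 : N4003 = N3997 := eqc rfl L87200 rfl
theorem L87209 : sm gf N2857 = N2852 := trf L87197 L28000 rfl
theorem L87210 : N2852 = N2850 := eqe L87209 L22174
theorem L87211 : N2852 = N2850 := eqc rfl L87210 rfl
theorem L87215 : sm gc N2850 = N3988 := trf L87211 L27993 rfl
theorem L87216 : N3988 = N2321 := eqe L87215 L22115
theorem L87217 : N3988 = N2321 := eqc rfl L87216 rfl
theorem L87222 : sm ga N2321 = N4489 := trf L87217 L39358 rfl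
theorem L87223 : N4489 = N2855 := eqe L87222 L22158
theorem L87224 : N4489 = N2855 := eqc rfl L87223 rfl
theorem L87235 : sm gg N2321 = N4500 := trf L87217 L39189 rfl
theorem L87236 : N4500 = N1740 := eqe L87235 L19587
theorem L87237 : N4500 = N1740 := eqc rfl L87236 rfl
theorem L87249 : sm gf N1740 = N7228 := trf L87237 L44819 rfl
theorem L87250 : N7228 = N2320 := eqe L87249 L19582
theorem L87251 : N7228 = N2320 := eqc rfl L87250 rfl
theorem L87254 : sm gb N2320 = N7935 := trf L87251 L48756 rfl
theorem L87255 : N7935 = N2954 := eqe L87254 L22745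
theorem L87256 : N7935 = N2954 := eqc rfl L87255 rfl
theorem L87273 : sm ge N2954 = N5753 := trf L87256 L48752 rfl
theorem L87274 : N5753 = N4161 := eqe L87273 L28973
theorem L87275 : N5753 = N3428 := eqc rfl L87274 L71227
theorem L87279 : sm gg N2954 = N4844 := trf L87256 L48749 rfl
theorem L87280 : N4844 = N4167 := eqe L87279 L29010
theorem L87281 : N4844 = N4167 := eqc rfl L87280 rfl
theorem L87285 : sm gc N4167 = N7933 := trf L87281 L48739 rfl
theorem L87286 : N7933 = N6581 := eqe L87285 L41241
theorem L87287 : N7933 = N6581 := eqc rfl L87286 rfl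
theorem L87291 : sm ge N4167 = N3730 := trf L87281 L32467 rfl
theorem L87292 : sm ge N3730 = N4167 := flp_e L87291
theorem L87293 : sm gf N4167 = N3292 := trf L87281 L32466 rfl
theorem L87294 : N3292 = N4196 := eqe L87293 L29131
theorem L87295 : N4196 = N3292 := (eqc rfl L87294 rfl).symm
theorem L87296 : sm ga N3292 = N2971 := trf L87295 L29126 rfl
theorem L87297 : N2971 = N4842 := eqe L87296 L32455
theorem L87298 : N4842 = N2971 := (eqc rfl L87297 rfl).symm
theorem L87299 : sm gc N3292 = N6652 := trf L87295 L41561 rfl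
theorem L87300 : N6652 = N4843 := eqe L87299 L32461
theorem L87301 : N6652 = N4843 := eqc rfl L87300 rfl
theorem L87307 : sm gg N3292 = N2969 := trf L87295 L29125 rfl
theorem L87308 : N2969 = N4845 := eqe L87307 L32469
theorem L87309 : N4845 = N2969 := (eqc rfl L87308 rfl).symm
theorem L87311 : sm gb N2969 = N7936 := trf L87309 L48758 rfl
theorem L87312 : N7936 = N4194 := eqe L87311 L29116
theorem L87313 : N7936 = N4194 := eqc rfl L87312 rfl
theorem L87314 : sm gc N2969 = N7934 := trf L87309 L48745 rfl
theorem L87315 : N7934 = N4195 := eqe L87314 L29120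
theorem L87316 : N7934 = N4195 := eqc rfl L87315 rfl
theorem L87320 : sm ge N2969 = N3731 := trf L87309 L32471 rfl
theorem L87321 : N3731 = N4186 := eqe L87320 L29087
theorem L87322 : N4186 = N2636 := L74911.trans L86676
theorem L87323 : N3731 = N2636 := eqc rfl L87321 L87322
theorem L87324 : sm gf N2969 = N7455 := trf L87309 L46151 rfl
theorem L87326 : sm gg N2969 = N3292 := trf L87309 L32470 rfl
theorem L87334 : sm gc N2636 = N5752 := trf L87323 L36758 rfl
theorem L87335 : N5752 = N3584 := eqe L87334 L26089
theorem L87336 : N5752 = N3584 := eqc rfl L87335 rfl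
theorem L87343 : sm gg N2636 = N2700 := trf L87323 L26706 rfl
theorem L87344 : N2700 = N2161 := eqe L87343 L21206
theorem L87345 : N2700 = N2161 := eqc rfl L87344 rfl
theorem L87358 : sm ge N2161 = N3292 := trf L87345 L24622 rfl
theorem L87359 : N3292 = N2449 := eqe L87358 L20259
theorem L87360 : N3292 = N2449 := eqc rfl L87359 rfl
theorem L87361 : sm gf N2161 = N3730 := trf L87345 L26703 rfl
theorem L87362 : N3730 = N2639 := eqe L87361 L21214
theorem L87363 : N3730 = N2639 := eqc rfl L87362 rfl
theorem L87367 : sm gb N2639 = N5729 := trf L87363 L36649 rfl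
theorem L87368 : N5729 = N2610 := eqe L87367 L21216
theorem L87369 : N5729 = N2610 := eqc rfl L87368 rfl
theorem L87376 : sm ge N2639 = N4167 := trf L87363 L87292 rfl
theorem L87377 : N4167 = N3215 := eqe L87376 L24106
theorem L87378 : N4167 = N3215 := eqc rfl L87377 rfl
theorem L87379 : sm gg N2639 = N3428 := trf L87363 L36759 L87275
theorem L87380 : N3428 = N3591 := eqe L87379 L26115
theorem L87381 : N3591 = N3428 := (eqc rfl L87380 rfl).symm
theorem L87386 : sm gc N3428 = N5449 := trf L87381 L35343 rfl
theorem L87387 : N5449 = N4433 := eqe L87386 L43463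
theorem L87388 : N5449 = N4433 := eqc rfl L87387 rfl
theorem L87390 : sm ge N3428 = N4674 := trf L87381 L31559 rfl
theorem L87391 : N4674 = N4550 := eqe L87390 L30891
theorem L87392 : N4674 = N2954 := eqc rfl L87391 L74935
theorem L87396 : sm gg N3428 = N2639 := trf L87381 L26116 rfl
theorem L87397 : N2639 = N5097 := eqe L87396 L33732
theorem L87398 : N5097 = N2639 := (eqc rfl L87397 rfl).symm
theorem L87404 : sm gc N2639 = N7102 := trf L87398 L44143 rfl
theorem L87405 : N7102 = N3590 := eqe L87404 L26114
theorem L87406 : N7102 = N3590 := eqc rfl L87405 rfl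
theorem L87411 : sm gg N2639 = N3428 := trf L87398 L33733 rfl
theorem L87412 : sm gg N3428 = N2639 := flp_g L87411
theorem L87413 : sm ga N3590 = N5101 := trf L87406 L44140 rfl
theorem L87414 : N5101 = N5444 := eqe L87413 L35317
theorem L87415 : N5444 = N5101 := (eqc rfl L87414 rfl).symm
theorem L87416 : sm gb N3590 = N9904 := trf L87406 L59473 rfl
theorem L87417 : N9904 = N5448 := eqe L87416 L35332
theorem L87418 : N9904 = N5448 := eqc rfl L87417 rfl
theorem L87422 : sm gf N3590 = N5918 := trf L87406 L44144 rfl
theorem L87423 : N5918 = N2638 := eqe L87422 L26112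
theorem L87424 : N5918 = N2638 := eqc rfl L87423 rfl
theorem L87427 : sm ga N2638 = N8389 := trf L87424 L51774 rfl
theorem L87428 : N8389 = N3587 := eqe L87427 L26100
theorem L87429 : N8389 = N3587 := eqc rfl L87428 rfl
theorem L87430 : sm gb N2638 = N3814 := trf L87424 L37499 rfl
theorem L87431 : N3814 = N2234 := eqe L87430 L21212
theorem L87432 : N3814 = N2234 := eqc rfl L87431 rfl
theorem L87434 : N8012 = N4843 := L74572.trans L87301
theorem L87435 : sm ge N2638 = N4843 := trf L87424 L49210 L87434
theorem L87436 : N4843 = N3214 := eqe L87435 L24100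
theorem L87437 : N4843 = N3214 := eqc rfl L87436 rfl
theorem L87438 : sm ga N3214 = N3698 := trf L87437 L50121 rfl
theorem L87439 : N3698 = N4670 := eqe L87438 L31533
theorem L87440 : N4670 = N3698 := (eqc rfl L87439 rfl).symm
theorem L87441 : sm gb N3214 = N7931 := trf L87437 L48728 rfl
theorem L87442 : N7931 = N2516 := eqe L87441 L24101
theorem L87443 : N7931 = N2516 := eqc rfl L87442 rfl
theorem L87445 : sm gd N3214 = N2516 := trf L87437 L79871 L87443
theorem L87446 : N2516 = N4672 := eqe L87445 L31544
theorem L87447 : N4672 = N2516 := (eqc rfl L87446 rfl).symm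
theorem L87449 : sm gf N3214 = N6581 := trf L87437 L48736 L87287
theorem L87450 : N6581 = N4673 := eqe L87449 L31548
theorem L87451 : N6581 = N4673 := eqc rfl L87450 rfl
theorem L87452 : sm gg N3214 = N4195 := trf L87437 L48742 L87316
theorem L87453 : N4195 = N4667 := eqe L87452 L31521
theorem L87454 : N4667 = N4195 := (eqc rfl L87453 rfl).symm
theorem L87455 : sm ga N4195 = N7566 := trf L87454 L46714 rfl
theorem L87456 : N7566 = N2970 := eqe L87455 L29122
theorem L87457 : N7566 = N2970 := eqc rfl L87456 rfl
theorem L87465 : sm gf N4195 = N7568 := trf L87454 L46723 rfl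
theorem L87466 : N7568 = N6579 := eqe L87465 L41233
theorem L87467 : N7568 = N3329 := eqc rfl L87466 L74445
theorem L87476 : sm ge N3329 = N5438 := trf L87467 L46727 rfl
theorem L87477 : N5438 = N4901 := eqe L87476 L32802
theorem L87478 : N5438 = N3429 := eqc rfl L87477 L72895
theorem L87479 : sm gg N3329 = N7572 := trf L87467 L46755 rfl
theorem L87480 : N7572 = N4902 := eqe L87479 L32806
theorem L87481 : N7572 = N4902 := eqc rfl L87480 rfl
theorem L87490 : sm gf N4902 = N3698 := trf L87481 L46748 L87440
theorem L87491 : N3698 = N4198 := eqe L87490 L74483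
theorem L87492 : N4198 = N3698 := (eqc rfl L87491 rfl).symm
theorem L87501 : sm gd N3698 = N3861 := trf L87492 L41575 L74413
theorem L87502 : N3861 = N5684 := eqe L87501 L36422
theorem L87503 : N5684 = N3861 := (eqc rfl L87502 rfl).symm
theorem L87504 : sm ge N3698 = N6630 := trf L87492 L41449 rfl
theorem L87505 : N6630 = N4812 := eqe L87504 L32288
theorem L87506 : N6630 = N4812 := eqc rfl L87505 rfl
theorem L87507 : sm gf N3698 = N4902 := trf L87492 L74482 rfl
theorem L87508 : N4902 = N5685 := eqe L87507 L36426
theorem L87509 : N5685 = N4902 := (eqc rfl L87508 rfl).symm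
theorem L87510 : sm gg N3698 = N2970 := trf L87492 L29135 rfl
theorem L87511 : N2970 = N5686 := eqe L87510 L36428
theorem L87512 : N5686 = N2970 := (eqc rfl L87511 rfl).symm
theorem L87521 : sm ge N2970 = N7872 := trf L87512 L48333 rfl
theorem L87522 : N7872 = N4187 := eqe L87521 L29091
theorem L87523 : N7872 = N4187 := eqc rfl L87522 rfl
theorem L87525 : sm gg N2970 = N3698 := trf L87512 L36429 rfl
theorem L87526 : sm gg N3698 = N2970 := flp_g L87525
theorem L87527 : sm ga N4187 = N3584 := trf L87523 L50238 L87336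
theorem L87528 : sm ga N3584 = N4187 := flp_a L87527
theorem L87529 : N4187 = N5436 := eqe L87528 L35271
theorem L87530 : N5436 = N4187 := (eqc rfl L87529 rfl).symm
theorem L87532 : sm gf N4187 = N9554 := trf L87523 L57582 rfl
theorem L87533 : N9554 = N6571 := eqe L87532 L41195
theorem L87534 : N9554 = N4433 := eqc rfl L87533 L75118
theorem L87537 : sm ga N4433 = N8746 := trf L87534 L57576 rfl
theorem L87538 : N8746 = N3429 := eqe L87537 L43460
theorem L87539 : N8746 = N3429 := eqc rfl L87538 rfl
theorem L87566 : sm gg N3429 = N7871 := trf L87539 L53575 rfl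
theorem L87567 : N7871 = N5101 := eqe L87566 L33746
theorem L87568 : N7871 = N5101 := eqc rfl L87567 rfl
theorem L87573 : sm ge N5101 = N4902 := trf L87568 L48328 L87509
theorem L87574 : N4902 = N7334 := eqe L87573 L45412
theorem L87575 : N7334 = N4902 := (eqc rfl L87574 rfl).symm
theorem L87576 : sm gf N5101 = N4812 := trf L87568 L48327 rfl
theorem L87577 : N4812 = N8389 := eqe L87576 L51771
theorem L87578 : N4812 = N3587 := eqc rfl L87577 L87429
theorem L87580 : sm gb N3587 = N3278 := trf L87578 L32286 rfl
theorem L87581 : N3278 = N5442 := eqe L87580 L35308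
theorem L87582 : N5442 = N3278 := (eqc rfl L87581 rfl).symm
theorem L87584 : sm gd N3587 = N7870 := trf L87578 L48322 rfl
theorem L87585 : N7870 = N5443 := eqe L87584 L35310
theorem L87586 : N7870 = N5443 := eqc rfl L87585 rfl
theorem L87589 : sm ga N5443 = N5750 := trf L87586 L50234 rfl
theorem L87590 : N5750 = N3589 := eqe L87589 L35312
theorem L87591 : N5750 = N3589 := eqc rfl L87590 rfl
theorem L87592 : sm gb N5443 = N4813 := trf L87586 L48324 rfl
theorem L87593 : N4813 = N8994 := eqe L87592 L54820
theorem L87594 : N8994 = N4813 := (eqc rfl L87593 rfl).symm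

end Cfsg.Agent.Helper28.SuzA
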