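import Cfsg.Agent.Helper28.SuzB7

/-! # The Suzuki group presentation, cosets of the subgroup generated by a, …, f: the coset enumeration, part 8 (helper28; generated) -/

set_option autoImplicit false

noncomputable section

namespace Cfsg.Agent.Helper28.SuzA

open Cfsg.Agent.Helper28.CosetTable

theorem L87595 : sm gb N4813 = N5443 := trf L87594 L54819 rfl
theorem L87596 : sm gb N5443 = N4813 := flp_b L87595
theorem L87598 : sm gb N3589 = N9546 := trf L87591 L57551 rfl
theorem L87599 : N9546 = N2780 := eqe L87598 L26109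
theorem L87600 : N9546 = N2780 := eqc rfl L87599 rfl
theorem L87616 : sm gd N2780 = N5749 := trf L87600 L57549 rfl
theorem L87617 : N5749 = N2234 := eqe L87616 L21808
theorem L87618 : N5749 = N2234 := eqc rfl L87617 rfl
theorem L87630 : sm gg N2234 = N9548 := trf L87618 L57556 rfl
theorem L87631 : N9548 = N2775 := eqe L87630 L21792
theorem L87632 : N9548 = N2775 := eqc rfl L87631 rfl
theorem L87633 : sm gc N2775 = N5758 := trf L87632 L57558 rfl
theorem L87634 : N5758 = N2232 := eqe L87633 L21790
theorem L87635 : N5758 = N2232 := eqc rfl L87634 rfl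
theorem L87646 : sm gf N2232 = N9566 := trf L87635 L57626 rfl
theorem L87647 : N9566 = N2776 := eqe L87646 L21793
theorem L87648 : N9566 = N2776 := eqc rfl L87647 rfl
theorem L87653 : sm gg N2776 = N9558 := trf L87648 L57630 rfl
theorem L87654 : N9558 = N2779 := eqe L87653 L21805
theorem L87655 : N9558 = N2779 := eqc rfl L87654 rfl
theorem L87659 : sm gf N2779 = N5755 := trf L87655 L57597 rfl
theorem L87660 : N5755 = N2233 := eqe L87659 L21802
theorem L87661 : N5755 = N2233 := eqc rfl L87660 rfl
theorem L87663 : sm gb N2233 = N7937 := trf L87661 L48771 rfl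
theorem L87664 : N7937 = N2777 := eqe L87663 L21795
theorem L87665 : N7937 = N2777 := eqc rfl L87664 rfl
theorem L87667 : sm gd N2233 = N2777 := trf L87661 L78474 L87665
theorem L87668 : N2777 = N2515 := eqe L87667 L20659
theorem L87669 : N2777 = N2515 := eqc rfl L87668 rfl
theorem L87676 : sm gb N2515 = N2233 := trf L87669 L21796 rfl
theorem L87677 : N2233 = N2761 := eqe L87676 L24961
theorem L87678 : N2761 = N2233 := (eqc rfl L87677 rfl).symm
theorem L87679 : sm gc N2515 = N3861 := trf L87669 L27347 rfl
theorem L87680 : N3861 = N3339 := eqe L87679 L24938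
theorem L87681 : N3861 = N3339 := eqc rfl L87680 rfl
theorem L87684 : sm gf N2515 = N2511 := trf L87669 L24973 rfl
theorem L87685 : N2511 = N3340 := eqe L87684 L24944
theorem L87686 : N3340 = N2511 := (eqc rfl L87685 rfl).symm
theorem L87687 : sm gg N2515 = N3318 := trf L87669 L24975 rfl
theorem L87688 : N3318 = N2893 := eqe L87687 L22423
theorem L87689 : N3318 = N2893 := eqc rfl L87688 rfl
theorem L87690 : sm ga N2893 = N2505 := trf L87689 L24800 rfl
theorem L87691 : N2505 = N2290 := eqe L87690 L22417
theorem L87692 : N2505 = N2290 := eqc rfl L87691 rfl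
theorem L87693 : sm gb N2893 = N3845 := trf L87689 L27268 rfl
theorem L87694 : N3845 = N4048 := eqe L87693 L28362
theorem L87695 : N4048 = N3845 := (eqc rfl L87694 rfl).symm
theorem L87696 : sm gc N2893 = N4197 := trf L87689 L32722 L74425
theorem L87697 : N4197 = N4053 := eqe L87696 L28390
theorem L87698 : N4197 = N4053 := eqc rfl L87697 rfl
theorem L87699 : sm gd N2893 = N2748 := trf L87689 L24801 rfl
theorem L87700 : N2748 = N2774 := eqe L87699 L22418
theorem L87701 : N2774 = N2748 := (eqc rfl L87700 rfl).symm
theorem L87704 : sm gf N2893 = N2509 := trf L87689 L24805 rfl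
theorem L87705 : N2509 = N3343 := eqe L87704 L24993
theorem L87706 : N3343 = N2509 := (eqc rfl L87705 rfl).symm
theorem L87708 : sm gb N2509 = N3907 := trf L87706 L27614 rfl
theorem L87709 : N3907 = N3326 := eqe L87708 L24851
theorem L87710 : N3907 = N3326 := eqc rfl L87709 rfl
theorem L87711 : sm gc N2509 = N4920 := trf L87706 L32902 rfl
theorem L87712 : N4920 = N3327 := eqe L87711 L24857
theorem L87713 : N4920 = N3327 := eqc rfl L87712 rfl
theorem L87714 : sm gd N2509 = N2782 := trf L87706 L24989 rfl
theorem L87715 : N2782 = N2223 := eqe L87714 L20626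
theorem L87716 : N2782 = N2223 := eqc rfl L87715 rfl
theorem L87718 : sm gf N2509 = N2893 := trf L87706 L24994 rfl
theorem L87719 : sm gf N2893 = N2509 := flp_f L87718
theorem L87720 : sm gg N2509 = N2517 := trf L87706 L24986 rfl
theorem L87721 : N2517 = N3328 := eqe L87720 L24863
theorem L87722 : N3328 = N2517 := (eqc rfl L87721 rfl).symm
theorem L87725 : sm gb N2517 = N2886 := trf L87722 L27089 rfl
theorem L87726 : N2886 = N2514 := eqe L87725 L20672
theorem L87727 : N2886 = N2514 := eqc rfl L87726 rfl
theorem L87728 : sm gc N2517 = N4899 := trf L87722 L32795 rfl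
theorem L87729 : N4899 = N3342 := eqe L87728 L24982
theorem L87730 : N4899 = N3342 := eqc rfl L87729 rfl
theorem L87731 : sm gd N2517 = N2758 := trf L87722 L24867 rfl
theorem L87732 : N2758 = N2235 := eqe L87731 L20668
theorem L87733 : N2758 = N2235 := eqc rfl L87732 rfl
theorem L87736 : sm gg N2517 = N2509 := trf L87722 L24864 rfl
theorem L87737 : sm gg N2509 = N2517 := flp_g L87736
theorem L87738 : sm ga N2235 = N2225 := trf L87733 L21726 rfl
theorem L87739 : N2225 = N2779 := eqe L87738 L21804
theorem L87740 : N2779 = N2225 := (eqc rfl L87739 rfl).symm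
theorem L87744 : sm gc N2235 = N3827 := trf L87733 L27192 rfl
theorem L87745 : N3827 = N2781 := eqe L87744 L21812
theorem L87746 : N3827 = N2781 := eqc rfl L87745 rfl
theorem L87750 : sm ga N2781 = N2760 := trf L87746 L27189 rfl
theorem L87751 : N2760 = N3864 := eqe L87750 L27362
theorem L87752 : N3864 = N2760 := (eqc rfl L87751 rfl).symm
theorem L87756 : sm gd N2781 = N4225 := trf L87746 L37593 L74174
theorem L87757 : N4225 = N3867 := eqe L87756 L27374
theorem L87758 : N4225 = N3867 := eqc rfl L87757 rfl
theorem L87761 : sm gg N2781 = N2757 := trf L87746 L27188 rfl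
theorem L87762 : N2757 = N3869 := eqe L87761 L27379
theorem L87763 : N3869 = N2757 := (eqc rfl L87762 rfl).symm
theorem L87775 : sm gf N2757 = N3858 := trf L87763 L27386 rfl
theorem L87776 : N3858 = N3812 := eqe L87775 L27065
theorem L87777 : N3858 = N3812 := eqc rfl L87776 rfl
theorem L87778 : sm gg N2757 = N2781 := trf L87763 L27380 rfl
theorem L87779 : sm gg N2781 = N2757 := flp_g L87778
theorem L87780 : sm ga N3812 = N2775 := trf L87777 L27335 rfl
theorem L87781 : N2775 = N2749 := eqe L87780 L27062
theorem L87782 : N2775 = N2749 := eqc rfl L87781 rfl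
theorem L87792 : N4888 = N4053 := L74425.trans L87698
theorem L87793 : sm gg N3812 = N2778 := trf L87777 L27337 rfl
theorem L87794 : N2778 = N3832 := eqe L87793 L27212
theorem L87795 : N3832 = N2778 := (eqc rfl L87794 rfl).symm
theorem L87801 : sm gd N2778 = N4220 := trf L87795 L74271 rfl
theorem L87802 : N4220 = N3863 := eqe L87801 L27355
theorem L87803 : N4220 = N3863 := eqc rfl L87802 rfl
theorem L87807 : sm gg N2778 = N3812 := trf L87795 L27211 rfl
theorem L87808 : sm gg N3812 = N2778 := flp_g L87807
theorem L87809 : sm ga N3863 = N2981 := trf L87803 L29232 rfl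
theorem L87810 : N2981 = N2780 := eqe L87809 L27357
theorem L87811 : N2981 = N2780 := eqc rfl L87810 rfl
theorem L87818 : sm ge N3863 = N6532 := trf L87803 L40993 rfl
theorem L87819 : N6532 = N6011 := eqe L87818 L37910
theorem L87820 : N6532 = N6011 := eqc rfl L87819 rfl
theorem L87821 : sm gf N3863 = N3830 := trf L87803 L74259 rfl
theorem L87822 : N3830 = N6012 := eqe L87821 L37914
theorem L87823 : N6012 = N3830 := (eqc rfl L87822 rfl).symm
theorem L87828 : N5939 = N3867 := L74174.trans L87758
theorem L87839 : sm gf N3830 = N3863 := trf L87823 L37915 rfl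
theorem L87840 : sm gf N3863 = N3830 := flp_f L87839
theorem L87841 : sm gg N3830 = N6002 := trf L87823 L37921 rfl
theorem L87842 : N6002 = N2759 := eqe L87841 L27200
theorem L87843 : N6002 = N2759 := eqc rfl L87842 rfl
theorem L87855 : sm gf N2759 = N3859 := trf L87843 L37879 rfl
theorem L87856 : N3859 = N2333 := eqe L87855 L74228
theorem L87857 : N3859 = N2333 := eqc rfl L87856 rfl
theorem L87867 : sm ge N2333 = N6001 := trf L87857 L37874 rfl
theorem L87868 : N6001 = N2941 := eqe L87867 L22694
theorem L87869 : N6001 = N2941 := eqc rfl L87868 rfl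
theorem L87881 : sm gd N2941 = N6370 := trf L87869 L40164 rfl
theorem L87882 : N6370 = N4138 := eqe L87881 L28842
theorem L87883 : N6370 = N4138 := eqc rfl L87882 rfl
theorem L87886 : sm gg N2941 = N3866 := trf L87869 L37876 rfl
theorem L87887 : N3866 = N4139 := eqe L87886 L28846
theorem L87888 : N4139 = N3866 := (eqc rfl L87887 rfl).symm
theorem L87890 : sm gb N3866 = N2780 := trf L87888 L28852 L87811
theorem L87891 : N2780 = N5446 := eqe L87890 L35327
theorem L87892 : N5446 = N2780 := (eqc rfl L87891 rfl).symm
theorem L87901 : sm gf N3866 = N6537 := trf L87888 L41014 rfl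
theorem L87902 : N6537 = N6018 := eqe L87901 L37940
theorem L87903 : N6537 = N6018 := eqc rfl L87902 rfl
theorem L87914 : N10877 = N3590 := L75164.trans L87406
theorem L87915 : sm gd N6018 = N3590 := trf L87903 L65065 L87914
theorem L87916 : N3590 = N8064 := eqe L87915 L49465
theorem L87917 : N8064 = N3590 := (eqc rfl L87916 rfl).symm
theorem L87919 : sm gg N6018 = N5938 := trf L87903 L74178 rfl
theorem L87920 : N5938 = N10030 := eqe L87919 L60112
theorem L87921 : N10030 = N5938 := (eqc rfl L87920 rfl).symm
theorem L87926 : sm gg N5938 = N6018 := trf L87921 L60113 rfl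
theorem L87927 : sm gg N6018 = N5938 := flp_g L87926
theorem L87928 : sm gd N3590 = N6018 := trf L87917 L49464 rfl
theorem L87929 : N6018 = N5447 := eqe L87928 L35331
theorem L87930 : N6018 = N5447 := eqc rfl L87929 rfl
theorem L87931 : sm ge N3590 = N4918 := trf L87917 L49466 rfl
theorem L87932 : N4918 = N4673 := eqe L87931 L31553
theorem L87933 : N4918 = N4673 := eqc rfl L87932 rfl
theorem L87946 : sm gf N4673 = N3341 := trf L87933 L32888 rfl
theorem L87947 : N3341 = N3214 := eqe L87946 L31549
theorem L87948 : N3341 = N3214 := eqc rfl L87947 rfl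
theorem L87949 : sm gg N4673 = N8066 := trf L87933 L49472 rfl
theorem L87950 : N8066 = N7577 := eqe L87949 L46777
theorem L87951 : N8066 = N7577 := eqc rfl L87950 rfl
theorem L87957 : sm gf N7577 = N6368 := trf L87951 L49479 rfl
theorem L87958 : N6368 = N7566 := eqe L87957 L46786
theorem L87959 : N6368 = N2970 := eqc rfl L87958 L87457
theorem L87960 : sm ga N2970 = N4054 := trf L87959 L40151 rfl
theorem L87961 : N4054 = N4195 := eqe L87960 L29123
theorem L87962 : N4195 = N4054 := (eqc rfl L87961 rfl).symm
theorem L87974 : sm gg N2970 = N4914 := trf L87959 L40153 rfl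
theorem L87975 : N4914 = N3698 := eqe L87974 L87525
theorem L87976 : N4914 = N3698 := eqc rfl L87975 rfl
theorem L87988 : N5684 = N3339 := L87503.trans L87681
theorem L87991 : sm gf N3698 = N8059 := trf L87976 L49438 rfl
theorem L87992 : N8059 = N5685 := eqe L87991 L36426
theorem L87993 : N8059 = N4902 := eqc rfl L87992 L87509
theorem L87999 : sm gd N4902 = N4915 := trf L87993 L49442 rfl
theorem L88000 : N4915 = N3330 := eqe L87999 L32808
theorem L88001 : N4915 = N3330 := eqc rfl L88000 rfl
theorem L88012 : sm gg N3330 = N4055 := trf L88001 L32880 rfl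
theorem L88013 : N4055 = N2510 := eqe L88012 L24876
theorem L88014 : N4055 = N2510 := eqc rfl L88013 rfl
theorem L88022 : sm gf N2510 = N2894 := trf L88014 L28403 rfl
theorem L88023 : N2894 = N3319 := eqe L88022 L24812
theorem L88024 : N3319 = N2894 := (eqc rfl L88023 rfl).symm
theorem L88026 : sm gb N2894 = N2994 := trf L88024 L32695 L74342
theorem L88027 : N2994 = N4002 := eqe L88026 L28068
theorem L88028 : N4002 = N2994 := (eqc rfl L88027 rfl).symm
theorem L88030 : N4889 = N4054 := L74432.trans L87962
theorem L88034 : sm gf N2894 = N2510 := trf L88024 L24811 rfl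
theorem L88035 : sm gf N2510 = N2894 := flp_f L88034
theorem L88051 : sm gb N2994 = N2894 := trf L88028 L28067 rfl
theorem L88052 : sm gb N2894 = N2994 := flp_b L88051
theorem L88053 : sm gc N2994 = N2861 := trf L88028 L28064 rfl
theorem L88054 : sm gc N2861 = N2994 := flp_c L88053
theorem L88064 : sm gg N2994 = N6274 := trf L88028 L39601 rfl
theorem L88065 : N6274 = N4150 := eqe L88064 L28929
theorem L88066 : N6274 = N4150 := eqc rfl L88065 rfl
theorem L88072 : N6535 = N4054 := L74591.trans L87962
theorem L88073 : sm gc N4150 = N4000 := trf L88066 L39597 rfl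
theorem L88074 : N4000 = N4882 := eqe L88073 L75236
theorem L88075 : N4882 = N4000 := (eqc rfl L88074 rfl).symm
theorem L88079 : sm ge N4150 = N5433 := trf L88066 L39598 rfl
theorem L88080 : N5433 = N2947 := eqe L88079 L28925
theorem L88081 : N5433 = N2947 := eqc rfl L88080 rfl
theorem L88082 : sm gf N4150 = N10418 := trf L88066 L62322 rfl
theorem L88083 : N10418 = N3027 := eqe L88082 L28926
theorem L88084 : N10418 = N3027 := eqc rfl L88083 rfl
theorem L88088 : sm gc N3027 = N6275 := trf L88084 L62324 rfl
theorem L88089 : N6275 = N3970 := eqe L88088 L27894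
theorem L88090 : N6275 = N3970 := eqc rfl L88089 rfl
theorem L88094 : sm gg N3027 = N10421 := trf L88084 L62348 rfl
theorem L88095 : N10421 = N3093 := eqe L88094 L23426
theorem L88096 : N10421 = N3093 := eqc rfl L88095 rfl
theorem L88101 : sm ge N3093 = N9981 := trf L88096 L62346 rfl
theorem L88102 : N9981 = N2388 := eqe L88101 L23420
theorem L88103 : N9981 = N2388 := eqc rfl L88102 rfl
theorem L88111 : sm gf N2388 = N5993 := trf L88103 L59867 rfl
theorem L88112 : N5993 = N2993 := eqe L88111 L22926
theorem L88113 : N5993 = N2993 := eqc rfl L88112 rfl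
theorem L88116 : sm gb N2993 = N6624 := trf L88113 L41416 rfl
theorem L88117 : N6624 = N4244 := eqe L88116 L29319
theorem L88118 : N6624 = N4244 := eqc rfl L88117 rfl
theorem L88126 : sm gg N2993 = N6979 := trf L88113 L43376 rfl
theorem L88127 : N6979 = N3098 := eqe L88126 L23458
theorem L88128 : N6979 = N3098 := eqc rfl L88127 rfl
theorem L88130 : sm gb N3098 = N4367 := trf L88128 L43372 rfl
theorem L88131 : N4367 = N4452 := eqe L88130 L30324
theorem L88132 : N4452 = N4367 := (eqc rfl L88131 rfl).symm
theorem L88140 : sm gf N3098 = N9985 := trf L88128 L59892 rfl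
theorem L88141 : N9985 = N2391 := eqe L88140 L23450
theorem L88142 : N9985 = N2391 := eqc rfl L88141 rfl
theorem L88144 : sm gc N2391 = N5997 := trf L88142 L59890 rfl
theorem L88145 : N5997 = N3029 := eqe L88144 L23153
theorem L88146 : N5997 = N3029 := eqc rfl L88145 rfl
theorem L88162 : sm gg N3029 = N3857 := trf L88146 L37855 rfl
theorem L88163 : N3857 = N2389 := eqe L88162 L23151
theorem L88164 : N3857 = N2389 := eqc rfl L88163 rfl
theorem L88174 : sm ge N2389 = N3997 := trf L88164 L28072 L87201
theorem L88175 : N3997 = N3095 := eqe L88174 L23431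
theorem L88176 : N3997 = N3095 := eqc rfl L88175 rfl
theorem L88182 : sm gb N3095 = N2857 := trf L88176 L28042 rfl
theorem L88183 : sm gb N2857 = N3095 := flp_b L88182
theorem L88187 : sm gd N3095 = N2861 := trf L88176 L28043 rfl
theorem L88188 : sm gd N2861 = N3095 := flp_d L88187
theorem L88192 : sm gg N3095 = N6262 := trf L88176 L39539 rfl
theorem L88193 : N6262 = N4310 := eqe L88192 L29681
theorem L88194 : N6262 = N4310 := eqc rfl L88193 rfl
theorem L88198 : sm gb N4310 = N3996 := trf L88194 L39535 rfl
theorem L88199 : sm gb N3996 = N4310 := flp_b L88198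
theorem L88203 : sm gd N4310 = N4000 := trf L88194 L39536 rfl
theorem L88204 : sm gd N4000 = N4310 := flp_d L88203
theorem L88205 : sm ge N4310 = N6812 := trf L88194 L42351 rfl
theorem L88206 : N6812 = N3029 := eqe L88205 L29675
theorem L88207 : N6812 = N3029 := eqc rfl L88206 rfl
theorem L88208 : sm gf N4310 = N10397 := trf L88194 L62188 rfl
theorem L88209 : N10397 = N4432 := eqe L88208 L30229
theorem L88210 : N10397 = N4325 := eqc rfl L88209 L75233
theorem L88221 : sm gg N4325 = N10400 := trf L88210 L62208 rfl
theorem L88222 : N10400 = N4880 := eqe L88221 L39413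
theorem L88223 : N10400 = N3933 := eqc rfl L88222 L75250
theorem L88224 : sm ga N3933 = N6265 := trf L88223 L62204 rfl
theorem L88225 : sm ga N6265 = N3933 := flp_a L88224
theorem L88230 : sm ge N3933 = N11311 := trf L88223 L67520 rfl
theorem L88231 : N11311 = N2823 := eqe L88230 L27764
theorem L88232 : N11311 = N2823 := eqc rfl L88231 rfl
theorem L88237 : sm gb N2823 = N10406 := trf L88232 L67523 rfl
theorem L88238 : N10406 = N3930 := eqe L88237 L27748
theorem L88239 : N10406 = N3930 := eqc rfl L88238 rfl
theorem L88246 : sm gg N2823 = N11308 := trf L88232 L67522 rfl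
theorem L88247 : N11308 = N3088 := eqe L88246 L23404
theorem L88248 : N11308 = N3088 := eqc rfl L88247 rfl
theorem L88255 : sm gd N3088 = N6827 := trf L88248 L67491 rfl
theorem L88256 : N6827 = N2386 := eqe L88255 L23400
theorem L88257 : N6827 = N2386 := eqc rfl L88256 rfl
theorem L88264 : sm gb N2386 = N6873 := trf L88257 L42709 rfl
theorem L88265 : N6873 = N3087 := eqe L88264 L23393
theorem L88266 : N6873 = N3087 := eqc rfl L88265 rfl
theorem L88273 : sm gf N2386 = N4280 := trf L88257 L42439 rfl
theorem L88274 : N4280 = N2359 := eqe L88273 L19902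
theorem L88275 : N4280 = N2359 := eqc rfl L88274 rfl
theorem L88280 : sm gb N2359 = N3015 := trf L88275 L29523 rfl
theorem L88281 : N3015 = N3028 := eqe L88280 L23145
theorem L88282 : N3028 = N3015 := (eqc rfl L88281 rfl).symm
theorem L88287 : sm ge N2359 = N3049 := trf L88275 L29524 rfl
theorem L88288 : N3049 = N2566 := eqe L88287 L20881
theorem L88289 : N3049 = N2566 := eqc rfl L88288 rfl
theorem L88290 : sm gg N2359 = N3016 := trf L88275 L29526 rfl
theorem L88291 : N3016 = N2264 := eqe L88290 L19786
theorem L88292 : N3016 = N2264 := eqc rfl L88291 rfl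
theorem L88296 : sm gb N2264 = N2352 := trf L88292 L23082 rfl
theorem L88297 : N2352 = N2841 := eqe L88296 L22071
theorem L88298 : N2841 = N2352 := (eqc rfl L88297 rfl).symm
theorem L88303 : sm ge N2264 = N2369 := trf L88292 L23083 rfl
theorem L88304 : N2369 = N2302 := eqe L88303 L19485
theorem L88305 : N2369 = N2302 := eqc rfl L88304 rfl
theorem L88311 : sm gb N2302 = N1855 := trf L88305 L19811 rfl
theorem L88312 : N1855 = N2915 := eqe L88311 L22550
theorem L88313 : N2742 = N1855 := (eqc rfl L88312 L75282).symm
theorem L88317 : sm gd N2302 = N2773 := trf L88305 L21784 rfl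
theorem L88318 : N2773 = N2744 := eqe L88317 L75286
theorem L88319 : N2773 = N2744 := eqc rfl L88318 rfl
theorem L88324 : sm gb N2744 = N2231 := trf L88319 L21782 rfl
theorem L88325 : N2231 = N2217 := eqe L88324 L21677
theorem L88326 : N2231 = N2217 := eqc rfl L88325 rfl
theorem L88329 : sm ge N2744 = N2861 := trf L88319 L22200 rfl
theorem L88330 : N2861 = N3314 := eqe L88329 L24776
theorem L88331 : N3314 = N2861 := (eqc rfl L88330 rfl).symm
theorem L88334 : sm gg N2744 = N3582 := trf L88319 L26084 rfl
theorem L88335 : N3582 = N3805 := eqe L88334 L27044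
theorem L88336 : N3582 = N3449 := eqc rfl L88335 L75241
theorem L88338 : sm gb N3449 = N2635 := trf L88336 L26080 rfl
theorem L88339 : N2635 = N5145 := eqe L88338 L33919
theorem L88340 : N5117 = N2635 := (eqc rfl L88339 L73584).symm
theorem L88343 : sm ge N3449 = N4000 := trf L88336 L28056 rfl
theorem L88344 : sm ge N4000 = N3449 := flp_e L88343
theorem L88346 : sm gb N2635 = N8413 := trf L88340 L51902 rfl
theorem L88347 : sm gb N8413 = N2635 := flp_b L88346
theorem L88351 : sm gd N2635 = N3436 := trf L88340 L33809 rfl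
theorem L88352 : N3436 = N2368 := eqe L88351 L21202
theorem L88353 : N3436 = N2368 := eqc rfl L88352 rfl
theorem L88357 : sm gg N2635 = N3806 := trf L88340 L51923 L73047
theorem L88358 : N3806 = N2159 := eqe L88357 L21199
theorem L88359 : N3806 = N2159 := eqc rfl L88358 rfl
theorem L88372 : sm gf N2159 = N5901 := trf L88359 L37424 rfl
theorem L88373 : N5901 = N1197 := eqe L88372 L18797
theorem L88374 : N5901 = N1197 := eqc rfl L88373 rfl
theorem L88392 : sm gg N1197 = N6819 := trf L88374 L42398 rfl
theorem L88393 : N6819 = N2180 := eqe L88392 L18883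
theorem L88394 : N6819 = N2180 := eqc rfl L88393 rfl
theorem L88398 : sm gb N2180 = N4295 := trf L88394 L42400 rfl
theorem L88399 : N4295 = N2385 := eqe L88398 L19897
theorem L88400 : N4295 = N2385 := eqc rfl L88399 rfl
theorem L88410 : sm gf N2180 = N4276 := trf L88394 L42391 rfl
theorem L88411 : N4276 = N2680 := eqe L88410 L21388
theorem L88412 : N4276 = N2680 := eqc rfl L88411 rfl
theorem L88414 : sm gb N2680 = N3013 := trf L88412 L29501 rfl
theorem L88415 : N3013 = N3685 := eqe L88414 L26537
theorem L88416 : N3685 = N3013 := (eqc rfl L88415 rfl).symm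
theorem L88417 : sm gc N2680 = N3419 := trf L88412 L34470 L72450
theorem L88418 : N3419 = N2182 := eqe L88417 L21392
theorem L88419 : N3419 = N2182 := eqc rfl L88418 rfl
theorem L88423 : sm ge N2680 = N3045 := trf L88412 L29502 rfl
theorem L88424 : N3045 = N2873 := eqe L88423 L22268
theorem L88425 : N3045 = N2873 := eqc rfl L88424 rfl
theorem L88428 : sm gb N2873 = N2366 := trf L88425 L23218 rfl
theorem L88429 : N2366 = N4029 := eqe L88428 L28223
theorem L88430 : N4029 = N2366 := (eqc rfl L88429 rfl).symm
theorem L88431 : sm gc N2873 = N4338 := trf L88425 L29788 rfl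
theorem L88432 : N4338 = N2477 := eqe L88431 L22265
theorem L88433 : N4338 = N2477 := eqc rfl L88432 rfl
theorem L88434 : sm gd N2873 = N3581 := trf L88425 L26078 rfl
theorem L88435 : N3581 = N4020 := eqe L88434 L28180
theorem L88436 : N4020 = N3581 := (eqc rfl L88435 rfl).symm
theorem L88438 : sm gg N2873 = N4340 := trf L88425 L29794 rfl
theorem L88439 : N4340 = N2859 := eqe L88438 L22269
theorem L88440 : N4340 = N2859 := eqc rfl L88439 rfl
theorem L88442 : sm gb N2859 = N4400 := trf L88440 L30045 rfl
theorem L88443 : N4400 = N3999 := eqe L88442 L28049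
theorem L88444 : N4400 = N3999 := eqc rfl L88443 rfl
theorem L88448 : sm gd N2859 = N5431 := trf L88440 L35249 rfl
theorem L88449 : N5431 = N3994 := eqe L88448 L28030
theorem L88450 : N5431 = N3994 := eqc rfl L88449 rfl
theorem L88452 : sm gf N2859 = N6939 := trf L88440 L43169 rfl
theorem L88453 : N6939 = N2280 := eqe L88452 L22189
theorem L88454 : N6939 = N2280 := eqc rfl L88453 rfl
theorem L88466 : sm gg N2280 = N6934 := trf L88454 L43173 rfl
theorem L88467 : N6934 = N2871 := eqe L88466 L22245
theorem L88468 : N6934 = N2871 := eqc rfl L88467 rfl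
theorem L88470 : sm gb N2871 = N5988 := trf L88468 L43145 rfl
theorem L88471 : N5988 = N4025 := eqe L88470 L28201
theorem L88472 : N5988 = N4025 := eqc rfl L88471 rfl
theorem L88473 : sm gc N2871 = N4519 := trf L88468 L43139 rfl
theorem L88474 : N4519 = N2475 := eqe L88473 L22249
theorem L88475 : N4519 = N2475 := eqc rfl L88474 rfl
theorem L88476 : sm gd N2871 = N6120 := trf L88468 L84370 rfl
theorem L88477 : N6120 = N4017 := eqe L88476 L28166
theorem L88478 : N6120 = N4017 := eqc rfl L88477 rfl
theorem L88481 : sm ga N4017 = N3925 := trf L88478 L38470 rfl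
theorem L88482 : N3925 = N2869 := eqe L88481 L28163
theorem L88483 : N3925 = N2869 := eqc rfl L88482 rfl
theorem L88484 : sm gb N4017 = N4317 := trf L88478 L84799 rfl
theorem L88485 : N4317 = N6307 := eqe L88484 L39792
theorem L88486 : N6307 = N4317 := (eqc rfl L88485 rfl).symm
theorem L88487 : sm gc N4017 = N3924 := trf L88478 L38469 rfl
theorem L88488 : N3924 = N6306 := eqe L88487 L39789
theorem L88489 : N6306 = N3924 := (eqc rfl L88488 rfl).symm
theorem L88490 : sm ge N4017 = N6296 := trf L88478 L39737 rfl
theorem L88491 : N6296 = N4289 := eqe L88490 L29575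
theorem L88492 : N6296 = N4289 := eqc rfl L88491 rfl
theorem L88493 : sm gf N4017 = N5429 := trf L88478 L85181 rfl
theorem L88494 : N5429 = N3996 := eqe L88493 L28167
theorem L88495 : N5429 = N3996 := eqc rfl L88494 rfl
theorem L88500 : sm gc N3996 = N6103 := trf L88495 L85178 rfl
theorem L88501 : N6103 = N6261 := eqe L88500 L39533
theorem L88502 : N6103 = N4024 := eqc rfl L88501 L71907
theorem L88507 : sm gg N3996 = N7047 := trf L88495 L43799 rfl
theorem L88508 : N7047 = N2856 := eqe L88507 L28038
theorem L88509 : N7047 = N2856 := eqc rfl L88508 rfl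
theorem L88514 : sm gc N2856 = N6124 := trf L88509 L85161 rfl
theorem L88515 : N6124 = N3995 := eqe L88514 L28033
theorem L88516 : N6124 = N2870 := eqc rfl L88515 L71625
theorem L88521 : sm gf N2856 = N6123 := trf L88509 L85163 rfl
theorem L88522 : N6123 = N2279 := eqe L88521 L22167
theorem L88523 : N6123 = N2279 := eqc rfl L88522 rfl
theorem L88528 : sm gc N2279 = N3926 := trf L88523 L38486 rfl
theorem L88529 : N3926 = N2868 := eqe L88528 L22235
theorem L88530 : N3926 = N2868 := eqc rfl L88529 rfl
theorem L88532 : sm ge N2279 = N6299 := trf L88523 L39757 rfl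
theorem L88533 : N6299 = N2354 := eqe L88532 L19765
theorem L88534 : N6299 = N2354 := eqc rfl L88533 rfl
theorem L88542 : sm gc N2354 = N4014 := trf L88534 L39754 rfl
theorem L88543 : N4014 = N3019 := eqe L88542 L23095
theorem L88544 : N4014 = N3019 := eqc rfl L88543 rfl
theorem L88549 : sm gg N2354 = N4013 := trf L88534 L39753 rfl
theorem L88550 : N4013 = N3020 := eqe L88549 L23099
theorem L88551 : N4013 = N3020 := eqc rfl L88550 rfl
theorem L88555 : sm gc N3020 = N2866 := trf L88551 L28140 rfl
theorem L88556 : N2866 = N4291 := eqe L88555 L29583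
theorem L88557 : N4291 = N2866 := (eqc rfl L88556 rfl).symm
theorem L88562 : sm gf N3020 = N3999 := trf L88551 L84949 rfl
theorem L88563 : N3999 = N4292 := eqe L88562 L29586
theorem L88564 : N4292 = N3999 := (eqc rfl L88563 rfl).symm
theorem L88565 : sm ga N3999 = N4273 := trf L88564 L29588 rfl
theorem L88566 : sm ga N4273 = N3999 := flp_a L88565
theorem L88570 : sm gd N3999 = N3026 := trf L88564 L29590 rfl
theorem L88571 : N3026 = N6258 := eqe L88570 L39519
theorem L88572 : N4306 = N3026 := (eqc rfl L88571 L71942).symm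
theorem L88574 : sm gf N3999 = N3020 := trf L88564 L29587 rfl
theorem L88575 : sm gf N3020 = N3999 := flp_f L88574
theorem L88576 : sm gg N3999 = N4271 := trf L88564 L29594 rfl
theorem L88577 : N4271 = N6272 := eqe L88576 L39584
theorem L88578 : N6272 = N4271 := (eqc rfl L88577 rfl).symm
theorem L88584 : sm gc N4271 = N6292 := trf L88578 L85159 rfl
theorem L88585 : N6292 = N6809 := eqe L88584 L42328
theorem L88586 : N6292 = N3678 := eqc rfl L88585 L71848
theorem L88587 : sm gd N4271 = N6886 := trf L88578 L84884 rfl
theorem L88588 : N6886 = N3013 := eqe L88587 L29470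
theorem L88589 : N6886 = N3013 := eqc rfl L88588 rfl
theorem L88605 : sm gf N3013 = N6891 := trf L88589 L42792 rfl
theorem L88606 : N6891 = N2355 := eqe L88605 L23069
theorem L88607 : N6891 = N2355 := eqc rfl L88606 rfl
theorem L88620 : sm gg N2355 = N4308 := trf L88607 L42791 rfl
theorem L88621 : N4308 = N3023 := eqe L88620 L23115
theorem L88622 : N4308 = N3023 := eqc rfl L88621 rfl
theorem L88625 : sm gb N3023 = N4430 := trf L88622 L30217 rfl
theorem L88626 : N4430 = N4300 := eqe L88625 L29632
theorem L88627 : N4430 = N4300 := eqc rfl L88626 rfl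
theorem L88628 : sm gc N3023 = N4572 := trf L88622 L30999 rfl
theorem L88629 : N4572 = N4299 := eqe L88628 L29627
theorem L88630 : N4572 = N4299 := eqc rfl L88629 rfl
theorem L88636 : sm gb N4299 = N4581 := trf L88630 L31051 rfl
theorem L88637 : N4581 = N6870 := eqe L88636 L42692
theorem L88638 : N6870 = N4581 := (eqc rfl L88637 rfl).symm
theorem L88639 : sm gd N4299 = N6337 := trf L88630 L45674 L84567
theorem L88640 : N6337 = N6869 := eqe L88639 L42689
theorem L88641 : N6869 = N6337 := (eqc rfl L88640 rfl).symm
theorem L88642 : sm ge N4299 = N3399 := trf L88630 L31000 L73447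
theorem L88643 : N3399 = N3064 := eqe L88642 L29628
theorem L88644 : N3399 = N3064 := eqc rfl L88643 rfl
theorem L88645 : sm gf N4299 = N3159 := trf L88630 L30997 rfl
theorem L88646 : N3159 = N4279 := eqe L88645 L29630
theorem L88647 : N4279 = N3159 := (eqc rfl L88646 rfl).symm
theorem L88649 : sm ga N3159 = N4304 := trf L88647 L29651 rfl
theorem L88650 : N4304 = N4570 := eqe L88649 L30986
theorem L88651 : N4570 = N4304 := (eqc rfl L88650 rfl).symm
theorem L88657 : sm gd N3159 = N6823 := trf L88647 L42421 rfl
theorem L88658 : N6823 = N4571 := eqe L88657 L30992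
theorem L88659 : N6823 = N4559 := eqc rfl L88658 L73533
theorem L88660 : sm ge N3159 = N3048 := trf L88647 L29520 rfl
theorem L88661 : N3048 = N2567 := eqe L88660 L23799
theorem L88662 : N3048 = N2560 := eqc rfl L88661 L73463
theorem L88663 : sm gf N3159 = N4299 := trf L88647 L29631 rfl
theorem L88664 : sm gf N4299 = N3159 := flp_f L88663
theorem L88665 : sm gg N3159 = N3014 := trf L88647 L29517 rfl
theorem L88666 : N3014 = N4573 := eqe L88665 L31002
theorem L88667 : N4573 = N3014 := (eqc rfl L88666 rfl).symm
theorem L88669 : sm gb N3014 = N4864 := trf L88667 L32596 rfl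
theorem L88670 : N4864 = N4117 := eqe L88669 L28735
theorem L88671 : N4864 = N3829 := eqc rfl L88670 L72743
theorem L88673 : sm gd N3014 = N7351 := trf L88667 L73555 rfl
theorem L88674 : N7351 = N4278 := eqe L88673 L29512
theorem L88675 : N7351 = N4278 := eqc rfl L88674 rfl
theorem L88679 : sm gf N3014 = N7381 := trf L88667 L45687 rfl
theorem L88680 : N7381 = N2356 := eqe L88679 L23075
theorem L88681 : N7381 = N2356 := eqc rfl L88680 rfl
theorem L88682 : sm gg N3014 = N3159 := trf L88667 L31003 rfl
theorem L88683 : sm gg N3159 = N3014 := flp_g L88682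
theorem L88686 : sm ge N2356 = N5122 := trf L88681 L45693 L73434
theorem L88687 : N5122 = N1859 := eqe L88686 L19772
theorem L88688 : N5122 = N1859 := eqc rfl L88687 rfl
theorem L88703 : sm gg N1859 = N5028 := trf L88688 L33838 rfl
theorem L88704 : N5028 = N2377 := eqe L88703 L19844
theorem L88705 : N5028 = N2377 := eqc rfl L88704 rfl
theorem L88711 : sm gd N2377 = N3398 := trf L88705 L33421 rfl
theorem L88712 : N3398 = N3068 := eqe L88711 L23302
theorem L88713 : N3398 = N3068 := eqc rfl L88712 rfl
theorem L88716 : sm gf N2377 = N3433 := trf L88705 L33424 rfl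
theorem L88717 : N3433 = N3070 := eqe L88716 L23307
theorem L88718 : N3433 = N3070 := eqc rfl L88717 rfl
theorem L88721 : sm gb N3070 = N4369 := trf L88718 L33769 L73310
theorem L88722 : N4369 = N4397 := eqe L88721 L30036
theorem L88723 : N4397 = N4369 := (eqc rfl L88722 rfl).symm
theorem L88725 : sm gd N3070 = N2558 := trf L88718 L25418 rfl
theorem L88726 : N2558 = N4394 := eqe L88725 L30027
theorem L88727 : N4394 = N2558 := (eqc rfl L88726 rfl).symm
theorem L88730 : sm gg N3070 = N5111 := trf L88718 L33784 rfl
theorem L88731 : N5111 = N3046 := eqe L88730 L23313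
theorem L88732 : N5111 = N3046 := eqc rfl L88731 rfl
theorem L88734 : sm gb N3046 = N8403 := trf L88732 L51853 rfl
theorem L88735 : N8403 = N4341 := eqe L88734 L29796
theorem L88736 : N8403 = N4341 := eqc rfl L88735 rfl
theorem L88738 : sm gd N3046 = N3434 := trf L88732 L33788 rfl
theorem L88739 : N3434 = N4342 := eqe L88738 L29798
theorem L88740 : N3526 = N3434 := (eqc rfl L88739 L72695).symm
theorem L88744 : sm ga N3434 = N2606 := trf L88740 L25831 rfl
theorem L88745 : N2606 = N2561 := eqe L88744 L25423
theorem L88746 : N2606 = N2561 := eqc rfl L88745 rfl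
theorem L88747 : sm gb N3434 = N5309 := trf L88740 L34710 rfl
theorem L88748 : N5309 = N5112 := eqe L88747 L33792
theorem L88749 : N5309 = N5112 := eqc rfl L88748 rfl
theorem L88750 : sm gc N3434 = N2605 := trf L88740 L25830 rfl
theorem L88751 : N2605 = N2559 := eqe L88750 L25425
theorem L88752 : N2605 = N2559 := eqc rfl L88751 rfl
theorem L88753 : sm ge N3434 = N4611 := trf L88740 L31221 rfl
theorem L88754 : N4611 = N4556 := eqe L88753 L30921
theorem L88755 : N4611 = N4556 := eqc rfl L88754 rfl
theorem L88756 : sm gf N3434 = N3063 := trf L88740 L34485 L72453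
theorem L88757 : N3063 = N3400 := eqe L88756 L25427
theorem L88758 : N3400 = N3063 := (eqc rfl L88757 rfl).symm
theorem L88764 : sm gc N3063 = N2544 := trf L88758 L25285 rfl
theorem L88765 : N2544 = N2656 := eqe L88764 L23277
theorem L88766 : N2656 = N2544 := (eqc rfl L88765 rfl).symm
theorem L88768 : sm ge N3063 = N4522 := trf L88758 L30743 rfl
theorem L88769 : N4522 = N4383 := eqe L88768 L29966
theorem L88770 : N4522 = N4341 := eqc rfl L88769 L72436
theorem L88773 : N4342 = N3434 := L72695.trans L88740
theorem L88774 : sm gg N3063 = N2543 := trf L88758 L25284 rfl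
theorem L88775 : N2543 = N4384 := eqe L88774 L29972
theorem L88776 : N4384 = N2543 := (eqc rfl L88775 rfl).symm
theorem L88779 : sm gb N2543 = N7014 := trf L88776 L43610 rfl
theorem L88780 : N7014 = N3078 := eqe L88779 L23350
theorem L88781 : N7014 = N3078 := eqc rfl L88780 rfl
theorem L88784 : sm ge N2543 = N6941 := trf L88776 L43607 L72795
theorem L88785 : N6941 = N3136 := eqe L88784 L23680
theorem L88786 : N6941 = N3136 := eqc rfl L88785 rfl
theorem L88787 : sm gf N2543 = N3529 := trf L88776 L29980 L72484
theorem L88788 : N3529 = N2121 := eqe L88787 L20790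
theorem L88789 : N3529 = N2121 := eqc rfl L88788 rfl
theorem L88790 : sm gg N2543 = N3063 := trf L88776 L29973 rfl
theorem L88791 : sm gg N3063 = N2543 := flp_g L88790
theorem L88801 : sm ge N2121 = N4614 := trf L88789 L31243 rfl
theorem L88802 : N4614 = N2419 := eqe L88801 L20107
theorem L88803 : N4614 = N2419 := eqc rfl L88802 rfl
theorem L88807 : sm ga N2419 = N7031 := trf L88803 L46140 L72404
theorem L88808 : N7031 = N3151 := eqe L88807 L23748
theorem L88809 : N7031 = N3151 := eqc rfl L88808 rfl
theorem L88820 : sm gg N2419 = N3186 := trf L88803 L31239 rfl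
theorem L88821 : N3186 = N3154 := eqe L88820 L23763
theorem L88822 : N3186 = N3154 := eqc rfl L88821 rfl
theorem L88824 : sm gb N3154 = N2510 := trf L88822 L23951 rfl
theorem L88825 : N2510 = N4561 := eqe L88824 L30940
theorem L88826 : N4561 = N2510 := (eqc rfl L88825 rfl).symm
theorem L88827 : sm gc N3154 = N2435 := trf L88822 L23948 rfl
theorem L88828 : N2435 = N2420 := eqe L88827 L23765
theorem L88829 : N2435 = N2420 := eqc rfl L88828 rfl
theorem L88830 : sm gd N3154 = N4613 := trf L88822 L31234 rfl
theorem L88831 : N4613 = N4560 := eqe L88830 L30939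
theorem L88832 : N4613 = N4560 := eqc rfl L88831 rfl
theorem L88834 : sm gf N3154 = N4595 := trf L88822 L31151 rfl
theorem L88835 : N4595 = N4562 := eqe L88834 L30946
theorem L88836 : N4595 = N4562 := eqc rfl L88835 rfl
theorem L88842 : sm gc N4562 = N3177 := trf L88836 L31145 rfl
theorem L88843 : N3177 = N3155 := eqe L88842 L30950
theorem L88844 : N3177 = N3155 := eqc rfl L88843 rfl
theorem L88850 : sm gg N4562 = N4392 := trf L88836 L45925 L72391
theorem L88851 : N4392 = N4520 := eqe L88850 L30954
theorem L88852 : N4520 = N4392 := (eqc rfl L88851 rfl).symm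
theorem L88855 : N7013 = N3136 := L72795.trans L88786
theorem L88856 : sm gb N4392 = N7262 := trf L88852 L45001 rfl
theorem L88857 : N7262 = N7030 := eqe L88856 L43704
theorem L88858 : N7262 = N7030 := eqc rfl L88857 rfl
theorem L88859 : sm gc N4392 = N3135 := trf L88852 L30727 rfl
theorem L88860 : sm gc N3135 = N4392 := flp_c L88859
theorem L88861 : sm gd N4392 = N7263 := trf L88852 L45011 rfl
theorem L88862 : N7263 = N6877 := eqe L88861 L42729
theorem L88863 : N7263 = N6877 := eqc rfl L88862 rfl
theorem L88867 : sm gg N4392 = N4562 := trf L88852 L30955 rfl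
theorem L88868 : N4562 = N3067 := eqe L88867 L30013
theorem L88869 : N4562 = N3067 := eqc rfl L88868 rfl
theorem L88872 : sm gb N3067 = N7356 := trf L88869 L45533 rfl
theorem L88873 : N7356 = N2390 := eqe L88872 L23297
theorem L88874 : N7356 = N2390 := eqc rfl L88873 rfl
theorem L88877 : N4390 = N3155 := L72366.trans L88844
theorem L88882 : N4344 = N3154 := L72772.trans L88822
theorem L88883 : sm ge N2390 = N5125 := trf L88874 L45535 rfl
theorem L88884 : N5125 = N1868 := eqe L88883 L19923
theorem L88885 : N5125 = N1868 := eqc rfl L88884 rfl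
theorem L88897 : sm gg N1868 = N8433 := trf L88885 L51993 rfl
theorem L88898 : N8433 = N2391 := eqe L88897 L19924
theorem L88899 : N8433 = N2391 := eqc rfl L88898 rfl
theorem L88900 : sm gb N2391 = N8252 := trf L88899 L51995 rfl
theorem L88901 : N8252 = N3097 := eqe L88900 L23445
theorem L88902 : N8252 = N3097 := eqc rfl L88901 rfl
theorem L88903 : sm ga N3097 = N10343 := trf L88902 L61853 rfl
theorem L88904 : N10343 = N4449 := eqe L88903 L30314
theorem L88905 : N10343 = N4449 := eqc rfl L88904 rfl
theorem L88906 : sm gc N3097 = N6243 := trf L88902 L51121 rfl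
theorem L88907 : N6243 = N4450 := eqe L88906 L30318
theorem L88908 : N6243 = N4450 := eqc rfl L88907 rfl
theorem L88909 : sm ge N3097 = N9960 := trf L88902 L59763 rfl
theorem L88910 : N9960 = N4447 := eqe L88909 L30301
theorem L88911 : N9960 = N4447 := eqc rfl L88910 rfl
theorem L88912 : sm gf N3097 = N6242 := trf L88902 L51123 rfl
theorem L88913 : N6242 = N4451 := eqe L88912 L30320
theorem L88914 : N6242 = N4451 := eqc rfl L88913 rfl
theorem L88915 : sm gg N3097 = N5027 := trf L88902 L51120 rfl
theorem L88916 : N5027 = N4393 := eqe L88915 L30021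
theorem L88917 : N5027 = N4393 := eqc rfl L88916 rfl
theorem L88918 : sm ga N4393 = N6225 := trf L88917 L38997 rfl
theorem L88919 : N6225 = N7032 := eqe L88918 L43718
theorem L88920 : N7032 = N6225 := (eqc rfl L88919 rfl).symm
theorem L88924 : sm ga N6225 = N4393 := trf L88920 L43719 rfl
theorem L88925 : sm ga N4393 = N6225 := flp_a L88924
theorem L88926 : sm gb N6225 = N11627 := trf L88920 L69253 rfl
theorem L88927 : N11627 = N10339 := eqe L88926 L61835
theorem L88928 : N11627 = N10339 := eqc rfl L88927 rfl
theorem L88932 : sm gd N6225 = N4395 := trf L88920 L43720 rfl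
theorem L88933 : N4395 = N10342 := eqe L88932 L61844
theorem L88934 : N10342 = N4395 := (eqc rfl L88933 rfl).symm
theorem L88935 : sm gf N6225 = N7137 := trf L88920 L44322 rfl
theorem L88936 : N7137 = N3985 := eqe L88935 L39000
theorem L88937 : N7137 = N3985 := eqc rfl L88936 rfl
theorem L88948 : sm gd N3985 = N4456 := trf L88937 L44320 rfl
theorem L88949 : N4456 = N6241 := eqe L88948 L39076
theorem L88950 : N6241 = N4456 := (eqc rfl L88949 rfl).symm
theorem L88951 : sm ge N3985 = N9897 := trf L88937 L73856 rfl
theorem L88952 : N9897 = N3846 := eqe L88951 L27981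
theorem L88953 : N9897 = N3846 := eqc rfl L88952 rfl
theorem L88956 : sm ga N3846 = N9895 := trf L88953 L59430 rfl
theorem L88957 : N9895 = N5975 := eqe L88956 L37732
theorem L88958 : N9895 = N5975 := eqc rfl L88957 rfl
theorem L88960 : sm gd N3846 = N11741 := trf L88953 L84100 rfl
theorem L88961 : N11741 = N5976 := eqe L88960 L37736
theorem L88962 : N11741 = N5976 := eqc rfl L88961 rfl
theorem L88963 : sm gf N3846 = N5936 := trf L88953 L59429 rfl
theorem L88964 : N5936 = N5977 := eqe L88963 L37740
theorem L88965 : N5977 = N5936 := (eqc rfl L88964 rfl).symm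
theorem L88966 : sm gg N3846 = N6178 := trf L88953 L59434 rfl
theorem L88967 : N6178 = N5978 := eqe L88966 L37744
theorem L88968 : N6178 = N5978 := eqc rfl L88967 rfl
theorem L88969 : sm ga N5978 = N5935 := trf L88968 L38776 rfl
theorem L88970 : N5935 = N9952 := eqe L88969 L59723
theorem L88971 : N9952 = N5935 := (eqc rfl L88970 rfl).symm
theorem L88972 : sm gb N5978 = N3954 := trf L88968 L38773 rfl
theorem L88973 : N3954 = N9959 := eqe L88972 L59752
theorem L88974 : N9959 = N3954 := (eqc rfl L88973 rfl).symm
theorem L88975 : sm gc N5978 = N3957 := trf L88968 L38774 rfl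
theorem L88976 : N3957 = N3854 := eqe L88975 L37746
theorem L88977 : N3957 = N3854 := eqc rfl L88976 rfl
theorem L88978 : sm gd N5978 = N7103 := trf L88968 L61462 L84137
theorem L88979 : N7103 = N9956 := eqe L88978 L59739
theorem L88980 : N9956 = N7103 := (eqc rfl L88979 rfl).symm
theorem L88985 : sm gd N7103 = N5978 := trf L88980 L59738 rfl
theorem L88986 : sm gd N5978 = N7103 := flp_d L88985
theorem L88989 : sm ga N3854 = N6185 := trf L88977 L38804 rfl
theorem L88990 : N6185 = N5989 := eqe L88989 L37795
theorem L88991 : N6185 = N5989 := eqc rfl L88990 rfl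
theorem L88992 : sm gb N3854 = N2836 := trf L88977 L27842 rfl
theorem L88993 : N2836 = N3905 := eqe L88992 L27598
theorem L88994 : N3905 = N2836 := (eqc rfl L88993 rfl).symm
theorem L88995 : sm gd N3854 = N6186 := trf L88977 L38810 rfl
theorem L88996 : N6186 = N3041 := eqe L88995 L27319
theorem L88997 : N6186 = N3041 := eqc rfl L88996 rfl
theorem L88998 : sm ge N3854 = N6129 := trf L88977 L38515 rfl
theorem L88999 : N6129 = N3986 := eqe L88998 L27988
theorem L89000 : N6129 = N3986 := eqc rfl L88999 rfl
theorem L89001 : sm gf N3854 = N6187 := trf L88977 L38814 rfl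
theorem L89002 : N6187 = N5991 := eqe L89001 L37804
theorem L89003 : N6187 = N5991 := eqc rfl L89002 rfl
theorem L89005 : sm ga N5991 = N5930 := trf L89003 L38816 rfl
theorem L89006 : N5930 = N5990 := eqe L89005 L37806
theorem L89007 : N5990 = N5930 := (eqc rfl L89006 rfl).symm
theorem L89008 : sm gb N5991 = N4024 := trf L89003 L84211 L88502
theorem L89009 : N4024 = N4412 := eqe L89008 L38709
theorem L89010 : N4412 = N4024 := (eqc rfl L89009 rfl).symm
theorem L89013 : sm gd N5991 = N6108 := trf L89003 L84061 rfl
theorem L89014 : N6108 = N4330 := eqe L89013 L37808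
theorem L89015 : N6108 = N4330 := eqc rfl L89014 rfl
theorem L89016 : sm gg N5991 = N10287 := trf L89003 L61548 rfl
theorem L89017 : N10287 = N5988 := eqe L89016 L37810
theorem L89018 : N10287 = N4025 := eqc rfl L89017 L88472
theorem L89022 : sm gc N4025 = N7030 := trf L89018 L61552 L73862
theorem L89023 : N7030 = N6322 := eqe L89022 L39888
theorem L89024 : N7030 = N6322 := eqc rfl L89023 rfl
theorem L89025 : sm gf N4025 = N10282 := trf L89018 L61555 rfl
theorem L89026 : N10282 = N5909 := eqe L89025 L39865
theorem L89027 : N10282 = N5909 := eqc rfl L89026 rfl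
theorem L89034 : sm gg N5909 = N5989 := trf L89027 L61527 L88991
theorem L89035 : N5989 = N6834 := eqe L89034 L42490
theorem L89036 : N6834 = N5989 := (eqc rfl L89035 rfl).symm
theorem L89040 : sm gb N5989 = N4284 := trf L89036 L42485 rfl
theorem L89041 : N4284 = N6184 := eqe L89040 L42940
theorem L89042 : N6184 = N4284 := (eqc rfl L89041 rfl).symm
theorem L89049 : sm ge N5989 = N4363 := trf L89036 L42486 rfl
theorem L89050 : N4363 = N6240 := eqe L89049 L39073
theorem L89051 : N6200 = N4363 := (eqc rfl L89050 L73637).symm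
theorem L89055 : sm gg N5989 = N5909 := trf L89036 L42491 rfl
theorem L89056 : N5909 = N3852 := eqe L89055 L37793
theorem L89057 : N5909 = N3852 := eqc rfl L89056 rfl
theorem L89063 : sm ge N3852 = N5646 := trf L89057 L39869 rfl
theorem L89064 : N5646 = N3984 := eqe L89063 L27978
theorem L89065 : N5646 = N3971 := eqc rfl L89064 L73620
theorem L89074 : sm gd N3971 = N4388 := trf L89065 L36234 rfl
theorem L89075 : N4388 = N2844 := eqe L89074 L27899
theorem L89076 : N4388 = N2844 := eqc rfl L89075 rfl
theorem L89077 : sm gf N3971 = N3681 := trf L89065 L36233 rfl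
theorem L89078 : N3681 = N6216 := eqe L89077 L38938
theorem L89079 : N6216 = N3681 := (eqc rfl L89078 rfl).symm
theorem L89082 : sm ga N3681 = N3978 := trf L89079 L61773 L73608
theorem L89083 : N3978 = N5644 := eqe L89082 L36224
theorem L89084 : N5644 = N3978 := (eqc rfl L89083 rfl).symm
theorem L89086 : N10332 = N4393 := L73613.trans L88917
theorem L89087 : sm gc N3681 = N4393 := trf L89079 L61785 L89086
theorem L89088 : N4393 = N5645 := eqe L89087 L36228
theorem L89089 : N5645 = N4393 := (eqc rfl L89088 rfl).symm
theorem L89090 : sm gd N3681 = N3973 := trf L89079 L38940 rfl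
theorem L89091 : N3973 = N3065 := eqe L89090 L26527
theorem L89092 : N3973 = N3065 := eqc rfl L89091 rfl
theorem L89095 : sm gf N3681 = N3971 := trf L89079 L38939 rfl
theorem L89096 : sm gf N3971 = N3681 := flp_f L89095
theorem L89097 : sm gg N3681 = N4450 := trf L89079 L73634 L88908
theorem L89098 : N4450 = N5642 := eqe L89097 L36215
theorem L89099 : N5642 = N4450 := (eqc rfl L89098 rfl).symm
theorem L89100 : sm ga N4450 = N6972 := trf L89099 L43346 rfl
theorem L89101 : N6972 = N7132 := eqe L89100 L44295
theorem L89102 : N7132 = N6972 := (eqc rfl L89101 rfl).symm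
theorem L89103 : sm gb N4450 = N3680 := trf L89099 L36211 rfl
theorem L89104 : N3680 = N6290 := eqe L89103 L85125
theorem L89105 : N6290 = N3680 := (eqc rfl L89104 rfl).symm
theorem L89109 : sm gd N4450 = N4377 := trf L89099 L36212 rfl
theorem L89110 : N4377 = N6336 := eqe L89109 L85127
theorem L89111 : N6336 = N4377 := (eqc rfl L89110 rfl).symm
theorem L89114 : N7128 = N5991 := L73799.trans L89003
theorem L89119 : sm gg N4450 = N3681 := trf L89099 L36214 rfl
theorem L89120 : N3681 = N7033 := eqe L89119 L43727
theorem L89121 : N7033 = N3681 := (eqc rfl L89120 rfl).symm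
theorem L89135 : sm gf N3681 = N11630 := trf L89121 L69267 rfl
theorem L89136 : N11630 = N3971 := eqe L89135 L89095
theorem L89137 : N11630 = N3971 := eqc rfl L89136 rfl
theorem L89138 : sm gg N3681 = N4450 := trf L89121 L43726 rfl
theorem L89139 : sm gg N4450 = N3681 := flp_g L89138
theorem L89143 : sm gc N3971 = N7034 := trf L89137 L69269 rfl
theorem L89144 : N7034 = N6215 := eqe L89143 L38934
theorem L89145 : N7034 = N6215 := eqc rfl L89144 rfl
theorem L89146 : sm gg N3971 = N10197 := trf L89137 L70258 L73805
theorem L89147 : N10197 = N6200 := eqe L89146 L38873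
theorem L89148 : N10197 = N4363 := eqc rfl L89147 L89051
theorem L89154 : sm gc N4363 = N6748 := trf L89148 L61052 rfl
theorem L89155 : N6748 = N6971 := eqe L89154 L43341
theorem L89156 : N6971 = N6748 := (eqc rfl L89155 rfl).symm
theorem L89157 : sm gd N4363 = N6920 := trf L89148 L80733 rfl
theorem L89158 : N6920 = N6080 := eqe L89157 L38251
theorem L89159 : N6920 = N6080 := eqc rfl L89158 rfl
theorem L89163 : N6240 = N4363 := L73637.trans L89051
theorem L89164 : N8021 = N6972 := L73793.trans L89102
theorem L89169 : sm gb N6080 = N5871 := trf L89159 L43063 rfl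
theorem L89170 : N5871 = N3903 := eqe L89169 L38249
theorem L89171 : N5871 = N3903 := eqc rfl L89170 rfl
theorem L89179 : sm gf N6080 = N10349 := trf L89159 L61895 rfl
theorem L89180 : N10349 = N6999 := eqe L89179 L43531
theorem L89181 : N10349 = N6999 := eqc rfl L89180 rfl
theorem L89182 : sm gg N6080 = N11331 := trf L89159 L67658 rfl
theorem L89183 : N11331 = N4388 := eqe L89182 L38253
theorem L89184 : N11331 = N2844 := eqc rfl L89183 L89076
theorem L89189 : sm ge N2844 = N6921 := trf L89184 L67653 rfl
theorem L89190 : N6921 = N3087 := eqe L89189 L23396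
theorem L89191 : N6921 = N3087 := eqc rfl L89190 rfl
theorem L89194 : sm ga N3087 = N10094 := trf L89191 L60469 rfl
theorem L89195 : N10094 = N4428 := eqe L89194 L30200
theorem L89196 : N10094 = N4258 := eqc rfl L89195 L73685
theorem L89203 : sm gd N3087 = N4329 := trf L89191 L43067 rfl
theorem L89204 : N4329 = N4429 := eqe L89203 L30206
theorem L89205 : N4329 = N4260 := eqc rfl L89204 L73676
theorem L89206 : sm gf N3087 = N7051 := trf L89191 L43829 rfl
theorem L89207 : N7051 = N4430 := eqe L89206 L30210
theorem L89208 : N7051 = N4300 := eqc rfl L89207 L88627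
theorem L89209 : sm gg N3087 = N4328 := trf L89191 L43066 rfl
theorem L89210 : N4328 = N4431 := eqe L89209 L30218
theorem L89211 : N4431 = N4328 := (eqc rfl L89210 rfl).symm
theorem L89212 : sm ga N4328 = N6784 := trf L89211 L44083 L73697
theorem L89213 : N6784 = N6917 := eqe L89212 L43048
theorem L89214 : N6917 = N6784 := (eqc rfl L89213 rfl).symm
theorem L89215 : sm gb N4328 = N3931 := trf L89211 L30224 rfl
theorem L89216 : N3931 = N6138 := eqe L89215 L38572
theorem L89217 : N4748 = N3931 := (eqc rfl L89216 L71703).symm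
theorem L89218 : sm gc N4328 = N3092 := trf L89211 L30220 rfl
theorem L89219 : N3092 = N6919 := eqe L89218 L43059
theorem L89220 : N6919 = N3092 := (eqc rfl L89219 rfl).symm
theorem L89221 : sm gd N4328 = N6789 := trf L89211 L44105 L73694
theorem L89222 : N6789 = N3040 := eqe L89221 L29751
theorem L89223 : N6789 = N3040 := eqc rfl L89222 rfl
theorem L89224 : sm ge N4328 = N3964 := trf L89211 L30222 rfl
theorem L89225 : sm ge N3964 = N4328 := flp_e L89224
theorem L89226 : sm gf N4328 = N7099 := trf L89211 L44116 rfl
theorem L89227 : N7099 = N6906 := eqe L89226 L42958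
theorem L89228 : N7099 = N6906 := eqc rfl L89227 rfl
theorem L89229 : sm gg N4328 = N3087 := trf L89211 L30219 rfl
theorem L89230 : sm gg N3087 = N4328 := flp_g L89229
theorem L89231 : sm ga N6906 = N7098 := trf L89228 L44118 rfl
theorem L89232 : N7098 = N4407 := eqe L89231 L42955
theorem L89233 : N7098 = N4407 := eqc rfl L89232 rfl
theorem L89237 : sm gc N6906 = N4442 := trf L89228 L44120 rfl
theorem L89238 : N4442 = N11447 := eqe L89237 L68341
theorem L89239 : N11447 = N4442 := (eqc rfl L89238 rfl).symm
theorem L89240 : sm gd N6906 = N6776 := trf L89228 L69853 L73703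
theorem L89241 : N6776 = N4318 := eqe L89240 L42954
theorem L89242 : N6776 = N4318 := eqc rfl L89241 rfl
theorem L89243 : sm ge N6906 = N6203 := trf L89228 L44122 rfl
theorem L89244 : N6203 = N10349 := eqe L89243 L61891
theorem L89245 : N6999 = N6203 := (eqc rfl L89244 L89181).symm
theorem L89246 : sm gg N6906 = N6770 := trf L89228 L44124 L75106
theorem L89247 : N6770 = N6067 := eqe L89246 L42959
theorem L89248 : N6770 = N6067 := eqc rfl L89247 rfl
theorem L89252 : sm gb N6067 = N4252 := trf L89248 L42071 rfl
theorem L89253 : N4252 = N3896 := eqe L89252 L38191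
theorem L89254 : N4252 = N3896 := eqc rfl L89253 rfl
theorem L89255 : sm gd N6067 = N4254 := trf L89248 L42072 rfl
theorem L89256 : N4254 = N4324 := eqe L89255 L38192
theorem L89257 : N4324 = N4254 := (eqc rfl L89256 rfl).symm
theorem L89258 : sm ge N6067 = N4503 := trf L89248 L42074 rfl
theorem L89259 : N4503 = N6231 := eqe L89258 L39029
theorem L89260 : N6231 = N4503 := (eqc rfl L89259 rfl).symm
theorem L89263 : sm gg N6067 = N11251 := trf L89248 L67095 rfl
theorem L89264 : N11251 = N6906 := eqe L89263 L42960
theorem L89265 : N11251 = N6906 := eqc rfl L89264 rfl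
theorem L89266 : N11264 = N4407 := L73706.trans L89233
theorem L89268 : sm gb N6906 = N11448 := trf L89265 L68354 rfl
theorem L89269 : N11448 = N9803 := eqe L89268 L84007
theorem L89270 : N11448 = N9803 := eqc rfl L89269 rfl
theorem L89274 : N10349 = N6203 := L89181.trans L89245
theorem L89317 : N7092 = N6067 := L75106.trans L89248
theorem L89328 : sm gg N9803 = N11252 := trf L89270 L68355 rfl
theorem L89329 : N11252 = N6061 := eqe L89328 L84014
theorem L89330 : N11252 = N6061 := eqc rfl L89329 rfl
theorem L89337 : sm ge N6061 = N7233 := trf L89330 L67105 rfl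
theorem L89338 : N7233 = N6220 := eqe L89337 L38963
theorem L89339 : N7233 = N6220 := eqc rfl L89338 rfl
theorem L89340 : sm gb N6220 = N4504 := trf L89339 L44852 rfl
theorem L89341 : N4504 = N3974 := eqe L89340 L38961
theorem L89342 : N4504 = N3974 := eqc rfl L89341 rfl
theorem L89343 : sm gd N6220 = N6227 := trf L89339 L44853 rfl
theorem L89344 : N6227 = N5877 := eqe L89343 L85233
theorem L89345 : N6227 = N5877 := eqc rfl L89344 rfl
theorem L89349 : sm gb N5877 = N3979 := trf L89345 L39007 rfl
theorem L89350 : N3979 = N4491 := eqe L89349 L83925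
theorem L89351 : N4491 = N3979 := (eqc rfl L89350 rfl).symm
theorem L89355 : sm ge N5877 = N6063 := trf L89345 L39008 rfl
theorem L89356 : N6063 = N5932 := eqe L89355 L37563
theorem L89357 : N6063 = N5932 := eqc rfl L89356 rfl
theorem L89361 : sm gg N5877 = N10344 := trf L89345 L61865 rfl
theorem L89362 : N10344 = N4896 := eqe L89361 L37333
theorem L89363 : N10344 = N4896 := eqc rfl L89362 rfl
theorem L89367 : sm gb N4896 = N6226 := trf L89363 L61859 rfl
theorem L89368 : N6226 = N8021 := eqe L89367 L49259
theorem L89369 : N6972 = N6226 := (eqc rfl L89368 L89164).symm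
theorem L89373 : sm gf N4896 = N10195 := trf L89363 L61862 rfl
theorem L89374 : N10195 = N5929 := eqe L89373 L37547
theorem L89375 : N10195 = N5929 := eqc rfl L89374 rfl
theorem L89376 : sm gb N5929 = N6128 := trf L89375 L61035 rfl
theorem L89377 : N6128 = N9880 := eqe L89376 L59338
theorem L89378 : N9880 = N6128 := (eqc rfl L89377 rfl).symm
theorem L89379 : sm ge N5929 = N6183 := trf L89375 L61036 rfl
theorem L89380 : N6183 = N5879 := eqe L89379 L37544
theorem L89381 : N6183 = N5879 := eqc rfl L89380 rfl
theorem L89382 : sm gg N5929 = N6132 := trf L89375 L61038 rfl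
theorem L89383 : N6132 = N4878 := eqe L89382 L37548
theorem L89384 : N6132 = N4878 := eqc rfl L89383 rfl
theorem L89386 : sm gb N4878 = N3929 := trf L89384 L38531 rfl
theorem L89387 : N3929 = N6139 := eqe L89386 L38581
theorem L89388 : N4751 = N3929 := (eqc rfl L89387 L71697).symm
theorem L89395 : sm ge N4878 = N3960 := trf L89384 L38532 rfl
theorem L89396 : N3960 = N3792 := eqe L89395 L32674
theorem L89397 : N3960 = N3792 := eqc rfl L89396 rfl
theorem L89402 : sm gb N3792 = N2837 := trf L89397 L27856 rfl
theorem L89403 : N2837 = N5872 := eqe L89402 L37318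
theorem L89404 : N5872 = N2837 := (eqc rfl L89403 rfl).symm
theorem L89411 : sm gf N3792 = N6195 := trf L89397 L38846 rfl
theorem L89412 : N6195 = N4878 := eqe L89411 L32677
theorem L89413 : N6195 = N4878 := eqc rfl L89412 rfl
theorem L89418 : N6139 = N3929 := L71697.trans L89388
theorem L89423 : sm gd N4878 = N6908 := trf L89413 L42993 rfl
theorem L89424 : N6908 = N6305 := eqe L89423 L84023
theorem L89425 : N6908 = N6305 := eqc rfl L89424 rfl
theorem L89427 : sm gg N4878 = N6966 := trf L89413 L43314 rfl
theorem L89428 : N6966 = N5929 := eqe L89427 L37549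
theorem L89429 : N6966 = N5929 := eqc rfl L89428 rfl
theorem L89431 : sm gb N5929 = N4360 := trf L89429 L43310 rfl
theorem L89432 : N4360 = N9880 := eqe L89431 L59338
theorem L89433 : N6128 = N4360 := (eqc rfl L89432 L89378).symm
theorem L89437 : sm gd N5929 = N6171 := trf L89429 L43311 rfl
theorem L89438 : N6171 = N9881 := eqe L89437 L59346
theorem L89439 : N9881 = N6171 := (eqc rfl L89438 rfl).symm
theorem L89441 : sm gf N5929 = N10278 := trf L89429 L61503 rfl
theorem L89442 : N10278 = N4896 := eqe L89441 L37546
theorem L89443 : N10278 = N4896 := eqc rfl L89442 rfl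
theorem L89447 : N8021 = N6226 := L89164.trans L89369
theorem L89448 : sm gd N4896 = N10260 := trf L89443 L61500 rfl
theorem L89449 : N10260 = N8022 := eqe L89448 L49265
theorem L89450 : N10260 = N8022 := eqc rfl L89449 rfl
theorem L89452 : sm ga N8022 = N7073 := trf L89450 L61394 rfl
theorem L89453 : N7073 = N9805 := eqe L89452 L58752
theorem L89454 : N9805 = N7073 := (eqc rfl L89453 rfl).symm
theorem L89457 : sm gc N8022 = N6323 := trf L89450 L61396 rfl
theorem L89458 : N6323 = N6985 := eqe L89457 L85227
theorem L89459 : N6985 = N6323 := (eqc rfl L89458 rfl).symm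
theorem L89460 : sm ge N8022 = N7081 := trf L89450 L61398 rfl
theorem L89461 : N7081 = N9803 := eqe L89460 L84011
theorem L89462 : N9803 = N7081 := (eqc rfl L89461 rfl).symm
theorem L89465 : sm gg N8022 = N6910 := trf L89450 L61400 rfl
theorem L89466 : N6910 = N6220 := eqe L89465 L85236
theorem L89467 : N6910 = N6220 := eqc rfl L89466 rfl
theorem L89480 : sm gf N6220 = N4320 := trf L89467 L42982 rfl
theorem L89481 : N4320 = N4315 := eqe L89480 L38964
theorem L89482 : N4320 = N4315 := eqc rfl L89481 rfl
theorem L89483 : sm ga N4315 = N6305 := trf L89482 L42969 L89425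
theorem L89484 : N6305 = N6901 := eqe L89483 L42836
theorem L89485 : N6901 = N6305 := (eqc rfl L89484 rfl).symm
theorem L89486 : sm gb N4315 = N3036 := trf L89482 L29721 rfl
theorem L89487 : N3036 = N3033 := eqe L89486 L29699
theorem L89488 : N3036 = N3033 := eqc rfl L89487 rfl
theorem L89492 : sm gg N4315 = N6907 := trf L89482 L42966 rfl
theorem L89493 : N6907 = N5931 := eqe L89492 L83975
theorem L89494 : N6907 = N5931 := eqc rfl L89493 rfl
theorem L89497 : sm gb N5931 = N4319 := trf L89494 L42962 rfl
theorem L89498 : N4319 = N6775 := eqe L89497 L84040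
theorem L89499 : N6775 = N4319 := (eqc rfl L89498 rfl).symm
theorem L89506 : sm gb N4319 = N5931 := trf L89499 L84039 rfl
theorem L89507 : sm gb N5931 = N4319 := flp_b L89506
theorem L89514 : sm gf N4319 = N4261 := trf L89499 L42122 rfl
theorem L89515 : N4261 = N4327 := eqe L89514 L29749
theorem L89516 : N4327 = N4261 := (eqc rfl L89515 rfl).symm
theorem L89517 : sm gg N4319 = N6781 := trf L89499 L42153 rfl
theorem L89518 : N6781 = N3035 := eqe L89517 L29719
theorem L89519 : N6781 = N3035 := eqc rfl L89518 rfl
theorem L89520 : sm ga N3035 = N10156 := trf L89519 L60801 rfl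
theorem L89521 : N10156 = N4317 := eqe L89520 L29706
theorem L89522 : N10156 = N4317 := eqc rfl L89521 rfl
theorem L89523 : sm gb N3035 = N4257 := trf L89519 L42149 rfl
theorem L89524 : N4257 = N2362 := eqe L89523 L23188
theorem L89525 : N4257 = N2362 := eqc rfl L89524 rfl
theorem L89531 : sm gf N3035 = N11259 := trf L89519 L67158 rfl
theorem L89532 : N11259 = N2364 := eqe L89531 L23189
theorem L89533 : N11259 = N2364 := eqc rfl L89532 rfl
theorem L89534 : sm ga N2364 = N6791 := trf L89533 L67161 rfl
theorem L89535 : N6791 = N3039 := eqe L89534 L23205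
theorem L89536 : N6791 = N3039 := eqc rfl L89535 rfl
theorem L89539 : sm ge N2364 = N6914 := trf L89533 L67153 rfl
theorem L89540 : N6914 = N3005 := eqe L89539 L23010
theorem L89541 : N6914 = N3005 := eqc rfl L89540 rfl
theorem L89542 : N6788 = N3041 := L75455.trans L88997
theorem L89551 : sm gg N3005 = N4326 := trf L89541 L43015 rfl
theorem L89552 : N4326 = N4262 := eqe L89551 L29418
theorem L89553 : N4326 = N4262 := eqc rfl L89552 rfl
theorem L89556 : sm gb N4262 = N3955 := trf L89553 L29743 rfl
theorem L89557 : N3955 = N4286 := eqe L89556 L29555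
theorem L89558 : N4286 = N3955 := (eqc rfl L89557 rfl).symm
theorem L89563 : sm gf N4262 = N3942 := trf L89553 L29740 rfl
theorem L89564 : N3942 = N6792 := eqe L89563 L42220
theorem L89565 : N6792 = N3942 := (eqc rfl L89564 rfl).symm
theorem L89574 : sm gf N3942 = N4262 := trf L89565 L42221 rfl
theorem L89575 : sm gf N4262 = N3942 := flp_f L89574
theorem L89576 : sm gg N3942 = N6774 := trf L89565 L42226 rfl
theorem L89577 : N6774 = N6155 := eqe L89576 L38650
theorem L89578 : N6774 = N6155 := eqc rfl L89577 rfl
theorem L89581 : N10411 = N4289 := L84340.trans L88492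
theorem L89582 : sm gb N6155 = N4289 := trf L89578 L62275 L89581
theorem L89583 : N4289 = N6207 := eqe L89582 L38905
theorem L89584 : N6207 = N4289 := (eqc rfl L89583 rfl).symm
theorem L89595 : sm gb N4289 = N6155 := trf L89584 L38904 rfl
theorem L89596 : N6155 = N6847 := eqe L89595 L42566
theorem L89597 : N6847 = N6155 := (eqc rfl L89596 rfl).symm
theorem L89598 : sm gc N4289 = N10251 := trf L89584 L61347 rfl
theorem L89599 : N10251 = N6846 := eqe L89598 L42561
theorem L89600 : N10251 = N5643 := eqc rfl L89599 L71812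
theorem L89609 : sm gg N4289 = N3966 := trf L89584 L38903 rfl
theorem L89610 : N3966 = N3018 := eqe L89609 L29569
theorem L89611 : N3966 = N3018 := eqc rfl L89610 rfl
theorem L89615 : sm gb N3018 = N2840 := trf L89611 L27882 rfl
theorem L89616 : N2840 = N4287 := eqe L89615 L29556
theorem L89617 : N4287 = N2840 := (eqc rfl L89616 rfl).symm
theorem L89624 : sm ge N3018 = N6137 := trf L89611 L38559 rfl
theorem L89625 : N6137 = N2867 := eqe L89624 L23093
theorem L89626 : N6137 = N2867 := eqc rfl L89625 rfl
theorem L89627 : sm gf N3018 = N3071 := trf L89611 L27883 rfl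
theorem L89628 : N3071 = N4271 := eqe L89627 L29475
theorem L89629 : N4271 = N3071 := (eqc rfl L89628 rfl).symm
theorem L89630 : sm ga N3071 = N3010 := trf L89629 L29469 rfl
theorem L89631 : N3010 = N4398 := eqe L89630 L30038
theorem L89632 : N4398 = N3010 := (eqc rfl L89631 rfl).symm
theorem L89634 : sm gc N3071 = N3678 := trf L89629 L42328 L71848
theorem L89635 : N3678 = N4399 := eqe L89634 L30040
theorem L89636 : N4399 = N3678 := (eqc rfl L89635 rfl).symm
theorem L89639 : sm ge N3071 = N3994 := trf L89629 L29472 rfl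
theorem L89640 : N3994 = N4305 := eqe L89639 L29661
theorem L89641 : N4305 = N3994 := (eqc rfl L89640 rfl).symm
theorem L89642 : sm gf N3071 = N3018 := trf L89629 L29474 rfl
theorem L89643 : sm gf N3018 = N3071 := flp_f L89642
theorem L89649 : N6258 = N3026 := L71942.trans L88572
theorem L89654 : sm ge N3994 = N3071 := trf L89641 L29660 rfl
theorem L89655 : sm ge N3071 = N3994 := flp_e L89654
theorem L89657 : sm gg N3994 = N6882 := trf L89641 L42752 rfl
theorem L89658 : N6882 = N4020 := eqe L89657 L28182
theorem L89659 : N6882 = N3581 := eqc rfl L89658 L88436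
theorem L89669 : sm gf N3581 = N11427 := trf L89659 L68233 rfl
theorem L89670 : N11427 = N5430 := eqe L89669 L35240
theorem L89671 : N5430 = N2869 := L71861.trans L88483
theorem L89672 : N11427 = N2869 := eqc rfl L89670 L89671
theorem L89678 : sm gg N2869 = N10213 := trf L89672 L68239 rfl
theorem L89679 : N10213 = N2279 := eqe L89678 L22238
theorem L89680 : N10213 = N2279 := eqc rfl L89679 rfl
theorem L89682 : sm gb N2279 = N11240 := trf L89680 L67026 rfl
theorem L89683 : N11240 = N1530 := eqe L89682 L19353
theorem L89684 : N11240 = N1530 := eqc rfl L89683 rfl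
theorem L89691 : sm ge N1530 = N6964 := trf L89684 L67021 rfl
theorem L89692 : N6964 = N1826 := eqe L89691 L18419
theorem L89693 : N6964 = N1826 := eqc rfl L89692 rfl
theorem L89704 : sm gf N1826 = N4357 := trf L89693 L43290 rfl
theorem L89705 : N4357 = N923 := eqe L89704 L9272
theorem L89706 : N4357 = N923 := eqc rfl L89705 rfl
theorem L89719 : sm gg N923 = N4356 := trf L89706 L42929 rfl
theorem L89720 : N4356 = N1528 := eqe L89719 L12405
theorem L89721 : N4356 = N1528 := eqc rfl L89720 rfl
theorem L89733 : sm gf N1528 = N6851 := trf L89721 L43281 L71879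
theorem L89734 : N6851 = N2278 := eqe L89733 L19340
theorem L89735 : N6851 = N2278 := eqc rfl L89734 rfl
theorem L89740 : sm ge N2278 = N6310 := trf L89735 L42584 rfl
theorem L89741 : N6310 = N2252 := eqe L89740 L19348
theorem L89742 : N6310 = N2252 := eqc rfl L89741 rfl
theorem L89748 : sm gd N2252 = N10484 := trf L89742 L62717 rfl
theorem L89749 : N10484 = N1454 := eqe L89748 L19210
theorem L89750 : N10484 = N1454 := eqc rfl L89749 rfl
theorem L89753 : sm gb N1454 = N6309 := trf L89750 L62715 rfl
theorem L89754 : N6309 = N2253 := eqe L89753 L19214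
theorem L89755 : N6309 = N2253 := eqc rfl L89754 rfl
theorem L89769 : sm gg N2253 = N4018 := trf L89755 L39799 rfl
theorem L89770 : N4018 = N2822 := eqe L89769 L22007
theorem L89771 : N4018 = N2822 := eqc rfl L89770 rfl
theorem L89780 : sm gf N2822 = N4015 := trf L89771 L39529 L71634
theorem L89781 : N4015 = N3932 := eqe L89780 L27755
theorem L89782 : N4015 = N3932 := eqc rfl L89781 rfl
theorem L89783 : sm ga N3932 = N3937 := trf L89782 L39768 L71712
theorem L89784 : N3937 = N3921 := eqe L89783 L27757
theorem L89785 : N3937 = N3921 := eqc rfl L89784 rfl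
theorem L89788 : sm gc N3932 = N3936 := trf L89782 L39772 L71718
theorem L89789 : N3936 = N6136 := eqe L89788 L38551
theorem L89790 : N6136 = N3936 := (eqc rfl L89789 rfl).symm
theorem L89796 : sm gg N3932 = N6304 := trf L89782 L39778 rfl
theorem L89797 : N6304 = N3919 := eqe L89796 L27761
theorem L89798 : N6304 = N3919 := eqc rfl L89797 rfl
theorem L89809 : sm ge N3919 = N6843 := trf L89798 L42547 rfl
theorem L89810 : N6843 = N2830 := eqe L89809 L27687
theorem L89811 : N6843 = N2830 := eqc rfl L89810 rfl
theorem L89821 : sm gd N2830 = N4296 := trf L89811 L42544 rfl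
theorem L89822 : N4296 = N3077 := eqe L89821 L23342
theorem L89823 : N4296 = N3077 := eqc rfl L89822 rfl
theorem L89824 : sm gf N2830 = N11361 := trf L89811 L67841 rfl
theorem L89825 : N11361 = N2261 := eqe L89824 L22031
theorem L89826 : N11361 = N2261 := eqc rfl L89825 rfl
theorem L89831 : sm gd N2261 = N6863 := trf L89826 L67845 rfl
theorem L89832 : N6863 = N2383 := eqe L89831 L19887
theorem L89833 : N6863 = N2383 := eqc rfl L89832 rfl
theorem L89846 : sm ge N2383 = N4378 := trf L89833 L42656 rfl
theorem L89847 : N4378 = N2874 := eqe L89846 L22274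
theorem L89848 : N4378 = N2874 := eqc rfl L89847 rfl
theorem L89850 : sm gg N2383 = N6855 := trf L89833 L42658 rfl
theorem L89851 : N6855 = N3083 := eqe L89850 L23367
theorem L89852 : N6855 = N3083 := eqc rfl L89851 rfl
theorem L89859 : sm ge N3083 = N4370 := trf L89852 L42612 rfl
theorem L89860 : N4370 = N4026 := eqe L89859 L28208
theorem L89861 : N4370 = N4026 := eqc rfl L89860 rfl
theorem L89862 : sm gf N3083 = N4293 := trf L89852 L42609 rfl
theorem L89863 : N4293 = N3079 := eqe L89862 L23373
theorem L89864 : N4293 = N3079 := eqc rfl L89863 rfl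
theorem L89865 : sm ga N3079 = N3021 := trf L89864 L29597 rfl
theorem L89866 : N3021 = N3086 := eqe L89865 L23388
theorem L89867 : N3086 = N3021 := (eqc rfl L89866 rfl).symm
theorem L89868 : sm gb N3079 = N4021 := trf L89864 L29600 rfl
theorem L89869 : N4021 = N4411 := eqe L89868 L30120
theorem L89870 : N4411 = N4021 := (eqc rfl L89869 rfl).symm
theorem L89871 : sm gc N3079 = N6854 := trf L89864 L42602 rfl
theorem L89872 : N6854 = N4410 := eqe L89871 L30119
theorem L89873 : N6854 = N4410 := eqc rfl L89872 rfl
theorem L89877 : sm ge N3079 = N3058 := trf L89864 L29598 rfl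
theorem L89878 : N3058 = N4035 := eqe L89877 L28262
theorem L89879 : N4035 = N3058 := (eqc rfl L89878 rfl).symm
theorem L89880 : sm gg N3079 = N6856 := trf L89864 L42614 rfl
theorem L89881 : N6856 = N2381 := eqe L89880 L23352
theorem L89882 : N6856 = N2381 := eqc rfl L89881 rfl
theorem L89891 : sm ge N2381 = N4371 := trf L89882 L42618 rfl
theorem L89892 : N4371 = N2876 := eqe L89891 L22284
theorem L89893 : N4371 = N2876 := eqc rfl L89892 rfl
theorem L89895 : sm ga N2876 = N3061 := trf L89893 L29926 rfl
theorem L89896 : N3061 = N4032 := eqe L89895 L28240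
theorem L89897 : N4032 = N3061 := (eqc rfl L89896 rfl).symm
theorem L89901 : sm gc N2876 = N6984 := trf L89893 L43404 rfl
theorem L89902 : N6984 = N4034 := eqe L89901 L28252
theorem L89903 : N6984 = N4034 := eqc rfl L89902 rfl
theorem L89904 : sm gd N2876 = N5640 := trf L89893 L36203 rfl
theorem L89905 : N5640 = N4009 := eqe L89904 L28110
theorem L89906 : N5640 = N4009 := eqc rfl L89905 rfl
theorem L89907 : sm gf N2876 = N4376 := trf L89893 L29944 rfl
theorem L89908 : N4376 = N2282 := eqe L89907 L22282
theorem L89909 : N4376 = N2282 := eqc rfl L89908 rfl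
theorem L89920 : sm gg N2282 = N3060 := trf L89909 L29943 rfl
theorem L89921 : N3060 = N2872 := eqe L89920 L22260
theorem L89922 : N3060 = N2872 := eqc rfl L89921 rfl
theorem L89925 : sm gc N2872 = N4374 := trf L89922 L29937 rfl
theorem L89926 : N4374 = N4027 := eqe L89925 L28211
theorem L89927 : N4374 = N4027 := eqc rfl L89926 rfl
theorem L89929 : sm gf N2872 = N2373 := trf L89922 L23268 rfl
theorem L89930 : N2373 = N4028 := eqe L89929 L28219
theorem L89931 : N4028 = N2373 := (eqc rfl L89930 rfl).symm
theorem L89939 : sm gd N2373 = N6300 := trf L89931 L39763 rfl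
theorem L89940 : N6300 = N2677 := eqe L89939 L21375
theorem L89941 : N6300 = N2677 := eqc rfl L89940 rfl
theorem L89943 : sm gf N2373 = N2872 := trf L89931 L28220 rfl
theorem L89944 : sm gf N2872 = N2373 := flp_f L89943
theorem L89947 : sm gb N2677 = N5263 := trf L89941 L85149 rfl
theorem L89948 : N5263 = N2178 := eqe L89947 L21373
theorem L89949 : N5263 = N2178 := eqc rfl L89948 rfl
theorem L89968 : sm gg N2178 = N8662 := trf L89949 L53132 rfl
theorem L89969 : N8662 = N2678 := eqe L89968 L21376
theorem L89970 : N8662 = N2678 := eqc rfl L89969 rfl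
theorem L89974 : sm gf N2678 = N9556 := trf L89970 L57589 rfl
theorem L89975 : N9556 = N2635 := eqe L89974 L21384
theorem L89976 : N9556 = N2635 := eqc rfl L89975 rfl
theorem L89981 : sm gg N2635 = N5763 := trf L89976 L57590 rfl
theorem L89982 : N5763 = N2159 := eqe L89981 L21199
theorem L89983 : N5763 = N2159 := eqc rfl L89982 rfl
theorem L89990 : sm ge N2159 = N7945 := trf L89983 L48811 rfl
theorem L89991 : N7945 = N2274 := eqe L89990 L19311
theorem L89992 : N7945 = N2274 := eqc rfl L89991 rfl
theorem L89996 : sm gc N2274 = N4849 := trf L89992 L48809 rfl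
theorem L89997 : N4849 = N2028 := eqe L89996 L19312
theorem L89998 : N4849 = N2028 := eqc rfl L89997 rfl
theorem L90014 : sm gg N2028 = N4194 := trf L89998 L48765 L87313
theorem L90015 : N4194 = N2448 := eqe L90014 L20252
theorem L90016 : N4194 = N2448 := eqc rfl L90015 rfl
theorem L90025 : sm gg N2448 = N6649 := trf L90016 L41546 rfl
theorem L90026 : N6649 = N2028 := eqe L90025 L20253
theorem L90027 : N6649 = N2028 := eqc rfl L90026 rfl
theorem L90039 : sm gf N2028 = N7906 := trf L90027 L74700 rfl
theorem L90040 : N7906 = N1037 := eqe L90039 L10347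
theorem L90041 : N7906 = N1037 := eqc rfl L90040 rfl
theorem L90051 : sm gg N1037 = N6936 := trf L90041 L48550 rfl
theorem L90052 : N6936 = N2043 := eqe L90051 L10438
theorem L90053 : N6936 = N2043 := eqc rfl L90052 rfl
theorem L90059 : sm gd N2043 = N6690 := trf L90053 L68498 L74712
theorem L90060 : N6690 = N2468 := eqe L90059 L20362
theorem L90061 : N6690 = N2468 := eqc rfl L90060 rfl
theorem L90065 : sm ga N2468 = N4216 := trf L90061 L41732 rfl
theorem L90066 : N4216 = N3250 := eqe L90065 L24416
theorem L90067 : N4216 = N3250 := eqc rfl L90066 rfl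
theorem L90068 : sm gb N2468 = N6344 := trf L90061 L61449 rfl
theorem L90069 : N6344 = N3253 := eqe L90068 L24427
theorem L90070 : N6344 = N3253 := eqc rfl L90069 rfl
theorem L90071 : sm gc N2468 = N6130 := trf L90061 L84769 rfl
theorem L90072 : N6130 = N3252 := eqe L90071 L24426
theorem L90073 : N6130 = N3252 := eqc rfl L90072 rfl
theorem L90074 : sm ge N2468 = N7070 := trf L90061 L43959 rfl
theorem L90075 : N7070 = N3242 := eqe L90074 L24376
theorem L90076 : N7070 = N3242 := eqc rfl L90075 rfl
theorem L90077 : sm gf N2468 = N4214 := trf L90061 L41731 rfl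
theorem L90078 : N4214 = N3254 := eqe L90077 L24433
theorem L90079 : N4214 = N3254 := eqc rfl L90078 rfl
theorem L90083 : sm gb N3254 = N6432 := trf L90079 L40475 rfl
theorem L90084 : N6432 = N4759 := eqe L90083 L32029
theorem L90085 : N6432 = N4759 := eqc rfl L90084 rfl
theorem L90086 : sm gc N3254 = N4030 := trf L90079 L38767 rfl
theorem L90087 : N4030 = N4755 := eqe L90086 L32012
theorem L90088 : N4755 = N4030 := (eqc rfl L90087 rfl).symm
theorem L90089 : sm ge N3254 = N4416 := trf L90079 L38762 rfl
theorem L90090 : N4416 = N4729 := eqe L90089 L31872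
theorem L90091 : N4729 = N4416 := (eqc rfl L90090 rfl).symm
theorem L90092 : sm gg N3254 = N6691 := trf L90079 L41736 rfl
theorem L90093 : N6691 = N3203 := eqe L90092 L24439
theorem L90094 : N6691 = N3203 := eqc rfl L90093 rfl
theorem L90101 : sm ge N3203 = N7071 := trf L90094 L43967 rfl
theorem L90102 : N7071 = N4638 := eqe L90101 L31373
theorem L90103 : N7071 = N4638 := eqc rfl L90102 rfl
theorem L90111 : sm gc N4638 = N4418 := trf L90103 L43964 rfl
theorem L90112 : sm gc N4418 = N4638 := flp_c L90111
theorem L90113 : sm gd N4638 = N5059 := trf L90103 L74801 rfl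
theorem L90114 : N5059 = N3553 := eqe L90113 L31370
theorem L90115 : N5059 = N3553 := eqc rfl L90114 rfl
theorem L90116 : sm gf N4638 = N10863 := trf L90103 L64956 rfl
theorem L90117 : N10863 = N3240 := eqe L90116 L31374
theorem L90118 : N10863 = N3240 := eqc rfl L90117 rfl
theorem L90125 : sm gc N3240 = N6918 := trf L90118 L64952 rfl
theorem L90126 : N6918 = N4724 := eqe L90125 L31833
theorem L90127 : N6918 = N4724 := eqc rfl L90126 rfl
theorem L90129 : sm gg N3240 = N6529 := trf L90118 L64951 rfl
theorem L90130 : N6529 = N4725 := eqe L90129 L31839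
theorem L90131 : N6529 = N4725 := eqc rfl L90130 rfl
theorem L90133 : sm gb N4725 = N7237 := trf L90131 L64463 L75037
theorem L90134 : N7237 = N7680 := eqe L90133 L47344
theorem L90135 : N7237 = N6500 := eqc rfl L90134 L71438
theorem L90136 : sm gc N4725 = N6134 := trf L90131 L43911 L75394
theorem L90137 : N6134 = N7679 := eqe L90136 L47339
theorem L90138 : N6276 = N6134 := (eqc rfl L90137 L71441).symm
theorem L90139 : sm gd N4725 = N8195 := trf L90131 L64763 L74764
theorem L90140 : N8195 = N3607 := eqe L90139 L31843
theorem L90141 : N8195 = N3607 := eqc rfl L90140 rfl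
theorem L90145 : sm ga N3607 = N5000 := trf L90141 L50833 rfl
theorem L90146 : N5000 = N2647 := eqe L90145 L26181
theorem L90147 : N5000 = N2647 := eqc rfl L90146 rfl
theorem L90148 : sm gc N3607 = N4999 := trf L90141 L50832 rfl
theorem L90149 : N4999 = N5481 := eqe L90148 L35485
theorem L90150 : N5481 = N4999 := (eqc rfl L90149 rfl).symm
theorem L90151 : sm ge N3607 = N5007 := trf L90141 L50835 L73115
theorem L90152 : N5007 = N2655 := eqe L90151 L26183
theorem L90153 : N5007 = N2655 := eqc rfl L90152 rfl
theorem L90154 : sm gf N3607 = N5056 := trf L90141 L50837 rfl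
theorem L90155 : N5056 = N3555 := eqe L90154 L26185
theorem L90156 : N5056 = N3555 := eqc rfl L90155 rfl
theorem L90157 : sm gg N3607 = N8304 := trf L90141 L51382 rfl
theorem L90158 : N8304 = N2645 := eqe L90157 L26180
theorem L90159 : N8304 = N2645 := eqc rfl L90158 rfl
theorem L90166 : sm ge N2645 = N5079 := trf L90159 L51379 rfl
theorem L90167 : N5079 = N2169 := eqe L90166 L21236
theorem L90168 : N5079 = N2169 := eqc rfl L90167 rfl
theorem L90176 : sm gc N2169 = N3421 := trf L90168 L33650 rfl
theorem L90177 : N3421 = N2654 := eqe L90176 L21270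
theorem L90178 : N3421 = N2654 := eqc rfl L90177 rfl
theorem L90182 : sm gf N2169 = N3420 := trf L90168 L33647 rfl
theorem L90183 : N3420 = N2625 := eqe L90182 L21157
theorem L90184 : N3420 = N2625 := eqc rfl L90183 rfl
theorem L90185 : N5008 = N2655 := L73115.trans L90153
theorem L90193 : sm gc N2625 = N2553 := trf L90184 L25363 rfl
theorem L90194 : sm gc N2553 = N2625 := flp_c L90193
theorem L90199 : sm gg N2625 = N2552 := trf L90184 L25362 rfl
theorem L90200 : N2552 = N2659 := eqe L90199 L21301
theorem L90201 : N2659 = N2552 := (eqc rfl L90200 rfl).symm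
theorem L90215 : sm gf N2552 = N2171 := trf L90201 L21295 rfl
theorem L90216 : N2171 = N3390 := eqe L90215 L25244
theorem L90217 : N3390 = N2171 := (eqc rfl L90216 rfl).symm
theorem L90218 : sm gg N2552 = N2625 := trf L90201 L21300 rfl
theorem L90219 : sm gg N2625 = N2552 := flp_g L90218
theorem L90221 : sm gb N2171 = N3545 := trf L90217 L33277 L74751
theorem L90222 : N3545 = N2658 := eqe L90221 L21288
theorem L90223 : N3545 = N2658 := eqc rfl L90222 rfl
theorem L90224 : sm gc N2171 = N2538 := trf L90217 L25242 rfl
theorem L90225 : N2538 = N2657 := eqe L90224 L21287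
theorem L90226 : N2657 = N2538 := (eqc rfl L90225 rfl).symm
theorem L90229 : sm gf N2171 = N2552 := trf L90217 L25243 rfl
theorem L90230 : sm gf N2552 = N2171 := flp_f L90229
theorem L90238 : sm gc N2538 = N2171 := trf L90226 L21286 rfl
theorem L90239 : sm gc N2171 = N2538 := flp_c L90238
theorem L90240 : sm ge N2538 = N3609 := trf L90226 L26194 rfl
theorem L90241 : N3609 = N3385 := eqe L90240 L25212
theorem L90242 : N3609 = N3385 := eqc rfl L90241 rfl
theorem L90245 : sm gg N2538 = N2170 := trf L90226 L21285 rfl
theorem L90246 : N2170 = N3391 := eqe L90245 L25245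
theorem L90247 : N3391 = N2170 := (eqc rfl L90246 rfl).symm
theorem L90258 : sm gf N2170 = N3418 := trf L90247 L25356 rfl
theorem L90259 : N3418 = N2626 := eqe L90258 L21161
theorem L90260 : N3418 = N2626 := eqc rfl L90259 rfl
theorem L90261 : sm gg N2170 = N2538 := trf L90247 L25246 rfl
theorem L90262 : sm gg N2538 = N2170 := flp_g L90261
theorem L90263 : sm ga N2626 = N2553 := trf L90260 L25351 rfl
theorem L90264 : N2553 = N8127 := eqe L90263 L82876
theorem L90265 : N8127 = N2553 := (eqc rfl L90264 rfl).symm
theorem L90266 : sm gb N2626 = N5074 := trf L90260 L33628 rfl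
theorem L90267 : N5074 = N3546 := eqe L90266 L25938
theorem L90268 : N5074 = N3546 := eqc rfl L90267 rfl
theorem L90272 : N3563 = N2559 := L72425.trans L88752
theorem L90273 : sm ge N2626 = N5057 := trf L90260 L33541 rfl
theorem L90274 : N5057 = N3554 := eqe L90273 L25962
theorem L90275 : N5057 = N3554 := eqc rfl L90274 rfl
theorem L90276 : sm gg N2626 = N2551 := trf L90260 L25350 rfl
theorem L90277 : N2551 = N3564 := eqe L90276 L26007
theorem L90278 : N3564 = N2551 := (eqc rfl L90277 rfl).symm
theorem L90288 : sm ge N2551 = N5372 := trf L90278 L34977 rfl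
theorem L90289 : N5372 = N3410 := eqe L90288 L25316
theorem L90290 : N5372 = N3410 := eqc rfl L90289 rfl
theorem L90292 : sm gg N2551 = N2626 := trf L90278 L26008 rfl
theorem L90293 : sm gg N2626 = N2551 := flp_g L90292
theorem L90302 : sm gd N3410 = N8868 := trf L90290 L54178 rfl
theorem L90303 : N8868 = N4532 := eqe L90302 L30791
theorem L90304 : N8868 = N4532 := eqc rfl L90303 rfl
theorem L90314 : sm gg N4532 = N5371 := trf L90304 L54176 rfl
theorem L90315 : N5371 = N7292 := eqe L90314 L45179
theorem L90316 : N7292 = N5371 := (eqc rfl L90315 rfl).symm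
theorem L90317 : sm ga N5371 = N4534 := trf L90316 L45181 rfl
theorem L90318 : N4534 = N4602 := eqe L90317 L72600
theorem L90319 : N4602 = N4534 := (eqc rfl L90318 rfl).symm
theorem L90321 : sm ge N5371 = N4540 := trf L90316 L45185 rfl
theorem L90322 : N4540 = N8867 := eqe L90321 L54169
theorem L90323 : N4604 = N4540 := (eqc rfl L90322 L72422).symm
theorem L90324 : sm gf N5371 = N7239 := trf L90316 L45187 rfl
theorem L90325 : N7239 = N3608 := eqe L90324 L34970
theorem L90326 : N7239 = N3608 := eqc rfl L90325 rfl
theorem L90327 : sm gg N5371 = N4532 := trf L90316 L45180 rfl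
theorem L90328 : sm gg N4532 = N5371 := flp_g L90327
theorem L90329 : sm ga N3608 = N7295 := trf L90326 L45202 rfl
theorem L90330 : N7295 = N5480 := eqe L90329 L35479
theorem L90331 : N7295 = N5480 := eqc rfl L90330 rfl
theorem L90333 : sm ge N3608 = N4513 := trf L90326 L44887 rfl
theorem L90334 : N4513 = N5484 := eqe L90333 L35496
theorem L90335 : N5484 = N4513 := (eqc rfl L90334 rfl).symm
theorem L90336 : sm gg N3608 = N4507 := trf L90326 L44884 rfl
theorem L90337 : N4507 = N5485 := eqe L90336 L35500
theorem L90338 : N5485 = N4507 := (eqc rfl L90337 rfl).symm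
theorem L90344 : sm gc N4507 = N7077 := trf L90338 L81369 rfl
theorem L90345 : N7077 = N7107 := eqe L90344 L75099
theorem L90346 : N7107 = N7077 := (eqc rfl L90345 rfl).symm
theorem L90348 : sm ge N4507 = N7442 := trf L90338 L55172 L72377
theorem L90349 : N7442 = N3131 := eqe L90348 L30656
theorem L90350 : N7442 = N3131 := eqc rfl L90349 rfl
theorem L90352 : sm gg N4507 = N3608 := trf L90338 L35501 rfl
theorem L90353 : sm gg N3608 = N4507 := flp_g L90352
theorem L90357 : sm gf N3131 = N4606 := trf L90350 L46062 rfl
theorem L90358 : N4606 = N2416 := eqe L90357 L23649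
theorem L90359 : N4606 = N2416 := eqc rfl L90358 rfl
theorem L90373 : sm gg N2416 = N3183 := trf L90359 L31199 rfl
theorem L90374 : N3183 = N3146 := eqe L90373 L23725
theorem L90375 : N3183 = N3146 := eqc rfl L90374 rfl
theorem L90377 : sm gb N3146 = N2433 := trf L90375 L23936 rfl
theorem L90378 : sm gb N2433 = N3146 := flp_b L90377
theorem L90384 : sm gf N3146 = N4086 := trf L90375 L31109 L80866
theorem L90385 : N4086 = N4543 := eqe L90384 L30848
theorem L90386 : N4086 = N2964 := eqc rfl L90385 L87002
theorem L90387 : sm ga N2964 = N4759 := trf L90386 L40472 L90085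
theorem L90388 : N4759 = N4183 := eqe L90387 L29074
theorem L90389 : N4759 = N4183 := eqc rfl L90388 rfl
theorem L90390 : sm gb N2964 = N2914 := trf L90386 L28561 rfl
theorem L90391 : N2914 = N2325 := eqe L90390 L22800
theorem L90392 : N2914 = N2325 := eqc rfl L90391 rfl
theorem L90393 : sm gc N2964 = N6433 := trf L90386 L40478 rfl
theorem L90394 : N6433 = N4184 := eqe L90393 L29076
theorem L90395 : N6433 = N4184 := eqc rfl L90394 rfl
theorem L90396 : sm ge N2964 = N5480 := trf L90386 L40322 L80882
theorem L90397 : N5480 = N4122 := eqe L90396 L28761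
theorem L90398 : N5480 = N4122 := eqc rfl L90397 rfl
theorem L90399 : sm gg N2964 = N6435 := trf L90386 L40486 rfl
theorem L90400 : N6435 = N4185 := eqe L90399 L29080
theorem L90401 : N6435 = N4185 := eqc rfl L90400 rfl
theorem L90402 : N10683 = N3131 := L81373.trans L90350
theorem L90403 : sm ga N4185 = N3131 := trf L90401 L63945 L90402
theorem L90404 : N3131 = N6622 := eqe L90403 L41405
theorem L90405 : N6622 = N3131 := (eqc rfl L90404 rfl).symm
theorem L90412 : sm gd N4185 = N4596 := trf L90401 L81441 rfl
theorem L90413 : N4596 = N6593 := eqe L90412 L41297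
theorem L90414 : N4596 = N3272 := eqc rfl L90413 L71609
theorem L90428 : sm ge N3272 = N3504 := trf L90414 L31154 rfl
theorem L90429 : N3504 = N2679 := eqe L90428 L24519
theorem L90430 : N3504 = N2679 := eqc rfl L90429 rfl
theorem L90431 : sm gf N3272 = N4612 := trf L90414 L31233 rfl
theorem L90432 : N4612 = N4799 := eqe L90431 L32221
theorem L90433 : N4799 = N4612 := (eqc rfl L90432 rfl).symm
theorem L90434 : sm gg N3272 = N3155 := trf L90414 L31153 L88844
theorem L90435 : N3155 = N4795 := eqe L90434 L32204
theorem L90436 : N4172 = N3155 := (eqc rfl L90435 L71323).symm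
theorem L90437 : sm ga N3155 = N6591 := trf L90436 L41286 rfl
theorem L90438 : N6591 = N3137 := eqe L90437 L23771
theorem L90439 : N6591 = N3137 := eqc rfl L90438 rfl
theorem L90449 : sm gg N3155 = N3272 := trf L90436 L41294 L71609
theorem L90450 : N3272 = N3135 := eqe L90449 L23775
theorem L90451 : N3272 = N3135 := eqc rfl L90450 rfl
theorem L90456 : sm ge N3135 = N2679 := trf L90451 L24519 rfl
theorem L90457 : N2679 = N2542 := eqe L90456 L23673
theorem L90458 : N2679 = N2542 := eqc rfl L90457 rfl
theorem L90459 : sm gf N3135 = N4612 := trf L90451 L32221 L90433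
theorem L90460 : N4612 = N2418 := eqe L90459 L23675
theorem L90461 : N4612 = N2418 := eqc rfl L90460 rfl
theorem L90465 : sm gb N2418 = N7455 := trf L90461 L46147 rfl
theorem L90466 : N7455 = N3150 := eqe L90465 L23741
theorem L90467 : N7455 = N3150 := eqc rfl L90466 rfl
theorem L90472 : sm gg N2418 = N3185 := trf L90461 L31227 rfl
theorem L90473 : N3185 = N3152 := eqe L90472 L23751
theorem L90474 : N3185 = N3152 := eqc rfl L90473 rfl
theorem L90476 : sm gb N3152 = N4610 := trf L90474 L31212 rfl
theorem L90477 : N4610 = N4557 := eqe L90476 L30924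
theorem L90478 : N4610 = N4557 := eqc rfl L90477 rfl
theorem L90482 : sm gf N3152 = N3632 := trf L90474 L72442 rfl
theorem L90483 : N3632 = N3137 := eqe L90482 L23757
theorem L90484 : N3632 = N3137 := eqc rfl L90483 rfl
theorem L90486 : N5076 = N2477 := L72433.trans L88433
theorem L90487 : sm gb N3137 = N2477 := trf L90484 L33637 L90486
theorem L90488 : N2477 = N4523 := eqe L90487 L30744
theorem L90489 : N4523 = N2477 := (eqc rfl L90488 rfl).symm
theorem L90499 : sm gb N2477 = N3137 := trf L90489 L30745 rfl
theorem L90500 : N3137 = N3276 := eqe L90499 L24537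
theorem L90501 : N3276 = N3137 := (eqc rfl L90500 rfl).symm
theorem L90508 : sm ge N2477 = N3401 := trf L90489 L30746 rfl
theorem L90509 : N3401 = N2182 := eqe L90508 L20403
theorem L90510 : N3401 = N2182 := eqc rfl L90509 rfl
theorem L90514 : sm gg N2477 = N3138 := trf L90489 L30748 rfl
theorem L90515 : N3138 = N2447 := eqe L90514 L20405
theorem L90516 : N3138 = N2447 := eqc rfl L90515 rfl
theorem L90520 : sm gb N2447 = N2411 := trf L90516 L23688 rfl
theorem L90521 : N2411 = N3211 := eqe L90520 L24083
theorem L90522 : N3211 = N2411 := (eqc rfl L90521 rfl).symm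
theorem L90526 : sm gd N2447 = N4514 := trf L90516 L30703 rfl
theorem L90527 : N4514 = N3203 := eqe L90526 L24050
theorem L90528 : N4514 = N3203 := eqc rfl L90527 rfl
theorem L90529 : sm ge N2447 = N2545 := trf L90516 L23689 rfl
theorem L90530 : N2545 = N2158 := eqe L90529 L20248
theorem L90531 : N2545 = N2158 := eqc rfl L90530 rfl
theorem L90532 : sm gf N2447 = N4526 := trf L90516 L30758 rfl
theorem L90533 : N4526 = N2042 := eqe L90532 L20250
theorem L90534 : N4526 = N2042 := eqc rfl L90533 rfl
theorem L90550 : sm gg N2042 = N7276 := trf L90534 L45081 rfl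
theorem L90551 : N7276 = N2475 := eqe L90550 L20385
theorem L90552 : N7276 = N2475 := eqc rfl L90551 rfl
theorem L90556 : sm ge N2475 = N5041 := trf L90552 L45085 rfl
theorem L90557 : N5041 = N2179 := eqe L90556 L20389
theorem L90558 : N5041 = N2179 := eqc rfl L90557 rfl
theorem L90572 : sm gf N2179 = N5033 := trf L90558 L33477 rfl
theorem L90573 : N5033 = N2160 := eqe L90572 L18881
theorem L90574 : N5033 = N2160 := eqc rfl L90573 rfl
theorem L90583 : sm gd N2160 = N8220 := trf L90574 L50952 rfl
theorem L90584 : N8220 = N2627 := eqe L90583 L21165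
theorem L90585 : N8220 = N2627 := eqc rfl L90584 rfl
theorem L90592 : sm gg N2627 = N5012 := trf L90585 L50953 rfl
theorem L90593 : N5012 = N2154 := eqe L90592 L21163
theorem L90594 : N5012 = N2154 := eqc rfl L90593 rfl
theorem L90605 : sm gf N2154 = N8225 := trf L90594 L50973 rfl
theorem L90606 : N8225 = N1192 := eqe L90605 L18769
theorem L90607 : N8225 = N1192 := eqc rfl L90606 rfl
theorem L90617 : sm gg N1192 = N8222 := trf L90607 L50980 rfl
theorem L90618 : N8222 = N2171 := eqe L90617 L18847
theorem L90619 : N8222 = N2171 := eqc rfl L90618 rfl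
theorem L90621 : sm gb N2171 = N8339 := trf L90619 L51544 rfl
theorem L90622 : N8339 = N2658 := eqe L90621 L21288
theorem L90623 : N8339 = N2658 := eqc rfl L90622 rfl
theorem L90629 : sm gf N2658 = N3546 := trf L90623 L51540 L90268
theorem L90630 : N3546 = N3638 := eqe L90629 L26333
theorem L90631 : N3638 = N3546 := (eqc rfl L90630 rfl).symm
theorem L90632 : sm gg N2658 = N5414 := trf L90623 L51546 rfl
theorem L90633 : N5414 = N2172 := eqe L90632 L21292
theorem L90634 : N5414 = N2172 := eqc rfl L90633 rfl
theorem L90650 : sm gf N2172 = N8953 := trf L90634 L54591 rfl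
theorem L90651 : N8953 = N2662 := eqe L90650 L21308
theorem L90652 : N8953 = N2662 := eqc rfl L90651 rfl
theorem L90653 : sm ga N2662 = N8244 := trf L90652 L54593 L86704
theorem L90654 : N8244 = N3642 := eqe L90653 L26352
theorem L90655 : N8244 = N3642 := eqc rfl L90654 rfl
theorem L90662 : sm gg N2662 = N8337 := trf L90652 L54597 rfl
theorem L90663 : N8337 = N3645 := eqe L90662 L26363
theorem L90664 : N8337 = N3645 := eqc rfl L90663 rfl
theorem L90667 : sm gd N3645 = N5113 := trf L90664 L51535 rfl
theorem L90668 : N5113 = N2690 := eqe L90667 L26367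
theorem L90669 : N5113 = N2690 := eqc rfl L90668 rfl
theorem L90670 : sm ga N2690 = N3435 := trf L90669 L33795 rfl
theorem L90671 : N3435 = N2683 := eqe L90670 L21432
theorem L90672 : N3435 = N2683 := eqc rfl L90671 rfl
theorem L90682 : sm gf N2690 = N3406 := trf L90669 L51879 L85672
theorem L90683 : N3406 = N2681 := eqe L90682 L21435
theorem L90684 : N3406 = N2681 := eqc rfl L90683 rfl
theorem L90689 : sm gb N2681 = N2547 := trf L90684 L25302 rfl
theorem L90690 : N2547 = N3686 := eqe L90689 L26541
theorem L90691 : N3686 = N2547 := (eqc rfl L90690 rfl).symm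
theorem L90692 : sm gc N2681 = N5047 := trf L90684 L33492 rfl
theorem L90693 : N5047 = N3687 := eqe L90692 L26543
theorem L90694 : N5047 = N3687 := eqc rfl L90693 rfl
theorem L90698 : sm ge N2681 = N4528 := trf L90684 L30771 rfl
theorem L90699 : N4528 = N3273 := eqe L90698 L24524
theorem L90700 : N4528 = N3273 := eqc rfl L90699 rfl
theorem L90701 : sm gf N2681 = N2548 := trf L90684 L25303 rfl
theorem L90702 : N2548 = N2690 := eqe L90701 L21434
theorem L90703 : N2690 = N2548 := (eqc rfl L90702 rfl).symm
theorem L90704 : sm gg N2681 = N5048 := trf L90684 L33496 rfl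
theorem L90705 : N5048 = N2183 := eqe L90704 L21400
theorem L90706 : N5048 = N2183 := eqc rfl L90705 rfl
theorem L90710 : sm gb N2183 = N5140 := trf L90706 L33899 rfl
theorem L90711 : N5140 = N2685 := eqe L90710 L21410
theorem L90712 : N5140 = N2685 := eqc rfl L90711 rfl
theorem L90720 : sm gf N2183 = N5051 := trf L90706 L33509 rfl
theorem L90721 : N5051 = N2687 := eqe L90720 L21416
theorem L90722 : N5051 = N2687 := eqc rfl L90721 rfl
theorem L90726 : sm gb N2687 = N3431 := trf L90722 L33510 L86710
theorem L90727 : N3431 = N3701 := eqe L90726 L26591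
theorem L90728 : N3701 = N3431 := (eqc rfl L90727 rfl).symm
theorem L90736 : sm gg N2687 = N3407 := trf L90722 L33505 rfl
theorem L90737 : N3407 = N2683 := eqe L90736 L21421
theorem L90738 : N3407 = N2683 := eqc rfl L90737 rfl
theorem L90744 : sm gc N2683 = N5050 := trf L90738 L33500 rfl
theorem L90745 : N5050 = N3689 := eqe L90744 L26556
theorem L90746 : N5050 = N3689 := eqc rfl L90745 rfl
theorem L90750 : sm ge N2683 = N4529 := trf L90738 L30777 rfl
theorem L90751 : N4529 = N3275 := eqe L90750 L24536
theorem L90752 : N4529 = N3275 := eqc rfl L90751 rfl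
theorem L90754 : sm ga N3275 = N3141 := trf L90752 L30775 rfl
theorem L90755 : N3141 = N3282 := eqe L90754 L24572
theorem L90756 : N3282 = N3141 := (eqc rfl L90755 rfl).symm
theorem L90760 : sm gc N3275 = N7285 := trf L90752 L45135 rfl
theorem L90761 : N7285 = N4803 := eqe L90760 L32246
theorem L90762 : N7285 = N4803 := eqc rfl L90761 rfl
theorem L90763 : sm gd N3275 = N7258 := trf L90752 L44984 rfl
theorem L90764 : N7258 = N4758 := eqe L90763 L32028
theorem L90765 : N7258 = N4758 := eqc rfl L90764 rfl
theorem L90766 : sm gf N3275 = N7281 := trf L90752 L45112 rfl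
theorem L90767 : N7281 = N2476 := eqe L90766 L24534
theorem L90768 : N7281 = N2476 := eqc rfl L90767 rfl
theorem L90772 : sm gg N2476 = N7289 := trf L90768 L45166 rfl
theorem L90773 : N7289 = N2044 := eqe L90772 L20397
theorem L90774 : N7289 = N2044 := eqc rfl L90773 rfl
theorem L90783 : sm gf N2044 = N4531 := trf L90774 L45160 rfl
theorem L90784 : N4531 = N2480 := eqe L90783 L20417
theorem L90785 : N4531 = N2480 := eqc rfl L90784 rfl
theorem L90787 : sm gb N2480 = N4499 := trf L90785 L30786 rfl
theorem L90788 : N4499 = N2422 := eqe L90787 L20421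
theorem L90789 : N4499 = N2422 := eqc rfl L90788 rfl
theorem L90790 : sm gc N2480 = N7288 := trf L90785 L45156 rfl
theorem L90791 : N7288 = N3281 := eqe L90790 L24566
theorem L90792 : N7288 = N3281 := eqc rfl L90791 rfl
theorem L90793 : sm gd N2480 = N7260 := trf L90785 L44990 rfl
theorem L90794 : N7260 = N3257 := eqe L90793 L24450
theorem L90795 : N7260 = N3257 := eqc rfl L90794 rfl
theorem L90799 : sm gb N3257 = N4042 := trf L90795 L44991 L81529
theorem L90800 : N4042 = N3149 := eqe L90799 L24451
theorem L90801 : N4042 = N3149 := eqc rfl L90800 rfl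
theorem L90802 : sm gg N3257 = N4518 := trf L90795 L44988 rfl
theorem L90803 : N4518 = N4765 := eqe L90802 L32055
theorem L90804 : N4765 = N4518 := (eqc rfl L90803 rfl).symm
theorem L90810 : sm gc N4518 = N7769 := trf L90804 L47795 rfl
theorem L90811 : N7769 = N7259 := eqe L90810 L44985
theorem L90812 : N7769 = N7259 := eqc rfl L90811 rfl
theorem L90814 : sm ge N4518 = N7695 := trf L90804 L47437 rfl
theorem L90815 : N7695 = N7244 := eqe L90814 L44920
theorem L90816 : N7695 = N7244 := eqc rfl L90815 rfl
theorem L90817 : sm gf N4518 = N4756 := trf L90804 L32062 rfl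
theorem L90818 : N4756 = N7257 := eqe L90817 L44980
theorem L90819 : N7257 = N4756 := (eqc rfl L90818 rfl).symm
theorem L90820 : sm gg N4518 = N3257 := trf L90804 L32056 rfl
theorem L90821 : sm gg N3257 = N4518 := flp_g L90820
theorem L90822 : sm gb N4756 = N4517 := trf L90819 L44976 rfl
theorem L90823 : N4517 = N7749 := eqe L90822 L47710
theorem L90824 : N4894 = N4517 := (eqc rfl L90823 L82574).symm
theorem L90826 : sm gf N4756 = N4518 := trf L90819 L44979 rfl
theorem L90828 : sm ga N4517 = N4912 := trf L90824 L32856 rfl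
theorem L90829 : N4912 = N4549 := eqe L90828 L30883
theorem L90830 : N4912 = N4549 := eqc rfl L90829 rfl
theorem L90839 : sm gf N4517 = N3323 := trf L90824 L32765 rfl
theorem L90840 : N3323 = N3133 := eqe L90839 L30715
theorem L90841 : N3323 = N3133 := eqc rfl L90840 rfl
theorem L90842 : sm gg N4517 = N4907 := trf L90824 L32837 rfl
theorem L90843 : N4907 = N4546 := eqe L90842 L30870
theorem L90844 : N4907 = N4546 := eqc rfl L90843 rfl
theorem L90845 : sm ga N4546 = N3336 := trf L90844 L32831 rfl
theorem L90846 : N3336 = N3149 := eqe L90845 L30866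
theorem L90847 : N3336 = N3149 := eqc rfl L90846 rfl
theorem L90848 : sm gb N4546 = N8044 := trf L90844 L49368 rfl
theorem L90849 : N8044 = N7323 := eqe L90848 L45343
theorem L90850 : N8044 = N7323 := eqc rfl L90849 rfl
theorem L90854 : sm gd N4546 = N7485 := trf L90844 L50409 rfl
theorem L90855 : N7485 = N3157 := eqe L90854 L30868
theorem L90856 : N7485 = N3157 := eqc rfl L90855 rfl
theorem L90860 : sm gf N4546 = N3333 := trf L90844 L32830 rfl
theorem L90861 : N3333 = N3147 := eqe L90860 L30865
theorem L90862 : N3333 = N3147 := eqc rfl L90861 rfl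
theorem L90863 : sm ga N3147 = N2513 := trf L90862 L24900 rfl
theorem L90864 : N2513 = N2417 := eqe L90863 L23730
theorem L90865 : N2513 = N2417 := eqc rfl L90864 rfl
theorem L90866 : sm gb N3147 = N4038 := trf L90862 L50513 rfl
theorem L90867 : N4038 = N3147 := eqe L90866 L85574
theorem L90868 : N4038 = N3147 := eqc rfl L90867 rfl
theorem L90869 : sm gc N3147 = N2512 := trf L90862 L24899 rfl
theorem L90870 : N2512 = N4545 := eqe L90869 L30860
theorem L90871 : N4545 = N2512 := (eqc rfl L90870 rfl).symm
theorem L90875 : sm ge N3147 = N2763 := trf L90862 L24902 rfl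
theorem L90876 : N2763 = N4535 := eqe L90875 L30811
theorem L90877 : N4535 = N2763 := (eqc rfl L90876 rfl).symm
theorem L90878 : sm gg N3147 = N4077 := trf L90862 L50417 rfl
theorem L90879 : N4077 = N4515 := eqe L90878 L30709
theorem L90880 : N4515 = N4077 := (eqc rfl L90879 rfl).symm
theorem L90886 : sm gc N4077 = N7254 := trf L90880 L44961 rfl
theorem L90887 : N7254 = N3322 := eqe L90886 L50391
theorem L90888 : N7254 = N3322 := eqc rfl L90887 rfl
theorem L90892 : sm ge N4077 = N7241 := trf L90880 L44900 rfl
theorem L90893 : N7241 = N3817 := eqe L90892 L50384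
theorem L90894 : N7241 = N3817 := eqc rfl L90893 rfl
theorem L90897 : sm gg N4077 = N3147 := trf L90880 L30708 rfl
theorem L90898 : sm gg N3147 = N4077 := flp_g L90897
theorem L90899 : sm ga N3817 = N4509 := trf L90894 L44896 rfl
theorem L90900 : N4509 = N2753 := eqe L90899 L27115
theorem L90901 : N4509 = N2753 := eqc rfl L90900 rfl
theorem L90905 : sm gf N3817 = N7301 := trf L90894 L45249 rfl
theorem L90906 : N7301 = N3842 := eqe L90905 L27251
theorem L90907 : N7301 = N3842 := eqc rfl L90906 rfl
theorem L90910 : sm gd N3842 = N5066 := trf L90907 L45245 rfl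
theorem L90911 : N5066 = N5968 := eqe L90910 L37709
theorem L90912 : N5968 = N5066 := (eqc rfl L90911 rfl).symm
theorem L90915 : sm gg N3842 = N4537 := trf L90907 L45242 rfl
theorem L90916 : N4537 = N2766 := eqe L90915 L27246
theorem L90917 : N4537 = N2766 := eqc rfl L90916 rfl
theorem L90919 : sm gb N2766 = N4732 := trf L90917 L31892 rfl
theorem L90920 : N4732 = N3841 := eqe L90919 L27243
theorem L90921 : N4732 = N3841 := eqc rfl L90920 rfl
theorem L90925 : sm gd N2766 = N3415 := trf L90917 L30820 rfl
theorem L90926 : N3415 = N3840 := eqe L90925 L27242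
theorem L90927 : N3840 = N3415 := (eqc rfl L90926 rfl).symm
theorem L90930 : sm gf N2766 = N3143 := trf L90917 L30819 rfl
theorem L90931 : N3143 = N2227 := eqe L90930 L21758
theorem L90932 : N3143 = N2227 := eqc rfl L90931 rfl
theorem L90934 : sm gb N2227 = N2415 := trf L90932 L23712 rfl
theorem L90935 : N2415 = N2609 := eqe L90934 L21069
theorem L90936 : N2609 = N2415 := (eqc rfl L90935 rfl).symm
theorem L90940 : sm gd N2227 = N2550 := trf L90932 L23713 rfl
theorem L90941 : N2550 = N2765 := eqe L90940 L21755
theorem L90942 : N2765 = N2550 := (eqc rfl L90941 rfl).symm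
theorem L90955 : sm gd N2550 = N2227 := trf L90942 L21756 rfl
theorem L90956 : sm gd N2227 = N2550 := flp_d L90955
theorem L90961 : sm gg N2550 = N3818 := trf L90942 L27122 rfl
theorem L90962 : N3818 = N3387 := eqe L90961 L25226
theorem L90963 : N3818 = N3387 := eqc rfl L90962 rfl
theorem L90976 : sm gf N3387 = N5925 := trf L90963 L37526 rfl
theorem L90977 : N5925 = N5005 := eqe L90976 L33328
theorem L90978 : N5925 = N5005 := eqc rfl L90977 rfl
theorem L90988 : sm gg N5005 = N5960 := trf L90978 L37676 rfl
theorem L90989 : N5960 = N5063 := eqe L90988 L33578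
theorem L90990 : N5960 = N5063 := eqc rfl L90989 rfl
theorem L90992 : sm gb N5063 = N8803 := trf L90990 L53900 rfl
theorem L90993 : N8803 = N8313 := eqe L90992 L51423
theorem L90994 : N8803 = N8313 := eqc rfl L90993 rfl
theorem L91000 : sm ge N5063 = N5286 := trf L90990 L50568 rfl
theorem L91001 : N5286 = N3424 := eqe L91000 L33576
theorem L91002 : N5286 = N3424 := eqc rfl L91001 rfl
theorem L91005 : sm gb N3424 = N5358 := trf L91002 L34915 rfl
theorem L91006 : N5358 = N5088 := eqe L91005 L33690
theorem L91007 : N5358 = N5088 := eqc rfl L91006 rfl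
theorem L91017 : sm gg N3424 = N5545 := trf L91002 L82666 rfl
theorem L91018 : N5545 = N3395 := eqe L91017 L25388
theorem L91019 : N5545 = N3395 := eqc rfl L91018 rfl
theorem L91020 : sm ga N3395 = N8683 := trf L91019 L82649 rfl
theorem L91021 : N8683 = N3427 := eqe L91020 L25400
theorem L91022 : N8683 = N3427 := eqc rfl L91021 rfl
theorem L91037 : sm gf N3427 = N5277 := trf L91022 L53240 rfl
theorem L91038 : N5277 = N3393 := eqe L91037 L25404
theorem L91039 : N5277 = N3393 := eqc rfl L91038 rfl
theorem L91048 : sm gd N3393 = N4624 := trf L91039 L34566 rfl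
theorem L91049 : N4624 = N2546 := eqe L91048 L25255
theorem L91050 : N4624 = N2546 := eqc rfl L91049 rfl
theorem L91063 : sm gg N2546 = N3197 := trf L91050 L31302 rfl
theorem L91064 : N3197 = N2123 := eqe L91063 L20798
theorem L91065 : N3197 = N2123 := eqc rfl L91064 rfl
theorem L91069 : sm gb N2123 = N2440 := trf L91065 L24002 rfl
theorem L91070 : N2440 = N2563 := eqe L91069 L20862
theorem L91071 : N2440 = N2123 := eqc rfl L91070 L85643
theorem L91072 : sm gc N2123 = N4635 := trf L91065 L31358 rfl
theorem L91073 : N4635 = N2336 := eqe L91072 L19661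
theorem L91074 : N4635 = N2336 := eqc rfl L91073 rfl
theorem L91082 : sm gb N2336 = N3208 := trf L91074 L31360 rfl
theorem L91083 : N3208 = N2986 := eqe L91082 L22891
theorem L91084 : N3208 = N2472 := eqc rfl L91083 L85726
theorem L91088 : sm ge N2336 = N5963 := trf L91074 L50424 rfl
theorem L91089 : N5963 = N2944 := eqe L91088 L22712
theorem L91090 : N5963 = N2944 := eqc rfl L91089 rfl
theorem L91091 : sm gf N2336 = N6027 := trf L91074 L82546 L83228
theorem L91092 : N6027 = N2473 := eqe L91091 L85736
theorem L91093 : N6027 = N2473 := eqc rfl L91092 rfl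
theorem L91102 : sm gd N2473 = N2031 := trf L91093 L37989 L86457
theorem L91103 : N2031 = N2047 := eqe L91102 L20379
theorem L91104 : N2047 = N2031 := (eqc rfl L91103 rfl).symm
theorem L91111 : sm gg N2473 = N5656 := trf L91093 L40135 L83210
theorem L91112 : N5656 = N2963 := eqe L91111 L85719
theorem L91113 : N5656 = N2963 := eqc rfl L91112 rfl
theorem L91124 : sm ge N2963 = N7844 := trf L91113 L48167 rfl
theorem L91125 : N7844 = N4121 := eqe L91124 L28757
theorem L91126 : N7844 = N4121 := eqc rfl L91125 rfl
theorem L91127 : N6705 = N2473 := L83228.trans L91093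
theorem L91135 : sm gg N4121 = N9931 := trf L91126 L82558 rfl
theorem L91136 : N9931 = N4145 := eqe L91135 L28896
theorem L91137 : N9931 = N3247 := eqc rfl L91136 L85715
theorem L91138 : N8047 = N3200 := L82549.trans L86807
theorem L91139 : sm ga N3247 = N3200 := trf L91137 L59614 L91138
theorem L91140 : sm ga N3200 = N3247 := flp_a L91139
theorem L91141 : N3247 = N3202 := eqe L91140 L24040
theorem L91142 : N3247 = N3202 := eqc rfl L91141 rfl
theorem L91143 : N9931 = N3202 := L91137.trans L91142
theorem L91147 : sm gc N3202 = N3157 := trf L91143 L59616 L90856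
theorem L91148 : N3157 = N4629 := eqe L91147 L31337
theorem L91149 : N4629 = N3157 := (eqc rfl L91148 rfl).symm
theorem L91153 : sm ge N3202 = N2473 := trf L91143 L82555 L91127
theorem L91154 : N2473 = N2446 := eqe L91153 L24043
theorem L91155 : N2473 = N2446 := eqc rfl L91154 rfl
theorem L91156 : sm gf N3202 = N2944 := trf L91143 L59613 L91090
theorem L91157 : N2944 = N2442 := eqe L91156 L24038
theorem L91158 : N2944 = N2442 := eqc rfl L91157 rfl
theorem L91159 : sm ga N2442 = N2313 := trf L91158 L22708 rfl
theorem L91160 : N2313 = N3182 := eqe L91159 L23930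
theorem L91161 : N3182 = N2313 := (eqc rfl L91160 rfl).symm
theorem L91165 : sm gc N2442 = N2421 := trf L91158 L22709 rfl
theorem L91166 : N2421 = N3194 := eqe L91165 L23988
theorem L91167 : N3194 = N2421 := (eqc rfl L91166 rfl).symm
theorem L91171 : sm ge N2442 = N2336 := trf L91158 L22711 rfl
theorem L91172 : N2336 = N2027 := eqe L91171 L20218
theorem L91173 : N2336 = N2027 := eqc rfl L91172 rfl
theorem L91174 : N4145 = N3202 := L85715.trans L91142
theorem L91176 : sm gg N2442 = N4120 := trf L91158 L28751 rfl
theorem L91177 : N4120 = N2025 := eqe L91176 L20215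
theorem L91178 : N4120 = N2025 := eqc rfl L91177 rfl
theorem L91179 : sm ga N2025 = N2932 := trf L91178 L28745 rfl
theorem L91180 : N2932 = N2432 := eqe L91179 L20169
theorem L91181 : N2932 = N2432 := eqc rfl L91180 rfl
theorem L91185 : sm gc N2025 = N3139 := trf L91178 L28746 rfl
theorem L91186 : N3139 = N2438 := eqe L91185 L20199
theorem L91187 : N3139 = N2438 := eqc rfl L91186 rfl
theorem L91194 : sm gf N2025 = N4147 := trf L91178 L28912 rfl
theorem L91195 : N4147 = N2441 := eqe L91194 L20208
theorem L91196 : N4147 = N2441 := eqc rfl L91195 rfl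
theorem L91197 : sm ga N2441 = N4121 := trf L91196 L28906 rfl
theorem L91198 : N4121 = N3181 := eqe L91197 L23922
theorem L91199 : N4121 = N3181 := eqc rfl L91198 rfl
theorem L91208 : sm ge N2441 = N2989 := trf L91196 L28910 rfl
theorem L91209 : N2989 = N2026 := eqe L91208 L20212
theorem L91210 : N2989 = N2026 := eqc rfl L91209 rfl
theorem L91211 : sm gg N2441 = N2945 := trf L91196 L28905 rfl
theorem L91212 : N2945 = N3200 := eqe L91211 L24021
theorem L91213 : N3200 = N2945 := (eqc rfl L91212 rfl).symm
theorem L91217 : sm gd N2945 = N2622 := trf L91213 L24023 rfl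
theorem L91218 : N2622 = N4133 := eqe L91217 L28819
theorem L91219 : N3622 = N2622 := (eqc rfl L91218 L85783).symm
theorem L91220 : sm ge N2945 = N2444 := trf L91213 L24025 rfl
theorem L91221 : N2444 = N2337 := eqe L91220 L22717
theorem L91222 : N2444 = N2337 := eqc rfl L91221 rfl
theorem L91224 : sm gg N2945 = N2441 := trf L91213 L24022 rfl
theorem L91225 : sm gg N2441 = N2945 := flp_g L91224
theorem L91226 : sm ga N2337 = N2446 := trf L91222 L20241 rfl
theorem L91227 : sm ga N2446 = N2337 := flp_a L91226
theorem L91228 : sm gb N2337 = N2979 := trf L91222 L24061 L86815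
theorem L91229 : N2979 = N2988 := eqe L91228 L22901
theorem L91230 : N2988 = N2979 := (eqc rfl L91229 rfl).symm
theorem L91231 : sm gc N2337 = N3196 := trf L91222 L23996 rfl
theorem L91232 : N3196 = N2124 := eqe L91231 L19664
theorem L91233 : N3196 = N2124 := eqc rfl L91232 rfl
theorem L91234 : sm gd N2337 = N2029 := trf L91222 L20228 rfl
theorem L91235 : N2029 = N2975 := eqe L91234 L22850
theorem L91236 : N2485 = N2029 := (eqc rfl L91235 L85942).symm
theorem L91237 : sm gf N2337 = N2434 := trf L91222 L20231 rfl
theorem L91238 : N2434 = N1748 := eqe L91237 L19663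
theorem L91239 : N2434 = N1748 := eqc rfl L91238 rfl
theorem L91250 : sm gd N1748 = N2023 := trf L91239 L20182 rfl
theorem L91251 : N2023 = N2330 := eqe L91250 L19637
theorem L91252 : N2330 = N2023 := (eqc rfl L91251 rfl).symm
theorem L91254 : sm gg N1748 = N2021 := trf L91239 L20179 rfl
theorem L91255 : N2021 = N2324 := eqe L91254 L19605
theorem L91256 : N2324 = N2021 := (eqc rfl L91255 rfl).symm
theorem L91258 : sm gb N2021 = N1742 := trf L91256 L19601 rfl
theorem L91259 : N1742 = N2429 := eqe L91258 L20157
theorem L91260 : N2429 = N1742 := (eqc rfl L91259 rfl).symm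
theorem L91261 : sm gc N2021 = N2114 := trf L91256 L19602 rfl
theorem L91262 : N2114 = N2148 := eqe L91261 L18743
theorem L91263 : N2148 = N2114 := (eqc rfl L91262 rfl).symm
theorem L91266 : sm gf N2021 = N2963 := trf L91256 L22795 rfl
theorem L91267 : N2963 = N2433 := eqe L91266 L20172
theorem L91268 : N2963 = N2433 := eqc rfl L91267 rfl
theorem L91269 : sm gg N2021 = N1748 := trf L91256 L19604 rfl
theorem L91270 : sm gg N1748 = N2021 := flp_g L91269
theorem L91273 : sm gc N2433 = N2547 := trf L91268 L22797 rfl
theorem L91274 : N2547 = N2612 := eqe L91273 L21083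
theorem L91275 : N2612 = N2547 := (eqc rfl L91274 rfl).symm
theorem L91276 : sm gd N2433 = N2487 := trf L91268 L29031 L85691
theorem L91277 : N2487 = N2022 := eqe L91276 L20176
theorem L91278 : N2487 = N2022 := eqc rfl L91277 rfl
theorem L91287 : sm ge N2022 = N2192 := trf L91278 L20463 rfl
theorem L91288 : N2192 = N1180 := eqe L91287 L10317
theorem L91289 : N2192 = N1180 := eqc rfl L91288 rfl
theorem L91294 : sm gb N1180 = N2122 := trf L91289 L18937 rfl
theorem L91295 : N2122 = N2146 := eqe L91294 L18735
theorem L91296 : N2146 = N2122 := (eqc rfl L91295 rfl).symm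
theorem L91300 : sm gd N1180 = N2672 := trf L91289 L21361 rfl
theorem L91301 : N2672 = N2144 := eqe L91300 L18728
theorem L91302 : N2672 = N2144 := eqc rfl L91301 rfl
theorem L91306 : sm gg N1180 = N1202 := trf L91289 L18936 rfl
theorem L91307 : N1202 = N1189 := eqe L91306 L6029
theorem L91308 : N1202 = N1189 := eqc rfl L91307 rfl
theorem L91310 : sm gb N1189 = N588 := trf L91308 L6079 rfl
theorem L91311 : N588 = N2164 := eqe L91310 L18815
theorem L91312 : N2164 = N588 := (eqc rfl L91311 rfl).symm
theorem L91313 : sm gc N1189 = N2191 := trf L91308 L18931 rfl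
theorem L91314 : N2191 = N634 := eqe L91313 L6026
theorem L91315 : N2191 = N634 := eqc rfl L91314 rfl
theorem L91316 : sm gd N1189 = N2176 := trf L91308 L18868 rfl
theorem L91317 : N2176 = N2157 := eqe L91316 L18788
theorem L91318 : N2176 = N2157 := eqc rfl L91317 rfl
theorem L91320 : sm gf N1189 = N2188 := trf L91308 L18921 rfl
theorem L91321 : N2188 = N581 := eqe L91320 L6023
theorem L91322 : N2188 = N581 := eqc rfl L91321 rfl
theorem L91326 : sm gb N581 = N1201 := trf L91322 L18919 rfl
theorem L91327 : N1201 = N1188 := eqe L91326 L6017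
theorem L91328 : N1201 = N1188 := eqc rfl L91327 rfl
theorem L91338 : sm gg N581 = N2698 := trf L91322 L21456 rfl
theorem L91339 : N2698 = N286 := eqe L91338 L2854
theorem L91340 : N2698 = N286 := eqc rfl L91339 rfl
theorem L91351 : sm ge N286 = N3290 := trf L91340 L24614 rfl
theorem L91352 : N3290 = N502 := eqe L91351 L2495
theorem L91353 : N3290 = N502 := eqc rfl L91352 rfl
theorem L91358 : sm gc N502 = N4837 := trf L91353 L32431 rfl
theorem L91359 : N4837 = N259 := eqe L91358 L2496
theorem L91360 : N4837 = N259 := eqc rfl L91359 rfl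
theorem L91371 : sm gg N259 = N3289 := trf L91360 L32429 rfl
theorem L91372 : N3289 = N518 := eqe L91371 L2577
theorem L91373 : N3289 = N518 := eqc rfl L91372 rfl
theorem L91378 : sm gf N518 = N2486 := trf L91373 L24608 rfl
theorem L91379 : N2486 = N1064 := eqe L91378 L5314
theorem L91380 : N2486 = N1064 := eqc rfl L91379 rfl
theorem L91384 : sm gb N1064 = N2052 := trf L91380 L20459 rfl
theorem L91385 : N2052 = N2086 := eqe L91384 L10675
theorem L91386 : N2086 = N2052 := (eqc rfl L91385 rfl).symm
theorem L91394 : sm gb N2052 = N1064 := trf L91386 L10676 rfl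
theorem L91395 : sm gb N1064 = N2052 := flp_b L91394
theorem L91402 : sm gg N2052 = N2520 := trf L91386 L20686 rfl
theorem L91403 : N2520 = N2492 := eqe L91402 L20494
theorem L91404 : N2520 = N2492 := eqc rfl L91403 rfl
theorem L91408 : sm gb N2492 = N2511 := trf L91404 L20692 rfl
theorem L91409 : N2511 = N3305 := eqe L91408 L24704
theorem L91410 : N3305 = N2511 := (eqc rfl L91409 rfl).symm
theorem L91414 : sm gd N2492 = N2238 := trf L91404 L20688 rfl
theorem L91415 : N2238 = N2197 := eqe L91414 L78523
theorem L91416 : N2238 = N2197 := eqc rfl L91415 rfl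
theorem L91421 : sm gb N2197 = N2225 := trf L91416 L19144 rfl
theorem L91422 : N2225 = N2715 := eqe L91421 L21522
theorem L91423 : N2715 = N2225 := (eqc rfl L91422 rfl).symm
theorem L91424 : sm gc N2197 = N2787 := trf L91416 L21838 rfl
theorem L91425 : N2787 = N1213 := eqe L91424 L18960
theorem L91426 : N2787 = N1213 := eqc rfl L91425 rfl
theorem L91436 : sm gg N1213 = N2237 := trf L91426 L21836 rfl
theorem L91437 : N2237 = N593 := eqe L91436 L6125
theorem L91438 : N2237 = N593 := eqc rfl L91437 rfl
theorem L91443 : sm gd N593 = N2786 := trf L91438 L21832 rfl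
theorem L91444 : N2786 = N297 := eqe L91443 L2906
theorem L91445 : N2786 = N297 := eqc rfl L91444 rfl
theorem L91457 : sm ge N297 = N3878 := trf L91445 L27434 rfl
theorem L91458 : N3878 = N160 := eqe L91457 L1505
theorem L91459 : N3878 = N160 := eqc rfl L91458 rfl
theorem L91472 : sm gg N160 = N6041 := trf L91459 L38049 rfl
theorem L91473 : N6041 = N308 := eqe L91472 L1545
theorem L91474 : N6041 = N308 := eqc rfl L91473 rfl
theorem L91481 : sm gc N308 = N10069 := trf L91474 L60315 rfl
theorem L91482 : N10069 = N628 := eqe L91481 L3059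
theorem L91483 : N10069 = N628 := eqc rfl L91482 rfl
theorem L91487 : sm ge N628 = N6040 := trf L91483 L60316 rfl
theorem L91488 : N6040 = N1236 := eqe L91487 L6261
theorem L91489 : N6040 = N1236 := eqc rfl L91488 rfl
theorem L91498 : sm gd N1236 = N10067 := trf L91489 L60306 rfl
theorem L91499 : N10067 = N1236 := eqe L91498 L80336
theorem L91500 : N10067 = N1236 := eqc rfl L91499 rfl
theorem L91508 : sm gg N1236 = N6038 := trf L91500 L60300 rfl
theorem L91509 : N6038 = N603 := eqe L91508 L6257
theorem L91510 : N6038 = N603 := eqc rfl L91509 rfl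
theorem L91514 : sm gb N603 = N10062 := trf L91510 L60282 rfl
theorem L91515 : N10062 = N603 := eqe L91514 L2963
theorem L91516 : N10062 = N603 := eqc rfl L91515 rfl
theorem L91542 : sm gd N603 = N6037 := trf L91516 L60280 rfl
theorem L91543 : N6037 = N603 := eqe L91542 L77031
theorem L91544 : N6037 = N603 := eqc rfl L91543 rfl
theorem L91549 : sm gc N603 = N9029 := trf L91544 L54998 rfl
theorem L91550 : N9029 = N297 := eqe L91549 L2959
theorem L91551 : N9029 = N297 := eqc rfl L91550 rfl
theorem L91563 : sm gb N297 = N5469 := trf L91551 L54996 rfl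
theorem L91564 : N5469 = N155 := eqe L91563 L1504
theorem L91565 : N5469 = N155 := eqc rfl L91564 rfl
theorem L91579 : sm gg N155 = N9032 := trf L91565 L55009 rfl
theorem L91580 : N9032 = N146 := eqe L91579 L836
theorem L91581 : N9032 = N146 := eqc rfl L91580 rfl
theorem L91582 : sm gc N146 = N5471 := trf L91581 L55011 rfl
theorem L91583 : N5471 = N146 := eqe L91582 L791
theorem L91584 : N5471 = N146 := eqc rfl L91583 rfl
theorem L91597 : sm gf N146 = N9035 := trf L91584 L55023 rfl
theorem L91598 : N9035 = N80 := eqe L91597 L788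
theorem L91599 : N9035 = N80 := eqc rfl L91598 rfl
theorem L91607 : sm gg N80 = N9014 := trf L91599 L55029 rfl
theorem L91608 : N9014 = N147 := eqe L91607 L794
theorem L91609 : N9014 = N147 := eqc rfl L91608 rfl
theorem L91616 : sm gf N147 = N5467 := trf L91609 L54921 rfl
theorem L91617 : N5467 = N154 := eqe L91616 L827
theorem L91618 : N5467 = N154 := eqc rfl L91617 rfl
theorem L91624 : sm gd N154 = N3600 := trf L91618 L35417 rfl
theorem L91625 : N3600 = N291 := eqe L91624 L1471
theorem L91626 : N3600 = N291 := eqc rfl L91625 rfl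
theorem L91643 : sm gg N291 = N5468 := trf L91626 L35420 rfl
theorem L91644 : N5468 = N151 := eqe L91643 L1469
theorem L91645 : N5468 = N151 := eqc rfl L91644 rfl
theorem L91657 : sm gf N151 = N5462 := trf L91645 L35426 rfl
theorem L91658 : N5462 = N83 := eqe L91657 L808
theorem L91659 : N5462 = N83 := eqc rfl L91658 rfl
theorem L91669 : sm gg N83 = N3597 := trf L91659 L35397 rfl
theorem L91670 : N3597 = N152 := eqe L91669 L811
theorem L91671 : N3597 = N152 := eqc rfl L91670 rfl
theorem L91678 : sm ge N152 = N4680 := trf L91671 L31590 rfl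
theorem L91679 : N4680 = N254 := eqe L91678 L1317
theorem L91680 : N4680 = N254 := eqc rfl L91679 rfl
theorem L91692 : sm gf N254 = N3219 := trf L91680 L31591 rfl
theorem L91693 : N3219 = N507 := eqe L91692 L2520
theorem L91694 : N3219 = N507 := eqc rfl L91693 rfl
theorem L91705 : sm gg N507 = N4686 := trf L91694 L31620 rfl
theorem L91706 : N4686 = N492 := eqe L91705 L2528
theorem L91707 : N4686 = N492 := eqc rfl L91706 rfl
theorem L91719 : sm gf N492 = N7593 := trf L91707 L46876 rfl
theorem L91720 : N7593 = N247 := eqe L91719 L2443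
theorem L91721 : N7593 = N247 := eqc rfl L91720 rfl
theorem L91723 : sm gc N247 = N4687 := trf L91721 L46880 rfl
theorem L91724 : N4687 = N491 := eqe L91723 L2436
theorem L91725 : N4687 = N491 := eqc rfl L91724 rfl
theorem L91741 : sm gg N491 = N4619 := trf L91725 L31632 L82600
theorem L91742 : N4619 = N1011 := eqe L91741 L4978
theorem L91743 : N4619 = N1011 := eqc rfl L91742 rfl
theorem L91762 : sm gg N1011 = N7425 := trf L91743 L45976 rfl
theorem L91763 : N7425 = N491 := eqe L91762 L4979
theorem L91764 : N7425 = N491 := eqc rfl L91763 rfl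
theorem L91768 : sm gd N491 = N4599 := trf L91764 L45974 rfl
theorem L91769 : N4599 = N1009 := eqe L91768 L4964
theorem L91770 : N4599 = N1009 := eqc rfl L91769 rfl
theorem L91783 : sm gf N1009 = N7426 := trf L91770 L45977 rfl
theorem L91784 : N7426 = N1995 := eqe L91783 L10148
theorem L91785 : N7426 = N1995 := eqc rfl L91784 rfl
theorem L91798 : sm gg N1995 = N7464 := trf L91785 L46199 rfl
theorem L91799 : N7464 = N2041 := eqe L91798 L10433
theorem L91800 : N7464 = N2041 := eqc rfl L91799 rfl
theorem L91812 : sm gf N2041 = N4617 := trf L91800 L46192 rfl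
theorem L91813 : N4617 = N1036 := eqe L91812 L10427
theorem L91814 : N4617 = N1036 := eqc rfl L91813 rfl
theorem L91823 : sm ge N1036 = N3532 := trf L91814 L31260 rfl
theorem L91824 : N3532 = N2037 := eqe L91823 L10411
theorem L91825 : N3532 = N2037 := eqc rfl L91824 rfl
theorem L91831 : sm gc N2037 = N2608 := trf L91825 L25856 rfl
theorem L91832 : N2608 = N2459 := eqe L91831 L20312
theorem L91833 : N2608 = N2459 := eqc rfl L91832 rfl
theorem L91834 : sm gd N2037 = N5324 := trf L91825 L34766 rfl
theorem L91835 : N5324 = N1191 := eqe L91834 L10408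
theorem L91836 : N5324 = N1191 := eqc rfl L91835 rfl
theorem L91852 : sm gg N1191 = N8667 := trf L91836 L53162 rfl
theorem L91853 : N8667 = N582 := eqe L91852 L6035
theorem L91854 : N8667 = N582 := eqc rfl L91853 rfl
theorem L91861 : sm gf N582 = N8772 := trf L91854 L53727 rfl
theorem L91862 : N8772 = N1190 := eqe L91861 L6030
theorem L91863 : N8772 = N1190 := eqc rfl L91862 rfl
theorem L91870 : sm gg N1190 = N5329 := trf L91863 L53722 rfl
theorem L91871 : N5329 = N2166 := eqe L91870 L18821
theorem L91872 : N5329 = N2166 := eqc rfl L91871 rfl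
theorem L91874 : sm gb N2166 = N8771 := trf L91872 L53715 rfl
theorem L91875 : N8771 = N2648 := eqe L91874 L21246
theorem L91876 : N8771 = N2648 := eqc rfl L91875 rfl
theorem L91880 : sm gd N2166 = N3535 := trf L91872 L34788 rfl
theorem L91881 : N3535 = N2463 := eqe L91880 L20332
theorem L91882 : N3535 = N2463 := eqc rfl L91881 rfl
theorem L91883 : sm ge N2166 = N8770 := trf L91872 L53714 rfl
theorem L91884 : N8770 = N1193 := eqe L91883 L18823
theorem L91885 : N8770 = N1193 := eqc rfl L91884 rfl
theorem L91887 : sm gf N1193 = N5328 := trf L91885 L53712 rfl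
theorem L91888 : N5328 = N1142 := eqe L91887 L6047
theorem L91889 : N5328 = N1142 := eqc rfl L91888 rfl
theorem L91892 : sm gc N1142 = N8768 := trf L91889 L53706 rfl
theorem L91893 : N8768 = N584 := eqe L91892 L5779
theorem L91894 : N8768 = N584 := eqc rfl L91893 rfl
theorem L91902 : sm ge N584 = N5327 := trf L91894 L53704 rfl
theorem L91903 : N5327 = N1191 := eqe L91902 L6037
theorem L91904 : N5327 = N1191 := eqc rfl L91903 rfl
theorem L91910 : sm gd N1191 = N8767 := trf L91904 L53697 rfl
theorem L91911 : N8767 = N2037 := eqe L91910 L10409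
theorem L91912 : N8767 = N2037 := eqc rfl L91911 rfl
theorem L91921 : sm gc N2037 = N8726 := trf L91912 L53702 rfl
theorem L91922 : N8726 = N2459 := eqe L91921 L20312
theorem L91923 : N8726 = N2459 := eqc rfl L91922 rfl
theorem L91927 : sm gd N2459 = N5300 := trf L91923 L53466 rfl
theorem L91928 : N5300 = N3231 := eqe L91927 L24326
theorem L91929 : N5300 = N3231 := eqc rfl L91928 rfl
theorem L91930 : sm ga N3231 = N3523 := trf L91929 L34670 rfl
theorem L91931 : N3523 = N2935 := eqe L91930 L24322
theorem L91932 : N3523 = N2935 := eqc rfl L91931 rfl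
theorem L91936 : sm gc N3231 = N3522 := trf L91929 L34669 rfl
theorem L91937 : N3522 = N3231 := eqe L91936 L24324
theorem L91938 : N3522 = N3231 := eqc rfl L91937 rfl
theorem L91945 : sm gg N3231 = N8650 := trf L91929 L53076 rfl
theorem L91946 : N8650 = N2457 := eqe L91945 L24321
theorem L91947 : N8650 = N2457 := eqc rfl L91946 rfl
theorem L91954 : sm gf N2457 = N8733 := trf L91947 L53499 rfl
theorem L91955 : N8733 = N3230 := eqe L91954 L24311
theorem L91956 : N8733 = N3230 := eqc rfl L91955 rfl
theorem L91960 : sm gc N3230 = N5304 := trf L91956 L53497 rfl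
theorem L91961 : N5304 = N3230 := eqe L91960 L24315
theorem L91962 : N5304 = N3230 := eqc rfl L91961 rfl
theorem L91963 : sm gg N3230 = N5303 := trf L91956 L53494 rfl
theorem L91964 : N5303 = N4126 := eqe L91963 L28793
theorem L91965 : N5303 = N4126 := eqc rfl L91964 rfl
theorem L91970 : sm gc N4126 = N3524 := trf L91965 L34684 rfl
theorem L91971 : N3524 = N4126 := eqe L91970 L28787
theorem L91972 : N4126 = N3524 := (eqc rfl L91971 rfl).symm
theorem L91973 : N5303 = N3524 := L91965.trans L91972
theorem L91980 : sm gf N3524 = N2935 := trf L91973 L34683 L91932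
theorem L91981 : N2935 = N2604 := eqe L91980 L25824
theorem L91982 : N2935 = N2604 := eqc rfl L91981 rfl
theorem L91985 : N4125 = N3423 := L85805.trans L86121
theorem L91986 : sm gb N2604 = N3423 := trf L91982 L28777 L91985
theorem L91987 : N3423 = N2145 := eqe L91986 L21053
theorem L91988 : N3423 = N2145 := eqc rfl L91987 rfl
theorem L91991 : N3523 = N2604 := L91932.trans L91982
theorem L91992 : sm gd N2604 = N2327 := trf L91982 L22659 rfl
theorem L91993 : N2327 = N2147 := eqe L91992 L21054
theorem L91994 : N2327 = N2147 := eqc rfl L91993 rfl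
theorem L91995 : sm ge N2604 = N2310 := trf L91982 L22661 rfl
theorem L91996 : N2310 = N3518 := eqe L91995 L25806
theorem L91997 : N3518 = N2310 := (eqc rfl L91996 rfl).symm
theorem L91999 : sm gg N2604 = N2308 := trf L91982 L22657 rfl
theorem L92000 : N2308 = N3500 := eqe L91999 L25726
theorem L92001 : N3500 = N2308 := (eqc rfl L92000 rfl).symm
theorem L92003 : sm gb N2308 = N2592 := trf L92001 L25722 rfl
theorem L92004 : N2592 = N2927 := eqe L92003 L22606
theorem L92005 : N2927 = N2592 := (eqc rfl L92004 rfl).symm
theorem L92007 : sm gd N2308 = N2595 := trf L92001 L25723 rfl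
theorem L92008 : N2595 = N1743 := eqe L92007 L19516
theorem L92009 : N2595 = N1743 := eqc rfl L92008 rfl
theorem L92013 : sm gf N2308 = N5255 := trf L92001 L34458 rfl
theorem L92014 : N5255 = N2934 := eqe L92013 L22649
theorem L92015 : N5255 = N2934 := eqc rfl L92014 rfl
theorem L92016 : sm gg N2308 = N2604 := trf L92001 L25725 rfl
theorem L92017 : sm gg N2604 = N2308 := flp_g L92016
theorem L92029 : sm gg N2934 = N5301 := trf L92015 L34678 rfl
theorem L92030 : N5301 = N4124 := eqe L92029 L28768
theorem L92031 : N5301 = N4124 := eqc rfl L92030 rfl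
theorem L92034 : sm gb N4124 = N5356 := trf L92031 L82714 rfl
theorem L92035 : N5356 = N6504 := eqe L92034 L40845
theorem L92036 : N6504 = N5356 := (eqc rfl L92035 rfl).symm
theorem L92038 : sm gd N4124 = N3533 := trf L92031 L34676 rfl
theorem L92039 : N3533 = N2966 := eqe L92038 L28771
theorem L92040 : N3533 = N2966 := eqc rfl L92039 rfl
theorem L92041 : sm ge N4124 = N8705 := trf L92031 L53364 rfl
theorem L92042 : N8705 = N2937 := eqe L92041 L28773
theorem L92043 : N8705 = N2937 := eqc rfl L92042 rfl
theorem L92048 : sm gf N2937 = N5290 := trf L92043 L53360 rfl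
theorem L92049 : N5290 = N2904 := eqe L92048 L22673
theorem L92050 : N5290 = N2904 := eqc rfl L92049 rfl
theorem L92057 : sm gd N2904 = N7434 := trf L92050 L46026 rfl
theorem L92058 : N7434 = N2295 := eqe L92057 L22496
theorem L92059 : N7434 = N2295 := eqc rfl L92058 rfl
theorem L92075 : sm ge N2295 = N4607 := trf L92059 L46027 rfl
theorem L92076 : N4607 = N1694 := eqe L92075 L19457
theorem L92077 : N4607 = N1694 := eqc rfl L92076 rfl
theorem L92089 : sm gg N1694 = N7413 := trf L92077 L45906 rfl
theorem L92090 : N7413 = N860 := eqe L92089 L8631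
theorem L92091 : N7413 = N860 := eqc rfl L92090 rfl
theorem L92104 : sm gf N860 = N7448 := trf L92091 L46097 rfl
theorem L92105 : N7448 = N1693 := eqe L92104 L8624
theorem L92106 : N7448 = N1693 := eqc rfl L92105 rfl
theorem L92110 : sm gb N1693 = N2323 := trf L92106 L83356 L86937
theorem L92111 : N2323 = N2300 := eqe L92110 L19476
theorem L92112 : N2323 = N2300 := eqc rfl L92111 rfl
theorem L92122 : sm gg N1693 = N4609 := trf L92106 L46092 rfl
theorem L92123 : N4609 = N1749 := eqe L92122 L8910
theorem L92124 : N4609 = N1749 := eqc rfl L92123 rfl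
theorem L92126 : sm gb N1749 = N2960 := trf L92124 L31455 L86854
theorem L92127 : N2960 = N2338 := eqe L92126 L19666
theorem L92128 : N2960 = N2338 := eqc rfl L92127 rfl
theorem L92132 : sm gd N1749 = N3190 := trf L92124 L31210 rfl
theorem L92133 : N3190 = N2331 := eqe L92132 L19645
theorem L92134 : N3190 = N2331 := eqc rfl L92133 rfl
theorem L92135 : sm ge N1749 = N7436 := trf L92124 L46038 rfl
theorem L92136 : N7436 = N2314 := eqe L92135 L19553
theorem L92137 : N7436 = N2314 := eqc rfl L92136 rfl
theorem L92139 : sm gb N2314 = N4118 := trf L92137 L46448 L86780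
theorem L92140 : N4118 = N2946 := eqe L92139 L22719
theorem L92141 : N4118 = N2946 := eqc rfl L92140 rfl
theorem L92144 : sm ga N2946 = N4141 := trf L92141 L28865 rfl
theorem L92145 : N4141 = N4148 := eqe L92144 L28914
theorem L92146 : N4148 = N4141 := (eqc rfl L92145 rfl).symm
theorem L92154 : sm gf N2946 = N4137 := trf L92141 L28841 rfl
theorem L92155 : N4137 = N4146 := eqe L92154 L28903
theorem L92156 : N4146 = N4137 := (eqc rfl L92155 rfl).symm
theorem L92157 : sm gg N2946 = N2930 := trf L92141 L28737 rfl
theorem L92158 : N2930 = N4149 := eqe L92157 L28918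
theorem L92159 : N4149 = N2930 := (eqc rfl L92158 rfl).symm
theorem L92163 : sm gb N2930 = N4071 := trf L92159 L28922 rfl
theorem L92164 : N4071 = N2306 := eqe L92163 L22618
theorem L92165 : N4071 = N2306 := eqc rfl L92164 rfl
theorem L92168 : sm gd N2930 = N6528 := trf L92159 L40971 rfl
theorem L92169 : N6528 = N4112 := eqe L92168 L28699
theorem L92170 : N6528 = N4112 := eqc rfl L92169 rfl
theorem L92174 : sm gf N2930 = N6554 := trf L92159 L41114 rfl
theorem L92175 : N6554 = N2311 := eqe L92174 L22621
theorem L92176 : N6554 = N2311 := eqc rfl L92175 rfl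
theorem L92177 : sm gg N2930 = N2946 := trf L92159 L28919 rfl
theorem L92178 : sm gg N2946 = N2930 := flp_g L92177
theorem L92185 : sm gc N2311 = N7974 := trf L92176 L48985 rfl
theorem L92186 : N7974 = N2941 := eqe L92185 L22691
theorem L92187 : N7974 = N2941 := eqc rfl L92186 rfl
theorem L92194 : sm gg N2311 = N6549 := trf L92176 L41120 rfl
theorem L92195 : N6549 = N2942 := eqe L92194 L22697
theorem L92196 : N6549 = N2942 := eqc rfl L92195 rfl
theorem L92201 : sm gc N2942 = N7884 := trf L92196 L48399 rfl
theorem L92202 : sm gc N7884 = N2942 := flp_c L92201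
theorem L92206 : sm ge N2942 = N4237 := trf L92196 L41090 rfl
theorem L92207 : N4237 = N2334 := eqe L92206 L22699
theorem L92208 : N4237 = N2334 := eqc rfl L92207 rfl
theorem L92214 : sm gc N2334 = N5699 := trf L92208 L36491 rfl
theorem L92215 : N5699 = N2981 := eqe L92214 L22874
theorem L92216 : N5699 = N2780 := eqc rfl L92215 L87811
theorem L92220 : sm gf N2334 = N2990 := trf L92208 L29294 rfl
theorem L92221 : N2990 = N2983 := eqe L92220 L22879
theorem L92222 : N2990 = N2983 := eqc rfl L92221 rfl
theorem L92226 : sm gb N2983 = N4240 := trf L92222 L29300 rfl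
theorem L92227 : N4240 = N4228 := eqe L92226 L29264
theorem L92228 : N4240 = N4228 := eqc rfl L92227 rfl
theorem L92229 : sm gc N2983 = N3751 := trf L92222 L26790 rfl
theorem L92230 : N3751 = N4225 := eqe L92229 L29255
theorem L92231 : N3867 = N3751 := (eqc rfl L92230 L87758).symm
theorem L92236 : sm gg N2983 = N4241 := trf L92222 L29302 rfl
theorem L92237 : N4241 = N2958 := eqe L92236 L22883
theorem L92238 : N4241 = N2958 := eqc rfl L92237 rfl
theorem L92250 : sm gf N2958 = N4238 := trf L92238 L29306 rfl
theorem L92251 : N4238 = N2332 := eqe L92250 L22777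
theorem L92252 : N4238 = N2332 := eqc rfl L92251 rfl
theorem L92257 : sm gc N2332 = N5700 := trf L92252 L36497 rfl
theorem L92258 : N5700 = N2978 := eqe L92257 L22857
theorem L92259 : N5700 = N2978 := eqc rfl L92258 rfl
theorem L92260 : sm gd N2332 = N6682 := trf L92252 L41693 rfl
theorem L92261 : N6682 = N2969 := eqe L92260 L22830
theorem L92262 : N6682 = N2969 := eqc rfl L92261 rfl
theorem L92277 : sm gg N2969 = N4209 := trf L92262 L41691 rfl
theorem L92278 : N4209 = N3292 := eqe L92277 L87326
theorem L92279 : N4209 = N2449 := eqc rfl L92278 L87360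
theorem L92282 : N2975 = N2029 := L85942.trans L91236
theorem L92284 : sm gc N2449 = N6681 := trf L92279 L41686 rfl
theorem L92285 : N6681 = N3214 := eqe L92284 L24097
theorem L92286 : N6681 = N3214 := eqc rfl L92285 rfl
theorem L92291 : sm gf N2449 = N2976 := trf L92279 L29192 rfl
theorem L92292 : N2976 = N3215 := eqe L92291 L24103
theorem L92293 : N3215 = N2976 := (eqc rfl L92292 rfl).symm
theorem L92297 : sm gc N2976 = N4673 := trf L92293 L31551 rfl
theorem L92298 : N4673 = N4212 := eqe L92297 L29206
theorem L92299 : N4673 = N4212 := eqc rfl L92298 rfl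
theorem L92302 : sm ge N2976 = N2639 := trf L92293 L24105 rfl
theorem L92303 : N2639 = N4193 := eqe L92302 L29115
theorem L92304 : N4193 = N2639 := (eqc rfl L92303 rfl).symm
theorem L92305 : sm gf N2976 = N2449 := trf L92293 L24104 rfl
theorem L92306 : sm gf N2449 = N2976 := flp_f L92305
theorem L92307 : sm gg N2976 = N2954 := trf L92293 L31554 L87392
theorem L92308 : N2954 = N4213 := eqe L92307 L29210
theorem L92309 : N4213 = N2954 := (eqc rfl L92308 rfl).symm
theorem L92312 : sm gb N2954 = N3180 := trf L92309 L83404 rfl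
theorem L92313 : N3180 = N2320 := eqe L92312 L22746
theorem L92314 : N3180 = N2320 := eqc rfl L92313 rfl
theorem L92319 : sm ge N2954 = N3509 := trf L92309 L83428 rfl
theorem L92320 : N3509 = N4161 := eqe L92319 L28973
theorem L92321 : N3509 = N3428 := eqc rfl L92320 L71227
theorem L92325 : N4167 = N2976 := L87378.trans L92293
theorem L92329 : sm gb N3428 = N2596 := trf L92321 L25758 rfl
theorem L92330 : N2596 = N2673 := eqe L92329 L25407
theorem L92331 : N2673 = N2596 := (eqc rfl L92330 rfl).symm
theorem L92335 : sm gd N3428 = N5256 := trf L92321 L34465 rfl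
theorem L92336 : N5256 = N5067 := eqe L92335 L33601
theorem L92337 : N5256 = N5067 := eqc rfl L92336 rfl
theorem L92344 : sm gb N5067 = N3501 := trf L92337 L34463 rfl
theorem L92345 : N3501 = N3625 := eqe L92344 L33602
theorem L92346 : N3625 = N3501 := (eqc rfl L92345 rfl).symm
theorem L92356 : sm gg N5067 = N6508 := trf L92337 L53099 L83444
theorem L92357 : N6508 = N8322 := eqe L92356 L51469
theorem L92358 : N6508 = N3568 := eqc rfl L92357 L86664
theorem L92362 : sm gc N3568 = N10820 := trf L92358 L64741 rfl
theorem L92363 : N10820 = N5400 := eqe L92362 L35107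
theorem L92364 : N10820 = N5400 := eqc rfl L92363 rfl
theorem L92366 : sm ge N3568 = N4134 := trf L92358 L40872 rfl
theorem L92367 : N4134 = N5376 := eqe L92366 L34995
theorem L92368 : N5376 = N4134 := (eqc rfl L92367 rfl).symm
theorem L92369 : sm gf N3568 = N10817 := trf L92358 L64724 rfl
theorem L92370 : N10817 = N2628 := eqe L92369 L26024
theorem L92371 : N10817 = N2628 := eqc rfl L92370 rfl
theorem L92379 : sm ge N2628 = N6524 := trf L92371 L64721 rfl
theorem L92380 : N6524 = N3556 := eqe L92379 L25972
theorem L92381 : N6524 = N3556 := eqc rfl L92380 rfl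
theorem L92384 : N4133 = N2622 := L85783.trans L91219
theorem L92386 : sm gc N3556 = N10854 := trf L92381 L64907 rfl
theorem L92387 : N10854 = N5375 := eqe L92386 L34988
theorem L92388 : N10854 = N5375 := eqc rfl L92387 rfl
theorem L92392 : sm gg N3556 = N10855 := trf L92381 L64911 rfl
theorem L92393 : N10855 = N5373 := eqe L92392 L34983
theorem L92394 : N10855 = N4127 := eqc rfl L92393 L86757
theorem L92397 : sm gf N4127 = N10859 := trf L92394 L64934 rfl
theorem L92398 : N10859 = N5055 := eqe L92397 L74867
theorem L92399 : N10859 = N5055 := eqc rfl L92398 rfl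
theorem L92404 : sm gg N5055 = N6526 := trf L92399 L64928 rfl
theorem L92405 : N6526 = N6515 := eqe L92404 L74875
theorem L92406 : N6526 = N6515 := eqc rfl L92405 rfl
theorem L92407 : sm ga N6515 = N4134 := trf L92406 L40962 rfl
theorem L92408 : sm ga N4134 = N6515 := flp_a L92407
theorem L92409 : sm gb N6515 = N5493 := trf L92406 L79312 rfl
theorem L92410 : N5493 = N9937 := eqe L92409 L59656
theorem L92411 : N9937 = N5493 := (eqc rfl L92410 rfl).symm
theorem L92412 : sm gc N6515 = N10858 := trf L92406 L64923 rfl
theorem L92413 : N10858 = N10833 := eqe L92412 L64805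
theorem L92414 : N10858 = N10833 := eqc rfl L92413 rfl
theorem L92416 : sm ge N6515 = N5557 := trf L92406 L79309 rfl
theorem L92417 : N5557 = N5070 := eqe L92416 L74883
theorem L92418 : N5557 = N5070 := eqc rfl L92417 rfl
theorem L92422 : sm gb N5070 = N3641 := trf L92418 L35839 rfl
theorem L92423 : N3641 = N8328 := eqe L92422 L51495
theorem L92424 : N8328 = N3642 := L86704.trans L90655
theorem L92425 : N3642 = N3641 := (eqc rfl L92423 L92424).symm
theorem L92426 : sm gc N5070 = N9220 := trf L92418 L55961 rfl
theorem L92427 : N9220 = N8326 := eqe L92426 L51488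
theorem L92428 : N9220 = N8326 := eqc rfl L92427 rfl
theorem L92429 : N6643 = N3431 := L83437.trans L90728
theorem L92437 : sm gb N8326 = N5554 := trf L92428 L55959 rfl
theorem L92438 : sm gb N5554 = N8326 := flp_b L92437
theorem L92439 : sm ga N3641 = N2662 := trf L92425 L26351 rfl
theorem L92440 : N2662 = N2661 := eqe L92439 L26347
theorem L92441 : N2662 = N2661 := eqc rfl L92440 rfl
theorem L92444 : sm gc N3641 = N5559 := trf L92425 L35849 rfl
theorem L92445 : N5559 = N2660 := eqe L92444 L26346
theorem L92446 : N5559 = N2660 := eqc rfl L92445 rfl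
theorem L92447 : sm gd N3641 = N2687 := trf L92425 L26353 rfl
theorem L92448 : N2687 = N5558 := eqe L92447 L35840
theorem L92449 : N5558 = N2687 := (eqc rfl L92448 rfl).symm
theorem L92450 : sm ge N3641 = N5494 := trf L92425 L35553 rfl
theorem L92451 : N5494 = N5493 := eqe L92450 L35547
theorem L92452 : N5494 = N5493 := eqc rfl L92451 rfl
theorem L92455 : sm gg N3641 = N3546 := trf L92425 L26356 L90631
theorem L92456 : N3546 = N5546 := eqe L92455 L35797
theorem L92457 : N5546 = N3546 := (eqc rfl L92456 rfl).symm
theorem L92458 : sm ga N3546 = N3637 := trf L92457 L35794 rfl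
theorem L92459 : N3637 = N5350 := eqe L92458 L34881
theorem L92460 : N3637 = N3381 := eqc rfl L92459 L82832
theorem L92464 : sm gc N3546 = N3636 := trf L92457 L35793 rfl
theorem L92465 : N3636 = N2617 := eqe L92464 L25936
theorem L92466 : N3636 = N2617 := eqc rfl L92465 rfl
theorem L92470 : sm ge N3546 = N9071 := trf L92457 L55212 rfl
theorem L92471 : N9071 = N5342 := eqe L92470 L34847
theorem L92472 : N9071 = N5342 := eqc rfl L92471 rfl
theorem L92473 : sm gf N3546 = N5565 := trf L92457 L35874 rfl
theorem L92474 : N5565 = N4992 := eqe L92473 L33275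
theorem L92475 : N4992 = N2658 := L74751.trans L90223
theorem L92476 : N5565 = N2658 := eqc rfl L92474 L92475
theorem L92477 : sm gg N3546 = N3641 := trf L92457 L35796 rfl
theorem L92478 : N3641 = N5353 := eqe L92477 L34892
theorem L92479 : N5353 = N3641 := (eqc rfl L92478 rfl).symm
theorem L92495 : sm gf N3641 = N8826 := trf L92479 L54003 rfl
theorem L92496 : N8826 = N5559 := eqe L92495 L35844
theorem L92497 : N8826 = N2660 := eqc rfl L92496 L92446
theorem L92498 : sm gg N3641 = N3546 := trf L92479 L34893 rfl
theorem L92499 : sm gg N3546 = N3641 := flp_g L92498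
theorem L92500 : sm ga N2660 = N8181 := trf L92497 L54005 rfl
theorem L92501 : N8181 = N2172 := eqe L92500 L21303
theorem L92502 : N8181 = N2172 := eqc rfl L92501 rfl
theorem L92513 : sm gd N2172 = N5709 := trf L92502 L73220 rfl
theorem L92514 : N5709 = N1199 := eqe L92513 L18853
theorem L92515 : N5709 = N1199 := eqc rfl L92514 rfl
theorem L92531 : sm gg N1199 = N5307 := trf L92515 L36558 rfl
theorem L92532 : N5307 = N2181 := eqe L92531 L18892
theorem L92533 : N5307 = N2181 := eqc rfl L92532 rfl
theorem L92543 : sm gf N2181 = N3525 := trf L92533 L34701 rfl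
theorem L92544 : N3525 = N2683 := eqe L92543 L21406
theorem L92545 : N3525 = N2683 := eqc rfl L92544 rfl
theorem L92546 : sm ga N2683 = N4983 := trf L92545 L34694 L82756
theorem L92547 : N4983 = N2690 := eqe L92546 L21433
theorem L92548 : N4983 = N2548 := eqc rfl L92547 L90703
theorem L92552 : sm gc N2683 = N5306 := trf L92545 L34698 rfl
theorem L92553 : N5306 = N3689 := eqe L92552 L26556
theorem L92554 : N5306 = N3689 := eqc rfl L92553 rfl
theorem L92557 : sm ge N2683 = N4557 := trf L92545 L31215 L90478
theorem L92558 : N4557 = N3275 := eqe L92557 L24536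
theorem L92559 : N4557 = N3275 := eqc rfl L92558 rfl
theorem L92564 : sm gb N3275 = N3152 := trf L92559 L30925 rfl
theorem L92565 : N3152 = N4804 := eqe L92564 L32249
theorem L92566 : N4804 = N3152 := (eqc rfl L92565 rfl).symm
theorem L92570 : sm gd N3275 = N7309 := trf L92559 L45284 rfl
theorem L92571 : N7309 = N4758 := eqe L92570 L32028
theorem L92572 : N7309 = N4758 := eqc rfl L92571 rfl
theorem L92577 : sm gg N3275 = N6662 := trf L92559 L45426 L74957
theorem L92578 : N6662 = N3279 := eqe L92577 L24557
theorem L92579 : N6662 = N3279 := eqc rfl L92578 rfl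
theorem L92583 : sm gb N3279 = N4200 := trf L92579 L41601 rfl
theorem L92584 : N4200 = N4815 := eqe L92583 L32303
theorem L92585 : N4815 = N4200 := (eqc rfl L92584 rfl).symm
theorem L92589 : sm gd N3279 = N4228 := trf L92579 L41602 rfl
theorem L92590 : N4228 = N4762 := eqe L92589 L32046
theorem L92591 : N4762 = N4228 := (eqc rfl L92590 rfl).symm
theorem L92598 : sm gg N3279 = N11091 := trf L92579 L66168 rfl
theorem L92599 : N11091 = N3275 := eqe L92598 L24558
theorem L92600 : N11091 = N3275 := eqc rfl L92599 rfl
theorem L92604 : sm gd N3275 = N6718 := trf L92600 L66170 rfl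
theorem L92605 : N6718 = N4758 := eqe L92604 L32028
theorem L92606 : N6718 = N4758 := eqc rfl L92605 rfl
theorem L92612 : sm gc N4758 = N11186 := trf L92606 L66684 rfl
theorem L92613 : N11186 = N7752 := eqe L92612 L47727
theorem L92614 : N11186 = N7752 := eqc rfl L92613 rfl
theorem L92615 : sm ge N4758 = N9941 := trf L92606 L59673 rfl
theorem L92616 : N9941 = N7688 := eqe L92615 L47393
theorem L92617 : N9941 = N7688 := eqc rfl L92616 rfl
theorem L92618 : sm gf N4758 = N11187 := trf L92606 L66687 rfl
theorem L92619 : N11187 = N3253 := eqe L92618 L32026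
theorem L92620 : N11187 = N3253 := eqc rfl L92619 rfl
theorem L92632 : sm gg N3253 = N7469 := trf L92620 L66693 rfl
theorem L92633 : N7469 = N2469 := eqe L92632 L24431
theorem L92634 : N7469 = N2469 := eqc rfl L92633 rfl
theorem L92635 : sm ga N2469 = N6715 := trf L92634 L59071 rfl
theorem L92636 : N6715 = N3255 := eqe L92635 L24441
theorem L92637 : N6715 = N3255 := eqc rfl L92636 rfl
theorem L92645 : sm gf N2469 = N4911 := trf L92634 L46223 rfl
theorem L92646 : N4911 = N3257 := eqe L92645 L24447
theorem L92647 : N4911 = N3257 := eqc rfl L92646 rfl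
theorem L92651 : sm gc N3257 = N4919 := trf L92647 L32896 rfl
theorem L92652 : N4919 = N4764 := eqe L92651 L32054
theorem L92653 : N4919 = N4764 := eqc rfl L92652 rfl
theorem L92657 : sm gg N3257 = N8052 := trf L92647 L49406 rfl
theorem L92658 : N8052 = N4518 := eqe L92657 L90821
theorem L92659 : N8052 = N4518 := eqc rfl L92658 rfl
theorem L92665 : sm gc N4518 = N8068 := trf L92659 L49489 rfl
theorem L92666 : N8068 = N7259 := eqe L92665 L44985
theorem L92667 : N8068 = N7259 := eqc rfl L92666 rfl
theorem L92668 : sm ge N4518 = N5970 := trf L92659 L49408 rfl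
theorem L92669 : N5970 = N7244 := eqe L92668 L44920
theorem L92670 : N7244 = N5970 := (eqc rfl L92669 rfl).symm
theorem L92672 : sm gb N5970 = N4510 := trf L92670 L44916 rfl
theorem L92673 : N4510 = N9942 := eqe L92672 L59676
theorem L92674 : N9942 = N4510 := (eqc rfl L92673 rfl).symm
theorem L92675 : sm gd N5970 = N5006 := trf L92670 L44917 rfl
theorem L92676 : N5006 = N9939 := eqe L92675 L59663
theorem L92677 : N9939 = N5006 := (eqc rfl L92676 rfl).symm
theorem L92678 : sm ge N5970 = N4518 := trf L92670 L44919 rfl
theorem L92679 : sm ge N4518 = N5970 := flp_e L92678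
theorem L92682 : sm gg N5006 = N5967 := trf L92677 L59661 rfl
theorem L92683 : N5967 = N8209 := eqe L92682 L50905
theorem L92684 : N5967 = N5348 := eqc rfl L92683 L81671
theorem L92688 : sm gb N5348 = N3415 := trf L92684 L37701 L90927
theorem L92689 : N3415 = N3544 := eqe L92688 L34873
theorem L92690 : N3544 = N3415 := (eqc rfl L92689 rfl).symm
theorem L92700 : sm gf N5348 = N2648 := trf L92684 L53720 L91876
theorem L92701 : N2648 = N8809 := eqe L92700 L53940
theorem L92702 : N8809 = N2648 := (eqc rfl L92701 rfl).symm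
theorem L92712 : sm gf N2648 = N5348 := trf L92702 L53939 rfl
theorem L92713 : N5348 = N3614 := eqe L92712 L26217
theorem L92714 : N5348 = N3614 := eqc rfl L92713 rfl
theorem L92718 : sm gc N3614 = N8812 := trf L92714 L53953 rfl
theorem L92719 : N8812 = N5496 := eqe L92718 L35561
theorem L92720 : N8812 = N5496 := eqc rfl L92719 rfl
theorem L92726 : sm gg N3614 = N8813 := trf L92714 L53959 rfl
theorem L92727 : N8813 = N5497 := eqe L92726 L35564
theorem L92728 : N8813 = N5497 := eqc rfl L92727 rfl
theorem L92734 : N7695 = N5970 := L90816.trans L92670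
theorem L92736 : sm ge N5497 = N5368 := trf L92728 L53961 rfl
theorem L92737 : N5368 = N3645 := eqe L92736 L35568
theorem L92738 : N5368 = N3645 := eqc rfl L92737 rfl
theorem L92745 : sm gc N3645 = N8858 := trf L92738 L54130 rfl
theorem L92746 : N8858 = N5565 := eqe L92745 L35873
theorem L92747 : N8858 = N2658 := eqc rfl L92746 L92476
theorem L92767 : sm gg N2658 = N5367 := trf L92747 L54128 rfl
theorem L92768 : N5367 = N2172 := eqe L92767 L21292
theorem L92769 : N5367 = N2172 := eqc rfl L92768 rfl
theorem L92770 : sm ga N2172 = N8855 := trf L92769 L54116 rfl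
theorem L92771 : N8855 = N2660 := eqe L92770 L21302
theorem L92772 : N8855 = N2660 := eqc rfl L92771 rfl
theorem L92780 : sm ge N2172 = N5496 := trf L92769 L53956 L92720
theorem L92781 : N5496 = N2648 := eqe L92780 L21249
theorem L92782 : N5496 = N2648 := eqc rfl L92781 rfl
theorem L92793 : sm gc N2648 = N3614 := trf L92782 L35560 rfl
theorem L92794 : N3614 = N3613 := eqe L92793 L26213
theorem L92795 : N3614 = N3613 := eqc rfl L92794 rfl
theorem L92804 : sm gg N2648 = N9090 := trf L92782 L55299 rfl
theorem L92805 : N9090 = N3610 := eqe L92804 L26200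
theorem L92806 : N9090 = N3610 := eqc rfl L92805 rfl
theorem L92807 : sm ga N3610 = N9073 := trf L92806 L55301 rfl
theorem L92808 : N9073 = N5488 := eqe L92807 L35518
theorem L92809 : N9073 = N5488 := eqc rfl L92808 rfl
theorem L92810 : sm gc N3610 = N5497 := trf L92806 L55303 rfl
theorem L92811 : N5497 = N5489 := eqe L92810 L35524
theorem L92812 : N5497 = N5489 := eqc rfl L92811 rfl
theorem L92814 : sm gf N3610 = N5342 := trf L92806 L55308 L92472
theorem L92815 : N5342 = N5490 := eqe L92814 L35530
theorem L92816 : N5490 = N5342 := (eqc rfl L92815 rfl).symm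
theorem L92817 : sm ga N5342 = N5489 := trf L92816 L35567 L92812
theorem L92818 : N5489 = N4987 := eqe L92817 L82872
theorem L92819 : N5489 = N4987 := eqc rfl L92818 rfl
theorem L92823 : sm gc N5342 = N5488 := trf L92816 L55222 L92809
theorem L92824 : N5488 = N3541 := eqe L92823 L34845
theorem L92825 : N5488 = N3541 := eqc rfl L92824 rfl
theorem L92826 : sm gd N5342 = N7688 := trf L92816 L47391 rfl
theorem L92827 : N7688 = N8797 := eqe L92826 L53859
theorem L92828 : N8797 = N7688 := (eqc rfl L92827 rfl).symm
theorem L92830 : sm gf N5342 = N3610 := trf L92816 L35531 rfl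
theorem L92831 : N3610 = N8171 := eqe L92830 L50730
theorem L92832 : N5341 = N3610 := (eqc rfl L92831 L74767).symm
theorem L92837 : sm gd N3610 = N6052 := trf L92832 L38119 rfl
theorem L92838 : N6052 = N4728 := eqe L92837 L31860
theorem L92839 : N6052 = N4728 := eqc rfl L92838 rfl
theorem L92841 : sm gg N3610 = N8796 := trf L92832 L53851 rfl
theorem L92842 : N8796 = N2648 := eqe L92841 L26199
theorem L92843 : N8796 = N2648 := eqc rfl L92842 rfl
theorem L92853 : sm gf N2648 = N8172 := trf L92843 L53857 rfl
theorem L92854 : N8172 = N3614 := eqe L92853 L26217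
theorem L92855 : N8172 = N3613 := eqc rfl L92854 L92795
theorem L92857 : sm gd N3613 = N10079 := trf L92855 L60363 rfl
theorem L92858 : N10079 = N5495 := eqe L92857 L35556
theorem L92859 : N10079 = N5495 := eqc rfl L92858 rfl
theorem L92866 : sm ge N5495 = N10340 := trf L92859 L61839 rfl
theorem L92867 : N10340 = N6742 := eqe L92866 L79352
theorem L92868 : N10340 = N6742 := eqc rfl L92867 rfl
theorem L92871 : sm gg N5495 = N6048 := trf L92859 L60361 rfl
theorem L92872 : N6048 = N9072 := eqe L92871 L55218
theorem L92873 : N9072 = N6048 := (eqc rfl L92872 rfl).symm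
theorem L92880 : sm gc N6048 = N8505 := trf L92873 L79339 rfl
theorem L92881 : N8505 = N9957 := eqe L92880 L59743
theorem L92882 : N9957 = N8505 := (eqc rfl L92881 rfl).symm
theorem L92887 : sm gf N6048 = N5926 := trf L92873 L79343 rfl
theorem L92888 : N5926 = N3886 := eqe L92887 L38086
theorem L92889 : N5926 = N3886 := eqc rfl L92888 rfl
theorem L92895 : sm gb N3886 = N3819 := trf L92889 L37531 rfl
theorem L92896 : N3819 = N2793 := eqe L92895 L27485
theorem L92897 : N3819 = N2793 := eqc rfl L92896 rfl
theorem L92898 : sm gc N3886 = N9875 := trf L92889 L59284 rfl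
theorem L92899 : N9875 = N5983 := eqe L92898 L37763
theorem L92900 : N9875 = N5983 := eqc rfl L92899 rfl
theorem L92907 : sm gg N3886 = N9876 := trf L92889 L59290 rfl
theorem L92908 : N9876 = N6053 := eqe L92907 L38120
theorem L92909 : N9876 = N6053 := eqc rfl L92908 rfl
theorem L92910 : sm gb N6053 = N9927 := trf L92909 L59593 rfl
theorem L92911 : N9927 = N10085 := eqe L92910 L60398
theorem L92912 : N10085 = N9927 := (eqc rfl L92911 rfl).symm
theorem L92913 : sm ge N6053 = N6744 := trf L92909 L59292 rfl
theorem L92914 : N6744 = N6346 := eqe L92913 L40031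
theorem L92915 : N6744 = N6346 := eqc rfl L92914 rfl
theorem L92924 : sm gc N6346 = N11214 := trf L92915 L66858 rfl
theorem L92925 : N11214 = N10543 := eqe L92924 L63099
theorem L92926 : N11214 = N10543 := eqc rfl L92925 rfl
theorem L92930 : sm gf N6346 = N4228 := trf L92915 L41935 L92228
theorem L92931 : N4228 = N10545 := eqe L92930 L63110
theorem L92932 : N10545 = N4228 := (eqc rfl L92931 rfl).symm
theorem L92943 : sm gf N4228 = N6346 := trf L92932 L63111 rfl
theorem L92944 : N6346 = N6715 := eqe L92943 L41841
theorem L92945 : N6346 = N3255 := eqc rfl L92944 L92637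
theorem L92954 : sm gc N3255 = N10543 := trf L92945 L63099 rfl
theorem L92955 : N10543 = N4761 := eqe L92954 L32037
theorem L92956 : N10543 = N4761 := eqc rfl L92955 rfl
theorem L92960 : sm ge N3255 = N6053 := trf L92945 L40030 rfl
theorem L92961 : N6053 = N4730 := eqe L92960 L31880
theorem L92962 : N6053 = N4730 := eqc rfl L92961 rfl
theorem L92963 : sm gg N3255 = N4039 := trf L92945 L40029 rfl
theorem L92964 : N4039 = N4756 := eqe L92963 L32020
theorem L92965 : N4756 = N4039 := (eqc rfl L92964 rfl).symm
theorem L92968 : N7749 = N4517 := L82574.trans L90824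
theorem L92969 : sm gb N4039 = N4517 := trf L92965 L47710 L92968
theorem L92970 : N4517 = N2881 := eqe L92969 L28296
theorem L92971 : N4517 = N2881 := eqc rfl L92970 rfl
theorem L92972 : sm gc N4039 = N7750 := trf L92965 L47714 rfl
theorem L92973 : N7750 = N6345 := eqe L92972 L40022
theorem L92974 : N7750 = N6345 := eqc rfl L92973 rfl
theorem L92975 : sm gd N4039 = N3273 := trf L92965 L32017 rfl
theorem L92976 : N3273 = N5333 := eqe L92975 L34807
theorem L92977 : N5333 = N3273 := (eqc rfl L92976 rfl).symm
theorem L92981 : sm gf N4039 = N4518 := trf L92965 L90826 rfl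
theorem L92982 : N4518 = N6222 := eqe L92981 L38977
theorem L92983 : N6222 = N4518 := (eqc rfl L92982 rfl).symm
theorem L92984 : sm gg N4039 = N3255 := trf L92965 L32019 rfl
theorem L92985 : sm gg N3255 = N4039 := flp_g L92984
theorem L92989 : sm gb N4518 = N3976 := trf L92983 L38973 rfl
theorem L92990 : N3976 = N3134 := eqe L92989 L30719
theorem L92991 : N3976 = N3134 := eqc rfl L92990 rfl
theorem L92992 : sm gc N4518 = N10339 := trf L92983 L61828 rfl
theorem L92993 : N10339 = N7259 := eqe L92992 L44985
theorem L92994 : N10339 = N7259 := eqc rfl L92993 rfl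
theorem L92998 : sm ge N4518 = N6048 := trf L92983 L38974 rfl
theorem L92999 : N6048 = N5970 := eqe L92998 L92679
theorem L93000 : N6048 = N5970 := eqc rfl L92999 rfl
theorem L93001 : sm gf N4518 = N4039 := trf L92983 L38976 rfl
theorem L93002 : sm gf N4039 = N4518 := flp_f L93001
theorem L93003 : sm gg N4518 = N6742 := trf L92983 L61836 L92868
theorem L93004 : N6742 = N3257 := eqe L93003 L90820
theorem L93005 : N6742 = N3257 := eqc rfl L93004 rfl
theorem L93011 : sm gc N3257 = N4763 := trf L93005 L79562 rfl
theorem L93012 : N4763 = N4764 := eqe L93011 L32054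
theorem L93013 : N4764 = N4763 := (eqc rfl L93012 rfl).symm
theorem L93017 : sm ge N3257 = N5495 := trf L93005 L79351 rfl
theorem L93018 : N5495 = N4732 := eqe L93017 L31890
theorem L93019 : N5495 = N3841 := eqc rfl L93018 L90921
theorem L93028 : sm gc N3841 = N5170 := trf L93019 L79576 rfl
theorem L93029 : N5170 = N3868 := eqe L93028 L27378
theorem L93030 : N5170 = N3868 := eqc rfl L93029 rfl
theorem L93031 : sm gd N3841 = N3613 := trf L93019 L35557 rfl
theorem L93032 : sm gd N3613 = N3841 := flp_d L93031
theorem L93036 : sm ga N3868 = N8502 := trf L93030 L52341 rfl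
theorem L93037 : N8502 = N6021 := eqe L93036 L37956
theorem L93038 : N8502 = N6021 := eqc rfl L93037 rfl
theorem L93042 : sm gd N3868 = N5796 := trf L93030 L79643 rfl
theorem L93043 : N5796 = N6019 := eqe L93042 L37947
theorem L93044 : N6019 = N5796 := (eqc rfl L93043 rfl).symm
theorem L93047 : N4919 = N4763 := L92653.trans L93013
theorem L93051 : sm gg N3868 = N8505 := trf L93030 L52347 rfl
theorem L93052 : N8505 = N6022 := eqe L93051 L37960
theorem L93053 : N8505 = N6022 := eqc rfl L93052 rfl
theorem L93054 : sm gb N6022 = N9851 := trf L93053 L59145 rfl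
theorem L93055 : N9851 = N10037 := eqe L93054 L60144
theorem L93056 : N10037 = N9851 := (eqc rfl L93055 rfl).symm
theorem L93057 : sm gf N6022 = N5983 := trf L93053 L59287 L92900
theorem L93058 : N5983 = N10038 := eqe L93057 L60148
theorem L93059 : N10038 = N5983 := (eqc rfl L93058 rfl).symm
theorem L93060 : sm ga N5983 = N9008 := trf L93059 L60150 rfl
theorem L93061 : N9008 = N9972 := eqe L93060 L59820
theorem L93062 : N9972 = N9008 := (eqc rfl L93061 rfl).symm
theorem L93068 : N9957 = N6022 := L92882.trans L93053
theorem L93069 : sm gg N5983 = N9007 := trf L93059 L60154 rfl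
theorem L93070 : N9007 = N9973 := eqe L93069 L59824
theorem L93071 : N9973 = N9007 := (eqc rfl L93070 rfl).symm
theorem L93075 : N11214 = N4761 := L92926.trans L92956
theorem L93076 : sm gb N9007 = N4761 := trf L93071 L66861 L93075
theorem L93077 : N4761 = N11183 := eqe L93076 L66666
theorem L93078 : N11183 = N4761 := (eqc rfl L93077 rfl).symm
theorem L93079 : sm gc N9007 = N4730 := trf L93071 L59826 L92962
theorem L93080 : N4730 = N8773 := eqe L93079 L54889
theorem L93081 : N8773 = N4730 := (eqc rfl L93080 rfl).symm
theorem L93084 : sm gg N9007 = N5983 := trf L93071 L59825 rfl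
theorem L93087 : sm gb N4730 = N6539 := trf L93081 L59065 rfl
theorem L93088 : N6539 = N7690 := eqe L93087 L47400
theorem L93089 : N7690 = N6539 := (eqc rfl L93088 rfl).symm
theorem L93090 : sm gc N4730 = N9007 := trf L93081 L54890 rfl
theorem L93091 : N9007 = N7691 := eqe L93090 L47406
theorem L93092 : N9007 = N7691 := eqc rfl L93091 rfl
theorem L93094 : sm gf N4730 = N5969 := trf L93081 L53731 rfl
theorem L93095 : N5969 = N7692 := eqe L93094 L47412
theorem L93096 : N7692 = N5969 := (eqc rfl L93095 rfl).symm
theorem L93103 : sm gf N5969 = N4730 := trf L93096 L47413 rfl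
theorem L93104 : sm gf N4730 = N5969 := flp_f L93103
theorem L93107 : sm ga N7691 = N5448 := trf L93092 L54888 rfl
theorem L93108 : N5448 = N4731 := eqe L93107 L47408
theorem L93109 : N5448 = N4731 := eqc rfl L93108 rfl
theorem L93110 : sm gb N7691 = N4761 := trf L93092 L66666 L93078
theorem L93111 : sm gb N4761 = N7691 := flp_b L93110
theorem L93112 : N7691 = N7761 := eqe L93111 L47760
theorem L93113 : N7761 = N7691 := (eqc rfl L93112 rfl).symm
theorem L93115 : sm gf N7691 = N6021 := trf L93092 L54891 rfl
theorem L93116 : sm gf N6021 = N7691 := flp_f L93115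
theorem L93117 : sm gg N7691 = N5983 := trf L93092 L93084 rfl
theorem L93118 : sm gg N5983 = N7691 := flp_g L93117
theorem L93119 : sm gb N7691 = N4761 := trf L93113 L47761 rfl
theorem L93120 : sm gb N4761 = N7691 := flp_b L93119
theorem L93121 : sm gb N4731 = N3590 := trf L93109 L35333 rfl
theorem L93122 : N3590 = N6644 := eqe L93121 L41529
theorem L93123 : N6644 = N3590 := (eqc rfl L93122 rfl).symm
theorem L93125 : sm gd N4731 = N9005 := trf L93109 L54876 rfl
theorem L93126 : N9005 = N7693 := eqe L93125 L47422
theorem L93127 : N9005 = N7693 := eqc rfl L93126 rfl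
theorem L93129 : sm gf N4731 = N3868 := trf L93109 L35336 rfl
theorem L93130 : N3868 = N7694 := eqe L93129 L47424
theorem L93131 : N7694 = N3868 := (eqc rfl L93130 rfl).symm
theorem L93132 : sm gg N4731 = N9008 := trf L93109 L54893 rfl
theorem L93133 : N9008 = N7687 := eqe L93132 L47387
theorem L93134 : N9008 = N7687 := eqc rfl L93133 rfl
theorem L93136 : sm gf N7687 = N10036 := trf L93134 L60143 rfl
theorem L93141 : sm gf N3868 = N4731 := trf L93131 L47425 rfl
theorem L93142 : sm gf N4731 = N3868 := flp_f L93141
theorem L93143 : sm gb N7693 = N5447 := trf L93127 L54874 rfl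
theorem L93144 : N5447 = N4863 := eqe L93143 L79602
theorem L93145 : N5447 = N4863 := eqc rfl L93144 rfl
theorem L93146 : sm gf N7693 = N5796 := trf L93127 L54877 L93044
theorem L93147 : sm gf N5796 = N7693 := flp_f L93146
theorem L93148 : N7693 = N9640 := eqe L93147 L57958
theorem L93149 : N9640 = N7693 := (eqc rfl L93148 rfl).symm
theorem L93150 : sm gf N7693 = N5796 := trf L93149 L57959 rfl
theorem L93151 : sm gf N5796 = N7693 := flp_f L93150
theorem L93163 : sm gf N4863 = N3589 := trf L93145 L35329 rfl
theorem L93164 : N3589 = N7884 := eqe L93163 L48403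
theorem L93165 : N7884 = N3589 := (eqc rfl L93164 rfl).symm
theorem L93166 : sm gg N4863 = N9006 := trf L93145 L54879 rfl
theorem L93167 : N9006 = N7973 := eqe L93166 L48970
theorem L93168 : N9006 = N7973 := eqc rfl L93167 rfl
theorem L93174 : sm gf N7973 = N8986 := trf L93168 L54886 rfl
theorem L93175 : N8986 = N7885 := eqe L93174 L48978
theorem L93176 : N8986 = N7885 := eqc rfl L93175 rfl
theorem L93177 : sm ga N7885 = N5437 := trf L93176 L54773 rfl
theorem L93178 : N5437 = N7974 := eqe L93177 L48983
theorem L93179 : N5437 = N2941 := eqc rfl L93178 L92187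
theorem L93182 : sm gg N7885 = N5443 := trf L93176 L54775 rfl
theorem L93183 : N5443 = N4819 := eqe L93182 L48405
theorem L93184 : N5443 = N4819 := eqc rfl L93183 rfl
theorem L93187 : sm gb N4819 = N4813 := trf L93184 L87596 rfl
theorem L93188 : N4813 = N3281 := eqe L93187 L32320
theorem L93189 : N4813 = N3281 := eqc rfl L93188 rfl
theorem L93193 : sm gd N4819 = N3587 := trf L93184 L35311 rfl
theorem L93194 : N3587 = N7882 := eqe L93193 L48385
theorem L93195 : N7882 = N3587 := (eqc rfl L93194 rfl).symm
theorem L93202 : sm gb N3587 = N4818 := trf L93195 L48383 rfl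
theorem L93203 : N4818 = N5442 := eqe L93202 L35308
theorem L93204 : N4818 = N3278 := eqc rfl L93203 L87582
theorem L93205 : sm gd N3587 = N4819 := trf L93195 L48384 rfl
theorem L93206 : sm gd N4819 = N3587 := flp_d L93205
theorem L93207 : sm gf N3587 = N4862 := trf L93195 L48386 rfl
theorem L93208 : N4862 = N5444 := eqe L93207 L35314
theorem L93209 : N5101 = N4862 := (eqc rfl L93208 L87415).symm
theorem L93217 : sm ge N4862 = N4902 := trf L93209 L45412 L87575
theorem L93218 : N4902 = N4576 := eqe L93217 L79723
theorem L93219 : N4902 = N4576 := eqc rfl L93218 rfl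
theorem L93223 : N5444 = N4862 := L87415.trans L93209
theorem L93224 : sm gg N4862 = N3429 := trf L93209 L33747 rfl
theorem L93225 : N3429 = N7971 := eqe L93224 L48960
theorem L93226 : N7971 = N3429 := (eqc rfl L93225 rfl).symm
theorem L93232 : sm gg N3429 = N4862 := trf L93226 L48961 rfl
theorem L93233 : sm gg N4862 = N3429 := flp_g L93232
theorem L93241 : sm gd N4576 = N3330 := trf L93219 L32808 rfl
theorem L93242 : N3330 = N3163 := eqe L93241 L31024
theorem L93243 : N3330 = N3163 := eqc rfl L93242 rfl
theorem L93246 : sm gg N4576 = N3329 := trf L93219 L32807 rfl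
theorem L93247 : N3329 = N7352 := eqe L93246 L45514
theorem L93248 : N7352 = N3329 := (eqc rfl L93247 rfl).symm
theorem L93259 : sm gg N3329 = N4576 := trf L93248 L45513 rfl
theorem L93260 : sm gg N4576 = N3329 := flp_g L93259
theorem L93271 : N6581 = N4212 := L87451.trans L92299
theorem L93272 : sm ga N3163 = N3342 := trf L93243 L32793 L87730
theorem L93273 : N3342 = N4577 := eqe L93272 L31026
theorem L93274 : N4577 = N3342 := (eqc rfl L93273 rfl).symm
theorem L93280 : sm ge N3163 = N2760 := trf L93243 L24879 rfl
theorem L93281 : N2760 = N2572 := eqe L93280 L23819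
theorem L93282 : N2760 = N2572 := eqc rfl L93281 rfl
theorem L93283 : sm gf N3163 = N3339 := trf L93243 L27352 L87681
theorem L93284 : N3339 = N4578 := eqe L93283 L31030
theorem L93285 : N4578 = N3339 := (eqc rfl L93284 rfl).symm
theorem L93291 : sm gb N3339 = N4858 := trf L93285 L32548 rfl
theorem L93292 : N4858 = N4913 := eqe L93291 L32863
theorem L93293 : N4913 = N4858 := (eqc rfl L93292 rfl).symm
theorem L93299 : sm ge N3339 = N3461 := trf L93285 L31032 rfl
theorem L93300 : N3461 = N2778 := eqe L93299 L24942
theorem L93301 : N3461 = N2778 := eqc rfl L93300 rfl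
theorem L93302 : sm gf N3339 = N3163 := trf L93285 L31031 rfl
theorem L93303 : sm gf N3163 = N3339 := flp_f L93302
theorem L93304 : sm gg N3339 = N7388 := trf L93285 L45727 rfl
theorem L93305 : N7388 = N4053 := eqe L93304 L28397
theorem L93306 : N7388 = N4053 := eqc rfl L93305 rfl
theorem L93315 : sm gf N4053 = N7354 := trf L93306 L45734 rfl
theorem L93316 : N7354 = N4920 := eqe L93315 L32905
theorem L93317 : N7354 = N3327 := eqc rfl L93316 L87713
theorem L93327 : sm ge N3327 = N5123 := trf L93317 L45525 rfl
theorem L93328 : N5123 = N2757 := eqe L93327 L24861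
theorem L93329 : N5123 = N2757 := eqc rfl L93328 rfl
theorem L93342 : sm gf N2757 = N5172 := trf L93329 L34036 rfl
theorem L93343 : N5172 = N3812 := eqe L93342 L27065
theorem L93344 : N5172 = N3812 := eqc rfl L93343 rfl
theorem L93352 : sm gc N3812 = N5812 := trf L93344 L37016 rfl
theorem L93353 : N5812 = N2748 := eqe L93352 L27061
theorem L93354 : N5812 = N2748 := eqc rfl L93353 rfl
theorem L93360 : sm ga N2748 = N5772 := trf L93354 L37013 rfl
theorem L93361 : N5772 = N2219 := eqe L93360 L21695
theorem L93362 : N5772 = N2219 := eqc rfl L93361 rfl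
theorem L93373 : sm gg N2748 = N3759 := trf L93354 L37012 rfl
theorem L93374 : N3759 = N2761 := eqe L93373 L21741
theorem L93375 : N3759 = N2233 := eqc rfl L93374 L87678
theorem L93376 : sm ga N2233 = N5811 := trf L93375 L37006 rfl
theorem L93377 : N5811 = N1282 := eqe L93376 L19129
theorem L93378 : N5811 = N1282 := eqc rfl L93377 rfl
theorem L93401 : sm gg N1282 = N2219 := trf L93378 L37010 L93362
theorem L93402 : N2219 = N2232 := eqe L93401 L19127
theorem L93403 : N2232 = N2219 := (eqc rfl L93402 rfl).symm
theorem L93405 : sm gb N2219 = N1281 := trf L93403 L19125 rfl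
theorem L93406 : N1281 = N1275 := eqe L93405 L19079
theorem L93407 : N1281 = N1275 := eqc rfl L93406 rfl
theorem L93424 : sm ga N1275 = N1289 := trf L93407 L6497 rfl
theorem L93425 : N1289 = N2214 := eqe L93424 L19063
theorem L93426 : N2214 = N1289 := (eqc rfl L93425 rfl).symm
theorem L93428 : sm gd N1275 = N1553 := trf L93407 L7893 rfl
theorem L93429 : N1553 = N2081 := eqe L93428 L10648
theorem L93430 : N2081 = N1553 := (eqc rfl L93429 rfl).symm
theorem L93433 : sm gf N1275 = N1286 := trf L93407 L6485 rfl
theorem L93434 : N1286 = N629 := eqe L93433 L6452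
theorem L93435 : N1286 = N629 := eqc rfl L93434 rfl
theorem L93438 : sm ga N629 = N637 := trf L93435 L6482 rfl
theorem L93439 : N637 = N1273 := eqe L93438 L6447
theorem L93440 : N1273 = N637 := (eqc rfl L93439 rfl).symm
theorem L93442 : sm gc N629 = N2244 := trf L93435 L19163 rfl
theorem L93443 : N2244 = N1274 := eqe L93442 L6449
theorem L93444 : N2244 = N1274 := eqc rfl L93443 rfl
theorem L93447 : sm gg N629 = N635 := trf L93435 L6481 rfl
theorem L93448 : N635 = N1276 := eqe L93447 L6453
theorem L93449 : N1276 = N635 := (eqc rfl L93448 rfl).symm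
theorem L93453 : sm gb N635 = N2221 := trf L93449 L19086 rfl
theorem L93454 : N2221 = N1284 := eqe L93453 L6474
theorem L93455 : N2221 = N1284 := eqc rfl L93454 rfl
theorem L93463 : sm gf N635 = N2222 := trf L93449 L19090 rfl
theorem L93464 : N2222 = N1279 := eqe L93463 L6462
theorem L93465 : N2222 = N1279 := eqc rfl L93464 rfl
theorem L93466 : sm gg N635 = N629 := trf L93449 L6454 rfl
theorem L93467 : sm gg N629 = N635 := flp_g L93466
theorem L93475 : sm gd N1279 = N2508 := trf L93465 L20619 rfl
theorem L93476 : N2508 = N1551 := eqe L93475 L7879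
theorem L93477 : N2508 = N1551 := eqc rfl L93476 rfl
theorem L93483 : sm gb N1551 = N3325 := trf L93477 L24845 rfl
theorem L93484 : N3325 = N2288 := eqe L93483 L19404
theorem L93485 : N3325 = N2288 := eqc rfl L93484 rfl
theorem L93490 : sm gg N1551 = N2500 := trf L93477 L20622 rfl
theorem L93491 : N2500 = N1554 := eqe L93490 L7907
theorem L93492 : N2500 = N1554 := eqc rfl L93491 rfl
theorem L93502 : sm gf N1554 = N2079 := trf L93492 L20561 rfl
theorem L93503 : N2079 = N793 := eqe L93502 L7899
theorem L93504 : N2079 = N793 := eqc rfl L93503 rfl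
theorem L93508 : sm gc N793 = N2255 := trf L93504 L24237 rfl
theorem L93509 : N2255 = N1527 := eqe L93508 L7733
theorem L93510 : N2255 = N1527 := eqc rfl L93509 rfl
theorem L93513 : sm gg N793 = N2501 := trf L93504 L20568 rfl
theorem L93514 : N2501 = N384 := eqe L93513 L3854
theorem L93515 : N2501 = N384 := eqc rfl L93514 rfl
theorem L93520 : sm gc N384 = N2827 := trf L93515 L24264 rfl
theorem L93521 : N2827 = N777 := eqe L93520 L3762
theorem L93522 : N2827 = N777 := eqc rfl L93521 rfl
theorem L93526 : sm ga N777 = N2504 := trf L93522 L24267 rfl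
theorem L93527 : N2504 = N1524 := eqe L93526 L7714
theorem L93528 : N2504 = N1524 := eqc rfl L93527 rfl
theorem L93538 : sm gf N777 = N3315 := trf L93522 L24783 rfl
theorem L93539 : N3315 = N1526 := eqe L93538 L7724
theorem L93540 : N3315 = N1526 := eqc rfl L93539 rfl
theorem L93547 : sm gg N1526 = N2503 := trf L93540 L24778 rfl
theorem L93548 : N2503 = N2275 := eqe L93547 L19316
theorem L93549 : N2503 = N2275 := eqc rfl L93548 rfl
theorem L93553 : sm gd N2275 = N3171 := trf L93549 L24170 rfl
theorem L93554 : N3171 = N2857 := eqe L93553 L22172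
theorem L93555 : N3171 = N2857 := eqc rfl L93554 rfl
theorem L93558 : sm gf N2275 = N2080 := trf L93549 L20579 rfl
theorem L93559 : N2080 = N2270 := eqe L93558 L19323
theorem L93560 : N2270 = N2080 := (eqc rfl L93559 rfl).symm
theorem L93564 : sm gd N2080 = N2850 := trf L93560 L22118 rfl
theorem L93565 : N2850 = N2428 := eqe L93564 L24167
theorem L93566 : N2850 = N2428 := eqc rfl L93565 rfl
theorem L93568 : sm gf N2080 = N2275 := trf L93560 L19322 rfl
theorem L93569 : sm gf N2275 = N2080 := flp_f L93568
theorem L93572 : sm ga N2428 = N2273 := trf L93566 L22113 rfl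
theorem L93573 : N2273 = N2379 := eqe L93572 L24233
theorem L93574 : N2379 = N2273 := (eqc rfl L93573 rfl).symm
theorem L93577 : sm gc N2428 = N2321 := trf L93566 L22115 rfl
theorem L93578 : N2321 = N2020 := eqe L93577 L20149
theorem L93579 : N2321 = N2020 := eqc rfl L93578 rfl
theorem L93580 : sm ge N2428 = N2801 := trf L93566 L23006 L87091
theorem L93581 : N2801 = N2138 := eqe L93580 L20150
theorem L93582 : N2801 = N2138 := eqc rfl L93581 rfl
theorem L93585 : sm gg N2428 = N2268 := trf L93566 L22112 rfl
theorem L93586 : N2268 = N3172 := eqe L93585 L23867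
theorem L93587 : N3172 = N2268 := (eqc rfl L93586 rfl).symm
theorem L93592 : sm gc N2268 = N2431 := trf L93587 L23869 rfl
theorem L93593 : N2431 = N1740 := eqe L93592 L19276
theorem L93594 : N2431 = N1740 := eqc rfl L93593 rfl
theorem L93596 : sm ge N2268 = N2588 := trf L93587 L23871 rfl
theorem L93597 : N2588 = N2345 := eqe L93596 L19707
theorem L93598 : N2588 = N2345 := eqc rfl L93597 rfl
theorem L93599 : sm gf N2268 = N4402 := trf L93587 L30060 rfl
theorem L93600 : N4402 = N2849 := eqe L93599 L22103
theorem L93601 : N4402 = N2849 := eqc rfl L93600 rfl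
theorem L93602 : sm gg N2268 = N2428 := trf L93587 L23868 rfl
theorem L93603 : sm gg N2428 = N2268 := flp_g L93602
theorem L93605 : sm gb N2849 = N7020 := trf L93601 L43655 rfl
theorem L93606 : N7020 = N3982 := eqe L93605 L27967
theorem L93607 : N7020 = N3972 := eqc rfl L93606 L73654
theorem L93610 : sm ge N2849 = N3491 := trf L93601 L30058 rfl
theorem L93611 : N3491 = N3003 := eqe L93610 L22996
theorem L93612 : N3491 = N3003 := eqc rfl L93611 rfl
theorem L93613 : sm gg N2849 = N3074 := trf L93601 L30053 rfl
theorem L93614 : N3074 = N2858 := eqe L93613 L22182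
theorem L93615 : N3074 = N2858 := eqc rfl L93614 rfl
theorem L93617 : sm gb N2858 = N2467 := trf L93615 L30046 L71499
theorem L93618 : N2467 = N3998 := eqe L93617 L28045
theorem L93619 : N3998 = N2467 := (eqc rfl L93618 rfl).symm
theorem L93620 : sm gc N2858 = N2460 := trf L93615 L24253 L82981
theorem L93621 : N2460 = N2955 := eqe L93620 L22754
theorem L93622 : N2955 = N2460 := (eqc rfl L93621 rfl).symm
theorem L93624 : sm ge N2858 = N3477 := trf L93615 L25608 rfl
theorem L93625 : N3477 = N3012 := eqe L93624 L23062
theorem L93626 : N3477 = N3012 := eqc rfl L93625 rfl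
theorem L93628 : sm ga N3012 = N2587 := trf L93626 L25603 rfl
theorem L93629 : N2587 = N3011 := eqe L93628 L23057
theorem L93630 : N3011 = N2587 := (eqc rfl L93629 rfl).symm
theorem L93631 : sm gc N3012 = N2584 := trf L93626 L25605 rfl
theorem L93632 : sm gc N2584 = N3012 := flp_c L93631
theorem L93636 : sm gf N3012 = N2582 := trf L93626 L25602 rfl
theorem L93637 : N2582 = N2350 := eqe L93636 L23056
theorem L93638 : N2582 = N2350 := eqc rfl L93637 rfl
theorem L93642 : N3004 = N2138 := L87091.trans L93582
theorem L93643 : sm gb N2350 = N2341 := trf L93638 L24213 rfl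
theorem L93644 : N2341 = N2865 := eqe L93643 L22224
theorem L93645 : N2865 = N2341 := (eqc rfl L93644 rfl).symm
theorem L93646 : sm gc N2350 = N2137 := trf L93638 L20951 rfl
theorem L93647 : N2137 = N3009 := eqe L93646 L23036
theorem L93648 : N3009 = N2137 := (eqc rfl L93647 rfl).symm
theorem L93653 : sm gg N2350 = N3478 := trf L93638 L25609 rfl
theorem L93654 : N3478 = N1823 := eqe L93653 L19735
theorem L93655 : N3478 = N1823 := eqc rfl L93654 rfl
theorem L93660 : sm gc N1823 = N2585 := trf L93655 L25613 rfl
theorem L93661 : N2585 = N2348 := eqe L93660 L19722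
theorem L93662 : N2585 = N2348 := eqc rfl L93661 rfl
theorem L93667 : sm gf N1823 = N3489 := trf L93655 L25669 rfl
theorem L93668 : N3489 = N2349 := eqe L93667 L19728
theorem L93669 : N3489 = N2349 := eqc rfl L93668 rfl
theorem L93672 : sm gc N2349 = N2594 := trf L93669 L25667 rfl
theorem L93673 : N2594 = N3008 := eqe L93672 L23028
theorem L93674 : N2594 = N2177 := eqc rfl L93673 L71224
theorem L93675 : sm gd N2349 = N3969 := trf L93669 L34301 L72189
theorem L93676 : N3969 = N1824 := eqe L93675 L19730
theorem L93677 : N3969 = N1824 := eqc rfl L93676 rfl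
theorem L93686 : sm ge N1824 = N3800 := trf L93677 L28583 L73564
theorem L93687 : N3800 = N936 := eqe L93686 L9265
theorem L93688 : N3800 = N936 := eqc rfl L93687 rfl
theorem L93701 : sm gf N936 = N3788 := trf L93688 L27025 rfl
theorem L93702 : N3788 = N454 := eqe L93701 L4640
theorem L93703 : N3788 = N454 := eqc rfl L93702 rfl
theorem L93716 : sm gg N454 = N2735 := trf L93703 L26977 rfl
theorem L93717 : N2735 = N937 := eqe L93716 L4641
theorem L93718 : N2735 = N937 := eqc rfl L93717 rfl
theorem L93722 : sm gb N937 = N2810 := trf L93718 L24180 rfl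
theorem L93723 : N2810 = N1856 := eqe L93722 L9407
theorem L93724 : N2810 = N1856 := eqc rfl L93723 rfl
theorem L93730 : sm gf N937 = N3787 := trf L93718 L26968 rfl
theorem L93731 : N3787 = N1857 := eqe L93730 L9413
theorem L93732 : N3787 = N1857 := eqc rfl L93731 rfl
theorem L93734 : sm gb N1857 = N5869 := trf L93732 L37305 rfl
theorem L93735 : N5869 = N2372 := eqe L93734 L19826
theorem L93736 : N5869 = N2372 := eqc rfl L93735 rfl
theorem L93737 : sm gd N1857 = N2736 := trf L93732 L26974 rfl
theorem L93738 : N2736 = N2246 := eqe L93737 L19177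
theorem L93739 : N2736 = N2246 := eqc rfl L93738 rfl
theorem L93745 : sm gb N2246 = N3789 := trf L93739 L26984 rfl
theorem L93746 : N3789 = N2805 := eqe L93745 L21905
theorem L93747 : N3789 = N2805 := eqc rfl L93746 rfl
theorem L93753 : sm gc N2805 = N2837 := trf L93747 L37315 L89404
theorem L93754 : N2837 = N3904 := eqe L93753 L27589
theorem L93755 : N3904 = N2837 := (eqc rfl L93754 rfl).symm
theorem L93757 : sm ge N2805 = N3251 := trf L93747 L27772 L81085
theorem L93758 : N3251 = N2862 := eqe L93757 L22204
theorem L93759 : N3251 = N2862 := eqc rfl L93758 rfl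
theorem L93760 : sm gf N2805 = N3912 := trf L93747 L27642 rfl
theorem L93761 : N3912 = N2834 := eqe L93760 L22044
theorem L93762 : N3912 = N2834 := eqc rfl L93761 rfl
theorem L93763 : sm gg N2805 = N5873 := trf L93747 L37319 rfl
theorem L93764 : N5873 = N3905 := eqe L93763 L27593
theorem L93765 : N5873 = N2836 := eqc rfl L93764 L88994
theorem L93781 : sm gf N2836 = N9796 := trf L93765 L58693 rfl
theorem L93782 : N9796 = N3943 := eqe L93781 L27800
theorem L93783 : N9796 = N3943 := eqc rfl L93782 rfl
theorem L93787 : N6321 = N3924 := L71740.trans L88489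
theorem L93792 : sm gg N3943 = N6095 := trf L93783 L58699 rfl
theorem L93793 : N6095 = N3965 := eqe L93792 L27880
theorem L93794 : N6095 = N3965 := eqc rfl L93793 rfl
theorem L93795 : sm ga N3965 = N2834 := trf L93794 L38325 L93762
theorem L93796 : N2834 = N3945 := eqe L93795 L27875
theorem L93797 : N3945 = N2834 := (eqc rfl L93796 rfl).symm
theorem L93798 : sm gb N3965 = N6171 := trf L93794 L85205 L89439
theorem L93799 : N6171 = N6204 := eqe L93798 L38892
theorem L93800 : N6204 = N6171 := (eqc rfl L93799 rfl).symm
theorem L93803 : N9880 = N4360 := L89378.trans L89433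
theorem L93809 : sm gf N3965 = N3903 := trf L93794 L38328 L89171
theorem L93810 : N3903 = N2839 := eqe L93809 L27874
theorem L93811 : N3903 = N2839 := eqc rfl L93810 rfl
theorem L93812 : sm ga N2839 = N2805 := trf L93811 L27586 rfl
theorem L93813 : N2805 = N3959 := eqe L93812 L27850
theorem L93814 : N3959 = N2805 := (eqc rfl L93813 rfl).symm
theorem L93821 : sm gd N2839 = N3055 := trf L93811 L27587 rfl
theorem L93822 : N3055 = N3963 := eqe L93821 L27866
theorem L93823 : N3963 = N3055 := (eqc rfl L93822 rfl).symm
theorem L93827 : sm gf N2839 = N3950 := trf L93811 L27824 rfl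
theorem L93828 : N3950 = N3965 := eqe L93827 L27873
theorem L93829 : N3965 = N3950 := (eqc rfl L93828 rfl).symm
theorem L93830 : sm gg N2839 = N6082 := trf L93811 L38258 rfl
theorem L93831 : N6082 = N2262 := eqe L93830 L22062
theorem L93832 : N6082 = N2262 := eqc rfl L93831 rfl
theorem L93840 : sm gd N2262 = N4365 := trf L93832 L38262 rfl
theorem L93841 : N4365 = N2838 := eqe L93840 L22057
theorem L93842 : N4365 = N2838 := eqc rfl L93841 rfl
theorem L93846 : sm gf N2262 = N3952 := trf L93832 L38264 rfl
theorem L93847 : N3952 = N2831 := eqe L93846 L22036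
theorem L93848 : N3952 = N2831 := eqc rfl L93847 rfl
theorem L93852 : sm gb N2831 = N3938 := trf L93848 L27831 rfl
theorem L93853 : N3938 = N3920 := eqe L93852 L27698
theorem L93854 : N3938 = N3920 := eqc rfl L93853 rfl
theorem L93858 : sm gd N2831 = N4362 := trf L93848 L29891 rfl
theorem L93859 : N4362 = N3944 := eqe L93858 L27801
theorem L93860 : N4362 = N3944 := eqc rfl L93859 rfl
theorem L93861 : sm ge N2831 = N6118 := trf L93848 L38461 rfl
theorem L93862 : N6118 = N3920 := eqe L93861 L27694
theorem L93863 : N6118 = N3920 := eqc rfl L93862 rfl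
theorem L93877 : sm gg N3920 = N3923 := trf L93863 L38459 rfl
theorem L93878 : N3923 = N6111 := eqe L93877 L38416
theorem L93879 : N6111 = N3923 := (eqc rfl L93878 rfl).symm
theorem L93880 : sm ga N3923 = N3936 := trf L93879 L38549 L89790
theorem L93881 : N3936 = N6116 := eqe L93880 L38444
theorem L93882 : N6116 = N3936 := (eqc rfl L93881 rfl).symm
theorem L93889 : sm gd N3923 = N6694 := trf L93879 L84748 rfl
theorem L93890 : N6694 = N6107 := eqe L93889 L38395
theorem L93891 : N6694 = N6107 := eqc rfl L93890 rfl
theorem L93896 : sm ga N6107 = N6332 := trf L93891 L41754 rfl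
theorem L93897 : N6332 = N10153 := eqe L93896 L60782
theorem L93898 : N10153 = N6332 := (eqc rfl L93897 rfl).symm
theorem L93905 : sm ge N6107 = N7067 := trf L93891 L43939 rfl
theorem L93906 : N7067 = N6294 := eqe L93905 L39723
theorem L93907 : N7067 = N6294 := eqc rfl L93906 rfl
theorem L93908 : sm gf N6107 = N10203 := trf L93891 L84758 rfl
theorem L93909 : N10203 = N3998 := eqe L93908 L38396
theorem L93910 : N10203 = N2467 := eqc rfl L93909 L93619
theorem L93913 : sm ga N2467 = N6135 := trf L93910 L61088 rfl
theorem L93914 : N6135 = N3249 := eqe L93913 L24412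
theorem L93915 : N6135 = N3249 := eqc rfl L93914 rfl
theorem L93918 : N3235 = N2858 := L81041.trans L93615
theorem L93922 : sm ge N2467 = N7072 := trf L93910 L84755 rfl
theorem L93923 : N7072 = N3241 := eqe L93922 L24370
theorem L93924 : N7072 = N3241 := eqc rfl L93923 rfl
theorem L93929 : N4706 = N3012 := L81035.trans L93626
theorem L93932 : sm gd N3241 = N6182 := trf L93924 L43972 rfl
theorem L93933 : N6182 = N4726 := eqe L93932 L31849
theorem L93934 : N6182 = N4726 := eqc rfl L93933 rfl
theorem L93935 : sm gf N3241 = N6294 := trf L93924 L43975 L93907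
theorem L93936 : N6294 = N4639 := eqe L93935 L31381
theorem L93937 : N6294 = N4248 := eqc rfl L93936 L71469
theorem L93938 : sm gg N3241 = N4417 := trf L93924 L43969 rfl
theorem L93939 : N4417 = N4727 := eqe L93938 L31851
theorem L93940 : N4727 = N4417 := (eqc rfl L93939 rfl).symm
theorem L93941 : N7679 = N6134 := L71441.trans L90138
theorem L93944 : sm gb N4417 = N7684 := trf L93940 L47360 rfl
theorem L93945 : N7684 = N6917 := eqe L93944 L43050
theorem L93946 : N7684 = N6784 := eqc rfl L93945 L89214
theorem L93955 : sm gg N4417 = N3241 := trf L93940 L31852 rfl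
theorem L93956 : sm gg N3241 = N4417 := flp_g L93955
theorem L93962 : sm ge N6784 = N4754 := trf L93946 L47362 rfl
theorem L93963 : N4754 = N6234 := eqe L93962 L42172
theorem L93964 : N6202 = N4754 := (eqc rfl L93963 L73640).symm
theorem L93965 : sm ga N4754 = N3964 := trf L93964 L38883 rfl
theorem L93966 : N3964 = N7745 := eqe L93965 L47700
theorem L93967 : N7745 = N3964 := (eqc rfl L93966 rfl).symm
theorem L93968 : sm gb N4754 = N10312 := trf L93964 L61686 rfl
theorem L93969 : N10312 = N3252 := eqe L93968 L32006
theorem L93970 : N10312 = N3252 := eqc rfl L93969 rfl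
theorem L93971 : sm gc N4754 = N4395 := trf L93964 L38884 rfl
theorem L93972 : N4395 = N7746 := eqe L93971 L47702
theorem L93973 : N7746 = N4395 := (eqc rfl L93972 rfl).symm
theorem L93977 : N6234 = N4754 := L73640.trans L93964
theorem L93978 : sm gf N4754 = N6219 := trf L93964 L38958 rfl
theorem L93979 : N6219 = N7747 := eqe L93978 L47706
theorem L93980 : N7747 = N6219 := (eqc rfl L93979 rfl).symm
theorem L93981 : sm gg N4754 = N3972 := trf L93964 L38886 rfl
theorem L93982 : N3972 = N7656 := eqe L93981 L47231
theorem L93983 : N7656 = N3972 := (eqc rfl L93982 rfl).symm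
theorem L93991 : sm gg N3972 = N4754 := trf L93983 L47230 rfl
theorem L93992 : sm gg N4754 = N3972 := flp_g L93991
theorem L93997 : sm gf N6219 = N4754 := trf L93980 L47707 rfl
theorem L93999 : sm gb N4395 = N4757 := trf L93973 L47704 rfl
theorem L94000 : N4757 = N7036 := eqe L93999 L43736
theorem L94001 : N7036 = N4757 := (eqc rfl L94000 rfl).symm
theorem L94002 : sm gc N4395 = N4754 := trf L93973 L47703 rfl
theorem L94003 : sm gc N4754 = N4395 := flp_c L94002
theorem L94007 : sm gb N4757 = N4395 := trf L94001 L43737 rfl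
theorem L94008 : sm gb N4395 = N4757 := flp_b L94007
theorem L94012 : N11627 = N7259 := L88928.trans L92994
theorem L94013 : sm gd N4757 = N7259 := trf L94001 L69256 L94012
theorem L94014 : N7259 = N7751 := eqe L94013 L47720
theorem L94015 : N7751 = N7259 := (eqc rfl L94014 rfl).symm
theorem L94016 : sm ge N4757 = N7108 := trf L94001 L44171 rfl
theorem L94017 : N7108 = N7687 := eqe L94016 L47385
theorem L94018 : N7687 = N7108 := (eqc rfl L94017 rfl).symm
theorem L94019 : sm gf N4757 = N11637 := trf L94001 L69293 rfl
theorem L94020 : N11637 = N7752 := eqe L94019 L47724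
theorem L94021 : N11637 = N7752 := eqc rfl L94020 rfl
theorem L94022 : sm gg N4757 = N11638 := trf L94001 L69295 rfl
theorem L94023 : N11638 = N3256 := eqe L94022 L32023
theorem L94024 : N11638 = N3256 := eqc rfl L94023 rfl
theorem L94030 : sm gc N3256 = N10550 := trf L94024 L69304 rfl
theorem L94031 : N10550 = N2469 := eqe L94030 L24446
theorem L94032 : N10550 = N2469 := eqc rfl L94031 rfl
theorem L94033 : N9904 = N4731 := L87418.trans L93109
theorem L94045 : sm ga N2469 = N6714 := trf L94032 L63160 rfl
theorem L94046 : N6714 = N3255 := eqe L94045 L24441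
theorem L94047 : N6714 = N3255 := eqc rfl L94046 rfl
theorem L94052 : sm gf N2469 = N6351 := trf L94032 L63158 rfl
theorem L94053 : N6351 = N3257 := eqe L94052 L24447
theorem L94054 : N6351 = N3257 := eqc rfl L94053 rfl
theorem L94065 : sm gg N3257 = N10553 := trf L94054 L63178 rfl
theorem L94066 : N10553 = N4518 := eqe L94065 L90821
theorem L94067 : N10553 = N4518 := eqc rfl L94066 rfl
theorem L94073 : sm gf N4518 = N11182 := trf L94067 L66654 rfl
theorem L94074 : N11182 = N4039 := eqe L94073 L93001
theorem L94075 : N11182 = N4039 := eqc rfl L94074 rfl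
theorem L94078 : sm gb N4039 = N6722 := trf L94075 L66655 rfl
theorem L94079 : N6722 = N2881 := eqe L94078 L28296
theorem L94080 : N6722 = N2881 := eqc rfl L94079 rfl
theorem L94083 : sm ga N2881 = N11189 := trf L94080 L66702 rfl
theorem L94084 : N11189 = N4037 := eqe L94083 L28278
theorem L94085 : N11189 = N4037 := eqc rfl L94084 rfl
theorem L94095 : sm gf N2881 = N11194 := trf L94080 L66723 rfl
theorem L94096 : N11194 = N2285 := eqe L94095 L22339
theorem L94097 : N11194 = N2285 := eqc rfl L94096 rfl
theorem L94098 : sm gg N2881 = N4229 := trf L94080 L41857 rfl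
theorem L94099 : N4229 = N4040 := eqe L94098 L28299
theorem L94100 : N4229 = N4040 := eqc rfl L94099 rfl
theorem L94103 : sm gb N4040 = N2984 := trf L94100 L29267 rfl
theorem L94104 : N2984 = N6347 := eqe L94103 L40032
theorem L94105 : N6347 = N2984 := (eqc rfl L94104 rfl).symm
theorem L94112 : sm ge N4040 = N6541 := trf L94100 L41045 rfl
theorem L94113 : N6541 = N3887 := eqe L94112 L28303
theorem L94114 : N6541 = N3887 := eqc rfl L94113 rfl
theorem L94115 : sm gf N4040 = N6721 := trf L94100 L41854 rfl
theorem L94116 : N6721 = N4038 := eqe L94115 L28306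
theorem L94117 : N6721 = N3147 := eqc rfl L94116 L90868
theorem L94133 : sm gg N3147 = N10905 := trf L94117 L65239 rfl
theorem L94134 : N10905 = N4077 := eqe L94133 L90898
theorem L94135 : N10905 = N4077 := eqc rfl L94134 rfl
theorem L94136 : sm ga N4077 = N2285 := trf L94135 L66726 L94097
theorem L94137 : N2285 = N3323 := eqe L94136 L50393
theorem L94138 : N3133 = N2285 := (eqc rfl L94137 L90841).symm
theorem L94142 : sm gf N4077 = N4037 := trf L94135 L66704 L94085
theorem L94143 : N4037 = N4912 := eqe L94142 L50376
theorem L94144 : N4549 = N4037 := (eqc rfl L94143 L90830).symm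
theorem L94149 : sm gc N4037 = N7328 := trf L94144 L45370 rfl
theorem L94150 : N7328 = N2879 := eqe L94149 L28279
theorem L94151 : N7328 = N2879 := eqc rfl L94150 rfl
theorem L94159 : sm gf N2879 = N3322 := trf L94151 L45372 L90888
theorem L94160 : N3322 = N2284 := eqe L94159 L22323
theorem L94161 : N3322 = N2284 := eqc rfl L94160 rfl
theorem L94162 : sm gg N2879 = N4548 := trf L94151 L45366 rfl
theorem L94163 : N4548 = N2886 := eqe L94162 L22383
theorem L94164 : N4548 = N2514 := eqc rfl L94163 L87727
theorem L94173 : sm gf N2514 = N3148 := trf L94164 L30877 rfl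
theorem L94174 : N3148 = N2084 := eqe L94173 L20651
theorem L94175 : N3148 = N2084 := eqc rfl L94174 rfl
theorem L94184 : sm gg N2084 = N4516 := trf L94175 L30713 rfl
theorem L94185 : N4516 = N2507 := eqe L94184 L20613
theorem L94186 : N4516 = N2507 := eqc rfl L94185 rfl
theorem L94196 : sm gd N2507 = N7242 := trf L94186 L86174 rfl
theorem L94197 : N7242 = N2221 := eqe L94196 L20608
theorem L94198 : N7242 = N1284 := eqc rfl L94197 L93455
theorem L94205 : sm gc N1284 = N2753 := trf L94198 L44904 L90901
theorem L94206 : N2753 = N2240 := eqe L94205 L19148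
theorem L94207 : N2753 = N2240 := eqc rfl L94206 rfl
theorem L94210 : sm ga N2240 = N3817 := trf L94207 L27116 rfl
theorem L94211 : N3817 = N2788 := eqe L94210 L21842
theorem L94212 : N3817 = N2788 := eqc rfl L94211 rfl
theorem L94219 : sm gg N2240 = N2227 := trf L94207 L21712 rfl
theorem L94220 : N2227 = N2794 := eqe L94219 L21861
theorem L94221 : N2794 = N2227 := (eqc rfl L94220 rfl).symm
theorem L94222 : sm ga N2227 = N3835 := trf L94221 L50262 rfl
theorem L94223 : N3835 = N2763 := eqe L94222 L21748
theorem L94224 : N3835 = N2763 := eqc rfl L94223 rfl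
theorem L94229 : sm gd N2227 = N2616 := trf L94221 L22320 rfl
theorem L94230 : N2616 = N2550 := eqe L94229 L90956
theorem L94231 : N2616 = N2550 := eqc rfl L94230 rfl
theorem L94235 : sm gf N2227 = N3889 := trf L94221 L27500 rfl
theorem L94236 : N3889 = N2766 := eqe L94235 L21757
theorem L94237 : N3889 = N2766 := eqc rfl L94236 rfl
theorem L94238 : sm gg N2227 = N2240 := trf L94221 L21862 rfl
theorem L94239 : sm gg N2240 = N2227 := flp_g L94238
theorem L94240 : sm ga N2766 = N3887 := trf L94237 L27502 rfl
theorem L94241 : N3887 = N3837 := eqe L94240 L27230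
theorem L94242 : N3887 = N3837 := eqc rfl L94241 rfl
theorem L94249 : sm gg N2766 = N3881 := trf L94237 L27508 rfl
theorem L94250 : N3881 = N3842 := eqe L94249 L27245
theorem L94251 : N3881 = N3842 := eqc rfl L94250 rfl
theorem L94257 : sm gc N3842 = N2789 := trf L94251 L27449 rfl
theorem L94258 : N2789 = N2767 := eqe L94257 L27249
theorem L94259 : N2789 = N2767 := eqc rfl L94258 rfl
theorem L94260 : sm gd N3842 = N3513 := trf L94251 L27451 rfl
theorem L94261 : N3513 = N5968 := eqe L94260 L37709
theorem L94262 : N5066 = N3513 := (eqc rfl L94261 L90912).symm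
theorem L94265 : N4912 = N4037 := L90830.trans L94144
theorem L94277 : sm ge N3513 = N3427 := trf L94262 L33594 rfl
theorem L94278 : N3427 = N2599 := eqe L94277 L25781
theorem L94279 : N3427 = N2599 := eqc rfl L94278 rfl
theorem L94280 : sm gf N3513 = N5003 := trf L94262 L33597 rfl
theorem L94281 : N5003 = N2598 := eqe L94280 L25776
theorem L94282 : N5003 = N2598 := eqc rfl L94281 rfl
theorem L94285 : sm ga N2598 = N3387 := trf L94282 L33317 rfl
theorem L94286 : N3387 = N2149 := eqe L94285 L21016
theorem L94287 : N3387 = N2149 := eqc rfl L94286 rfl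
theorem L94294 : sm ge N2598 = N3393 := trf L94282 L33318 rfl
theorem L94295 : N3393 = N2142 := eqe L94294 L21015
theorem L94296 : N3393 = N2142 := eqc rfl L94295 rfl
theorem L94297 : sm gg N2598 = N3413 := trf L94282 L33320 rfl
theorem L94298 : N3413 = N3514 := eqe L94297 L25783
theorem L94299 : N3514 = N3413 := (eqc rfl L94298 rfl).symm
theorem L94302 : sm gc N3413 = N2602 := trf L94299 L25787 rfl
theorem L94303 : N2602 = N5062 := eqe L94302 L33566
theorem L94304 : N5062 = N2602 := (eqc rfl L94303 rfl).symm
theorem L94307 : sm ge N3413 = N2600 := trf L94299 L25789 rfl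
theorem L94308 : N2600 = N2554 := eqe L94307 L25329
theorem L94309 : N2600 = N2554 := eqc rfl L94308 rfl
theorem L94310 : sm gf N3413 = N3542 := trf L94299 L25917 rfl
theorem L94311 : N3542 = N5063 := eqe L94310 L33572
theorem L94312 : N5063 = N3542 := (eqc rfl L94311 rfl).symm
theorem L94313 : sm gg N3413 = N2598 := trf L94299 L25784 rfl
theorem L94314 : sm gg N2598 = N3413 := flp_g L94313
theorem L94317 : sm gb N3542 = N8313 := trf L94312 L51423 rfl
theorem L94318 : N8313 = N5344 := eqe L94317 L34854
theorem L94319 : N8313 = N5344 := eqc rfl L94318 rfl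
theorem L94325 : sm ge N3542 = N3424 := trf L94312 L33576 rfl
theorem L94326 : N3424 = N2618 := eqe L94325 L25915
theorem L94327 : N3424 = N2618 := eqc rfl L94326 rfl
theorem L94328 : sm gf N3542 = N3413 := trf L94312 L33573 rfl
theorem L94329 : sm gf N3413 = N3542 := flp_f L94328
theorem L94331 : sm ga N2618 = N2556 := trf L94327 L25383 rfl
theorem L94332 : N2556 = N2620 := eqe L94331 L21121
theorem L94333 : N2620 = N2556 := (eqc rfl L94332 rfl).symm
theorem L94334 : sm gb N2618 = N5088 := trf L94327 L33690 rfl
theorem L94335 : N5088 = N3548 := eqe L94334 L25941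
theorem L94336 : N5088 = N3548 := eqc rfl L94335 rfl
theorem L94340 : sm gd N2618 = N2564 := trf L94327 L25385 rfl
theorem L94341 : N2564 = N3198 := eqe L94340 L24010
theorem L94342 : N3198 = N2564 := (eqc rfl L94341 rfl).symm
theorem L94345 : sm gg N2618 = N3395 := trf L94327 L25388 rfl
theorem L94346 : N3395 = N2150 := eqe L94345 L21111
theorem L94347 : N3395 = N2150 := eqc rfl L94346 rfl
theorem L94357 : sm gf N2150 = N2540 := trf L94347 L25264 rfl
theorem L94358 : N2540 = N1182 := eqe L94357 L18750
theorem L94359 : N2540 = N1182 := eqc rfl L94358 rfl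
theorem L94361 : sm gb N1182 = N2111 := trf L94359 L20771 rfl
theorem L94362 : N2111 = N2108 := eqe L94361 L18572
theorem L94363 : N2111 = N2108 := eqc rfl L94362 rfl
theorem L94370 : sm gg N1182 = N2119 := trf L94359 L20774 rfl
theorem L94371 : N2119 = N2151 := eqe L94370 L18753
theorem L94372 : N2151 = N2119 := (eqc rfl L94371 rfl).symm
theorem L94377 : sm gc N2119 = N1185 := trf L94372 L18755 rfl
theorem L94378 : N1185 = N2555 := eqe L94377 L20828
theorem L94379 : N2555 = N1185 := (eqc rfl L94378 rfl).symm
theorem L94383 : sm gg N2119 = N1182 := trf L94372 L18754 rfl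
theorem L94384 : sm gg N1182 = N2119 := flp_g L94383
theorem L94386 : sm gb N1185 = N2174 := trf L94379 L20830 rfl
theorem L94387 : N2174 = N2156 := eqe L94386 L18777
theorem L94388 : N2174 = N2156 := eqc rfl L94387 rfl
theorem L94389 : sm gc N1185 = N2119 := trf L94379 L20829 rfl
theorem L94390 : sm gc N2119 = N1185 := flp_c L94389
theorem L94393 : sm ge N1185 = N3414 := trf L94379 L25334 rfl
theorem L94394 : N3414 = N2153 := eqe L94393 L18764
theorem L94395 : N3414 = N2153 := eqc rfl L94394 rfl
theorem L94396 : N3426 = N2157 := L86090.trans L91318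
theorem L94400 : sm gb N2153 = N2650 := trf L94395 L25335 rfl
theorem L94401 : N2650 = N2623 := eqe L94400 L21138
theorem L94402 : N2650 = N2623 := eqc rfl L94401 rfl
theorem L94411 : sm gg N2153 = N5004 := trf L94395 L33327 rfl
theorem L94412 : N5004 = N1183 := eqe L94411 L18762
theorem L94413 : N5004 = N1183 := eqc rfl L94412 rfl
theorem L94415 : sm gb N1183 = N8175 := trf L94413 L50754 rfl
theorem L94416 : N8175 = N582 := eqe L94415 L5997
theorem L94417 : N8175 = N582 := eqc rfl L94416 rfl
theorem L94437 : sm gg N582 = N5346 := trf L94417 L50751 rfl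
theorem L94438 : N5346 = N1191 := eqe L94437 L6034
theorem L94439 : N5346 = N1191 := eqc rfl L94438 rfl
theorem L94455 : sm gf N1191 = N8808 := trf L94439 L53929 rfl
theorem L94456 : N8808 = N2168 := eqe L94455 L18831
theorem L94457 : N8808 = N2168 := eqc rfl L94456 rfl
theorem L94459 : sm ge N2168 = N5363 := trf L94457 L53933 rfl
theorem L94460 : N5363 = N1195 := eqe L94459 L18837
theorem L94461 : N5363 = N1195 := eqc rfl L94460 rfl
theorem L94475 : sm gg N1195 = N8849 := trf L94461 L54091 rfl
theorem L94476 : N8849 = N1141 := eqe L94475 L6060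
theorem L94477 : N8849 = N1141 := eqc rfl L94476 rfl
theorem L94484 : sm gf N1141 = N8187 := trf L94477 L54098 rfl
theorem L94485 : N8187 = N555 := eqe L94484 L5768
theorem L94486 : N8187 = N555 := eqc rfl L94485 rfl
theorem L94491 : sm gg N555 = N5360 := trf L94486 L50801 rfl
theorem L94492 : N5360 = N1142 := eqe L94491 L5775
theorem L94493 : N5360 = N1142 := eqc rfl L94492 rfl
theorem L94501 : sm gd N1142 = N8842 := trf L94493 L54063 rfl
theorem L94502 : N8842 = N557 := eqe L94501 L5781
theorem L94503 : N8842 = N557 := eqc rfl L94502 rfl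
theorem L94506 : sm ga N557 = N5362 := trf L94503 L54065 rfl
theorem L94507 : N5362 = N289 := eqe L94506 L2752
theorem L94508 : N5362 = N289 := eqc rfl L94507 rfl
theorem L94516 : sm ge N289 = N8846 := trf L94508 L54079 rfl
theorem L94517 : N8846 = N505 := eqe L94516 L2511
theorem L94518 : N8846 = N505 := eqc rfl L94517 rfl
theorem L94526 : sm gb N505 = N5408 := trf L94518 L54081 rfl
theorem L94527 : N5408 = N1039 := eqe L94526 L5145
theorem L94528 : N5408 = N1039 := eqc rfl L94527 rfl
theorem L94529 : sm ga N1039 = N8941 := trf L94528 L54542 rfl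
theorem L94530 : N8941 = N2045 := eqe L94529 L10446
theorem L94531 : N8941 = N2045 := eqc rfl L94530 rfl
theorem L94532 : sm gc N1039 = N2045 := trf L94528 L54544 L94531
theorem L94533 : N2045 = N1039 := eqe L94532 L5149
theorem L94534 : N2045 = N1039 := eqc rfl L94533 rfl
theorem L94539 : sm gf N1039 = N8942 := trf L94528 L54547 rfl
theorem L94540 : N8942 = N2046 := eqe L94539 L10451
theorem L94541 : N8942 = N2046 := eqc rfl L94540 rfl
theorem L94542 : sm gg N1039 = N3654 := trf L94528 L35144 rfl
theorem L94543 : N3654 = N2030 := eqe L94542 L10363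
theorem L94544 : N3654 = N2030 := eqc rfl L94543 rfl
theorem L94545 : sm ga N2030 = N5581 := trf L94544 L35945 rfl
theorem L94546 : N5581 = N2450 := eqe L94545 L20260
theorem L94547 : N5581 = N2450 := eqc rfl L94546 rfl
theorem L94550 : sm gc N2030 = N2450 := trf L94544 L35947 L94547
theorem L94551 : N2450 = N2030 := eqe L94550 L10361
theorem L94552 : N2450 = N2030 := eqc rfl L94551 rfl
theorem L94559 : sm gf N2030 = N5587 := trf L94544 L35972 rfl
theorem L94560 : N5587 = N2451 := eqe L94559 L20267
theorem L94561 : N5587 = N2451 := eqc rfl L94560 rfl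
theorem L94574 : sm ge N2451 = N3655 := trf L94561 L35974 rfl
theorem L94575 : N3655 = N2163 := eqe L94574 L20270
theorem L94576 : N3655 = N2163 := eqc rfl L94575 rfl
theorem L94577 : sm gg N2451 = N9288 := trf L94561 L56266 rfl
theorem L94578 : N9288 = N2482 := eqe L94577 L20434
theorem L94579 : N9288 = N2482 := eqc rfl L94578 rfl
theorem L94581 : sm gc N2482 = N2046 := trf L94579 L56270 L94541
theorem L94582 : N2046 = N2482 := eqe L94581 L20431
theorem L94583 : N2482 = N2046 := (eqc rfl L94582 rfl).symm
theorem L94584 : N9288 = N2046 := L94579.trans L94583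
theorem L94585 : sm ge N2046 = N5589 := trf L94584 L56272 rfl
theorem L94586 : N5589 = N1201 := eqe L94585 L10454
theorem L94587 : N5589 = N1188 := eqc rfl L94586 L91328
theorem L94597 : sm gd N1188 = N3657 := trf L94587 L35986 rfl
theorem L94598 : N3657 = N2156 := eqe L94597 L18780
theorem L94599 : N3657 = N2156 := eqc rfl L94598 rfl
theorem L94603 : sm gg N1188 = N2163 := trf L94587 L35981 L94576
theorem L94604 : N2163 = N587 := eqe L94603 L6020
theorem L94605 : N2163 = N587 := eqc rfl L94604 rfl
theorem L94611 : sm gd N587 = N2631 := trf L94605 L21183 rfl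
theorem L94612 : N2631 = N1194 := eqe L94611 L6051
theorem L94613 : N2631 = N1194 := eqc rfl L94612 rfl
theorem L94614 : sm ge N587 = N2451 := trf L94605 L20271 rfl
theorem L94615 : N2451 = N1039 := eqe L94614 L5148
theorem L94616 : N2451 = N1039 := eqc rfl L94615 rfl
theorem L94619 : sm gg N587 = N2187 := trf L94605 L18916 rfl
theorem L94620 : N2187 = N1188 := eqe L94619 L6021
theorem L94621 : N2187 = N1188 := eqc rfl L94620 rfl
theorem L94627 : sm gd N1188 = N2175 := trf L94621 L21327 L85870
theorem L94628 : N2175 = N2156 := eqe L94627 L18780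
theorem L94629 : N2175 = N2156 := eqc rfl L94628 rfl
theorem L94630 : sm ge N1188 = N2046 := trf L94621 L20433 L94583
theorem L94631 : N2046 = N2030 := eqe L94630 L10360
theorem L94632 : N2046 = N2030 := eqc rfl L94631 rfl
theorem L94640 : sm gd N2030 = N2472 := trf L94632 L20376 rfl
theorem L94641 : N2472 = N2445 := eqe L94640 L20235
theorem L94642 : N2472 = N2445 := eqc rfl L94641 rfl
theorem L94653 : N3208 = N2445 := L91084.trans L94642
theorem L94655 : sm ge N2445 = N3246 := trf L94642 L24398 rfl
theorem L94656 : N3246 = N3201 := eqe L94655 L24034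
theorem L94657 : N3246 = N3201 := eqc rfl L94656 rfl
theorem L94658 : sm gf N2445 = N2040 := trf L94642 L20374 rfl
theorem L94659 : N2040 = N3209 := eqe L94658 L24075
theorem L94660 : N3209 = N2040 := (eqc rfl L94659 rfl).symm
theorem L94661 : sm gg N2445 = N3264 := trf L94642 L24481 rfl
theorem L94662 : N3264 = N2040 := eqe L94661 L20236
theorem L94663 : N3264 = N2040 := eqc rfl L94662 rfl
theorem L94664 : sm ga N2040 = N2040 := trf L94663 L24483 L94660
theorem L94665 : N2040 = N2470 := eqe L94664 L20367
theorem L94666 : N2470 = N2040 := (eqc rfl L94665 rfl).symm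
theorem L94674 : sm ge N2040 = N4739 := trf L94663 L31938 rfl
theorem L94675 : N4739 = N2464 := eqe L94674 L20342
theorem L94676 : N4739 = N2464 := eqc rfl L94675 rfl
theorem L94679 : sm ga N2464 = N4644 := trf L94676 L31933 rfl
theorem L94680 : N4644 = N3244 := eqe L94679 L24383
theorem L94681 : N4644 = N3244 := eqc rfl L94680 rfl
theorem L94691 : sm gf N2464 = N4642 := trf L94676 L31940 rfl
theorem L94692 : N4642 = N3246 := eqe L94691 L24393
theorem L94693 : N4642 = N3201 := eqc rfl L94692 L94657
theorem L94695 : sm ga N3201 = N3201 := trf L94693 L31395 rfl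
theorem L94702 : sm gd N3201 = N3557 := trf L94693 L31396 rfl
theorem L94703 : N3557 = N2623 := eqe L94702 L24031
theorem L94704 : N3557 = N2623 := eqc rfl L94703 rfl
theorem L94705 : sm ge N3201 = N3207 := trf L94693 L31398 rfl
theorem L94706 : N3207 = N2445 := eqe L94705 L24033
theorem L94707 : N3207 = N2445 := eqc rfl L94706 rfl
theorem L94708 : sm gg N3201 = N3244 := trf L94693 L31400 rfl
theorem L94709 : N3244 = N2464 := eqe L94708 L24035
theorem L94710 : N3244 = N2464 := eqc rfl L94709 rfl
theorem L94711 : sm ga N2464 = N2464 := trf L94710 L24384 rfl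
theorem L94718 : sm gd N2464 = N2649 := trf L94710 L24385 rfl
theorem L94719 : N2649 = N2167 := eqe L94718 L20339
theorem L94720 : N2649 = N2167 := eqc rfl L94719 rfl
theorem L94722 : sm gf N2464 = N4735 := trf L94710 L31905 rfl
theorem L94723 : N4735 = N3246 := eqe L94722 L24393
theorem L94724 : N4735 = N3201 := eqc rfl L94723 L94657
theorem L94732 : sm gd N3201 = N3617 := trf L94724 L31909 rfl
theorem L94733 : N3617 = N2623 := eqe L94732 L24031
theorem L94734 : N3617 = N2623 := eqc rfl L94733 rfl
theorem L94737 : N4644 = N2464 := L94681.trans L94710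
theorem L94739 : sm ga N2623 = N2651 := trf L94734 L26235 rfl
theorem L94740 : N2651 = N3557 := eqe L94739 L25973
theorem L94741 : N2651 = N2623 := eqc rfl L94740 L94704
theorem L94749 : sm gf N2623 = N2167 := trf L94734 L26234 L94720
theorem L94750 : N2167 = N3559 := eqe L94749 L25985
theorem L94751 : N3559 = N2167 := (eqc rfl L94750 rfl).symm
theorem L94758 : sm gc N2167 = N5380 := trf L94751 L35017 rfl
theorem L94759 : N5380 = N2650 := eqe L94758 L21254
theorem L94760 : N5380 = N2623 := eqc rfl L94759 L94402
theorem L94774 : sm ge N2623 = N3572 := trf L94760 L35018 rfl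
theorem L94775 : N3572 = N2156 := eqe L94774 L21140
theorem L94776 : N3572 = N2156 := eqc rfl L94775 rfl
theorem L94781 : sm ga N2156 = N2156 := trf L94776 L26416 L94599
theorem L94782 : N2156 = N2629 := eqe L94781 L21170
theorem L94783 : N2629 = N2156 := (eqc rfl L94782 rfl).symm
theorem L94787 : sm gc N2156 = N1194 := trf L94776 L26045 L94613
theorem L94788 : N1194 = N2630 := eqe L94787 L21176
theorem L94789 : N2630 = N1194 := (eqc rfl L94788 rfl).symm
theorem L94793 : sm gg N2156 = N3652 := trf L94776 L26399 rfl
theorem L94794 : N3652 = N1194 := eqe L94793 L18781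
theorem L94795 : N3652 = N1194 := eqc rfl L94794 rfl
theorem L94799 : sm gb N1194 = N5583 := trf L94795 L35958 rfl
theorem L94800 : N5583 = N584 := eqe L94799 L6049
theorem L94801 : N5583 = N584 := eqc rfl L94800 rfl
theorem L94808 : sm gf N1194 = N2664 := trf L94795 L26394 rfl
theorem L94809 : N2664 = N2175 := eqe L94808 L18861
theorem L94810 : N2664 = N2156 := eqc rfl L94809 L94629
theorem L94816 : sm gc N2156 = N2173 := trf L94810 L21319 rfl
theorem L94817 : N2173 = N2630 := eqe L94816 L21176
theorem L94818 : N2173 = N1194 := eqc rfl L94817 L94789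
theorem L94825 : sm gg N2156 = N3570 := trf L94810 L26038 rfl
theorem L94826 : N3570 = N1194 := eqe L94825 L18781
theorem L94827 : N3570 = N1194 := eqc rfl L94826 rfl
theorem L94837 : sm ge N1194 = N5378 := trf L94827 L35007 rfl
theorem L94838 : N5378 = N2167 := eqe L94837 L18830
theorem L94839 : N5378 = N2167 := eqc rfl L94838 rfl
theorem L94849 : sm gd N2167 = N8884 := trf L94839 L54259 rfl
theorem L94850 : N8884 = N2464 := eqe L94849 L20340
theorem L94851 : N8884 = N2464 := eqc rfl L94850 rfl
theorem L94861 : sm gg N2464 = N5503 := trf L94851 L54263 rfl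
theorem L94862 : N5503 = N3201 := eqe L94861 L24036
theorem L94863 : N5503 = N3201 := eqc rfl L94862 rfl
theorem L94877 : sm gf N3201 = N9108 := trf L94863 L55401 rfl
theorem L94878 : N9108 = N4644 := eqe L94877 L31408
theorem L94879 : N9108 = N2464 := eqc rfl L94878 L94737
theorem L94880 : sm ga N2464 = N5508 := trf L94879 L55403 rfl
theorem L94881 : N5508 = N2464 := eqe L94880 L94711
theorem L94882 : N5508 = N2464 := eqc rfl L94881 rfl
theorem L94891 : sm gd N2464 = N3619 := trf L94882 L35618 rfl
theorem L94892 : N3619 = N2167 := eqe L94891 L20339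
theorem L94893 : N3619 = N2167 := eqc rfl L94892 rfl
theorem L94901 : sm gb N2167 = N5509 := trf L94893 L35620 rfl
theorem L94902 : N5509 = N1191 := eqe L94901 L18828
theorem L94903 : N5509 = N1191 := eqc rfl L94902 rfl
theorem L94924 : sm gg N1191 = N9122 := trf L94903 L55473 rfl
theorem L94925 : N9122 = N582 := eqe L94924 L6035
theorem L94926 : N9122 = N582 := eqc rfl L94925 rfl
theorem L94927 : sm ge N582 = N5592 := trf L94926 L55475 rfl
theorem L94928 : N5592 = N287 := eqe L94927 L2858
theorem L94929 : N5592 = N287 := eqc rfl L94928 rfl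
theorem L94942 : sm gf N287 = N9299 := trf L94929 L56318 rfl
theorem L94943 : N9299 = N583 := eqe L94942 L2859
theorem L94944 : N9299 = N583 := eqc rfl L94943 rfl
theorem L94949 : sm gg N583 = N8377 := trf L94944 L56322 rfl
theorem L94950 : N8377 = N1193 := eqe L94949 L6042
theorem L94951 : N8377 = N1193 := eqc rfl L94950 rfl
theorem L94958 : sm gf N1193 = N5590 := trf L94951 L51727 rfl
theorem L94959 : N5590 = N1142 := eqe L94958 L6047
theorem L94960 : N5590 = N1142 := eqc rfl L94959 rfl
theorem L94965 : sm gc N1142 = N9294 := trf L94960 L56292 rfl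
theorem L94966 : N9294 = N584 := eqe L94965 L5779
theorem L94967 : N9294 = N584 := eqc rfl L94966 rfl
theorem L94985 : sm ga N584 = N5591 := trf L94967 L56294 rfl
theorem L94986 : N5591 = N1142 := eqe L94985 L5778
theorem L94987 : N5591 = N1142 := eqc rfl L94986 rfl
theorem L94997 : sm gf N1142 = N5564 := trf L94987 L35994 rfl
theorem L94998 : N5564 = N1193 := eqe L94997 L6046
theorem L94999 : N5564 = N1193 := eqc rfl L94998 rfl
theorem L95004 : sm gd N1193 = N9238 := trf L94999 L56033 rfl
theorem L95005 : N9238 = N586 := eqe L95004 L6044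
theorem L95006 : N9238 = N586 := eqc rfl L95005 rfl
theorem L95012 : sm gb N586 = N5563 := trf L95006 L56031 rfl
theorem L95013 : N5563 = N1199 := eqe L95012 L6070
theorem L95014 : N5563 = N1199 := eqc rfl L95013 rfl
theorem L95029 : sm gg N1199 = N9239 := trf L95014 L56034 rfl
theorem L95030 : N9239 = N2181 := eqe L95029 L18892
theorem L95031 : N9239 = N2181 := eqc rfl L95030 rfl
theorem L95032 : sm ga N2181 = N9207 := trf L95031 L56036 rfl
theorem L95033 : N9207 = N2681 := eqe L95032 L21398
theorem L95034 : N9207 = N2681 := eqc rfl L95033 rfl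
theorem L95041 : sm gf N2681 = N5547 := trf L95034 L55887 rfl
theorem L95042 : N5547 = N2690 := eqe L95041 L21434
theorem L95043 : N5547 = N2548 := eqc rfl L95042 L90703
theorem L95048 : sm gb N2548 = N9192 := trf L95043 L55823 rfl
theorem L95049 : N9192 = N2115 := eqe L95048 L20803
theorem L95050 : N9192 = N2115 := eqc rfl L95049 rfl
theorem L95051 : sm gc N2548 = N9205 := trf L95043 L55878 rfl
theorem L95052 : N9205 = N3408 := eqe L95051 L25307
theorem L95053 : N9205 = N3408 := eqc rfl L95052 rfl
theorem L95054 : sm gd N2548 = N3381 := trf L95043 L35799 L92460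
theorem L95055 : N3381 = N3396 := eqe L95054 L25270
theorem L95056 : N3396 = N3381 := (eqc rfl L95055 rfl).symm
theorem L95068 : sm gb N3381 = N2541 := trf L95056 L25268 rfl
theorem L95069 : N2541 = N2534 := eqe L95068 L25188
theorem L95070 : N2541 = N2534 := eqc rfl L95069 rfl
theorem L95076 : sm ge N3381 = N5006 := trf L95056 L33335 rfl
theorem L95077 : N5006 = N4987 := eqe L95076 L33241
theorem L95078 : N5006 = N4987 := eqc rfl L95077 rfl
theorem L95086 : sm gb N4987 = N3388 := trf L95078 L33333 rfl
theorem L95087 : N3388 = N3379 := eqe L95086 L33239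
theorem L95088 : N3388 = N3379 := eqc rfl L95087 rfl
theorem L95091 : N8171 = N3610 := L74767.trans L92832
theorem L95102 : sm ga N3379 = N3386 := trf L95088 L25229 rfl
theorem L95103 : N3386 = N4957 := eqe L95102 L33091
theorem L95104 : N4957 = N3386 := (eqc rfl L95103 rfl).symm
theorem L95108 : sm gd N3379 = N4510 := trf L95088 L30681 rfl
theorem L95109 : N4510 = N3884 := eqe L95108 L27477
theorem L95110 : N4510 = N3884 := eqc rfl L95109 rfl
theorem L95112 : sm gf N3379 = N2537 := trf L95088 L25228 rfl
theorem L95113 : N2537 = N2533 := eqe L95112 L25176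
theorem L95114 : N2537 = N2533 := eqc rfl L95113 rfl
theorem L95115 : sm gg N3379 = N3366 := trf L95088 L25233 rfl
theorem L95116 : N3366 = N4988 := eqe L95115 L33244
theorem L95117 : N4988 = N3366 := (eqc rfl L95116 rfl).symm
theorem L95125 : sm gd N3366 = N6049 := trf L95117 L38093 rfl
theorem L95126 : N6049 = N4493 := eqe L95125 L30577
theorem L95127 : N6049 = N4493 := eqc rfl L95126 rfl
theorem L95128 : sm ge N3366 = N3382 := trf L95117 L33248 rfl
theorem L95129 : N3382 = N2528 := eqe L95128 L25129
theorem L95130 : N3382 = N2528 := eqc rfl L95129 rfl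
theorem L95131 : sm gf N3366 = N4958 := trf L95117 L33251 rfl
theorem L95132 : N4958 = N2527 := eqe L95131 L25126
theorem L95133 : N4958 = N2527 := eqc rfl L95132 rfl
theorem L95134 : sm gg N3366 = N3379 := trf L95117 L33245 rfl
theorem L95135 : sm gg N3379 = N3366 := flp_g L95134
theorem L95139 : sm gb N2527 = N8125 := trf L95133 L49837 rfl
theorem L95140 : N8125 = N3356 := eqe L95139 L25076
theorem L95141 : N8125 = N3356 := eqc rfl L95140 rfl
theorem L95142 : sm gc N2527 = N3367 := trf L95133 L33102 rfl
theorem L95143 : N3367 = N3363 := eqe L95142 L25110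
theorem L95144 : N3367 = N3363 := eqc rfl L95143 rfl
theorem L95145 : sm gd N2527 = N4101 := trf L95133 L33104 rfl
theorem L95146 : N4101 = N3122 := eqe L95145 L23600
theorem L95147 : N4101 = N3122 := eqc rfl L95146 rfl
theorem L95148 : sm ge N2527 = N3365 := trf L95133 L33106 rfl
theorem L95149 : N3365 = N2105 := eqe L95148 L20713
theorem L95150 : N3365 = N2105 := eqc rfl L95149 rfl
theorem L95159 : sm gc N2105 = N2529 := trf L95150 L25123 rfl
theorem L95160 : N2529 = N2526 := eqe L95159 L20708
theorem L95161 : N2529 = N2526 := eqc rfl L95160 rfl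
theorem L95162 : sm gd N2105 = N3915 := trf L95150 L27664 rfl
theorem L95163 : N3915 = N1136 := eqe L95162 L18558
theorem L95164 : N3915 = N1136 := eqc rfl L95163 rfl
theorem L95174 : sm gc N1136 = N2815 := trf L95164 L27661 rfl
theorem L95175 : N2815 = N1861 := eqe L95174 L18469
theorem L95176 : N2815 = N1861 := eqc rfl L95175 rfl
theorem L95183 : sm gg N1136 = N2813 := trf L95164 L27658 rfl
theorem L95184 : N2813 = N2107 := eqe L95183 L18565
theorem L95185 : N2813 = N2107 := eqc rfl L95184 rfl
theorem L95189 : sm gb N2107 = N2348 := trf L95185 L21947 rfl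
theorem L95190 : N2348 = N2531 := eqe L95189 L20730
theorem L95191 : N2531 = N2348 := (eqc rfl L95190 rfl).symm
theorem L95192 : sm gc N2107 = N2249 := trf L95185 L21944 rfl
theorem L95193 : N2249 = N2370 := eqe L95192 L19815
theorem L95194 : N2370 = N2249 := (eqc rfl L95193 rfl).symm
theorem L95197 : sm ge N2107 = N2853 := trf L95185 L22132 rfl
theorem L95198 : N2853 = N2405 := eqe L95197 L20025
theorem L95199 : N2853 = N2405 := eqc rfl L95198 rfl
theorem L95200 : sm gf N2107 = N2633 := trf L95185 L27649 L71560
theorem L95201 : N2633 = N2113 := eqe L95200 L18591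
theorem L95202 : N2633 = N2113 := eqc rfl L95201 rfl
theorem L95208 : sm gc N2113 = N2814 := trf L95202 L26067 L72076
theorem L95209 : N2814 = N2382 := eqe L95208 L19879
theorem L95210 : N2814 = N2382 := eqc rfl L95209 rfl
theorem L95211 : sm gd N2113 = N3364 := trf L95202 L25996 L82083
theorem L95212 : N3364 = N2539 := eqe L95211 L20767
theorem L95213 : N3364 = N2539 := eqc rfl L95212 rfl
theorem L95217 : sm gg N2113 = N3580 := trf L95202 L26073 rfl
theorem L95218 : N3580 = N1138 := eqe L95217 L18590
theorem L95219 : N3580 = N1138 := eqc rfl L95218 rfl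
theorem L95228 : sm ge N1138 = N4665 := trf L95219 L31509 rfl
theorem L95229 : N4665 = N1992 := eqe L95228 L10135
theorem L95230 : N4665 = N1992 := eqc rfl L95229 rfl
theorem L95237 : sm gc N1992 = N4010 := trf L95230 L82196 rfl
theorem L95238 : N4010 = N2342 := eqe L95237 L19687
theorem L95239 : N4010 = N2342 := eqc rfl L95238 rfl
theorem L95240 : sm gd N1992 = N4152 := trf L95230 L82169 rfl
theorem L95241 : N4152 = N2408 := eqe L95240 L20041
theorem L95242 : N4152 = N2408 := eqc rfl L95241 rfl
theorem L95243 : sm gf N1992 = N4982 := trf L95230 L82162 rfl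
theorem L95244 : N4982 = N1008 := eqe L95243 L10133
theorem L95245 : N4982 = N1008 := eqc rfl L95244 rfl
theorem L95258 : sm gg N1008 = N3376 := trf L95245 L33199 rfl
theorem L95259 : N3376 = N1993 := eqe L95258 L10136
theorem L95260 : N3376 = N1993 := eqc rfl L95259 rfl
theorem L95265 : sm gc N1993 = N2863 := trf L95260 L25163 rfl
theorem L95266 : N2863 = N2343 := eqe L95265 L19693
theorem L95267 : N2863 = N2343 := eqc rfl L95266 rfl
theorem L95268 : sm gd N1993 = N2846 := trf L95260 L25165 rfl
theorem L95269 : N2846 = N2409 := eqe L95268 L20045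
theorem L95270 : N2846 = N2409 := eqc rfl L95269 rfl
theorem L95281 : sm ga N2409 = N2316 := trf L95270 L22136 rfl
theorem L95282 : N2316 = N3124 := eqe L95281 L23610
theorem L95283 : N3124 = N2316 := (eqc rfl L95282 rfl).symm
theorem L95286 : sm gc N2409 = N2267 := trf L95270 L22090 rfl
theorem L95287 : N2267 = N3128 := eqe L95286 L23630
theorem L95288 : N3128 = N2267 := (eqc rfl L95287 rfl).symm
theorem L95289 : sm ge N2409 = N2791 := trf L95270 L22091 rfl
theorem L95290 : N2791 = N3130 := eqe L95289 L23644
theorem L95291 : N3130 = N2791 := (eqc rfl L95290 rfl).symm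
theorem L95301 : sm ge N2791 = N2409 := trf L95291 L23643 rfl
theorem L95302 : sm ge N2409 = N2791 := flp_e L95301
theorem L95304 : sm gg N2791 = N2407 := trf L95291 L23640 rfl
theorem L95305 : N2407 = N3885 := eqe L95304 L27478
theorem L95306 : N3885 = N2407 := (eqc rfl L95305 rfl).symm
theorem L95311 : sm gc N2407 = N2800 := trf L95306 L27480 rfl
theorem L95312 : N2800 = N3000 := eqe L95311 L22978
theorem L95313 : N3000 = N2800 := (eqc rfl L95312 rfl).symm
theorem L95316 : sm gf N2407 = N6051 := trf L95306 L38104 rfl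
theorem L95317 : N6051 = N3129 := eqe L95316 L23633
theorem L95318 : N6051 = N3129 := eqc rfl L95317 rfl
theorem L95319 : sm gg N2407 = N2791 := trf L95306 L27479 rfl
theorem L95320 : sm gg N2791 = N2407 := flp_g L95319
theorem L95329 : sm gg N3129 = N4100 := trf L95318 L38114 rfl
theorem L95330 : N4100 = N4508 := eqe L95329 L30660
theorem L95331 : N4508 = N4100 := (eqc rfl L95330 rfl).symm
theorem L95333 : sm gb N4100 = N7240 := trf L95331 L44889 rfl
theorem L95334 : N7240 = N6458 := eqe L95333 L40580
theorem L95335 : N7240 = N4638 := eqc rfl L95334 L71429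
theorem L95343 : sm gg N4100 = N3129 := trf L95331 L30661 rfl
theorem L95344 : sm gg N3129 = N4100 := flp_g L95343
theorem L95352 : N3990 = N2411 := L71546.trans L90522
theorem L95356 : sm gd N4638 = N5002 := trf L95335 L44891 rfl
theorem L95357 : N5002 = N3553 := eqe L95356 L31370
theorem L95358 : N5002 = N3553 := eqc rfl L95357 rfl
theorem L95367 : sm gf N3553 = N8201 := trf L95358 L50863 rfl
theorem L95368 : N8201 = N2645 := eqe L95367 L25957
theorem L95369 : N8201 = N2645 := eqc rfl L95368 rfl
theorem L95375 : sm gb N2645 = N8137 := trf L95369 L50867 rfl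
theorem L95376 : N8137 = N3605 := eqe L95375 L26169
theorem L95377 : N8137 = N3605 := eqc rfl L95376 rfl
theorem L95379 : sm ge N3605 = N4968 := trf L95377 L49883 rfl
theorem L95380 : N4968 = N2653 := eqe L95379 L26171
theorem L95381 : N4968 = N2653 := eqc rfl L95380 rfl
theorem L95382 : sm gf N3605 = N4962 := trf L95377 L49882 rfl
theorem L95397 : sm gg N2653 = N8149 := trf L95381 L49943 rfl
theorem L95398 : N8149 = N3628 := eqe L95397 L26289
theorem L95399 : N8149 = N3628 := eqc rfl L95398 rfl
theorem L95409 : sm gf N3628 = N2139 := trf L95399 L49950 L86628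
theorem L95410 : N2139 = N5530 := eqe L95409 L35732
theorem L95411 : N4111 = N2139 := (eqc rfl L95410 L71091).symm
theorem L95412 : sm ga N2139 = N4268 := trf L95411 L29455 rfl
theorem L95413 : N4268 = N2583 := eqe L95412 L20957
theorem L95414 : N4268 = N2583 := eqc rfl L95413 rfl
theorem L95424 : sm ge N2139 = N2929 := trf L95411 L28694 rfl
theorem L95425 : N2929 = N2590 := eqe L95424 L20980
theorem L95426 : N2929 = N2590 := eqc rfl L95425 rfl
theorem L95427 : sm gf N2139 = N3628 := trf L95411 L40710 L71100
theorem L95428 : N3628 = N2591 := eqe L95427 L20984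
theorem L95429 : N3628 = N2591 := eqc rfl L95428 rfl
theorem L95436 : sm gc N2591 = N5527 := trf L95429 L35719 rfl
theorem L95437 : N5527 = N3494 := eqe L95436 L25696
theorem L95438 : N5527 = N3494 := eqc rfl L95437 rfl
theorem L95442 : sm ge N2591 = N4115 := trf L95429 L35471 L71187
theorem L95443 : N4115 = N3496 := eqe L95442 L25704
theorem L95444 : N4115 = N3496 := eqc rfl L95443 rfl
theorem L95447 : sm gg N2591 = N2653 := trf L95429 L26290 rfl
theorem L95448 : N2653 = N3499 := eqe L95447 L25715
theorem L95449 : N3499 = N2653 := (eqc rfl L95448 rfl).symm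
theorem L95455 : sm gc N2653 = N5242 := trf L95449 L34391 rfl
theorem L95456 : N5242 = N3626 := eqe L95455 L26283
theorem L95457 : N5242 = N3626 := eqc rfl L95456 rfl
theorem L95459 : sm ge N2653 = N5246 := trf L95449 L34413 rfl
theorem L95460 : N5246 = N3605 := eqe L95459 L26172
theorem L95461 : N5246 = N3605 := eqc rfl L95460 rfl
theorem L95462 : sm gf N2653 = N3482 := trf L95449 L25720 rfl
theorem L95463 : N3482 = N3627 := eqe L95462 L26285
theorem L95464 : N3482 = N3007 := eqc rfl L95463 L71169
theorem L95465 : sm gg N2653 = N2591 := trf L95449 L25716 rfl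
theorem L95466 : sm gg N2591 = N2653 := flp_g L95465
theorem L95472 : sm gc N3007 = N5211 := trf L95464 L34237 rfl
theorem L95473 : N5211 = N4266 := eqe L95472 L29434
theorem L95474 : N5211 = N4266 := eqc rfl L95473 rfl
theorem L95476 : sm ge N3007 = N5213 := trf L95464 L34249 rfl
theorem L95477 : N5213 = N2923 := eqe L95476 L23021
theorem L95478 : N5213 = N2923 := eqc rfl L95477 rfl
theorem L95487 : sm gc N2923 = N8579 := trf L95478 L52700 rfl
theorem L95488 : N8579 = N4102 := eqe L95487 L28645
theorem L95489 : N8579 = N4102 := eqc rfl L95488 rfl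
theorem L95495 : sm gg N2923 = N3480 := trf L95478 L34245 rfl
theorem L95496 : N3480 = N4104 := eqe L95495 L28655
theorem L95497 : N4104 = N3480 := (eqc rfl L95496 rfl).symm
theorem L95505 : sm gd N3480 = N2925 := trf L95497 L28659 rfl
theorem L95506 : N2925 = N3485 := eqe L95505 L25647
theorem L95507 : N3485 = N2925 := (eqc rfl L95506 rfl).symm
theorem L95509 : sm gf N3480 = N4113 := trf L95497 L28706 rfl
theorem L95510 : N4113 = N4068 := eqe L95509 L80974
theorem L95511 : N4113 = N4068 := eqc rfl L95510 rfl
theorem L95512 : sm gg N3480 = N2923 := trf L95497 L28656 rfl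
theorem L95513 : sm gg N2923 = N3480 := flp_g L95512
theorem L95519 : sm gc N4068 = N6473 := trf L95511 L40672 rfl
theorem L95520 : N6473 = N6395 := eqe L95519 L40301
theorem L95521 : N6473 = N6395 := eqc rfl L95520 rfl
theorem L95522 : sm gd N4068 = N2931 := trf L95511 L28704 rfl
theorem L95523 : N2931 = N2905 := eqe L95522 L28487
theorem L95524 : N2931 = N2905 := eqc rfl L95523 rfl
theorem L95528 : sm gg N4068 = N2928 := trf L95511 L28703 rfl
theorem L95529 : N2928 = N5248 := eqe L95528 L80961
theorem L95530 : N5248 = N2928 := (eqc rfl L95529 rfl).symm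
theorem L95534 : sm gc N2928 = N8624 := trf L95530 L52952 rfl
theorem L95535 : N8624 = N4108 := eqe L95534 L28679
theorem L95536 : N8624 = N4108 := eqc rfl L95535 rfl
theorem L95541 : sm gg N2928 = N4068 := trf L95530 L80962 rfl
theorem L95542 : sm gg N4068 = N2928 := flp_g L95541
theorem L95546 : sm gd N4108 = N5244 := trf L95536 L52953 rfl
theorem L95547 : N5244 = N6470 := eqe L95546 L40655
theorem L95548 : N5521 = N5244 := (eqc rfl L95547 L71082).symm
theorem L95551 : N6470 = N5244 := L71082.trans L95548
theorem L95552 : sm gf N4108 = N5240 := trf L95536 L52948 rfl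
theorem L95553 : N5240 = N2926 := eqe L95552 L28677
theorem L95554 : N5240 = N2926 := eqc rfl L95553 rfl
theorem L95562 : sm gd N2926 = N3495 := trf L95554 L34382 rfl
theorem L95563 : N3495 = N4107 := eqe L95562 L28669
theorem L95564 : N4107 = N3495 := (eqc rfl L95563 rfl).symm
theorem L95567 : sm gg N2926 = N3493 := trf L95554 L34379 rfl
theorem L95568 : N3493 = N4109 := eqe L95567 L28680
theorem L95569 : N4109 = N3493 := (eqc rfl L95568 rfl).symm
theorem L95571 : sm gb N3493 = N6474 := trf L95569 L40675 rfl
theorem L95572 : N6474 = N5236 := eqe L95571 L34357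
theorem L95573 : N6474 = N5236 := eqc rfl L95572 rfl
theorem L95577 : sm gf N3493 = N6475 := trf L95569 L40678 rfl
theorem L95578 : N6475 = N5239 := eqe L95577 L34370
theorem L95579 : N6475 = N5239 := eqc rfl L95578 rfl
theorem L95580 : sm gg N3493 = N2926 := trf L95569 L28681 rfl
theorem L95581 : sm gg N2926 = N3493 := flp_g L95580
theorem L95603 : sm gg N5236 = N5236 := trf L95573 L40677 L95573
theorem L95604 : N5236 = N8616 := eqe L95603 L52893
theorem L95605 : N8616 = N5236 := (eqc rfl L95604 rfl).symm
theorem L95606 : sm ga N5236 = N6382 := trf L95605 L52895 rfl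
theorem L95607 : N6382 = N4061 := eqe L95606 L34354
theorem L95608 : N6382 = N4061 := eqc rfl L95607 rfl
theorem L95609 : sm gc N5236 = N5274 := trf L95605 L52897 rfl
theorem L95610 : N5274 = N3510 := eqe L95609 L34359
theorem L95611 : N5274 = N3510 := eqc rfl L95610 rfl
theorem L95612 : sm gd N5236 = N5238 := trf L95605 L52899 rfl
theorem L95613 : N5238 = N3492 := eqe L95612 L34353
theorem L95614 : N5238 = N3492 := eqc rfl L95613 rfl
theorem L95616 : sm gf N5236 = N10604 := trf L95605 L63484 rfl
theorem L95617 : N10604 = N4940 := eqe L95616 L81885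
theorem L95618 : N10604 = N4940 := eqc rfl L95617 rfl
theorem L95619 : sm gg N5236 = N5236 := trf L95605 L52894 rfl
theorem L95620 : sm ga N4940 = N8102 := trf L95618 L81847 rfl
theorem L95621 : N8102 = N6381 := eqe L95620 L81888
theorem L95622 : N8102 = N6381 := eqc rfl L95621 rfl
theorem L95623 : sm gc N4940 = N6384 := trf L95618 L63478 rfl
theorem L95624 : N6384 = N3356 := eqe L95623 L33019
theorem L95625 : N6384 = N3356 := eqc rfl L95624 rfl
theorem L95626 : sm gd N4940 = N8086 := trf L95618 L63480 L81764
theorem L95627 : N8086 = N3355 := eqe L95626 L33015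
theorem L95628 : N8086 = N3355 := eqc rfl L95627 rfl
theorem L95633 : sm ga N3355 = N4942 := trf L95628 L49595 rfl
theorem L95634 : N4942 = N4929 := eqe L95633 L32953
theorem L95635 : N4942 = N4929 := eqc rfl L95634 rfl
theorem L95636 : sm gc N3355 = N4932 := trf L95628 L49597 rfl
theorem L95637 : N4932 = N2523 := eqe L95636 L25072
theorem L95638 : N4932 = N2523 := eqc rfl L95637 rfl
theorem L95644 : sm ga N2523 = N3358 := trf L95638 L32968 rfl
theorem L95645 : N3358 = N3349 := eqe L95644 L25034
theorem L95646 : N3358 = N3349 := eqc rfl L95645 rfl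
theorem L95650 : sm gd N2523 = N3351 := trf L95638 L32970 rfl
theorem L95651 : N3351 = N2104 := eqe L95650 L20701
theorem L95652 : N3351 = N2104 := eqc rfl L95651 rfl
theorem L95654 : sm gf N2523 = N3512 := trf L95638 L81788 rfl
theorem L95655 : N3512 = N2597 := eqe L95654 L81819
theorem L95656 : N3512 = N2597 := eqc rfl L95655 rfl
theorem L95659 : sm ga N2597 = N4692 := trf L95656 L31670 rfl
theorem L95660 : N4692 = N3223 := eqe L95659 L24154
theorem L95661 : N4692 = N3223 := eqc rfl L95660 rfl
theorem L95663 : sm gd N2597 = N3192 := trf L95656 L25773 rfl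
theorem L95664 : N3192 = N2437 := eqe L95663 L21012
theorem L95665 : N3192 = N2437 := eqc rfl L95664 rfl
theorem L95667 : sm gg N2597 = N2597 := trf L95656 L25772 rfl
theorem L95668 : sm ga N2437 = N3225 := trf L95665 L24280 rfl
theorem L95669 : N3225 = N2454 := eqe L95668 L21951
theorem L95670 : N3225 = N2454 := eqc rfl L95669 rfl
theorem L95671 : sm gc N2437 = N2456 := trf L95665 L23977 rfl
theorem L95672 : N2456 = N2032 := eqe L95671 L20194
theorem L95673 : N2456 = N2032 := eqc rfl L95672 rfl
theorem L95674 : sm ge N2437 = N3222 := trf L95665 L24150 rfl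
theorem L95675 : N3222 = N2453 := eqe L95674 L21956
theorem L95676 : N3222 = N2453 := eqc rfl L95675 rfl
theorem L95680 : sm gg N2437 = N2437 := trf L95665 L23976 rfl
theorem L95685 : sm gd N2453 = N2909 := trf L95676 L24147 rfl
theorem L95686 : N2909 = N2297 := eqe L95685 L20278
theorem L95687 : N2909 = N2297 := eqc rfl L95686 rfl
theorem L95690 : sm gg N2453 = N2453 := trf L95676 L24144 rfl
theorem L95691 : sm ga N2297 = N2299 := trf L95687 L22523 rfl
theorem L95692 : N2299 = N1692 := eqe L95691 L19471
theorem L95693 : N2299 = N1692 := eqc rfl L95692 rfl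
theorem L95697 : sm gc N2297 = N4060 := trf L95687 L28439 rfl
theorem L95698 : N4060 = N2899 := eqe L95697 L22463
theorem L95699 : N4060 = N2899 := eqc rfl L95698 rfl
theorem L95701 : sm gf N2297 = N2911 := trf L95687 L22531 rfl
theorem L95702 : N2911 = N2908 := eqe L95701 L22517
theorem L95703 : N2911 = N2908 := eqc rfl L95702 rfl
theorem L95704 : sm gg N2297 = N2297 := trf L95687 L22522 rfl
theorem L95705 : sm ga N2908 = N2913 := trf L95703 L22540 rfl
theorem L95706 : N2913 = N2298 := eqe L95705 L22519
theorem L95707 : N2913 = N2298 := eqc rfl L95706 rfl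
theorem L95711 : sm gc N2908 = N4065 := trf L95703 L28464 rfl
theorem L95712 : N4065 = N4059 := eqe L95711 L28431
theorem L95713 : N4065 = N4059 := eqc rfl L95712 rfl
theorem L95714 : sm gd N2908 = N3227 := trf L95703 L24294 rfl
theorem L95715 : N3227 = N2402 := eqe L95714 L83055
theorem L95716 : N3227 = N2402 := eqc rfl L95715 rfl
theorem L95720 : sm ga N2402 = N3120 := trf L95716 L24306 L83035
theorem L95721 : N3120 = N2455 := eqe L95720 L83061
theorem L95722 : N3120 = N2455 := eqc rfl L95721 rfl
theorem L95726 : sm gc N2402 = N2525 := trf L95716 L83098 rfl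
theorem L95727 : N2525 = N2521 := eqe L95726 L24230
theorem L95728 : N2525 = N2521 := eqc rfl L95727 rfl
theorem L95735 : sm gb N2521 = N3361 := trf L95728 L25093 rfl
theorem L95736 : N3361 = N2137 := eqe L95735 L20696
theorem L95737 : N3361 = N2137 := eqc rfl L95736 rfl
theorem L95764 : sm ge N2137 = N2855 := trf L95737 L30537 L87224
theorem L95765 : N2855 = N2427 := eqe L95764 L20147
theorem L95766 : N2855 = N2427 := eqc rfl L95765 rfl
theorem L95767 : sm gf N2137 = N4955 := trf L95737 L33084 rfl
theorem L95768 : N4955 = N2584 := eqe L95767 L20958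
theorem L95769 : N4955 = N2584 := eqc rfl L95768 rfl
theorem L95774 : sm gb N2584 = N7610 := trf L95769 L82420 rfl
theorem L95775 : N7610 = N3483 := eqe L95774 L25637
theorem L95776 : N7610 = N2458 := eqc rfl L95775 L82906
theorem L95837 : N7641 = N2610 := L82401.trans L87369
theorem L95838 : sm gg N2458 = N2610 := trf L95776 L47164 L95837
theorem L95839 : N2610 = N2968 := eqe L95838 L22826
theorem L95840 : N2968 = N2610 := (eqc rfl L95839 rfl).symm
theorem L95850 : sm gg N2610 = N2458 := trf L95840 L22825 rfl
theorem L95851 : N2458 = N3536 := eqe L95850 L25873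
theorem L95852 : N3536 = N2458 := (eqc rfl L95851 rfl).symm
theorem L95860 : sm gf N2458 = N3506 := trf L95852 L25878 rfl
theorem L95861 : N3506 = N2033 := eqe L95860 L20300
theorem L95862 : N3506 = N2033 := eqc rfl L95861 rfl
theorem L95863 : sm gg N2458 = N2610 := trf L95852 L25874 rfl
theorem L95864 : sm gg N2610 = N2458 := flp_g L95863
theorem L95866 : sm gb N2033 = N5265 := trf L95862 L34508 rfl
theorem L95867 : N5265 = N2454 := eqe L95866 L20283
theorem L95868 : N5265 = N2454 := eqc rfl L95867 rfl
theorem L95888 : sm gg N2454 = N5042 := trf L95868 L36344 rfl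
theorem L95889 : N5042 = N3225 := eqe L95888 L24277
theorem L95890 : N5042 = N2454 := eqc rfl L95889 L95670
theorem L95904 : sm gf N2454 = N4270 := trf L95890 L36348 L71261
theorem L95905 : N4270 = N3224 := eqe L95904 L24269
theorem L95906 : N4270 = N2521 := eqc rfl L95905 L80994
theorem L95911 : sm gd N2521 = N6802 := trf L95906 L42295 rfl
theorem L95912 : N6802 = N3349 := eqe L95911 L25031
theorem L95913 : N6802 = N3349 := eqc rfl L95912 rfl
theorem L95931 : sm gf N3349 = N11288 := trf L95913 L67365 rfl
theorem L95932 : N11288 = N4931 := eqe L95931 L32960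
theorem L95933 : N11288 = N3223 := eqc rfl L95932 L81794
theorem L95938 : sm ge N3223 = N10736 := trf L95933 L67369 rfl
theorem L95939 : N10736 = N2900 := eqe L95938 L24157
theorem L95940 : N10736 = N2900 := eqc rfl L95939 rfl
theorem L95948 : sm gg N2900 = N10907 := trf L95940 L65246 rfl
theorem L95949 : N10907 = N4063 := eqe L95948 L28449
theorem L95950 : N10907 = N4063 := eqc rfl L95949 rfl
theorem L95954 : sm gf N4063 = N6567 := trf L95950 L65243 rfl
theorem L95955 : N6567 = N6386 := eqe L95954 L40247
theorem L95956 : N6567 = N4944 := eqc rfl L95955 L81750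
theorem L95957 : sm ga N4944 = N3356 := trf L95956 L50615 L95141
theorem L95958 : sm ga N3356 = N4944 := flp_a L95957
theorem L95959 : N4944 = N4930 := eqe L95958 L32957
theorem L95960 : N4944 = N4062 := eqc rfl L95959 L80966
theorem L95961 : N6567 = N4062 := L95956.trans L95960
theorem L95969 : sm gd N4062 = N4106 := trf L95961 L41171 L86946
theorem L95970 : N4106 = N2901 := eqe L95969 L28447
theorem L95971 : N4106 = N2901 := eqc rfl L95970 rfl
theorem L95975 : sm gg N4062 = N10734 := trf L95961 L64219 rfl
theorem L95976 : N10734 = N6384 := eqe L95975 L40233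
theorem L95977 : N10734 = N3356 := eqc rfl L95976 L95625
theorem L95980 : sm gd N3356 = N6467 := trf L95977 L64216 rfl
theorem L95981 : N6467 = N4484 := eqe L95980 L30508
theorem L95982 : N6467 = N4059 := eqc rfl L95981 L81711
theorem L95997 : N4159 = N2901 := L86946.trans L95971
theorem L95998 : sm gg N4059 = N2901 := trf L95982 L50621 L95997
theorem L95999 : N2901 = N4067 := eqe L95998 L28484
theorem L96000 : N4067 = N2901 := (eqc rfl L95999 rfl).symm
theorem L96004 : N4064 = N2925 := L80821.trans L95507
theorem L96010 : sm gf N2901 = N2902 := trf L96000 L28476 rfl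
theorem L96011 : N2902 = N2292 := eqe L96010 L22473
theorem L96012 : N2902 = N2292 := eqc rfl L96011 rfl
theorem L96020 : sm gd N2292 = N4063 := trf L96012 L28452 rfl
theorem L96021 : N4063 = N2900 := eqe L96020 L22468
theorem L96022 : N4063 = N2900 := eqc rfl L96021 rfl
theorem L96024 : sm gg N2292 = N2292 := trf L96012 L22479 rfl
theorem L96026 : sm gb N2900 = N6385 := trf L96022 L40241 rfl
theorem L96027 : N6385 = N2293 := eqe L96026 L22470
theorem L96028 : N6385 = N2293 := eqc rfl L96027 rfl
theorem L96032 : sm gg N2900 = N2900 := trf L96022 L28450 rfl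
theorem L96046 : sm gg N2293 = N4069 := trf L96028 L40245 rfl
theorem L96047 : N4069 = N2904 := eqe L96046 L22491
theorem L96048 : N4069 = N2904 := eqc rfl L96047 rfl
theorem L96049 : sm ga N2904 = N6397 := trf L96048 L40308 rfl
theorem L96050 : N6397 = N2310 := eqe L96049 L22493
theorem L96051 : N6397 = N2310 := eqc rfl L96050 rfl
theorem L96052 : sm gb N2904 = N2904 := trf L96048 L28490 rfl
theorem L96056 : sm gd N2904 = N2906 := trf L96048 L28491 rfl
theorem L96057 : N2906 = N2295 := eqe L96056 L22496
theorem L96058 : N2906 = N2295 := eqc rfl L96057 rfl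
theorem L96059 : sm ge N2904 = N4704 := trf L96048 L31734 rfl
theorem L96060 : N4704 = N3231 := eqe L96059 L24328
theorem L96061 : N4704 = N3231 := eqc rfl L96060 rfl
theorem L96062 : sm gf N2904 = N6399 := trf L96048 L40315 rfl
theorem L96063 : N6399 = N2937 := eqe L96062 L22672
theorem L96064 : N6399 = N2937 := eqc rfl L96063 rfl
theorem L96068 : sm gb N2937 = N6518 := trf L96064 L40923 rfl
theorem L96069 : N6518 = N4130 := eqe L96068 L28805
theorem L96070 : N6518 = N4130 := eqc rfl L96069 rfl
theorem L96077 : sm ge N2937 = N7632 := trf L96064 L47111 rfl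
theorem L96078 : N7632 = N4124 := eqe L96077 L28774
theorem L96079 : N7632 = N4124 := eqc rfl L96078 rfl
theorem L96089 : sm gd N4124 = N4710 := trf L96079 L47108 rfl
theorem L96090 : N4710 = N2966 := eqe L96089 L28771
theorem L96091 : N4710 = N2966 := eqc rfl L96090 rfl
theorem L96096 : sm gb N2966 = N5441 := trf L96091 L41479 L82460
theorem L96097 : N5441 = N4189 := eqe L96096 L29096
theorem L96098 : N5441 = N4189 := eqc rfl L96097 rfl
theorem L96105 : sm gf N2966 = N3233 := trf L96091 L31760 rfl
theorem L96106 : N3233 = N2459 := eqe L96105 L22812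
theorem L96107 : N3233 = N2459 := eqc rfl L96106 rfl
theorem L96114 : sm gb N2459 = N2459 := trf L96107 L24334 rfl
theorem L96119 : sm ge N2459 = N2461 := trf L96107 L24335 rfl
theorem L96120 : N2461 = N2035 := eqe L96119 L20313
theorem L96121 : N2461 = N2035 := eqc rfl L96120 rfl
theorem L96126 : sm gb N2035 = N2035 := trf L96121 L20320 rfl
theorem L96130 : sm gd N2035 = N2301 := trf L96121 L20321 rfl
theorem L96131 : N2301 = N1694 := eqe L96130 L10398
theorem L96132 : N2301 = N1694 := eqc rfl L96131 rfl
theorem L96134 : sm gg N2035 = N3228 := trf L96121 L24302 rfl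
theorem L96135 : N3228 = N1033 := eqe L96134 L10393
theorem L96136 : N3228 = N1033 := eqc rfl L96135 rfl
theorem L96144 : sm gd N1033 = N2912 := trf L96136 L24299 rfl
theorem L96145 : N2912 = N860 := eqe L96144 L5119
theorem L96146 : N2912 = N860 := eqc rfl L96145 rfl
theorem L96157 : sm gf N860 = N4084 := trf L96146 L28556 rfl
theorem L96158 : N4084 = N1693 := eqe L96157 L8624
theorem L96159 : N4084 = N1693 := eqc rfl L96158 rfl
theorem L96172 : sm gg N1693 = N4094 := trf L96159 L28600 rfl
theorem L96173 : N4094 = N1749 := eqe L96172 L8910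
theorem L96174 : N4094 = N1749 := eqc rfl L96173 rfl
theorem L96190 : sm gf N1749 = N2917 := trf L96174 L28597 rfl
theorem L96191 : N2917 = N888 := eqe L96190 L8904
theorem L96192 : N2917 = N888 := eqc rfl L96191 rfl
theorem L96199 : sm ge N888 = N4072 := trf L96192 L28508 rfl
theorem L96200 : N4072 = N1714 := eqe L96199 L8738
theorem L96201 : N4072 = N1714 := eqc rfl L96200 rfl
theorem L96210 : sm gg N1714 = N6390 := trf L96201 L40280 rfl
theorem L96211 : N6390 = N871 := eqe L96210 L8734
theorem L96212 : N6390 = N871 := eqc rfl L96211 rfl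
theorem L96215 : sm gc N871 = N10618 := trf L96212 L63567 rfl
theorem L96216 : N10618 = N422 := eqe L96215 L4324
theorem L96217 : N10618 = N422 := eqc rfl L96216 rfl
theorem L96230 : sm gf N422 = N10646 := trf L96217 L63740 rfl
theorem L96231 : N10646 = N872 := eqe L96230 L4327
theorem L96232 : N10646 = N872 := eqc rfl L96231 rfl
theorem L96241 : sm gg N872 = N6407 := trf L96232 L63733 rfl
theorem L96242 : N6407 = N1716 := eqe L96241 L8747
theorem L96243 : N6407 = N1716 := eqc rfl L96242 rfl
theorem L96255 : sm gf N1716 = N4073 := trf L96243 L40366 rfl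
theorem L96256 : N4073 = N1671 := eqe L96255 L13938
theorem L96257 : N4073 = N1671 := eqc rfl L96256 rfl
theorem L96259 : sm gb N1671 = N2907 := trf L96257 L28513 rfl
theorem L96260 : N2907 = N2296 := eqe L96259 L19459
theorem L96261 : N2907 = N2296 := eqc rfl L96260 rfl
theorem L96266 : sm ge N1671 = N2918 := trf L96257 L28511 rfl
theorem L96267 : N2918 = N862 := eqe L96266 L13935
theorem L96268 : N2918 = N862 := eqc rfl L96267 rfl
theorem L96271 : sm gb N862 = N2303 := trf L96268 L22557 rfl
theorem L96272 : N2303 = N1696 := eqe L96271 L8640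
theorem L96273 : N2303 = N1696 := eqc rfl L96272 rfl
theorem L96275 : sm gd N862 = N4095 := trf L96268 L28602 rfl
theorem L96276 : N4095 = N419 := eqe L96275 L4224
theorem L96277 : N4095 = N419 := eqc rfl L96276 rfl
theorem L96289 : sm ge N419 = N6454 := trf L96277 L40562 rfl
theorem L96290 : N6454 = N212 := eqe L96289 L2090
theorem L96291 : N6454 = N212 := eqc rfl L96290 rfl
theorem L96343 : sm ga N212 = N10712 := trf L96291 L64121 rfl
theorem L96344 : N10712 = N118 := eqe L96343 L1111
theorem L96345 : N10712 = N118 := eqc rfl L96344 rfl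
theorem L96376 : sm gb N118 = N9486 := trf L96345 L64122 rfl
theorem L96377 : N9486 = N82 := eqe L96376 L16932
theorem L96378 : N9486 = N82 := eqc rfl L96377 rfl
theorem L96383 : sm ge N82 = N5706 := trf L96378 L57253 rfl
theorem L96384 : N5706 = N147 := eqe L96383 L800
theorem L96385 : N5706 = N147 := eqc rfl L96384 rfl
theorem L96399 : sm gg N147 = N9488 := trf L96385 L57262 rfl
theorem L96400 : N9488 = N80 := eqe L96399 L795
theorem L96401 : N9488 = N80 := eqc rfl L96400 rfl
theorem L96408 : sm gf N80 = N9501 := trf L96401 L57332 rfl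
theorem L96409 : N9501 = N146 := eqe L96408 L787
theorem L96410 : N9501 = N146 := eqc rfl L96409 rfl
theorem L96417 : sm gg N146 = N5713 := trf L96410 L57329 rfl
theorem L96418 : N5713 = N155 := eqe L96417 L837
theorem L96419 : N5713 = N155 := eqc rfl L96418 rfl
theorem L96427 : sm gd N155 = N3712 := trf L96419 L36567 rfl
theorem L96428 : N3712 = N292 := eqe L96427 L1479
theorem L96429 : N3712 = N292 := eqc rfl L96428 rfl
theorem L96447 : sm gf N292 = N2692 := trf L96429 L26637 rfl
theorem L96448 : N2692 = N152 := eqe L96447 L1475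
theorem L96449 : N2692 = N152 := eqc rfl L96448 rfl
theorem L96460 : sm gg N152 = N3713 := trf L96449 L26640 rfl
theorem L96461 : N3713 = N83 := eqe L96460 L812
theorem L96462 : N3713 = N83 := eqc rfl L96461 rfl
theorem L96472 : sm gf N83 = N5718 := trf L96462 L36585 rfl
theorem L96473 : N5718 = N151 := eqe L96472 L807
theorem L96474 : N5718 = N151 := eqc rfl L96473 rfl
theorem L96483 : sm ge N151 = N7902 := trf L96474 L48519 rfl
theorem L96484 : N7902 = N253 := eqe L96483 L1311
theorem L96485 : N7902 = N253 := eqc rfl L96484 rfl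
theorem L96495 : sm gg N253 = N7892 := trf L96485 L48520 rfl
theorem L96496 : N7892 = N506 := eqe L96495 L2512
theorem L96497 : N7892 = N506 := eqc rfl L96496 rfl
theorem L96503 : sm gf N506 = N4822 := trf L96497 L48445 rfl
theorem L96504 : N4822 = N493 := eqe L96503 L2519
theorem L96505 : N4822 = N493 := eqc rfl L96504 rfl
theorem L96513 : sm gg N493 = N7893 := trf L96505 L48452 rfl
theorem L96514 : N7893 = N247 := eqe L96513 L2451
theorem L96515 : N7893 = N247 := eqc rfl L96514 rfl
theorem L96520 : sm gc N247 = N4824 := trf L96515 L48456 rfl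
theorem L96521 : N4824 = N491 := eqe L96520 L2436
theorem L96522 : N4824 = N491 := eqc rfl L96521 rfl
theorem L96537 : sm gf N491 = N4829 := trf L96522 L32386 rfl
theorem L96538 : N4829 = N1010 := eqe L96537 L4970
theorem L96539 : N4829 = N1010 := eqc rfl L96538 rfl
theorem L96552 : sm gg N1010 = N3285 := trf L96539 L32383 rfl
theorem L96553 : N3285 = N1040 := eqe L96552 L5159
theorem L96554 : N3285 = N1040 := eqc rfl L96553 rfl
theorem L96561 : sm gf N1040 = N2481 := trf L96554 L24587 rfl
theorem L96562 : N2481 = N505 := eqe L96561 L5151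
theorem L96563 : N2481 = N505 := eqc rfl L96562 rfl
theorem L96567 : sm gd N505 = N3258 := trf L96563 L24456 rfl
theorem L96568 : N3258 = N1036 := eqe L96567 L5132
theorem L96569 : N3258 = N1036 := eqc rfl L96568 rfl
theorem L96581 : sm gg N1036 = N4769 := trf L96569 L32073 rfl
theorem L96582 : N4769 = N503 := eqe L96581 L5130
theorem L96583 : N4769 = N503 := eqc rfl L96582 rfl
theorem L96591 : sm ge N503 = N7699 := trf L96583 L47461 rfl
theorem L96592 : N7699 = N1034 := eqe L96591 L5121
theorem L96593 : N7699 = N1034 := eqc rfl L96592 rfl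
theorem L96608 : sm gd N1034 = N5501 := trf L96593 L47458 rfl
theorem L96609 : N5501 = N582 := eqe L96608 L5123
theorem L96610 : N5501 = N582 := eqc rfl L96609 rfl
theorem L96627 : sm gg N582 = N3615 := trf L96610 L35585 rfl
theorem L96628 : N3615 = N1191 := eqe L96627 L6034
theorem L96629 : N3615 = N1191 := eqc rfl L96628 rfl
theorem L96641 : sm gf N1191 = N5500 := trf L96629 L35580 rfl
theorem L96642 : N5500 = N2168 := eqe L96641 L18831
theorem L96643 : N5500 = N2168 := eqc rfl L96642 rfl
theorem L96659 : sm gg N2168 = N9100 := trf L96643 L55359 rfl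
theorem L96660 : N9100 = N2116 := eqe L96659 L18839
theorem L96661 : N9100 = N2116 := eqc rfl L96660 rfl
theorem L96663 : sm ge N2116 = N5575 := trf L96661 L55361 rfl
theorem L96664 : N5575 = N1141 := eqe L96663 L18609
theorem L96665 : N5575 = N1141 := eqc rfl L96664 rfl
theorem L96677 : sm gf N1141 = N5569 := trf L96665 L35923 rfl
theorem L96678 : N5569 = N555 := eqe L96677 L5768
theorem L96679 : N5569 = N555 := eqc rfl L96678 rfl
theorem L96690 : sm gg N555 = N3646 := trf L96679 L35893 rfl
theorem L96691 : N3646 = N1142 := eqe L96690 L5775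
theorem L96692 : N3646 = N1142 := eqc rfl L96691 rfl
theorem L96695 : sm gc N1142 = N5567 := trf L96692 L35882 rfl
theorem L96696 : N5567 = N584 := eqe L96695 L5779
theorem L96697 : N5567 = N584 := eqc rfl L96696 rfl
theorem L96713 : sm gf N584 = N9248 := trf L96697 L56076 rfl
theorem L96714 : N9248 = N1195 := eqe L96713 L6052
theorem L96715 : N9248 = N1195 := eqc rfl L96714 rfl
theorem L96721 : sm gg N1195 = N9263 := trf L96715 L56149 rfl
theorem L96722 : N9263 = N1141 := eqe L96721 L6060
theorem L96723 : N9263 = N1141 := eqc rfl L96722 rfl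
theorem L96726 : sm gf N1141 = N5573 := trf L96723 L56143 rfl
theorem L96727 : N5573 = N555 := eqe L96726 L5768
theorem L96728 : N5573 = N555 := eqc rfl L96727 rfl
theorem L96734 : sm gd N555 = N9259 := trf L96728 L56131 rfl
theorem L96735 : N9259 = N275 := eqe L96734 L2739
theorem L96736 : N9259 = N275 := eqc rfl L96735 rfl
theorem L96739 : sm gg N275 = N5571 := trf L96736 L56129 rfl
theorem L96740 : N5571 = N557 := eqe L96739 L2750
theorem L96741 : N5571 = N557 := eqc rfl L96740 rfl
theorem L96743 : sm gb N557 = N9253 := trf L96741 L56111 rfl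
theorem L96744 : N9253 = N1144 := eqe L96743 L5785
theorem L96745 : N9253 = N1144 := eqc rfl L96744 rfl
theorem L96780 : sm gd N1144 = N5570 := trf L96745 L56109 rfl
theorem L96781 : N5570 = N2119 := eqe L96780 L18626
theorem L96782 : N5570 = N2119 := eqc rfl L96781 rfl
theorem L96794 : sm gg N2119 = N9255 := trf L96782 L56116 rfl
theorem L96795 : N9255 = N1182 := eqe L96794 L94383
theorem L96796 : N9255 = N1182 := eqc rfl L96795 rfl
theorem L96797 : sm gc N1182 = N5580 := trf L96796 L56118 rfl
theorem L96798 : N5580 = N579 := eqe L96797 L5994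
theorem L96799 : N5580 = N579 := eqc rfl L96798 rfl
theorem L96812 : sm gf N579 = N9277 := trf L96799 L56214 rfl
theorem L96813 : N9277 = N1184 := eqe L96812 L5999
theorem L96814 : N9277 = N1184 := eqc rfl L96813 rfl
theorem L96819 : sm gg N1184 = N9270 := trf L96814 L56218 rfl
theorem L96820 : N9270 = N2155 := eqe L96819 L18771
theorem L96821 : N9270 = N2155 := eqc rfl L96820 rfl
theorem L96822 : sm ga N2155 = N5579 := trf L96821 L56188 rfl
theorem L96823 : N5579 = N2157 := eqe L96822 L18786
theorem L96824 : N5579 = N2157 := eqc rfl L96823 rfl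
theorem L96871 : sm gb N2157 = N9275 := trf L96824 L56206 rfl
theorem L96872 : N9275 = N2632 := eqe L96871 L21184
theorem L96873 : N9275 = N2632 := eqc rfl L96872 rfl
theorem L96878 : sm gf N2632 = N584 := trf L96873 L56208 L94801
theorem L96879 : N584 = N3573 := eqe L96878 L26052
theorem L96880 : N3573 = N584 := (eqc rfl L96879 rfl).symm
theorem L96893 : sm gg N584 = N5413 := trf L96880 L35162 rfl
theorem L96894 : N5413 = N287 := eqe L96893 L2864
theorem L96895 : N5413 = N287 := eqc rfl L96894 rfl
theorem L96903 : sm ge N287 = N8891 := trf L96895 L54298 rfl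
theorem L96904 : N8891 = N582 := eqe L96903 L2857
theorem L96905 : N8891 = N582 := eqc rfl L96904 rfl
theorem L96912 : sm gf N582 = N8894 := trf L96905 L54316 rfl
theorem L96913 : N8894 = N1190 := eqe L96912 L6030
theorem L96914 : N8894 = N1190 := eqc rfl L96913 rfl
theorem L96920 : sm gg N1190 = N5382 := trf L96914 L54310 rfl
theorem L96921 : N5382 = N2166 := eqe L96920 L18821
theorem L96922 : N5382 = N2166 := eqc rfl L96921 rfl
theorem L96923 : sm ga N2166 = N3560 := trf L96922 L35027 rfl
theorem L96924 : N3560 = N2168 := eqe L96923 L18834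
theorem L96925 : N3560 = N2168 := eqc rfl L96924 rfl
theorem L96930 : sm gd N2166 = N7520 := trf L96922 L46484 rfl
theorem L96931 : N7520 = N2463 := eqe L96930 L20332
theorem L96932 : N7520 = N2463 := eqc rfl L96931 rfl
theorem L96943 : sm ge N2463 = N4659 := trf L96932 L46485 rfl
theorem L96944 : N4659 = N2039 := eqe L96943 L20333
theorem L96945 : N4659 = N2039 := eqc rfl L96944 rfl
theorem L96959 : sm gg N2039 = N7553 := trf L96945 L46631 rfl
theorem L96960 : N7553 = N1035 := eqe L96959 L10417
theorem L96961 : N7553 = N1035 := eqc rfl L96960 rfl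
theorem L96966 : sm gf N1035 = N7550 := trf L96961 L46637 rfl
theorem L96967 : N7550 = N503 := eqe L96966 L5126
theorem L96968 : N7550 = N503 := eqc rfl L96967 rfl
theorem L96974 : sm gg N503 = N4658 := trf L96968 L46620 rfl
theorem L96975 : N4658 = N1036 := eqe L96974 L5129
theorem L96976 : N4658 = N1036 := eqc rfl L96975 rfl
theorem L96979 : sm gc N1036 = N7549 := trf L96976 L46615 rfl
theorem L96980 : N7549 = N2035 := eqe L96979 L10397
theorem L96981 : N7549 = N2035 := eqc rfl L96980 rfl
theorem L96990 : sm gf N2035 = N4660 := trf L96981 L46617 rfl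
theorem L96991 : N4660 = N2329 := eqe L96990 L19632
theorem L96992 : N4660 = N2329 := eqc rfl L96991 rfl
theorem L96994 : sm gb N2329 = N7505 := trf L96992 L46392 rfl
theorem L96995 : N7505 = N2972 := eqe L96994 L22837
theorem L96996 : N7505 = N2972 := eqc rfl L96995 rfl
theorem L97009 : sm gc N2972 = N4637 := trf L96996 L46390 rfl
theorem L97010 : N4637 = N4202 := eqe L97009 L29156
theorem L97011 : N4637 = N3446 := eqc rfl L97010 L85442
theorem L97018 : sm gf N3446 = N3697 := trf L97011 L46378 L82676
theorem L97019 : N3697 = N5135 := eqe L97018 L33881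
theorem L97020 : N3697 = N3446 := eqc rfl L97019 L85481
theorem L97027 : sm ge N3446 = N4811 := trf L97020 L32284 rfl
theorem L97028 : N4811 = N4568 := eqe L97027 L30981
theorem L97029 : N4811 = N4201 := eqc rfl L97028 L85432
theorem L97035 : sm ga N4201 = N5680 := trf L97029 L50051 rfl
theorem L97036 : N5680 = N2972 := eqe L97035 L29153
theorem L97037 : N5680 = N2972 := eqc rfl L97036 rfl
theorem L97049 : sm gg N4201 = N3277 := trf L97029 L32282 rfl
theorem L97050 : N3277 = N6659 := eqe L97049 L41591
theorem L97051 : N5440 = N3277 := (eqc rfl L97050 L85409).symm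
theorem L97052 : sm ga N3277 = N4199 := trf L97051 L54794 L74944
theorem L97053 : N4199 = N3695 := eqe L97052 L50135
theorem L97054 : N4199 = N3695 := eqc rfl L97053 rfl
theorem L97056 : sm gc N3277 = N3586 := trf L97051 L35287 rfl
theorem L97057 : N3586 = N3694 := eqe L97056 L50137
theorem L97058 : N3694 = N3586 := (eqc rfl L97057 rfl).symm
theorem L97063 : N4669 = N3695 := L85475.trans L97054
theorem L97064 : sm gf N3277 = N3695 := trf L97051 L35307 L97063
theorem L97065 : N3695 = N4810 := eqe L97064 L32277
theorem L97066 : N4810 = N3695 := (eqc rfl L97065 rfl).symm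
theorem L97070 : N6659 = N3277 := L85409.trans L97051
theorem L97071 : sm ga N3695 = N5679 := trf L97066 L50081 rfl
theorem L97072 : N5679 = N3277 := eqe L97071 L50136
theorem L97073 : N5679 = N3277 := eqc rfl L97072 rfl
theorem L97083 : sm ge N3695 = N3696 := trf L97066 L32279 rfl
theorem L97084 : N3696 = N3694 := eqe L97083 L50102
theorem L97085 : N3696 = N3586 := eqc rfl L97084 L97058
theorem L97088 : sm gg N3695 = N7465 := trf L97066 L46205 rfl
theorem L97089 : N7465 = N5680 := eqe L97088 L36390
theorem L97090 : N7465 = N2972 := eqc rfl L97089 L97037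
theorem L97098 : sm gf N2972 = N2972 := trf L97090 L50058 L97037
theorem L97099 : N2972 = N4203 := eqe L97098 L29160
theorem L97100 : N4203 = N2972 := (eqc rfl L97099 rfl).symm
theorem L97105 : sm gd N2972 = N2985 := trf L97100 L29162 rfl
theorem L97106 : N2985 = N2335 := eqe L97105 L22839
theorem L97107 : N2985 = N2335 := eqc rfl L97106 rfl
theorem L97108 : N6635 = N4189 := L82460.trans L96098
theorem L97110 : sm gf N2972 = N2972 := trf L97100 L29161 rfl
theorem L97113 : sm ga N2335 = N4230 := trf L97107 L29271 rfl
theorem L97114 : N4230 = N2984 := eqe L97113 L22885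
theorem L97115 : N4230 = N2984 := eqc rfl L97114 rfl
theorem L97117 : sm gc N2335 = N4143 := trf L97107 L28879 rfl
theorem L97118 : N4143 = N2943 := eqe L97117 L22706
theorem L97119 : N4143 = N2943 := eqc rfl L97118 rfl
theorem L97121 : sm gf N2335 = N2335 := trf L97107 L22888 rfl
theorem L97123 : sm ga N2943 = N6542 := trf L97119 L41049 rfl
theorem L97124 : N6542 = N4142 := eqe L97123 L28870
theorem L97125 : N6542 = N4142 := eqc rfl L97124 rfl
theorem L97128 : sm gf N2943 = N2943 := trf L97119 L28877 rfl
theorem L97129 : sm gg N2943 = N6543 := trf L97119 L41056 rfl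
theorem L97130 : N6543 = N4140 := eqe L97129 L28861
theorem L97131 : N6543 = N4140 := eqc rfl L97130 rfl
theorem L97132 : sm ga N4140 = N6539 := trf L97131 L41058 rfl
theorem L97133 : N6539 = N6538 := eqe L97132 L41024
theorem L97134 : N6539 = N6538 := eqc rfl L97133 rfl
theorem L97137 : sm gd N4140 = N10842 := trf L97131 L64850 rfl
theorem L97138 : N10842 = N6514 := eqe L97137 L40900
theorem L97139 : N10842 = N6514 := eqc rfl L97138 rfl
theorem L97143 : sm ga N6514 = N10836 := trf L97139 L64847 rfl
theorem L97144 : N10836 = N10834 := eqe L97143 L64808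
theorem L97145 : N10836 = N10834 := eqc rfl L97144 rfl
theorem L97150 : sm gf N10834 = N6514 := trf L97145 L64819 rfl
theorem L97162 : sm gf N6538 = N4140 := trf L97134 L41033 rfl
theorem L97163 : sm gf N4140 = N6538 := flp_f L97162
theorem L97176 : N6541 = N3837 := L94114.trans L94242
theorem L97180 : sm gf N4142 = N4142 := trf L97125 L41047 rfl
theorem L97183 : sm gb N2984 = N6723 := trf L97115 L41858 rfl
theorem L97184 : sm gb N6723 = N2984 := flp_b L97183
theorem L97186 : sm gf N2984 = N2984 := trf L97115 L29269 rfl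
theorem L97221 : sm gd N3586 = N5555 := trf L97085 L35833 rfl
theorem L97222 : N5555 = N5396 := eqe L97221 L35089
theorem L97223 : N5555 = N5396 := eqc rfl L97222 rfl
theorem L97226 : sm ga N5396 = N5354 := trf L97223 L82717 rfl
theorem L97227 : N5354 = N8370 := eqe L97226 L85484
theorem L97228 : N8370 = N5354 := (eqc rfl L97227 rfl).symm
theorem L97232 : sm gc N5396 = N9222 := trf L97223 L55967 rfl
theorem L97233 : N9222 = N8920 := eqe L97232 L54433
theorem L97234 : N9222 = N8920 := eqc rfl L97233 rfl
theorem L97235 : sm ge N5396 = N9080 := trf L97223 L55256 rfl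
theorem L97236 : N9080 = N8873 := eqe L97235 L54202
theorem L97237 : N9080 = N8873 := eqc rfl L97236 rfl
theorem L97238 : sm gf N5396 = N3640 := trf L97223 L35831 rfl
theorem L97239 : N3640 = N8370 := eqe L97238 L51685
theorem L97240 : N5354 = N3640 := (eqc rfl L97239 L97228).symm
theorem L97243 : N8921 = N5356 := L85493.trans L92036
theorem L97245 : sm gc N3640 = N8828 := trf L97240 L54015 rfl
theorem L97246 : N8828 = N5554 := eqe L97245 L35828
theorem L97247 : N8828 = N5554 := eqc rfl L97246 rfl
theorem L97249 : sm ge N3640 = N8799 := trf L97240 L53872 rfl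
theorem L97250 : N8799 = N5492 := eqe L97249 L35541
theorem L97251 : N8799 = N5492 := eqc rfl L97250 rfl
theorem L97256 : N5358 = N3548 := L91007.trans L94336
theorem L97258 : sm gd N5492 = N9927 := trf L97251 L60401 L92912
theorem L97259 : N9927 = N7690 := eqe L97258 L47403
theorem L97260 : N7690 = N6538 := L93089.trans L97134
theorem L97261 : N9927 = N6538 := eqc rfl L97259 L97260
theorem L97264 : N8803 = N5344 := L90994.trans L94319
theorem L97265 : N9081 = N5344 := L82679.trans L97264
theorem L97276 : sm gg N6538 = N5961 := trf L97261 L59591 rfl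
theorem L97277 : N5961 = N4142 := eqe L97276 L41030
theorem L97278 : N5961 = N4142 := eqc rfl L97277 rfl
theorem L97285 : sm gd N4142 = N5344 := trf L97278 L53896 L97264
theorem L97286 : N5344 = N6516 := eqe L97285 L40914
theorem L97287 : N6516 = N5344 := (eqc rfl L97286 rfl).symm
theorem L97288 : sm ge N4142 = N7323 := trf L97278 L49371 L90850
theorem L97289 : N7323 = N2984 := eqe L97288 L28874
theorem L97290 : N7323 = N2984 := eqc rfl L97289 rfl
theorem L97291 : sm gf N4142 = N6054 := trf L97278 L50560 rfl
theorem L97292 : N6054 = N4142 := eqe L97291 L97180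
theorem L97293 : N6054 = N4142 := eqc rfl L97292 rfl
theorem L97294 : sm ga N4142 = N10087 := trf L97293 L60412 rfl
theorem L97295 : N10087 = N2943 := eqe L97294 L28871
theorem L97296 : N10087 = N2943 := eqc rfl L97295 rfl
theorem L97306 : sm gc N2943 = N10979 := trf L97296 L65598 rfl
theorem L97307 : N10979 = N2335 := eqe L97306 L22705
theorem L97308 : N10979 = N2335 := eqc rfl L97307 rfl
theorem L97328 : sm gb N2335 = N6604 := trf L97308 L65593 rfl
theorem L97329 : N6604 = N1747 := eqe L97328 L19657
theorem L97330 : N6604 = N1747 := eqc rfl L97329 rfl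
theorem L97346 : sm gg N1747 = N4178 := trf L97330 L41338 rfl
theorem L97347 : N4178 = N887 := eqe L97346 L8896
theorem L97348 : N4178 = N887 := eqc rfl L97347 rfl
theorem L97364 : sm gf N887 = N6609 := trf L97348 L41352 rfl
theorem L97365 : N6609 = N429 := eqe L97364 L4406
theorem L97366 : N6609 = N429 := eqc rfl L97365 rfl
theorem L97379 : sm gg N429 = N6606 := trf L97366 L41357 rfl
theorem L97380 : N6606 = N888 := eqe L97379 L4409
theorem L97381 : N6606 = N888 := eqc rfl L97380 rfl
theorem L97389 : sm ge N888 = N10787 := trf L97381 L64515 rfl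
theorem L97390 : N10787 = N1714 := eqe L97389 L8738
theorem L97391 : N10787 = N1714 := eqc rfl L97390 rfl
theorem L97396 : sm gb N1714 = N4908 := trf L97391 L65037 L82603
theorem L97397 : N4908 = N2313 := eqe L97396 L19540
theorem L97398 : N4908 = N2313 := eqc rfl L97397 rfl
theorem L97409 : sm gd N2313 = N5958 := trf L97398 L37664 rfl
theorem L97410 : N5958 = N2938 := eqe L97409 L22677
theorem L97411 : N5958 = N2938 := eqc rfl L97410 rfl
theorem L97416 : sm gg N2313 = N8016 := trf L97398 L49238 rfl
theorem L97417 : N8016 = N2932 := eqe L97416 L22638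
theorem L97418 : N8016 = N2432 := eqc rfl L97417 L91181
theorem L97425 : sm gd N2432 = N9869 := trf L97418 L59259 rfl
theorem L97426 : N9869 = N2143 := eqe L97425 L20170
theorem L97427 : N9869 = N2143 := eqc rfl L97426 rfl
theorem L97437 : sm gg N2143 = N2938 := trf L97427 L59256 L97411
theorem L97438 : N2938 = N2602 := eqe L97437 L21042
theorem L97439 : N2938 = N2602 := eqc rfl L97438 rfl
theorem L97451 : sm gg N2602 = N4114 := trf L97439 L28713 rfl
theorem L97452 : N4114 = N2143 := eqe L97451 L21043
theorem L97453 : N4114 = N2143 := eqc rfl L97452 rfl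
theorem L97462 : sm gf N2143 = N3624 := trf L97453 L85839 rfl
theorem L97463 : N3624 = N2601 := eqe L97462 L21036
theorem L97464 : N3624 = N2601 := eqc rfl L97463 rfl
theorem L97466 : sm gb N2601 = N3412 := trf L97464 L26277 rfl
theorem L97467 : N3412 = N3517 := eqe L97466 L25799
theorem L97468 : N3517 = N3412 := (eqc rfl L97467 rfl).symm
theorem L97472 : N4742 = N3181 := L85694.trans L91199
theorem L97475 : sm gg N2601 = N2652 := trf L97464 L26274 rfl
theorem L97476 : N2652 = N2624 := eqe L97475 L21151
theorem L97477 : N2652 = N2624 := eqc rfl L97476 rfl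
theorem L97481 : sm gc N2624 = N3623 := trf L97477 L26267 rfl
theorem L97482 : N3623 = N3544 := eqe L97481 L25928
theorem L97483 : N3623 = N3415 := eqc rfl L97482 L92690
theorem L97497 : sm gf N3415 = N5512 := trf L97483 L35645 rfl
theorem L97498 : N5512 = N2550 := eqe L97497 L25338
theorem L97499 : N5512 = N2550 := eqc rfl L97498 rfl
theorem L97514 : sm gg N2550 = N9127 := trf L97499 L55497 rfl
theorem L97515 : N9127 = N3387 := eqe L97514 L25226
theorem L97516 : N9127 = N2149 := eqc rfl L97515 L94287
theorem L97523 : sm gf N2149 = N9138 := trf L97516 L55558 rfl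
theorem L97524 : N9138 = N2615 := eqe L97523 L21096
theorem L97525 : N9138 = N2615 := eqc rfl L97524 rfl
theorem L97531 : sm gg N2615 = N5516 := trf L97525 L55550 rfl
theorem L97532 : N5516 = N3542 := eqe L97531 L25911
theorem L97533 : N5516 = N3542 := eqc rfl L97532 rfl
theorem L97540 : sm ge N3542 = N3663 := trf L97533 L35662 rfl
theorem L97541 : N3663 = N2618 := eqe L97540 L25915
theorem L97542 : N3663 = N2618 := eqc rfl L97541 rfl
theorem L97547 : sm gb N2618 = N5606 := trf L97542 L36054 rfl
theorem L97548 : N5606 = N3548 := eqe L97547 L25941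
theorem L97549 : N5606 = N3548 := eqc rfl L97548 rfl
theorem L97553 : sm gf N2618 = N5595 := trf L97542 L36011 rfl
theorem L97554 : N5595 = N2600 := eqe L97553 L21115
theorem L97555 : N5595 = N2554 := eqc rfl L97554 L94309
theorem L97566 : sm gg N2554 = N5614 := trf L97555 L36095 rfl
theorem L97567 : N5614 = N3393 := eqe L97566 L25258
theorem L97568 : N5614 = N2142 := eqc rfl L97567 L94296
theorem L97574 : sm gd N2142 = N2546 := trf L97568 L78177 L85747
theorem L97575 : N2546 = N2024 := eqe L97574 L18718
theorem L97576 : N2546 = N2024 := eqc rfl L97575 rfl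
theorem L97578 : sm gf N2142 = N3666 := trf L97568 L36089 rfl
theorem L97579 : N3666 = N2599 := eqe L97578 L21020
theorem L97580 : N3666 = N2599 := eqc rfl L97579 rfl
theorem L97585 : sm gd N2599 = N5612 := trf L97580 L36081 rfl
theorem L97586 : N5612 = N2439 := eqe L97585 L21026
theorem L97587 : N5612 = N2439 := eqc rfl L97586 rfl
theorem L97593 : sm gb N2439 = N9342 := trf L97587 L56520 rfl
theorem L97639 : sm gf N2024 = N2565 := trf L97576 L20874 rfl
theorem L97640 : N2565 = N2439 := eqe L97639 L20200
theorem L97641 : N2565 = N2439 := eqc rfl L97640 rfl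
theorem L97646 : sm gb N2439 = N3447 := trf L97641 L25467 rfl
theorem L97647 : N3447 = N9342 := eqe L97646 L97593
theorem L97648 : N9342 = N3447 := (eqc rfl L97647 rfl).symm
theorem L97665 : sm gg N3447 = N2115 := trf L97648 L56524 L95050
theorem L97666 : N2115 = N3707 := eqe L97665 L26620
theorem L97667 : N3707 = N2115 := (eqc rfl L97666 rfl).symm
theorem L97684 : sm gg N2115 = N3447 := trf L97667 L26619 rfl
theorem L97685 : N3447 = N2106 := eqe L97684 L18601
theorem L97686 : N3447 = N2106 := eqc rfl L97685 rfl
theorem L97697 : sm gf N2106 = N5143 := trf L97686 L33906 rfl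
theorem L97698 : N5143 = N1136 := eqe L97697 L18562
theorem L97699 : N5143 = N1136 := eqc rfl L97698 rfl
theorem L97715 : sm gg N1136 = N8452 := trf L97699 L52087 rfl
theorem L97716 : N8452 = N2107 := eqe L97715 L18565
theorem L97717 : N8452 = N2107 := eqc rfl L97716 rfl
theorem L97719 : sm gb N2107 = N8437 := trf L97717 L52093 rfl
theorem L97720 : N8437 = N2531 := eqe L97719 L20730
theorem L97721 : N8437 = N2348 := eqc rfl L97720 L95191
theorem L97728 : sm gg N2348 = N5774 := trf L97721 L52011 rfl
theorem L97729 : N5774 = N3009 := eqe L97728 L23031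
theorem L97730 : N5774 = N2137 := eqc rfl L97729 L93648
theorem L97740 : sm ge N2137 = N6796 := trf L97730 L82329 rfl
theorem L97741 : N6796 = N2427 := eqe L97740 L20147
theorem L97742 : N6796 = N2427 := eqc rfl L97741 rfl
theorem L97757 : sm gg N2427 = N2271 := trf L97742 L67150 L86984
theorem L97758 : N2271 = N3169 := eqe L97757 L23851
theorem L97759 : N3169 = N2271 := (eqc rfl L97758 rfl).symm
theorem L97769 : sm gf N2271 = N3178 := trf L97759 L23903 rfl
theorem L97770 : N3178 = N2474 := eqe L97769 L71316
theorem L97771 : N3178 = N2474 := eqc rfl L97770 rfl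
theorem L97776 : sm gb N2474 = N4597 := trf L97771 L31156 rfl
theorem L97777 : N4597 = N2042 := eqe L97776 L20382
theorem L97778 : N4597 = N2042 := eqc rfl L97777 rfl
theorem L97782 : sm gg N2474 = N2430 := trf L97771 L23900 rfl
theorem L97783 : N2430 = N2957 := eqe L97782 L71336
theorem L97784 : N2957 = N2430 := (eqc rfl L97783 rfl).symm
theorem L97789 : sm gd N2430 = N2325 := trf L97784 L22771 rfl
theorem L97790 : sm gd N2325 = N2430 := flp_d L97789
theorem L97794 : sm gg N2430 = N2474 := trf L97784 L71335 rfl
theorem L97795 : sm gg N2474 = N2430 := flp_g L97794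
theorem L97798 : sm gd N2042 = N6439 := trf L97778 L45900 L80849
theorem L97799 : N6439 = N2466 := eqe L97798 L20356
theorem L97800 : N6439 = N2466 := eqc rfl L97799 rfl
theorem L97819 : sm gf N2466 = N10700 := trf L97800 L64040 rfl
theorem L97820 : N10700 = N3203 := eqe L97819 L24052
theorem L97821 : N10700 = N3203 := eqc rfl L97820 rfl
theorem L97826 : sm gg N3203 = N6620 := trf L97821 L64047 rfl
theorem L97827 : N6620 = N3254 := eqe L97826 L24440
theorem L97828 : N6620 = N3254 := eqc rfl L97827 rfl
theorem L97840 : sm ge N3254 = N10797 := trf L97828 L64579 rfl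
theorem L97841 : N10797 = N4729 := eqe L97840 L31872
theorem L97842 : N10797 = N4416 := eqc rfl L97841 L90091
theorem L97850 : sm gb N4416 = N6498 := trf L97842 L64577 rfl
theorem L97851 : N6498 = N7068 := eqe L97850 L43940
theorem L97852 : N6498 = N3608 := eqc rfl L97851 L74782
theorem L97860 : sm ge N3608 = N4183 := trf L97852 L40814 rfl
theorem L97861 : N4183 = N5484 := eqe L97860 L35496
theorem L97862 : N4513 = N4183 := (eqc rfl L97861 L90335).symm
theorem L97866 : sm gg N3608 = N10799 := trf L97852 L64586 rfl
theorem L97867 : N10799 = N4507 := eqe L97866 L90353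
theorem L97868 : N10799 = N4507 := eqc rfl L97867 rfl
theorem L97875 : sm gf N4507 = N10796 := trf L97868 L64592 rfl
theorem L97876 : N10796 = N3142 := eqe L97875 L30658
theorem L97877 : N10796 = N3142 := eqc rfl L97876 rfl
theorem L97890 : sm gg N3142 = N6497 := trf L97877 L64569 rfl
theorem L97891 : N6497 = N4534 := eqe L97890 L30800
theorem L97892 : N6497 = N4534 := eqc rfl L97891 rfl
theorem L97898 : sm gc N4534 = N10795 := trf L97892 L64558 rfl
theorem L97899 : N10795 = N7294 := eqe L97898 L45196
theorem L97900 : N10795 = N7294 := eqc rfl L97899 rfl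
theorem L97905 : N7295 = N4122 := L90331.trans L90398
theorem L97906 : sm gb N7294 = N7282 := trf L97900 L64564 rfl
theorem L97907 : sm gb N7282 = N7294 := flp_b L97906
theorem L97908 : sm ge N7294 = N6618 := trf L97900 L64560 rfl
theorem L97909 : N6618 = N4542 := eqe L97908 L45197
theorem L97910 : N6618 = N4542 := eqc rfl L97909 rfl
theorem L97911 : sm gf N7294 = N6499 := trf L97900 L64562 rfl
theorem L97912 : sm gf N6499 = N7294 := flp_f L97911
theorem L97914 : sm ga N4542 = N10995 := trf L97910 L65679 rfl
theorem L97915 : N10995 = N7308 := eqe L97914 L45276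
theorem L97916 : N10995 = N7308 := eqc rfl L97915 rfl
theorem L97917 : sm gb N4542 = N3687 := trf L97910 L41392 L90694
theorem L97918 : N3687 = N7313 := eqe L97917 L45295
theorem L97919 : N7313 = N3687 := (eqc rfl L97918 rfl).symm
theorem L97921 : sm gd N4542 = N10996 := trf L97910 L65682 rfl
theorem L97922 : N10996 = N6757 := eqe L97921 L84421
theorem L97923 : N10996 = N6757 := eqc rfl L97922 rfl
theorem L97924 : sm gf N4542 = N4184 := trf L97910 L41390 rfl
theorem L97925 : N4184 = N6755 := eqe L97924 L84416
theorem L97926 : N6755 = N4184 := (eqc rfl L97925 rfl).symm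
theorem L97927 : sm gg N4542 = N10997 := trf L97910 L65688 rfl
theorem L97928 : N10997 = N3145 := eqe L97927 L30845
theorem L97929 : N10997 = N3145 := eqc rfl L97928 rfl
theorem L97936 : sm gf N3145 = N11003 := trf L97929 L65729 rfl
theorem L97937 : N11003 = N4512 := eqe L97936 L30695
theorem L97938 : N11003 = N4512 := eqc rfl L97937 rfl
theorem L97942 : sm gg N4512 = N6621 := trf L97938 L65723 rfl
theorem L97943 : N6621 = N7248 := eqe L97942 L44935
theorem L97944 : N7248 = N6621 := (eqc rfl L97943 rfl).symm
theorem L97950 : sm gd N6621 = N6751 := trf L97944 L84599 rfl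
theorem L97951 : N6751 = N11002 := eqe L97950 L65718
theorem L97952 : N11002 = N6751 := (eqc rfl L97951 rfl).symm
theorem L97953 : sm ge N6621 = N11748 := trf L97944 L84601 rfl
theorem L97954 : N11748 = N10798 := eqe L97953 L64585
theorem L97955 : N11748 = N10798 := eqc rfl L97954 rfl
theorem L97958 : sm gg N6621 = N4512 := trf L97944 L44936 rfl
theorem L97962 : sm gg N10798 = N7077 := trf L97955 L69971 L90346
theorem L97963 : sm gg N7077 = N10798 := flp_g L97962
theorem L97964 : N10798 = N4419 := eqe L97963 L43999
theorem L97965 : N10798 = N4419 := eqc rfl L97964 rfl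
theorem L97966 : sm ga N4419 = N6499 := trf L97965 L64582 rfl
theorem L97967 : N6499 = N7074 := eqe L97966 L43986
theorem L97968 : N7074 = N6499 := (eqc rfl L97967 rfl).symm
theorem L97974 : sm ge N4419 = N6621 := trf L97965 L64584 rfl
theorem L97975 : N6621 = N6333 := eqe L97974 L39951
theorem L97976 : N6621 = N6333 := eqc rfl L97975 rfl
theorem L97984 : N6432 = N4183 := L90085.trans L90389
theorem L97985 : sm gd N6333 = N6751 := trf L97976 L65718 L97952
theorem L97986 : N6751 = N10521 := eqe L97985 L62954
theorem L97987 : N10521 = N6751 := (eqc rfl L97986 rfl).symm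
theorem L97988 : sm gf N6333 = N7308 := trf L97976 L65681 L97916
theorem L97989 : N7308 = N10522 := eqe L97988 L62958
theorem L97990 : N10522 = N7308 := (eqc rfl L97989 rfl).symm
theorem L97991 : sm gg N6333 = N4512 := trf L97976 L97958 rfl
theorem L97992 : N4512 = N10523 := eqe L97991 L62962
theorem L97993 : N10523 = N4512 := (eqc rfl L97992 rfl).symm
theorem L97996 : sm gb N4512 = N7019 := trf L97993 L62966 rfl
theorem L97997 : N7019 = N7231 := eqe L97996 L44846
theorem L97998 : N7019 = N4454 := eqc rfl L97997 L75109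
theorem L98002 : sm gg N4512 = N6333 := trf L97993 L62963 rfl
theorem L98003 : sm gg N6333 = N4512 := flp_g L98002
theorem L98007 : sm gc N4454 = N4386 := trf L97998 L43641 rfl
theorem L98008 : sm gc N4386 = N4454 := flp_c L98007
theorem L98018 : sm gg N4454 = N10506 := trf L97998 L62858 rfl
theorem L98019 : N10506 = N4396 := eqe L98018 L30339
theorem L98020 : N10506 = N4396 := eqc rfl L98019 rfl
theorem L98021 : sm ga N4396 = N7000 := trf L98020 L62857 rfl
theorem L98022 : N7000 = N4456 := eqe L98021 L30349
theorem L98023 : N7000 = N4456 := eqc rfl L98022 rfl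
theorem L98024 : sm gb N4396 = N6324 := trf L98020 L62849 rfl
theorem L98025 : N6324 = N7037 := eqe L98024 L43738
theorem L98026 : N7037 = N6324 := (eqc rfl L98025 rfl).symm
theorem L98028 : sm ge N4396 = N7080 := trf L98020 L62850 rfl
theorem L98029 : N7080 = N4442 := eqe L98028 L30277
theorem L98030 : N7080 = N4442 := eqc rfl L98029 rfl
theorem L98032 : sm ga N4442 = N11395 := trf L98030 L68038 rfl
theorem L98033 : N11395 = N4441 := eqe L98032 L30274
theorem L98034 : N11395 = N4441 := eqc rfl L98033 rfl
theorem L98035 : sm gb N4442 = N4421 := trf L98030 L44013 rfl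
theorem L98036 : N4421 = N7118 := eqe L98035 L44218
theorem L98037 : N7118 = N4421 := (eqc rfl L98036 rfl).symm
theorem L98040 : sm gd N4442 = N11698 := trf L98030 L69648 rfl
theorem L98041 : N11698 = N7116 := eqe L98040 L44213
theorem L98042 : N11698 = N7116 := eqc rfl L98041 rfl
theorem L98043 : sm gf N4442 = N10427 := trf L98030 L62399 rfl
theorem L98044 : N10427 = N3092 := eqe L98043 L30273
theorem L98045 : N10427 = N3092 := eqc rfl L98044 rfl
theorem L98054 : sm gg N3092 = N11413 := trf L98045 L68157 rfl
theorem L98055 : N11413 = N2387 := eqe L98054 L23414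
theorem L98056 : N11413 = N2387 := eqc rfl L98055 rfl
theorem L98064 : sm gf N2387 = N6872 := trf L98056 L68150 rfl
theorem L98065 : N6872 = N3091 := eqe L98064 L23411
theorem L98066 : N6872 = N3091 := eqc rfl L98065 rfl
theorem L98068 : sm gb N3091 = N11409 := trf L98066 L68128 rfl
theorem L98069 : N11409 = N4245 := eqe L98068 L29323
theorem L98070 : N11409 = N4245 := eqc rfl L98069 rfl
theorem L98079 : sm ge N4245 = N7016 := trf L98070 L68125 rfl
theorem L98080 : N7016 = N4455 := eqe L98079 L30343
theorem L98081 : N7016 = N4455 := eqc rfl L98080 rfl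
theorem L98086 : sm gc N4455 = N4385 := trf L98081 L43617 rfl
theorem L98087 : N4385 = N4461 := eqe L98086 L30375
theorem L98088 : N4409 = N4385 := (eqc rfl L98087 L75583).symm
theorem L98089 : sm gd N4455 = N11597 := trf L98081 L69081 rfl
theorem L98090 : N11597 = N7136 := eqe L98089 L44313
theorem L98091 : N11597 = N6126 := eqc rfl L98090 L74052
theorem L98095 : sm gg N4455 = N11587 := trf L98081 L69042 rfl
theorem L98096 : N11587 = N7144 := eqe L98095 L44350
theorem L98097 : N11587 = N7144 := eqc rfl L98096 rfl
theorem L98098 : sm gc N7144 = N7011 := trf L98097 L69040 rfl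
theorem L98099 : N7011 = N7156 := eqe L98098 L44417
theorem L98100 : N7056 = N7011 := (eqc rfl L98099 L75571).symm
theorem L98101 : sm ga N7011 = N7086 := trf L98100 L44037 rfl
theorem L98102 : N7086 = N11586 := eqe L98101 L69035
theorem L98103 : N11586 = N7086 := (eqc rfl L98102 rfl).symm
theorem L98107 : sm gd N7011 = N4410 := trf L98100 L43850 rfl
theorem L98108 : N4410 = N6879 := eqe L98107 L73000
theorem L98109 : N6879 = N4410 := (eqc rfl L98108 rfl).symm
theorem L98110 : sm ge N7011 = N7397 := trf L98100 L69474 L75630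
theorem L98111 : N7397 = N11401 := eqe L98110 L68074
theorem L98112 : N11401 = N7397 := (eqc rfl L98111 rfl).symm
theorem L98113 : sm gf N7011 = N7079 := trf L98100 L44011 rfl
theorem L98114 : N7079 = N11588 := eqe L98113 L69043
theorem L98115 : N11588 = N7079 := (eqc rfl L98114 rfl).symm
theorem L98123 : sm gf N7079 = N7011 := trf L98115 L69044 rfl
theorem L98124 : sm gf N7011 = N7079 := flp_f L98123
theorem L98125 : sm gg N7079 = N11596 := trf L98115 L69075 rfl
theorem L98126 : N11596 = N4420 := eqe L98125 L44005
theorem L98127 : N11596 = N4420 := eqc rfl L98126 rfl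
theorem L98131 : sm gb N4420 = N10277 := trf L98127 L69078 rfl
theorem L98132 : N10277 = N7075 := eqe L98131 L43995
theorem L98133 : N10277 = N7075 := eqc rfl L98132 rfl
theorem L98134 : sm gf N4420 = N7015 := trf L98127 L69072 rfl
theorem L98135 : N7015 = N7053 := eqe L98134 L43837
theorem L98136 : N7053 = N7015 := (eqc rfl L98135 rfl).symm
theorem L98138 : sm gb N7015 = N11661 := trf L98136 L69440 rfl
theorem L98139 : N11661 = N11594 := eqe L98138 L69065
theorem L98140 : N11661 = N11594 := eqc rfl L98139 rfl
theorem L98143 : sm gd N7015 = N4408 := trf L98136 L43833 rfl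
theorem L98144 : N4408 = N11591 := eqe L98143 L69054
theorem L98145 : N11591 = N4408 := (eqc rfl L98144 rfl).symm
theorem L98146 : sm ge N7015 = N7310 := trf L98136 L84509 rfl
theorem L98147 : N7310 = N11408 := eqe L98146 L68122
theorem L98148 : N11408 = N7310 := (eqc rfl L98147 rfl).symm
theorem L98149 : sm gf N7015 = N4420 := trf L98136 L43836 rfl
theorem L98150 : sm gf N4420 = N7015 := flp_f L98149
theorem L98154 : sm ge N7310 = N7015 := trf L98148 L68121 rfl
theorem L98155 : sm ge N7015 = N7310 := flp_e L98154
theorem L98157 : sm gd N4408 = N7015 := trf L98145 L69053 rfl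
theorem L98158 : sm gd N7015 = N4408 := flp_d L98157
theorem L98159 : sm gd N11594 = N7052 := trf L98140 L69438 rfl
theorem L98161 : sm ga N7075 = N10275 := trf L98133 L61492 rfl
theorem L98162 : N10275 = N11688 := eqe L98161 L69590
theorem L98163 : N10275 = N7681 := eqc rfl L98162 L81337
theorem L98164 : sm gc N7075 = N4284 := trf L98133 L61494 L89042
theorem L98165 : N4284 = N7678 := eqe L98164 L81338
theorem L98166 : N7678 = N4284 := (eqc rfl L98165 rfl).symm
theorem L98167 : sm gf N7075 = N6181 := trf L98133 L61491 rfl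
theorem L98168 : N6181 = N6354 := eqe L98167 L80682
theorem L98169 : N6354 = N6181 := (eqc rfl L98168 rfl).symm
theorem L98177 : N10303 = N7075 := L75410.trans L98133
theorem L98178 : sm ga N6181 = N10439 := trf L98169 L82803 rfl
theorem L98179 : N10439 = N10269 := eqe L98178 L61457
theorem L98180 : N10439 = N10269 := eqc rfl L98179 rfl
theorem L98181 : sm gb N6181 = N4045 := trf L98169 L40071 rfl
theorem L98182 : N4045 = N10276 := eqe L98181 L61488
theorem L98183 : N10276 = N4045 := (eqc rfl L98182 rfl).symm
theorem L98187 : sm gd N6181 = N7076 := trf L98169 L80665 rfl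
theorem L98188 : N7076 = N10274 := eqe L98187 L61481
theorem L98189 : N10274 = N7076 := (eqc rfl L98188 rfl).symm
theorem L98190 : sm ge N6181 = N5972 := trf L98169 L40072 rfl
theorem L98191 : N5972 = N10193 := eqe L98190 L61025
theorem L98192 : N10193 = N5972 := (eqc rfl L98191 rfl).symm
theorem L98219 : sm ga N5972 = N6700 := trf L98192 L61020 rfl
theorem L98220 : N6700 = N9945 := eqe L98219 L59688
theorem L98221 : N9945 = N6700 := (eqc rfl L98220 rfl).symm
theorem L98224 : sm ge N5972 = N6181 := trf L98192 L61024 rfl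
theorem L98225 : sm ge N6181 = N5972 := flp_e L98224
theorem L98226 : sm gg N5972 = N6126 := trf L98192 L61019 rfl
theorem L98227 : sm gg N6126 = N5972 := flp_g L98226
theorem L98228 : sm ga N6700 = N5972 := trf L98221 L59689 rfl
theorem L98237 : sm gf N6700 = N9788 := trf L98221 L63956 L80741
theorem L98238 : N9788 = N7140 := eqe L98237 L74045
theorem L98239 : N9788 = N7140 := eqc rfl L98238 rfl
theorem L98243 : sm gc N7140 = N2372 := trf L98239 L58660 L93736
theorem L98244 : N2372 = N11814 := eqe L98243 L70317
theorem L98245 : N11814 = N6191 := L74032.trans L75468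
theorem L98246 : N6191 = N2372 := (eqc rfl L98244 L98245).symm
theorem L98256 : N10292 = N4726 := L75404.trans L93934
theorem L98257 : sm ge N2372 = N4726 := trf L98246 L61585 L98256
theorem L98258 : N4726 = N3017 := eqe L98257 L23088
theorem L98259 : N4726 = N3017 := eqc rfl L98258 rfl
theorem L98263 : sm gg N2372 = N3958 := trf L98246 L38833 rfl
theorem L98264 : N3958 = N3057 := eqe L98263 L23259
theorem L98265 : N3958 = N3057 := eqc rfl L98264 rfl
theorem L98269 : N6189 = N4367 := L75458.trans L88132
theorem L98275 : sm gf N3057 = N3927 := trf L98265 L75464 rfl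
theorem L98276 : N3927 = N4368 := eqe L98275 L29910
theorem L98277 : N4368 = N3927 := (eqc rfl L98276 rfl).symm
theorem L98288 : sm ge N3927 = N6839 := trf L98277 L42521 rfl
theorem L98289 : N6839 = N2835 := eqe L98288 L27729
theorem L98290 : N6839 = N2835 := eqc rfl L98289 rfl
theorem L98291 : sm gf N3927 = N3057 := trf L98277 L29911 rfl
theorem L98292 : sm gf N3057 = N3927 := flp_f L98291
theorem L98295 : sm ga N2835 = N6769 := trf L98290 L42518 rfl
theorem L98296 : N6769 = N3953 := eqe L98295 L27833
theorem L98297 : N6769 = N3953 := eqc rfl L98296 rfl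
theorem L98301 : sm gc N2835 = N11351 := trf L98290 L67778 rfl
theorem L98302 : N11351 = N3954 := eqe L98301 L27835
theorem L98303 : N11351 = N3954 := eqc rfl L98302 rfl
theorem L98308 : sm gg N2835 = N6767 := trf L98290 L42522 rfl
theorem L98309 : N6767 = N3956 := eqe L98308 L27839
theorem L98310 : N6767 = N3956 := eqc rfl L98309 rfl
theorem L98311 : sm ga N3956 = N4251 := trf L98310 L42051 rfl
theorem L98312 : N4251 = N6177 := eqe L98311 L38771
theorem L98313 : N6177 = N4251 := (eqc rfl L98312 rfl).symm
theorem L98316 : sm gc N3956 = N11246 := trf L98310 L67059 rfl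
theorem L98317 : N11246 = N6181 := eqe L98316 L38789
theorem L98318 : N11246 = N6181 := eqc rfl L98317 rfl
theorem L98319 : sm gd N3956 = N10452 := trf L98310 L62549 rfl
theorem L98320 : N10452 = N4418 := eqe L98319 L30155
theorem L98321 : N10452 = N4418 := eqc rfl L98320 rfl
theorem L98328 : N7067 = N4248 := L93907.trans L93937
theorem L98330 : sm gf N4418 = N6816 := trf L98321 L62552 rfl
theorem L98331 : N6816 = N6918 := eqe L98330 L43057
theorem L98332 : N6816 = N4724 := eqc rfl L98331 L90127
theorem L98346 : sm ge N4724 = N6266 := trf L98332 L42376 rfl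
theorem L98347 : N6266 = N3249 := eqe L98346 L31837
theorem L98348 : N6266 = N3249 := eqc rfl L98347 rfl
theorem L98360 : sm gf N3249 = N6332 := trf L98348 L60787 L93898
theorem L98361 : N6332 = N4404 := eqe L98360 L81178
theorem L98362 : N6332 = N4404 := eqc rfl L98361 rfl
theorem L98363 : sm gg N3249 = N3930 := trf L98348 L62232 L88239
theorem L98364 : N3930 = N4749 := eqe L98363 L31981
theorem L98365 : N4749 = N3930 := (eqc rfl L98364 rfl).symm
theorem L98374 : sm gf N3930 = N4406 := trf L98365 L81205 rfl
theorem L98375 : N4406 = N4215 := eqe L98374 L84767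
theorem L98376 : N4406 = N4215 := eqc rfl L98375 rfl
theorem L98379 : N7002 = N4030 := L71527.trans L90088
theorem L98386 : sm ge N4215 = N6760 := trf L98376 L42015 rfl
theorem L98387 : N6760 = N4415 := eqe L98386 L38759
theorem L98388 : N6760 = N4415 := eqc rfl L98387 rfl
theorem L98389 : sm gg N4215 = N3076 := trf L98376 L30095 rfl
theorem L98390 : sm gg N3076 = N4215 := flp_g L98389
theorem L98392 : sm gd N4415 = N10440 := trf L98388 L62469 rfl
theorem L98393 : N10440 = N3953 := eqe L98392 L30142
theorem L98394 : N10440 = N3953 := eqc rfl L98393 rfl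
theorem L98407 : sm gg N3953 = N6288 := trf L98394 L62467 rfl
theorem L98408 : N6288 = N6177 := eqe L98407 L38768
theorem L98409 : N6288 = N4251 := eqc rfl L98408 L98313
theorem L98410 : sm gb N4251 = N4007 := trf L98409 L39681 rfl
theorem L98411 : N4007 = N2999 := eqe L98410 L29347
theorem L98412 : N4007 = N2999 := eqc rfl L98411 rfl
theorem L98413 : sm gc N4251 = N10269 := trf L98409 L62462 L98180
theorem L98414 : N10269 = N6768 := eqe L98413 L42056
theorem L98415 : N10269 = N6768 := eqc rfl L98414 rfl
theorem L98424 : sm ge N6768 = N6700 := trf L98415 L61460 rfl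
theorem L98425 : N6700 = N4361 := eqe L98424 L42058
theorem L98426 : N6700 = N4361 := eqc rfl L98425 rfl
theorem L98427 : sm gf N6768 = N7681 := trf L98415 L61486 L98163
theorem L98428 : N7681 = N4285 := eqe L98427 L42060
theorem L98429 : N7681 = N4285 := eqc rfl L98428 rfl
theorem L98430 : sm gg N6768 = N6175 := trf L98415 L61455 rfl
theorem L98431 : N6175 = N11248 := eqe L98430 L67073
theorem L98432 : N11248 = N6175 := (eqc rfl L98431 rfl).symm
theorem L98438 : sm gf N6175 = N11347 := trf L98432 L67762 rfl
theorem L98439 : N11347 = N10268 := eqe L98438 L61434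
theorem L98440 : N11347 = N6197 := eqc rfl L98439 L75391
theorem L98441 : sm gg N6175 = N6768 := trf L98432 L67074 rfl
theorem L98442 : sm gg N6768 = N6175 := flp_g L98441
theorem L98449 : sm ge N6197 = N6975 := trf L98440 L67759 rfl
theorem L98450 : N6975 = N3961 := eqe L98449 L38857
theorem L98451 : N6975 = N3961 := eqc rfl L98450 rfl
theorem L98452 : sm gg N6197 = N6835 := trf L98440 L67754 rfl
theorem L98453 : N6835 = N10303 := eqe L98452 L61638
theorem L98454 : N7075 = N6835 := (eqc rfl L98453 L98177).symm
theorem L98457 : sm gb N6835 = N4420 := trf L98454 L43994 rfl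
theorem L98458 : N4420 = N11345 := eqe L98457 L67745
theorem L98459 : N11345 = N4420 := (eqc rfl L98458 rfl).symm
theorem L98461 : sm gd N6835 = N4419 := trf L98454 L43993 rfl
theorem L98462 : N4419 = N11346 := eqe L98461 L67749
theorem L98463 : N11346 = N4419 := (eqc rfl L98462 rfl).symm
theorem L98464 : sm ge N6835 = N7389 := trf L98454 L69611 L75647
theorem L98465 : N7389 = N4364 := eqe L98464 L42496
theorem L98466 : N7389 = N4364 := eqc rfl L98465 rfl
theorem L98472 : sm gb N4364 = N4579 := trf L98466 L45736 rfl
theorem L98473 : N4579 = N6973 := eqe L98472 L43349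
theorem L98474 : N6973 = N4579 := (eqc rfl L98473 rfl).symm
theorem L98476 : sm gf N4364 = N5972 := trf L98466 L45740 rfl
theorem L98477 : N5972 = N6967 := eqe L98476 L43320
theorem L98478 : N6967 = N5972 := (eqc rfl L98477 rfl).symm
theorem L98486 : sm gd N5972 = N11517 := trf L98478 L68683 rfl
theorem L98487 : N11517 = N9946 := eqe L98486 L59694
theorem L98488 : N11517 = N9946 := eqc rfl L98487 rfl
theorem L98490 : sm gf N5972 = N4364 := trf L98478 L43319 rfl
theorem L98491 : sm gf N4364 = N5972 := flp_f L98490
theorem L98493 : sm ga N9946 = N6968 := trf L98488 L68685 rfl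
theorem L98494 : sm ga N6968 = N9946 := flp_a L98493
theorem L98495 : sm gf N9946 = N6974 := trf L98488 L68687 rfl
theorem L98502 : sm gb N4579 = N4364 := trf L98474 L43350 rfl
theorem L98503 : sm gb N4364 = N4579 := flp_b L98502
theorem L98507 : sm gd N4579 = N11527 := trf L98474 L68743 rfl
theorem L98508 : N11527 = N7390 := eqe L98507 L45741
theorem L98509 : N11527 = N7390 := eqc rfl L98508 rfl
theorem L98518 : sm gb N7390 = N6974 := trf L98509 L68745 rfl
theorem L98519 : sm gb N6974 = N7390 := flp_b L98518
theorem L98521 : sm ga N4419 = N6837 := trf L98463 L67751 rfl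
theorem L98522 : N6837 = N7074 := eqe L98521 L43986
theorem L98523 : N6837 = N6499 := eqc rfl L98522 L97968
theorem L98524 : sm gd N4419 = N6835 := trf L98463 L67750 rfl
theorem L98525 : sm gd N6835 = N4419 := flp_d L98524
theorem L98526 : sm gb N6499 = N10800 := trf L98523 L64601 rfl
theorem L98527 : N10800 = N4285 := eqe L98526 L40820
theorem L98528 : N10800 = N4285 := eqc rfl L98527 rfl
theorem L98534 : sm ge N6499 = N11349 := trf L98523 L67765 rfl
theorem L98535 : N11349 = N4184 := eqe L98534 L40818
theorem L98536 : N11349 = N4184 := eqc rfl L98535 rfl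
theorem L98537 : sm gf N6499 = N11247 := trf L98523 L67072 rfl
theorem L98538 : N11247 = N7294 := eqe L98537 L97912
theorem L98539 : N11247 = N7294 := eqc rfl L98538 rfl
theorem L98540 : sm gg N6499 = N11350 := trf L98523 L67769 rfl
theorem L98541 : N11350 = N10419 := eqe L98540 L62335
theorem L98542 : N11350 = N10419 := eqc rfl L98541 rfl
theorem L98543 : sm gd N10419 = N6838 := trf L98542 L67771 rfl
theorem L98544 : sm gd N6838 = N10419 := flp_d L98543
theorem L98548 : sm gd N7294 = N6768 := trf L98539 L67068 rfl
theorem L98549 : sm gd N6768 = N7294 := flp_d L98548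
theorem L98552 : sm gd N4184 = N6977 := trf L98536 L67767 rfl
theorem L98553 : N6977 = N6623 := eqe L98552 L41408
theorem L98554 : N6977 = N6623 := eqc rfl L98553 rfl
theorem L98555 : sm ga N6623 = N11531 := trf L98554 L68760 rfl
theorem L98556 : N11531 = N11002 := eqe L98555 L65721
theorem L98557 : N11531 = N6751 := eqc rfl L98556 L97952
theorem L98566 : sm gf N6623 = N11519 := trf L98554 L68698 rfl
theorem L98567 : N11519 = N10996 := eqe L98566 L65687
theorem L98568 : N11519 = N6757 := eqc rfl L98567 L97923
theorem L98574 : sm gb N6757 = N8288 := trf L98568 L68695 rfl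
theorem L98575 : N8288 = N9999 := eqe L98574 L59965
theorem L98576 : N9999 = N8288 := (eqc rfl L98575 rfl).symm
theorem L98577 : sm ge N6757 = N6968 := trf L98568 L68694 rfl
theorem L98578 : N6968 = N7147 := eqe L98577 L44371
theorem L98579 : N7147 = N6968 := (eqc rfl L98578 rfl).symm
theorem L98580 : sm ga N6968 = N7144 := trf L98579 L44368 rfl
theorem L98581 : N7144 = N9946 := eqe L98580 L98494
theorem L98582 : N9946 = N7144 := (eqc rfl L98581 rfl).symm
theorem L98586 : sm gc N6968 = N7086 := trf L98579 L44425 L75633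
theorem L98587 : N7086 = N11518 := eqe L98586 L68689
theorem L98588 : N11518 = N7086 := (eqc rfl L98587 rfl).symm
theorem L98589 : sm ge N6968 = N6757 := trf L98579 L44370 rfl
theorem L98590 : sm ge N6757 = N6968 := flp_e L98589
theorem L98591 : sm gf N6968 = N4458 := trf L98579 L44367 rfl
theorem L98592 : N4458 = N4366 := eqe L98591 L43325
theorem L98593 : N4458 = N4366 := eqc rfl L98592 rfl
theorem L98594 : sm gg N6968 = N5913 := trf L98579 L44372 rfl
theorem L98595 : N5913 = N11520 := eqe L98594 L68699
theorem L98596 : N11520 = N5913 := (eqc rfl L98595 rfl).symm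
theorem L98603 : sm gf N5913 = N11532 := trf L98596 L68768 rfl
theorem L98604 : N11532 = N4457 := eqe L98603 L37479
theorem L98605 : N11532 = N4457 := eqc rfl L98604 rfl
theorem L98606 : sm gg N5913 = N6968 := trf L98596 L68700 rfl
theorem L98607 : sm gg N6968 = N5913 := flp_g L98606
theorem L98612 : sm gg N4457 = N6974 := trf L98605 L68762 rfl
theorem L98613 : N6974 = N7146 := eqe L98612 L44358
theorem L98614 : N7146 = N6974 := (eqc rfl L98613 rfl).symm
theorem L98616 : sm gb N6974 = N11822 := trf L98614 L70368 rfl
theorem L98617 : N11822 = N7390 := eqe L98616 L98519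
theorem L98618 : N11822 = N7390 := eqc rfl L98617 rfl
theorem L98619 : sm gc N6974 = N7079 := trf L98614 L44395 L75561
theorem L98620 : N7079 = N11530 := eqe L98619 L68751
theorem L98621 : N11530 = N7079 := (eqc rfl L98620 rfl).symm
theorem L98622 : sm gd N6974 = N6198 := trf L98614 L70307 L75564
theorem L98623 : N6198 = N4364 := eqe L98622 L43352
theorem L98624 : N6198 = N4364 := eqc rfl L98623 rfl
theorem L98629 : sm gg N6974 = N4457 := trf L98614 L44359 rfl
theorem L98630 : sm gg N4457 = N6974 := flp_g L98629
theorem L98633 : sm gb N4364 = N10304 := trf L98624 L61644 rfl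
theorem L98634 : N10304 = N4579 := eqe L98633 L98503
theorem L98635 : N10304 = N4579 := eqc rfl L98634 rfl
theorem L98637 : N10303 = N6835 := L98177.trans L98454
theorem L98643 : sm gg N4579 = N11761 := trf L98635 L70043 rfl
theorem L98644 : N11761 = N7392 := eqe L98643 L45755
theorem L98645 : N11761 = N7392 := eqc rfl L98644 rfl
theorem L98646 : sm gb N7392 = N7112 := trf L98645 L70039 rfl
theorem L98647 : sm gb N7112 = N7392 := flp_b L98646
theorem L98648 : sm gc N7392 = N11418 := trf L98645 L70040 rfl
theorem L98649 : N11418 = N6751 := eqe L98648 L45759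
theorem L98650 : N11418 = N6751 := eqc rfl L98649 rfl
theorem L98651 : sm gb N6751 = N6876 := trf L98650 L68182 rfl
theorem L98652 : N6876 = N11227 := eqe L98651 L66935
theorem L98653 : N11227 = N6876 := (eqc rfl L98652 rfl).symm
theorem L98656 : sm ge N6876 = N7390 := trf L98653 L70371 L98618
theorem L98657 : N7390 = N11417 := eqe L98656 L68180
theorem L98658 : N11417 = N7390 := (eqc rfl L98657 rfl).symm
theorem L98659 : sm gc N7390 = N6877 := trf L98658 L68177 rfl
theorem L98660 : sm gc N6877 = N7390 := flp_c L98659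
theorem L98661 : sm ge N7390 = N6876 := trf L98658 L68179 rfl
theorem L98662 : N6876 = N6334 := eqe L98661 L75658
theorem L98663 : N6876 = N6334 := eqc rfl L98662 rfl
theorem L98664 : sm gg N7390 = N6875 := trf L98658 L68176 rfl
theorem L98665 : sm gg N6875 = N7390 := flp_g L98664
theorem L98666 : sm ga N6334 = N8398 := trf L98663 L68098 L72929
theorem L98667 : N8398 = N4033 := eqe L98666 L39954
theorem L98668 : N8398 = N4033 := eqc rfl L98667 rfl
theorem L98671 : sm gc N6334 = N4303 := trf L98663 L42724 rfl
theorem L98672 : N4303 = N10524 := eqe L98671 L62968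
theorem L98673 : N10524 = N4303 := (eqc rfl L98672 rfl).symm
theorem L98674 : sm gd N6334 = N6998 := trf L98663 L68172 L71809
theorem L98675 : N6998 = N4031 := eqe L98674 L39953
theorem L98676 : N6998 = N4031 := eqc rfl L98675 rfl
theorem L98677 : sm gf N6334 = N6990 := trf L98663 L73305 rfl
theorem L98678 : N6990 = N10526 := eqe L98677 L62980
theorem L98679 : N10526 = N6990 := (eqc rfl L98678 rfl).symm
theorem L98680 : sm gg N6334 = N4301 := trf L98663 L42723 rfl
theorem L98681 : N4301 = N10507 := eqe L98680 L62865
theorem L98682 : N10507 = N4301 := (eqc rfl L98681 rfl).symm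
theorem L98683 : sm ga N4301 = N6325 := trf L98682 L62862 rfl
theorem L98684 : N6325 = N6867 := eqe L98683 L42675
theorem L98685 : N6867 = N6325 := (eqc rfl L98684 rfl).symm
theorem L98686 : sm gd N4301 = N6324 := trf L98682 L62861 rfl
theorem L98687 : N6324 = N6874 := eqe L98686 L42712
theorem L98688 : N6874 = N6324 := (eqc rfl L98687 rfl).symm
theorem L98689 : sm gf N4301 = N10533 := trf L98682 L63028 rfl
theorem L98690 : N10533 = N6821 := eqe L98689 L42411
theorem L98691 : N10533 = N3432 := eqc rfl L98690 L72898
theorem L98692 : sm gg N4301 = N6334 := trf L98682 L62864 rfl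
theorem L98693 : sm gg N6334 = N4301 := flp_g L98692
theorem L98700 : sm gg N3432 = N6339 := trf L98691 L63023 rfl
theorem L98701 : N6339 = N5108 := eqe L98700 L33772
theorem L98702 : N6339 = N5108 := eqc rfl L98701 rfl
theorem L98704 : sm gb N5108 = N4521 := trf L98702 L39984 rfl
theorem L98705 : N4521 = N8397 := eqe L98704 L51813
theorem L98706 : N8397 = N4521 := (eqc rfl L98705 rfl).symm
theorem L98707 : sm gc N5108 = N4559 := trf L98702 L84553 rfl
theorem L98708 : sm gc N4559 = N5108 := flp_c L98707
theorem L98711 : N8395 = N4034 := L73330.trans L89903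
theorem L98712 : sm ge N5108 = N4558 := trf L98702 L84555 rfl
theorem L98713 : N4558 = N7340 := eqe L98712 L45448
theorem L98714 : N7340 = N4558 := (eqc rfl L98713 rfl).symm
theorem L98717 : sm ga N4558 = N11387 := trf L98714 L67994 rfl
theorem L98718 : N11387 = N7341 := eqe L98717 L45452
theorem L98719 : N11387 = N7341 := eqc rfl L98718 rfl
theorem L98722 : sm ge N4558 = N5108 := trf L98714 L45447 rfl
theorem L98723 : sm ge N5108 = N4558 := flp_e L98722
theorem L98724 : sm gg N4558 = N4554 := trf L98714 L45446 rfl
theorem L98725 : N4554 = N7350 := eqe L98724 L45499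
theorem L98726 : N7350 = N4554 := (eqc rfl L98725 rfl).symm
theorem L98729 : N6864 = N4560 := L72904.trans L88832
theorem L98730 : sm gg N4554 = N4558 := trf L98726 L45500 rfl
theorem L98731 : sm gg N4558 = N4554 := flp_g L98730
theorem L98732 : sm gc N7341 = N6866 := trf L98719 L67995 rfl
theorem L98733 : N6866 = N4555 := eqe L98732 L45450
theorem L98734 : N6866 = N4555 := eqc rfl L98733 rfl
theorem L98735 : sm ge N7341 = N6990 := trf L98719 L67997 rfl
theorem L98736 : sm ge N6990 = N7341 := flp_e L98735
theorem L98737 : sm gg N7341 = N6857 := trf L98719 L67992 rfl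
theorem L98738 : sm gg N6857 = N7341 := flp_g L98737
theorem L98740 : sm gb N4555 = N7397 := trf L98734 L68071 L98112
theorem L98741 : N7397 = N7338 := eqe L98740 L45438
theorem L98742 : N7397 = N7338 := eqc rfl L98741 rfl
theorem L98744 : sm ge N4555 = N4382 := trf L98734 L42670 rfl
theorem L98745 : N4382 = N7342 := eqe L98744 L45455
theorem L98746 : N7342 = N4382 := (eqc rfl L98745 rfl).symm
theorem L98749 : sm gg N4555 = N4297 := trf L98734 L42669 rfl
theorem L98750 : N4297 = N7343 := eqe L98749 L45461
theorem L98751 : N7343 = N4297 := (eqc rfl L98750 rfl).symm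
theorem L98754 : sm gd N4297 = N4556 := trf L98751 L45465 rfl
theorem L98755 : sm gd N4556 = N4297 := flp_d L98754
theorem L98759 : sm gg N4297 = N4555 := trf L98751 L45462 rfl
theorem L98760 : sm gg N4555 = N4297 := flp_g L98759
theorem L98770 : N6868 = N5112 := L72864.trans L88749
theorem L98771 : sm ga N4382 = N4559 := trf L98746 L45457 rfl
theorem L98772 : sm ga N4559 = N4382 := flp_a L98771
theorem L98776 : sm ge N4382 = N4555 := trf L98746 L45456 rfl
theorem L98777 : sm ge N4555 = N4382 := flp_e L98776
theorem L98778 : sm ga N7338 = N7398 := trf L98742 L45794 rfl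
theorem L98779 : N7398 = N11386 := eqe L98778 L67988
theorem L98780 : N11386 = N7398 := (eqc rfl L98779 rfl).symm
theorem L98781 : sm gc N7338 = N6756 := trf L98742 L45785 rfl
theorem L98782 : sm gc N6756 = N7338 := flp_c L98781
theorem L98783 : N7156 = N7011 := L75571.trans L98100
theorem L98787 : N11401 = N7338 := L98112.trans L98742
theorem L98788 : sm gf N7338 = N7392 := trf L98742 L45790 rfl
theorem L98789 : sm gf N7392 = N7338 := flp_f L98788
theorem L98790 : sm gg N7338 = N4581 := trf L98742 L45784 rfl
theorem L98791 : sm gg N4581 = N7338 := flp_g L98790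
theorem L98792 : sm ga N7398 = N7338 := trf L98780 L67987 rfl
theorem L98793 : sm ga N7338 = N7398 := flp_a L98792
theorem L98794 : sm gb N7398 = N6858 := trf L98780 L67989 rfl
theorem L98795 : sm gb N6858 = N7398 := flp_b L98794
theorem L98796 : sm gd N7398 = N6857 := trf L98780 L67986 rfl
theorem L98797 : sm gd N6857 = N7398 := flp_d L98796
theorem L98798 : sm gb N4521 = N5108 := trf L98706 L51814 rfl
theorem L98799 : sm gb N5108 = N4521 := flp_b L98798
theorem L98800 : sm gg N4521 = N5112 := trf L98706 L51815 rfl
theorem L98801 : sm gg N5112 = N4521 := flp_g L98800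
theorem L98810 : N6983 = N6324 := L71794.trans L98688
theorem L98823 : sm gd N6324 = N4301 := trf L98688 L42713 rfl
theorem L98824 : sm gd N4301 = N6324 := flp_d L98823
theorem L98829 : sm ga N6325 = N4301 := trf L98685 L42674 rfl
theorem L98830 : sm ga N4301 = N6325 := flp_a L98829
theorem L98831 : sm gb N6325 = N7450 := trf L98685 L68085 L73275
theorem L98832 : N7450 = N4802 := eqe L98831 L39908
theorem L98833 : N7450 = N4802 := eqc rfl L98832 rfl
theorem L98834 : sm gc N6325 = N4298 := trf L98685 L42673 rfl
theorem L98835 : N4298 = N10508 := eqe L98834 L62866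
theorem L98836 : N10508 = N4298 := (eqc rfl L98835 rfl).symm
theorem L98838 : sm ge N6325 = N8735 := trf L98685 L73280 rfl
theorem L98839 : N8735 = N10509 := eqe L98838 L62870
theorem L98840 : N8735 = N7396 := eqc rfl L98839 L75620
theorem L98841 : sm gf N6325 = N4372 := trf L98685 L73293 rfl
theorem L98842 : sm gf N4372 = N6325 := flp_f L98841
theorem L98845 : sm ga N7396 = N6875 := trf L98840 L53513 L72870
theorem L98847 : sm gb N7396 = N3689 := trf L98840 L53508 L92554
theorem L98848 : sm gb N3689 = N7396 := flp_b L98847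
theorem L98849 : N7396 = N5664 := eqe L98848 L36302
theorem L98850 : N7396 = N5664 := eqc rfl L98849 rfl
theorem L98851 : N8735 = N5664 := L98840.trans L98850
theorem L98852 : sm gc N5664 = N5112 := trf L98851 L53511 L88749
theorem L98853 : N5112 = N9427 := eqe L98852 L56958
theorem L98854 : N9427 = N5112 := (eqc rfl L98853 rfl).symm
theorem L98855 : sm gf N5664 = N6857 := trf L98851 L53516 rfl
theorem L98856 : N6857 = N7087 := eqe L98855 L44045
theorem L98857 : N7087 = N6857 := (eqc rfl L98856 rfl).symm
theorem L98861 : sm gb N6857 = N4426 := trf L98857 L44043 rfl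
theorem L98862 : N4426 = N4294 := eqe L98861 L42621
theorem L98863 : N4426 = N4294 := eqc rfl L98862 rfl
theorem L98867 : sm gd N6857 = N11709 := trf L98857 L69702 rfl
theorem L98868 : N11709 = N7398 := eqe L98867 L98797
theorem L98869 : N11709 = N7398 := eqc rfl L98868 rfl
theorem L98870 : sm ge N6857 = N10511 := trf L98857 L62885 rfl
theorem L98871 : N10511 = N4372 := eqe L98870 L42622
theorem L98872 : N10511 = N4372 := eqc rfl L98871 rfl
theorem L98873 : sm gf N6857 = N5664 := trf L98857 L44044 rfl
theorem L98874 : sm gf N5664 = N6857 := flp_f L98873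
theorem L98875 : sm gg N6857 = N11712 := trf L98857 L69752 rfl
theorem L98876 : N11712 = N7341 := eqe L98875 L98738
theorem L98877 : N11712 = N7341 := eqc rfl L98876 rfl
theorem L98878 : sm gb N7341 = N11663 := trf L98877 L69754 rfl
theorem L98879 : sm gb N11663 = N7341 := flp_b L98878
theorem L98880 : sm ga N4372 = N9404 := trf L98872 L69737 rfl
theorem L98881 : N9404 = N3432 := eqe L98880 L43437
theorem L98882 : N9404 = N3432 := eqc rfl L98881 rfl
theorem L98884 : sm gf N4372 = N7852 := trf L98872 L62886 rfl
theorem L98885 : N7852 = N6325 := eqe L98884 L98842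
theorem L98886 : N7852 = N6325 := eqc rfl L98885 rfl
theorem L98887 : sm gb N6325 = N4803 := trf L98886 L48205 rfl
theorem L98888 : N4803 = N4802 := eqe L98887 L39908
theorem L98889 : N4803 = N4802 := eqc rfl L98888 rfl
theorem L98892 : N10509 = N5664 := L75620.trans L98850
theorem L98893 : sm ga N4802 = N4820 := trf L98889 L32330 rfl
theorem L98894 : N4820 = N7848 := eqe L98893 L48187
theorem L98895 : N7848 = N4820 := (eqc rfl L98894 rfl).symm
theorem L98896 : sm gc N4802 = N3275 := trf L98889 L32245 rfl
theorem L98897 : N3275 = N7849 := eqe L98896 L48190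
theorem L98898 : N7849 = N3275 := (eqc rfl L98897 rfl).symm
theorem L98899 : sm gd N4802 = N7851 := trf L98889 L48203 rfl
theorem L98900 : N7851 = N3274 := eqe L98899 L32240
theorem L98901 : N7851 = N3274 := eqc rfl L98900 rfl
theorem L98902 : sm ge N4802 = N3689 := trf L98889 L32247 rfl
theorem L98903 : N3689 = N7850 := eqe L98902 L48194
theorem L98904 : N7850 = N3689 := (eqc rfl L98903 rfl).symm
theorem L98907 : sm gg N4802 = N4814 := trf L98889 L32301 rfl
theorem L98908 : N4814 = N3280 := eqe L98907 L32241
theorem L98909 : N4814 = N3280 := eqc rfl L98908 rfl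
theorem L98915 : sm gc N3280 = N3279 := trf L98909 L32297 rfl
theorem L98916 : N3279 = N4816 := eqe L98915 L32307
theorem L98917 : N4816 = N3279 := (eqc rfl L98916 rfl).symm
theorem L98921 : sm ge N3280 = N3700 := trf L98909 L32299 rfl
theorem L98922 : N3700 = N4817 := eqe L98921 L32309
theorem L98923 : N4817 = N3700 := (eqc rfl L98922 rfl).symm
theorem L98929 : sm gb N3700 = N3299 := trf L98923 L79790 rfl
theorem L98930 : N3299 = N5690 := eqe L98929 L36448
theorem L98931 : N5690 = N3299 := (eqc rfl L98930 rfl).symm
theorem L98933 : sm gd N3700 = N3298 := trf L98923 L79937 rfl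
theorem L98934 : N3298 = N5689 := eqe L98933 L36445
theorem L98935 : N5689 = N3298 := (eqc rfl L98934 rfl).symm
theorem L98936 : sm ge N3700 = N3280 := trf L98923 L32310 rfl
theorem L98937 : sm ge N3280 = N3700 := flp_e L98936
theorem L98938 : sm gf N3700 = N7881 := trf L98923 L48376 rfl
theorem L98939 : N7881 = N2686 := eqe L98938 L26584
theorem L98940 : N7881 = N2686 := eqc rfl L98939 rfl
theorem L98947 : sm gd N2686 = N4858 := trf L98940 L79015 rfl
theorem L98948 : N4858 = N3699 := eqe L98947 L26579
theorem L98949 : N4858 = N3699 := eqc rfl L98948 rfl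
theorem L98954 : sm gc N3699 = N3704 := trf L98949 L79892 rfl
theorem L98955 : N3704 = N4856 := eqe L98954 L78937
theorem L98956 : N4856 = N3704 := (eqc rfl L98955 rfl).symm
theorem L98961 : sm gg N3699 = N7966 := trf L98949 L48928 rfl
theorem L98962 : N7966 = N5660 := eqe L98961 L36289
theorem L98963 : N7966 = N5660 := eqc rfl L98962 rfl
theorem L98964 : sm ga N5660 = N7967 := trf L98963 L48939 rfl
theorem L98965 : N7967 = N3688 := eqe L98964 L36286
theorem L98966 : N7967 = N3688 := eqc rfl L98965 rfl
theorem L98967 : sm gc N5660 = N5698 := trf L98963 L79913 rfl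
theorem L98968 : N5698 = N7961 := eqe L98967 L79932
theorem L98969 : N7961 = N5698 := (eqc rfl L98968 rfl).symm
theorem L98973 : sm ga N5698 = N4859 := trf L98969 L48902 rfl
theorem L98974 : N4859 = N5663 := eqe L98973 L36482
theorem L98975 : N5663 = N4859 := (eqc rfl L98974 rfl).symm
theorem L98976 : sm gc N5698 = N5660 := trf L98969 L79931 rfl
theorem L98978 : sm gd N5698 = N3408 := trf L98969 L79933 L95053
theorem L98979 : N3408 = N3706 := eqe L98978 L36484
theorem L98980 : N3706 = N3408 := (eqc rfl L98979 rfl).symm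
theorem L98981 : sm ge N5698 = N5660 := trf L98969 L79834 rfl
theorem L98982 : sm ge N5660 = N5698 := flp_e L98981
theorem L98990 : sm gd N3408 = N5698 := trf L98980 L36485 rfl
theorem L98991 : N5698 = N5052 := eqe L98990 L33514
theorem L98992 : N5698 = N5052 := eqc rfl L98991 rfl
theorem L98993 : sm ge N3408 = N4820 := trf L98980 L32334 rfl
theorem L98994 : N4820 = N4530 := eqe L98993 L30781
theorem L98995 : N4820 = N4530 := eqc rfl L98994 rfl
theorem L98998 : sm gg N3408 = N2689 := trf L98980 L26610 rfl
theorem L98999 : N2689 = N5053 := eqe L98998 L33516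
theorem L99000 : N5053 = N2689 := (eqc rfl L98999 rfl).symm
theorem L99013 : sm gg N2689 = N3408 := trf L99000 L33517 rfl
theorem L99014 : sm gg N3408 = N2689 := flp_g L99013
theorem L99046 : sm gf N4530 = N4801 := trf L98995 L32336 rfl
theorem L99047 : N4801 = N7282 := eqe L99046 L45118
theorem L99048 : N7282 = N4801 := (eqc rfl L99047 rfl).symm
theorem L99051 : sm gb N4801 = N7294 := trf L99048 L97907 rfl
theorem L99052 : N7294 = N7847 := eqe L99051 L48180
theorem L99053 : N7847 = N7294 := (eqc rfl L99052 rfl).symm
theorem L99057 : N7848 = N4530 := L98895.trans L98995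
theorem L99059 : sm gf N4801 = N4530 := trf L99048 L45117 rfl
theorem L99060 : sm gf N4530 = N4801 := flp_f L99059
theorem L99062 : sm gb N7294 = N4801 := trf L99053 L48181 rfl
theorem L99063 : sm gb N4801 = N7294 := flp_b L99062
theorem L99064 : sm ge N7294 = N5659 := trf L99053 L48182 rfl
theorem L99065 : N5659 = N4542 := eqe L99064 L45197
theorem L99066 : N5659 = N4542 := eqc rfl L99065 rfl
theorem L99067 : sm ga N4542 = N9414 := trf L99066 L56902 rfl
theorem L99068 : N9414 = N7308 := eqe L99067 L45276
theorem L99069 : N9414 = N7308 := eqc rfl L99068 rfl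
theorem L99073 : sm gd N4542 = N9415 := trf L99066 L56904 rfl
theorem L99074 : N9415 = N6757 := eqe L99073 L84421
theorem L99075 : N9415 = N6757 := eqc rfl L99074 rfl
theorem L99076 : sm gf N4542 = N9416 := trf L99066 L56908 rfl
theorem L99077 : N9416 = N6755 := eqe L99076 L84416
theorem L99078 : N9416 = N4184 := eqc rfl L99077 L97926
theorem L99082 : sm gb N4184 = N9481 := trf L99078 L57229 rfl
theorem L99083 : N9481 = N3056 := eqe L99082 L29078
theorem L99084 : N9481 = N3056 := eqc rfl L99083 rfl
theorem L99085 : sm ga N3056 = N10568 := trf L99084 L69742 rfl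
theorem L99086 : N10568 = N4364 := eqe L99085 L29897
theorem L99087 : N10568 = N4364 := eqc rfl L99086 rfl
theorem L99095 : sm gf N4364 = N6359 := trf L99087 L63265 rfl
theorem L99096 : N6359 = N5972 := eqe L99095 L98491
theorem L99097 : N6359 = N5972 := eqc rfl L99096 rfl
theorem L99100 : sm gb N5972 = N4047 := trf L99097 L40093 rfl
theorem L99101 : N4047 = N3844 := eqe L99100 L37719
theorem L99102 : N4047 = N3844 := eqc rfl L99101 rfl
theorem L99103 : sm gc N5972 = N6378 := trf L99097 L40206 rfl
theorem L99104 : N6378 = N9880 := eqe L99103 L59343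
theorem L99105 : N6378 = N4360 := eqc rfl L99104 L93803
theorem L99109 : sm ge N5972 = N5985 := trf L99097 L40094 rfl
theorem L99110 : N5985 = N6181 := eqe L99109 L98224
theorem L99111 : N6181 = N5985 := (eqc rfl L99110 rfl).symm
theorem L99112 : sm gg N5972 = N10366 := trf L99097 L61993 rfl
theorem L99113 : N10366 = N6126 := eqe L99112 L98226
theorem L99114 : N10366 = N6126 := eqc rfl L99113 rfl
theorem L99120 : sm gc N6126 = N10435 := trf L99114 L62435 rfl
theorem L99121 : N10435 = N3927 := eqe L99120 L38501
theorem L99122 : N10435 = N3927 := eqc rfl L99121 rfl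
theorem L99127 : sm ge N3927 = N10111 := trf L99122 L62432 rfl
theorem L99128 : N10111 = N2835 := eqe L99127 L27729
theorem L99129 : N10111 = N2835 := eqc rfl L99128 rfl
theorem L99136 : sm gg N2835 = N6092 := trf L99129 L60560 rfl
theorem L99137 : N6092 = N3956 := eqe L99136 L27839
theorem L99138 : N6092 = N3956 := eqc rfl L99137 rfl
theorem L99142 : sm gb N3956 = N3909 := trf L99138 L38309 rfl
theorem L99143 : N3909 = N6183 := eqe L99142 L38794
theorem L99144 : N5879 = N3909 := (eqc rfl L99143 L89381).symm
theorem L99147 : sm gd N3956 = N10125 := trf L99138 L60627 rfl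
theorem L99148 : N10125 = N4418 := eqe L99147 L30155
theorem L99149 : N10125 = N4418 := eqc rfl L99148 rfl
theorem L99157 : sm gb N4418 = N6091 := trf L99149 L60625 rfl
theorem L99158 : N6091 = N7073 := eqe L99157 L43978
theorem L99159 : N7073 = N6091 := (eqc rfl L99158 rfl).symm
theorem L99160 : sm gb N6091 = N4418 := trf L99159 L43979 rfl
theorem L99161 : sm gb N4418 = N6091 := flp_b L99160
theorem L99165 : N6183 = N3909 := L89381.trans L99144
theorem L99170 : sm gg N6091 = N4422 := trf L99159 L43984 rfl
theorem L99171 : N4422 = N3908 := eqe L99170 L38305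
theorem L99172 : N4422 = N3908 := eqc rfl L99171 rfl
theorem L99173 : sm gb N3908 = N3083 := trf L99172 L30171 rfl
theorem L99174 : N3083 = N6083 := eqe L99173 L38271
theorem L99175 : N6083 = N3083 := (eqc rfl L99174 rfl).symm
theorem L99176 : sm gc N3908 = N7081 := trf L99172 L44014 rfl
theorem L99177 : N7081 = N6089 := eqe L99176 L38300
theorem L99178 : N7081 = N6089 := eqc rfl L99177 rfl
theorem L99179 : sm ge N3908 = N6323 := trf L99172 L39897 rfl
theorem L99180 : N6323 = N6090 := eqe L99179 L38302
theorem L99181 : N6323 = N6090 := eqc rfl L99180 rfl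
theorem L99182 : sm gf N3908 = N6305 := trf L99172 L42990 L89425
theorem L99183 : N6305 = N4057 := eqe L99182 L28419
theorem L99184 : N6305 = N4057 := eqc rfl L99183 rfl
theorem L99188 : sm gb N4057 = N4016 := trf L99184 L39783 rfl
theorem L99189 : N4016 = N6285 := eqe L99188 L39665
theorem L99190 : N6285 = N4016 := (eqc rfl L99189 rfl).symm
theorem L99194 : sm gd N4057 = N4878 := trf L99184 L84024 rfl
theorem L99195 : N4878 = N2897 := eqe L99194 L28417
theorem L99196 : N4878 = N2897 := eqc rfl L99195 rfl
theorem L99197 : sm ge N4057 = N6844 := trf L99184 L42551 rfl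
theorem L99198 : N6844 = N6376 := eqe L99197 L40191
theorem L99199 : N6844 = N6376 := eqc rfl L99198 rfl
theorem L99217 : sm gb N6376 = N4288 := trf L99199 L42549 rfl
theorem L99218 : N4288 = N10433 := eqe L99217 L62423
theorem L99219 : N10433 = N4288 := (eqc rfl L99218 rfl).symm
theorem L99220 : sm gc N6376 = N11355 := trf L99199 L67810 rfl
theorem L99221 : N11355 = N10594 := eqe L99220 L63420
theorem L99222 : N11355 = N10594 := eqc rfl L99221 rfl
theorem L99223 : N6985 = N6090 := L89459.trans L99181
theorem L99226 : sm gb N10594 = N6841 := trf L99222 L67806 rfl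
theorem L99229 : sm gb N4288 = N6376 := trf L99219 L62422 rfl
theorem L99230 : sm gb N6376 = N4288 := flp_b L99229
theorem L99231 : sm gd N4288 = N10109 := trf L99219 L62424 rfl
theorem L99232 : sm gd N10109 = N4288 := flp_d L99231
theorem L99235 : sm ga N2897 = N5932 := trf L99196 L37559 rfl
theorem L99236 : N5932 = N4056 := eqe L99235 L28411
theorem L99237 : N5932 = N4056 := eqc rfl L99236 rfl
theorem L99238 : sm gb N2897 = N3929 := trf L99196 L38581 L89418
theorem L99239 : N3929 = N4005 := eqe L99238 L28084
theorem L99240 : N4005 = N3929 := (eqc rfl L99239 rfl).symm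
theorem L99246 : sm gg N2897 = N5929 := trf L99196 L37549 rfl
theorem L99247 : N5929 = N4058 := eqe L99246 L28420
theorem L99248 : N5929 = N4058 := eqc rfl L99247 rfl
theorem L99249 : sm ga N4058 = N3823 := trf L99248 L37542 rfl
theorem L99250 : N3823 = N6024 := eqe L99249 L37969
theorem L99251 : N6024 = N3823 := (eqc rfl L99250 rfl).symm
theorem L99254 : sm gc N4058 = N3822 := trf L99248 L37541 rfl
theorem L99255 : N3822 = N2898 := eqe L99254 L28422
theorem L99256 : N3822 = N2898 := eqc rfl L99255 rfl
theorem L99257 : sm gd N4058 = N6171 := trf L99248 L59346 L89439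
theorem L99258 : N6171 = N6377 := eqe L99257 L40200
theorem L99259 : N6377 = N6171 := (eqc rfl L99258 rfl).symm
theorem L99261 : sm gf N4058 = N4896 := trf L99248 L37546 rfl
theorem L99262 : N4896 = N6088 := eqe L99261 L38298
theorem L99263 : N6088 = N4896 := (eqc rfl L99262 rfl).symm
theorem L99270 : sm gd N4896 = N10118 := trf L99263 L60593 rfl
theorem L99271 : N10118 = N8022 := eqe L99270 L49265
theorem L99272 : N10118 = N8022 := eqc rfl L99271 rfl
theorem L99274 : sm gf N4896 = N4058 := trf L99263 L38299 rfl
theorem L99275 : sm gf N4058 = N4896 := flp_f L99274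
theorem L99276 : sm gg N4896 = N3906 := trf L99263 L38291 rfl
theorem L99277 : N3906 = N5877 := eqe L99276 L37334
theorem L99278 : N5877 = N3906 := (eqc rfl L99277 rfl).symm
theorem L99280 : sm gb N3906 = N3979 := trf L99278 L83925 L89351
theorem L99281 : N3979 = N6086 := eqe L99280 L38284
theorem L99282 : N6086 = N3979 := (eqc rfl L99281 rfl).symm
theorem L99283 : sm gc N3906 = N3791 := trf L99278 L37330 rfl
theorem L99284 : N3791 = N2806 := eqe L99283 L27600
theorem L99285 : N3791 = N2806 := eqc rfl L99284 rfl
theorem L99286 : sm gd N3906 = N6220 := trf L99278 L85234 rfl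
theorem L99287 : N6220 = N6087 := eqe L99286 L38286
theorem L99288 : N6220 = N6087 := eqc rfl L99287 rfl
theorem L99291 : sm gg N3906 = N4896 := trf L99278 L37333 rfl
theorem L99292 : sm gg N4896 = N3906 := flp_g L99291
theorem L99295 : sm gb N6087 = N3974 := trf L99288 L38961 rfl
theorem L99296 : N3974 = N10114 := eqe L99295 L60575
theorem L99297 : N10114 = N3974 := (eqc rfl L99296 rfl).symm
theorem L99298 : sm gc N6087 = N7048 := trf L99288 L43807 rfl
theorem L99299 : N7048 = N10116 := eqe L99298 L60578
theorem L99300 : N10116 = N7048 := (eqc rfl L99299 rfl).symm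
theorem L99301 : sm ge N6087 = N6061 := trf L99288 L38962 rfl
theorem L99302 : N6061 = N10117 := eqe L99301 L60584
theorem L99303 : N10117 = N6061 := (eqc rfl L99302 rfl).symm
theorem L99304 : sm gf N6087 = N4315 := trf L99288 L38964 rfl
theorem L99305 : N4315 = N6374 := eqe L99304 L40186
theorem L99306 : N6374 = N4315 := (eqc rfl L99305 rfl).symm
theorem L99311 : N6901 = N4057 := L89485.trans L99184
theorem L99320 : sm ge N4315 = N10592 := trf L99306 L63407 rfl
theorem L99321 : N10592 = N4311 := eqe L99320 L29700
theorem L99322 : N10592 = N4311 := eqc rfl L99321 rfl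
theorem L99323 : sm gf N4315 = N6087 := trf L99306 L40185 rfl
theorem L99324 : sm gf N6087 = N4315 := flp_f L99323
theorem L99333 : N9805 = N6091 := L89454.trans L99159
theorem L99334 : sm ga N4311 = N6376 := trf L99322 L63409 rfl
theorem L99335 : N6376 = N6893 := eqe L99334 L42800
theorem L99336 : N6893 = N6376 := (eqc rfl L99335 rfl).symm
theorem L99339 : sm ga N6376 = N4311 := trf L99336 L42801 rfl
theorem L99340 : sm ga N4311 = N6376 := flp_a L99339
theorem L99342 : sm gc N6376 = N6171 := trf L99336 L85207 L89439
theorem L99343 : N6171 = N10594 := eqe L99342 L63420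
theorem L99344 : N10594 = N6171 := (eqc rfl L99343 rfl).symm
theorem L99348 : sm gg N6376 = N6144 := trf L99336 L42818 rfl
theorem L99349 : N6144 = N10596 := eqe L99348 L63427
theorem L99350 : N10596 = N6144 := (eqc rfl L99349 rfl).symm
theorem L99354 : sm gg N6144 = N6376 := trf L99350 L63428 rfl
theorem L99355 : sm gg N6376 = N6144 := flp_g L99354
theorem L99356 : sm gb N6171 = N6841 := trf L99344 L99226 rfl
theorem L99357 : N6841 = N3950 := eqe L99356 L38723
theorem L99358 : N6841 = N3950 := eqc rfl L99357 rfl
theorem L99359 : sm gc N6171 = N6376 := trf L99344 L63419 rfl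
theorem L99360 : N6376 = N10259 := eqe L99359 L61382
theorem L99361 : N10259 = N6376 := (eqc rfl L99360 rfl).symm
theorem L99372 : N6908 = N4057 := L89425.trans L99184
theorem L99395 : N9803 = N6089 := L89462.trans L99178
theorem L99397 : sm gb N6376 = N10537 := trf L99361 L63057 rfl
theorem L99398 : N10537 = N4288 := eqe L99397 L99230
theorem L99399 : N10537 = N4288 := eqc rfl L99398 rfl
theorem L99400 : sm gc N6376 = N6171 := trf L99361 L61383 rfl
theorem L99401 : sm gc N6171 = N6376 := flp_c L99400
theorem L99414 : sm gg N4288 = N10437 := trf L99399 L63054 rfl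
theorem L99415 : N10437 = N6846 := eqe L99414 L42556
theorem L99416 : N10437 = N5643 := eqc rfl L99415 L71812
theorem L99417 : sm ga N5643 = N6766 := trf L99416 L62455 rfl
theorem L99424 : sm gf N5643 = N6764 := trf L99416 L62452 rfl
theorem L99425 : N6764 = N3680 := eqe L99424 L36217
theorem L99426 : N6764 = N3680 := eqc rfl L99425 rfl
theorem L99427 : sm ga N3680 = N4250 := trf L99426 L42033 rfl
theorem L99428 : N4250 = N5640 := eqe L99427 L36201
theorem L99429 : N4250 = N4009 := eqc rfl L99428 L89906
theorem L99435 : sm gd N3680 = N10449 := trf L99426 L62529 rfl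
theorem L99436 : N10449 = N3061 := eqe L99435 L26523
theorem L99437 : N10449 = N3061 := eqc rfl L99436 rfl
theorem L99448 : sm gb N3061 = N6219 := trf L99437 L62533 L73629
theorem L99449 : N6219 = N4377 := eqe L99448 L29946
theorem L99450 : N6219 = N4377 := eqc rfl L99449 rfl
theorem L99451 : sm ge N3061 = N10150 := trf L99437 L62530 rfl
theorem L99452 : N10150 = N4296 := eqe L99451 L29613
theorem L99453 : N10150 = N3077 := eqc rfl L99452 L89823
theorem L99454 : sm ga N3077 = N6106 := trf L99453 L60771 rfl
theorem L99455 : N6106 = N2381 := eqe L99454 L23340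
theorem L99456 : N6106 = N2381 := eqc rfl L99455 rfl
theorem L99472 : sm gg N2381 = N10149 := trf L99456 L60769 rfl
theorem L99473 : N10149 = N3079 := eqe L99472 L23351
theorem L99474 : N10149 = N3079 := eqc rfl L99473 rfl
theorem L99478 : sm gd N3079 = N6112 := trf L99474 L60766 rfl
theorem L99479 : N6112 = N2832 := eqe L99478 L23353
theorem L99480 : N6112 = N2832 := eqc rfl L99479 rfl
theorem L99492 : sm gb N2832 = N3921 := trf L99480 L38423 rfl
theorem L99493 : N3921 = N3946 := eqe L99492 L27809
theorem L99494 : N3946 = N3921 := (eqc rfl L99493 rfl).symm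
theorem L99499 : sm gf N2832 = N10165 := trf L99480 L60852 rfl
theorem L99500 : N10165 = N2837 := eqe L99499 L22056
theorem L99501 : N10165 = N2837 := eqc rfl L99500 rfl
theorem L99503 : sm ga N2837 = N10170 := trf L99501 L60885 rfl
theorem L99504 : N10170 = N2263 := eqe L99503 L22053
theorem L99505 : N10170 = N2263 := eqc rfl L99504 rfl
theorem L99519 : sm gg N2263 = N6115 := trf L99505 L60883 rfl
theorem L99520 : N6115 = N1487 := eqe L99519 L19255
theorem L99521 : N6115 = N1487 := eqc rfl L99520 rfl
theorem L99530 : sm ge N1487 = N3949 := trf L99521 L38440 rfl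
theorem L99531 : N3949 = N2253 := eqe L99530 L19217
theorem L99532 : N3949 = N2253 := eqc rfl L99531 rfl
theorem L99541 : sm gd N2253 = N4414 := trf L99532 L30137 rfl
theorem L99542 : N4414 = N2819 := eqe L99541 L21996
theorem L99543 : N4414 = N2819 := eqc rfl L99542 rfl
theorem L99544 : sm gf N2253 = N2833 := trf L99532 L27818 rfl
theorem L99545 : N2833 = N2816 := eqe L99544 L21974
theorem L99546 : N2833 = N2816 := eqc rfl L99545 rfl
theorem L99551 : sm gb N2816 = N2259 := trf L99546 L22040 rfl
theorem L99552 : N2259 = N2250 := eqe L99551 L21970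
theorem L99553 : N2259 = N2250 := eqc rfl L99552 rfl
theorem L99557 : sm gd N2816 = N3080 := trf L99546 L23358 rfl
theorem L99558 : N3080 = N3916 := eqe L99557 L27668
theorem L99559 : N3916 = N3080 := (eqc rfl L99558 rfl).symm
theorem L99565 : sm gc N3080 = N3581 := trf L99559 L85183 rfl
theorem L99566 : N3581 = N4413 := eqe L99565 L30130
theorem L99567 : N4413 = N3581 := (eqc rfl L99566 rfl).symm
theorem L99568 : sm gd N3080 = N2816 := trf L99559 L27667 rfl
theorem L99569 : sm gd N2816 = N3080 := flp_d L99568
theorem L99582 : sm gc N3581 = N3080 := trf L99567 L30131 rfl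
theorem L99583 : sm gc N3080 = N3581 := flp_c L99582
theorem L99593 : sm gg N3581 = N7059 := trf L99567 L43867 rfl
theorem L99594 : N7059 = N5431 := eqe L99593 L35246
theorem L99595 : N7059 = N3994 := eqc rfl L99594 L88450
theorem L99609 : sm gf N3994 = N11675 := trf L99595 L69509 rfl
theorem L99610 : N11675 = N2867 := eqe L99609 L28031
theorem L99611 : N11675 = N2867 := eqc rfl L99610 rfl
theorem L99619 : sm gg N2867 = N11678 := trf L99611 L69529 rfl
theorem L99620 : N11678 = N4017 := eqe L99619 L28161
theorem L99621 : N11678 = N4017 := eqc rfl L99620 rfl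
theorem L99625 : sm gf N4017 = N7061 := trf L99621 L69524 rfl
theorem L99626 : N7061 = N3996 := eqe L99625 L28167
theorem L99627 : N7061 = N3996 := eqc rfl L99626 rfl
theorem L99633 : sm gd N3996 = N11677 := trf L99627 L69519 rfl
theorem L99634 : N11677 = N2860 := eqe L99633 L28039
theorem L99635 : N11677 = N2860 := eqc rfl L99634 rfl
theorem L99643 : sm ga N2860 = N7063 := trf L99635 L69521 rfl
theorem L99644 : N7063 = N2873 := eqe L99643 L22264
theorem L99645 : N7063 = N2873 := eqc rfl L99644 rfl
theorem L99646 : sm gb N2873 = N5039 := trf L99645 L43890 rfl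
theorem L99647 : N5039 = N4029 := eqe L99646 L28223
theorem L99648 : N5039 = N2366 := eqc rfl L99647 L88430
theorem L99674 : sm gg N2366 = N8266 := trf L99648 L51190 rfl
theorem L99675 : N8266 = N2378 := eqe L99674 L19853
theorem L99676 : N8266 = N2378 := eqc rfl L99675 rfl
theorem L99677 : sm gd N2378 = N5034 := trf L99676 L51188 rfl
theorem L99678 : N5034 = N2680 := eqe L99677 L21395
theorem L99679 : N5034 = N2680 := eqc rfl L99678 rfl
theorem L99686 : sm gf N2680 = N8267 := trf L99679 L51191 rfl
theorem L99687 : N8267 = N2180 := eqe L99686 L21389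
theorem L99688 : N8267 = N2180 := eqc rfl L99687 rfl
theorem L99692 : sm gg N2180 = N8271 := trf L99688 L51211 rfl
theorem L99693 : N8271 = N1197 := eqe L99692 L18884
theorem L99694 : N8271 = N1197 := eqc rfl L99693 rfl
theorem L99695 : sm ga N1197 = N5040 := trf L99694 L51207 rfl
theorem L99696 : N5040 = N2178 := eqe L99695 L18874
theorem L99697 : N5040 = N2178 := eqc rfl L99696 rfl
theorem L99714 : sm gb N2178 = N7041 := trf L99697 L43757 rfl
theorem L99715 : N7041 = N2677 := eqe L99714 L21372
theorem L99716 : N7041 = N2677 := eqc rfl L99715 rfl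
theorem L99734 : sm gg N2677 = N11649 := trf L99716 L69369 rfl
theorem L99735 : N11649 = N3680 := eqe L99734 L26521
theorem L99736 : N11649 = N3680 := eqc rfl L99735 rfl
theorem L99737 : sm ga N3680 = N7044 := trf L99736 L69371 rfl
theorem L99738 : N7044 = N5640 := eqe L99737 L36201
theorem L99739 : N7044 = N4009 := eqc rfl L99738 L89906
theorem L99748 : sm gd N4009 = N11652 := trf L99739 L69384 rfl
theorem L99749 : N11652 = N2876 := eqe L99748 L28109
theorem L99750 : N11652 = N2876 := eqc rfl L99749 rfl
theorem L99755 : sm gf N4009 = N11654 := trf L99739 L69393 rfl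
theorem L99756 : N11654 = N2866 := eqe L99755 L28113
theorem L99757 : N11654 = N2866 := eqc rfl L99756 rfl
theorem L99760 : sm ga N2866 = N5643 := trf L99757 L69395 L89600
theorem L99761 : N5643 = N4012 := eqe L99760 L28133
theorem L99762 : N5643 = N4012 := eqc rfl L99761 rfl
theorem L99768 : sm ga N4012 = N6766 := trf L99762 L99417 rfl
theorem L99769 : N6766 = N2866 := eqe L99768 L28134
theorem L99770 : N6766 = N2866 := eqc rfl L99769 rfl
theorem L99776 : sm gg N4012 = N4288 := trf L99762 L36222 L71797
theorem L99777 : N4288 = N6297 := eqe L99776 L39738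
theorem L99778 : N6297 = N4288 := (eqc rfl L99777 rfl).symm
theorem L99784 : sm gd N4288 = N4026 := trf L99778 L39742 rfl
theorem L99785 : N4026 = N10109 := eqe L99784 L99231
theorem L99786 : N10109 = N4026 := (eqc rfl L99785 rfl).symm
theorem L99794 : N6846 = N4012 := L71812.trans L99762
theorem L99810 : sm gd N4026 = N4288 := trf L99786 L99232 rfl
theorem L99811 : sm gd N4288 = N4026 := flp_d L99810
theorem L99823 : sm gd N2866 = N10451 := trf L99770 L62541 rfl
theorem L99824 : N10451 = N2282 := eqe L99823 L22227
theorem L99825 : N10451 = N2282 := eqc rfl L99824 rfl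
theorem L99830 : sm gb N2282 = N10443 := trf L99825 L62544 rfl
theorem L99831 : N10443 = N1533 := eqe L99830 L19369
theorem L99832 : N10443 = N1533 := eqc rfl L99831 rfl
theorem L99839 : sm gf N1533 = N6289 := trf L99832 L62487 rfl
theorem L99840 : N6289 = N916 := eqe L99839 L17755
theorem L99841 : N6289 = N916 := eqc rfl L99840 rfl
theorem L99852 : sm ge N916 = N6094 := trf L99841 L39690 rfl
theorem L99853 : N6094 = N456 := eqe L99852 L4545
theorem L99854 : N6094 = N456 := eqc rfl L99853 rfl
theorem L99871 : sm gd N456 = N3913 := trf L99854 L38320 rfl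
theorem L99872 : N3913 = N362 := eqe L99871 L2267
theorem L99873 : N3913 = N362 := eqc rfl L99872 rfl
theorem L99876 : sm ga N362 = N6098 := trf L99873 L38342 rfl
theorem L99877 : N6098 = N456 := eqe L99876 L2264
theorem L99878 : N6098 = N456 := eqc rfl L99877 rfl
theorem L99885 : sm ge N362 = N2829 := trf L99873 L27645 rfl
theorem L99886 : N2829 = N727 := eqe L99885 L17657
theorem L99887 : N2829 = N727 := eqc rfl L99886 rfl
theorem L100071 : sm gb N727 = N2257 := trf L99887 L22028 rfl
theorem L100072 : N2257 = N1452 := eqe L100071 L7352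
theorem L100073 : N2257 = N1452 := eqc rfl L100072 rfl
theorem L100077 : sm ga N1452 = N1486 := trf L100073 L19232 rfl
theorem L100078 : N1486 = N2248 := eqe L100077 L19182
theorem L100079 : N2248 = N1486 := (eqc rfl L100078 rfl).symm
theorem L100084 : sm gg N1452 = N1484 := trf L100073 L19231 rfl
theorem L100085 : N1484 = N2251 := eqe L100084 L19198
theorem L100086 : N2251 = N1484 := (eqc rfl L100085 rfl).symm
theorem L100095 : sm gf N1484 = N2818 := trf L100086 L21983 rfl
theorem L100096 : N2818 = N2256 := eqe L100095 L19226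
theorem L100097 : N2818 = N2256 := eqc rfl L100096 rfl
theorem L100098 : sm gg N1484 = N1452 := trf L100086 L19199 rfl
theorem L100099 : sm gg N1452 = N1484 := flp_g L100098
theorem L100106 : sm gc N2256 = N2260 := trf L100097 L21987 rfl
theorem L100107 : N2260 = N2811 := eqe L100106 L21932
theorem L100108 : N2811 = N2260 := (eqc rfl L100107 rfl).symm
theorem L100154 : sm gc N2260 = N2256 := trf L100108 L21931 rfl
theorem L100155 : sm gc N2256 = N2260 := flp_c L100154
theorem L100156 : sm ge N2260 = N2256 := trf L100108 L21933 rfl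
theorem L100157 : sm ge N2256 = N2260 := flp_e L100156
theorem L100166 : N3934 = N2862 := L81085.trans L93759
theorem L100176 : sm ga N1486 = N1452 := trf L100079 L19183 rfl
theorem L100177 : sm ga N1452 = N1486 := flp_a L100176
theorem L100179 : sm gc N1486 = N1484 := trf L100079 L19184 rfl
theorem L100180 : sm gc N1484 = N1486 := flp_c L100179
theorem L100182 : sm ge N1486 = N1484 := trf L100079 L19186 rfl
theorem L100183 : sm ge N1484 = N1486 := flp_e L100182
theorem L100186 : sm gb N456 = N9492 := trf L99878 L57293 rfl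
theorem L100187 : N9492 = N939 := eqe L100186 L4645
theorem L100188 : N9492 = N939 := eqc rfl L100187 rfl
theorem L100205 : sm ge N939 = N6149 := trf L100188 L57286 rfl
theorem L100206 : N6149 = N1809 := eqe L100205 L9180
theorem L100207 : N6149 = N1809 := eqc rfl L100206 rfl
theorem L100217 : sm gg N1809 = N4331 := trf L100207 L42878 rfl
theorem L100218 : N4331 = N2343 := eqe L100217 L19690
theorem L100219 : N4331 = N2343 := eqc rfl L100218 rfl
theorem L100230 : sm gf N2343 = N6924 := trf L100219 L43089 rfl
theorem L100231 : N6924 = N2999 := eqe L100230 L22961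
theorem L100232 : N6924 = N2999 := eqc rfl L100231 rfl
theorem L100245 : sm gg N2999 = N10096 := trf L100232 L60481 rfl
theorem L100246 : N10096 = N2996 := eqe L100245 L22969
theorem L100247 : N10096 = N2996 := eqc rfl L100246 rfl
theorem L100250 : sm gc N2996 = N8100 := trf L100247 L60476 rfl
theorem L100251 : N8100 = N2404 := eqe L100250 L22941
theorem L100252 : N8100 = N2404 := eqc rfl L100251 rfl
theorem L100261 : sm gb N2404 = N7600 := trf L100252 L49703 L82571
theorem L100262 : N7600 = N3125 := eqe L100261 L23613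
theorem L100263 : N7600 = N3125 := eqc rfl L100262 rfl
theorem L100264 : sm ge N2404 = N8093 := trf L100252 L49701 rfl
theorem L100265 : N8093 = N2106 := eqe L100264 L20018
theorem L100266 : N8093 = N2106 := eqc rfl L100265 rfl
theorem L100277 : sm gf N2106 = N4934 := trf L100266 L49636 rfl
theorem L100278 : N4934 = N1136 := eqe L100277 L18562
theorem L100279 : N4934 = N1136 := eqc rfl L100278 rfl
theorem L100287 : sm gg N1136 = N3484 := trf L100279 L32978 rfl
theorem L100288 : N3484 = N2107 := eqe L100287 L18565
theorem L100289 : N3484 = N2107 := eqc rfl L100288 rfl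
theorem L100299 : sm gf N2107 = N5221 := trf L100289 L34268 rfl
theorem L100300 : N5221 = N2113 := eqe L100299 L18591
theorem L100301 : N5221 = N2113 := eqc rfl L100300 rfl
theorem L100309 : sm gd N2113 = N8589 := trf L100301 L52740 rfl
theorem L100310 : N8589 = N2539 := eqe L100309 L20767
theorem L100311 : N8589 = N2539 := eqc rfl L100310 rfl
theorem L100330 : sm gg N2539 = N9178 := trf L100311 L55758 rfl
theorem L100331 : N9178 = N2110 := eqe L100330 L20765
theorem L100332 : N9178 = N2110 := eqc rfl L100331 rfl
theorem L100333 : sm gb N2110 = N5535 := trf L100332 L55755 rfl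
theorem L100334 : N5535 = N2538 := eqe L100333 L20758
theorem L100335 : N5535 = N2538 := eqc rfl L100334 rfl
theorem L100351 : sm gg N2538 = N9165 := trf L100335 L55698 rfl
theorem L100352 : N9165 = N2170 := eqe L100351 L90262
theorem L100353 : N9165 = N2170 := eqc rfl L100352 rfl
theorem L100354 : sm ga N2170 = N5529 := trf L100353 L55694 rfl
theorem L100355 : N5529 = N2654 := eqe L100354 L21273
theorem L100356 : N5529 = N2654 := eqc rfl L100355 rfl
theorem L100360 : sm gf N2170 = N8242 := trf L100353 L55699 rfl
theorem L100361 : N8242 = N2626 := eqe L100360 L21161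
theorem L100362 : N8242 = N2626 := eqc rfl L100361 rfl
theorem L100363 : sm ga N2626 = N9167 := trf L100362 L55708 rfl
theorem L100364 : N9167 = N8127 := eqe L100363 L82876
theorem L100365 : N9167 = N2553 := eqc rfl L100364 L90265
theorem L100374 : sm gd N2553 = N5637 := trf L100365 L55709 rfl
theorem L100375 : N5637 = N2122 := eqe L100374 L20822
theorem L100376 : N5637 = N2122 := eqc rfl L100375 rfl
theorem L100388 : sm gf N2122 = N3676 := trf L100376 L36187 rfl
theorem L100389 : N3676 = N2562 := eqe L100388 L20856
theorem L100390 : N3676 = N2562 := eqc rfl L100389 rfl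
theorem L100391 : sm gg N2122 = N5649 := trf L100376 L36249 rfl
theorem L100392 : N5649 = N1143 := eqe L100391 L18634
theorem L100393 : N5649 = N1143 := eqc rfl L100392 rfl
theorem L100398 : sm gc N1143 = N9400 := trf L100393 L56841 rfl
theorem L100399 : N9400 = N2121 := eqe L100398 L18629
theorem L100400 : N9400 = N2121 := eqc rfl L100399 rfl
theorem L100407 : sm gf N2121 = N5648 := trf L100400 L56837 rfl
theorem L100408 : N5648 = N2543 := eqe L100407 L20791
theorem L100409 : N5648 = N2543 := eqc rfl L100408 rfl
theorem L100422 : sm gg N2543 = N9388 := trf L100409 L56757 rfl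
theorem L100423 : N9388 = N3063 := eqe L100422 L88790
theorem L100424 : N9388 = N3063 := eqc rfl L100423 rfl
theorem L100425 : sm ga N3063 = N5636 := trf L100424 L56750 rfl
theorem L100426 : N5636 = N2376 := eqe L100425 L23275
theorem L100427 : N5636 = N2376 := eqc rfl L100426 rfl
theorem L100487 : sm gb N2376 = N6814 := trf L100427 L83674 rfl
theorem L100488 : N6814 = N1868 := eqe L100487 L19842
theorem L100489 : N6814 = N1868 := eqc rfl L100488 rfl
theorem L100490 : sm gc N2376 = N2562 := trf L100427 L36183 L100390
theorem L100491 : N2562 = N3066 := eqe L100490 L23289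
theorem L100492 : N2593 = N2562 := (eqc rfl L100491 L72447).symm
theorem L100501 : N3047 = N2561 := L72498.trans L88746
theorem L100540 : sm gb N2562 = N2140 := trf L100492 L20993 rfl
theorem L100541 : N2140 = N3441 := eqe L100540 L25453
theorem L100542 : N3441 = N2140 := (eqc rfl L100541 rfl).symm
theorem L100547 : N3504 = N2542 := L90430.trans L90458
theorem L100550 : sm gb N2140 = N2562 := trf L100542 L25454 rfl
theorem L100551 : sm gb N2562 = N2140 := flp_b L100550
theorem L100555 : sm gd N2140 = N5080 := trf L100542 L33657 rfl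
theorem L100556 : N5080 = N2591 := eqe L100555 L20987
theorem L100557 : N5080 = N2591 := eqc rfl L100556 rfl
theorem L100558 : N4563 = N2430 := L87005.trans L97784
theorem L100574 : sm gf N2591 = N5615 := trf L100557 L36101 rfl
theorem L100575 : N5615 = N2139 := eqe L100574 L20985
theorem L100576 : N5615 = N2139 := eqc rfl L100575 rfl
theorem L100587 : sm gg N2139 = N9349 := trf L100576 L56556 rfl
theorem L100588 : N9349 = N2592 := eqe L100587 L20988
theorem L100589 : N9349 = N2592 := eqc rfl L100588 rfl
theorem L100590 : sm gb N2592 = N9306 := trf L100589 L56562 rfl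
theorem L100592 : sm gd N2592 = N5776 := trf L100589 L56558 rfl
theorem L100593 : N5776 = N2141 := eqe L100592 L20990
theorem L100594 : N5776 = N2141 := eqc rfl L100593 rfl
theorem L100609 : sm gb N2141 = N5730 := trf L100594 L36865 rfl
theorem L100610 : N5730 = N2595 := eqe L100609 L21000
theorem L100611 : N5730 = N1743 := eqc rfl L100610 L92009
theorem L100612 : sm gc N2141 = N9600 := trf L100594 L57791 rfl
theorem L100613 : N9600 = N2588 := eqe L100612 L20977
theorem L100614 : N9600 = N2345 := eqc rfl L100613 L93598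
theorem L100643 : sm gg N2345 = N5775 := trf L100614 L57789 rfl
theorem L100644 : N5775 = N3004 := eqe L100643 L22997
theorem L100645 : N5775 = N2138 := eqc rfl L100644 L93642
theorem L100649 : sm gb N2138 = N9596 := trf L100645 L57773 rfl
theorem L100650 : N9596 = N1274 := eqe L100649 L18703
theorem L100651 : N9596 = N1274 := eqc rfl L100650 rfl
theorem L100671 : N3486 = N2352 := L72205.trans L88298
theorem L100675 : sm gc N1274 = N5773 := trf L100651 L57771 rfl
theorem L100676 : N5773 = N629 := eqe L100675 L6450
theorem L100677 : N5773 = N629 := eqc rfl L100676 rfl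
theorem L100692 : sm gg N629 = N9597 := trf L100677 L57774 rfl
theorem L100693 : N9597 = N635 := eqe L100692 L93467
theorem L100694 : N9597 = N635 := eqc rfl L100693 rfl
theorem L100695 : sm gb N635 = N9527 := trf L100694 L57776 rfl
theorem L100696 : N9527 = N1284 := eqe L100695 L6474
theorem L100697 : N9527 = N1284 := eqc rfl L100696 rfl
theorem L100698 : sm gg N1284 = N5731 := trf L100697 L57462 rfl
theorem L100699 : N5731 = N2242 := eqe L100698 L19152
theorem L100700 : N5731 = N1278 := eqc rfl L100699 L86517
theorem L100707 : sm gc N1278 = N9520 := trf L100700 L57432 rfl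
theorem L100708 : N9520 = N2227 := eqe L100707 L19104
theorem L100709 : N9520 = N2227 := eqc rfl L100708 rfl
theorem L100717 : sm gb N2227 = N5728 := trf L100709 L57430 rfl
theorem L100718 : N5728 = N2609 := eqe L100717 L21069
theorem L100719 : N5728 = N2415 := eqc rfl L100718 L90936
theorem L100733 : sm gg N2415 = N9523 := trf L100719 L57443 rfl
theorem L100734 : N9523 = N1994 := eqe L100733 L20083
theorem L100735 : N9523 = N1994 := eqc rfl L100734 rfl
theorem L100739 : sm gb N1994 = N10617 := trf L100735 L63565 rfl
theorem L100740 : N10617 = N2407 := eqe L100739 L20035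
theorem L100741 : N10617 = N2407 := eqc rfl L100740 rfl
theorem L100753 : sm ge N2407 = N6421 := trf L100741 L63561 rfl
theorem L100754 : N6421 = N1991 := eqe L100753 L20033
theorem L100755 : N6421 = N1991 := eqc rfl L100754 rfl
theorem L100769 : sm gg N1991 = N10659 := trf L100755 L63813 rfl
theorem L100770 : N10659 = N2409 := eqe L100769 L20042
theorem L100771 : N10659 = N2409 := eqc rfl L100770 rfl
theorem L100772 : sm ga N2409 = N5883 := trf L100771 L63811 L80833
theorem L100773 : N5883 = N3124 := eqe L100772 L23610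
theorem L100774 : N5883 = N2316 := eqc rfl L100773 L95283
theorem L100779 : sm gc N2316 = N9813 := trf L100774 L58782 rfl
theorem L100780 : N9813 = N2845 := eqe L100779 L22138
theorem L100781 : N9813 = N2845 := eqc rfl L100780 rfl
theorem L100802 : sm gb N2845 = N5889 := trf L100781 L58784 rfl
theorem L100803 : N5889 = N2361 := eqe L100802 L22140
theorem L100804 : N5889 = N2361 := eqc rfl L100803 rfl
theorem L100814 : sm ge N2361 = N8601 := trf L100804 L52798 rfl
theorem L100815 : N8601 = N2360 := eqe L100814 L22142
theorem L100816 : N8601 = N2360 := eqc rfl L100815 rfl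
theorem L100820 : sm gg N2361 = N2360 := trf L100804 L52800 L100816
theorem L100821 : N2360 = N3034 := eqe L100820 L23179
theorem L100822 : N3034 = N2360 := (eqc rfl L100821 rfl).symm
theorem L100823 : sm ga N2360 = N3002 := trf L100822 L23181 rfl
theorem L100824 : N3002 = N1851 := eqe L100823 L19789
theorem L100825 : N3002 = N1851 := eqc rfl L100824 rfl
theorem L100832 : sm gd N2360 = N4314 := trf L100822 L29697 rfl
theorem L100833 : N4314 = N2798 := eqe L100832 L21882
theorem L100834 : N4314 = N2798 := eqc rfl L100833 rfl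
theorem L100835 : sm ge N2360 = N3031 := trf L100822 L23185 rfl
theorem L100836 : N3031 = N2361 := eqe L100835 L22141
theorem L100837 : N3031 = N2361 := eqc rfl L100836 rfl
theorem L100838 : sm gf N2360 = N4255 := trf L100822 L29380 rfl
theorem L100839 : N4255 = N3030 := eqe L100838 L23155
theorem L100840 : N4255 = N3030 := eqc rfl L100839 rfl
theorem L100845 : sm gc N3030 = N3038 := trf L100840 L29376 rfl
theorem L100846 : N3038 = N3001 := eqe L100845 L23159
theorem L100847 : N3038 = N3001 := eqc rfl L100846 rfl
theorem L100858 : sm gg N3001 = N3030 := trf L100847 L23203 rfl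
theorem L100859 : sm gg N3030 = N3001 := flp_g L100858
theorem L100865 : sm gd N2361 = N3893 := trf L100837 L27536 rfl
theorem L100866 : N3893 = N3032 := eqe L100865 L23167
theorem L100867 : N3893 = N3032 := eqc rfl L100866 rfl
theorem L100869 : sm gg N2361 = N2360 := trf L100837 L23162 rfl
theorem L100870 : sm gg N2360 = N2361 := flp_g L100869
theorem L100877 : sm ge N3032 = N3975 := trf L100867 L27924 rfl
theorem L100878 : N3975 = N3121 := eqe L100877 L23589
theorem L100879 : N3975 = N3121 := eqc rfl L100878 rfl
theorem L100880 : sm gf N3032 = N3894 := trf L100867 L27541 rfl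
theorem L100881 : N3894 = N4313 := eqe L100880 L29686
theorem L100882 : N4313 = N3894 := (eqc rfl L100881 rfl).symm
theorem L100888 : N6063 = N4056 := L89357.trans L99237
theorem L100894 : sm gf N3894 = N3032 := trf L100882 L29687 rfl
theorem L100895 : sm gf N3032 = N3894 := flp_f L100894
theorem L100943 : sm gc N3121 = N2949 := trf L100879 L27921 rfl
theorem L100944 : N2949 = N2403 := eqe L100943 L23584
theorem L100945 : N2949 = N2403 := eqc rfl L100944 rfl
theorem L100946 : sm gd N3121 = N4492 := trf L100879 L30567 rfl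
theorem L100947 : N4492 = N2845 := eqe L100946 L23588
theorem L100948 : N4492 = N2845 := eqc rfl L100947 rfl
theorem L100954 : sm gb N2845 = N7212 := trf L100948 L44731 rfl
theorem L100955 : N7212 = N2361 := eqe L100954 L22140
theorem L100956 : N7212 = N2361 := eqc rfl L100955 rfl
theorem L100960 : sm gg N2845 = N3121 := trf L100948 L30561 rfl
theorem L100961 : sm gg N3121 = N2845 := flp_g L100960
theorem L100965 : sm gc N2361 = N11945 := trf L100956 L71028 rfl
theorem L100966 : N11945 = N1851 := eqe L100965 L19791
theorem L100967 : N11945 = N1851 := eqc rfl L100966 rfl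
theorem L100972 : sm gf N2361 = N9830 := trf L100956 L58886 rfl
theorem L100973 : N9830 = N3033 := eqe L100972 L23171
theorem L100974 : N9830 = N3033 := eqc rfl L100973 rfl
theorem L100984 : sm gg N3033 = N5890 := trf L100974 L58879 rfl
theorem L100985 : N5890 = N4257 := eqe L100984 L29397
theorem L100986 : N5890 = N2362 := eqc rfl L100985 L89525
theorem L100992 : sm gd N2362 = N3809 := trf L100986 L37382 rfl
theorem L100993 : N3809 = N2799 := eqe L100992 L21888
theorem L100994 : N3809 = N2799 := eqc rfl L100993 rfl
theorem L101008 : sm gg N2799 = N5908 := trf L100994 L37452 rfl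
theorem L101009 : N5908 = N3894 := eqe L101008 L27537
theorem L101010 : N5908 = N3894 := eqc rfl L101009 rfl
theorem L101011 : sm ga N3894 = N5234 := trf L101010 L37454 rfl
theorem L101012 : N5234 = N3896 := eqe L101011 L27552
theorem L101013 : N5234 = N3896 := eqc rfl L101012 rfl
theorem L101022 : sm ge N3894 = N8006 := trf L101010 L49172 rfl
theorem L101023 : N8006 = N3979 := eqe L101022 L27950
theorem L101024 : N8006 = N3979 := eqc rfl L101023 rfl
theorem L101032 : sm gc N3979 = N10904 := trf L101024 L65231 rfl
theorem L101033 : N10904 = N4154 := eqe L101032 L28951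
theorem L101034 : N10904 = N4154 := eqc rfl L101033 rfl
theorem L101041 : sm ga N4154 = N11600 := trf L101034 L69098 rfl
theorem L101042 : N11600 = N4152 := eqe L101041 L28948
theorem L101043 : N11600 = N2408 := eqc rfl L101042 L95242
theorem L101049 : sm gf N4154 = N6564 := trf L101034 L65229 rfl
theorem L101050 : N6564 = N2949 := eqe L101049 L28947
theorem L101051 : N6564 = N2403 := eqc rfl L101050 L100945
theorem L101095 : sm gd N2403 = N10384 := trf L101051 L62119 rfl
theorem L101096 : N10384 = N1990 := eqe L101095 L20011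
theorem L101097 : N10384 = N1990 := eqc rfl L101096 rfl
theorem L101139 : sm gb N1990 = N6256 := trf L101097 L62117 rfl
theorem L101140 : N6256 = N2402 := eqe L101139 L20006
theorem L101141 : N6256 = N2402 := eqc rfl L101140 rfl
theorem L101153 : sm ga N2402 = N3993 := trf L101141 L39509 rfl
theorem L101154 : N3993 = N2455 := eqe L101153 L83061
theorem L101155 : N3993 = N2455 := eqc rfl L101154 rfl
theorem L101202 : sm gd N2455 = N2951 := trf L101155 L28025 rfl
theorem L101203 : N2951 = N2298 := eqe L101202 L20286
theorem L101204 : N2951 = N2298 := eqc rfl L101203 rfl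
theorem L101212 : sm gb N2298 = N2318 := trf L101204 L22736 rfl
theorem L101213 : sm gb N2318 = N2298 := flp_b L101212
theorem L101232 : sm gc N2408 = N7018 := trf L101043 L69096 rfl
theorem L101233 : N7018 = N3127 := eqe L101232 L23624
theorem L101234 : N7018 = N3127 := eqc rfl L101233 rfl
theorem L101242 : sm gb N3127 = N4386 := trf L101234 L43625 rfl
theorem L101243 : N4386 = N4503 := eqe L101242 L30622
theorem L101244 : N4503 = N4386 := (eqc rfl L101243 rfl).symm
theorem L101252 : sm gb N4386 = N3127 := trf L101244 L30623 rfl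
theorem L101253 : sm gb N3127 = N4386 := flp_b L101252
theorem L101264 : sm gb N3896 = N6871 := trf L101013 L43634 rfl
theorem L101265 : N6871 = N6067 := eqe L101264 L38190
theorem L101266 : N6871 = N6067 := eqc rfl L101265 rfl
theorem L101284 : N6231 = N4386 := L89260.trans L101244
theorem L101288 : sm gg N6067 = N10428 := trf L101266 L62393 rfl
theorem L101289 : N10428 = N6906 := eqe L101288 L42960
theorem L101290 : N10428 = N6906 := eqc rfl L101289 rfl
theorem L101291 : sm ga N6906 = N6862 := trf L101290 L62388 rfl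
theorem L101292 : N6862 = N4407 := eqe L101291 L42955
theorem L101293 : N6862 = N4407 := eqc rfl L101292 rfl
theorem L101302 : sm gc N4407 = N4441 := trf L101293 L68035 L98034
theorem L101303 : N4441 = N7050 := eqe L101302 L43820
theorem L101304 : N7050 = N4441 := (eqc rfl L101303 rfl).symm
theorem L101314 : sm gb N4441 = N6357 := trf L101304 L85040 rfl
theorem L101315 : N6357 = N7117 := eqe L101314 L44216
theorem L101316 : N7117 = N6357 := (eqc rfl L101315 rfl).symm
theorem L101319 : sm gd N4441 = N9954 := trf L101304 L85036 rfl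
theorem L101320 : N9954 = N7115 := eqe L101319 L44205
theorem L101321 : N9954 = N7115 := eqc rfl L101320 rfl
theorem L101334 : N9008 = N7108 := L93134.trans L94018
theorem L101335 : N9972 = N7108 := L93062.trans L101334
theorem L101356 : sm gb N7115 = N5980 := trf L101321 L59730 rfl
theorem L101357 : N5980 = N11765 := eqe L101356 L70068
theorem L101358 : N11765 = N5980 := (eqc rfl L101357 rfl).symm
theorem L101367 : sm gb N5980 = N7115 := trf L101358 L70069 rfl
theorem L101368 : sm gb N7115 = N5980 := flp_b L101367
theorem L101373 : sm gb N6357 = N4441 := trf L101316 L44217 rfl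
theorem L101374 : sm gb N4441 = N6357 := flp_b L101373
theorem L101381 : sm gf N6357 = N11769 := trf L101316 L70082 rfl
theorem L101382 : N11769 = N10555 := eqe L101381 L63191
theorem L101383 : N11769 = N10555 := eqc rfl L101382 rfl
theorem L101384 : sm gg N6357 = N11236 := trf L101316 L66982 rfl
theorem L101385 : N11236 = N10564 := eqe L101384 L63240
theorem L101386 : N11236 = N10564 := eqc rfl L101385 rfl
theorem L101387 : sm gb N10564 = N6756 := trf L101386 L66980 rfl
theorem L101395 : sm gb N10555 = N11751 := trf L101383 L70084 rfl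
theorem L101396 : sm gb N11751 = N10555 := flp_b L101395
theorem L101397 : sm ge N10555 = N11821 := trf L101383 L70365 rfl
theorem L101398 : N11821 = N6352 := eqe L101397 L63189
theorem L101399 : N11821 = N6352 := eqc rfl L101398 rfl
theorem L101400 : sm gb N6352 = N7752 := trf L101399 L70366 L94021
theorem L101401 : N7752 = N10542 := eqe L101400 L63095
theorem L101402 : N10542 = N7752 := (eqc rfl L101401 rfl).symm
theorem L101404 : sm gb N7752 = N6352 := trf L101402 L63094 rfl
theorem L101405 : sm gb N6352 = N7752 := flp_b L101404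
theorem L101406 : sm gd N7752 = N6345 := trf L101402 L63093 rfl
theorem L101407 : sm gd N6345 = N7752 := flp_d L101406
theorem L101571 : sm gb N1851 = N7219 := trf L100967 L71036 rfl
theorem L101572 : N7219 = N935 := eqe L101571 L9390
theorem L101573 : N7219 = N935 := eqc rfl L101572 rfl
theorem L101577 : sm gc N935 = N4496 := trf L101573 L44770 rfl
theorem L101578 : N4496 = N1739 := eqe L101577 L8870
theorem L101579 : N4496 = N1739 := eqc rfl L101578 rfl
theorem L101650 : sm gf N1739 = N7220 := trf L101579 L44771 rfl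
theorem L101651 : N7220 = N2317 := eqe L101650 L19566
theorem L101652 : N7220 = N2317 := eqc rfl L101651 rfl
theorem L101663 : sm gg N2317 = N10371 := trf L101652 L62028 rfl
theorem L101664 : N10371 = N2325 := eqe L101663 L19613
theorem L101665 : N10371 = N2325 := eqc rfl L101664 rfl
theorem L101668 : sm gb N2325 = N7754 := trf L101665 L62031 rfl
theorem L101669 : N7754 = N2964 := eqe L101668 L22799
theorem L101670 : N7754 = N2964 := eqc rfl L101669 rfl
theorem L101677 : sm gf N2964 = N10576 := trf L101670 L63320 rfl
theorem L101678 : N10576 = N4182 := eqe L101677 L29073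
theorem L101679 : N10576 = N3146 := eqc rfl L101678 L85685
theorem L101684 : sm gd N3146 = N6366 := trf L101679 L63317 rfl
theorem L101685 : N6366 = N2420 := eqe L101684 L23727
theorem L101686 : N6366 = N2420 := eqc rfl L101685 rfl
theorem L101698 : sm gg N2420 = N7859 := trf L101686 L48257 rfl
theorem L101699 : N7859 = N1997 := eqe L101698 L20111
theorem L101700 : N7859 = N1997 := eqc rfl L101699 rfl
theorem L101709 : sm ge N1997 = N5673 := trf L101700 L48254 rfl
theorem L101710 : N5673 = N1143 := eqe L101709 L10166
theorem L101711 : N5673 = N1143 := eqc rfl L101710 rfl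
theorem L101722 : sm gd N1143 = N9216 := trf L101711 L55935 rfl
theorem L101723 : N9216 = N2118 := eqe L101722 L18622
theorem L101724 : N9216 = N2118 := eqc rfl L101723 rfl
theorem L101730 : sm gb N2118 = N9320 := trf L101724 L56425 rfl
theorem L101731 : N9320 = N1141 := eqe L101730 L18620
theorem L101732 : N9320 = N1141 := eqc rfl L101731 rfl
theorem L101733 : sm gf N2118 = N4998 := trf L101724 L55931 L82099
theorem L101734 : N4998 = N2538 := eqe L101733 L20763
theorem L101735 : N4998 = N2538 := eqc rfl L101734 rfl
theorem L101762 : sm gf N2538 = N8190 := trf L101735 L50816 rfl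
theorem L101763 : N8190 = N2118 := eqe L101762 L20762
theorem L101764 : N8190 = N2118 := eqc rfl L101763 rfl
theorem L101774 : sm gb N2118 = N4997 := trf L101764 L50814 rfl
theorem L101775 : N4997 = N1141 := eqe L101774 L18620
theorem L101776 : N4997 = N1141 := eqc rfl L101775 rfl
theorem L101788 : sm gg N1141 = N5361 := trf L101776 L34926 rfl
theorem L101789 : N5361 = N1195 := eqe L101788 L6061
theorem L101790 : N5361 = N1195 := eqc rfl L101789 rfl
theorem L101799 : sm ge N1195 = N8806 := trf L101790 L53922 rfl
theorem L101800 : N8806 = N2168 := eqe L101799 L18838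
theorem L101801 : N8806 = N2168 := eqc rfl L101800 rfl
theorem L101806 : sm gf N2168 = N5345 := trf L101801 L53916 rfl
theorem L101807 : N5345 = N1191 := eqe L101806 L18832
theorem L101808 : N5345 = N1191 := eqc rfl L101807 rfl
theorem L101819 : sm gg N1191 = N8174 := trf L101808 L50746 rfl
theorem L101820 : N8174 = N582 := eqe L101819 L6035
theorem L101821 : N8174 = N582 := eqc rfl L101820 rfl
theorem L101827 : sm gf N582 = N8810 := trf L101821 L53947 rfl
theorem L101828 : N8810 = N1190 := eqe L101827 L6030
theorem L101829 : N8810 = N1190 := eqc rfl L101828 rfl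
theorem L101831 : sm gd N1190 = N9357 := trf L101829 L56602 rfl
theorem L101832 : N9357 = N2036 := eqe L101831 L10403
theorem L101833 : N9357 = N2036 := eqc rfl L101832 rfl
theorem L101842 : sm ge N2036 = N6584 := trf L101833 L63169 L83301
theorem L101843 : N6584 = N1035 := eqe L101842 L10404
theorem L101844 : N6584 = N1035 := eqc rfl L101843 rfl
theorem L101872 : sm gf N1035 = N8445 := trf L101844 L65416 L83313
theorem L101873 : N8445 = N503 := eqe L101872 L5126
theorem L101874 : N8445 = N503 := eqc rfl L101873 rfl
theorem L101886 : sm gg N503 = N6348 := trf L101874 L52053 rfl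
theorem L101887 : N6348 = N1036 := eqe L101886 L5129
theorem L101888 : N6348 = N1036 := eqc rfl L101887 rfl
theorem L101898 : sm gd N1036 = N8779 := trf L101888 L53762 rfl
theorem L101899 : N8779 = N505 := eqe L101898 L5131
theorem L101900 : N8779 = N505 := eqc rfl L101899 rfl
theorem L101965 : sm ge N505 = N5338 := trf L101900 L53763 rfl
theorem L101966 : N5338 = N289 := eqe L101965 L2510
theorem L101967 : N5338 = N289 := eqc rfl L101966 rfl
theorem L101971 : sm gb N289 = N8788 := trf L101967 L53809 rfl
theorem L101972 : N8788 = N587 := eqe L101971 L2875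
theorem L101973 : N8788 = N587 := eqc rfl L101972 rfl
theorem L101979 : sm gg N289 = N8166 := trf L101967 L50706 rfl
theorem L101980 : N8166 = N150 := eqe L101979 L1459
theorem L101981 : N8166 = N150 := eqc rfl L101980 rfl
theorem L101986 : sm gf N150 = N8793 := trf L101981 L53839 rfl
theorem L101987 : N8793 = N288 := eqe L101986 L1454
theorem L101988 : N8793 = N288 := eqc rfl L101987 rfl
theorem L101991 : sm gg N288 = N5340 := trf L101988 L53834 rfl
theorem L101992 : N5340 = N586 := eqe L101991 L2869
theorem L101993 : N5340 = N586 := eqc rfl L101992 rfl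
theorem L101995 : sm gb N586 = N7496 := trf L101993 L46352 rfl
theorem L101996 : N7496 = N1199 := eqe L101995 L6070
theorem L101997 : N7496 = N1199 := eqc rfl L101996 rfl
theorem L102050 : sm gf N1199 = N4633 := trf L101997 L46348 rfl
theorem L102051 : N4633 = N2185 := eqe L102050 L18905
theorem L102052 : N4633 = N2185 := eqc rfl L102051 rfl
theorem L102057 : sm gc N2185 = N7495 := trf L102052 L46343 rfl
theorem L102058 : N7495 = N2689 := eqe L102057 L21429
theorem L102059 : N7495 = N2689 := eqc rfl L102058 rfl
theorem L102065 : sm gb N2689 = N4652 := trf L102059 L46345 rfl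
theorem L102066 : N4652 = N3705 := eqe L102065 L26603
theorem L102067 : N4652 = N3705 := eqc rfl L102066 rfl
theorem L102075 : N7513 = N6011 := L86810.trans L87820
theorem L102076 : sm ge N3705 = N6011 := trf L102067 L46440 L102075
theorem L102077 : N6011 = N4819 := eqe L102076 L32322
theorem L102078 : N6011 = N4819 := eqc rfl L102077 rfl
theorem L102094 : sm gd N4819 = N8058 := trf L102078 L49437 rfl
theorem L102095 : N8058 = N3587 := eqe L102094 L93206
theorem L102096 : N8058 = N3587 := eqc rfl L102095 rfl
theorem L102097 : sm ge N4819 = N3863 := trf L102078 L37911 rfl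
theorem L102098 : N3863 = N3705 := eqe L102097 L32321
theorem L102099 : N3863 = N3705 := eqc rfl L102098 rfl
theorem L102114 : N6532 = N4819 := L87820.trans L102078
theorem L102124 : sm gf N3705 = N3830 := trf L102099 L87840 rfl
theorem L102125 : N3830 = N2711 := eqe L102124 L26607
theorem L102126 : N3830 = N2711 := eqc rfl L102125 rfl
theorem L102129 : N5939 = N3751 := L87828.trans L92231
theorem L102131 : sm gb N2711 = N5946 := trf L102126 L37618 rfl
theorem L102132 : N5946 = N2195 := eqe L102131 L21507
theorem L102133 : N5946 = N2195 := eqc rfl L102132 rfl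
theorem L102138 : sm gg N2711 = N2759 := trf L102126 L27200 rfl
theorem L102139 : N2759 = N3752 := eqe L102138 L26791
theorem L102140 : N3752 = N2759 := (eqc rfl L102139 rfl).symm
theorem L102153 : sm gg N2759 = N2711 := trf L102140 L26792 rfl
theorem L102154 : sm gg N2711 = N2759 := flp_g L102153
theorem L102185 : sm gg N2195 = N8752 := trf L102133 L53604 rfl
theorem L102186 : N8752 = N2126 := eqe L102185 L18953
theorem L102187 : N8752 = N2126 := eqc rfl L102186 rfl
theorem L102188 : sm ga N2126 = N6946 := trf L102187 L59002 rfl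
theorem L102189 : N6946 = N1146 := eqe L102188 L18653
theorem L102190 : N6946 = N1146 := eqc rfl L102189 rfl
theorem L102205 : sm gf N1146 = N11486 := trf L102190 L68549 rfl
theorem L102206 : N11486 = N1879 := eqe L102205 L18536
theorem L102207 : N11486 = N1879 := eqc rfl L102206 rfl
theorem L102212 : sm gd N1879 = N6949 := trf L102207 L68551 rfl
theorem L102213 : N6949 = N2394 := eqe L102212 L80510
theorem L102214 : N6949 = N2394 := eqc rfl L102213 rfl
theorem L102227 : sm gg N2394 = N5949 := trf L102214 L58956 rfl
theorem L102228 : N5949 = N2193 := eqe L102227 L19950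
theorem L102229 : N5949 = N2193 := eqc rfl L102228 rfl
theorem L102230 : sm ga N2193 = N9020 := trf L102229 L54950 rfl
theorem L102231 : N9020 = N1209 := eqe L102230 L18941
theorem L102232 : N9020 = N1209 := eqc rfl L102231 rfl
theorem L102240 : sm ge N2193 = N8035 := trf L102229 L49326 rfl
theorem L102241 : N8035 = N2488 := eqe L102240 L20472
theorem L102242 : N8035 = N2488 := eqc rfl L102241 rfl
theorem L102244 : sm gb N2488 = N9923 := trf L102242 L59568 rfl
theorem L102245 : N9923 = N3298 := eqe L102244 L24655
theorem L102246 : N9923 = N3298 := eqc rfl L102245 rfl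
theorem L102710 : sm gc N3298 = N6008 := trf L102246 L59562 rfl
theorem L102711 : N6008 = N2688 := eqe L102710 L79941
theorem L102712 : N6008 = N2688 := eqc rfl L102711 rfl
theorem L102714 : sm gf N3298 = N6004 := trf L102246 L59566 rfl
theorem L102716 : N4913 = N3699 := L93293.trans L98949
theorem L102724 : sm ge N2688 = N6006 := trf L102712 L50605 rfl
theorem L102725 : N6006 = N3298 := eqe L102724 L79939
theorem L102726 : N6006 = N3298 := eqc rfl L102725 rfl
theorem L102728 : sm gg N2688 = N10010 := trf L102712 L60016 rfl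
theorem L102729 : N10010 = N3688 := eqe L102728 L26552
theorem L102730 : N10010 = N3688 := eqc rfl L102729 rfl
theorem L102731 : sm ga N3688 = N8057 := trf L102730 L60018 rfl
theorem L102732 : N8057 = N5660 := eqe L102731 L36287
theorem L102733 : N8057 = N5660 := eqc rfl L102732 rfl
theorem L102734 : sm ge N3688 = N10004 := trf L102730 L60020 rfl
theorem L102735 : N10004 = N5662 := eqe L102734 L36294
theorem L102736 : N10004 = N4859 := eqc rfl L102735 L75617
theorem L102739 : sm ga N4859 = N6009 := trf L102736 L59992 rfl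
theorem L102740 : sm ga N6009 = N4859 := flp_a L102739
theorem L102742 : sm gb N5660 = N10580 := trf L102733 L63340 rfl
theorem L102743 : N10580 = N9415 := eqe L102742 L56907
theorem L102744 : N10580 = N6757 := eqc rfl L102743 L99075
theorem L102747 : sm ge N5660 = N6009 := trf L102733 L49430 rfl
theorem L102748 : N6009 = N5698 := eqe L102747 L98982
theorem L102749 : N6009 = N5052 := eqc rfl L102748 L98992
theorem L102753 : sm ga N5052 = N4859 := trf L102749 L102740 rfl
theorem L102754 : N4859 = N8285 := eqe L102753 L51286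
theorem L102755 : N8285 = N4859 := (eqc rfl L102754 rfl).symm
theorem L102759 : sm gc N5052 = N8288 := trf L102749 L59959 L98576
theorem L102760 : N8288 = N8287 := eqe L102759 L51295
theorem L102761 : N8288 = N8287 := eqc rfl L102760 rfl
theorem L102773 : sm ga N4859 = N5052 := trf L102755 L51285 rfl
theorem L102774 : sm ga N5052 = N4859 := flp_a L102773
theorem L102779 : sm gg N6757 = N6367 := trf L102744 L63336 rfl
theorem L102780 : N6367 = N4541 := eqe L102779 L84440
theorem L102781 : N6367 = N4541 := eqc rfl L102780 rfl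
theorem L102787 : sm gc N4541 = N10569 := trf L102781 L63273 rfl
theorem L102788 : N10569 = N7310 := eqe L102787 L45285
theorem L102789 : N10569 = N7310 := eqc rfl L102788 rfl
theorem L102803 : sm gb N7310 = N6360 := trf L102789 L63269 rfl
theorem L102804 : N6360 = N5974 := eqe L102803 L84506
theorem L102805 : N6360 = N5974 := eqc rfl L102804 rfl
theorem L102806 : sm ge N7310 = N9977 := trf L102789 L63270 rfl
theorem L102807 : N9977 = N7015 := eqe L102806 L98154
theorem L102808 : N9977 = N7015 := eqc rfl L102807 rfl
theorem L102810 : sm gb N7015 = N5986 := trf L102808 L59839 rfl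
theorem L102811 : N5986 = N11594 := eqe L102810 L69065
theorem L102812 : N11594 = N5986 := (eqc rfl L102811 rfl).symm
theorem L102817 : sm gd N5986 = N7052 := trf L102812 L98159 rfl
theorem L102818 : N7052 = N9971 := eqe L102817 L59817
theorem L102819 : N9971 = N7052 := (eqc rfl L102818 rfl).symm
theorem L102820 : sm gf N5986 = N4045 := trf L102812 L69079 L98183
theorem L102821 : N4045 = N3849 := eqe L102820 L37775
theorem L102822 : N4045 = N3849 := eqc rfl L102821 rfl
theorem L102823 : sm ga N3849 = N2888 := trf L102822 L28335 rfl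
theorem L102824 : N2888 = N4895 := eqe L102823 L32773
theorem L102825 : N4895 = N2888 := (eqc rfl L102824 rfl).symm
theorem L102826 : sm gc N3849 = N2887 := trf L102822 L28334 rfl
theorem L102827 : N2887 = N2771 := eqe L102826 L27281
theorem L102828 : N2887 = N2771 := eqc rfl L102827 rfl
theorem L102829 : sm gd N3849 = N6355 := trf L102822 L40074 rfl
theorem L102830 : N6355 = N5982 := eqe L102829 L37759
theorem L102831 : N6355 = N5982 := eqc rfl L102830 rfl
theorem L102834 : sm gf N3849 = N5912 := trf L102822 L37473 rfl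
theorem L102835 : N5912 = N5986 := eqe L102834 L37774
theorem L102836 : N5986 = N5912 := (eqc rfl L102835 rfl).symm
theorem L102837 : sm gg N3849 = N3821 := trf L102822 L28339 rfl
theorem L102838 : N3821 = N2769 := eqe L102837 L27280
theorem L102839 : N3821 = N2769 := eqc rfl L102838 rfl
theorem L102841 : sm gb N2769 = N5910 := trf L102839 L37463 rfl
theorem L102842 : N5910 = N3846 := eqe L102841 L27269
theorem L102843 : N5910 = N3846 := eqc rfl L102842 rfl
theorem L102849 : sm gf N2769 = N5927 := trf L102839 L37535 rfl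
theorem L102850 : N5927 = N3848 := eqe L102849 L27275
theorem L102851 : N5927 = N3848 := eqc rfl L102850 rfl
theorem L102854 : sm gc N3848 = N3820 := trf L102851 L37533 rfl
theorem L102855 : N3820 = N2770 := eqe L102854 L27277
theorem L102856 : N3820 = N2770 := eqc rfl L102855 rfl
theorem L102857 : sm gd N3848 = N9877 := trf L102851 L59328 rfl
theorem L102858 : N9877 = N5981 := eqe L102857 L37755
theorem L102859 : N9877 = N5981 := eqc rfl L102858 rfl
theorem L102860 : sm ge N3848 = N5984 := trf L102851 L37769 rfl
theorem L102861 : N5984 = N4043 := eqe L102860 L28324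
theorem L102862 : N5984 = N4043 := eqc rfl L102861 rfl
theorem L102872 : sm gd N4043 = N9969 := trf L102862 L59805 rfl
theorem L102873 : N9969 = N6352 := eqe L102872 L40060
theorem L102874 : N9969 = N6352 := eqc rfl L102873 rfl
theorem L102876 : sm gg N4043 = N3848 := trf L102862 L37765 rfl
theorem L102877 : sm gg N3848 = N4043 := flp_g L102876
theorem L102880 : sm gf N6352 = N8020 := trf L102874 L59807 rfl
theorem L102881 : N8020 = N4046 := eqe L102880 L40062
theorem L102882 : N8020 = N4046 := eqc rfl L102881 rfl
theorem L102888 : sm gg N4046 = N5973 := trf L102882 L49257 rfl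
theorem L102889 : N5973 = N6358 := eqe L102888 L40086
theorem L102890 : N6358 = N5973 := (eqc rfl L102889 rfl).symm
theorem L102894 : sm gc N5973 = N10563 := trf L102890 L63239 rfl
theorem L102895 : N10563 = N9948 := eqe L102894 L59700
theorem L102896 : N10563 = N9948 := eqc rfl L102895 rfl
theorem L102898 : sm ge N5973 = N10564 := trf L102890 L63247 rfl
theorem L102899 : N10564 = N9949 := eqe L102898 L59706
theorem L102900 : N10564 = N9949 := eqc rfl L102899 rfl
theorem L102904 : sm gg N5973 = N4046 := trf L102890 L40087 rfl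
theorem L102905 : sm gg N4046 = N5973 := flp_g L102904
theorem L102913 : sm gb N9949 = N6756 := trf L102900 L101387 rfl
theorem L102914 : sm gb N6756 = N9949 := flp_b L102913
theorem L102915 : sm gd N9949 = N9967 := trf L102900 L63244 rfl
theorem L102916 : N9967 = N10560 := eqe L102915 L63227
theorem L102917 : N10560 = N9967 := (eqc rfl L102916 rfl).symm
theorem L102918 : sm gg N9949 = N6357 := trf L102900 L63241 rfl
theorem L102919 : sm gg N6357 = N9949 := flp_g L102918
theorem L102920 : sm ga N9967 = N6357 := trf L102917 L63222 rfl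
theorem L102921 : sm ga N6357 = N9967 := flp_a L102920
theorem L102922 : sm gd N9967 = N9949 := trf L102917 L63226 rfl
theorem L102923 : sm gd N9949 = N9967 := flp_d L102922
theorem L102927 : sm ga N9948 = N9878 := trf L102896 L63236 rfl
theorem L102928 : N9878 = N5979 := eqe L102927 L59702
theorem L102929 : N9878 = N5979 := eqc rfl L102928 rfl
theorem L102930 : sm gg N9948 = N6356 := trf L102896 L63235 rfl
theorem L102931 : sm gg N6356 = N9948 := flp_g L102930
theorem L102933 : sm gd N5979 = N9965 := trf L102929 L59789 rfl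
theorem L102934 : N9965 = N9962 := eqe L102933 L59768
theorem L102935 : N9965 = N9962 := eqc rfl L102934 rfl
theorem L102940 : sm gg N9962 = N5979 := trf L102935 L59785 rfl
theorem L102941 : sm gg N5979 = N9962 := flp_g L102940
theorem L102964 : sm gg N5981 = N6352 := trf L102859 L59332 rfl
theorem L102965 : sm gg N6352 = N5981 := flp_g L102964
theorem L102967 : sm gb N2770 = N2754 := trf L102856 L27128 rfl
theorem L102968 : N2754 = N2241 := eqe L102967 L21773
theorem L102969 : N2754 = N2241 := eqc rfl L102968 rfl
theorem L102971 : sm gg N2770 = N2883 := trf L102856 L27131 rfl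
theorem L102972 : sm gg N2883 = N2770 := flp_g L102971
theorem L102979 : sm gg N2241 = N2764 := trf L102969 L21753 rfl
theorem L102980 : N2764 = N2795 := eqe L102979 L21865
theorem L102981 : N2795 = N2764 := (eqc rfl L102980 rfl).symm
theorem L102983 : sm gb N2764 = N3334 := trf L102981 L27090 rfl
theorem L102984 : N3334 = N2884 := eqe L102983 L27093
theorem L102985 : N3334 = N2884 := eqc rfl L102984 rfl
theorem L102991 : sm gf N2764 = N2790 := trf L102981 L21868 rfl
theorem L102992 : N2790 = N2226 := eqe L102991 L21750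
theorem L102993 : N2790 = N2226 := eqc rfl L102992 rfl
theorem L102994 : sm gg N2764 = N2241 := trf L102981 L21866 rfl
theorem L102995 : sm gg N2241 = N2764 := flp_g L102994
theorem L102997 : sm gb N2226 = N3833 := trf L102993 L50497 rfl
theorem L102998 : N3833 = N2762 := eqe L102997 L21742
theorem L102999 : N3833 = N2762 := eqc rfl L102998 rfl
theorem L103001 : sm gd N2226 = N2880 := trf L102993 L22335 rfl
theorem L103002 : N2880 = N2512 := eqe L103001 L20643
theorem L103003 : N2880 = N2512 := eqc rfl L103002 rfl
theorem L103005 : sm gg N2226 = N2239 := trf L102993 L21848 rfl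
theorem L103006 : N2239 = N2752 := eqe L103005 L21709
theorem L103007 : N2752 = N2239 := (eqc rfl L103006 rfl).symm
theorem L103015 : sm gg N2239 = N2226 := trf L103007 L21708 rfl
theorem L103016 : sm gg N2226 = N2239 := flp_g L103015
theorem L103018 : sm gb N2512 = N3834 := trf L103003 L27220 rfl
theorem L103019 : N3834 = N3332 := eqe L103018 L24891
theorem L103020 : N3834 = N3332 := eqc rfl L103019 rfl
theorem L103029 : sm gc N3332 = N3332 := trf L103020 L50492 rfl
theorem L103036 : sm gc N2762 = N2762 := trf L102999 L27214 rfl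
theorem L103037 : sm gf N2762 = N3332 := trf L102999 L50503 rfl
theorem L103038 : sm gf N3332 = N2762 := flp_f L103037
theorem L103041 : sm gd N2884 = N2764 := trf L102985 L24908 rfl
theorem L103042 : sm gd N2764 = N2884 := flp_d L103041
theorem L103043 : sm ge N2884 = N2764 := trf L102985 L24910 rfl
theorem L103044 : sm ge N2764 = N2884 := flp_e L103043
theorem L103045 : sm gf N2884 = N2512 := trf L102985 L24905 rfl
theorem L103046 : sm gf N2512 = N2884 := flp_f L103045
theorem L103058 : sm gf N3846 = N9851 := trf L102843 L59141 rfl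
theorem L103059 : N9851 = N5977 := eqe L103058 L37740
theorem L103060 : N9851 = N5936 := eqc rfl L103059 L88965
theorem L103084 : N9890 = N6322 := L73862.trans L89024
theorem L103089 : N8025 = N6225 := L73868.trans L88920
theorem L103103 : N7132 = N6226 := L89102.trans L89369
theorem L103114 : N7150 = N7015 := L75640.trans L98136
theorem L103118 : sm gf N5912 = N3849 := trf L102836 L37775 rfl
theorem L103119 : sm gf N3849 = N5912 := flp_f L103118
theorem L103122 : sm ga N5982 = N4046 := trf L102831 L40076 rfl
theorem L103123 : sm ga N4046 = N5982 := flp_a L103122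
theorem L103124 : sm gb N5982 = N7076 := trf L102831 L80669 rfl
theorem L103125 : N7076 = N9970 := eqe L103124 L59808
theorem L103126 : N9970 = N7076 := (eqc rfl L103125 rfl).symm
theorem L103127 : sm gc N5982 = N9962 := trf L102831 L59772 rfl
theorem L103128 : sm gc N9962 = N5982 := flp_c L103127
theorem L103131 : sm gb N7076 = N5982 := trf L103126 L59809 rfl
theorem L103132 : sm gb N5982 = N7076 := flp_b L103131
theorem L103133 : sm gd N7076 = N5985 := trf L103126 L59810 rfl
theorem L103134 : sm gd N5985 = N7076 := flp_d L103133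
theorem L103137 : sm gb N2771 = N3793 := trf L102828 L27141 rfl
theorem L103138 : N3793 = N2808 := eqe L103137 L21916
theorem L103139 : N3793 = N2808 := eqc rfl L103138 rfl
theorem L103140 : sm gd N2771 = N2768 := trf L102828 L22386 rfl
theorem L103141 : N2768 = N2889 := eqe L103140 L22397
theorem L103142 : N2889 = N2768 := (eqc rfl L103141 rfl).symm
theorem L103145 : sm gf N2771 = N3811 := trf L102828 L27143 rfl
theorem L103146 : sm gf N3811 = N2771 := flp_f L103145
theorem L103152 : sm gd N2768 = N2771 := trf L103142 L22396 rfl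
theorem L103153 : sm gd N2771 = N2768 := flp_d L103152
theorem L103154 : sm ge N2768 = N2771 := trf L103142 L22398 rfl
theorem L103155 : sm ge N2771 = N2768 := flp_e L103154
theorem L103164 : sm gf N2808 = N2756 := trf L103139 L27109 rfl
theorem L103165 : N2756 = N3870 := eqe L103164 L27390
theorem L103166 : N3870 = N2756 := (eqc rfl L103165 rfl).symm
theorem L103182 : sm gf N2756 = N2808 := trf L103166 L27389 rfl
theorem L103183 : sm gf N2808 = N2756 := flp_f L103182
theorem L103184 : sm gg N2756 = N2896 := trf L103166 L27391 rfl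
theorem L103185 : N2896 = N3824 := eqe L103184 L27169
theorem L103186 : N3824 = N2896 := (eqc rfl L103185 rfl).symm
theorem L103193 : sm gg N2896 = N2756 := trf L103186 L27170 rfl
theorem L103194 : sm gg N2756 = N2896 := flp_g L103193
theorem L103195 : sm ga N2888 = N3849 := trf L102825 L32772 rfl
theorem L103196 : sm ga N3849 = N2888 := flp_a L103195
theorem L103200 : sm gf N7052 = N5982 := trf L102819 L59813 rfl
theorem L103201 : sm gf N5982 = N7052 := flp_f L103200
theorem L103202 : sm gg N7052 = N9950 := trf L102819 L59818 rfl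
theorem L103203 : N9950 = N11663 := eqe L103202 L69445
theorem L103204 : N11663 = N9950 := (eqc rfl L103203 rfl).symm
theorem L103205 : sm gb N9950 = N7341 := trf L103204 L98879 rfl
theorem L103206 : sm gb N7341 = N9950 := flp_b L103205
theorem L103207 : sm gg N9950 = N7052 := trf L103204 L69446 rfl
theorem L103208 : sm gg N7052 = N9950 := flp_g L103207
theorem L103211 : sm gg N5974 = N5912 := trf L102805 L40104 rfl
theorem L103212 : sm gg N5912 = N5974 := flp_g L103211
theorem L103225 : sm gf N3298 = N3699 := trf L102726 L50601 L102716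
theorem L103226 : N3699 = N6004 := eqe L103225 L102714
theorem L103227 : N6004 = N3699 := (eqc rfl L103226 rfl).symm
theorem L103240 : N9999 = N8287 := L98576.trans L102761
theorem L103241 : sm gg N3699 = N8287 := trf L103227 L59956 L103240
theorem L103242 : N8287 = N5660 := eqe L103241 L36289
theorem L103243 : N8287 = N5660 := eqc rfl L103242 rfl
theorem L103267 : N3864 = N2572 := L87752.trans L93282
theorem L103292 : sm gb N1209 = N5464 := trf L102232 L54946 rfl
theorem L103293 : N5464 = N2184 := eqe L103292 L18904
theorem L103294 : N5464 = N2184 := eqc rfl L103293 rfl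
theorem L103305 : sm ge N2184 = N7584 := trf L103294 L46829 rfl
theorem L103306 : N7584 = N2479 := eqe L103305 L20414
theorem L103307 : N7584 = N2479 := eqc rfl L103306 rfl
theorem L103343 : N8328 = N3641 := L92424.trans L92425
theorem L103357 : sm gf N2479 = N10869 := trf L103307 L65006 rfl
theorem L103358 : N10869 = N3281 := eqe L103357 L24563
theorem L103359 : N10869 = N3281 := eqc rfl L103358 rfl
theorem L103361 : sm gc N3281 = N7585 := trf L103359 L65005 rfl
theorem L103362 : N7585 = N2480 := eqe L103361 L24565
theorem L103363 : N7585 = N2480 := eqc rfl L103362 rfl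
theorem L103366 : sm gb N2480 = N4910 := trf L103363 L65027 L82561
theorem L103367 : N4910 = N2422 := eqe L103366 L20421
theorem L103368 : N4910 = N2422 := eqc rfl L103367 rfl
theorem L103378 : sm gg N2422 = N3125 := trf L103368 L50350 L100263
theorem L103379 : N3125 = N3158 := eqe L103378 L23789
theorem L103380 : N3158 = N3125 := (eqc rfl L103379 rfl).symm
theorem L103381 : sm ga N3125 = N3140 := trf L103380 L23791 rfl
theorem L103382 : N3140 = N4497 := eqe L103381 L30598
theorem L103383 : N3537 = N3140 := (eqc rfl L103382 L81540).symm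
theorem L103457 : sm gc N3587 = N10023 := trf L102096 L60081 rfl
theorem L103458 : N10023 = N2637 := eqe L103457 L26098
theorem L103459 : N10023 = N2637 := eqc rfl L103458 rfl
theorem L103464 : sm ga N2637 = N8062 := trf L103459 L60078 rfl
theorem L103465 : N8062 = N2161 := eqe L103464 L21209
theorem L103466 : N8062 = N2161 := eqc rfl L103465 rfl
theorem L103473 : sm gg N2161 = N10583 := trf L103466 L63356 rfl
theorem L103474 : N10583 = N2636 := eqe L103473 L21207
theorem L103475 : N10583 = N2636 := eqc rfl L103474 rfl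
theorem L103476 : sm gc N2636 = N4138 := trf L103475 L63353 L87883
theorem L103477 : N4138 = N3584 := eqe L103476 L26089
theorem L103478 : N4138 = N3584 := eqc rfl L103477 rfl
theorem L103479 : sm ge N2636 = N6369 := trf L103475 L63352 rfl
theorem L103480 : N6369 = N3212 := eqe L103479 L24090
theorem L103481 : N6369 = N2969 := eqc rfl L103480 L86835
theorem L103491 : sm gf N2969 = N10584 := trf L103481 L63357 rfl
theorem L103492 : N10584 = N7455 := eqe L103491 L87324
theorem L103493 : N10584 = N3150 := eqc rfl L103492 L90467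
theorem L103498 : sm gd N3150 = N10028 := trf L103493 L63361 rfl
theorem L103499 : N10028 = N2958 := eqe L103498 L75003
theorem L103500 : N10028 = N2958 := eqc rfl L103499 rfl
theorem L103506 : sm gg N2958 = N6017 := trf L103500 L60101 rfl
theorem L103507 : N6017 = N2983 := eqe L103506 L22884
theorem L103508 : N6017 = N2983 := eqc rfl L103507 rfl
theorem L103517 : N4225 = N3751 := L87758.trans L92231
theorem L103520 : sm gf N2983 = N3865 := trf L103508 L37937 rfl
theorem L103521 : N3865 = N2334 := eqe L103520 L22880
theorem L103522 : N3865 = N2334 := eqc rfl L103521 rfl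
theorem L103524 : sm gb N2334 = N6014 := trf L103522 L37924 rfl
theorem L103525 : N6014 = N2982 := eqe L103524 L22875
theorem L103526 : N6014 = N2982 := eqc rfl L103525 rfl
theorem L103535 : sm gc N2982 = N9000 := trf L103526 L54854 rfl

end Cfsg.Agent.Helper28.SuzA
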