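import Cfsg.Agent.Helper28.SuzB8

/-! # The Suzuki group presentation, cosets of the subgroup generated by a, …, f: the coset enumeration, part 9 (helper28; generated) -/

set_option autoImplicit false

noncomputable section

namespace Cfsg.Agent.Helper28.SuzA

open Cfsg.Agent.Helper28.CosetTable

theorem L103536 : N9000 = N4140 := eqe L103535 L28859
theorem L103537 : N9000 = N4140 := eqc rfl L103536 rfl
theorem L103552 : sm gb N4140 = N5445 := trf L103537 L54852 rfl
theorem L103553 : N5445 = N2942 := eqe L103552 L28855
theorem L103554 : N5445 = N2942 := eqc rfl L103553 rfl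
theorem L103558 : sm gd N2942 = N9001 := trf L103554 L54855 rfl
theorem L103559 : N9001 = N4129 := eqe L103558 L28804
theorem L103560 : N9001 = N4129 := eqc rfl L103559 rfl
theorem L103573 : sm gc N4129 = N8923 := trf L103560 L54860 rfl
theorem L103574 : N8923 = N6513 := eqe L103573 L40896
theorem L103575 : N8923 = N6513 := eqc rfl L103574 rfl
theorem L103576 : sm ga N6513 = N5399 := trf L103575 L54447 rfl
theorem L103577 : N5399 = N10827 := eqe L103576 L64779
theorem L103578 : N5399 = N5375 := eqc rfl L103577 L86795
theorem L103581 : sm gb N5375 = N8834 := trf L103578 L54038 rfl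
theorem L103582 : N8834 = N8802 := eqe L103581 L53892
theorem L103583 : N8834 = N8802 := eqc rfl L103582 rfl
theorem L103587 : sm gd N5375 = N3567 := trf L103578 L35103 rfl
theorem L103588 : N3567 = N8876 := eqe L103587 L54217
theorem L103589 : N8876 = N3567 := (eqc rfl L103588 rfl).symm
theorem L103593 : sm gf N5375 = N8927 := trf L103578 L54461 rfl
theorem L103594 : N8927 = N8877 := eqe L103593 L54219
theorem L103595 : N8927 = N8877 := eqc rfl L103594 rfl
theorem L103596 : sm gg N5375 = N8917 := trf L103578 L54422 rfl
theorem L103597 : N8917 = N8871 := eqe L103596 L54194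
theorem L103598 : N8917 = N8871 := eqc rfl L103597 rfl
theorem L103599 : sm gd N8871 = N5394 := trf L103598 L54420 rfl
theorem L103601 : sm gd N8877 = N5400 := trf L103595 L54463 rfl
theorem L103603 : sm gd N3567 = N5375 := trf L103589 L54218 rfl
theorem L103604 : sm gd N5375 = N3567 := flp_d L103603
theorem L103608 : sm gd N8802 = N5357 := trf L103583 L54036 rfl
theorem L103609 : sm gd N5357 = N8802 := flp_d L103608
theorem L103652 : N6018 = N4863 := L87930.trans L93145
theorem L103665 : sm ga N587 = N11035 := trf L101973 L65903 rfl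
theorem L103666 : N11035 = N1200 := eqe L103665 L6072
theorem L103667 : N11035 = N1200 := eqc rfl L103666 rfl
theorem L103672 : sm gg N587 = N11032 := trf L101973 L65890 rfl
theorem L103673 : N11032 = N1188 := eqe L103672 L6021
theorem L103674 : N11032 = N1188 := eqc rfl L103673 rfl
theorem L103684 : sm ge N1188 = N6669 := trf L103674 L65886 rfl
theorem L103685 : N6669 = N2030 := eqe L103684 L10360
theorem L103686 : N6669 = N2030 := eqc rfl L103685 rfl
theorem L103699 : sm gf N2030 = N11107 := trf L103686 L66246 rfl
theorem L103700 : N11107 = N2451 := eqe L103699 L20267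
theorem L103701 : N11107 = N1039 := eqc rfl L103700 L94616
theorem L103709 : sm gg N1039 = N11115 := trf L103701 L66296 rfl
theorem L103710 : N11115 = N2030 := eqe L103709 L10363
theorem L103711 : N11115 = N2030 := eqc rfl L103710 rfl
theorem L103715 : sm gd N2030 = N6733 := trf L103711 L66293 rfl
theorem L103716 : N6733 = N2445 := eqe L103715 L20235
theorem L103717 : N6733 = N2445 := eqc rfl L103716 rfl
theorem L103718 : sm gf N2030 = N6672 := trf L103711 L66290 rfl
theorem L103719 : N6672 = N2451 := eqe L103718 L20267
theorem L103720 : N6672 = N1039 := eqc rfl L103719 L94616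
theorem L103728 : sm ge N1039 = N1200 := trf L103720 L65907 L103667
theorem L103729 : N1200 = N587 := eqe L103728 L5147
theorem L103730 : N1200 = N587 := eqc rfl L103729 rfl
theorem L103732 : sm ga N587 = N587 := trf L103730 L6073 rfl
theorem L103789 : sm ge N2445 = N8761 := trf L103717 L53662 rfl
theorem L103790 : N8761 = N3201 := eqe L103789 L24034
theorem L103791 : N8761 = N3201 := eqc rfl L103790 rfl
theorem L103795 : sm ga N3201 = N10885 := trf L103791 L65115 rfl
theorem L103796 : N10885 = N3201 := eqe L103795 L94695
theorem L103797 : N10885 = N3201 := eqc rfl L103796 rfl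
theorem L103799 : sm gc N3201 = N3201 := trf L103791 L65117 L103797
theorem L103800 : N3201 = N4643 := eqe L103799 L31402
theorem L103801 : N4643 = N3201 := (eqc rfl L103800 rfl).symm
theorem L103804 : sm gg N3201 = N10884 := trf L103791 L65110 rfl
theorem L103805 : N10884 = N2464 := eqe L103804 L24035
theorem L103806 : N10884 = N2464 := eqc rfl L103805 rfl
theorem L103807 : sm ga N2464 = N6546 := trf L103806 L65104 rfl
theorem L103808 : N6546 = N2464 := eqe L103807 L94711
theorem L103809 : N6546 = N2464 := eqc rfl L103808 rfl
theorem L103810 : sm gc N2464 = N2464 := trf L103806 L65106 L103809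
theorem L103811 : N2464 = N3245 := eqe L103810 L24389
theorem L103812 : N3245 = N2464 := (eqc rfl L103811 rfl).symm
theorem L103814 : sm gf N2464 = N6544 := trf L103806 L65103 rfl
theorem L103815 : N6544 = N3246 := eqe L103814 L24393
theorem L103816 : N6544 = N3201 := eqc rfl L103815 L94657
theorem L103823 : sm gd N3201 = N10843 := trf L103816 L64856 rfl
theorem L103824 : N10843 = N2623 := eqe L103823 L24031
theorem L103825 : N10843 = N2623 := eqc rfl L103824 rfl
theorem L103841 : sm gb N2623 = N7363 := trf L103825 L64861 rfl
theorem L103842 : N7363 = N2153 := eqe L103841 L21139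
theorem L103843 : N7363 = N2153 := eqc rfl L103842 rfl
theorem L103846 : sm ga N2153 = N10629 := trf L103843 L63639 rfl
theorem L103847 : N10629 = N2602 := eqe L103846 L21045
theorem L103848 : N10629 = N2602 := eqc rfl L103847 rfl
theorem L103854 : sm gg N2602 = N11457 := trf L103848 L68414 rfl
theorem L103855 : N11457 = N2143 := eqe L103854 L21043
theorem L103856 : N11457 = N2143 := eqc rfl L103855 rfl
theorem L103857 : sm gb N2143 = N6926 := trf L103856 L68411 rfl
theorem L103858 : N6926 = N2590 := eqe L103857 L20983
theorem L103859 : N6926 = N2590 := eqc rfl L103858 rfl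
theorem L103983 : sm gf N2590 = N11461 := trf L103859 L68433 rfl
theorem L103984 : N11461 = N3496 := eqe L103983 L25701
theorem L103985 : N11461 = N3496 := eqc rfl L103984 rfl
theorem L104000 : sm gg N3496 = N11451 := trf L103985 L68440 rfl
theorem L104001 : N11451 = N5246 := eqe L104000 L34410
theorem L104002 : N11451 = N3605 := eqc rfl L104001 L95461
theorem L104009 : sm gf N3605 = N2923 := trf L104002 L68370 L86968
theorem L104010 : N2923 = N4962 := eqe L104009 L95382
theorem L104011 : N4962 = N2923 := (eqc rfl L104010 rfl).symm
theorem L104016 : sm gc N2923 = N8136 := trf L104011 L49877 rfl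
theorem L104017 : N8136 = N4102 := eqe L104016 L28645
theorem L104018 : N8136 = N4102 := eqc rfl L104017 rfl
theorem L104040 : sm ge N4102 = N4967 := trf L104018 L49879 rfl
theorem L104041 : N4967 = N4266 := eqe L104040 L29439
theorem L104042 : N4967 = N4266 := eqc rfl L104041 rfl
theorem L104043 : sm ga N4266 = N8145 := trf L104042 L49924 rfl
theorem L104044 : N8145 = N4107 := eqe L104043 L29436
theorem L104045 : N8145 = N3495 := eqc rfl L104044 L95564
theorem L104089 : sm gc N3495 = N4966 := trf L104045 L49922 rfl
theorem L104090 : N4966 = N2592 := eqe L104089 L25699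
theorem L104091 : N4966 = N2592 := eqc rfl L104090 rfl
theorem L104095 : sm gb N2592 = N8144 := trf L104091 L49917 rfl
theorem L104096 : N8144 = N9306 := eqe L104095 L100590
theorem L104097 : N9306 = N8144 := (eqc rfl L104096 rfl).symm
theorem L104109 : sm gd N8144 = N1743 := trf L104097 L56352 L100611
theorem L104110 : N1743 = N4975 := eqe L104109 L49919
theorem L104111 : N4975 = N1743 := (eqc rfl L104110 rfl).symm
theorem L104149 : sm gg N1743 = N5319 := trf L104111 L36336 rfl
theorem L104150 : N5319 = N2327 := eqe L104149 L19618
theorem L104151 : N5319 = N2147 := eqc rfl L104150 L91994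
theorem L104152 : sm ga N2147 = N3531 := trf L104151 L34755 rfl
theorem L104153 : N3531 = N2608 := eqe L104152 L21064
theorem L104154 : N3531 = N2459 := eqc rfl L104153 L91833
theorem L104178 : sm gf N2459 = N5321 := trf L104154 L34760 rfl
theorem L104179 : N5321 = N2966 := eqe L104178 L22811
theorem L104180 : N5321 = N2966 := eqc rfl L104179 rfl
theorem L104187 : sm gd N2966 = N8723 := trf L104180 L53454 rfl
theorem L104188 : N8723 = N4124 := eqe L104187 L28772
theorem L104189 : N8723 = N4124 := eqc rfl L104188 rfl
theorem L104192 : sm gb N4124 = N8833 := trf L104189 L55956 L82670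
theorem L104193 : N8833 = N6504 := eqe L104192 L40845
theorem L104194 : N8833 = N5356 := eqc rfl L104193 L92036
theorem L104197 : sm gf N5356 = N5356 := trf L104194 L54030 rfl
theorem L104259 : sm gc N2464 = N2464 := trf L103812 L24390 rfl
theorem L104263 : sm ge N2464 = N2471 := trf L103812 L24391 rfl
theorem L104264 : N2471 = N2040 := eqe L104263 L20341
theorem L104265 : N2471 = N2040 := eqc rfl L104264 rfl
theorem L104266 : sm gf N2464 = N4737 := trf L103812 L31917 rfl
theorem L104267 : N4737 = N3246 := eqe L104266 L24393
theorem L104268 : N4737 = N3201 := eqc rfl L104267 L94657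
theorem L104272 : sm gb N3201 = N7707 := trf L104268 L47496 rfl
theorem L104273 : N7707 = N2442 := eqe L104272 L24030
theorem L104274 : N7707 = N2442 := eqc rfl L104273 rfl
theorem L104289 : sm ge N2442 = N4776 := trf L104274 L47498 rfl
theorem L104290 : N4776 = N2027 := eqe L104289 L20218
theorem L104291 : N4776 = N2027 := eqc rfl L104290 rfl
theorem L104292 : sm ga N2027 = N7794 := trf L104291 L47912 rfl
theorem L104293 : sm ga N7794 = N2027 := flp_a L104292
theorem L104602 : sm gc N2040 = N2040 := trf L104265 L20372 rfl
theorem L104623 : sm gc N3201 = N3201 := trf L103801 L31403 rfl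
theorem L104858 : sm gg N1141 = N5601 := trf L101732 L56417 rfl
theorem L104859 : N5601 = N1195 := eqe L104858 L6061
theorem L104860 : N5601 = N1195 := eqc rfl L104859 rfl
theorem L104871 : sm ge N1195 = N9131 := trf L104860 L55520 rfl
theorem L104872 : N9131 = N2168 := eqe L104871 L18838
theorem L104873 : N9131 = N2168 := eqc rfl L104872 rfl
theorem L104953 : sm gb N2168 = N8881 := trf L104873 L55521 rfl
theorem L104954 : sm gb N8881 = N2168 := flp_b L104953
theorem L105057 : N4391 = N2542 := L72394.trans L100547
theorem L105377 : N5484 = N4183 := L90335.trans L97862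
theorem L105678 : sm gg N2798 = N3032 := trf L100834 L29693 rfl
theorem L105679 : sm gg N3032 = N2798 := flp_g L105678
theorem L105690 : sm gg N1851 = N2344 := trf L100825 L22984 rfl
theorem L105691 : sm gg N2344 = N1851 := flp_g L105690
theorem L105728 : N9942 = N3884 := L92674.trans L95110
theorem L105785 : N5968 = N3513 := L90912.trans L94262
theorem L105947 : sm gf N1868 = N11313 := trf L100489 L67527 rfl
theorem L105948 : N11313 = N2340 := eqe L105947 L19677
theorem L105949 : N11313 = N2340 := eqc rfl L105948 rfl
theorem L105959 : sm ge N2340 = N10402 := trf L105949 L67531 rfl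
theorem L105960 : N10402 = N2994 := eqe L105959 L22929
theorem L105961 : N10402 = N2994 := eqc rfl L105960 rfl
theorem L105962 : sm gc N2994 = N6265 := trf L105961 L62214 rfl
theorem L105963 : N6265 = N2861 := eqe L105962 L88053
theorem L105964 : N6265 = N2861 := eqc rfl L105963 rfl
theorem L105966 : sm ga N2861 = N3933 := trf L105964 L88225 rfl
theorem L105967 : N3933 = N4001 := eqe L105966 L28059
theorem L105968 : N4001 = N3933 := (eqc rfl L105967 rfl).symm
theorem L105970 : N4003 = N3095 := L87201.trans L88176
theorem L105978 : sm ga N3933 = N2861 := trf L105968 L28060 rfl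
theorem L105979 : sm ga N2861 = N3933 := flp_a L105978
theorem L106049 : sm ge N2654 = N6487 := trf L100356 L83647 rfl
theorem L106050 : N6487 = N3606 := eqe L106049 L26178
theorem L106051 : N6487 = N3606 := eqc rfl L106050 rfl
theorem L106065 : N5370 = N3412 := L72515.trans L97468
theorem L106066 : sm gg N3606 = N5482 := trf L106051 L83655 rfl
theorem L106067 : N5482 = N5481 := eqe L106066 L35480
theorem L106068 : N5482 = N4999 := eqc rfl L106067 L90150
theorem L106070 : sm gb N4999 = N3607 := trf L106068 L35491 rfl
theorem L106071 : N3607 = N8194 := eqe L106070 L50827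
theorem L106072 : N8194 = N3607 := (eqc rfl L106071 rfl).symm
theorem L106083 : sm gb N3607 = N4999 := trf L106072 L50828 rfl
theorem L106084 : sm gb N4999 = N3607 := flp_b L106083
theorem L106361 : sm gg N2876 = N7043 := trf L99750 L69382 rfl
theorem L106362 : N7043 = N4035 := eqe L106361 L28257
theorem L106363 : N7043 = N3058 := eqc rfl L106362 L89879
theorem L106365 : sm gb N3058 = N11645 := trf L106363 L69352 rfl
theorem L106366 : N11645 = N3678 := eqe L106365 L26516
theorem L106367 : N11645 = N3678 := eqc rfl L106366 rfl
theorem L106379 : sm gd N3678 = N7039 := trf L106367 L69350 rfl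
theorem L106380 : N7039 = N3058 := eqe L106379 L26513
theorem L106381 : N7039 = N3058 := eqc rfl L106380 rfl
theorem L106382 : sm ga N3058 = N11643 := trf L106381 L69342 rfl
theorem L106383 : N11643 = N2373 := eqe L106382 L23264
theorem L106384 : N11643 = N2373 := eqc rfl L106383 rfl
theorem L106507 : N7084 = N4366 := L75558.trans L98593
theorem L106522 : N6301 = N3921 := L71712.trans L89785
theorem L106529 : sm gc N2373 = N7038 := trf L106384 L69340 rfl
theorem L106530 : N7038 = N3059 := eqe L106529 L23265
theorem L106531 : N7038 = N3059 := eqc rfl L106530 rfl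
theorem L106536 : sm gd N3059 = N11632 := trf L106531 L69280 rfl
theorem L106537 : N11632 = N4373 := eqe L106536 L29932
theorem L106538 : N11632 = N4372 := eqc rfl L106537 L73313
theorem L106580 : sm ga N4372 = N7035 := trf L106538 L69278 rfl
theorem L106581 : N7035 = N3432 := eqe L106580 L43437
theorem L106582 : N7035 = N3432 := eqc rfl L106581 rfl
theorem L106584 : sm gc N3432 = N11633 := trf L106582 L69281 rfl
theorem L106585 : sm gc N11633 = N3432 := flp_c L106584
theorem L106594 : sm gg N3432 = N11634 := trf L106582 L69283 rfl
theorem L106595 : N11634 = N5108 := eqe L106594 L33772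
theorem L106596 : N11634 = N5108 := eqc rfl L106595 rfl
theorem L106597 : sm gb N5108 = N8741 := trf L106596 L72792 L72853
theorem L106598 : N8741 = N4521 := eqe L106597 L98799
theorem L106599 : N8741 = N4521 := eqc rfl L106598 rfl
theorem L106791 : sm ga N2250 = N2260 := trf L99553 L19245 rfl
theorem L106792 : sm ga N2260 = N2250 := flp_a L106791
theorem L106795 : sm gg N2250 = N1485 := trf L99553 L19239 rfl
theorem L106796 : sm gg N1485 = N2250 := flp_g L106795
theorem L106817 : sm gf N2819 = N3080 := trf L99543 L30135 rfl
theorem L106818 : sm gf N3080 = N2819 := flp_f L106817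
theorem L106826 : sm gb N3921 = N2832 := trf L99494 L27810 rfl
theorem L106827 : sm gb N2832 = N3921 := flp_b L106826
theorem L106859 : sm gf N4377 = N4754 := trf L99450 L93997 rfl
theorem L106860 : N4754 = N7001 := eqe L106859 L43536
theorem L106861 : N7001 = N4754 := (eqc rfl L106860 rfl).symm
theorem L106875 : sm gf N4754 = N4377 := trf L106861 L43537 rfl
theorem L106876 : sm gf N4377 = N4754 := flp_f L106875
theorem L106887 : sm ge N4009 = N3080 := trf L99429 L29344 rfl
theorem L106888 : sm ge N3080 = N4009 := flp_e L106887
theorem L106909 : sm ga N3950 = N11352 := trf L99358 L67786 rfl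
theorem L106910 : N11352 = N2834 := eqe L106909 L27822
theorem L106911 : N11352 = N2834 := eqc rfl L106910 rfl
theorem L106920 : sm gf N3950 = N11357 := trf L99358 L67813 rfl
theorem L106921 : sm gf N11357 = N3950 := flp_f L106920
theorem L106927 : sm ge N2834 = N10468 := trf L106911 L67787 rfl
theorem L106928 : sm ge N10468 = N2834 := flp_e L106927
theorem L106934 : sm ge N6061 = N6087 := trf L99303 L60585 rfl
theorem L106935 : sm ge N6087 = N6061 := flp_e L106934
theorem L106938 : sm gc N7048 = N6087 := trf L99300 L60579 rfl
theorem L106939 : sm gc N6087 = N7048 := flp_c L106938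
theorem L106940 : sm gb N3974 = N6087 := trf L99297 L60574 rfl
theorem L106941 : sm gb N6087 = N3974 := flp_b L106940
theorem L106944 : sm gb N2806 = N2879 := trf L99285 L27149 rfl
theorem L106945 : N2879 = N3337 := eqe L106944 L27302
theorem L106946 : N3337 = N2879 := (eqc rfl L106945 rfl).symm
theorem L106950 : sm gb N2879 = N2806 := trf L106946 L27301 rfl
theorem L106951 : sm gb N2806 = N2879 := flp_b L106950
theorem L106960 : sm gb N3979 = N3906 := trf L99282 L38285 rfl
theorem L106961 : sm gb N3906 = N3979 := flp_b L106960
theorem L106966 : sm gg N8022 = N6087 := trf L99272 L60589 rfl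
theorem L106967 : sm gg N6087 = N8022 := flp_g L106966
theorem L106982 : sm gd N6171 = N4058 := trf L99259 L40199 rfl
theorem L106983 : sm gd N4058 = N6171 := flp_d L106982
theorem L106987 : sm ga N2898 = N2756 := trf L99256 L27156 rfl
theorem L106988 : sm ga N2756 = N2898 := flp_a L106987
theorem L106989 : sm gb N2898 = N2768 := trf L99256 L27165 rfl
theorem L106990 : sm gb N2768 = N2898 := flp_b L106989
theorem L106994 : sm ga N3823 = N4058 := trf L99251 L37968 rfl
theorem L106995 : sm ga N4058 = N3823 := flp_a L106994
theorem L107004 : sm gb N3929 = N2897 := trf L99240 L28083 rfl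
theorem L107005 : sm gb N2897 = N3929 := flp_b L107004
theorem L107014 : sm gd N4056 = N4315 := trf L99237 L85264 rfl
theorem L107015 : sm gd N4315 = N4056 := flp_d L107014
theorem L107016 : sm gg N4056 = N3823 := trf L99237 L37557 rfl
theorem L107017 : sm gg N3823 = N4056 := flp_g L107016
theorem L107020 : sm gb N4016 = N4057 := trf L99190 L39664 rfl
theorem L107021 : sm gb N4057 = N4016 := flp_b L107020
theorem L107032 : sm gb N6090 = N4026 := trf L99181 L39895 rfl
theorem L107033 : sm gb N4026 = N6090 := flp_b L107032
theorem L107039 : sm gd N6089 = N11699 := trf L99178 L69649 rfl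
theorem L107040 : sm gd N11699 = N6089 := flp_d L107039
theorem L107043 : sm gb N3083 = N3908 := trf L99175 L38270 rfl
theorem L107044 : sm gb N3908 = N3083 := flp_b L107043
theorem L107058 : sm ga N3909 = N4896 := trf L99144 L37339 rfl
theorem L107059 : sm ga N4896 = N3909 := flp_a L107058
theorem L107064 : sm gf N3909 = N3823 := trf L99144 L37344 rfl
theorem L107065 : sm gf N3823 = N3909 := flp_f L107064
theorem L107082 : sm gc N5985 = N3956 := trf L99111 L38788 rfl
theorem L107083 : sm gc N3956 = N5985 := flp_c L107082
theorem L107085 : sm ge N5985 = N5972 := trf L99111 L98225 rfl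
theorem L107086 : sm ge N5972 = N5985 := flp_e L107085
theorem L107091 : sm gb N4360 = N4058 := trf L99105 L40202 rfl
theorem L107092 : sm gb N4058 = N4360 := flp_b L107091
theorem L107094 : sm ge N3844 = N3849 := trf L99102 L28349 rfl
theorem L107095 : sm ge N3849 = N3844 := flp_e L107094
theorem L107096 : sm gg N3844 = N2888 := trf L99102 L28344 rfl
theorem L107097 : sm gg N2888 = N3844 := flp_g L107096
theorem L107100 : N11246 = N5985 := L98318.trans L99111
theorem L107103 : N9999 = N5660 := L103240.trans L103243
theorem L107104 : sm gb N7308 = N11568 := trf L99069 L68954 rfl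
theorem L107105 : sm gb N11568 = N7308 := flp_b L107104
theorem L107153 : sm gc N5052 = N5660 := trf L98992 L98976 rfl
theorem L107154 : sm gc N5660 = N5052 := flp_c L107153
theorem L107155 : sm ge N5052 = N5660 := trf L98992 L98981 rfl
theorem L107156 : sm ge N5660 = N5052 := flp_e L107155
theorem L107157 : sm gf N5052 = N5660 := trf L98992 L36487 rfl
theorem L107158 : N5660 = N8282 := eqe L107157 L51276
theorem L107159 : N8282 = N5660 := (eqc rfl L107158 rfl).symm
theorem L107160 : sm gg N5052 = N3704 := trf L98992 L36481 rfl
theorem L107161 : sm gg N3704 = N5052 := flp_g L107160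
theorem L107166 : sm gf N5660 = N5052 := trf L107159 L51275 rfl
theorem L107167 : sm gf N5052 = N5660 := flp_f L107166
theorem L107176 : sm gd N4859 = N3689 := trf L98975 L36300 rfl
theorem L107177 : sm gd N3689 = N4859 := flp_d L107176
theorem L107187 : sm gf N3688 = N4859 := trf L98966 L48937 rfl
theorem L107188 : sm gf N4859 = N3688 := flp_f L107187
theorem L107194 : sm gc N3704 = N3699 := trf L98956 L78938 rfl
theorem L107195 : sm gc N3699 = N3704 := flp_c L107194
theorem L107197 : sm ge N3704 = N3699 := trf L98956 L79844 rfl
theorem L107198 : sm ge N3699 = N3704 := flp_e L107197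
theorem L107212 : N5685 = N4576 := L87509.trans L93219
theorem L107220 : sm ga N3298 = N3704 := trf L98935 L36442 rfl
theorem L107221 : sm ga N3704 = N3298 := flp_a L107220
theorem L107225 : sm gd N3298 = N3700 := trf L98935 L36444 rfl
theorem L107226 : sm gd N3700 = N3298 := flp_d L107225
theorem L107227 : sm gf N3298 = N3699 := trf L98935 L36441 rfl
theorem L107228 : sm gf N3699 = N3298 := flp_f L107227
theorem L107233 : sm gb N3299 = N3700 := trf L98931 L36449 rfl
theorem L107234 : sm gb N3700 = N3299 := flp_b L107233
theorem L107294 : sm gc N3279 = N3280 := trf L98917 L32308 rfl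
theorem L107295 : sm gc N3280 = N3279 := flp_c L107294
theorem L107307 : sm ge N3689 = N4802 := trf L98904 L48195 rfl
theorem L107308 : sm ge N4802 = N3689 := flp_e L107307
theorem L107309 : sm gf N3274 = N4802 := trf L98901 L48201 rfl
theorem L107310 : sm gf N4802 = N3274 := flp_f L107309
theorem L107311 : sm gc N3275 = N4802 := trf L98898 L48191 rfl
theorem L107312 : sm gc N4802 = N3275 := flp_c L107311
theorem L107315 : N7285 = N4802 := L90762.trans L98889
theorem L107316 : sm gd N4530 = N4801 := trf L99057 L48185 rfl
theorem L107317 : sm gd N4801 = N4530 := flp_d L107316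
theorem L107320 : sm gc N3432 = N8990 := trf L98882 L56854 rfl
theorem L107321 : N8990 = N11633 := eqe L107320 L106584
theorem L107322 : N11633 = N8990 := (eqc rfl L107321 rfl).symm
theorem L107324 : sm gc N8990 = N3432 := trf L107322 L106585 rfl
theorem L107325 : sm gc N3432 = N8990 := flp_c L107324
theorem L107326 : sm gb N7398 = N7086 := trf L98869 L69700 rfl
theorem L107327 : N7086 = N6858 := eqe L107326 L98794
theorem L107328 : N7086 = N6858 := eqc rfl L107327 rfl
theorem L107334 : sm gf N6858 = N4425 := trf L107328 L44035 rfl
theorem L107335 : N4425 = N11390 := eqe L107334 L68005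
theorem L107336 : N11390 = N4425 := (eqc rfl L107335 rfl).symm
theorem L107340 : sm gf N4425 = N6858 := trf L107336 L68006 rfl
theorem L107341 : sm gf N6858 = N4425 := flp_f L107340
theorem L107357 : N11518 = N6858 := L98588.trans L107328
theorem L107364 : sm gf N4294 = N3085 := trf L98863 L30187 rfl
theorem L107365 : sm gf N3085 = N4294 := flp_f L107364
theorem L107366 : sm gg N4294 = N4408 := trf L98863 L30192 rfl
theorem L107367 : N4408 = N6860 := eqe L107366 L42634
theorem L107368 : N6860 = N4408 := (eqc rfl L107367 rfl).symm
theorem L107377 : sm ge N4408 = N4375 := trf L107368 L42638 rfl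
theorem L107378 : N4375 = N6335 := eqe L107377 L39963
theorem L107379 : N6335 = N4375 := (eqc rfl L107378 rfl).symm
theorem L107381 : sm gg N4408 = N4294 := trf L107368 L42635 rfl
theorem L107382 : sm gg N4294 = N4408 := flp_g L107381
theorem L107385 : sm gb N4375 = N6356 := trf L107379 L85054 rfl
theorem L107386 : N6356 = N6997 := eqe L107385 L43514
theorem L107387 : N6997 = N6356 := (eqc rfl L107386 rfl).symm
theorem L107390 : sm ge N4375 = N4408 := trf L107379 L39962 rfl
theorem L107391 : sm ge N4408 = N4375 := flp_e L107390
theorem L107398 : sm gb N6356 = N4375 := trf L107387 L43515 rfl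
theorem L107399 : sm gb N4375 = N6356 := flp_b L107398
theorem L107403 : sm gd N6356 = N11551 := trf L107387 L68912 L73339
theorem L107404 : N11551 = N9948 := eqe L107403 L59704
theorem L107405 : N11551 = N9948 := eqc rfl L107404 rfl
theorem L107407 : sm gf N6356 = N11568 := trf L107387 L68941 rfl
theorem L107408 : N11568 = N10554 := eqe L107407 L63187
theorem L107409 : N11568 = N10554 := eqc rfl L107408 rfl
theorem L107411 : sm gb N10554 = N7308 := trf L107409 L107105 rfl
theorem L107412 : sm gb N7308 = N10554 := flp_b L107411
theorem L107413 : sm gb N9948 = N6990 := trf L107405 L68868 rfl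
theorem L107414 : sm gb N6990 = N9948 := flp_b L107413
theorem L107419 : N11586 = N6858 := L98103.trans L107328
theorem L107428 : sm gc N5112 = N5664 := trf L98854 L56959 rfl
theorem L107429 : sm gc N5664 = N5112 := flp_c L107428
theorem L107430 : sm ga N5664 = N6875 := trf L98850 L98845 rfl
theorem L107431 : sm ga N6875 = N5664 := flp_a L107430
theorem L107432 : sm gd N5664 = N4582 := trf L98850 L45781 rfl
theorem L107433 : sm gd N4582 = N5664 := flp_d L107432
theorem L107434 : sm gg N5664 = N4580 := trf L98850 L45780 rfl
theorem L107435 : sm gg N4580 = N5664 := flp_g L107434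
theorem L107436 : sm gc N4298 = N6325 := trf L98836 L62867 rfl
theorem L107437 : sm gc N6325 = N4298 := flp_c L107436
theorem L107443 : sm gf N4802 = N6995 := trf L98833 L46114 rfl
theorem L107444 : N6995 = N3274 := eqe L107443 L107310
theorem L107445 : N6995 = N3274 := eqc rfl L107444 rfl
theorem L107446 : sm ga N3274 = N8777 := trf L107445 L82810 rfl
theorem L107447 : N8777 = N4801 := eqe L107446 L32234
theorem L107448 : N8777 = N4801 := eqc rfl L107447 rfl
theorem L107462 : sm gb N4801 = N7432 := trf L107448 L53751 rfl
theorem L107463 : N7432 = N7294 := eqe L107462 L99063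
theorem L107464 : N7432 = N7294 := eqc rfl L107463 rfl
theorem L107466 : sm ge N4801 = N5336 := trf L107448 L53749 rfl
theorem L107467 : N5336 = N3687 := eqe L107466 L32235
theorem L107468 : N5336 = N3687 := eqc rfl L107467 rfl
theorem L107474 : sm gd N3687 = N8785 := trf L107468 L53793 rfl
theorem L107475 : N8785 = N5660 := eqe L107474 L36284
theorem L107476 : N8785 = N5660 := eqc rfl L107475 rfl
theorem L107495 : sm gb N5660 = N7440 := trf L107476 L53795 rfl
theorem L107496 : sm gb N7440 = N5660 := flp_b L107495
theorem L107499 : sm gf N6990 = N6334 := trf L98679 L62981 rfl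
theorem L107500 : sm gf N6334 = N6990 := flp_f L107499
theorem L107504 : sm gf N4031 = N4375 := trf L98676 L43517 rfl
theorem L107505 : sm gf N4375 = N4031 := flp_f L107504
theorem L107509 : sm gc N4303 = N6334 := trf L98673 L62969 rfl
theorem L107510 : sm gc N6334 = N4303 := flp_c L107509
theorem L107512 : sm gf N4033 = N5108 := trf L98668 L51818 rfl
theorem L107513 : sm gf N5108 = N4033 := flp_f L107512
theorem L107514 : sm gc N7079 = N6974 := trf L98621 L68752 rfl
theorem L107515 : sm gc N6974 = N7079 := flp_c L107514
theorem L107546 : sm gb N4366 = N4246 := trf L98593 L30362 rfl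
theorem L107547 : sm gb N4246 = N4366 := flp_b L107546
theorem L107552 : sm ge N4366 = N4246 := trf L98593 L30360 rfl
theorem L107553 : sm ge N4246 = N4366 := flp_e L107552
theorem L107554 : sm gg N4366 = N3101 := trf L98593 L30359 rfl
theorem L107555 : sm gg N3101 = N4366 := flp_g L107554
theorem L107556 : sm gc N6858 = N6968 := trf L107357 L68690 rfl
theorem L107557 : sm gc N6968 = N6858 := flp_c L107556
theorem L107561 : sm ga N7144 = N6968 := trf L98582 L98493 rfl
theorem L107562 : sm ga N6968 = N7144 := flp_a L107561
theorem L107563 : sm gb N7144 = N5973 := trf L98582 L59696 rfl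
theorem L107564 : sm gb N5973 = N7144 := flp_b L107563
theorem L107567 : N11809 = N5972 := L74041.trans L98192
theorem L107568 : sm gf N7144 = N6974 := trf L98582 L98495 rfl
theorem L107569 : sm gf N6974 = N7144 := flp_f L107568
theorem L107570 : sm gb N5660 = N6757 := trf L107103 L59964 rfl
theorem L107571 : N6757 = N7440 := eqe L107570 L107495
theorem L107572 : N7440 = N6757 := (eqc rfl L107571 rfl).symm
theorem L107573 : sm gb N6757 = N5660 := trf L107572 L107496 rfl
theorem L107574 : sm gb N5660 = N6757 := flp_b L107573
theorem L107576 : sm ge N6751 = N6974 := trf L98557 L68758 rfl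
theorem L107577 : sm ge N6974 = N6751 := flp_e L107576
theorem L107578 : sm gd N4285 = N6499 := trf L98528 L64599 rfl
theorem L107579 : sm gd N6499 = N4285 := flp_d L107578
theorem L107580 : sm gb N4420 = N6835 := trf L98459 L67746 rfl
theorem L107581 : sm gb N6835 = N4420 := flp_b L107580
theorem L107589 : sm gg N3961 = N4364 := trf L98451 L43356 rfl
theorem L107590 : sm gg N4364 = N3961 := flp_g L107589
theorem L107616 : sm ga N4361 = N5972 := trf L98426 L98228 rfl
theorem L107617 : sm ga N5972 = N4361 := flp_a L107616
theorem L107623 : sm gg N4361 = N4218 := trf L98426 L41779 rfl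
theorem L107624 : sm gg N4218 = N4361 := flp_g L107623
theorem L107625 : sm ga N2999 = N2864 := trf L98412 L28093 rfl
theorem L107626 : sm ga N2864 = N2999 := flp_a L107625
theorem L107629 : sm gd N2999 = N2996 := trf L98412 L28095 rfl
theorem L107630 : sm gd N2996 = N2999 := flp_d L107629
theorem L107668 : sm ge N4404 = N4418 := trf L98362 L39946 rfl
theorem L107669 : N4418 = N6758 := eqe L107668 L41997
theorem L107670 : N6758 = N4418 := (eqc rfl L107669 rfl).symm
theorem L107679 : sm ge N4418 = N4404 := trf L107670 L41996 rfl
theorem L107680 : sm ge N4404 = N4418 := flp_e L107679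
theorem L107709 : sm ga N5985 = N6768 := trf L107100 L67061 rfl
theorem L107710 : sm ga N6768 = N5985 := flp_a L107709
theorem L107711 : sm gf N5985 = N6835 := trf L107100 L67065 rfl
theorem L107712 : sm gf N6835 = N5985 := flp_f L107711
theorem L107715 : sm ga N4251 = N3956 := trf L98313 L38770 rfl
theorem L107716 : sm ga N3956 = N4251 := flp_a L107715
theorem L107724 : sm gf N3954 = N6838 := trf L98303 L67774 rfl
theorem L107725 : N6838 = N6180 := eqe L107724 L38782
theorem L107726 : N6838 = N6180 := eqc rfl L107725 rfl
theorem L107732 : sm gd N6180 = N10419 := trf L107726 L98544 rfl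
theorem L107733 : N10419 = N6753 := eqe L107732 L74011
theorem L107734 : N10419 = N6753 := eqc rfl L107733 rfl
theorem L107737 : N10192 = N4367 := L74015.trans L88132
theorem L107740 : N10275 = N4285 := L98163.trans L98429
theorem L107745 : sm gg N6753 = N6499 := trf L107734 L62334 rfl
theorem L107746 : N6499 = N11233 := eqe L107745 L66961
theorem L107747 : N11233 = N6499 := (eqc rfl L107746 rfl).symm
theorem L107751 : sm gg N6499 = N6753 := trf L107747 L66962 rfl
theorem L107752 : sm gg N6753 = N6499 := flp_g L107751
theorem L107757 : sm gg N3953 = N4251 := trf L98297 L42065 rfl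
theorem L107758 : sm gg N4251 = N3953 := flp_g L107757
theorem L107769 : sm gd N3017 = N3241 := trf L98259 L31850 rfl
theorem L107770 : sm gd N3241 = N3017 := flp_d L107769
theorem L107794 : sm gg N7076 = N6179 := trf L98189 L61479 rfl
theorem L107795 : N6179 = N11695 := eqe L107794 L69623
theorem L107796 : N11695 = N6179 := (eqc rfl L107795 rfl).symm
theorem L107797 : sm ga N6179 = N11696 := trf L107796 L69630 rfl
theorem L107798 : N11696 = N4533 := eqe L107797 L74839
theorem L107799 : N11696 = N4533 := eqc rfl L107798 rfl
theorem L107803 : sm gg N6179 = N7076 := trf L107796 L69624 rfl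
theorem L107804 : sm gg N7076 = N6179 := flp_g L107803
theorem L107807 : N11224 = N7077 := L73944.trans L90346
theorem L107816 : sm gf N4533 = N7077 := trf L107799 L69628 rfl
theorem L107817 : sm gf N7077 = N4533 := flp_f L107816
theorem L107818 : N11689 = N7294 := L81397.trans L107464
theorem L107827 : N6630 = N3587 := L87506.trans L87578
theorem L107858 : sm gd N4284 = N4724 := trf L98166 L47331 rfl
theorem L107859 : sm gd N4724 = N4284 := flp_d L107858
theorem L107862 : sm gg N4285 = N6180 := trf L107740 L61483 rfl
theorem L107863 : sm gg N6180 = N4285 := flp_g L107862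
theorem L107870 : sm ge N7338 = N7011 := trf L98787 L68073 rfl
theorem L107871 : sm ge N7011 = N7338 := flp_e L107870
theorem L107873 : sm gb N4410 = N4304 := trf L98109 L42741 rfl
theorem L107874 : sm gb N4304 = N4410 := flp_b L107873
theorem L107875 : sm gd N4410 = N7011 := trf L98109 L73001 rfl
theorem L107876 : sm gd N7011 = N4410 := flp_d L107875
theorem L107882 : sm ga N6858 = N7011 := trf L107419 L69036 rfl
theorem L107883 : N7011 = N11384 := eqe L107882 L67974
theorem L107884 : N11384 = N7011 := (eqc rfl L107883 rfl).symm
theorem L107885 : sm gg N6858 = N7015 := trf L107419 L69037 rfl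
theorem L107886 : sm gg N7015 = N6858 := flp_g L107885
theorem L107887 : sm ga N7011 = N6858 := trf L107884 L67973 rfl
theorem L107888 : sm ga N6858 = N7011 := flp_a L107887
theorem L107897 : sm gb N6126 = N7021 := trf L98091 L69083 rfl
theorem L107898 : N7021 = N10190 := eqe L107897 L60994
theorem L107899 : N7021 = N4451 := eqc rfl L107898 L73811
theorem L107903 : sm gc N4451 = N11603 := trf L107899 L69123 rfl
theorem L107904 : sm gc N11603 = N4451 := flp_c L107903
theorem L107906 : sm ge N4451 = N11604 := trf L107899 L69125 rfl
theorem L107907 : sm ge N11604 = N4451 := flp_e L107906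
theorem L107919 : sm gf N4385 = N3084 := trf L98088 L30114 rfl
theorem L107920 : sm gf N3084 = N4385 := flp_f L107919
theorem L107930 : sm gb N7116 = N7079 := trf L98042 L69646 rfl
theorem L107931 : sm gb N7079 = N7116 := flp_b L107930
theorem L107932 : sm gb N4421 = N4442 := trf L98037 L44219 rfl
theorem L107933 : sm gb N4442 = N4421 := flp_b L107932
theorem L107937 : sm gb N6324 = N4396 := trf L98026 L43739 rfl
theorem L107938 : sm gb N4396 = N6324 := flp_b L107937
theorem L107943 : sm gc N4456 = N4377 := trf L98023 L43533 rfl
theorem L107944 : sm gc N4377 = N4456 := flp_c L107943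
theorem L107945 : sm gd N4456 = N11570 := trf L98023 L68955 rfl
theorem L107946 : sm gd N11570 = N4456 := flp_d L107945
theorem L107961 : sm ge N7308 = N7076 := trf L97990 L62960 rfl
theorem L107962 : sm ge N7076 = N7308 := flp_e L107961
theorem L107963 : sm gf N7308 = N6333 := trf L97990 L62959 rfl
theorem L107964 : sm gf N6333 = N7308 := flp_f L107963
theorem L107968 : sm gb N6751 = N6334 := trf L97987 L62956 rfl
theorem L107969 : sm gb N6334 = N6751 := flp_b L107968
theorem L107970 : sm gd N6751 = N6333 := trf L97987 L62955 rfl
theorem L107971 : sm gd N6333 = N6751 := flp_d L107970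
theorem L107975 : sm ga N6499 = N4419 := trf L97968 L43987 rfl
theorem L107976 : sm ga N4419 = N6499 := flp_a L107975
theorem L107986 : sm gd N4184 = N4246 := trf L97926 L41982 rfl
theorem L107987 : sm gd N4246 = N4184 := flp_d L107986
theorem L107988 : sm gf N4184 = N4542 := trf L97926 L84417 rfl
theorem L107989 : sm gf N4542 = N4184 := flp_f L107988
theorem L107992 : sm gb N3687 = N4542 := trf L97919 L45296 rfl
theorem L107993 : sm gb N4542 = N3687 := flp_b L107992
theorem L108017 : N8867 = N4540 := L72422.trans L90323
theorem L108057 : sm gf N4183 = N4540 := trf L97862 L30839 rfl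
theorem L108058 : sm gf N4540 = N4183 := flp_f L108057
theorem L108198 : sm gc N3548 = N9324 := trf L97549 L56449 rfl
theorem L108199 : N9324 = N5357 := eqe L108198 L34908
theorem L108200 : N9324 = N5357 := eqc rfl L108199 rfl
theorem L108208 : sm gg N3548 = N9333 := trf L97549 L56486 rfl
theorem L108209 : sm gg N9333 = N3548 := flp_g L108208
theorem L108213 : sm ga N5357 = N10810 := trf L108200 L79486 rfl
theorem L108214 : N10810 = N8832 := eqe L108213 L54028
theorem L108215 : N10810 = N8832 := eqc rfl L108214 rfl
theorem L108216 : sm gb N5357 = N5603 := trf L108200 L56447 rfl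
theorem L108217 : N5603 = N3567 := eqe L108216 L34910
theorem L108218 : N5603 = N3567 := eqc rfl L108217 rfl
theorem L108219 : sm gd N5357 = N10838 := trf L108200 L78283 rfl
theorem L108220 : N10838 = N8802 := eqe L108219 L103609
theorem L108221 : N10838 = N8802 := eqc rfl L108220 rfl
theorem L108222 : sm ga N8802 = N6517 := trf L108221 L64828 rfl
theorem L108223 : sm ga N6517 = N8802 := flp_a L108222
theorem L108232 : sm ge N3567 = N9133 := trf L108218 L55532 rfl
theorem L108233 : N9133 = N5375 := eqe L108232 L34991
theorem L108234 : N9133 = N5375 := eqc rfl L108233 rfl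
theorem L108243 : sm gc N5375 = N5515 := trf L108234 L55530 rfl
theorem L108244 : N5515 = N3556 := eqe L108243 L34989
theorem L108245 : N5515 = N3556 := eqc rfl L108244 rfl
theorem L108246 : sm ga N3556 = N9132 := trf L108245 L55523 rfl
theorem L108247 : N9132 = N5374 := eqe L108246 L34984
theorem L108248 : N9132 = N4129 := eqc rfl L108247 L86730
theorem L108264 : sm gb N4129 = N9078 := trf L108248 L55527 rfl
theorem L108265 : N9078 = N6514 := eqe L108264 L40897
theorem L108266 : N9078 = N6514 := eqc rfl L108265 rfl
theorem L108269 : sm ga N6514 = N5492 := trf L108266 L55246 rfl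
theorem L108270 : N5492 = N10834 := eqe L108269 L64808
theorem L108271 : N10834 = N5492 := (eqc rfl L108270 rfl).symm
theorem L108275 : sm ge N6514 = N5553 := trf L108266 L55247 rfl
theorem L108276 : N5553 = N10807 := eqe L108275 L64650
theorem L108277 : N5553 = N5396 := eqc rfl L108276 L86721
theorem L108280 : N8370 = N3640 := L97228.trans L97240
theorem L108284 : sm gc N5396 = N9217 := trf L108277 L55938 rfl
theorem L108285 : N9217 = N8920 := eqe L108284 L54433
theorem L108286 : N9217 = N8920 := eqc rfl L108285 rfl
theorem L108292 : sm ga N8920 = N5554 := trf L108286 L55940 rfl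
theorem L108293 : sm ga N5554 = N8920 := flp_a L108292
theorem L108362 : sm ga N5492 = N6514 := trf L108271 L64809 rfl
theorem L108363 : sm ga N6514 = N5492 := flp_a L108362
theorem L108366 : sm gf N5492 = N6514 := trf L108271 L97150 rfl
theorem L108367 : N6514 = N9080 := eqe L108366 L55253
theorem L108368 : N8873 = N6514 := (eqc rfl L108367 L97237).symm
theorem L108374 : sm gb N8832 = N8832 := trf L108215 L64673 L108215
theorem L108376 : sm gd N8832 = N6517 := trf L108215 L79488 rfl
theorem L108377 : sm gd N6517 = N8832 := flp_d L108376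
theorem L108378 : sm ge N8832 = N6517 := trf L108215 L64671 rfl
theorem L108379 : sm ge N6517 = N8832 := flp_e L108378
theorem L108502 : sm gb N3412 = N2601 := trf L97468 L25800 rfl
theorem L108503 : sm gb N2601 = N3412 := flp_b L108502
theorem L108600 : sm gb N2984 = N4546 := trf L97290 L45344 rfl
theorem L108601 : N4546 = N6723 := eqe L108600 L97183
theorem L108602 : N6723 = N4546 := (eqc rfl L108601 rfl).symm
theorem L108609 : sm gb N4546 = N2984 := trf L108602 L97184 rfl
theorem L108610 : sm gb N2984 = N4546 := flp_b L108609
theorem L108634 : sm ga N5344 = N4130 := trf L97287 L40912 rfl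
theorem L108635 : sm ga N4130 = N5344 := flp_a L108634
theorem L108636 : sm gd N5344 = N4142 := trf L97287 L40913 rfl
theorem L108637 : sm gd N4142 = N5344 := flp_d L108636
theorem L108652 : sm gg N5554 = N5357 := trf L97247 L54017 rfl
theorem L108653 : N5357 = N9223 := eqe L108652 L55968
theorem L108654 : N8835 = N5357 := (eqc rfl L108653 L82673).symm
theorem L108656 : sm gf N5357 = N5357 := trf L108654 L54040 rfl
theorem L108657 : N9080 = N6514 := L97237.trans L108368
theorem L108658 : sm gf N6514 = N5492 := trf L108657 L55254 rfl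
theorem L108659 : sm gf N5492 = N6514 := flp_f L108658
theorem L108660 : sm gf N8920 = N5554 := trf L97234 L55965 rfl
theorem L108661 : sm gf N5554 = N8920 := flp_f L108660
theorem L108664 : sm ga N3640 = N5396 := trf L108280 L85483 rfl
theorem L108665 : sm ga N5396 = N3640 := flp_a L108664
theorem L108668 : sm gf N3640 = N5396 := trf L108280 L51686 rfl
theorem L108669 : sm gf N5396 = N3640 := flp_f L108668
theorem L108694 : sm gf N3277 = N3695 := trf L97073 L36387 rfl
theorem L108695 : sm gf N3695 = N3277 := flp_f L108694
theorem L108705 : sm gc N3586 = N3277 := trf L97058 L50138 rfl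
theorem L108706 : sm gc N3277 = N3586 := flp_c L108705
theorem L108715 : sm gd N3695 = N2982 := trf L97054 L29140 rfl
theorem L108716 : sm gd N2982 = N3695 := flp_d L108715
theorem L108732 : sm gg N2972 = N3695 := trf L97037 L36391 rfl
theorem L108733 : sm gg N3695 = N2972 := flp_g L108732
theorem L108760 : sm gb N2168 = N2624 := trf L96925 L25990 rfl
theorem L108761 : N2624 = N8881 := eqe L108760 L104953
theorem L108762 : N8881 = N2624 := (eqc rfl L108761 rfl).symm
theorem L108766 : sm gb N2624 = N2168 := trf L108762 L104954 rfl
theorem L108767 : sm gb N2168 = N2624 := flp_b L108766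
theorem L108771 : sm gf N2624 = N5377 := trf L108762 L54244 rfl
theorem L108772 : N5377 = N2153 := eqe L108771 L21145
theorem L108773 : N5377 = N2153 := eqc rfl L108772 rfl
theorem L108777 : sm gc N2153 = N8880 := trf L108773 L54239 rfl
theorem L108778 : N8880 = N2616 := eqe L108777 L21105
theorem L108779 : N8880 = N2550 := eqc rfl L108778 L94231
theorem L108783 : sm ge N2550 = N5403 := trf L108779 L54241 rfl
theorem L108784 : N5403 = N2119 := eqe L108783 L20810
theorem L108785 : N5403 = N2119 := eqc rfl L108784 rfl
theorem L108792 : sm gd N2119 = N8934 := trf L108785 L54507 rfl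
theorem L108793 : N8934 = N1144 := eqe L108792 L18625
theorem L108794 : N8934 = N1144 := eqc rfl L108793 rfl
theorem L108823 : sm ga N1144 = N7542 := trf L108794 L54509 rfl
theorem L108824 : N7542 = N2123 := eqe L108823 L18635
theorem L108825 : N7542 = N2123 := eqc rfl L108824 rfl
theorem L108833 : sm gg N2123 = N10100 := trf L108825 L60505 rfl
theorem L108834 : sm gg N10100 = N2123 := flp_g L108833
theorem L109094 : sm gc N1696 = N1696 := trf L96273 L19489 rfl
theorem L109100 : sm gc N2296 = N2296 := trf L96261 L22509 rfl
theorem L109179 : sm gb N1694 = N1694 := trf L96132 L19479 rfl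
theorem L109197 : sm gg N4189 = N3586 := trf L96098 L35289 rfl
theorem L109198 : sm gg N3586 = N4189 := flp_g L109197
theorem L109209 : sm gc N4130 = N10841 := trf L96070 L64844 rfl
theorem L109210 : N10841 = N6517 := eqe L109209 L40915
theorem L109211 : N10841 = N6517 := eqc rfl L109210 rfl
theorem L109212 : sm gf N4130 = N4130 := trf L96070 L40919 rfl
theorem L109213 : sm gf N6517 = N6517 := trf L109211 L64842 rfl
theorem L109218 : sm gb N3231 = N3231 := trf L96061 L31730 rfl
theorem L109225 : sm gb N2295 = N2295 := trf L96058 L22505 rfl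
theorem L109237 : sm ge N2310 = N7630 := trf L96051 L47100 rfl
theorem L109238 : sm ge N7630 = N2310 := flp_e L109237
theorem L109406 : sm gd N2427 = N2318 := trf L95766 L22161 rfl
theorem L109407 : sm gd N2318 = N2427 := flp_d L109406
theorem L109411 : sm gg N2427 = N2271 := trf L95766 L22156 rfl
theorem L109412 : sm gg N2271 = N2427 := flp_g L109411
theorem L109446 : sm gg N2455 = N2402 := trf L95722 L23580 rfl
theorem L109447 : sm gg N2402 = N2455 := flp_g L109446
theorem L109452 : sm gg N4059 = N2901 := trf L95713 L28462 rfl
theorem L109453 : sm gg N2901 = N4059 := flp_g L109452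
theorem L109459 : sm gg N2298 = N2908 := trf L95707 L22541 rfl
theorem L109460 : sm gg N2908 = N2298 := flp_g L109459
theorem L109463 : sm gg N2899 = N2899 := trf L95699 L28435 rfl
theorem L109472 : sm gg N1692 = N1692 := trf L95693 L19475 rfl
theorem L109475 : sm gg N2032 = N2032 := trf L95673 L20289 rfl
theorem L109477 : sm gg N2454 = N2454 := trf L95670 L24278 rfl
theorem L109478 : sm gc N3223 = N7602 := trf L95661 L46949 rfl
theorem L109479 : N7602 = N4690 := eqe L109478 L31650
theorem L109480 : N7602 = N4690 := eqc rfl L109479 rfl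
theorem L109484 : sm gg N3223 = N3223 := trf L95661 L31668 rfl
theorem L109489 : sm gg N4690 = N4690 := trf L109480 L46945 rfl
theorem L109493 : sm gg N2104 = N2521 := trf L95652 L25044 rfl
theorem L109494 : sm gg N2521 = N2104 := flp_g L109493
theorem L109500 : sm gg N3349 = N2523 := trf L95646 L25082 rfl
theorem L109501 : sm gg N2523 = N3349 := flp_g L109500
theorem L109502 : sm gb N4929 = N8105 := trf L95635 L49729 rfl
theorem L109503 : N8105 = N8083 := eqe L109502 L49574
theorem L109504 : N8105 = N8083 := eqc rfl L109503 rfl
theorem L109507 : sm gg N4929 = N3355 := trf L95635 L33027 rfl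
theorem L109508 : sm gg N3355 = N4929 := flp_g L109507
theorem L109509 : sm gg N8083 = N11282 := trf L109504 L67328 rfl
theorem L109510 : sm gg N11282 = N8083 := flp_g L109509
theorem L109515 : sm gg N3356 = N4062 := trf L95625 L40234 rfl
theorem L109516 : sm gg N4062 = N3356 := flp_g L109515
theorem L109518 : sm gg N6381 = N4940 := trf L95622 L49714 rfl
theorem L109519 : sm gg N4940 = N6381 := flp_g L109518
theorem L109520 : sm gb N3492 = N8619 := trf L95614 L52913 rfl
theorem L109521 : N8619 = N2589 := eqe L109520 L25684
theorem L109522 : N8619 = N2589 := eqc rfl L109521 rfl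
theorem L109525 : sm gg N3492 = N3492 := trf L95614 L34367 rfl
theorem L109526 : sm gg N2589 = N5243 := trf L109522 L52915 rfl
theorem L109527 : N5243 = N3495 := eqe L109526 L25697
theorem L109528 : N5243 = N3495 := eqc rfl L109527 rfl
theorem L109532 : sm gb N3495 = N3495 := trf L109528 L34395 rfl
theorem L109549 : sm gg N3510 = N3510 := trf L95611 L34545 rfl
theorem L109553 : sm gg N4061 = N4061 := trf L95608 L40224 rfl
theorem L109563 : sm gd N3495 = N2926 := trf L95564 L28670 rfl
theorem L109564 : sm gd N2926 = N3495 := flp_d L109563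
theorem L109565 : sm ge N3495 = N2926 := trf L95564 L28674 rfl
theorem L109566 : sm ge N2926 = N3495 := flp_e L109565
theorem L109571 : sm gb N5244 = N9146 := trf L95548 L55599 rfl
theorem L109572 : N9146 = N8632 := eqe L109571 L52977
theorem L109573 : N9146 = N8632 := eqc rfl L109572 rfl
theorem L109581 : sm gg N5244 = N9149 := trf L95548 L55611 rfl
theorem L109582 : N9149 = N5210 := eqe L109581 L34402
theorem L109583 : N9149 = N5210 := eqc rfl L109582 rfl
theorem L109586 : sm gf N5210 = N6800 := trf L109583 L55673 L71088
theorem L109587 : N6800 = N3479 := eqe L109586 L34227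
theorem L109588 : N6800 = N3479 := eqc rfl L109587 rfl
theorem L109590 : sm gb N3479 = N11282 := trf L109588 L67321 rfl
theorem L109591 : N11282 = N5208 := eqe L109590 L34215
theorem L109592 : N11282 = N5208 := eqc rfl L109591 rfl
theorem L109596 : N10742 = N5210 := L71097.trans L109583
theorem L109604 : sm gg N5208 = N8083 := trf L109592 L109510 rfl
theorem L109605 : N8083 = N8577 := eqe L109604 L52682
theorem L109606 : N8577 = N8083 := (eqc rfl L109605 rfl).symm
theorem L109608 : sm gg N8083 = N5208 := trf L109606 L52683 rfl
theorem L109609 : sm gg N5208 = N8083 := flp_g L109608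
theorem L109611 : sm ga N8632 = N8632 := trf L109573 L55638 L109573
theorem L109621 : N9045 = N5239 := L71106.trans L95579
theorem L109622 : sm ga N2905 = N2933 := trf L95524 L22642 rfl
theorem L109623 : sm ga N2933 = N2905 := flp_a L109622
theorem L109637 : sm ge N6395 = N5210 := trf L95521 L64282 L109596
theorem L109638 : N5210 = N7628 := eqe L109637 L47087
theorem L109639 : N7628 = N5210 := (eqc rfl L109638 rfl).symm
theorem L109644 : N10627 = N4108 := L80936.trans L95536
theorem L109645 : sm gb N5210 = N5210 := trf L109639 L47088 L109639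
theorem L109646 : N5210 = N8580 := eqe L109645 L52705
theorem L109647 : N8580 = N5210 := (eqc rfl L109646 rfl).symm
theorem L109651 : sm gb N5210 = N5210 := trf L109647 L52706 rfl
theorem L109664 : sm gd N2925 = N3480 := trf L95507 L25648 rfl
theorem L109665 : sm gd N3480 = N2925 := flp_d L109664
theorem L109677 : sm gg N4102 = N5209 := trf L95489 L52696 rfl
theorem L109678 : sm gg N5209 = N4102 := flp_g L109677
theorem L109685 : sm ga N4266 = N3495 := trf L95474 L34234 rfl
theorem L109686 : sm ga N3495 = N4266 := flp_a L109685
theorem L109693 : sm gg N4266 = N3479 := trf L95474 L34233 rfl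
theorem L109694 : sm gg N3479 = N4266 := flp_g L109693
theorem L109706 : N5478 = N3496 := L71187.trans L95444
theorem L109708 : sm ga N3626 = N5244 := trf L95457 L34399 rfl
theorem L109709 : sm ga N5244 = N3626 := flp_a L109708
theorem L109721 : sm gd N3496 = N2933 := trf L95444 L28718 rfl
theorem L109722 : sm gd N2933 = N3496 := flp_d L109721
theorem L109740 : sm gg N3494 = N3626 := trf L95438 L35717 rfl
theorem L109741 : sm gg N3626 = N3494 := flp_g L109740
theorem L109744 : sm gd N2590 = N2307 := trf L95426 L22615 rfl
theorem L109745 : sm gd N2307 = N2590 := flp_d L109744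
theorem L109746 : sm gg N2590 = N2305 := trf L95426 L22614 rfl
theorem L109747 : sm gg N2305 = N2590 := flp_g L109746
theorem L109758 : sm gg N2583 = N3007 := trf L95414 L29453 rfl
theorem L109759 : sm gg N3007 = N2583 := flp_g L109758
theorem L109804 : sm ga N2800 = N3032 := trf L95313 L23170 rfl
theorem L109805 : sm ga N3032 = N2800 := flp_a L109804
theorem L109806 : sm gb N2800 = N2345 := trf L95313 L22973 rfl
theorem L109807 : sm gb N2345 = N2800 := flp_b L109806
theorem L109808 : sm gc N2800 = N2407 := trf L95313 L22977 rfl
theorem L109809 : sm gc N2407 = N2800 := flp_c L109808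
theorem L109810 : sm gd N2800 = N2344 := trf L95313 L22972 rfl
theorem L109811 : sm gd N2344 = N2800 := flp_d L109810
theorem L109812 : sm ge N2800 = N2406 := trf L95313 L22975 rfl
theorem L109813 : sm ge N2406 = N2800 := flp_e L109812
theorem L109823 : sm gc N2267 = N2409 := trf L95288 L23629 rfl
theorem L109824 : sm gc N2409 = N2267 := flp_c L109823
theorem L109826 : sm gg N2267 = N2406 := trf L95288 L23628 rfl
theorem L109827 : sm gg N2406 = N2267 := flp_g L109826
theorem L109828 : sm ga N2316 = N2409 := trf L95283 L23609 rfl
theorem L109829 : sm ga N2409 = N2316 := flp_a L109828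
theorem L109832 : sm gg N2316 = N2403 := trf L95283 L23608 rfl
theorem L109833 : sm gg N2403 = N2316 := flp_g L109832
theorem L109834 : sm ga N2343 = N2277 := trf L95267 L22206 rfl
theorem L109835 : sm ga N2277 = N2343 := flp_a L109834
theorem L109851 : sm gg N2408 = N2948 := trf L95242 L28937 rfl
theorem L109852 : sm gg N2948 = N2408 := flp_g L109851
theorem L109854 : sm gg N2342 = N2864 := trf L95239 L28116 rfl
theorem L109855 : sm gg N2864 = N2342 := flp_g L109854
theorem L109875 : sm gd N2382 = N2250 := trf L95210 L21961 rfl
theorem L109876 : sm gd N2250 = N2382 := flp_d L109875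
theorem L109877 : sm ge N2382 = N2864 := trf L95210 L22216 rfl
theorem L109878 : sm ge N2864 = N2382 := flp_e L109877
theorem L109890 : sm gc N2405 = N2277 := trf L95199 L22133 rfl
theorem L109891 : sm gc N2277 = N2405 := flp_c L109890
theorem L109892 : sm gd N2405 = N2316 := trf L95199 L22129 rfl
theorem L109893 : sm gd N2316 = N2405 := flp_d L109892
theorem L109899 : sm gc N2249 = N2107 := trf L95194 L19814 rfl
theorem L109900 : sm gc N2107 = N2249 := flp_c L109899
theorem L109901 : sm gf N2249 = N2382 := trf L95194 L19882 rfl
theorem L109902 : sm gf N2382 = N2249 := flp_f L109901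
theorem L109908 : sm gb N2348 = N2107 := trf L95191 L20731 rfl
theorem L109909 : sm gb N2107 = N2348 := flp_b L109908
theorem L109925 : sm gg N1861 = N2249 := trf L95176 L21964 rfl
theorem L109926 : sm gg N2249 = N1861 := flp_g L109925
theorem L109931 : sm gd N2526 = N2107 := trf L95161 L20726 rfl
theorem L109932 : sm gd N2107 = N2526 := flp_d L109931
theorem L109934 : sm gf N2526 = N2539 := trf L95161 L20768 rfl
theorem L109935 : sm gf N2539 = N2526 := flp_f L109934
theorem L109936 : sm gg N2526 = N2105 := trf L95161 L20723 rfl
theorem L109937 : sm gg N2105 = N2526 := flp_g L109936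
theorem L109945 : sm gg N3122 = N2922 := trf L95147 L28638 rfl
theorem L109946 : sm gg N2922 = N3122 := flp_g L109945
theorem L109950 : sm gg N3363 = N2527 := trf L95144 L25132 rfl
theorem L109951 : sm gg N2527 = N3363 := flp_g L109950
theorem L109957 : sm gc N2528 = N2539 := trf L95130 L25193 rfl
theorem L109958 : sm gc N2539 = N2528 := flp_c L109957
theorem L109963 : N7213 = N3842 := L81684.trans L94251
theorem L109965 : sm gc N4493 = N3894 := trf L95127 L38090 rfl
theorem L109966 : sm gc N3894 = N4493 := flp_c L109965
theorem L109975 : sm gg N2533 = N2109 := trf L95114 L20755 rfl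
theorem L109976 : sm gg N2109 = N2533 := flp_g L109975
theorem L109979 : sm gg N3884 = N4493 := trf L95110 L30684 rfl
theorem L109980 : sm gg N4493 = N3884 := flp_g L109979
theorem L109982 : sm ga N3386 = N3379 := trf L95104 L33090 rfl
theorem L109983 : sm ga N3379 = N3386 := flp_a L109982
theorem L109984 : sm gb N3386 = N3553 := trf L95104 L82073 rfl
theorem L109985 : sm gb N3553 = N3386 := flp_b L109984
theorem L109986 : sm gc N3386 = N3366 := trf L95104 L33092 rfl
theorem L109987 : sm gc N3366 = N3386 := flp_c L109986
theorem L109988 : sm gd N3386 = N4100 := trf L95104 L33094 rfl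
theorem L109989 : sm gd N4100 = N3386 := flp_d L109988
theorem L109990 : sm gf N3386 = N3363 := trf L95104 L33089 rfl
theorem L109991 : sm gf N3363 = N3386 := flp_f L109990
theorem L110008 : sm ga N2534 = N2539 := trf L95070 L20778 rfl
theorem L110009 : sm ga N2539 = N2534 := flp_a L110008
theorem L110010 : sm gd N2534 = N2115 := trf L95070 L20780 rfl
theorem L110011 : sm gd N2115 = N2534 := flp_d L110010
theorem L110013 : sm gg N2534 = N2528 := trf L95070 L20782 rfl
theorem L110014 : sm gg N2528 = N2534 := flp_g L110013
theorem L110082 : sm ga N1194 = N1194 := trf L94818 L18856 rfl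
theorem L110136 : sm ga N2156 = N2156 := trf L94783 L21171 rfl
theorem L110146 : sm gf N2623 = N2167 := trf L94741 L21259 rfl
theorem L110147 : sm gf N2167 = N2623 := flp_f L110146
theorem L110153 : sm ga N2167 = N2167 := trf L94720 L21251 rfl
theorem L110156 : sm ga N2445 = N2445 := trf L94707 L24066 rfl
theorem L110162 : sm ga N2623 = N2623 := trf L94704 L25974 rfl
theorem L110209 : sm ga N2040 = N2040 := trf L94666 L20368 rfl
theorem L110215 : sm gf N2040 = N2445 := trf L94660 L24076 rfl
theorem L110216 : sm gf N2445 = N2040 := flp_f L110215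
theorem L110220 : sm gf N3201 = N2464 := trf L94657 L24394 rfl
theorem L110221 : sm gf N2464 = N3201 := flp_f L110220
theorem L110233 : sm gf N1039 = N2030 := trf L94616 L20268 rfl
theorem L110234 : sm gf N2030 = N1039 := flp_f L110233
theorem L110236 : sm gf N1194 = N2156 := trf L94613 L21181 rfl
theorem L110237 : sm gf N2156 = N1194 := flp_f L110236
theorem L110271 : sm ga N2030 = N2030 := trf L94552 L20261 rfl
theorem L110277 : sm ga N1039 = N1039 := trf L94534 L10447 rfl
theorem L110323 : sm gc N2623 = N2167 := trf L94402 L21255 rfl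
theorem L110324 : sm gc N2167 = N2623 := flp_c L110323
theorem L110326 : sm gc N2156 = N1194 := trf L94388 L18860 rfl
theorem L110327 : sm gc N1194 = N2156 := flp_c L110326
theorem L110332 : sm gd N2108 = N1139 := trf L94363 L18583 rfl
theorem L110333 : sm gd N1139 = N2108 := flp_d L110332
theorem L110334 : sm gg N2108 = N1137 := trf L94363 L18582 rfl
theorem L110335 : sm gg N1137 = N2108 := flp_g L110334
theorem L110344 : sm gc N2564 = N2446 := trf L94342 L24007 rfl
theorem L110345 : sm gc N2446 = N2564 := flp_c L110344
theorem L110346 : sm gd N2564 = N2618 := trf L94342 L24009 rfl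
theorem L110347 : sm gd N2618 = N2564 := flp_d L110346
theorem L110364 : sm gd N3548 = N3446 := trf L94336 L33692 rfl
theorem L110365 : sm gd N3446 = N3548 := flp_d L110364
theorem L110369 : sm ga N2556 = N2618 := trf L94333 L21120 rfl
theorem L110370 : sm ga N2618 = N2556 := flp_a L110369
theorem L110385 : sm gf N2554 = N2618 := trf L94309 L21114 rfl
theorem L110386 : sm gf N2618 = N2554 := flp_f L110385
theorem L110389 : sm gb N2602 = N8310 := trf L94304 L51405 rfl
theorem L110390 : N8310 = N3518 := eqe L110389 L25803
theorem L110391 : N8310 = N2310 := eqc rfl L110390 L91997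
theorem L110392 : sm gc N2602 = N3413 := trf L94304 L33567 rfl
theorem L110393 : sm gc N3413 = N2602 := flp_c L110392
theorem L110396 : sm ge N2310 = N5085 := trf L110391 L51407 rfl
theorem L110397 : N5085 = N7630 := eqe L110396 L109237
theorem L110398 : N7630 = N5085 := (eqc rfl L110397 rfl).symm
theorem L110405 : sm ge N5085 = N2310 := trf L110398 L109238 rfl
theorem L110406 : sm ge N2310 = N5085 := flp_e L110405
theorem L110412 : sm gg N2142 = N2554 := trf L94296 L25257 rfl
theorem L110413 : sm gg N2554 = N2142 := flp_g L110412
theorem L110425 : sm gg N2599 = N2556 := trf L94279 L25398 rfl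
theorem L110426 : sm gg N2556 = N2599 := flp_g L110425
theorem L110446 : sm ga N2767 = N2241 := trf L94259 L21845 rfl
theorem L110447 : sm ga N2241 = N2767 := flp_a L110446
theorem L110448 : sm gd N2767 = N2879 := trf L94259 L22327 rfl
theorem L110449 : sm gd N2879 = N2767 := flp_d L110448
theorem L110450 : sm ge N2767 = N2879 := trf L94259 L22329 rfl
theorem L110451 : sm ge N2879 = N2767 := flp_e L110450
theorem L110452 : sm gf N2767 = N2239 := trf L94259 L21844 rfl
theorem L110453 : sm gf N2239 = N2767 := flp_f L110452
theorem L110458 : sm gd N3837 = N3542 := trf L94242 L27492 rfl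
theorem L110459 : sm gd N3542 = N3837 := flp_d L110458
theorem L110460 : sm ge N3837 = N4040 := trf L94242 L28304 rfl
theorem L110461 : sm ge N4040 = N3837 := flp_e L110460
theorem L110472 : sm gc N2550 = N2153 := trf L94231 L21104 rfl
theorem L110473 : sm gc N2153 = N2550 := flp_c L110472
theorem L110475 : sm gg N2550 = N2149 := trf L94231 L21103 rfl
theorem L110476 : sm gg N2149 = N2550 := flp_g L110475
theorem L110477 : sm gb N2763 = N2763 := trf L94224 L27222 rfl
theorem L110490 : sm gf N2788 = N3842 := trf L94212 L27251 rfl
theorem L110491 : sm gf N3842 = N2788 := flp_f L110490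
theorem L110492 : sm gg N2788 = N2763 := trf L94212 L27117 rfl
theorem L110493 : sm gg N2763 = N2788 := flp_g L110492
theorem L110531 : sm gg N2284 = N2512 := trf L94161 L24831 rfl
theorem L110532 : sm gg N2512 = N2284 := flp_g L110531
theorem L110542 : sm gb N2285 = N2409 := trf L94138 L23658 rfl
theorem L110543 : sm gb N2409 = N2285 := flp_b L110542
theorem L110544 : sm gd N2285 = N2412 := trf L94138 L23659 rfl
theorem L110545 : sm gd N2412 = N2285 := flp_d L110544
theorem L110548 : sm gg N2285 = N2417 := trf L94138 L23661 rfl
theorem L110549 : sm gg N2417 = N2285 := flp_g L110548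
theorem L110560 : sm gb N3837 = N4142 := trf L97176 L41043 rfl
theorem L110561 : sm gb N4142 = N3837 := flp_b L110560
theorem L110613 : sm gb N2984 = N4040 := trf L94105 L40033 rfl
theorem L110614 : N4040 = N4546 := eqe L110613 L108610
theorem L110615 : N4546 = N4040 := (eqc rfl L110614 rfl).symm
theorem L110620 : sm gb N4040 = N2984 := trf L110615 L108609 rfl
theorem L110621 : sm gb N2984 = N4040 := flp_b L110620
theorem L110640 : sm gb N3255 = N4226 := trf L94047 L41837 rfl
theorem L110641 : sm gb N4226 = N3255 := flp_b L110640
theorem L110646 : sm ge N3255 = N10879 := trf L94047 L65079 rfl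
theorem L110647 : N10879 = N4730 := eqe L110646 L31880
theorem L110648 : N10879 = N4730 := eqc rfl L110647 rfl
theorem L110654 : sm gf N4730 = N10089 := trf L110648 L65083 rfl
theorem L110655 : N10089 = N5969 := eqe L110654 L93104
theorem L110656 : N10089 = N5969 := eqc rfl L110655 rfl
theorem L110658 : sm gc N5969 = N9903 := trf L110656 L60428 rfl
theorem L110659 : N9903 = N6021 := eqe L110658 L37959
theorem L110660 : N9903 = N6021 := eqc rfl L110659 rfl
theorem L110668 : sm gg N6021 = N11751 := trf L110660 L69991 rfl
theorem L110669 : N11751 = N10036 := eqe L110668 L60136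
theorem L110670 : N11751 = N10036 := eqc rfl L110669 rfl
theorem L110674 : sm gb N10036 = N10555 := trf L110670 L101396 rfl
theorem L110675 : sm gb N10555 = N10036 := flp_b L110674
theorem L110682 : N10037 = N5936 := L93056.trans L103060
theorem L110692 : sm gc N7108 = N4728 := trf L94018 L47383 rfl
theorem L110693 : N4728 = N11750 := eqe L110692 L69978
theorem L110694 : N11750 = N4728 := (eqc rfl L110693 rfl).symm
theorem L110695 : sm ge N7108 = N4757 := trf L94018 L47384 rfl
theorem L110696 : sm ge N4757 = N7108 := flp_e L110695
theorem L110697 : sm gf N7108 = N10036 := trf L94018 L93136 rfl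
theorem L110698 : sm gf N10036 = N7108 := flp_f L110697
theorem L110701 : sm gc N4728 = N7108 := trf L110694 L69979 rfl
theorem L110702 : sm gc N7108 = N4728 := flp_c L110701
theorem L110705 : sm gd N7259 = N4757 := trf L94015 L47721 rfl
theorem L110706 : sm gd N4757 = N7259 := flp_d L110705
theorem L110707 : sm gg N7259 = N4763 := trf L94015 L47722 rfl
theorem L110708 : sm gg N4763 = N7259 := flp_g L110707
theorem L110716 : sm ge N3252 = N11721 := trf L93970 L69809 rfl
theorem L110717 : sm ge N11721 = N3252 := flp_e L110716
theorem L110718 : sm ga N3964 = N4754 := trf L93967 L47701 rfl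
theorem L110719 : sm ga N4754 = N3964 := flp_a L110718
theorem L110720 : sm gd N4248 = N4251 := trf L93937 L39720 rfl
theorem L110721 : sm gd N4251 = N4248 := flp_d L110720
theorem L110744 : sm gg N3249 = N3930 := trf L93915 L38543 rfl
theorem L110745 : sm gg N3930 = N3249 := flp_g L110744
theorem L110746 : sm ga N4248 = N4418 := trf L98328 L43932 rfl
theorem L110747 : sm ga N4418 = N4248 := flp_a L110746
theorem L110751 : sm gg N4248 = N4415 := trf L98328 L43931 rfl
theorem L110752 : sm gg N4415 = N4248 := flp_g L110751
theorem L110757 : sm ge N3936 = N3950 := trf L93882 L38446 rfl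
theorem L110758 : sm ge N3950 = N3936 := flp_e L110757
theorem L110761 : N6138 = N3931 := L71703.trans L89217
theorem L110768 : sm gg N3944 = N3054 := trf L93860 L29889 rfl
theorem L110769 : sm gg N3054 = N3944 := flp_g L110768
theorem L110782 : sm gg N3920 = N2828 := trf L93854 L27786 rfl
theorem L110783 : sm gg N2828 = N3920 := flp_g L110782
theorem L110790 : sm ga N2838 = N3057 := trf L93842 L29900 rfl
theorem L110791 : sm ga N3057 = N2838 := flp_a L110790
theorem L110803 : sm gc N3950 = N2840 := trf L93829 L27877 rfl
theorem L110804 : sm gc N2840 = N3950 := flp_c L110803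
theorem L110807 : sm gf N3950 = N2839 := trf L93829 L27874 rfl
theorem L110808 : N2839 = N11357 := eqe L110807 L106920
theorem L110809 : N11357 = N2839 := (eqc rfl L110808 rfl).symm
theorem L110810 : sm gg N3950 = N3943 := trf L93829 L27879 rfl
theorem L110811 : sm gg N3943 = N3950 := flp_g L110810
theorem L110817 : sm gf N2839 = N3950 := trf L110809 L106921 rfl
theorem L110818 : sm gf N3950 = N2839 := flp_f L110817
theorem L110828 : sm gd N3055 = N2839 := trf L93823 L27865 rfl
theorem L110829 : sm gd N2839 = N3055 := flp_d L110828
theorem L110831 : sm gg N3055 = N2838 := trf L93823 L27864 rfl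
theorem L110832 : sm gg N2838 = N3055 := flp_g L110831
theorem L110840 : sm ga N2805 = N2839 := trf L93814 L27849 rfl
theorem L110841 : sm ga N2839 = N2805 := flp_a L110840
theorem L110849 : sm ga N6171 = N10314 := trf L93800 L61692 rfl
theorem L110850 : sm ga N10314 = N6171 := flp_a L110849
theorem L110870 : sm gc N2834 = N2832 := trf L93797 L27807 rfl
theorem L110871 : sm gc N2832 = N2834 := flp_c L110870
theorem L110872 : sm gg N2834 = N2831 := trf L93797 L27806 rfl
theorem L110873 : sm gg N2831 = N2834 := flp_g L110872
theorem L110911 : sm ge N2834 = N2828 := trf L93762 L27639 rfl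
theorem L110912 : N2828 = N10468 := eqe L110911 L106927
theorem L110913 : N10468 = N2828 := (eqc rfl L110912 rfl).symm
theorem L110917 : sm ge N2828 = N2834 := trf L110913 L106928 rfl
theorem L110918 : sm ge N2834 = N2828 := flp_e L110917
theorem L110930 : sm gb N2837 = N2807 := trf L93755 L27591 rfl
theorem L110931 : sm gb N2807 = N2837 := flp_b L110930
theorem L110932 : sm gc N2837 = N2805 := trf L93755 L27590 rfl
theorem L110933 : sm gc N2805 = N2837 := flp_c L110932
theorem L110941 : sm ga N1856 = N2249 := trf L93724 L21923 rfl
theorem L110942 : sm ga N2249 = N1856 := flp_a L110941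
theorem L111010 : sm gg N2177 = N2140 := trf L93674 L20997 rfl
theorem L111011 : sm gg N2140 = N2177 := flp_g L111010
theorem L111014 : sm ga N2348 = N2141 := trf L93662 L20964 rfl
theorem L111015 : sm ga N2141 = N2348 := flp_a L111014
theorem L111023 : sm gc N2137 = N2350 := trf L93648 L23035 rfl
theorem L111024 : sm gc N2350 = N2137 := flp_c L111023
theorem L111025 : sm gg N2137 = N2348 := trf L93648 L23032 rfl
theorem L111026 : sm gg N2348 = N2137 := flp_g L111025
theorem L111027 : sm gb N2341 = N2350 := trf L93645 L22223 rfl
theorem L111028 : sm gb N2350 = N2341 := flp_b L111027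
theorem L111029 : sm gd N2341 = N2343 := trf L93645 L22219 rfl
theorem L111030 : sm gd N2343 = N2341 := flp_d L111029
theorem L111031 : sm gg N2341 = N2277 := trf L93645 L22218 rfl
theorem L111032 : sm gg N2277 = N2341 := flp_g L111031
theorem L111040 : sm ga N2587 = N3012 := trf L93630 L23058 rfl
theorem L111041 : sm ga N3012 = N2587 := flp_a L111040
theorem L111050 : sm gg N2587 = N2349 := trf L93630 L23048 rfl
theorem L111051 : sm gg N2349 = N2587 := flp_g L111050
theorem L111055 : sm gg N2460 = N2320 := trf L93622 L22752 rfl
theorem L111056 : sm gg N2320 = N2460 := flp_g L111055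
theorem L111059 : sm gd N2467 = N2862 := trf L93619 L28047 rfl
theorem L111060 : sm gd N2862 = N2467 := flp_d L111059
theorem L111061 : sm gc N3003 = N2596 := trf L93612 L25679 rfl
theorem L111062 : sm gc N2596 = N3003 := flp_c L111061
theorem L111068 : sm gf N3972 = N4386 := trf L93607 L43645 rfl
theorem L111069 : sm gf N4386 = N3972 := flp_f L111068
theorem L111070 : sm gc N2345 = N2141 := trf L93598 L20976 rfl
theorem L111071 : sm gc N2141 = N2345 := flp_c L111070
theorem L111075 : sm ge N1740 = N2141 := trf L93594 L20164 rfl
theorem L111076 : sm ge N2141 = N1740 := flp_e L111075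
theorem L111090 : sm gg N2020 = N1740 := trf L93579 L19587 rfl
theorem L111091 : sm gg N1740 = N2020 := flp_g L111090
theorem L111092 : sm ga N2273 = N2428 := trf L93574 L24234 rfl
theorem L111093 : sm ga N2428 = N2273 := flp_a L111092
theorem L111094 : sm gb N2273 = N1861 := trf L93574 L19855 rfl
theorem L111095 : sm gb N1861 = N2273 := flp_b L111094
theorem L111096 : sm gc N2273 = N2427 := trf L93574 L24221 rfl
theorem L111097 : sm gc N2427 = N2273 := flp_c L111096
theorem L111101 : sm gc N2857 = N2430 := trf L93555 L23863 rfl
theorem L111102 : sm gc N2430 = N2857 := flp_c L111101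
theorem L111103 : sm ge N2857 = N2587 := trf L93555 L23865 rfl
theorem L111104 : sm ge N2587 = N2857 := flp_e L111103
theorem L111105 : sm gf N2857 = N2428 := trf L93555 L23862 rfl
theorem L111106 : sm gf N2428 = N2857 := flp_f L111105
theorem L111118 : sm gg N1524 = N2080 := trf L93528 L20585 rfl
theorem L111119 : sm gg N2080 = N1524 := flp_g L111118
theorem L111120 : sm ga N1527 = N2080 := trf L93510 L24240 rfl
theorem L111121 : sm ga N2080 = N1527 := flp_a L111120
theorem L111122 : sm gb N1527 = N1484 := trf L93510 L19225 rfl
theorem L111123 : sm gb N1484 = N1527 := flp_b L111122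
theorem L111129 : sm ga N2288 = N2771 := trf L93485 L27137 rfl
theorem L111130 : sm ga N2771 = N2288 := flp_a L111129
theorem L111133 : sm gg N2288 = N2768 := trf L93485 L27140 rfl
theorem L111134 : sm gg N2768 = N2288 := flp_g L111133
theorem L111150 : sm ga N1274 = N1288 := trf L93444 L19160 rfl
theorem L111151 : sm ga N1288 = N1274 := flp_a L111150
theorem L111152 : sm gd N1274 = N1853 := trf L93444 L19164 rfl
theorem L111153 : sm gd N1853 = N1274 := flp_d L111152
theorem L111155 : sm gg N1274 = N1285 := trf L93444 L19159 rfl
theorem L111156 : sm gg N1285 = N1274 := flp_g L111155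
theorem L111157 : sm ga N637 = N629 := trf L93440 L6448 rfl
theorem L111158 : sm ga N629 = N637 := flp_a L111157
theorem L111161 : sm gd N1553 = N1275 := trf L93430 L10647 rfl
theorem L111162 : sm gd N1275 = N1553 := flp_d L111161
theorem L111163 : sm ge N1553 = N1275 := trf L93430 L10649 rfl
theorem L111164 : sm ge N1275 = N1553 := flp_e L111163
theorem L111167 : sm ga N1289 = N1275 := trf L93426 L19062 rfl
theorem L111168 : sm ga N1275 = N1289 := flp_a L111167
theorem L111279 : sm gb N2778 = N3704 := trf L93301 L79823 rfl
theorem L111280 : sm gb N3704 = N2778 := flp_b L111279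
theorem L111281 : sm gd N2778 = N3705 := trf L93301 L79825 rfl
theorem L111282 : sm gd N3705 = N2778 := flp_d L111281
theorem L111296 : sm gg N2572 = N2224 := trf L93282 L21733 rfl
theorem L111297 : sm gg N2224 = N2572 := flp_g L111296
theorem L111300 : sm ga N3342 = N3163 := trf L93274 L31027 rfl
theorem L111301 : sm ga N3163 = N3342 := flp_a L111300
theorem L111304 : sm gd N3342 = N4212 := trf L93274 L79619 rfl
theorem L111305 : sm gd N4212 = N3342 := flp_d L111304
theorem L111316 : sm gf N3278 = N3280 := trf L93204 L32316 rfl
theorem L111317 : sm gf N3280 = N3278 := flp_f L111316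
theorem L111318 : sm ga N3281 = N3280 := trf L93189 L32291 rfl
theorem L111319 : sm ga N3280 = N3281 := flp_a L111318
theorem L111321 : sm gd N3281 = N3278 := trf L93189 L32290 rfl
theorem L111322 : sm gd N3278 = N3281 := flp_d L111321
theorem L111326 : sm gd N2941 = N3584 := trf L93179 L35275 rfl
theorem L111327 : sm gd N3584 = N2941 := flp_d L111326
theorem L111333 : sm gg N2941 = N3589 := trf L93179 L35276 rfl
theorem L111334 : sm gg N3589 = N2941 := flp_g L111333
theorem L111344 : sm ga N3589 = N4819 := trf L93165 L48397 rfl
theorem L111345 : sm ga N4819 = N3589 := flp_a L111344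
theorem L111346 : sm gc N3589 = N2942 := trf L93165 L92202 rfl
theorem L111347 : sm gc N2942 = N3589 := flp_c L111346
theorem L111350 : sm gf N3589 = N4863 := trf L93165 L48402 rfl
theorem L111351 : sm gf N4863 = N3589 := flp_f L111350
theorem L111358 : sm gb N3590 = N4731 := trf L93123 L41528 rfl
theorem L111359 : sm gb N4731 = N3590 := flp_b L111358
theorem L111361 : sm gd N3590 = N4863 := trf L93123 L79599 rfl
theorem L111362 : sm gd N4863 = N3590 := flp_d L111361
theorem L111368 : sm gb N6538 = N4730 := trf L97260 L47401 rfl
theorem L111369 : sm gb N4730 = N6538 := flp_b L111368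
theorem L111370 : sm gd N6538 = N5492 := trf L97260 L47402 rfl
theorem L111371 : sm gd N5492 = N6538 := flp_d L111370
theorem L111374 : sm gf N4761 = N6717 := trf L93078 L66663 rfl
theorem L111375 : sm gf N6717 = N4761 := flp_f L111374
theorem L111387 : sm ga N7108 = N5983 := trf L101335 L59821 rfl
theorem L111388 : sm ga N5983 = N7108 := flp_a L111387
theorem L111396 : sm gb N5936 = N6022 := trf L110682 L60145 rfl
theorem L111397 : sm gb N6022 = N5936 := flp_b L111396
theorem L111401 : sm ga N5796 = N10031 := trf L93044 L60120 rfl
theorem L111402 : N10031 = N9638 := eqe L111401 L57950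
theorem L111403 : N10031 = N9638 := eqc rfl L111402 rfl
theorem L111408 : sm gd N5796 = N3868 := trf L93044 L37946 rfl
theorem L111409 : sm gd N3868 = N5796 := flp_d L111408
theorem L111413 : sm gg N5796 = N10033 := trf L93044 L60126 rfl
theorem L111414 : N10033 = N9641 := eqe L111413 L57960
theorem L111415 : N10033 = N9641 := eqc rfl L111414 rfl
theorem L111416 : sm gd N9641 = N6022 := trf L111415 L60128 rfl
theorem L111417 : sm gd N6022 = N9641 := flp_d L111416
theorem L111419 : sm gd N9638 = N6021 := trf L111403 L60122 rfl
theorem L111420 : sm gd N6021 = N9638 := flp_d L111419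
theorem L111425 : sm gb N6021 = N9638 := trf L93038 L57953 rfl
theorem L111426 : N9638 = N10035 := eqe L111425 L60134
theorem L111427 : N10035 = N9638 := (eqc rfl L111426 rfl).symm
theorem L111429 : sm ge N6021 = N6743 := trf L93038 L59304 rfl
theorem L111430 : N6743 = N6717 := eqe L111429 L59037
theorem L111431 : N6743 = N6717 := eqc rfl L111430 rfl
theorem L111434 : sm gb N6717 = N9639 := trf L111431 L57957 rfl
theorem L111435 : N9639 = N11179 := eqe L111434 L66644
theorem L111436 : N11179 = N9639 := (eqc rfl L111435 rfl).symm
theorem L111438 : sm gd N6717 = N4761 := trf L111431 L79546 rfl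
theorem L111439 : N4761 = N11185 := eqe L111438 L66675
theorem L111440 : N11185 = N4761 := (eqc rfl L111439 rfl).symm
theorem L111446 : sm gd N4761 = N6717 := trf L111440 L66676 rfl
theorem L111447 : sm gd N6717 = N4761 := flp_d L111446
theorem L111448 : sm gb N9639 = N6717 := trf L111436 L66643 rfl
theorem L111449 : sm gb N6717 = N9639 := flp_b L111448
theorem L111450 : sm gc N9639 = N6713 := trf L111436 L66638 rfl
theorem L111451 : N6713 = N5796 := eqe L111450 L57955
theorem L111452 : N6713 = N5796 := eqc rfl L111451 rfl
theorem L111454 : sm gf N9639 = N9638 := trf L111436 L66641 L111427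
theorem L111455 : sm gf N9638 = N9639 := flp_f L111454
theorem L111463 : sm gg N5796 = N11180 := trf L111452 L66645 rfl
theorem L111464 : N11180 = N9641 := eqe L111463 L57960
theorem L111465 : N11180 = N9641 := eqc rfl L111464 rfl
theorem L111466 : sm gb N9641 = N9894 := trf L111465 L74151 rfl
theorem L111467 : sm gb N9894 = N9641 := flp_b L111466
theorem L111468 : sm gb N9638 = N6021 := trf L111427 L60135 rfl
theorem L111469 : sm gb N6021 = N9638 := flp_b L111468
theorem L111479 : sm gc N4763 = N3257 := trf L93013 L32053 rfl
theorem L111480 : sm gc N3257 = N4763 := flp_c L111479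
theorem L111481 : sm gd N4763 = N7767 := trf L93013 L47785 rfl
theorem L111482 : N7767 = N3256 := eqe L111481 L32050
theorem L111483 : N7767 = N3256 := eqc rfl L111482 rfl
theorem L111487 : sm gf N3256 = N4763 := trf L111483 L47783 rfl
theorem L111488 : sm gf N4763 = N3256 := flp_f L111487
theorem L111495 : sm gd N5970 = N4987 := trf L93000 L38084 rfl
theorem L111496 : sm gd N4987 = N5970 := flp_d L111495
theorem L111497 : sm gf N5970 = N3886 := trf L93000 L38086 rfl
theorem L111498 : sm gf N3886 = N5970 := flp_f L111497
theorem L111506 : sm gb N7259 = N6225 := trf L92994 L61834 rfl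
theorem L111507 : sm gb N6225 = N7259 := flp_b L111506
theorem L111511 : sm gf N7259 = N6345 := trf L92994 L61832 rfl
theorem L111512 : sm gf N6345 = N7259 := flp_f L111511
theorem L111513 : sm ga N3134 = N2948 := trf L92991 L27927 rfl
theorem L111514 : sm ga N2948 = N3134 := flp_a L111513
theorem L111515 : sm gc N3134 = N2847 := trf L92991 L27929 rfl
theorem L111516 : sm gc N2847 = N3134 := flp_c L111515
theorem L111518 : sm ge N3134 = N3884 := trf L92991 L27931 rfl
theorem L111519 : sm ge N3884 = N3134 := flp_e L111518
theorem L111534 : sm gd N3273 = N4039 := trf L92977 L34806 rfl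
theorem L111535 : sm gd N4039 = N3273 := flp_d L111534
theorem L111538 : sm ga N6345 = N4757 := trf L92974 L47716 rfl
theorem L111539 : sm ga N4757 = N6345 := flp_a L111538
theorem L111545 : sm gd N2881 = N3140 := trf L92971 L30716 rfl
theorem L111546 : sm gd N3140 = N2881 := flp_d L111545
theorem L111553 : sm gg N4730 = N3886 := trf L92962 L38121 rfl
theorem L111554 : sm gg N3886 = N4730 := flp_g L111553
theorem L111555 : sm gg N4761 = N6345 := trf L92956 L63097 rfl
theorem L111556 : sm gg N6345 = N4761 := flp_g L111555
theorem L111579 : sm ga N2793 = N3842 := trf L92897 L27248 rfl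
theorem L111580 : sm ga N3842 = N2793 := flp_a L111579
theorem L111581 : sm gg N2793 = N3837 := trf L92897 L27233 rfl
theorem L111582 : sm gg N3837 = N2793 := flp_g L111581
theorem L111587 : sm gf N6022 = N5983 := trf L93068 L59744 rfl
theorem L111588 : sm gf N5983 = N6022 := flp_f L111587
theorem L111614 : sm ga N4728 = N3886 := trf L92839 L38117 rfl
theorem L111615 : sm ga N3886 = N4728 := flp_a L111614
theorem L111619 : sm gb N7688 = N5371 := trf L92828 L53861 rfl
theorem L111620 : sm gb N5371 = N7688 := flp_b L111619
theorem L111621 : sm gd N7688 = N5342 := trf L92828 L53860 rfl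
theorem L111622 : sm gd N5342 = N7688 := flp_d L111621
theorem L111623 : sm ga N3541 = N3610 := trf L92825 L35519 rfl
theorem L111624 : sm ga N3610 = N3541 := flp_a L111623
theorem L111631 : sm gg N3541 = N3612 := trf L92825 L35522 rfl
theorem L111632 : sm gg N3612 = N3541 := flp_g L111631
theorem L111638 : sm gg N4987 = N3613 := trf L92819 L35528 rfl
theorem L111639 : sm gg N3613 = N4987 := flp_g L111638
theorem L111665 : sm gb N3613 = N3415 := trf L92795 L26221 rfl
theorem L111666 : sm gb N3415 = N3613 := flp_b L111665
theorem L111669 : sm gf N3613 = N2648 := trf L92795 L26218 rfl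
theorem L111670 : sm gf N2648 = N3613 := flp_f L111669
theorem L111675 : sm gc N2660 = N5366 := trf L92772 L54114 rfl
theorem L111676 : N5366 = N3641 := eqe L111675 L26345
theorem L111677 : N5366 = N3641 := eqc rfl L111676 rfl
theorem L111679 : sm gb N3641 = N8854 := trf L111677 L54111 rfl
theorem L111680 : sm gb N8854 = N3641 := flp_b L111679
theorem L111708 : sm ga N3415 = N3542 := trf L92690 L25925 rfl
theorem L111709 : sm ga N3542 = N3415 := flp_a L111708
theorem L111710 : sm gc N3415 = N2624 := trf L92690 L25927 rfl
theorem L111711 : sm gc N2624 = N3415 := flp_c L111710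
theorem L111712 : sm gg N3415 = N3513 := trf L92690 L25931 rfl
theorem L111713 : sm gg N3513 = N3415 := flp_g L111712
theorem L111714 : sm gb N3884 = N5970 := trf L105728 L59677 rfl
theorem L111715 : sm gb N5970 = N3884 := flp_b L111714
theorem L111720 : sm ge N7259 = N6022 := trf L92667 L49490 rfl
theorem L111721 : sm ge N6022 = N7259 := flp_e L111720
theorem L111723 : sm ga N4763 = N6717 := trf L93047 L59035 rfl
theorem L111724 : sm ga N6717 = N4763 := flp_a L111723
theorem L111725 : sm gb N4763 = N3342 := trf L93047 L32892 rfl
theorem L111726 : sm gb N3342 = N4763 := flp_b L111725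
theorem L111728 : sm ge N4763 = N3868 := trf L93047 L32893 rfl
theorem L111729 : sm ge N3868 = N4763 := flp_e L111728
theorem L111756 : sm gc N7688 = N10036 := trf L92617 L60141 rfl
theorem L111757 : sm gc N10036 = N7688 := flp_c L111756
theorem L111758 : sm gg N7688 = N5969 := trf L92617 L59669 rfl
theorem L111759 : sm gg N5969 = N7688 := flp_g L111758
theorem L111763 : sm ge N7752 = N10036 := trf L92614 L66685 rfl
theorem L111764 : sm ge N10036 = N7752 := flp_e L111763
theorem L111765 : sm gg N7752 = N6717 := trf L92614 L66680 rfl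
theorem L111766 : sm gg N6717 = N7752 := flp_g L111765
theorem L111776 : sm ga N4228 = N3257 := trf L92591 L32043 rfl
theorem L111777 : sm ga N3257 = N4228 := flp_a L111776
theorem L111781 : sm gd N4228 = N3279 := trf L92591 L32045 rfl
theorem L111782 : sm gd N3279 = N4228 := flp_d L111781
theorem L111783 : sm gf N4228 = N3255 := trf L92591 L32042 rfl
theorem L111784 : sm gf N3255 = N4228 := flp_f L111783
theorem L111785 : sm gg N4228 = N4758 := trf L92591 L32048 rfl
theorem L111786 : sm gg N4758 = N4228 := flp_g L111785
theorem L111790 : sm gb N4200 = N3279 := trf L92585 L32304 rfl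
theorem L111791 : sm gb N3279 = N4200 := flp_b L111790
theorem L111797 : sm gb N4758 = N4540 := trf L92572 L45282 rfl
theorem L111798 : sm gb N4540 = N4758 := flp_b L111797
theorem L111799 : sm gb N3152 = N3275 := trf L92566 L32250 rfl
theorem L111800 : sm gb N3275 = N3152 := flp_b L111799
theorem L111814 : sm gd N2548 = N3381 := trf L92548 L33210 rfl
theorem L111815 : sm gd N3381 = N2548 := flp_d L111814
theorem L111866 : sm gg N5342 = N5493 := trf L92472 L55213 rfl
theorem L111867 : sm gg N5493 = N5342 := flp_g L111866
theorem L111871 : sm gd N2617 = N2681 := trf L92466 L26325 rfl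
theorem L111872 : sm gd N2681 = N2617 := flp_d L111871
theorem L111873 : sm gg N2617 = N2660 := trf L92466 L26327 rfl
theorem L111874 : sm gg N2660 = N2617 := flp_g L111873
theorem L111877 : sm gg N3381 = N2661 := trf L92460 L26331 rfl
theorem L111878 : sm gg N2661 = N3381 := flp_g L111877
theorem L111879 : sm gf N5493 = N3612 := trf L92452 L35549 rfl
theorem L111880 : sm gf N3612 = N5493 := flp_f L111879
theorem L111883 : sm gd N2687 = N3641 := trf L92449 L35841 rfl
theorem L111884 : sm gd N3641 = N2687 := flp_d L111883
theorem L111888 : sm gf N2660 = N3641 := trf L92446 L35845 rfl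
theorem L111889 : sm gf N3641 = N2660 := flp_f L111888
theorem L111890 : sm gb N2661 = N2556 := trf L92441 L21312 rfl
theorem L111891 : sm gb N2556 = N2661 := flp_b L111890
theorem L111892 : sm gd N2661 = N2185 := trf L92441 L21310 rfl
theorem L111893 : sm gd N2185 = N2661 := flp_d L111892
theorem L111894 : sm gf N2661 = N2172 := trf L92441 L21309 rfl
theorem L111895 : sm gf N2172 = N2661 := flp_f L111894
theorem L111896 : sm ga N10833 = N6527 := trf L92414 L64925 rfl
theorem L111897 : N6527 = N10764 := eqe L111896 L64802
theorem L111898 : N8877 = N6527 := (eqc rfl L111897 L86777).symm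
theorem L111900 : sm gd N6527 = N5400 := trf L111898 L103601 rfl
theorem L111901 : N5400 = N10860 := eqe L111900 L64935
theorem L111902 : N10860 = N5400 := (eqc rfl L111901 rfl).symm
theorem L111907 : sm gb N5400 = N5400 := trf L111902 L64937 L111902
theorem L111908 : N5400 = N8928 := eqe L111907 L54465
theorem L111909 : N8928 = N5400 := (eqc rfl L111908 rfl).symm
theorem L111910 : sm gd N5400 = N6527 := trf L111902 L64936 rfl
theorem L111911 : sm gd N6527 = N5400 := flp_d L111910
theorem L111912 : sm gb N5400 = N5400 := trf L111909 L54466 rfl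
theorem L111915 : sm gb N5493 = N6515 := trf L92411 L59657 rfl
theorem L111916 : sm gb N6515 = N5493 := flp_b L111915
theorem L111917 : sm gd N5493 = N5969 := trf L92411 L59654 rfl
theorem L111918 : sm gd N5969 = N5493 := flp_d L111917
theorem L111919 : sm gf N5375 = N6527 := trf L92388 L64909 rfl
theorem L111920 : sm gf N6527 = N5375 := flp_f L111919
theorem L111930 : sm ge N4134 = N3568 := trf L92368 L34994 rfl
theorem L111931 : sm ge N3568 = N4134 := flp_e L111930
theorem L111932 : sm gf N4134 = N3556 := trf L92368 L34993 rfl
theorem L111933 : sm gf N3556 = N4134 := flp_f L111932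
theorem L111937 : sm ge N5400 = N6527 := trf L92364 L64743 rfl
theorem L111938 : sm ge N6527 = N5400 := flp_e L111937
theorem L111939 : sm ga N3501 = N2653 := trf L92346 L26280 rfl
theorem L111940 : sm ga N2653 = N3501 := flp_a L111939
theorem L111941 : sm gb N3501 = N5067 := trf L92346 L33603 rfl
theorem L111942 : sm gb N5067 = N3501 := flp_b L111941
theorem L111944 : sm ge N3501 = N2928 := trf L92346 L71217 rfl
theorem L111945 : sm ge N2928 = N3501 := flp_e L111944
theorem L111958 : sm ga N2596 = N2177 := trf L92331 L21365 rfl
theorem L111959 : sm ga N2177 = N2596 := flp_a L111958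
theorem L111960 : sm gb N2596 = N3428 := trf L92331 L25408 rfl
theorem L111961 : sm gb N3428 = N2596 := flp_b L111960
theorem L111976 : sm ge N2320 = N2596 := trf L92314 L23915 rfl
theorem L111977 : sm ge N2596 = N2320 := flp_e L111976
theorem L111981 : sm ge N2639 = N2976 := trf L92304 L29114 rfl
theorem L111982 : sm ge N2976 = N2639 := flp_e L111981
theorem L111985 : sm ge N4212 = N3590 := trf L92299 L31552 rfl
theorem L111986 : sm ge N3590 = N4212 := flp_e L111985
theorem L111989 : sm gf N3214 = N4212 := trf L92286 L41688 rfl
theorem L111990 : sm gf N4212 = N3214 := flp_f L111989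
theorem L112000 : sm gg N2978 = N3705 := trf L92259 L36495 rfl
theorem L112001 : sm gg N3705 = N2978 := flp_g L112000
theorem L112041 : N7334 = N4576 := L87575.trans L93219
theorem L112045 : sm gd N3751 = N2781 := trf L92231 L27373 rfl
theorem L112046 : sm gd N2781 = N3751 := flp_d L112045
theorem L112058 : sm ga N2780 = N3705 := trf L92216 L36489 rfl
theorem L112059 : sm ga N3705 = N2780 := flp_a L112058
theorem L112063 : sm gf N2780 = N3751 := trf L92216 L36492 rfl
theorem L112064 : sm gf N3751 = N2780 := flp_f L112063
theorem L112090 : sm gg N4112 = N4134 := trf L92170 L40969 rfl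
theorem L112091 : sm gg N4134 = N4112 := flp_g L112090
theorem L112094 : N10764 = N6527 := L86777.trans L111898
theorem L112095 : sm gg N2306 = N2905 := trf L92165 L28500 rfl
theorem L112096 : sm gg N2905 = N2306 := flp_g L112095
theorem L112100 : N6533 = N2945 := L86807.trans L91213
theorem L112104 : sm gf N4137 = N2946 := trf L92156 L28902 rfl
theorem L112105 : sm gf N2946 = N4137 := flp_f L112104
theorem L112152 : sm ga N4141 = N2946 := trf L92146 L28915 rfl
theorem L112153 : sm ga N2946 = N4141 := flp_a L112152
theorem L112154 : sm gc N4141 = N4863 := trf L92146 L32586 rfl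
theorem L112155 : sm gc N4863 = N4141 := flp_c L112154
theorem L112158 : sm ge N2331 = N2610 := trf L92134 L23969 rfl
theorem L112159 : sm ge N2610 = N2331 := flp_e L112158
theorem L112161 : sm ga N2338 = N2983 := trf L92128 L22882 rfl
theorem L112162 : sm ga N2983 = N2338 := flp_a L112161
theorem L112166 : sm gg N2338 = N2322 := trf L92128 L22786 rfl
theorem L112167 : sm gg N2322 = N2338 := flp_g L112166
theorem L112175 : N2915 = N1855 := L75282.trans L88313
theorem L112176 : sm gf N2300 = N2318 := trf L92112 L19599 rfl
theorem L112177 : sm gf N2318 = N2300 := flp_f L112176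
theorem L112178 : sm gg N2300 = N1741 := trf L92112 L19595 rfl
theorem L112179 : sm gg N1741 = N2300 := flp_g L112178
theorem L112199 : sm ga N2966 = N2610 := trf L92040 L25861 rfl
theorem L112200 : sm ga N2610 = N2966 := flp_a L112199
theorem L112205 : sm gb N5356 = N4124 := trf L92036 L40846 rfl
theorem L112206 : sm gb N4124 = N5356 := flp_b L112205
theorem L112207 : sm gd N5356 = N4189 := trf L92036 L40847 rfl
theorem L112208 : sm gd N4189 = N5356 := flp_d L112207
theorem L112209 : sm ge N5356 = N4130 := trf L92036 L40849 rfl
theorem L112210 : sm ge N4130 = N5356 := flp_e L112209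
theorem L112219 : sm gb N1743 = N2141 := trf L92009 L21001 rfl
theorem L112220 : sm gb N2141 = N1743 := flp_b L112219
theorem L112225 : sm ga N2592 = N3007 := trf L92005 L23018 rfl
theorem L112226 : sm ga N3007 = N2592 := flp_a L112225
theorem L112227 : sm gb N2592 = N2308 := trf L92005 L22605 rfl
theorem L112228 : sm gb N2308 = N2592 := flp_b L112227
theorem L112229 : sm ge N2592 = N2305 := trf L92005 L22604 rfl
theorem L112230 : sm ge N2305 = N2592 := flp_e L112229
theorem L112231 : sm gb N2310 = N2602 := trf L91997 L25804 rfl
theorem L112232 : sm gb N2602 = N2310 := flp_b L112231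
theorem L112233 : sm ge N2310 = N2604 := trf L91997 L25805 rfl
theorem L112234 : N2604 = N5085 := eqe L112233 L110406
theorem L112235 : N5085 = N2604 := (eqc rfl L112234 rfl).symm
theorem L112243 : sm ge N2604 = N2310 := trf L112235 L110405 rfl
theorem L112244 : sm ge N2310 = N2604 := flp_e L112243
theorem L112274 : sm ge N2147 = N1745 := trf L91994 L19620 rfl
theorem L112275 : sm ge N1745 = N2147 := flp_e L112274
theorem L112276 : sm gg N2147 = N1743 := trf L91994 L19619 rfl
theorem L112277 : sm gg N1743 = N2147 := flp_g L112276
theorem L112278 : sm gc N2145 = N2554 := trf L91988 L25378 rfl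
theorem L112279 : sm gc N2554 = N2145 := flp_c L112278
theorem L112282 : sm ga N3524 = N4124 := trf L91972 L28785 rfl
theorem L112283 : sm ga N4124 = N3524 := flp_a L112282
theorem L112284 : sm gc N3524 = N3524 := trf L91972 L28787 L91972
theorem L112285 : sm ge N3524 = N2939 := trf L91972 L28790 rfl
theorem L112286 : sm ge N2939 = N3524 := flp_e L112285
theorem L112290 : sm gg N3230 = N3524 := trf L91962 L34687 rfl
theorem L112291 : sm gg N3524 = N3230 := flp_g L112290
theorem L112300 : sm ga N3231 = N2604 := trf L91938 L25818 rfl
theorem L112301 : sm ga N2604 = N3231 := flp_a L112300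
theorem L112303 : sm gc N2604 = N2604 := trf L91991 L25822 rfl
theorem L112312 : sm gc N2463 = N2610 := trf L91882 L25871 rfl
theorem L112313 : sm gc N2610 = N2463 := flp_c L112312
theorem L112327 : sm ga N2459 = N2147 := trf L91833 L21065 rfl
theorem L112328 : sm ga N2147 = N2459 := flp_a L112327
theorem L112476 : sm gb N2225 = N2197 := trf L91423 L21523 rfl
theorem L112477 : sm gb N2197 = N2225 := flp_b L112476
theorem L112478 : sm gc N2225 = N2572 := trf L91423 L21524 rfl
theorem L112479 : sm gc N2572 = N2225 := flp_c L112478
theorem L112485 : sm gb N2511 = N2492 := trf L91410 L24705 rfl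
theorem L112486 : sm gb N2492 = N2511 := flp_b L112485
theorem L112487 : sm gc N2511 = N3163 := trf L91410 L24708 rfl
theorem L112488 : sm gc N3163 = N2511 := flp_c L112487
theorem L112524 : sm gf N1188 = N587 := trf L91328 L6076 rfl
theorem L112525 : sm gf N587 = N1188 := flp_f L112524
theorem L112531 : sm gb N2157 = N1195 := trf L91318 L18866 rfl
theorem L112532 : sm gb N1195 = N2157 := flp_b L112531
theorem L112534 : sm gb N634 = N1212 := trf L91315 L18933 rfl
theorem L112535 : sm gb N1212 = N634 := flp_b L112534
theorem L112537 : sm gb N588 = N1189 := trf L91312 L18816 rfl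
theorem L112538 : sm gb N1189 = N588 := flp_b L112537
theorem L112541 : sm gb N2144 = N2553 := trf L91302 L21362 rfl
theorem L112542 : sm gb N2553 = N2144 := flp_b L112541
theorem L112546 : sm gb N2122 = N1180 := trf L91296 L18736 rfl
theorem L112547 : sm gb N1180 = N2122 := flp_b L112546
theorem L112554 : sm ga N2547 = N2439 := trf L91275 L21080 rfl
theorem L112555 : sm ga N2439 = N2547 := flp_a L112554
theorem L112556 : sm gc N2547 = N2433 := trf L91275 L21082 rfl
theorem L112557 : sm gc N2433 = N2547 := flp_c L112556
theorem L112558 : sm gd N2547 = N2150 := trf L91275 L21084 rfl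
theorem L112559 : sm gd N2150 = N2547 := flp_d L112558
theorem L112561 : sm ga N2114 = N2024 := trf L91263 L18741 rfl
theorem L112562 : sm ga N2024 = N2114 := flp_a L112561
theorem L112563 : sm gc N2114 = N2021 := trf L91263 L18744 rfl
theorem L112564 : sm gc N2021 = N2114 := flp_c L112563
theorem L112565 : sm gd N2114 = N1182 := trf L91263 L18740 rfl
theorem L112566 : sm gd N1182 = N2114 := flp_d L112565
theorem L112568 : sm gb N1742 = N2021 := trf L91260 L20156 rfl
theorem L112569 : sm gb N2021 = N1742 := flp_b L112568
theorem L112570 : sm gd N1742 = N2020 := trf L91260 L20155 rfl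
theorem L112571 : sm gd N2020 = N1742 := flp_d L112570
theorem L112574 : sm gb N2023 = N1745 := trf L91252 L19635 rfl
theorem L112575 : sm gb N1745 = N2023 := flp_b L112574
theorem L112576 : sm gd N2023 = N1748 := trf L91252 L19636 rfl
theorem L112577 : sm gd N1748 = N2023 := flp_d L112576
theorem L112590 : sm gg N2124 = N2439 := trf L91233 L23994 rfl
theorem L112591 : sm gg N2439 = N2124 := flp_g L112590
theorem L112592 : sm gb N2979 = N2337 := trf L91230 L22902 rfl
theorem L112593 : N2337 = N4221 := eqe L112592 L29238
theorem L112594 : N4221 = N2337 := (eqc rfl L112593 rfl).symm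
theorem L112595 : sm gc N2979 = N3705 := trf L91230 L26606 rfl
theorem L112596 : sm gc N3705 = N2979 := flp_c L112595
theorem L112597 : sm gf N2979 = N2338 := trf L91230 L22903 rfl
theorem L112598 : sm gf N2338 = N2979 := flp_f L112597
theorem L112600 : sm gb N2337 = N2979 := trf L112594 L29239 rfl
theorem L112601 : sm gb N2979 = N2337 := flp_b L112600
theorem L112632 : sm gg N2026 = N2337 := trf L91210 L22906 rfl
theorem L112633 : sm gg N2337 = N2026 := flp_g L112632
theorem L112647 : sm gc N3181 = N3140 := trf L91199 L28754 rfl
theorem L112648 : sm gc N3140 = N3181 := flp_c L112647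
theorem L112654 : sm ga N2438 = N2412 := trf L91187 L23692 rfl
theorem L112655 : sm ga N2412 = N2438 := flp_a L112654
theorem L112658 : sm gb N2432 = N2307 := trf L91181 L22632 rfl
theorem L112659 : sm gb N2307 = N2432 := flp_b L112658
theorem L112660 : sm gc N2432 = N2412 := trf L91181 L22635 rfl
theorem L112661 : sm gc N2412 = N2432 := flp_c L112660
theorem L112664 : sm ga N2027 = N1748 := trf L91173 L19659 rfl
theorem L112665 : N1748 = N7794 := eqe L112664 L104292
theorem L112666 : N7794 = N1748 := (eqc rfl L112665 rfl).symm
theorem L112672 : sm ga N1748 = N2027 := trf L112666 L104293 rfl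
theorem L112673 : sm ga N2027 = N1748 := flp_a L112672
theorem L112677 : sm gc N2421 = N2442 := trf L91167 L23987 rfl
theorem L112678 : sm gc N2442 = N2421 := flp_c L112677
theorem L112682 : sm gg N2421 = N2438 := trf L91167 L23986 rfl
theorem L112683 : sm gg N2438 = N2421 := flp_g L112682
theorem L112685 : sm ga N2313 = N2442 := trf L91161 L23929 rfl
theorem L112686 : sm ga N2442 = N2313 := flp_a L112685
theorem L112687 : sm gd N2313 = N2602 := trf L91161 L23931 rfl
theorem L112688 : sm gd N2602 = N2313 := flp_d L112687
theorem L112689 : sm gg N2313 = N2432 := trf L91161 L23928 rfl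
theorem L112690 : sm gg N2432 = N2313 := flp_g L112689
theorem L112692 : sm gb N2446 = N2041 := trf L91155 L20378 rfl
theorem L112693 : sm gb N2041 = N2446 := flp_b L112692
theorem L112705 : sm gd N3157 = N4040 := trf L91149 L31338 rfl
theorem L112706 : sm gd N4040 = N3157 := flp_d L112705
theorem L112707 : sm gb N3202 = N2465 := trf L91142 L24400 rfl
theorem L112708 : sm gb N2465 = N3202 := flp_b L112707
theorem L112715 : N4497 = N3140 := L81540.trans L103383
theorem L112743 : sm gb N2031 = N1040 := trf L91104 L10457 rfl
theorem L112744 : sm gb N1040 = N2031 := flp_b L112743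
theorem L112747 : sm gc N2445 = N2445 := trf L94653 L24072 rfl
theorem L112751 : sm gc N2123 = N2027 := trf L91071 L20206 rfl
theorem L112752 : sm gc N2027 = N2123 := flp_c L112751
theorem L112753 : sm gg N2123 = N2024 := trf L91071 L20205 rfl
theorem L112754 : N2024 = N10100 := eqe L112753 L108833
theorem L112755 : N10100 = N2024 := (eqc rfl L112754 rfl).symm
theorem L112759 : sm gg N2024 = N2123 := trf L112755 L108834 rfl
theorem L112760 : sm gg N2123 = N2024 := flp_g L112759
theorem L112791 : sm gf N3548 = N3548 := trf L97256 L34913 rfl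
theorem L112792 : sm gg N3548 = N3640 := trf L97256 L82693 rfl
theorem L112793 : N3640 = N9333 := eqe L112792 L108208
theorem L112794 : N9333 = N3640 := (eqc rfl L112793 rfl).symm
theorem L112796 : sm gg N3640 = N3548 := trf L112794 L108209 rfl
theorem L112797 : sm gg N3548 = N3640 := flp_g L112796
theorem L112802 : sm gf N5344 = N5344 := trf L97264 L53894 rfl
theorem L112826 : sm gb N2415 = N2227 := trf L90936 L21068 rfl
theorem L112827 : sm gb N2227 = N2415 := flp_b L112826
theorem L112828 : sm gc N2415 = N2147 := trf L90936 L21067 rfl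
theorem L112829 : sm gc N2147 = N2415 := flp_c L112828
theorem L112830 : sm gd N3415 = N2766 := trf L90927 L27241 rfl
theorem L112831 : sm gd N2766 = N3415 := flp_d L112830
theorem L112834 : sm ge N3841 = N3257 := trf L90921 L31889 rfl
theorem L112835 : sm ge N3257 = N3841 := flp_e L112834
theorem L112836 : sm gf N3841 = N3243 := trf L90921 L31886 rfl
theorem L112837 : sm gf N3243 = N3841 := flp_f L112836
theorem L112839 : sm gd N3513 = N3842 := trf L105785 L37708 rfl
theorem L112840 : sm gd N3842 = N3513 := flp_d L112839
theorem L112846 : sm gd N2763 = N3413 := trf L90877 L30808 rfl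
theorem L112847 : sm gd N3413 = N2763 := flp_d L112846
theorem L112848 : sm ge N2763 = N3147 := trf L90877 L30810 rfl
theorem L112849 : sm ge N3147 = N2763 := flp_e L112848
theorem L112855 : sm gc N2512 = N3147 := trf L90871 L30861 rfl
theorem L112856 : sm gc N3147 = N2512 := flp_c L112855
theorem L112860 : sm gf N3147 = N4040 := trf L90868 L28305 rfl
theorem L112861 : sm gf N4040 = N3147 := flp_f L112860
theorem L112862 : sm gg N3147 = N2878 := trf L90868 L28286 rfl
theorem L112863 : sm gg N2878 = N3147 := flp_g L112862
theorem L112864 : sm gc N2417 = N2084 := trf L90865 L20647 rfl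
theorem L112865 : sm gc N2084 = N2417 := flp_c L112864
theorem L112866 : sm ge N2417 = N2227 := trf L90865 L20648 rfl
theorem L112867 : sm ge N2227 = N2417 := flp_e L112866
theorem L112872 : sm gc N3149 = N2514 := trf L90847 L24918 rfl
theorem L112873 : sm gc N2514 = N3149 := flp_c L112872
theorem L112874 : sm ge N3149 = N2766 := trf L90847 L24920 rfl
theorem L112875 : sm ge N2766 = N3149 := flp_e L112874
theorem L112879 : sm ge N4037 = N3842 := trf L94265 L32859 rfl
theorem L112880 : sm ge N3842 = N4037 := flp_e L112879
theorem L112881 : sm ga N5970 = N7688 := trf L92734 L47432 rfl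
theorem L112882 : sm ga N7688 = N5970 := flp_a L112881
theorem L112883 : sm ga N7259 = N7752 := trf L90812 L47792 rfl
theorem L112884 : sm ga N7752 = N7259 := flp_a L112883
theorem L112885 : sm ga N3149 = N4040 := trf L90801 L28313 rfl
theorem L112886 : sm ga N4040 = N3149 := flp_a L112885
theorem L112888 : sm gg N3149 = N4037 := trf L90801 L28319 rfl
theorem L112889 : sm gg N4037 = N3149 := flp_g L112888
theorem L112894 : sm gg N3281 = N4530 := trf L90792 L45154 rfl
theorem L112895 : sm gg N4530 = N3281 := flp_g L112894
theorem L112907 : sm gg N2422 = N3125 := trf L90789 L30607 rfl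
theorem L112908 : sm gg N3125 = N2422 := flp_g L112907
theorem L112911 : sm ga N4758 = N4518 := trf L90765 L44982 rfl
theorem L112912 : sm ga N4518 = N4758 := flp_a L112911
theorem L112913 : sm ga N4802 = N4530 := trf L107315 L45137 rfl
theorem L112914 : sm ga N4530 = N4802 := flp_a L112913
theorem L112918 : sm ga N3141 = N3275 := trf L90756 L24571 rfl
theorem L112919 : sm ga N3275 = N3141 := flp_a L112918
theorem L112923 : sm gg N3141 = N2480 := trf L90756 L24570 rfl
theorem L112924 : sm gg N2480 = N3141 := flp_g L112923
theorem L112927 : sm ga N3689 = N3408 := trf L90746 L33502 rfl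
theorem L112928 : sm ga N3408 = N3689 := flp_a L112927
theorem L112936 : sm gb N3431 = N2687 := trf L90728 L26592 rfl
theorem L112937 : sm gb N2687 = N3431 := flp_b L112936
theorem L112948 : sm ga N2685 = N3586 := trf L90712 L85468 rfl
theorem L112949 : sm ga N3586 = N2685 := flp_a L112948
theorem L112951 : sm gf N2685 = N3586 := trf L90712 L33901 rfl
theorem L112952 : sm gf N3586 = N2685 := flp_f L112951
theorem L112953 : sm gg N2685 = N3446 := trf L90712 L33897 rfl
theorem L112954 : sm gg N3446 = N2685 := flp_g L112953
theorem L112956 : sm ga N2548 = N2683 := trf L90703 L21432 rfl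
theorem L112957 : sm ga N2683 = N2548 := flp_a L112956
theorem L112958 : sm gf N2548 = N2681 := trf L90703 L21435 rfl
theorem L112959 : sm gf N2681 = N2548 := flp_f L112958
theorem L112960 : sm gg N2548 = N2185 := trf L90703 L21431 rfl
theorem L112961 : sm gg N2185 = N2548 := flp_g L112960
theorem L112962 : sm gb N3273 = N3140 := trf L90700 L30769 rfl
theorem L112963 : sm gb N3140 = N3273 := flp_b L112962
theorem L112964 : sm gf N3273 = N3141 := trf L90700 L30772 rfl
theorem L112965 : sm gf N3141 = N3273 := flp_f L112964
theorem L112967 : sm gf N3687 = N3408 := trf L90694 L33494 rfl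
theorem L112968 : sm gf N3408 = N3687 := flp_f L112967
theorem L112969 : sm gb N2547 = N2681 := trf L90691 L26542 rfl
theorem L112970 : sm gb N2681 = N2547 := flp_b L112969
theorem L112975 : sm gb N2683 = N2559 := trf L90672 L25430 rfl
theorem L112976 : sm gb N2559 = N2683 := flp_b L112975
theorem L112987 : sm gd N3546 = N2683 := trf L90631 L26335 rfl
theorem L112988 : sm gd N2683 = N3546 := flp_d L112987
theorem L113003 : N3561 = N2539 := L82083.trans L95213
theorem L113022 : sm gb N2158 = N2113 := trf L90531 L20795 rfl
theorem L113023 : sm gb N2113 = N2158 := flp_b L113022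
theorem L113028 : sm gc N3203 = N7251 := trf L90528 L44949 rfl
theorem L113029 : sm gc N7251 = N3203 := flp_c L113028
theorem L113038 : sm gb N2411 = N2447 := trf L90522 L24084 rfl
theorem L113039 : sm gb N2447 = N2411 := flp_b L113038
theorem L113049 : sm gb N2182 = N2544 := trf L90510 L25288 rfl
theorem L113050 : sm gb N2544 = N2182 := flp_b L113049
theorem L113054 : sm gb N3137 = N2477 := trf L90501 L24538 rfl
theorem L113055 : sm gb N2477 = N3137 := flp_b L113054
theorem L113072 : sm gb N2542 = N2179 := trf L90458 L21387 rfl
theorem L113073 : N2179 = N3397 := eqe L113072 L25271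
theorem L113074 : N3397 = N2179 := (eqc rfl L113073 rfl).symm
theorem L113076 : sm gb N2179 = N2542 := trf L113074 L25272 rfl
theorem L113077 : sm gb N2542 = N2179 := flp_b L113076
theorem L113093 : sm gd N3137 = N4183 := trf L90439 L41288 rfl
theorem L113094 : sm gd N4183 = N3137 := flp_d L113093
theorem L113119 : sm ga N3131 = N4185 := trf L90405 L41404 rfl
theorem L113120 : N4185 = N4511 := eqe L113119 L30686
theorem L113121 : N4511 = N4185 := (eqc rfl L113120 rfl).symm
theorem L113122 : sm gg N3131 = N4183 := trf L90405 L41403 rfl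
theorem L113123 : sm gg N4183 = N3131 := flp_g L113122
theorem L113124 : sm ga N4185 = N3131 := trf L113121 L30687 rfl
theorem L113125 : sm ga N3131 = N4185 := flp_a L113124
theorem L113132 : N6593 = N3135 := L71609.trans L90451
theorem L113137 : sm ga N4122 = N3608 := trf L90398 L35478 rfl
theorem L113138 : sm ga N3608 = N4122 := flp_a L113137
theorem L113140 : sm gd N4122 = N3606 := trf L90398 L35477 rfl
theorem L113141 : sm gd N3606 = N4122 := flp_d L113140
theorem L113143 : sm ga N4184 = N6333 := trf L90395 L40480 rfl
theorem L113144 : sm ga N6333 = N4184 := flp_a L113143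
theorem L113147 : sm ga N2325 = N2300 := trf L90392 L22544 rfl
theorem L113148 : sm ga N2300 = N2325 := flp_a L113147
theorem L113153 : sm gb N4183 = N3254 := trf L90389 L32030 rfl
theorem L113154 : sm gb N3254 = N4183 := flp_b L113153
theorem L113168 : sm gb N7077 = N4435 := trf L90346 L44167 rfl
theorem L113169 : sm gb N4435 = N7077 := flp_b L113168
theorem L113170 : sm gc N7077 = N4507 := trf L90346 L75098 rfl
theorem L113171 : sm gc N4507 = N7077 := flp_c L113170
theorem L113172 : sm gd N7077 = N6197 := trf L90346 L84185 rfl
theorem L113173 : sm gd N6197 = N7077 := flp_d L113172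
theorem L113174 : sm ge N7077 = N4512 := trf L90346 L75100 rfl
theorem L113175 : sm ge N4512 = N7077 := flp_e L113174
theorem L113183 : sm ge N4183 = N3608 := trf L105377 L35497 rfl
theorem L113184 : sm ge N3608 = N4183 := flp_e L113183
theorem L113192 : sm gf N4122 = N4534 := trf L97905 L45200 rfl
theorem L113193 : sm gf N4534 = N4122 := flp_f L113192
theorem L113197 : sm ga N4534 = N5371 := trf L90319 L72599 rfl
theorem L113198 : sm ga N5371 = N4534 := flp_a L113197
theorem L113237 : sm gg N3554 = N3410 := trf L90275 L33537 rfl
theorem L113238 : sm gg N3410 = N3554 := flp_g L113237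
theorem L113249 : sm ga N2553 = N2626 := trf L90265 L82877 rfl
theorem L113250 : sm ga N2626 = N2553 := flp_a L113249
theorem L113280 : sm gg N3385 = N2646 := trf L90242 L26190 rfl
theorem L113281 : sm gg N2646 = N3385 := flp_g L113280
theorem L113290 : sm ga N2658 = N2617 := trf L90223 L25934 rfl
theorem L113291 : sm ga N2617 = N2658 := flp_a L113290
theorem L113339 : N3066 = N2562 := L72447.trans L100492
theorem L113341 : sm gf N2654 = N2553 := trf L90178 L25366 rfl
theorem L113342 : sm gf N2553 = N2654 := flp_f L113341
theorem L113343 : sm gg N2654 = N3389 := trf L90178 L25371 rfl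
theorem L113344 : sm gg N3389 = N2654 := flp_g L113343
theorem L113354 : sm ga N3555 = N3411 := trf L90156 L33532 rfl
theorem L113355 : sm ga N3411 = N3555 := flp_a L113354
theorem L113358 : sm gc N3555 = N3410 := trf L90156 L33531 rfl
theorem L113359 : sm gc N3410 = N3555 := flp_c L113358
theorem L113363 : sm gb N2655 = N3389 := trf L90153 L33337 rfl
theorem L113364 : sm gb N3389 = N2655 := flp_b L113363
theorem L113365 : sm gc N2655 = N8211 := trf L90153 L50915 rfl
theorem L113366 : sm gc N8211 = N2655 := flp_c L113365
theorem L113367 : sm gc N4999 = N3607 := trf L90150 L35484 rfl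
theorem L113368 : sm gc N3607 = N4999 := flp_c L113367
theorem L113369 : sm gg N4999 = N3606 := trf L90150 L35481 rfl
theorem L113370 : sm gg N3606 = N4999 := flp_g L113369
theorem L113372 : sm gc N2647 = N3385 := trf L90147 L33303 rfl
theorem L113373 : sm gc N3385 = N2647 := flp_c L113372
theorem L113375 : sm gf N2647 = N3411 := trf L90147 L33306 rfl
theorem L113376 : sm gf N3411 = N2647 := flp_f L113375
theorem L113379 : sm ga N6500 = N4507 := trf L90135 L44870 rfl
theorem L113380 : sm ga N4507 = N6500 := flp_a L113379
theorem L113381 : sm gc N6500 = N6753 := trf L90135 L84605 rfl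
theorem L113382 : sm gc N6753 = N6500 := flp_c L113381
theorem L113383 : sm gd N6500 = N4999 := trf L90135 L44871 rfl
theorem L113384 : sm gd N4999 = N6500 := flp_d L113383
theorem L113385 : sm gf N6500 = N4532 := trf L90135 L44875 rfl
theorem L113386 : sm gf N4532 = N6500 := flp_f L113385
theorem L113391 : sm gf N4724 = N4418 := trf L90127 L43058 rfl
theorem L113392 : sm gf N4418 = N4724 := flp_f L113391
theorem L113400 : sm gg N3553 = N3411 := trf L90115 L33549 rfl
theorem L113401 : sm gg N3411 = N3553 := flp_g L113400
theorem L113408 : sm ge N4416 = N3254 := trf L90091 L31871 rfl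
theorem L113409 : sm ge N3254 = N4416 := flp_e L113408
theorem L113412 : sm gg N4416 = N4638 := trf L90091 L31873 rfl
theorem L113413 : sm gg N4638 = N4416 := flp_g L113412
theorem L113417 : sm gc N4030 = N3254 := trf L90088 L32011 rfl
theorem L113418 : sm gc N3254 = N4030 := flp_c L113417
theorem L113422 : sm gc N4183 = N6333 := trf L97984 L40477 rfl
theorem L113423 : sm gc N6333 = N4183 := flp_c L113422
theorem L113432 : sm gc N3242 = N4417 := trf L90076 L43956 rfl
theorem L113433 : sm gc N4417 = N3242 := flp_c L113432
theorem L113434 : sm gf N3242 = N4416 := trf L90076 L43953 rfl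
theorem L113435 : sm gf N4416 = N3242 := flp_f L113434
theorem L113436 : sm ga N3252 = N3930 := trf L90073 L38518 rfl
theorem L113437 : sm ga N3930 = N3252 := flp_a L113436
theorem L113440 : sm gd N3252 = N3928 := trf L90073 L38517 rfl
theorem L113441 : sm gd N3928 = N3252 := flp_d L113440
theorem L113442 : sm ge N3252 = N4417 := trf L90073 L84678 rfl
theorem L113443 : N4417 = N11721 := eqe L113442 L110716
theorem L113444 : N11721 = N4417 := (eqc rfl L113443 rfl).symm
theorem L113445 : sm gf N3252 = N4030 := trf L90073 L84671 rfl
theorem L113446 : sm gf N4030 = N3252 := flp_f L113445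
theorem L113449 : sm ge N4417 = N3252 := trf L113444 L110717 rfl
theorem L113450 : sm ge N3252 = N4417 := flp_e L113449
theorem L113456 : sm ga N3253 = N4039 := trf L90070 L40019 rfl
theorem L113457 : sm ga N4039 = N3253 := flp_a L113456
theorem L113459 : sm gc N3250 = N3930 := trf L90067 L84765 rfl
theorem L113460 : sm gc N3930 = N3250 := flp_c L113459
theorem L113496 : sm gf N4027 = N3059 := trf L89927 L29935 rfl
theorem L113497 : sm gf N3059 = N4027 := flp_f L113496
theorem L113528 : sm ga N4034 = N4375 := trf L89903 L43401 rfl
theorem L113529 : sm ga N4375 = N4034 := flp_a L113528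
theorem L113534 : sm gg N4034 = N4369 := trf L89903 L43400 rfl
theorem L113535 : sm gg N4369 = N4034 := flp_g L113534
theorem L113537 : sm ga N3061 = N2876 := trf L89897 L28239 rfl
theorem L113538 : sm ga N2876 = N3061 := flp_a L113537
theorem L113547 : sm ge N3058 = N3079 := trf L89879 L28261 rfl
theorem L113548 : sm ge N3079 = N3058 := flp_e L113547
theorem L113551 : sm gg N3058 = N2876 := trf L89879 L28258 rfl
theorem L113552 : sm gg N2876 = N3058 := flp_g L113551
theorem L113558 : sm ga N4410 = N4294 := trf L89873 L42604 rfl
theorem L113559 : sm ga N4294 = N4410 := flp_a L113558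
theorem L113561 : sm ge N4410 = N4369 := trf L89873 L42606 rfl
theorem L113562 : sm ge N4369 = N4410 := flp_e L113561
theorem L113565 : sm gb N4021 = N3079 := trf L89870 L30121 rfl
theorem L113566 : sm gb N3079 = N4021 := flp_b L113565
theorem L113567 : sm gg N4021 = N3080 := trf L89870 L30124 rfl
theorem L113568 : sm gg N3080 = N4021 := flp_g L113567
theorem L113569 : sm ga N3021 = N3079 := trf L89867 L23387 rfl
theorem L113570 : sm ga N3079 = N3021 := flp_a L113569
theorem L113581 : sm gf N4026 = N3058 := trf L89861 L29921 rfl
theorem L113582 : sm gf N3058 = N4026 := flp_f L113581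
theorem L113588 : sm gf N2874 = N3061 := trf L89848 L29951 rfl
theorem L113589 : sm gf N3061 = N2874 := flp_f L113588
theorem L113598 : sm ge N3077 = N3061 := trf L89823 L29612 rfl
theorem L113599 : sm ge N3061 = N3077 := flp_e L113598
theorem L113600 : sm gg N3077 = N3021 := trf L89823 L29611 rfl
theorem L113601 : sm gg N3021 = N3077 := flp_g L113600
theorem L113616 : sm gc N3936 = N3932 := trf L89790 L38550 rfl
theorem L113617 : sm gc N3932 = N3936 := flp_c L113616
theorem L113620 : sm gg N3936 = N6109 := trf L89790 L38554 rfl
theorem L113621 : sm gg N6109 = N3936 := flp_g L113620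
theorem L113626 : sm gc N3921 = N2828 := trf L89785 L27784 rfl
theorem L113627 : sm gc N2828 = N3921 := flp_c L113626
theorem L113676 : sm gc N3678 = N3071 := trf L89636 L30041 rfl
theorem L113677 : sm gc N3071 = N3678 := flp_c L113676
theorem L113680 : sm ga N3010 = N3071 := trf L89632 L30039 rfl
theorem L113681 : sm ga N3071 = N3010 := flp_a L113680
theorem L113686 : sm gb N2867 = N3932 := trf L89626 L38557 rfl
theorem L113687 : sm gb N3932 = N2867 := flp_b L113686
theorem L113693 : sm gb N2840 = N3018 := trf L89617 L29557 rfl
theorem L113694 : sm gb N3018 = N2840 := flp_b L113693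
theorem L113695 : sm gd N2840 = N3021 := trf L89617 L29558 rfl
theorem L113696 : sm gd N3021 = N2840 := flp_d L113695
theorem L113702 : sm gb N6155 = N4289 := trf L89597 L42567 rfl
theorem L113703 : sm gb N4289 = N6155 := flp_b L113702
theorem L113704 : sm gc N6155 = N11370 := trf L89597 L67895 rfl
theorem L113705 : N11370 = N4330 := eqe L113704 L38654
theorem L113706 : N11370 = N4330 := eqc rfl L113705 rfl
theorem L113713 : sm ge N4330 = N10482 := trf L113706 L67897 rfl
theorem L113714 : sm ge N10482 = N4330 := flp_e L113713
theorem L113716 : sm gb N3955 = N4262 := trf L89558 L29554 rfl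
theorem L113717 : sm gb N4262 = N3955 := flp_b L113716
theorem L113718 : sm ge N3955 = N3057 := trf L89558 L29552 rfl
theorem L113719 : sm ge N3057 = N3955 := flp_e L113718
theorem L113720 : sm gg N3955 = N3017 := trf L89558 L29551 rfl
theorem L113721 : sm gg N3017 = N3955 := flp_g L113720
theorem L113726 : sm gc N3039 = N4262 := trf L89536 L42214 rfl
theorem L113727 : sm gc N4262 = N3039 := flp_c L113726
theorem L113737 : N6790 = N5989 := L80692.trans L88991
theorem L113748 : sm ge N4317 = N6155 := trf L89522 L60804 rfl
theorem L113749 : sm ge N6155 = N4317 := flp_e L113748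
theorem L113756 : sm gf N4261 = N4319 := trf L89516 L29748 rfl
theorem L113757 : sm gf N4319 = N4261 := flp_f L113756
theorem L113758 : sm gg N4261 = N3039 := trf L89516 L29745 rfl
theorem L113759 : sm gg N3039 = N4261 := flp_g L113758
theorem L113760 : sm gd N3033 = N3894 := trf L89488 L27540 rfl
theorem L113761 : sm gd N3894 = N3033 := flp_d L113760
theorem L113762 : sm gg N3033 = N2362 := trf L89488 L23192 rfl
theorem L113763 : sm gg N2362 = N3033 := flp_g L113762
theorem L113764 : sm ga N4057 = N4315 := trf L99311 L42837 rfl
theorem L113765 : sm ga N4315 = N4057 := flp_a L113764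
theorem L113767 : sm gc N4057 = N6144 := trf L99311 L42838 rfl
theorem L113768 : sm gc N6144 = N4057 := flp_c L113767
theorem L113777 : sm ga N6089 = N7048 := trf L99395 L84004 rfl
theorem L113778 : sm ga N7048 = N6089 := flp_a L113777
theorem L113779 : sm gb N6089 = N6906 := trf L99395 L84006 rfl
theorem L113780 : N6906 = N10120 := eqe L113779 L60602
theorem L113781 : N10120 = N6906 := (eqc rfl L113780 rfl).symm
theorem L113783 : sm gd N6089 = N6895 := trf L99395 L84008 rfl
theorem L113784 : N6895 = N11699 := eqe L113783 L107039
theorem L113785 : N11699 = N6895 := (eqc rfl L113784 rfl).symm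
theorem L113786 : sm ge N6089 = N8022 := trf L99395 L84010 rfl
theorem L113787 : N8022 = N10122 := eqe L113786 L60612
theorem L113788 : N10122 = N8022 := (eqc rfl L113787 rfl).symm
theorem L113789 : sm gf N6089 = N6144 := trf L99395 L84012 rfl
theorem L113790 : sm gf N6144 = N6089 := flp_f L113789
theorem L113791 : sm gg N6089 = N6061 := trf L99395 L84014 rfl
theorem L113792 : sm gg N6061 = N6089 := flp_g L113791
theorem L113797 : sm ge N8022 = N6089 := trf L113788 L60613 rfl
theorem L113798 : sm ge N6089 = N8022 := flp_e L113797
theorem L113801 : sm gd N6895 = N6089 := trf L113785 L107040 rfl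
theorem L113802 : sm gd N6089 = N6895 := flp_d L113801
theorem L113803 : sm gb N6906 = N6089 := trf L113781 L60603 rfl
theorem L113804 : sm gb N6089 = N6906 := flp_b L113803
theorem L113805 : sm ga N6090 = N6061 := trf L99223 L43411 rfl
theorem L113806 : sm ga N6061 = N6090 := flp_a L113805
theorem L113807 : sm gc N6090 = N8022 := trf L99223 L85228 rfl
theorem L113808 : sm gc N8022 = N6090 := flp_c L113807
theorem L113810 : sm gg N6090 = N7048 := trf L99223 L43811 rfl
theorem L113811 : sm gg N7048 = N6090 := flp_g L113810
theorem L113812 : sm ga N6091 = N8022 := trf L99333 L58751 rfl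
theorem L113813 : sm ga N8022 = N6091 := flp_a L113812
theorem L113814 : sm gc N6091 = N6061 := trf L99333 L84028 rfl
theorem L113815 : sm gc N6061 = N6091 := flp_c L113814
theorem L113816 : sm ge N6091 = N7048 := trf L99333 L84030 rfl
theorem L113817 : sm ge N7048 = N6091 := flp_e L113816
theorem L113818 : sm gf N6091 = N5931 := trf L99333 L58756 rfl
theorem L113819 : sm gf N5931 = N6091 := flp_f L113818
theorem L113821 : sm ga N6171 = N5931 := trf L89439 L59348 rfl
theorem L113822 : N5931 = N10314 := eqe L113821 L110849
theorem L113823 : N10314 = N5931 := (eqc rfl L113822 rfl).symm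
theorem L113824 : sm ge N6171 = N6144 := trf L89439 L85208 rfl
theorem L113825 : sm ge N6144 = N6171 := flp_e L113824
theorem L113826 : sm gf N6171 = N8022 := trf L89439 L59350 rfl
theorem L113827 : sm gf N8022 = N6171 := flp_f L113826
theorem L113828 : sm ga N5931 = N6171 := trf L113823 L110850 rfl
theorem L113829 : sm ga N6171 = N5931 := flp_a L113828
theorem L113833 : sm ge N4360 = N3956 := trf L89433 L38510 rfl
theorem L113834 : sm ge N3956 = N4360 := flp_e L113833
theorem L113837 : sm gg N4360 = N3927 := trf L89433 L38509 rfl
theorem L113838 : sm gg N3927 = N4360 := flp_g L113837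
theorem L113839 : sm gg N4057 = N6171 := trf L99372 L42971 rfl
theorem L113840 : sm gg N6171 = N4057 := flp_g L113839
theorem L113872 : sm gd N3929 = N4016 := trf L89388 L31997 rfl
theorem L113873 : sm gd N4016 = N3929 := flp_d L113872
theorem L113877 : sm gb N3909 = N3956 := trf L99165 L38795 rfl
theorem L113878 : sm gb N3956 = N3909 := flp_b L113877
theorem L113882 : sm gc N4360 = N5972 := trf L93803 L59342 rfl
theorem L113883 : sm gc N5972 = N4360 := flp_c L113882
theorem L113897 : sm gb N4056 = N3894 := trf L100888 L38173 rfl
theorem L113898 : sm gb N3894 = N4056 := flp_b L113897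
theorem L113903 : sm ga N3979 = N3127 := trf L89351 L30552 rfl
theorem L113904 : sm ga N3127 = N3979 := flp_a L113903
theorem L113905 : sm gc N3979 = N3123 := trf L89351 L30554 rfl
theorem L113906 : sm gc N3123 = N3979 := flp_c L113905
theorem L113909 : sm gf N3979 = N3121 := trf L89351 L30551 rfl
theorem L113910 : sm gf N3121 = N3979 := flp_f L113909
theorem L113911 : sm gd N3974 = N3979 := trf L89342 L30632 rfl
theorem L113912 : sm gd N3979 = N3974 := flp_d L113911
theorem L113914 : sm gg N3974 = N3127 := trf L89342 L30629 rfl
theorem L113915 : sm gg N3127 = N3974 := flp_g L113914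
theorem L113920 : sm ge N4386 = N6067 := trf L101284 L39028 rfl
theorem L113921 : sm ge N6067 = N4386 := flp_e L113920
theorem L113925 : sm ga N4254 = N6155 := trf L89257 L38653 rfl
theorem L113926 : sm ga N6155 = N4254 := flp_a L113925
theorem L113927 : sm gc N4254 = N4319 := trf L89257 L37845 rfl
theorem L113928 : sm gc N4319 = N4254 := flp_c L113927
theorem L113929 : sm gd N4254 = N6067 := trf L89257 L38193 rfl
theorem L113930 : sm gd N6067 = N4254 := flp_d L113929
theorem L113933 : sm gc N3896 = N3129 := trf L89254 L29354 rfl
theorem L113934 : sm gc N3129 = N3896 := flp_c L113933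
theorem L113935 : sm gd N3896 = N3001 := trf L89254 L29356 rfl
theorem L113936 : sm gd N3001 = N3896 := flp_d L113935
theorem L113937 : sm ge N3896 = N3127 := trf L89254 L29358 rfl
theorem L113938 : sm ge N3127 = N3896 := flp_e L113937
theorem L113939 : sm ga N6203 = N4377 := trf L89245 L43525 rfl
theorem L113940 : sm ga N4377 = N6203 := flp_a L113939
theorem L113941 : sm gg N6203 = N4386 := trf L89245 L43528 rfl
theorem L113942 : sm gg N4386 = N6203 := flp_g L113941
theorem L113943 : sm ge N4318 = N4319 := trf L89242 L42126 rfl
theorem L113944 : sm ge N4319 = N4318 := flp_e L113943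
theorem L113946 : sm gg N4318 = N4254 := trf L89242 L42125 rfl
theorem L113947 : sm gg N4254 = N4318 := flp_g L113946
theorem L113948 : sm gc N4442 = N6906 := trf L89239 L68342 rfl
theorem L113949 : sm gc N6906 = N4442 := flp_c L113948
theorem L113951 : sm gc N4407 = N4441 := trf L89233 L44110 rfl
theorem L113952 : sm gc N4441 = N4407 := flp_c L113951
theorem L113957 : sm ga N3040 = N4262 := trf L89223 L42204 rfl
theorem L113958 : sm ga N4262 = N3040 := flp_a L113957
theorem L113962 : sm gc N3092 = N4328 := trf L89220 L43060 rfl
theorem L113963 : sm gc N4328 = N3092 := flp_c L113962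
theorem L113966 : sm gd N3931 = N3249 := trf L89217 L31976 rfl
theorem L113967 : sm gd N3249 = N3931 := flp_d L113966
theorem L113970 : sm ga N6784 = N4328 := trf L89214 L43047 rfl
theorem L113971 : sm ga N4328 = N6784 := flp_a L113970
theorem L113972 : sm gb N6784 = N4417 := trf L89214 L43049 rfl
theorem L113973 : sm gb N4417 = N6784 := flp_b L113972
theorem L113979 : sm ga N4300 = N6067 := trf L89208 L43824 rfl
theorem L113980 : sm ga N6067 = N4300 := flp_a L113979
theorem L113981 : sm gd N4300 = N6155 := trf L89208 L43826 rfl
theorem L113982 : sm gd N6155 = N4300 := flp_d L113981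
theorem L113984 : sm gg N4300 = N4407 := trf L89208 L43823 rfl
theorem L113985 : sm gg N4407 = N4300 := flp_g L113984
theorem L113991 : sm gf N4260 = N6155 := trf L89205 L38657 rfl
theorem L113992 : sm gf N6155 = N4260 := flp_f L113991
theorem L113993 : sm gg N4260 = N3040 := trf L89205 L29753 rfl
theorem L113994 : sm gg N3040 = N4260 := flp_g L113993
theorem L114002 : sm gf N4258 = N6067 := trf L89196 L60464 rfl
theorem L114003 : sm gf N6067 = N4258 := flp_f L114002
theorem L114009 : sm gb N6203 = N8022 := trf L89274 L85226 rfl
theorem L114010 : sm gb N8022 = N6203 := flp_b L114009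
theorem L114013 : sm ge N6203 = N6906 := trf L89274 L61890 rfl
theorem L114014 : sm ge N6906 = N6203 := flp_e L114013
theorem L114023 : sm gc N6748 = N4363 := trf L89156 L43342 rfl
theorem L114024 : sm gc N4363 = N6748 := flp_c L114023
theorem L114033 : sm gd N6215 = N4396 := trf L89145 L43730 rfl
theorem L114034 : sm gd N4396 = N6215 := flp_d L114033
theorem L114039 : sm gg N6215 = N6748 := trf L89145 L73921 rfl
theorem L114040 : N6748 = N10309 := eqe L114039 L61677
theorem L114041 : N10309 = N6748 := (eqc rfl L114040 rfl).symm
theorem L114047 : sm gg N6748 = N6215 := trf L114041 L61676 rfl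
theorem L114048 : sm gg N6215 = N6748 := flp_g L114047
theorem L114069 : sm gd N4377 = N4450 := trf L89111 L85128 rfl
theorem L114070 : sm gd N4450 = N4377 := flp_d L114069
theorem L114071 : sm ge N4377 = N4407 := trf L89111 L39968 rfl
theorem L114072 : sm ge N4407 = N4377 := flp_e L114071
theorem L114074 : sm ga N3680 = N4009 := trf L89105 L39693 rfl
theorem L114075 : sm ga N4009 = N3680 := flp_a L114074
theorem L114076 : sm gb N3680 = N4450 := trf L89105 L85126 rfl
theorem L114077 : sm gb N4450 = N3680 := flp_b L114076
theorem L114082 : sm gf N3680 = N4012 := trf L89105 L39698 rfl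
theorem L114083 : sm gf N4012 = N3680 := flp_f L114082
theorem L114086 : sm gb N6226 = N11799 := trf L103103 L70244 rfl
theorem L114087 : sm gb N11799 = N6226 := flp_b L114086
theorem L114096 : sm gc N3065 = N3100 := trf L89092 L27907 rfl
theorem L114097 : sm gc N3100 = N3065 := flp_c L114096
theorem L114101 : sm gc N4393 = N3681 := trf L89089 L36229 rfl
theorem L114102 : sm gc N3681 = N4393 := flp_c L114101
theorem L114108 : sm ga N3978 = N3681 := trf L89084 L36225 rfl
theorem L114109 : sm ga N3681 = N3978 := flp_a L114108
theorem L114110 : sm gd N3978 = N4386 := trf L89084 L36226 rfl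
theorem L114111 : sm gd N4386 = N3978 := flp_d L114110
theorem L114114 : sm gf N2844 = N3065 := trf L89076 L29989 rfl
theorem L114115 : sm gf N3065 = N2844 := flp_f L114114
theorem L114117 : sm gd N4363 = N3964 := trf L89051 L38870 rfl
theorem L114118 : sm gd N3964 = N4363 := flp_d L114117
theorem L114125 : sm gg N4363 = N3971 := trf L89051 L38872 rfl
theorem L114126 : sm gg N3971 = N4363 := flp_g L114125
theorem L114130 : sm gb N4284 = N5989 := trf L89042 L42939 rfl
theorem L114131 : sm gb N5989 = N4284 := flp_b L114130
theorem L114133 : sm gf N4284 = N3956 := trf L89042 L38799 rfl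
theorem L114134 : sm gf N3956 = N4284 := flp_f L114133
theorem L114135 : sm gg N4284 = N3962 := trf L89042 L75420 rfl
theorem L114136 : sm gg N3962 = N4284 := flp_g L114135
theorem L114140 : N7262 = N6322 := L88858.trans L89024
theorem L114141 : sm gb N6322 = N4392 := trf L89024 L43705 rfl
theorem L114142 : sm gb N4392 = N6322 := flp_b L114141
theorem L114143 : sm gd N6322 = N7114 := trf L89024 L44197 rfl
theorem L114144 : sm gd N7114 = N6322 := flp_d L114143
theorem L114145 : sm ge N6322 = N4393 := trf L89024 L43706 rfl
theorem L114146 : sm ge N4393 = N6322 := flp_e L114145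
theorem L114150 : sm gg N6322 = N4447 := trf L89024 L43708 rfl
theorem L114151 : sm gg N4447 = N6322 := flp_g L114150
theorem L114157 : sm gb N4330 = N3919 := trf L89015 L38399 rfl
theorem L114158 : sm gb N3919 = N4330 := flp_b L114157
theorem L114159 : sm ge N4330 = N3942 := trf L89015 L38400 rfl
theorem L114160 : N3942 = N10482 := eqe L114159 L113713
theorem L114161 : N10482 = N3942 := (eqc rfl L114160 rfl).symm
theorem L114164 : sm ge N3942 = N4330 := trf L114161 L113714 rfl
theorem L114165 : sm ge N4330 = N3942 := flp_e L114164
theorem L114166 : sm ga N4024 = N3080 := trf L89010 L30127 rfl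
theorem L114167 : sm ga N3080 = N4024 := flp_a L114166
theorem L114168 : sm gb N4024 = N5991 := trf L89010 L38708 rfl
theorem L114169 : sm gb N5991 = N4024 := flp_b L114168
theorem L114171 : sm ga N5930 = N5991 := trf L89007 L37807 rfl
theorem L114172 : sm ga N5991 = N5930 := flp_a L114171
theorem L114176 : sm gd N5930 = N4319 := trf L89007 L37800 rfl
theorem L114177 : sm gd N4319 = N5930 := flp_d L114176
theorem L114182 : sm gg N5930 = N3853 := trf L89007 L37799 rfl
theorem L114183 : sm gg N3853 = N5930 := flp_g L114182
theorem L114189 : sm gb N3986 = N3928 := trf L89000 L38513 rfl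
theorem L114190 : sm gb N3928 = N3986 := flp_b L114189
theorem L114196 : sm gc N3041 = N10283 := trf L88997 L61532 rfl
theorem L114197 : sm gc N10283 = N3041 := flp_c L114196
theorem L114206 : sm gb N2836 = N3854 := trf L88994 L27597 rfl
theorem L114207 : sm gb N3854 = N2836 := flp_b L114206
theorem L114208 : sm gd N2836 = N3057 := trf L88994 L27595 rfl
theorem L114209 : sm gd N3057 = N2836 := flp_d L114208
theorem L114210 : sm gg N2836 = N2805 := trf L88994 L27594 rfl
theorem L114211 : sm gg N2805 = N2836 := flp_g L114210
theorem L114214 : sm gf N5989 = N5930 := trf L88991 L38808 rfl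
theorem L114215 : sm gf N5930 = N5989 := flp_f L114214
theorem L114216 : sm gb N3954 = N5978 := trf L88974 L59753 rfl
theorem L114217 : sm gb N5978 = N3954 := flp_b L114216
theorem L114218 : sm gg N3954 = N5985 := trf L88974 L59754 rfl
theorem L114219 : sm gg N5985 = N3954 := flp_g L114218
theorem L114220 : sm ga N5935 = N5978 := trf L88971 L59722 rfl
theorem L114221 : sm ga N5978 = N5935 := flp_a L114220
theorem L114222 : sm gc N5935 = N5989 := trf L88971 L59724 rfl
theorem L114223 : sm gc N5989 = N5935 := flp_c L114222
theorem L114228 : sm gc N5936 = N3853 := trf L88965 L37742 rfl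
theorem L114229 : sm gc N3853 = N5936 := flp_c L114228
theorem L114232 : sm gf N5936 = N3846 := trf L88965 L37741 rfl
theorem L114233 : sm gf N3846 = N5936 := flp_f L114232
theorem L114234 : sm ga N5976 = N7112 := trf L88962 L69924 rfl
theorem L114235 : sm ga N7112 = N5976 := flp_a L114234
theorem L114236 : sm gc N5976 = N7106 := trf L88962 L69926 rfl
theorem L114237 : sm gc N7106 = N5976 := flp_c L114236
theorem L114238 : sm ge N5976 = N7115 := trf L88962 L84101 rfl
theorem L114239 : sm ge N7115 = N5976 := flp_e L114238
theorem L114240 : sm gf N5976 = N9894 := trf L88962 L84111 rfl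
theorem L114241 : sm gf N9894 = N5976 := flp_f L114240
theorem L114242 : sm gg N5976 = N7103 := trf L88962 L69923 rfl
theorem L114243 : sm gg N7103 = N5976 := flp_g L114242
theorem L114244 : sm gd N5975 = N7112 := trf L88958 L84186 rfl
theorem L114245 : sm gd N7112 = N5975 := flp_d L114244
theorem L114248 : sm gg N5975 = N5935 := trf L88958 L59421 rfl
theorem L114249 : sm gg N5935 = N5975 := flp_g L114248
theorem L114250 : sm gb N4456 = N4046 := trf L88950 L39078 rfl
theorem L114251 : sm gb N4046 = N4456 := flp_b L114250
theorem L114252 : sm gd N4456 = N3985 := trf L88950 L39077 rfl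
theorem L114253 : N3985 = N11570 := eqe L114252 L107945
theorem L114254 : N11570 = N3985 := (eqc rfl L114253 rfl).symm
theorem L114260 : sm gd N3985 = N4456 := trf L114254 L107946 rfl
theorem L114261 : sm gd N4456 = N3985 := flp_d L114260
theorem L114267 : sm gd N4395 = N6225 := trf L88934 L61845 rfl
theorem L114268 : sm gd N6225 = N4395 := flp_d L114267
theorem L114269 : sm gc N4451 = N3986 := trf L88914 L39082 rfl
theorem L114270 : N3986 = N11603 := eqe L114269 L107903
theorem L114271 : N11603 = N3986 := (eqc rfl L114270 rfl).symm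
theorem L114272 : sm ge N4451 = N5978 := trf L88914 L39084 rfl
theorem L114273 : N5978 = N11604 := eqe L114272 L107906
theorem L114274 : N11604 = N5978 := (eqc rfl L114273 rfl).symm
theorem L114275 : sm gg N4451 = N3985 := trf L88914 L39081 rfl
theorem L114276 : sm gg N3985 = N4451 := flp_g L114275
theorem L114277 : sm ge N5978 = N4451 := trf L114274 L107907 rfl
theorem L114278 : sm ge N4451 = N5978 := flp_e L114277
theorem L114279 : sm gc N3986 = N4451 := trf L114271 L107904 rfl
theorem L114280 : sm gc N4451 = N3986 := flp_c L114279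
theorem L114283 : sm gf N4447 = N5978 := trf L88911 L59757 rfl
theorem L114284 : sm gf N5978 = N4447 := flp_f L114283
theorem L114286 : sm ga N4450 = N6226 := trf L88908 L39088 rfl
theorem L114287 : sm ga N6226 = N4450 := flp_a L114286
theorem L114292 : sm gf N4450 = N3986 := trf L88908 L39087 rfl
theorem L114293 : sm gf N3986 = N4450 := flp_f L114292
theorem L114294 : sm gc N4449 = N6226 := trf L88905 L61854 rfl
theorem L114295 : sm gc N6226 = N4449 := flp_c L114294
theorem L114296 : sm gg N4449 = N6225 := trf L88905 L61851 rfl
theorem L114297 : sm gg N6225 = N4449 := flp_g L114296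
theorem L114300 : N11406 = N4521 := L72853.trans L106599
theorem L114301 : sm gf N6877 = N4555 := trf L88863 L45015 rfl
theorem L114302 : sm gf N4555 = N6877 := flp_f L114301
theorem L114305 : sm gf N6322 = N5975 := trf L114140 L45010 rfl
theorem L114306 : sm gf N5975 = N6322 := flp_f L114305
theorem L114329 : sm gb N4560 = N3329 := trf L88832 L31236 rfl
theorem L114330 : sm gb N3329 = N4560 := flp_b L114329
theorem L114331 : sm gc N4560 = N7456 := trf L88832 L46153 rfl
theorem L114332 : sm gc N7456 = N4560 := flp_c L114331
theorem L114339 : sm gb N2420 = N2022 := trf L88829 L20185 rfl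
theorem L114340 : sm gb N2022 = N2420 := flp_b L114339
theorem L114342 : sm gb N2510 = N3154 := trf L88826 L30941 rfl
theorem L114343 : sm gb N3154 = N2510 := flp_b L114342
theorem L114344 : sm gg N2510 = N3163 := trf L88826 L30944 rfl
theorem L114345 : sm gg N3163 = N2510 := flp_g L114344
theorem L114353 : sm gf N3151 = N4392 := trf L88809 L43711 rfl
theorem L114354 : sm gf N4392 = N3151 := flp_f L114353
theorem L114366 : sm gd N3078 = N4385 := trf L88781 L43612 rfl
theorem L114367 : sm gd N4385 = N3078 := flp_d L114366
theorem L114372 : sm gc N4341 = N3137 := trf L88770 L30740 rfl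
theorem L114373 : sm gc N3137 = N4341 := flp_c L114372
theorem L114376 : sm gg N4341 = N3136 := trf L88770 L30739 rfl
theorem L114377 : sm gg N3136 = N4341 := flp_g L114376
theorem L114380 : sm gc N2544 = N3063 := trf L88766 L23278 rfl
theorem L114381 : sm gc N3063 = N2544 := flp_c L114380
theorem L114382 : sm gd N2544 = N2170 := trf L88766 L21283 rfl
theorem L114383 : sm gd N2170 = N2544 := flp_d L114382
theorem L114385 : sm gb N4556 = N4298 := trf L88755 L31225 L72823
theorem L114386 : N4298 = N7344 := eqe L114385 L45469
theorem L114387 : N7344 = N4298 := (eqc rfl L114386 rfl).symm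
theorem L114389 : sm gf N4556 = N4341 := trf L88755 L31222 rfl
theorem L114390 : sm gf N4341 = N4556 := flp_f L114389
theorem L114392 : sm gb N4298 = N4556 := trf L114387 L45470 rfl
theorem L114393 : sm gb N4556 = N4298 := flp_b L114392
theorem L114404 : sm gf N5112 = N4297 := trf L88749 L34714 rfl
theorem L114405 : sm gf N4297 = N5112 := flp_f L114404
theorem L114406 : sm gb N2561 = N2224 := trf L88746 L21060 rfl
theorem L114407 : sm gb N2224 = N2561 := flp_b L114406
theorem L114412 : sm gd N4341 = N5112 := trf L88736 L51855 rfl
theorem L114413 : sm gd N5112 = N4341 := flp_d L114412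
theorem L114416 : sm gd N2558 = N3070 := trf L88727 L30026 rfl
theorem L114417 : sm gd N3070 = N2558 := flp_d L114416
theorem L114421 : sm gb N4369 = N3070 := trf L88723 L30037 rfl
theorem L114422 : sm gb N3070 = N4369 := flp_b L114421
theorem L114423 : sm ga N3068 = N2543 := trf L88713 L25275 rfl
theorem L114424 : sm ga N2543 = N3068 := flp_a L114423
theorem L114427 : sm gf N3068 = N2558 := trf L88713 L25277 rfl
theorem L114428 : sm gf N2558 = N3068 := flp_f L114427
theorem L114451 : sm ge N4278 = N4560 := trf L88675 L45507 rfl
theorem L114452 : sm ge N4560 = N4278 := flp_e L114451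
theorem L114455 : sm gg N3829 = N3302 := trf L88671 L32590 rfl
theorem L114456 : sm gg N3302 = N3829 := flp_g L114455
theorem L114457 : sm ga N2560 = N3070 := trf L88662 L23310 rfl
theorem L114458 : sm ga N3070 = N2560 := flp_a L114457
theorem L114464 : sm gg N2560 = N2367 := trf L88662 L23230 rfl
theorem L114465 : sm gg N2367 = N2560 := flp_g L114464
theorem L114469 : sm gg N4559 = N4278 := trf L88659 L42419 rfl
theorem L114470 : sm gg N4278 = N4559 := flp_g L114469
theorem L114471 : sm ga N4304 = N3159 := trf L88651 L30987 rfl
theorem L114472 : sm ga N3159 = N4304 := flp_a L114471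
theorem L114479 : sm gd N3064 = N2543 := trf L88644 L25280 rfl
theorem L114480 : sm gd N2543 = N3064 := flp_d L114479
theorem L114481 : sm gf N3064 = N2560 := trf L88644 L25281 rfl
theorem L114482 : sm gf N2560 = N3064 := flp_f L114481
theorem L114491 : sm ga N6337 = N4303 := trf L88641 L42686 rfl
theorem L114492 : sm ga N4303 = N6337 := flp_a L114491
theorem L114497 : sm gd N6337 = N4299 := trf L88641 L42688 rfl
theorem L114498 : sm gd N4299 = N6337 := flp_d L114497
theorem L114501 : sm gg N6337 = N4298 := trf L88641 L42685 rfl
theorem L114502 : sm gg N4298 = N6337 := flp_g L114501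
theorem L114504 : sm gb N4581 = N4299 := trf L88638 L42693 rfl
theorem L114505 : sm gb N4299 = N4581 := flp_b L114504
theorem L114508 : N4461 = N4385 := L75583.trans L98088
theorem L114511 : sm gc N4300 = N3091 := trf L88627 L30212 rfl
theorem L114512 : sm gc N3091 = N4300 := flp_c L114511
theorem L114524 : sm gg N3678 = N4009 := trf L88586 L39707 rfl
theorem L114525 : sm gg N4009 = N3678 := flp_g L114524
theorem L114538 : sm gc N2866 = N3020 := trf L88557 L29582 rfl
theorem L114539 : sm gc N3020 = N2866 := flp_c L114538
theorem L114550 : N4290 = N2872 := L71788.trans L89922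
theorem L114552 : sm gg N3019 = N2866 := trf L88544 L28146 rfl
theorem L114553 : sm gg N2866 = N3019 := flp_g L114552
theorem L114557 : sm gb N2868 = N3020 := trf L88530 L27725 rfl
theorem L114558 : sm gb N3020 = N2868 := flp_b L114557
theorem L114559 : sm gd N2868 = N2822 := trf L88530 L27723 rfl
theorem L114560 : sm gd N2822 = N2868 := flp_d L114559
theorem L114563 : sm gg N2868 = N2819 := trf L88530 L27722 rfl
theorem L114564 : sm gg N2819 = N2868 := flp_g L114563
theorem L114569 : sm gd N2870 = N3932 := trf L88516 L38492 rfl
theorem L114570 : sm gd N3932 = N2870 := flp_d L114569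
theorem L114578 : sm gd N4024 = N3919 := trf L88502 L38376 rfl
theorem L114579 : sm gd N3919 = N4024 := flp_d L114578
theorem L114587 : sm gc N3924 = N4017 := trf L88489 L39788 rfl
theorem L114588 : sm gc N4017 = N3924 := flp_c L114587
theorem L114593 : sm gg N3924 = N4016 := trf L88489 L39785 rfl
theorem L114594 : sm gg N4016 = N3924 := flp_g L114593
theorem L114599 : sm gb N4317 = N4017 := trf L88486 L39793 rfl
theorem L114600 : sm gb N4017 = N4317 := flp_b L114599
theorem L114604 : sm gb N2869 = N3019 := trf L88483 L27719 rfl
theorem L114605 : sm gb N3019 = N2869 := flp_b L114604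
theorem L114606 : sm gc N2869 = N2819 := trf L88483 L27718 rfl
theorem L114607 : sm gc N2819 = N2869 := flp_c L114606
theorem L114608 : sm gb N2475 = N3135 := trf L88475 L30723 rfl
theorem L114609 : sm gb N3135 = N2475 := flp_b L114608
theorem L114613 : sm ga N4025 = N3853 := trf L88472 L37788 rfl
theorem L114614 : sm ga N3853 = N4025 := flp_a L114613
theorem L114615 : sm gd N4025 = N4317 := trf L88472 L37790 rfl
theorem L114616 : sm gd N4317 = N4025 := flp_d L114615
theorem L114617 : sm gf N4025 = N3852 := trf L88472 L37787 rfl
theorem L114618 : sm gf N3852 = N4025 := flp_f L114617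
theorem L114619 : sm gg N4025 = N5991 := trf L88472 L37811 rfl
theorem L114620 : sm gg N5991 = N4025 := flp_g L114619
theorem L114633 : sm gg N3999 = N3071 := trf L88444 L30043 rfl
theorem L114634 : sm gg N3071 = N3999 := flp_g L114633
theorem L114635 : sm ga N3581 = N3996 := trf L88436 L28177 rfl
theorem L114636 : sm ga N3996 = N3581 := flp_a L114635
theorem L114637 : sm gd N3581 = N2873 := trf L88436 L28179 rfl
theorem L114638 : sm gd N2873 = N3581 := flp_d L114637
theorem L114641 : sm gg N3581 = N3994 := trf L88436 L28181 rfl
theorem L114642 : sm gg N3994 = N3581 := flp_g L114641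
theorem L114648 : sm gb N2366 = N2873 := trf L88430 L28224 rfl
theorem L114649 : sm gb N2873 = N2366 := flp_b L114648
theorem L114665 : sm gd N2182 = N2552 := trf L88419 L25358 rfl
theorem L114666 : sm gd N2552 = N2182 := flp_d L114665
theorem L114669 : sm gb N3013 = N2680 := trf L88416 L26538 rfl
theorem L114670 : sm gb N2680 = N3013 := flp_b L114669
theorem L114671 : sm gd N3013 = N3071 := trf L88416 L26539 rfl
theorem L114672 : sm gd N3071 = N3013 := flp_d L114671
theorem L114687 : sm gf N2385 = N3021 := trf L88400 L29607 rfl
theorem L114688 : sm gf N3021 = N2385 := flp_f L114687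
theorem L114710 : sm gc N2368 = N2560 := trf L88353 L25432 rfl
theorem L114711 : sm gc N2560 = N2368 := flp_c L114710
theorem L114720 : sm ge N2861 = N2744 := trf L88331 L24775 rfl
theorem L114721 : sm ge N2744 = N2861 := flp_e L114720
theorem L114725 : sm ga N2217 = N2246 := trf L88326 L19173 rfl
theorem L114726 : sm ga N2246 = N2217 := flp_a L114725
theorem L114729 : sm ge N2217 = N2275 := trf L88326 L19321 rfl
theorem L114730 : sm ge N2275 = N2217 := flp_e L114729
theorem L114731 : sm gg N2217 = N1280 := trf L88326 L19119 rfl
theorem L114732 : sm gg N1280 = N2217 := flp_g L114731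
theorem L114737 : sm gd N1855 = N2217 := trf L88313 L21670 rfl
theorem L114738 : sm gd N2217 = N1855 := flp_d L114737
theorem L114743 : sm gb N2352 = N2264 := trf L88298 L22072 rfl
theorem L114744 : sm gb N2264 = N2352 := flp_b L114743
theorem L114745 : sm gc N2352 = N2905 := trf L88298 L22503 rfl
theorem L114746 : sm gc N2905 = N2352 := flp_c L114745
theorem L114752 : sm gb N2566 = N2368 := trf L88289 L23234 rfl
theorem L114753 : sm gb N2368 = N2566 := flp_b L114752
theorem L114756 : sm gb N3015 = N2359 := trf L88282 L23146 rfl
theorem L114757 : sm gb N2359 = N3015 := flp_b L114756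
theorem L114758 : sm gc N3015 = N3159 := trf L88282 L23802 rfl
theorem L114759 : sm gc N3159 = N3015 := flp_c L114758
theorem L114772 : sm gf N3087 = N4300 := trf L88266 L42705 rfl
theorem L114773 : sm gf N4300 = N3087 := flp_f L114772
theorem L114789 : sm gb N3029 = N4273 := trf L88207 L42347 rfl
theorem L114790 : sm gb N4273 = N3029 := flp_b L114789
theorem L114808 : sm gb N4367 = N3098 := trf L88132 L30325 rfl
theorem L114809 : sm gb N3098 = N4367 := flp_b L114808
theorem L114810 : sm gd N4367 = N3101 := trf L88132 L30326 rfl
theorem L114811 : sm gd N3101 = N4367 := flp_d L114810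
theorem L114817 : sm gc N4244 = N4185 := trf L88118 L41414 rfl
theorem L114818 : sm gc N4185 = N4244 := flp_c L114817
theorem L114819 : sm gg N4244 = N4184 := trf L88118 L41413 rfl
theorem L114820 : sm gg N4184 = N4244 := flp_g L114819
theorem L114827 : sm gf N3970 = N4000 := trf L88090 L39605 rfl
theorem L114828 : sm gf N4000 = N3970 := flp_f L114827
theorem L114831 : sm gb N2947 = N3584 := trf L88081 L35260 rfl
theorem L114832 : sm gb N3584 = N2947 := flp_b L114831
theorem L114840 : sm ga N4000 = N4325 := trf L88075 L39408 rfl
theorem L114841 : sm ga N4325 = N4000 := flp_a L114840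
theorem L114842 : sm gc N4000 = N4150 := trf L88075 L75235 rfl
theorem L114843 : sm gc N4150 = N4000 := flp_c L114842
theorem L114867 : N6370 = N3584 := L87883.trans L103478
theorem L114887 : sm ga N4054 = N2970 := trf L87962 L29122 rfl
theorem L114888 : sm ga N2970 = N4054 := flp_a L114887
theorem L114889 : sm gc N4054 = N2969 := trf L87962 L29121 rfl
theorem L114890 : sm gc N2969 = N4054 := flp_c L114889
theorem L114911 : sm gg N3214 = N4054 := trf L87948 L28401 rfl
theorem L114912 : sm gg N4054 = N3214 := flp_g L114911
theorem L114917 : sm gg N4863 = N5938 := trf L103652 L87927 rfl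
theorem L114918 : sm gg N5938 = N4863 := flp_g L114917
theorem L114930 : sm ge N2780 = N3589 := trf L87892 L35325 rfl
theorem L114931 : sm ge N3589 = N2780 := flp_e L114930
theorem L114932 : sm ge N3584 = N4054 := trf L114867 L40160 rfl
theorem L114933 : sm ge N4054 = N3584 := flp_e L114932
theorem L114944 : sm gc N4819 = N4137 := trf L102114 L40990 rfl
theorem L114945 : sm gc N4137 = N4819 := flp_c L114944
theorem L114948 : sm gg N4819 = N4136 := trf L102114 L40987 rfl
theorem L114949 : sm gg N4136 = N4819 := flp_g L114948
theorem L114951 : sm gc N2780 = N2334 := trf L87811 L22873 rfl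
theorem L114952 : sm gc N2334 = N2780 := flp_c L114951
theorem L114956 : sm gg N2780 = N2333 := trf L87811 L22872 rfl
theorem L114957 : sm gg N2333 = N2780 := flp_g L114956
theorem L114967 : sm ge N2749 = N2894 := trf L87782 L22427 rfl
theorem L114968 : sm ge N2894 = N2749 := flp_e L114967
theorem L114980 : sm gc N3751 = N2983 := trf L103517 L29254 rfl
theorem L114981 : sm gc N2983 = N3751 := flp_c L114980
theorem L114990 : sm ga N2572 = N2781 := trf L103267 L27361 rfl
theorem L114991 : sm ga N2781 = N2572 := flp_a L114990
theorem L114993 : sm gf N2572 = N2778 := trf L103267 L27360 rfl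
theorem L114994 : sm gf N2778 = N2572 := flp_f L114993
theorem L114998 : sm ga N2225 = N2235 := trf L87740 L21803 rfl
theorem L114999 : sm ga N2235 = N2225 := flp_a L114998
theorem L115007 : sm ga N2514 = N2884 := trf L87727 L22376 rfl
theorem L115008 : sm ga N2884 = N2514 := flp_a L115007
theorem L115010 : sm gg N2514 = N2879 := trf L87727 L22382 rfl
theorem L115011 : sm gg N2879 = N2514 := flp_g L115010
theorem L115013 : sm gg N2223 = N2235 := trf L87716 L21814 rfl
theorem L115014 : sm gg N2235 = N2223 := flp_g L115013
theorem L115017 : sm gg N3327 = N3342 := trf L87713 L32898 rfl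
theorem L115018 : sm gg N3342 = N3327 := flp_g L115017
theorem L115019 : sm ga N3326 = N2808 := trf L87710 L27605 rfl
theorem L115020 : sm ga N2808 = N3326 := flp_a L115019
theorem L115021 : sm gf N3326 = N2898 := trf L87710 L27612 rfl
theorem L115022 : sm gf N2898 = N3326 := flp_f L115021
theorem L115023 : sm gg N3326 = N2806 := trf L87710 L27604 rfl
theorem L115024 : sm gg N2806 = N3326 := flp_g L115023
theorem L115025 : sm gd N2748 = N2893 := trf L87701 L22419 rfl
theorem L115026 : sm gd N2893 = N2748 := flp_d L115025
theorem L115027 : sm ge N2748 = N2893 := trf L87701 L22421 rfl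
theorem L115028 : sm ge N2893 = N2748 := flp_e L115027
theorem L115031 : sm gb N4053 = N4541 := trf L87698 L30843 rfl
theorem L115032 : sm gb N4541 = N4053 := flp_b L115031
theorem L115033 : sm gd N4053 = N2970 := trf L87698 L29133 rfl
theorem L115034 : sm gd N2970 = N4053 := flp_d L115033
theorem L115040 : sm gb N3845 = N2893 := trf L87695 L28361 rfl
theorem L115041 : sm gb N2893 = N3845 := flp_b L115040
theorem L115042 : sm gg N3845 = N3811 := trf L87695 L28359 rfl
theorem L115043 : sm gg N3811 = N3845 := flp_g L115042
theorem L115044 : sm gd N2290 = N2219 := trf L87692 L20592 rfl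
theorem L115045 : sm gd N2219 = N2290 := flp_d L115044
theorem L115046 : sm ge N2290 = N2219 := trf L87692 L20594 rfl
theorem L115047 : sm ge N2219 = N2290 := flp_e L115046
theorem L115051 : sm ga N2511 = N2517 := trf L87686 L24946 rfl
theorem L115052 : sm ga N2517 = N2511 := flp_a L115051
theorem L115054 : sm gf N2511 = N2515 := trf L87686 L24945 rfl
theorem L115055 : sm gf N2515 = N2511 := flp_f L115054
theorem L115059 : sm gb N2233 = N2515 := trf L87678 L24960 rfl
theorem L115060 : sm gb N2515 = N2233 := flp_b L115059
theorem L115061 : sm gf N2233 = N2225 := trf L87678 L21737 rfl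
theorem L115062 : sm gf N2225 = N2233 := flp_f L115061
theorem L115063 : sm gg N2233 = N2748 := trf L87678 L21740 rfl
theorem L115064 : sm gg N2748 = N2233 := flp_g L115063
theorem L115076 : sm gb N3278 = N3587 := trf L87582 L35309 rfl
theorem L115077 : sm gb N3587 = N3278 := flp_b L115076
theorem L115079 : sm gc N4576 = N4200 := trf L112041 L74959 rfl
theorem L115080 : sm gc N4200 = N4576 := flp_c L115079
theorem L115092 : sm ga N4187 = N3584 := trf L87530 L35270 rfl
theorem L115093 : sm ga N3584 = N4187 := flp_a L115092
theorem L115108 : sm gf N4576 = N3698 := trf L107212 L36427 rfl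
theorem L115109 : sm gf N3698 = N4576 := flp_f L115108
theorem L115119 : sm gg N3587 = N4187 := trf L107827 L41445 rfl
theorem L115120 : sm gg N4187 = N3587 := flp_g L115119
theorem L115123 : sm gb N3339 = N3699 := trf L87988 L36424 rfl
theorem L115124 : sm gb N3699 = N3339 := flp_b L115123
theorem L115125 : sm gd N3339 = N3698 := trf L87988 L36423 rfl
theorem L115126 : sm gd N3698 = N3339 := flp_d L115125
theorem L115149 : sm gf N3429 = N3584 := trf L87478 L35279 rfl
theorem L115150 : sm gf N3584 = N3429 := flp_f L115149
theorem L115213 : sm gg N4212 = N4166 := trf L93271 L41239 rfl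
theorem L115214 : sm gg N4166 = N4212 := flp_g L115213
theorem L115221 : sm gd N2516 = N3214 := trf L87447 L31545 rfl
theorem L115222 : sm gd N3214 = N2516 := flp_d L115221
theorem L115224 : sm ga N3698 = N3214 := trf L87440 L31532 rfl
theorem L115225 : sm ga N3214 = N3698 := flp_a L115224
theorem L115228 : sm ge N3698 = N3587 := trf L87440 L31534 rfl
theorem L115229 : sm ge N3587 = N3698 := flp_e L115228
theorem L115232 : sm gg N2234 = N2749 := trf L87432 L27071 rfl
theorem L115233 : sm gg N2749 = N2234 := flp_g L115232
theorem L115234 : N5104 = N2637 := L74893.trans L86727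
theorem L115245 : sm gg N4731 = N7108 := trf L94033 L59475 rfl
theorem L115246 : sm gg N7108 = N4731 := flp_g L115245
theorem L115247 : sm ga N4862 = N3590 := trf L93223 L35316 rfl
theorem L115248 : sm ga N3590 = N4862 := flp_a L115247
theorem L115254 : sm gf N4862 = N3587 := trf L93223 L35315 rfl
theorem L115255 : sm gf N3587 = N4862 := flp_f L115254
theorem L115264 : sm gg N4433 = N3590 := trf L87388 L35339 rfl
theorem L115265 : sm gg N3590 = N4433 := flp_g L115264
theorem L115266 : sm ga N2976 = N4200 := trf L92325 L29147 rfl
theorem L115267 : sm ga N4200 = N2976 := flp_a L115266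
theorem L115269 : sm gg N2976 = N2954 := trf L92325 L29011 rfl
theorem L115270 : sm gg N2954 = N2976 := flp_g L115269
theorem L115319 : sm gb N2971 = N3695 := trf L87298 L50131 rfl
theorem L115320 : sm gb N3695 = N2971 := flp_b L115319
theorem L115321 : sm gc N2971 = N3698 := trf L87298 L50133 rfl
theorem L115322 : sm gc N3698 = N2971 := flp_c L115321
theorem L115339 : sm gf N3095 = N2861 := trf L105970 L28070 rfl
theorem L115340 : sm gf N2861 = N3095 := flp_f L115339
theorem L115344 : sm gb N2271 = N2405 := trf L87177 L23618 rfl
theorem L115345 : sm gb N2405 = N2271 := flp_b L115344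
theorem L115356 : sm ga N2862 = N3931 := trf L87138 L38522 rfl
theorem L115357 : sm ga N3931 = N2862 := flp_a L115356
theorem L115358 : sm gc N2862 = N3929 := trf L87138 L38524 rfl
theorem L115359 : sm gc N3929 = N2862 := flp_c L115358
theorem L115360 : sm gg N2862 = N3928 := trf L87138 L38521 rfl
theorem L115361 : sm gg N3928 = N2862 := flp_g L115360
theorem L115369 : sm ga N2138 = N2350 := trf L93642 L22999 rfl
theorem L115370 : sm ga N2350 = N2138 := flp_a L115369
theorem L115371 : sm gd N2138 = N2347 := trf L93642 L23003 rfl
theorem L115372 : sm gd N2347 = N2138 := flp_d L115371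
theorem L115373 : sm gg N2138 = N2345 := trf L93642 L22998 rfl
theorem L115374 : sm gg N2345 = N2138 := flp_g L115373
theorem L115395 : sm gb N2430 = N3155 := trf L100558 L30957 rfl
theorem L115396 : sm gb N3155 = N2430 := flp_b L115395
theorem L115398 : sm gd N2964 = N3155 := trf L87002 L30852 rfl
theorem L115399 : sm gd N3155 = N2964 := flp_d L115398
theorem L115413 : sm gb N2347 = N1853 := trf L86949 L19799 rfl
theorem L115414 : sm gb N1853 = N2347 := flp_b L115413
theorem L115437 : sm ga N2971 = N2449 := trf L86873 L24094 rfl
theorem L115438 : sm ga N2449 = N2971 := flp_a L115437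
theorem L115443 : sm gf N2982 = N4226 := trf L86867 L29279 rfl
theorem L115444 : sm gf N4226 = N2982 := flp_f L115443
theorem L115456 : sm gf N3144 = N4185 := trf L86845 L41419 rfl
theorem L115457 : sm gf N4185 = N3144 := flp_f L115456
theorem L115458 : sm gb N2969 = N2448 := trf L86835 L24088 rfl
theorem L115459 : sm gb N2448 = N2969 := flp_b L115458
theorem L115462 : sm gg N2969 = N2449 := trf L86835 L24091 rfl
theorem L115463 : sm gg N2449 = N2969 := flp_g L115462
theorem L115464 : sm ga N2977 = N3254 := trf L86829 L24436 rfl
theorem L115465 : sm ga N3254 = N2977 := flp_a L115464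
theorem L115466 : sm gd N2977 = N2448 := trf L86829 L24059 rfl
theorem L115467 : sm gd N2448 = N2977 := flp_d L115466
theorem L115469 : sm gf N2977 = N3250 := trf L86829 L24420 rfl
theorem L115470 : sm gf N3250 = N2977 := flp_f L115469
theorem L115471 : sm gg N2977 = N2443 := trf L86829 L24058 rfl
theorem L115472 : sm gg N2443 = N2977 := flp_g L115471
theorem L115474 : sm gd N4135 = N3555 := trf L86822 L31384 rfl
theorem L115475 : sm gd N3555 = N4135 := flp_d L115474
theorem L115476 : sm gf N4135 = N4725 := trf L86822 L31848 rfl
theorem L115477 : sm gf N4725 = N4135 := flp_f L115476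
theorem L115478 : sm gg N4135 = N3199 := trf L86822 L31383 rfl
theorem L115479 : sm gg N3199 = N4135 := flp_g L115478
theorem L115480 : sm gd N2979 = N2449 := trf L86815 L24063 rfl
theorem L115481 : sm gd N2449 = N2979 := flp_d L115480
theorem L115482 : sm gb N2945 = N4137 := trf L112100 L40997 rfl
theorem L115483 : sm gb N4137 = N2945 := flp_b L115482
theorem L115490 : sm ga N5375 = N6513 := trf L86795 L64778 rfl
theorem L115491 : N6513 = N8874 := eqe L115490 L54206
theorem L115492 : N8874 = N6513 := (eqc rfl L115491 rfl).symm
theorem L115494 : sm gg N5375 = N6510 := trf L86795 L64777 rfl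
theorem L115495 : N6510 = N8871 := eqe L115494 L54194
theorem L115496 : N8871 = N6510 := (eqc rfl L115495 rfl).symm
theorem L115498 : sm gd N6510 = N5394 := trf L115496 L103599 rfl
theorem L115499 : N5394 = N10803 := eqe L115498 L74625
theorem L115500 : N10803 = N5394 := (eqc rfl L115499 rfl).symm
theorem L115503 : sm gg N6510 = N5375 := trf L115496 L54193 rfl
theorem L115504 : sm gg N5375 = N6510 := flp_g L115503
theorem L115508 : sm gd N5394 = N6510 := trf L115500 L74624 rfl
theorem L115509 : sm gd N6510 = N5394 := flp_d L115508
theorem L115510 : sm ge N5394 = N6510 := trf L115500 L64624 rfl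
theorem L115511 : sm ge N6510 = N5394 := flp_e L115510
theorem L115512 : sm ga N6513 = N5375 := trf L115492 L54205 rfl
theorem L115513 : sm ga N5375 = N6513 := flp_a L115512
theorem L115517 : sm ga N6527 = N10833 := trf L112094 L64803 rfl
theorem L115518 : sm ga N10833 = N6527 := flp_a L115517
theorem L115519 : sm gg N6527 = N6481 := trf L112094 L64395 rfl
theorem L115520 : sm gg N6481 = N6527 := flp_g L115519
theorem L115521 : sm gb N4127 = N3555 := trf L86757 L34979 rfl
theorem L115522 : sm gb N3555 = N4127 := flp_b L115521
theorem L115526 : sm gg N4127 = N3556 := trf L86757 L34982 rfl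
theorem L115527 : sm gg N3556 = N4127 := flp_g L115526
theorem L115532 : sm ga N6502 = N5394 := trf L86744 L54415 rfl
theorem L115533 : sm ga N5394 = N6502 := flp_a L115532
theorem L115534 : sm gf N6502 = N8929 := trf L86744 L54475 rfl
theorem L115535 : N8929 = N10754 := eqe L115534 L64341
theorem L115536 : N10754 = N8929 := (eqc rfl L115535 rfl).symm
theorem L115541 : sm gd N8929 = N6481 := trf L115536 L74642 rfl
theorem L115543 : sm ge N8929 = N6481 := trf L115536 L64338 rfl
theorem L115545 : sm gf N8929 = N6502 := trf L115536 L64340 rfl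
theorem L115547 : sm ga N4129 = N3556 := trf L86730 L34985 rfl
theorem L115548 : sm ga N3556 = N4129 := flp_a L115547
theorem L115549 : sm ge N4129 = N3566 := trf L86730 L34986 rfl
theorem L115550 : sm ge N3566 = N4129 := flp_e L115549
theorem L115552 : sm ge N2637 = N2971 := trf L86727 L29094 rfl
theorem L115553 : sm ge N2971 = N2637 := flp_e L115552
theorem L115556 : sm gg N2637 = N2965 := trf L86727 L29093 rfl
theorem L115557 : sm gg N2965 = N2637 := flp_g L115556
theorem L115558 : sm gd N5397 = N6513 := trf L86724 L74640 rfl
theorem L115559 : sm gd N6513 = N5397 := flp_d L115558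
theorem L115560 : sm ge N5397 = N6513 := trf L86724 L64643 rfl
theorem L115561 : sm ge N6513 = N5397 := flp_e L115560
theorem L115562 : sm gg N5397 = N6502 := trf L86724 L64640 rfl
theorem L115563 : sm gg N6502 = N5397 := flp_g L115562
theorem L115564 : sm ge N5396 = N6514 := trf L86721 L64649 rfl
theorem L115565 : sm ge N6514 = N5396 := flp_e L115564
theorem L115567 : sm ga N3431 = N2639 := trf L86710 L26103 rfl
theorem L115568 : sm ga N2639 = N3431 := flp_a L115567
theorem L115572 : sm ga N8326 = N5400 := trf L86707 L54451 rfl
theorem L115573 : sm ga N5400 = N8326 := flp_a L115572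
theorem L115574 : sm gf N8326 = N5397 := trf L86707 L54450 rfl
theorem L115575 : sm gf N5397 = N8326 := flp_f L115574
theorem L115577 : sm gb N3641 = N5070 := trf L103343 L51496 rfl
theorem L115578 : N5070 = N8854 := eqe L115577 L111679
theorem L115579 : N8854 = N5070 := (eqc rfl L115578 rfl).symm
theorem L115582 : sm gb N5070 = N3641 := trf L115579 L111680 rfl
theorem L115583 : sm gb N3641 = N5070 := flp_b L115582
theorem L115586 : sm ga N5068 = N8929 := trf L86688 L54472 rfl
theorem L115587 : N8929 = N8320 := eqe L115586 L51462
theorem L115588 : N8929 = N8320 := eqc rfl L115587 rfl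
theorem L115592 : sm gd N8320 = N6481 := trf L115588 L115541 rfl
theorem L115593 : sm gd N6481 = N8320 := flp_d L115592
theorem L115594 : sm ge N8320 = N6481 := trf L115588 L115543 rfl
theorem L115595 : sm ge N6481 = N8320 := flp_e L115594
theorem L115596 : sm gf N8320 = N6502 := trf L115588 L115545 rfl
theorem L115597 : sm gf N6502 = N8320 := flp_f L115596
theorem L115598 : sm gg N8320 = N5400 := trf L115588 L54470 rfl
theorem L115599 : sm gg N5400 = N8320 := flp_g L115598
theorem L115605 : sm gf N2636 = N2557 := trf L86676 L25412 rfl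
theorem L115606 : sm gf N2557 = N2636 := flp_f L115605
theorem L115608 : sm gb N5394 = N5068 := trf L86673 L51476 rfl
theorem L115609 : sm gb N5068 = N5394 := flp_b L115608
theorem L115610 : sm gf N5394 = N5068 := trf L86673 L73204 rfl
theorem L115611 : sm gf N5068 = N5394 := flp_f L115610
theorem L115612 : sm ga N2627 = N2552 := trf L86670 L25347 rfl
theorem L115613 : sm ga N2552 = N2627 := flp_a L115612
theorem L115614 : sm gc N2627 = N2551 := trf L86670 L25346 rfl
theorem L115615 : sm gc N2551 = N2627 := flp_c L115614
theorem L115618 : sm ga N3568 = N5070 := trf L86664 L51471 rfl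
theorem L115619 : sm ga N5070 = N3568 := flp_a L115618
theorem L115620 : sm gg N3568 = N5067 := trf L86664 L51470 rfl
theorem L115621 : sm gg N5067 = N3568 := flp_g L115620
theorem L115647 : sm ga N1188 = N1188 := trf L86578 L18808 rfl
theorem L115656 : sm gg N632 = N1275 := trf L86540 L19083 rfl
theorem L115657 : sm gg N1275 = N632 := flp_g L115656
theorem L115659 : sm gg N1282 = N2219 := trf L86528 L21703 rfl
theorem L115660 : sm gg N2219 = N1282 := flp_g L115659
theorem L115664 : sm gg N1278 = N1284 := trf L86517 L19153 rfl
theorem L115665 : sm gg N1284 = N1278 := flp_g L115664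
theorem L115671 : sm gg N2084 = N1550 := trf L86503 L19399 rfl
theorem L115672 : sm gg N1550 = N2084 := flp_g L115671
theorem L115675 : sm ga N1060 = N793 := trf L86489 L7884 rfl
theorem L115676 : sm ga N793 = N1060 := flp_a L115675
theorem L115677 : sm gf N1060 = N1553 := trf L86489 L7896 rfl
theorem L115678 : sm gf N1553 = N1060 := flp_f L115677
theorem L115679 : sm gg N1060 = N791 := trf L86489 L7883 rfl
theorem L115680 : sm gg N791 = N1060 := flp_g L115679
theorem L115686 : sm gf N2083 = N2290 := trf L86473 L22431 rfl
theorem L115687 : sm gf N2290 = N2083 := flp_f L115686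
theorem L115808 : sm gc N2157 = N2556 := trf L94396 L25395 rfl
theorem L115809 : sm gc N2556 = N2157 := flp_c L115808
theorem L115881 : sm gd N2029 = N2337 := trf L92282 L22849 rfl
theorem L115882 : sm gd N2337 = N2029 := flp_d L115881
theorem L115954 : sm gd N2622 = N2945 := trf L92384 L28818 rfl
theorem L115955 : sm gd N2945 = N2622 := flp_d L115954
theorem L115974 : sm ga N3202 = N2945 := trf L91174 L28890 rfl
theorem L115975 : sm ga N2945 = N3202 := flp_a L115974
theorem L115976 : sm gc N3202 = N3157 := trf L91174 L28892 rfl
theorem L115977 : sm gc N3157 = N3202 := flp_c L115976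
theorem L115988 : sm gb N3181 = N4534 := trf L97472 L31957 rfl
theorem L115989 : sm gb N4534 = N3181 := flp_b L115988
theorem L115991 : sm gf N3146 = N2964 := trf L85685 L29072 rfl
theorem L115992 : sm gf N2964 = N3146 := flp_f L115991
theorem L116004 : sm gb N2123 = N2123 := trf L85643 L20863 rfl
theorem L116024 : sm gb N2421 = N2421 := trf L85580 L23778 rfl
theorem L116031 : sm gb N2554 = N2554 := trf L85513 L25374 rfl
theorem L116034 : sm gg N5356 = N5396 := trf L97243 L54436 rfl
theorem L116035 : sm gg N5396 = N5356 := flp_g L116034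
theorem L116039 : sm ge N3695 = N3586 := trf L97063 L31528 rfl
theorem L116040 : sm ge N3586 = N3695 := flp_e L116039
theorem L116052 : sm gf N4201 = N4201 := trf L85448 L41613 rfl
theorem L116056 : sm ga N3446 = N4189 := trf L85442 L79493 rfl
theorem L116057 : sm ga N4189 = N3446 := flp_a L116056
theorem L116058 : sm gc N3446 = N2972 := trf L85442 L29157 rfl
theorem L116059 : sm gc N2972 = N3446 := flp_c L116058
theorem L116066 : sm gf N3446 = N3446 := trf L85481 L33880 rfl
theorem L116067 : sm gb N4201 = N3157 := trf L85432 L30979 rfl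
theorem L116068 : sm gb N3157 = N4201 := flp_b L116067
theorem L116069 : sm ge N4201 = N3446 := trf L85432 L30980 rfl
theorem L116070 : sm ge N3446 = N4201 := flp_e L116069
theorem L116082 : sm gd N3277 = N4226 := trf L97070 L41588 rfl
theorem L116083 : sm gd N4226 = N3277 := flp_d L116082
theorem L116084 : sm gg N3277 = N4201 := trf L97070 L41590 rfl
theorem L116085 : sm gg N4201 = N3277 := flp_g L116084
theorem L116139 : sm gc N3431 = N4862 := trf L92429 L79293 rfl
theorem L116140 : sm gc N4862 = N3431 := flp_c L116139
theorem L116202 : sm ga N3381 = N3546 := trf L82832 L34880 rfl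
theorem L116203 : sm ga N3546 = N3381 := flp_a L116202
theorem L116221 : sm gg N5344 = N5492 := trf L97265 L55258 rfl
theorem L116222 : sm gg N5492 = N5344 := flp_g L116221
theorem L116223 : N9223 = N5357 := L82673.trans L108654
theorem L116224 : sm gg N5357 = N5554 := trf L116223 L55969 rfl
theorem L116225 : sm gg N5554 = N5357 := flp_g L116224
theorem L116252 : sm gf N4189 = N4189 := trf L97108 L41475 rfl
theorem L116327 : sm gb N2539 = N2625 := trf L113003 L25994 rfl
theorem L116328 : sm gb N2625 = N2539 := flp_b L116327
theorem L116411 : sm gb N2403 = N2908 := trf L81909 L28529 rfl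
theorem L116412 : sm gb N2908 = N2403 := flp_b L116411
theorem L116415 : sm gc N2104 = N2455 := trf L81815 L23973 rfl
theorem L116416 : sm gc N2455 = N2104 := flp_c L116415
theorem L116428 : sm gf N2437 = N2104 := trf L81801 L20705 rfl
theorem L116429 : sm gf N2104 = N2437 := flp_f L116428
theorem L116431 : sm gb N3492 = N8103 := trf L81798 L49721 rfl
theorem L116432 : N8103 = N2589 := eqe L116431 L25684
theorem L116433 : N8103 = N2589 := eqc rfl L116432 rfl
theorem L116434 : sm gf N3492 = N3355 := trf L81798 L33023 rfl
theorem L116435 : sm gf N3355 = N3492 := flp_f L116434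
theorem L116437 : sm gf N2589 = N5524 := trf L116433 L67320 L71115
theorem L116438 : N5524 = N3494 := eqe L116437 L25693
theorem L116439 : N5524 = N3494 := eqc rfl L116438 rfl
theorem L116441 : sm gb N3494 = N3626 := trf L116439 L35707 rfl
theorem L116442 : N3626 = N5241 := eqe L116441 L34386
theorem L116443 : N5241 = N3626 := (eqc rfl L116442 rfl).symm
theorem L116445 : N9153 = N5239 := L71132.trans L72339
theorem L116457 : sm gb N3626 = N3494 := trf L116443 L34387 rfl
theorem L116458 : sm gb N3494 = N3626 := flp_b L116457
theorem L116490 : sm gb N4059 = N3122 := trf L81711 L30506 rfl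
theorem L116491 : sm gb N3122 = N4059 := flp_b L116490
theorem L116492 : sm gd N4059 = N3356 := trf L81711 L30509 rfl
theorem L116493 : sm gd N3356 = N4059 := flp_d L116492
theorem L116496 : sm gf N3510 = N3356 := trf L81691 L33031 rfl
theorem L116497 : sm gf N3356 = N3510 := flp_f L116496
theorem L116501 : sm gb N3842 = N4493 := trf L109963 L44742 rfl
theorem L116502 : sm gb N4493 = N3842 := flp_b L116501
theorem L116528 : sm gb N3366 = N3513 := trf L81678 L34579 rfl
theorem L116529 : sm gb N3513 = N3366 := flp_b L116528
theorem L116543 : sm gb N2599 = N2528 := trf L81625 L25138 rfl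
theorem L116544 : sm gb N2528 = N2599 := flp_b L116543
theorem L116561 : sm gf N2453 = N2402 := trf L81560 L23576 rfl
theorem L116562 : sm gf N2402 = N2453 := flp_f L116561
theorem L116568 : sm gb N2439 = N2106 := trf L81551 L20729 rfl
theorem L116569 : sm gb N2106 = N2439 := flp_b L116568
theorem L116571 : sm ge N2439 = N3125 := trf L81551 L23616 rfl
theorem L116572 : sm ge N3125 = N2439 := flp_e L116571
theorem L116574 : sm gb N4037 = N3123 := trf L81548 L30591 rfl
theorem L116575 : sm gb N3123 = N4037 := flp_b L116574
theorem L116576 : sm gd N4037 = N3125 := trf L81548 L30592 rfl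
theorem L116577 : sm gd N3125 = N4037 := flp_d L116576
theorem L116579 : sm ga N3140 = N3125 := trf L112715 L30599 rfl
theorem L116580 : sm ga N3125 = N3140 := flp_a L116579
theorem L116612 : sm ga N7294 = N7076 := trf L107818 L69593 rfl
theorem L116613 : sm ga N7076 = N7294 := flp_a L116612
theorem L116621 : sm gc N7076 = N5371 := trf L81356 L54166 rfl
theorem L116622 : sm gc N5371 = N7076 := flp_c L116621
theorem L116650 : sm gf N2862 = N2828 := trf L100166 L27773 rfl
theorem L116651 : sm gf N2828 = N2862 := flp_f L116650
theorem L116661 : sm gb N2858 = N2467 := trf L93918 L24343 rfl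
theorem L116662 : sm gb N2467 = N2858 := flp_b L116661
theorem L116663 : sm gc N2858 = N2460 := trf L93918 L24342 rfl
theorem L116664 : sm gc N2460 = N2858 := flp_c L116663
theorem L116666 : sm gb N3012 = N3241 := trf L93929 L31743 rfl
theorem L116667 : sm gb N3241 = N3012 := flp_b L116666
theorem L116674 : sm gb N2584 = N2458 := trf L81001 L24330 rfl
theorem L116675 : sm gb N2458 = N2584 := flp_b L116674
theorem L116677 : sm ge N2584 = N2460 := trf L81001 L24331 rfl
theorem L116678 : sm ge N2460 = N2584 := flp_e L116677
theorem L116680 : sm ge N2521 = N2455 := trf L80994 L24275 rfl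
theorem L116681 : sm ge N2455 = N2521 := flp_e L116680
theorem L116682 : sm gf N2521 = N2454 := trf L80994 L24270 rfl
theorem L116683 : sm gf N2454 = N2521 := flp_f L116682
theorem L116686 : sm gf N3349 = N3223 := trf L80984 L31660 rfl
theorem L116687 : sm gf N3223 = N3349 := flp_f L116686
theorem L116690 : sm ga N4062 = N3356 := trf L80966 L32956 rfl
theorem L116691 : sm ga N3356 = N4062 := flp_a L116690
theorem L116692 : sm gb N4062 = N3480 := trf L80966 L32958 rfl
theorem L116693 : sm gb N3480 = N4062 := flp_b L116692
theorem L116694 : sm ge N4062 = N3349 := trf L80966 L32955 rfl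
theorem L116695 : sm ge N3349 = N4062 := flp_e L116694
theorem L116696 : sm gb N3481 = N3230 := trf L80957 L31724 rfl
theorem L116697 : sm gb N3230 = N3481 := flp_b L116696
theorem L116698 : sm ge N3481 = N4068 := trf L80957 L31727 rfl
theorem L116699 : sm ge N4068 = N3481 := flp_e L116698
theorem L116705 : sm ge N6395 = N5210 := trf L80953 L52693 rfl
theorem L116706 : sm ge N5210 = N6395 := flp_e L116705
theorem L116707 : sm gf N6395 = N5209 := trf L80953 L52686 rfl
theorem L116708 : sm gf N5209 = N6395 := flp_f L116707
theorem L116709 : sm gg N4108 = N6395 := trf L109644 L63624 rfl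
theorem L116710 : sm gg N6395 = N4108 := flp_g L116709
theorem L116716 : sm ga N3496 = N4068 := trf L80888 L40298 rfl
theorem L116717 : sm ga N4068 = N3496 := flp_a L116716
theorem L116733 : sm ga N2430 = N2460 := trf L80871 L24338 rfl
theorem L116734 : sm ga N2460 = N2430 := flp_a L116733
theorem L116743 : sm gb N2925 = N2901 := trf L96004 L28454 rfl
theorem L116744 : sm gb N2901 = N2925 := flp_b L116743
theorem L116746 : sm gf N2925 = N2905 := trf L96004 L28457 rfl
theorem L116747 : sm gf N2905 = N2925 := flp_f L116746
theorem L116748 : sm gb N2427 = N2455 := trf L80818 L24286 rfl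
theorem L116749 : sm gb N2455 = N2427 := flp_b L116748
theorem L116750 : sm gf N2427 = N2460 := trf L80818 L24289 rfl
theorem L116751 : sm gf N2460 = N2427 := flp_f L116750
theorem L116790 : sm gd N5989 = N4261 := trf L113737 L42211 rfl
theorem L116791 : sm gd N4261 = N5989 := flp_d L116790
theorem L116792 : sm ga N7052 = N6352 := trf L75737 L59186 rfl
theorem L116793 : N6352 = N11660 := eqe L116792 L69435
theorem L116794 : N11660 = N6352 := (eqc rfl L116793 rfl).symm
theorem L116795 : sm gd N7052 = N5912 := trf L75737 L59185 rfl
theorem L116796 : sm gd N5912 = N7052 := flp_d L116795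
theorem L116797 : sm ga N6352 = N7052 := trf L116794 L69436 rfl
theorem L116798 : sm ga N7052 = N6352 := flp_a L116797
theorem L116814 : sm ge N4521 = N6337 := trf L84551 L63005 rfl
theorem L116815 : sm ge N6337 = N4521 := flp_e L116814
theorem L116816 : sm ge N3165 = N2877 := trf L75662 L28266 rfl
theorem L116817 : sm ge N2877 = N3165 := flp_e L116816
theorem L116819 : sm gb N7015 = N5912 := trf L103114 L44387 rfl
theorem L116820 : sm gb N5912 = N7015 := flp_b L116819
theorem L116821 : sm gc N7015 = N5913 := trf L103114 L44384 rfl
theorem L116822 : sm gc N5913 = N7015 := flp_c L116821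
theorem L116824 : N7157 = N6858 := L75633.trans L107328
theorem L116827 : sm ge N6858 = N7398 := trf L116824 L45798 rfl
theorem L116828 : N7398 = N11389 := eqe L116827 L68001
theorem L116829 : N11389 = N7398 := (eqc rfl L116828 rfl).symm
theorem L116832 : sm ge N7398 = N6858 := trf L116829 L68002 rfl
theorem L116833 : sm ge N6858 = N7398 := flp_e L116832
theorem L116838 : sm ge N4425 = N4582 := trf L75623 L31057 rfl
theorem L116839 : sm ge N4582 = N4425 := flp_e L116838
theorem L116840 : sm ge N5664 = N6325 := trf L98892 L62871 rfl
theorem L116841 : sm ge N6325 = N5664 := flp_e L116840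
theorem L116842 : sm ge N4859 = N3688 := trf L75617 L36295 rfl
theorem L116843 : sm ge N3688 = N4859 := flp_e L116842
theorem L116846 : sm ge N3164 = N3084 := trf L75600 L30177 rfl
theorem L116847 : sm ge N3084 = N3164 := flp_e L116846
theorem L116851 : sm gc N4385 = N4455 := trf L114508 L30374 rfl
theorem L116852 : sm gc N4455 = N4385 := flp_c L116851
theorem L116853 : sm ge N4385 = N4581 := trf L114508 L31049 rfl
theorem L116854 : sm ge N4581 = N4385 := flp_e L116853
theorem L116860 : sm gc N7011 = N7144 := trf L98783 L44416 rfl
theorem L116861 : sm gc N7144 = N7011 := flp_c L116860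
theorem L116868 : sm ge N7079 = N7392 := trf L75561 L45762 rfl
theorem L116869 : sm ge N7392 = N7079 := flp_e L116868
theorem L116871 : sm gc N4366 = N4425 := trf L106507 L44026 rfl
theorem L116872 : sm gc N4425 = N4366 := flp_c L116871
theorem L116880 : sm gc N4420 = N4457 := trf L75546 L30366 rfl
theorem L116881 : sm gc N4457 = N4420 := flp_c L116880
theorem L116882 : sm ge N4420 = N4579 := trf L75546 L31039 rfl
theorem L116883 : sm ge N4579 = N4420 := flp_e L116882
theorem L116886 : sm gc N3101 = N3084 := trf L75540 L30175 rfl
theorem L116887 : sm gc N3084 = N3101 := flp_c L116886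
theorem L116890 : sm gd N4437 = N5935 := trf L75522 L59412 rfl
theorem L116891 : sm gd N5935 = N4437 := flp_d L116890
theorem L116892 : sm gf N4437 = N5934 := trf L75522 L59411 rfl
theorem L116893 : sm gf N5934 = N4437 := flp_f L116892
theorem L116902 : sm ga N4367 = N3961 := trf L98269 L38824 rfl
theorem L116903 : sm ga N3961 = N4367 := flp_a L116902
theorem L116907 : sm ga N3041 = N4261 := trf L89542 L42194 rfl
theorem L116908 : sm ga N4261 = N3041 := flp_a L116907
theorem L116909 : sm gc N3041 = N4260 := trf L89542 L42193 rfl
theorem L116910 : N4260 = N10283 := eqe L116909 L114196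
theorem L116911 : N10283 = N4260 := (eqc rfl L116910 rfl).symm
theorem L116912 : sm gc N4260 = N3041 := trf L116911 L114197 rfl
theorem L116913 : sm gc N3041 = N4260 := flp_c L116912
theorem L116914 : sm gb N3943 = N3924 := trf L75447 L38465 rfl
theorem L116915 : sm gb N3924 = N3943 := flp_b L116914
theorem L116916 : sm gd N3943 = N3927 := trf L75447 L38466 rfl
theorem L116917 : sm gd N3927 = N3943 := flp_d L116916
theorem L116918 : sm ga N3944 = N3927 := trf L75438 L38497 rfl
theorem L116919 : sm ga N3927 = N3944 := flp_a L116918
theorem L116920 : sm gb N3944 = N4215 := trf L75438 L38761 rfl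
theorem L116921 : sm gb N4215 = N3944 := flp_b L116920
theorem L116922 : sm gc N3944 = N4218 := trf L75438 L38754 rfl
theorem L116923 : sm gc N4218 = N3944 := flp_c L116922
theorem L116936 : sm gg N6835 = N6197 := trf L98637 L61639 rfl
theorem L116937 : sm gg N6197 = N6835 := flp_g L116936
theorem L116947 : sm ge N3953 = N3944 := trf L75398 L38671 rfl
theorem L116948 : sm ge N3944 = N3953 := flp_e L116947
theorem L116949 : sm gf N3953 = N3962 := trf L75398 L38672 rfl
theorem L116950 : sm gf N3962 = N3953 := flp_f L116949
theorem L116951 : sm ga N6134 = N4417 := trf L75394 L43908 rfl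
theorem L116952 : sm ga N4417 = N6134 := flp_a L116951
theorem L116954 : sm gf N6134 = N4415 := trf L75394 L43907 rfl
theorem L116955 : sm gf N4415 = N6134 := flp_f L116954
theorem L116956 : sm ga N6197 = N6180 := trf L75391 L61436 rfl
theorem L116957 : sm ga N6180 = N6197 := flp_a L116956
theorem L116958 : sm gf N6197 = N6175 := trf L75391 L61435 rfl
theorem L116959 : sm gf N6175 = N6197 := flp_f L116958
theorem L116960 : sm ga N3955 = N3962 := trf L75388 L38830 rfl
theorem L116961 : sm ga N3962 = N3955 := flp_a L116960
theorem L117006 : sm gb N1855 = N2302 := trf L112175 L22549 rfl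
theorem L117007 : sm gb N2302 = N1855 := flp_b L117006
theorem L117008 : sm gc N1855 = N2300 := trf L112175 L22546 rfl
theorem L117009 : sm gc N2300 = N1855 := flp_c L117008
theorem L117015 : sm gc N2340 = N2744 := trf L75269 L27041 rfl
theorem L117016 : sm gc N2744 = N2340 := flp_c L117015
theorem L117022 : sm ga N2823 = N2744 := trf L75263 L27039 rfl
theorem L117023 : sm ga N2744 = N2823 := flp_a L117022
theorem L117035 : N5145 = N2635 := L73584.trans L88340
theorem L117038 : sm gg N3449 = N2744 := trf L75241 L27045 rfl
theorem L117039 : sm gg N2744 = N3449 := flp_g L117038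
theorem L117043 : sm gd N4325 = N3970 := trf L75233 L30232 rfl
theorem L117044 : sm gd N3970 = N4325 := flp_d L117043
theorem L117045 : sm ge N4325 = N3088 := trf L75233 L30227 rfl
theorem L117046 : sm ge N3088 = N4325 := flp_e L117045
theorem L117049 : sm gg N4325 = N3933 := trf L75233 L30230 rfl
theorem L117050 : sm gg N3933 = N4325 := flp_g L117049
theorem L117087 : sm gd N4433 = N5938 := trf L75118 L74525 rfl
theorem L117088 : sm gd N5938 = N4433 := flp_d L117087
theorem L117089 : sm ge N4433 = N4166 := trf L75118 L41192 rfl
theorem L117090 : sm ge N4166 = N4433 := flp_e L117089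
theorem L117094 : sm gb N4454 = N4512 := trf L75109 L44845 rfl
theorem L117095 : sm gb N4512 = N4454 := flp_b L117094
theorem L117097 : sm gc N6067 = N4435 := trf L89317 L44076 rfl
theorem L117098 : sm gc N4435 = N6067 := flp_c L117097
theorem L117121 : sm ga N4244 = N4512 := trf L75031 L44927 rfl
theorem L117122 : sm ga N4512 = N4244 := flp_a L117121
theorem L117123 : sm gf N4244 = N4539 := trf L75031 L44929 rfl
theorem L117124 : sm gf N4539 = N4244 := flp_f L117123
theorem L117125 : sm gb N3144 = N2958 := trf L74998 L29037 rfl
theorem L117126 : sm gb N2958 = N3144 := flp_b L117125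
theorem L117129 : sm gc N3329 = N3150 := trf L74975 L30895 rfl
theorem L117130 : sm gc N3150 = N3329 := flp_c L117129
theorem L117148 : sm ga N2954 = N3150 := trf L74935 L30889 rfl
theorem L117149 : sm ga N3150 = N2954 := flp_a L117148
theorem L117164 : sm gf N2969 = N3150 := trf L74926 L30899 rfl
theorem L117165 : sm gf N3150 = N2969 := flp_f L117164
theorem L117166 : sm gf N4187 = N4433 := trf L74917 L44133 rfl
theorem L117167 : sm gf N4433 = N4187 := flp_f L117166
theorem L117169 : sm ga N2636 = N2965 := trf L87322 L29085 rfl
theorem L117170 : sm ga N2965 = N2636 := flp_a L117169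
theorem L117173 : sm ge N2636 = N2969 := trf L87322 L29086 rfl
theorem L117174 : sm ge N2969 = N2636 := flp_e L117173
theorem L117175 : sm gf N2637 = N3431 := trf L115234 L33759 rfl
theorem L117176 : sm gf N3431 = N2637 := flp_f L117175
theorem L117180 : sm ge N3431 = N4200 := trf L74881 L41460 rfl
theorem L117181 : sm ge N4200 = N3431 := flp_e L117180
theorem L117185 : sm gb N4116 = N4532 := trf L74862 L45168 rfl
theorem L117186 : sm gb N4532 = N4116 := flp_b L117185
theorem L117187 : sm gd N4116 = N5055 := trf L74862 L45169 rfl
theorem L117188 : sm gd N5055 = N4116 := flp_d L117187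
theorem L117189 : sm ga N8293 = N6481 := trf L74859 L64386 rfl
theorem L117190 : sm ga N6481 = N8293 := flp_a L117189
theorem L117191 : sm gf N8293 = N6510 := trf L74859 L64388 rfl
theorem L117192 : sm gf N6510 = N8293 := flp_f L117191
theorem L117193 : sm gg N8293 = N10833 := trf L74859 L64807 rfl
theorem L117194 : sm gg N10833 = N8293 := flp_g L117193
theorem L117195 : sm ga N3565 = N4123 := trf L86738 L40829 rfl
theorem L117196 : sm ga N4123 = N3565 := flp_a L117195
theorem L117199 : sm ge N3565 = N4127 := trf L86738 L40832 rfl
theorem L117200 : sm ge N4127 = N3565 := flp_e L117199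
theorem L117202 : sm gb N3608 = N4416 := trf L74782 L43941 rfl
theorem L117203 : sm gb N4416 = N3608 := flp_b L117202
theorem L117204 : sm gc N3608 = N4419 := trf L74782 L43944 rfl
theorem L117205 : sm gc N4419 = N3608 := flp_c L117204
theorem L117206 : sm gc N3610 = N4987 := trf L95091 L50726 rfl
theorem L117207 : sm gc N4987 = N3610 := flp_c L117206
theorem L117209 : sm gf N3610 = N5342 := trf L95091 L50729 rfl
theorem L117210 : sm gf N5342 = N3610 := flp_f L117209
theorem L117215 : sm gc N2658 = N3381 := trf L92475 L33273 rfl
theorem L117216 : sm gc N3381 = N2658 := flp_c L117215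
theorem L117218 : sm gf N2658 = N3546 := trf L92475 L33274 rfl
theorem L117219 : sm gf N3546 = N2658 := flp_f L117218
theorem L117228 : sm gd N3411 = N4416 := trf L74742 L43949 rfl
theorem L117229 : sm gd N4416 = N3411 := flp_d L117228
theorem L117247 : sm gd N4187 = N4136 := trf L74540 L40983 rfl
theorem L117248 : sm gd N4136 = N4187 := flp_d L117247
theorem L117256 : sm gd N6175 = N4533 := trf L74534 L45190 rfl
theorem L117257 : sm gd N4533 = N6175 := flp_d L117256
theorem L117273 : sm gb N3099 = N4166 := trf L74502 L39036 rfl
theorem L117274 : sm gb N4166 = N3099 := flp_b L117273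
theorem L117286 : sm ga N3329 = N4166 := trf L74445 L41230 rfl
theorem L117287 : sm ga N4166 = N3329 := flp_a L117286
theorem L117291 : sm gd N3327 = N4166 := trf L74441 L41235 rfl
theorem L117292 : sm gd N4166 = N3327 := flp_d L117291
theorem L117294 : sm gb N4054 = N8001 := trf L88030 L49132 rfl
theorem L117295 : sm gb N8001 = N4054 := flp_b L117294
theorem L117298 : sm gf N4054 = N3329 := trf L88030 L32734 rfl
theorem L117299 : sm gf N3329 = N4054 := flp_f L117298
theorem L117301 : sm ge N4053 = N3812 := trf L87792 L32726 rfl
theorem L117302 : sm ge N3812 = N4053 := flp_e L117301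
theorem L117303 : sm gf N4053 = N3327 := trf L87792 L32728 rfl
theorem L117304 : sm gf N3327 = N4053 := flp_f L117303
theorem L117317 : sm gb N4054 = N4150 := trf L88072 L41004 rfl
theorem L117318 : N4150 = N8001 := eqe L117317 L117294
theorem L117319 : N8001 = N4150 := (eqc rfl L117318 rfl).symm
theorem L117322 : sm gb N4150 = N4054 := trf L117319 L117295 rfl
theorem L117323 : sm gb N4054 = N4150 := flp_b L117322
theorem L117358 : sm gc N2322 = N2759 := trf L74223 L27196 rfl
theorem L117359 : sm gc N2759 = N2322 := flp_c L117358
theorem L117361 : sm gb N2749 = N2340 := trf L74213 L22869 rfl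
theorem L117362 : sm gb N2340 = N2749 := flp_b L117361
theorem L117363 : sm gd N2749 = N2333 := trf L74213 L22868 rfl
theorem L117364 : sm gd N2333 = N2749 := flp_d L117363
theorem L117377 : sm gg N3751 = N3826 := trf L102129 L37589 rfl
theorem L117378 : sm gg N3826 = N3751 := flp_g L117377
theorem L117381 : sm gf N4136 = N5938 := trf L74165 L59210 rfl
theorem L117382 : sm gf N5938 = N4136 := flp_f L117381
theorem L117384 : sm gc N4116 = N5938 := trf L74158 L59444 rfl
theorem L117385 : sm gc N5938 = N4116 := flp_c L117384
theorem L117386 : sm gc N4439 = N5934 := trf L74140 L59405 rfl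
theorem L117387 : sm gc N5934 = N4439 := flp_c L117386
theorem L117388 : sm gc N3826 = N2958 := trf L74137 L29039 rfl
theorem L117389 : sm gc N2958 = N3826 := flp_c L117388
theorem L117398 : sm gd N5913 = N4218 := trf L74058 L41773 rfl
theorem L117399 : sm gd N4218 = N5913 := flp_d L117398
theorem L117403 : sm gd N2978 = N3812 := trf L74055 L37481 rfl
theorem L117404 : sm gd N3812 = N2978 := flp_d L117403
theorem L117405 : sm gf N2978 = N3826 := trf L74055 L37484 rfl
theorem L117406 : sm gf N3826 = N2978 := flp_f L117405
theorem L117409 : sm gd N6126 = N4455 := trf L74052 L44312 rfl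
theorem L117410 : sm gd N4455 = N6126 := flp_d L117409
theorem L117413 : sm gd N5972 = N7144 := trf L107567 L70292 rfl
theorem L117414 : sm gd N7144 = N5972 := flp_d L117413
theorem L117416 : sm ge N4367 = N6180 := trf L107737 L61014 rfl
theorem L117417 : sm ge N6180 = N4367 := flp_e L117416
theorem L117418 : sm gf N4367 = N6126 := trf L107737 L61009 rfl
theorem L117419 : sm gf N6126 = N4367 := flp_f L117418
theorem L117420 : sm gb N4448 = N6180 := trf L74007 L43031 rfl
theorem L117421 : sm gb N6180 = N4448 := flp_b L117420
theorem L117422 : sm gc N4448 = N4325 := trf L74007 L43030 rfl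
theorem L117423 : sm gc N4325 = N4448 := flp_c L117422
theorem L117427 : sm ga N7077 = N6753 := trf L107807 L66919 rfl
theorem L117428 : sm ga N6753 = N7077 := flp_a L117427
theorem L117429 : sm gb N3327 = N4449 := trf L73890 L44289 rfl
theorem L117430 : sm gb N4449 = N3327 := flp_b L117429
theorem L117435 : sm ga N5934 = N4438 := trf L73882 L44152 rfl
theorem L117436 : sm ga N4438 = N5934 := flp_a L117435
theorem L117437 : sm ge N5934 = N4434 := trf L73882 L44151 rfl
theorem L117438 : sm ge N4434 = N5934 := flp_e L117437
theorem L117441 : sm ge N6225 = N5936 := trf L103089 L49277 rfl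
theorem L117442 : sm ge N5936 = N6225 := flp_e L117441
theorem L117443 : sm ga N9894 = N7114 := trf L73865 L69936 rfl
theorem L117444 : sm ga N7114 = N9894 := flp_a L117443
theorem L117445 : sm ge N9894 = N7106 := trf L73865 L69940 rfl
theorem L117446 : sm ge N7106 = N9894 := flp_e L117445
theorem L117447 : sm ga N6322 = N5936 := trf L103084 L59398 rfl
theorem L117448 : sm ga N5936 = N6322 := flp_a L117447
theorem L117452 : sm ga N4447 = N3825 := trf L73846 L37567 rfl
theorem L117453 : sm ga N3825 = N4447 := flp_a L117452
theorem L117455 : sm gb N7103 = N6179 := trf L84137 L61466 rfl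
theorem L117456 : sm gb N6179 = N7103 := flp_b L117455
theorem L117457 : sm ga N4451 = N6748 := trf L73811 L61000 rfl
theorem L117458 : sm ga N6748 = N4451 := flp_a L117457
theorem L117459 : sm gb N4451 = N6126 := trf L73811 L60995 rfl
theorem L117460 : sm gb N6126 = N4451 := flp_b L117459
theorem L117464 : sm gc N5991 = N4447 := trf L89114 L44273 rfl
theorem L117465 : sm gc N4447 = N5991 := flp_c L117464
theorem L117469 : sm ge N5991 = N4450 := trf L89114 L44274 rfl
theorem L117470 : sm ge N4450 = N5991 := flp_e L117469
theorem L117471 : sm gb N6226 = N4896 := trf L89447 L49260 rfl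
theorem L117472 : N4896 = N11799 := eqe L117471 L114086
theorem L117473 : N11799 = N4896 := (eqc rfl L117472 rfl).symm
theorem L117474 : sm ge N6226 = N5930 := trf L89447 L49261 rfl
theorem L117475 : sm ge N5930 = N6226 := flp_e L117474
theorem L117476 : sm gb N4896 = N6226 := trf L117473 L114087 rfl
theorem L117477 : sm gb N6226 = N4896 := flp_b L117476
theorem L117486 : sm gf N4310 = N4325 := trf L73739 L43034 rfl
theorem L117487 : sm gf N4325 = N4310 := flp_f L117486
theorem L117492 : sm gf N4407 = N6784 := trf L89266 L67190 rfl
theorem L117493 : sm gf N6784 = N4407 := flp_f L117492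
theorem L117497 : sm gc N6784 = N4436 := trf L73697 L44084 rfl
theorem L117498 : sm gc N4436 = N6784 := flp_c L117497
theorem L117501 : sm ga N4258 = N3087 := trf L73685 L30201 rfl
theorem L117502 : sm ga N3087 = N4258 := flp_a L117501
theorem L117504 : sm gc N4258 = N3089 := trf L73685 L30202 rfl
theorem L117505 : sm gc N3089 = N4258 := flp_c L117504
theorem L117510 : sm gb N4260 = N3088 := trf L73676 L30208 rfl
theorem L117511 : sm gb N3088 = N4260 := flp_b L117510
theorem L117512 : sm gd N4260 = N3087 := trf L73676 L30207 rfl
theorem L117513 : sm gd N3087 = N4260 := flp_d L117512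
theorem L117516 : sm gb N3852 = N3970 := trf L73661 L38927 rfl
theorem L117517 : sm gb N3970 = N3852 := flp_b L117516
theorem L117521 : sm gb N3972 = N2849 := trf L73654 L27968 rfl
theorem L117522 : sm gb N2849 = N3972 := flp_b L117521
theorem L117523 : sm gd N3972 = N2851 := trf L73654 L27969 rfl
theorem L117524 : sm gd N2851 = N3972 := flp_d L117523
theorem L117525 : sm ge N3972 = N4258 := trf L73654 L29403 rfl
theorem L117526 : sm ge N4258 = N3972 := flp_e L117525
theorem L117528 : sm ga N3985 = N6215 := trf L73651 L61768 rfl
theorem L117529 : sm ga N6215 = N3985 := flp_a L117528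
theorem L117531 : sm gd N4754 = N3986 := trf L93977 L39040 rfl
theorem L117532 : sm gd N3986 = N4754 := flp_d L117531
theorem L117533 : sm ge N4754 = N6784 := trf L93977 L42173 rfl
theorem L117534 : sm ge N6784 = N4754 := flp_e L117533
theorem L117536 : sm ga N4363 = N3986 := trf L89163 L39070 rfl
theorem L117537 : sm ga N3986 = N4363 := flp_a L117536
theorem L117538 : sm ge N4363 = N5989 := trf L89163 L39072 rfl
theorem L117539 : sm ge N5989 = N4363 := flp_e L117538
theorem L117540 : sm gf N4363 = N6226 := trf L89163 L39074 rfl
theorem L117541 : sm gf N6226 = N4363 := flp_f L117540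
theorem L117544 : sm gd N6226 = N6203 := trf L73626 L61680 rfl
theorem L117545 : sm gd N6203 = N6226 := flp_d L117544
theorem L117547 : sm ga N3971 = N2851 := trf L73620 L27976 rfl
theorem L117548 : sm ga N2851 = N3971 := flp_a L117547
theorem L117549 : sm ge N3971 = N3852 := trf L73620 L27977 rfl
theorem L117550 : sm ge N3852 = N3971 := flp_e L117549
theorem L117551 : sm gf N4393 = N6215 := trf L89086 L61783 rfl
theorem L117552 : sm gf N6215 = N4393 := flp_f L117551
theorem L117556 : sm gb N2635 = N3449 := trf L117035 L33918 rfl
theorem L117557 : N3449 = N8413 := eqe L117556 L88346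
theorem L117558 : N8413 = N3449 := (eqc rfl L117557 rfl).symm
theorem L117560 : sm gb N3449 = N2635 := trf L117558 L88347 rfl
theorem L117561 : sm gb N2635 = N3449 := flp_b L117560
theorem L117570 : sm gb N4559 = N3160 := trf L73533 L30994 rfl
theorem L117571 : sm gb N3160 = N4559 := flp_b L117570
theorem L117572 : sm gd N4559 = N3159 := trf L73533 L30993 rfl
theorem L117573 : sm gd N3159 = N4559 := flp_d L117572
theorem L117592 : sm gb N2560 = N2126 := trf L73463 L20887 rfl
theorem L117593 : sm gb N2126 = N2560 := flp_b L117592
theorem L117595 : sm ge N2560 = N3159 := trf L73463 L23800 rfl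
theorem L117596 : sm ge N3159 = N2560 := flp_e L117595
theorem L117625 : sm gd N4034 = N5108 := trf L98711 L51805 rfl
theorem L117626 : sm gd N5108 = N4034 := flp_d L117625
theorem L117650 : sm gd N4372 = N3059 := trf L73313 L29933 rfl
theorem L117651 : sm gd N3059 = N4372 := flp_d L117650
theorem L117652 : sm gd N4369 = N3432 := trf L73310 L33767 rfl
theorem L117653 : sm gd N3432 = N4369 := flp_d L117652
theorem L117663 : sm gc N2655 = N3389 := trf L90185 L33341 rfl
theorem L117664 : N3389 = N8211 := eqe L117663 L113365
theorem L117665 : N8211 = N3389 := (eqc rfl L117664 rfl).symm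
theorem L117666 : sm gc N3389 = N2655 := trf L117665 L113366 rfl
theorem L117667 : sm gc N2655 = N3389 := flp_c L117666
theorem L117690 : sm ga N4560 = N4297 := trf L98729 L42661 rfl
theorem L117691 : sm ga N4297 = N4560 := flp_a L117690
theorem L117692 : sm gc N4560 = N4554 := trf L98729 L43465 rfl
theorem L117693 : N4554 = N7456 := eqe L117692 L114331
theorem L117694 : N7456 = N4554 := (eqc rfl L117693 rfl).symm
theorem L117696 : sm gf N4560 = N4302 := trf L98729 L72875 rfl
theorem L117697 : sm gf N4302 = N4560 := flp_f L117696
theorem L117699 : sm gc N4554 = N4560 := trf L117694 L114332 rfl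
theorem L117700 : sm gc N4560 = N4554 := flp_c L117699
theorem L117705 : sm gc N3432 = N4278 := trf L72898 L42409 rfl
theorem L117706 : N4278 = N8990 := eqe L117705 L107325
theorem L117707 : N8990 = N4278 := (eqc rfl L117706 rfl).symm
theorem L117708 : N11325 = N4554 := L72769.trans L117694
theorem L117714 : sm gc N4278 = N3432 := trf L117707 L107324 rfl
theorem L117715 : sm gc N3432 = N4278 := flp_c L117714
theorem L117716 : sm gd N3429 = N3829 := trf L72895 L32804 rfl
theorem L117717 : sm gd N3829 = N3429 := flp_d L117716
theorem L117718 : sm ge N3429 = N3329 := trf L72895 L32803 rfl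
theorem L117719 : sm ge N3329 = N3429 := flp_e L117718
theorem L117720 : sm ga N3062 = N4278 := trf L72892 L42404 rfl
theorem L117721 : sm ga N4278 = N3062 := flp_a L117720
theorem L117723 : sm gd N3062 = N4277 := trf L72892 L42403 rfl
theorem L117724 : sm gd N4277 = N3062 := flp_d L117723
theorem L117730 : sm gf N4301 = N3432 := trf L72882 L33771 rfl
theorem L117731 : sm gf N3432 = N4301 := flp_f L117730
theorem L117733 : sm gb N6875 = N5975 := trf L72870 L45443 rfl
theorem L117734 : sm gb N5975 = N6875 := flp_b L117733
theorem L117737 : sm ga N5112 = N4302 := trf L98770 L42680 rfl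
theorem L117738 : sm ga N4302 = N5112 := flp_a L117737
theorem L117742 : sm ge N5112 = N4298 := trf L98770 L42679 rfl
theorem L117743 : sm ge N4298 = N5112 := flp_e L117742
theorem L117751 : sm ga N4521 = N6877 := trf L114300 L68107 rfl
theorem L117752 : sm ga N6877 = N4521 := flp_a L117751
theorem L117754 : sm gd N4382 = N4304 := trf L72845 L42736 rfl
theorem L117755 : sm gd N4304 = N4382 := flp_d L117754
theorem L117756 : sm gf N4382 = N4303 := trf L72845 L42733 rfl
theorem L117757 : sm gf N4303 = N4382 := flp_f L117756
theorem L117758 : sm gf N4298 = N3062 := trf L72823 L29963 rfl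
theorem L117759 : sm gf N3062 = N4298 := flp_f L117758
theorem L117760 : sm ga N3136 = N4392 := trf L88855 L43602 rfl
theorem L117761 : sm ga N4392 = N3136 := flp_a L117760
theorem L117773 : sm gf N3154 = N3067 := trf L88882 L29816 rfl
theorem L117774 : sm gf N3067 = N3154 := flp_f L117773
theorem L117775 : sm gf N4554 = N6875 := trf L117708 L67619 rfl
theorem L117776 : sm gf N6875 = N4554 := flp_f L117775
theorem L117779 : sm gb N3429 = N4278 := trf L74562 L40770 rfl
theorem L117780 : sm gb N4278 = N3429 := flp_b L117779
theorem L117783 : sm gb N3829 = N3014 := trf L72743 L28734 rfl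
theorem L117784 : sm gb N3014 = N3829 := flp_b L117783
theorem L117785 : sm gc N3829 = N2930 := trf L72743 L28729 rfl
theorem L117786 : sm gc N2930 = N3829 := flp_c L117785
theorem L117787 : sm gf N3829 = N2941 := trf L72743 L28732 rfl
theorem L117788 : sm gf N2941 = N3829 := flp_f L117787
theorem L117807 : sm gd N3434 = N3046 := trf L88773 L29799 rfl
theorem L117808 : sm gd N3046 = N3434 := flp_d L117807
theorem L117810 : sm gf N3434 = N3063 := trf L88773 L29802 rfl
theorem L117811 : sm gf N3063 = N3434 := flp_f L117810
theorem L117812 : sm gb N2367 = N2759 := trf L72689 L25841 rfl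
theorem L117813 : sm gb N2759 = N2367 := flp_b L117812
theorem L117833 : sm ga N3412 = N3554 := trf L106065 L34962 rfl
theorem L117834 : sm ga N3554 = N3412 := flp_a L117833
theorem L117838 : sm gc N3412 = N3553 := trf L106065 L34961 rfl
theorem L117839 : sm gc N3553 = N3412 := flp_c L117838
theorem L117840 : sm gf N3412 = N3606 := trf L106065 L34966 rfl
theorem L117841 : sm gf N3606 = N3412 := flp_f L117840
theorem L117857 : sm gd N2561 = N2367 := trf L100501 L23226 rfl
theorem L117858 : sm gd N2367 = N2561 := flp_d L117857
theorem L117859 : sm gf N2561 = N2376 := trf L100501 L23227 rfl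
theorem L117860 : sm gf N2376 = N2561 := flp_f L117859
theorem L117873 : sm gb N3063 = N4277 := trf L72453 L34486 rfl
theorem L117874 : sm gb N4277 = N3063 := flp_b L117873
theorem L117878 : sm gc N2562 = N2376 := trf L113339 L23290 rfl
theorem L117879 : sm gc N2376 = N2562 := flp_c L117878
theorem L117880 : sm gd N2562 = N2654 := trf L113339 L23293 rfl
theorem L117881 : sm gd N2654 = N2562 := flp_d L117880
theorem L117884 : sm ga N4341 = N3067 := trf L72436 L29968 rfl
theorem L117885 : sm ga N3067 = N4341 := flp_a L117884
theorem L117886 : sm ge N4341 = N3063 := trf L72436 L29967 rfl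
theorem L117887 : sm ge N3063 = N4341 := flp_e L117886
theorem L117889 : sm gd N2559 = N2626 := trf L90272 L26004 rfl
theorem L117890 : sm gd N2626 = N2559 := flp_d L117889
theorem L117894 : sm ge N4540 = N5371 := trf L108017 L54170 rfl
theorem L117895 : sm ge N5371 = N4540 := flp_e L117894
theorem L117902 : sm gc N2542 = N3068 := trf L105057 L30008 rfl
theorem L117903 : sm gc N3068 = N2542 := flp_c L117902
theorem L117906 : sm gc N3155 = N3067 := trf L88877 L30002 rfl
theorem L117907 : sm gc N3067 = N3155 := flp_c L117906
theorem L117909 : sm gb N5239 = N5476 := trf L72339 L55064 rfl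
theorem L117910 : sm gb N5476 = N5239 := flp_b L117909
theorem L117911 : sm gb N3606 = N3496 := trf L72336 L34405 rfl
theorem L117912 : sm gb N3496 = N3606 := flp_b L117911
theorem L117914 : sm gd N5210 = N6395 := trf L72300 L55636 rfl
theorem L117915 : sm gd N6395 = N5210 := flp_d L117914
theorem L117920 : sm gb N2591 = N2654 := trf L72294 L26294 rfl
theorem L117921 : sm gb N2654 = N2591 := flp_b L117920
theorem L117938 : sm gd N2352 = N2587 := trf L100671 L25651 rfl
theorem L117939 : sm gd N2587 = N2352 := flp_d L117938
theorem L117942 : sm gb N2389 = N2587 := trf L72199 L25662 rfl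
theorem L117943 : sm gb N2587 = N2389 := flp_b L117942
theorem L117944 : sm gf N2389 = N2744 := trf L72199 L25663 rfl
theorem L117945 : sm gf N2744 = N2389 := flp_f L117944
theorem L118009 : sm gb N3026 = N3994 := trf L89649 L39517 rfl
theorem L118010 : sm gb N3994 = N3026 := flp_b L118009
theorem L118011 : sm gd N3026 = N3999 := trf L89649 L39518 rfl
theorem L118012 : sm gd N3999 = N3026 := flp_d L118011
theorem L118024 : sm gc N4024 = N3996 := trf L71907 L39532 rfl
theorem L118025 : sm gc N3996 = N4024 := flp_c L118024
theorem L118044 : sm gf N2869 = N3581 := trf L89671 L35241 rfl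
theorem L118045 : sm gf N3581 = N2869 := flp_f L118044
theorem L118046 : sm gc N3010 = N2677 := trf L71852 L26485 rfl
theorem L118047 : sm gc N2677 = N3010 := flp_c L118046
theorem L118057 : sm gc N3680 = N4273 := trf L71821 L42342 rfl
theorem L118058 : sm gc N4273 = N3680 := flp_c L118057
theorem L118063 : sm gc N4012 = N4289 := trf L99794 L42560 rfl
theorem L118064 : sm gc N4289 = N4012 := flp_c L118063
theorem L118065 : sm gg N4012 = N4288 := trf L99794 L42557 rfl
theorem L118066 : sm gg N4288 = N4012 := flp_g L118065
theorem L118069 : sm gf N4288 = N3678 := trf L71797 L36193 rfl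
theorem L118070 : sm gf N3678 = N4288 := flp_f L118069
theorem L118071 : sm gf N6324 = N4369 := trf L98810 L43394 rfl
theorem L118072 : sm gf N4369 = N6324 := flp_f L118071
theorem L118073 : sm gd N2872 = N3019 := trf L114550 L29579 rfl
theorem L118074 : sm gd N3019 = N2872 := flp_d L118073
theorem L118078 : sm gf N4016 = N4021 := trf L71757 L39823 rfl
theorem L118079 : sm gf N4021 = N4016 := flp_f L118078
theorem L118085 : sm gf N3924 = N4024 := trf L93787 L39881 rfl
theorem L118086 : sm gf N4024 = N3924 := flp_f L118085
theorem L118094 : sm gd N3921 = N4021 := trf L106522 L39770 rfl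
theorem L118095 : sm gd N4021 = N3921 := flp_d L118094
theorem L118097 : sm gb N3931 = N4328 := trf L110761 L38573 rfl
theorem L118098 : sm gb N4328 = N3931 := flp_b L118097
theorem L118099 : sm gf N3931 = N3936 := trf L110761 L38568 rfl
theorem L118100 : sm gf N3936 = N3931 := flp_f L118099
theorem L118106 : sm gc N2870 = N2856 := trf L71625 L28034 rfl
theorem L118107 : sm gc N2856 = N2870 := flp_c L118106
theorem L118108 : sm gf N2870 = N2868 := trf L71625 L28035 rfl
theorem L118109 : sm gf N2868 = N2870 := flp_f L118108
theorem L118121 : sm gd N3135 = N4185 := trf L113132 L41296 rfl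
theorem L118122 : sm gd N4185 = N3135 := flp_d L118121
theorem L118148 : sm gc N2411 = N2864 := trf L95352 L28005 rfl
theorem L118149 : sm gc N2864 = N2411 := flp_c L118148
theorem L118150 : sm gd N2411 = N2948 := trf L95352 L28007 rfl
theorem L118151 : sm gd N2948 = N2411 := flp_d L118150
theorem L118155 : sm gg N4030 = N4404 := trf L98379 L43548 rfl
theorem L118156 : sm gg N4404 = N4030 := flp_g L118155
theorem L118163 : sm gc N3076 = N2443 := trf L71485 L24054 rfl
theorem L118164 : sm gc N2443 = N3076 := flp_c L118163
theorem L118166 : sm gf N3076 = N2467 := trf L71485 L24055 rfl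
theorem L118167 : sm gf N2467 = N3076 := flp_f L118166
theorem L118169 : sm gb N3203 = N2948 := trf L71479 L28933 rfl
theorem L118170 : sm gb N2948 = N3203 := flp_b L118169
theorem L118171 : sm gc N3203 = N4404 := trf L71479 L30082 rfl
theorem L118172 : N4404 = N7251 := eqe L118171 L113028
theorem L118173 : N7251 = N4404 := (eqc rfl L118172 rfl).symm
theorem L118176 : sm gc N4404 = N3203 := trf L118173 L113029 rfl
theorem L118177 : sm gc N3203 = N4404 := flp_c L118176
theorem L118178 : sm gc N4248 = N3199 := trf L71469 L31377 rfl
theorem L118179 : sm gc N3199 = N4248 := flp_c L118178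
theorem L118180 : sm gf N4248 = N3241 := trf L71469 L31380 rfl
theorem L118181 : sm gf N3241 = N4248 := flp_f L118180
theorem L118183 : sm gc N2441 = N3125 := trf L71466 L30603 rfl
theorem L118184 : sm gc N3125 = N2441 := flp_c L118183
theorem L118190 : sm gb N3250 = N4185 := trf L71447 L29083 rfl
theorem L118191 : sm gb N4185 = N3250 := flp_b L118190
theorem L118194 : sm gc N6134 = N4725 := trf L93941 L47338 rfl
theorem L118195 : sm gc N4725 = N6134 := flp_c L118194
theorem L118196 : sm gg N6134 = N4724 := trf L93941 L47335 rfl
theorem L118197 : sm gg N4724 = N6134 := flp_g L118196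
theorem L118198 : sm gb N6500 = N4725 := trf L71438 L47345 rfl
theorem L118199 : sm gb N4725 = N6500 := flp_b L118198
theorem L118201 : sm gb N4638 = N4100 := trf L71429 L40581 rfl
theorem L118202 : sm gb N4100 = N4638 := flp_b L118201
theorem L118207 : sm gb N4724 = N4261 := trf L71420 L40626 rfl
theorem L118208 : sm gb N4261 = N4724 := flp_b L118207
theorem L118214 : sm gb N2317 = N2466 := trf L71313 L24406 rfl
theorem L118215 : sm gb N2466 = N2317 := flp_b L118214
theorem L118216 : sm gd N2317 = N2474 := trf L71313 L24407 rfl
theorem L118217 : sm gd N2474 = N2317 := flp_d L118216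
theorem L118219 : sm gc N2272 = N2474 := trf L71310 L24506 rfl
theorem L118220 : sm gc N2474 = N2272 := flp_c L118219
theorem L118237 : sm ga N2320 = N2474 := trf L71233 L24502 rfl
theorem L118238 : sm ga N2474 = N2320 := flp_a L118237
theorem L118240 : sm ge N3428 = N2954 := trf L71227 L28972 rfl
theorem L118241 : sm ge N2954 = N3428 := flp_e L118240
theorem L118242 : sm gf N3428 = N2965 := trf L71227 L28974 rfl
theorem L118243 : sm gf N2965 = N3428 := flp_f L118242
theorem L118244 : sm gc N2177 = N2349 := trf L71224 L23027 rfl
theorem L118245 : sm gc N2349 = N2177 := flp_c L118244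
theorem L118247 : sm gf N2177 = N2348 := trf L71224 L23024 rfl
theorem L118248 : sm gf N2348 = N2177 := flp_f L118247
theorem L118251 : sm gf N5067 = N4123 := trf L71212 L40692 rfl
theorem L118252 : sm gf N4123 = N5067 := flp_f L118251
theorem L118255 : sm ga N4112 = N5055 := trf L71198 L51316 rfl
theorem L118256 : sm ga N5055 = N4112 := flp_a L118255
theorem L118257 : sm ge N4112 = N5067 := trf L71198 L51317 rfl
theorem L118258 : sm ge N5067 = N4112 := flp_e L118257
theorem L118264 : sm gg N3496 = N3605 := trf L109706 L35469 rfl
theorem L118265 : sm gg N3605 = N3496 := flp_g L118264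
theorem L118272 : sm ga N3605 = N2928 := trf L71172 L28651 rfl
theorem L118273 : sm ga N2928 = N3605 := flp_a L118272
theorem L118275 : sm gd N3605 = N2924 := trf L71172 L28653 rfl
theorem L118276 : sm gd N2924 = N3605 := flp_d L118275
theorem L118278 : sm gf N3605 = N2923 := trf L71172 L28650 rfl
theorem L118279 : sm gf N2923 = N3605 := flp_f L118278
theorem L118285 : sm gd N3626 = N5476 := trf L71138 L55070 rfl
theorem L118286 : sm gd N5476 = N3626 := flp_d L118285
theorem L118287 : sm ga N5239 = N6395 := trf L116445 L55641 rfl
theorem L118288 : sm ga N6395 = N5239 := flp_a L118287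
theorem L118289 : sm ga N5476 = N4108 := trf L71157 L40594 rfl
theorem L118290 : sm ga N4108 = N5476 := flp_a L118289
theorem L118294 : sm gf N5476 = N4102 := trf L71157 L40593 rfl
theorem L118295 : sm gf N4102 = N5476 := flp_f L118294
theorem L118299 : sm gf N2653 = N3007 := trf L71118 L29445 rfl
theorem L118300 : sm gf N3007 = N2653 := flp_f L118299
theorem L118302 : sm gg N5239 = N5476 := trf L109621 L55078 rfl
theorem L118303 : sm gg N5476 = N5239 := flp_g L118302
theorem L118307 : sm gb N5244 = N10741 := trf L95551 L64268 rfl
theorem L118308 : N10741 = N8632 := eqe L118307 L52977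
theorem L118309 : N10741 = N8632 := eqc rfl L118308 rfl
theorem L118310 : sm gd N5244 = N4108 := trf L95551 L40654 rfl
theorem L118311 : sm gd N4108 = N5244 := flp_d L118310
theorem L118312 : sm ge N5244 = N4108 := trf L95551 L40656 rfl
theorem L118313 : sm ge N4108 = N5244 := flp_e L118312
theorem L118314 : sm gd N8632 = N6472 := trf L118309 L64270 rfl
theorem L118315 : sm gd N6472 = N8632 := flp_d L118314
theorem L118316 : sm ge N8632 = N6472 := trf L118309 L64272 rfl
theorem L118317 : sm ge N6472 = N8632 := flp_e L118316
theorem L118318 : sm gf N8632 = N8632 := trf L118309 L64274 L118309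
theorem L118322 : sm gf N4266 = N3626 := trf L71076 L35713 rfl
theorem L118323 : sm gf N3626 = N4266 := flp_f L118322
theorem L118324 : N9966 = N5979 := coi_32_38 L37749 L27274 L21770 L19109 L7879 L19283 L22110 L22107 L22745 L22747 L117358 L21731 L19099 L6456 L5297 L5294 L5986 L18728 L21025 L116543 L20720 L19863 L19864 L100155 L22041 L23252 L29882 L43321 L107557 L98795 L98796 L42624 L98754 L30918 L111799 L32028 L47727 L101406 L40023 L28296 L22342 L22318 L21098 L20211 L118183 L23614 L23606 L113906 L113912 L27913 L118170 L24049 L22186 L28030 L71943 L113565 L23353 L110871 L23252 L29882 L29886 L33514 L107153 L36285 L26544 L112970 L23700 L111546 L22340 L19394 L21860 L27484 L27486 L34844 L111622 L111756 L110674 L63192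
theorem L118325 : N9966 = N5979 := eqc rfl L118324 rfl
theorem L118326 : sm gd N5979 = N10555 := trf L118325 L63193 rfl
theorem L118327 : N10555 = N9962 := eqe L118326 L59768
theorem L118328 : N10555 = N9962 := eqc rfl L118327 rfl
theorem L118329 : sm ge N5979 = N5981 := trf L118325 L59792 rfl
theorem L118330 : N5981 = N9963 := eqe L118329 L59776
theorem L118331 : N9963 = N5981 := (eqc rfl L118330 rfl).symm
theorem L118332 : sm gf N5979 = N5980 := trf L118325 L59791 rfl
theorem L118333 : N5980 = N9964 := eqe L118332 L59780
theorem L118334 : N9964 = N5980 := (eqc rfl L118333 rfl).symm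
theorem L118337 : sm gf N5980 = N5979 := trf L118334 L59781 rfl
theorem L118338 : sm gf N5979 = N5980 := flp_f L118337
theorem L118339 : sm gc N5981 = N5980 := trf L118331 L59778 rfl
theorem L118340 : sm gc N5980 = N5981 := flp_c L118339
theorem L118341 : sm ge N5981 = N5979 := trf L118331 L59777 rfl
theorem L118342 : sm ge N5979 = N5981 := flp_e L118341
theorem L118343 : sm gb N9962 = N10036 := trf L118328 L110675 rfl
theorem L118344 : sm gb N10036 = N9962 := flp_b L118343
theorem L118345 : sm ge N9962 = N6352 := trf L118328 L63189 rfl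
theorem L118346 : sm ge N6352 = N9962 := flp_e L118345
theorem L118347 : sm gf N9962 = N6357 := trf L118328 L63190 rfl
theorem L118348 : sm gf N6357 = N9962 := flp_f L118347
theorem L118349 : sm gc N9641 = N9968 := ded_32_7 L59800 L37762 L27485 L22318 L21098 L20211 L118183 L23614 L23606 L113906 L113912 L27913 L118170 L24049 L22186 L28030 L71943 L113565 L113548 L26514 L113676 L114672 L29504 L117874 L23274 L19831 L18875 L18872 L18869 L21269 L26283 L118285 L35461 L26170 L24364 L31833 L107859 L42492 L107581 L30159 L23364 L19886 L22047 L114206 L27988 L117532 L94003 L114267 L38995 L27942 L23626 L23623 L20040 L19687 L22286 L28110 L85132 L118012 L29653 L107874 L107875 L116860 L117414 L113883 L107091 L106983 L99401 L40195 L113807 L114010 L114013 L42954 L29713 L27314 L114229 L111396 L111417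
theorem L118350 : sm gc N9968 = N9641 := flp_c L118349
theorem L118351 : sm gf N7341 = N7390 := ded_20_2 L98659 L114301 L45449
theorem L118352 : sm gf N7390 = N7341 := flp_f L118351
theorem L118353 : N10554 = N9967 := coi_32_0 L59796 L37758 L27281 L103153 L27255 L37718 L117413 L116861 L107876 L30118 L113566 L118095 L113626 L23338 L118163 L20221 L10337 L5105 L2573 L2852 L6007 L18768 L21158 L117890 L25426 L33792 L117742 L29619 L23110 L23092 L29562 L99229 L40195 L113807 L49266 L32779 L24852 L20626 L21720 L27183 L117388 L117126 L23719 L23745 L30910 L45449 L103206 L59714 L37728 L27263 L37468 L116820 L98155 L45453 L45450 L30911 L23746 L23741 L75003 L117389 L27184 L21721 L21718 L24854 L32778 L49265 L113808 L107032 L99810 L29563 L23091 L23109 L29614 L98754 L30918 L30837 L45278 L107412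
theorem L118354 : N10554 = N9967 := eqc rfl L118353 rfl
theorem L118355 : sm gb N9967 = N7308 := trf L118354 L107411 rfl
theorem L118356 : sm gb N7308 = N9967 := flp_b L118355
theorem L118357 : sm gc N9967 = N6352 := trf L118354 L63185 rfl
theorem L118358 : sm gc N6352 = N9967 := flp_c L118357
theorem L118359 : sm gf N9967 = N6356 := trf L118354 L63186 rfl
theorem L118360 : sm gf N6356 = N9967 := flp_f L118359
theorem L118361 : sm gc N9949 = N9950 := ded_32_50 L103205 L98735 L73343 L29940 L26524 L118057 L114790 L23148 L19783 L9314 L4600 L2242 L2238 L4586 L9274 L19209 L21993 L21995 L22001 L27745 L113460 L118190 L118122 L88860 L42729 L98660 L98518 L107577 L107970 L113423 L113094 L114373 L29797 L117808 L25425 L117889 L21159 L18766 L6001 L2851 L2574 L5106 L10343 L20223 L118164 L23337 L113627 L106826 L23354 L30119 L107875 L116860 L107563 L59706 L102923 L118357 L40061 L28322 L22351 L19394 L21860 L22318 L21098 L21126 L24016 L118179 L110720 L42056 L42062 L107316 L32232 L111534 L40022 L40026 L40060 L118358 L102922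
theorem L118362 : sm gc N9950 = N9949 := flp_c L118361
theorem L118363 : sm gf N9949 = N9948 := ded_31_13 L107413 L43489 L98842 L39908 L32241 L111317 L115076 L115119 L117166 L30235 L30244 L30270 L101374 L102919
theorem L118364 : sm gf N9948 = N9949 := flp_f L118363
theorem L118365 : N8324 = N8293 := coi_32_45 L51322 L33527 L30791 L74832 L38781 L27836 L22046 L22000 L27716 L114587 L28165 L22249 L114608 L118121 L114818 L29317 L23826 L23822 L23827 L23834 L23804 L20123 L18546 L9314 L4600 L4592 L9285 L19775 L23123 L29636 L98824 L39899 L107033 L38303 L27616 L21912 L19427 L22446 L107005 L113872 L28158 L22233 L19358 L20381 L118217 L19570 L19116 L19111 L19108 L19407 L22390 L28341 L40080 L107398 L73344 L43492 L117754 L29652 L118009 L89654 L114672 L29504 L117724 L29931 L29929 L117651 L29930 L117723 L29505 L114669 L21394 L23312 L114417 L20839 L20836 L25344 L33604 L51479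
theorem L118366 : N8324 = N8293 := eqc rfl L118365 rfl
theorem L118367 : sm gd N8293 = N5068 := trf L118366 L51480 rfl
theorem L118368 : sm gd N5068 = N8293 := flp_d L118367
theorem L118369 : N7392 = N11416 := coi_32_32 L68174 L42720 L29642 L117907 L115396 L97789 L19610 L19177 L19174 L19180 L19427 L22446 L28416 L113767 L38607 L30077 L118176 L24049 L22186 L28049 L28051 L114637 L22265 L24438 L113418 L28228 L28136 L118063 L29572 L29627 L114505 L84527 L30929 L23760 L20105 L10165 L10155 L10152 L8887 L4407 L4413 L4415 L3524 L7369 L19218 L22006 L22003 L22057 L27857 L75548 L116881 L107580 L98525 L117205 L26188 L21239 L18818 L10403 L20304 L24317 L24315 L116697 L25629 L93632 L23059 L22644 L28758 L113140 L26174 L24364 L31833 L118207 L29416 L29750 L113963 L30265 L44189 L98647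
theorem L118370 : N11416 = N7392 := (eqc rfl L118369 rfl).symm
theorem L118371 : sm gd N7392 = N6875 := trf L118370 L68174 rfl
theorem L118372 : sm gd N6875 = N7392 := flp_d L118371
theorem L118373 : sm ge N9641 = N11745 := ded_15_2 L69947 L117446 L111467
theorem L118374 : sm ge N11745 = N9641 := flp_e L118373
theorem L118375 : sm gf N9641 = N9968 := ded_16_2 L59799 L37753 L37739 L114240 L111467
theorem L118376 : sm gf N9968 = N9641 := flp_f L118375
theorem L118377 : sm ga N9641 = N9961 := ded_7_1 L59767 L59703 L107413 L43490 L98799 L117751 L44201 L117444 L111467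
theorem L118378 : sm ga N9961 = N9641 := flp_a L118377
theorem L118379 : sm gg N9639 = N9968 := ded_31_0 L118376 L111466 L59417 L116893 L30252 L107589 L98491 L37719 L107096 L28326 L40027 L111556 L111374 L111449
theorem L118380 : sm gg N9968 = N9639 := flp_g L118379
theorem L118381 : N8293 = N10825 := coi_32_20 L64771 L115509 L35079 L26013 L26089 L114832 L28924 L28930 L88053 L88188 L23435 L23298 L29643 L42721 L118372 L45759 L107968 L39953 L28232 L28136 L118063 L113703 L113982 L114511 L30261 L117386 L37570 L27184 L21721 L20627 L24857 L117429 L73895 L37568 L117387 L30260 L114512 L29633 L29573 L118064 L28135 L28231 L39948 L107971 L45760 L118371 L42720 L29640 L23143 L23436 L88187 L88054 L88051 L28398 L114889 L22829 L22857 L29224 L38748 L117256 L30795 L23707 L25317 L25321 L26187 L117204 L98524 L42493 L114130 L116790 L29415 L29401 L117504 L30234 L117087 L117385 L117187 L51321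
theorem L118382 : N10825 = N8293 := (eqc rfl L118381 rfl).symm
theorem L118383 : sm gb N8293 = N6510 := trf L118382 L64771 rfl
theorem L118384 : sm gb N6510 = N8293 := flp_b L118383
theorem L118385 : N10745 = N6472 := coi_30_17 L64307 L64310 L117190 L117191 L40879 L115521 L113354 L113376 L113372 L25210 L25128 L25126 L25110 L25107 L22582 L22609 L28679 L40666 L64304 L64306
theorem L118386 : N10745 = N6472 := eqc rfl L118385 rfl
theorem L118387 : sm ga N6472 = N6472 := trf L118386 L64305 rfl
theorem L118389 : sm ga N10746 = N10746 := ded_30_7 L64309 L64308 L40667 L118290 L118294 L28646 L25108 L25105 L25175 L25177 L25209 L33296 L33300 L113359 L115522 L28795 L28701 L40726 L64311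
theorem L118390 : sm ge N10833 = N8326 := ded_19_2 L51487 L74882 L64805
theorem L118391 : sm ge N8326 = N10833 := flp_e L118390
theorem L118392 : sm gd N7691 = N9639 := ded_32_47 L57955 L111408 L27377 L27244 L112875 L23739 L22716 L115955 L25914 L34854 L108636 L28872 L29155 L79507 L29097 L28772 L28770 L28771 L22807 L112708 L24041 L111711 L112830 L21759 L19135 L20669 L24982 L111304 L29207 L22852 L112158 L25826 L112284 L25825 L112313 L24377 L24379 L26213 L93032 L27378 L27376 L112046 L114980 L29149 L115080 L31023 L23815 L20132 L10184 L17311 L17308 L6107 L18939 L80531 L6109 L2901 L2517 L2514 L2157 L4422 L8898 L19656 L22840 L116059 L110365 L34908 L34910 L103603 L34989 L86812 L114945 L32320 L111321 L24546 L24444 L32037 L93120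
theorem L118393 : sm gd N9639 = N7691 := flp_d L118392
theorem L118394 : sm gd N8326 = N10833 := ded_32_55 L64804 L111916 L111917 L37959 L111420 L79605 L79602 L111362 L26113 L26026 L35107 L111912 L111910 L40966 L28822 L24688 L24684 L24680 L24677 L24662 L20468 L18490 L10465 L10462 L17310 L10185 L20133 L23817 L31025 L115079 L29148 L114981 L36937 L111408 L27377 L93031 L26214 L21247 L20332 L112312 L25826 L112284 L26028 L26025 L26114 L111361 L112155 L59031 L59032 L111781 L107294 L24560 L20412 L10443 L10419 L19643 L19644 L8907 L16895 L6112 L6224 L80496 L6223 L17419 L4436 L8908 L19645 L19642 L20363 L20365 L20411 L24559 L107295 L111791 L117181 L33613 L51488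
theorem L118395 : sm gd N10833 = N8326 := flp_d L118394
theorem L118396 : N9221 = N9079 := coi_32_48 L55250 L111371 L41026 L110641 L31880 L31877 L35542 L111917 L37959 L111469 L111419 L37958 L111918 L35543 L35538 L111371 L41026 L116083 L108706 L26096 L26020 L35090 L115558 L40895 L40897 L40899 L28858 L108716 L26572 L21411 L20410 L24444 L32037 L111446 L41845 L29265 L29149 L115080 L31024 L112488 L112485 L78523 L18960 L6126 L6259 L18998 L77586 L19002 L77593 L19003 L18999 L80336 L6258 L6127 L18961 L112477 L20639 L20636 L112478 L79656 L21508 L19667 L19645 L19642 L10418 L5139 L5160 L5162 L5177 L17222 L20484 L24683 L32582 L116140 L33613 L51488 L92437 L55962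
theorem L118397 : N9221 = N9079 := eqc rfl L118396 rfl
theorem L118398 : sm gd N9079 = N5554 := trf L118397 L55963 rfl
theorem L118399 : sm gd N5554 = N9079 := flp_d L118398
theorem L118400 : sm gb N9079 = N10833 := ded_32_57 L118395 L51487 L33612 L116139 L32580 L24679 L20483 L17221 L5178 L2531 L2515 L5140 L10419 L19643 L22851 L22853 L21509 L79657 L112479 L112476 L20501 L78523 L18960 L6126 L6259 L18998 L77586 L19002 L77593 L19003 L18999 L80336 L6258 L6127 L18961 L112477 L20637 L112487 L31025 L115079 L111790 L111782 L41844 L111447 L32038 L110640 L41029 L111370 L55249 L118398 L35829 L26342 L21304 L21412 L26579 L107195 L111280 L111281 L112596 L115480 L24097 L24101 L115221 L24098 L115481 L112595 L26604 L26602 L107194 L26580 L21413 L21410 L24544 L116082 L41027 L111370 L55249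
theorem L118401 : sm gb N10833 = N9079 := flp_b L118400
theorem L118402 : sm gg N11745 = N7693 := ded_17_4 L79602 L114917 L75143 L44160 L69946
theorem L118403 : sm gg N7693 = N11745 := flp_g L118402
theorem L118404 : sm ge N9950 = N9948 := ded_32_52 L59705 L40081 L28342 L22391 L19405 L7878 L19110 L19117 L19571 L118214 L20355 L19359 L22234 L28157 L107020 L28417 L22447 L19426 L21911 L110931 L23372 L30167 L44009 L107514 L98519 L75658 L39953 L28232 L28136 L118063 L113703 L113982 L114511 L30261 L117386 L37570 L27184 L21721 L20627 L24857 L117429 L30316 L27904 L117523 L27979 L27983 L28341 L40080 L59704 L59701 L107564 L44352 L84578 L45277 L30836 L30919 L114393 L29619 L23110 L23092 L29562 L99229 L40195 L113807 L49266 L32779 L24852 L20626 L21720 L27183 L117388 L117126 L23719 L23745 L30910 L45449 L103206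
theorem L118405 : sm ge N9948 = N9950 := flp_e L118404
theorem L118406 : sm gd N10835 = N8920 := ded_32_44 L54434 L35087 L26019 L26097 L93205 L114944 L115483 L22717 L115882 L10351 L5308 L6014 L18805 L21169 L26021 L103603 L34989 L25970 L115954 L22715 L23740 L112872 L20673 L20668 L21812 L112046 L114980 L29264 L111781 L107294 L24560 L20412 L10443 L5141 L6045 L6057 L6058 L2882 L2904 L2906 L2958 L77031 L2959 L1504 L1479 L2883 L6059 L6056 L18851 L18853 L18901 L21422 L79942 L24656 L24661 L24678 L24679 L20483 L16892 L8769 L4435 L2173 L2525 L5155 L112744 L20243 L110345 L110346 L21112 L21166 L21168 L21210 L26107 L111346 L28854 L40900 L64814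
theorem L118407 : sm gd N8920 = N10835 := flp_d L118406
theorem L118408 : sm ge N9961 = N9968 := ded_32_52 L59800 L37762 L27486 L34844 L34848 L34968 L116622 L103133 L107082 L113878 L38307 L113814 L38162 L84034 L89507 L114177 L37552 L37568 L117387 L84592 L84575 L31047 L84527 L30929 L23761 L79214 L23804 L20123 L10174 L17246 L3796 L3780 L7763 L19347 L19344 L19352 L19354 L7758 L10415 L20357 L116662 L22179 L19328 L7902 L19175 L21905 L21907 L23257 L29904 L116871 L30184 L116843 L107176 L26555 L112988 L25936 L21109 L112559 L112556 L20176 L10315 L10657 L10659 L19098 L21730 L117359 L19591 L19585 L22108 L22109 L19282 L19404 L19406 L21769 L27273 L37748 L59766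
theorem L118409 : sm ge N9968 = N9961 := flp_e L118408
theorem L118410 : sm ga N9968 = N11745 := ded_12_3 L118402 L79600 L118379
theorem L118411 : sm ga N11745 = N9968 := flp_a L118410
theorem L118412 : sm gf N11745 = N9961 := ded_31_4 L59767 L102941 L118347 L101373 L30269 L23412 L19907 L18514 L19561 L22696 L111333 L111350 L79603 L118403
theorem L118413 : sm gf N9961 = N11745 := flp_f L118412
theorem L118414 : sm gc N11745 = N9961 := ded_32_50 L59767 L118342 L37754 L27277 L22353 L28321 L40027 L101407 L47726 L32027 L107311 L39909 L39907 L28212 L118073 L23096 L19761 L9273 L4585 L2237 L17828 L3795 L7787 L19372 L22287 L22293 L23762 L30930 L117572 L114759 L29485 L118058 L114076 L114070 L107944 L114261 L27980 L22120 L22110 L22107 L19584 L8877 L9399 L18801 L18796 L18768 L21158 L25938 L112987 L26556 L107177 L79923 L30185 L116838 L107433 L107429 L114413 L114372 L113054 L24438 L113418 L84980 L38403 L114158 L37809 L117464 L30298 L84189 L84183 L113173 L113170 L30654 L113373 L26195 L31860 L110701 L69949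
theorem L118415 : sm gc N9961 = N11745 := flp_c L118414
theorem L118416 : sm gd N10036 = N9961 := ded_32_49 L118415 L69947 L117446 L59418 L114228 L27313 L29712 L42815 L113801 L38301 L27616 L21912 L19181 L7903 L19329 L22180 L116663 L20316 L10390 L8628 L4218 L2080 L2458 L4989 L10178 L20128 L22294 L28248 L75685 L31041 L23825 L29316 L114817 L118191 L24417 L22250 L28166 L114588 L116915 L116916 L38500 L117409 L116852 L29983 L114479 L20789 L20761 L90238 L21288 L21290 L21402 L26549 L79922 L32555 L116839 L30182 L23381 L19894 L22064 L27867 L114118 L114024 L73931 L98007 L101252 L23625 L111516 L23667 L22966 L29346 L110721 L118178 L24015 L25959 L34849 L111622 L111756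
theorem L118417 : sm gd N9961 = N10036 := flp_d L118416
theorem L118418 : sm gf N8083 = N8083 := ded_16_4 L49575 L81879 L31656 L81880 L49574
theorem L118419 : N8576 = N5208 := coi_31_8 L34216 L109694 L118322 L116457 L109740 L118323 L29440 L109508 L81879 L31656 L109489 L81880 L49574 L109608 L52679
theorem L118420 : N8576 = N5208 := eqc rfl L118419 rfl
theorem L118422 : sm gf N5208 = N5208 := trf L118420 L52680 rfl
theorem L118423 : sm ga N10603 = N10603 := ded_7_9 L63474 L81887 L33016 L28647 L22602 L28648 L33017 L81888 L63473
theorem L118424 : sm gd N8083 = N10603 := ded_14_2 L63474 L81890 L49574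
theorem L118425 : sm gd N10603 = N8083 := flp_d L118424
theorem L118426 : sm gc N10603 = N8575 := ded_32_17 L52673 L49577 L49575 L81891 L40221 L28447 L22474 L101212 L22599 L109664 L34222 L34219 L25618 L25036 L25032 L24229 L83054 L28431 L116490 L23599 L25110 L25111 L22576 L21883 L21882 L22577 L25112 L25109 L25076 L116493 L28430 L83055 L24230 L20696 L20147 L109406 L19576 L111153 L6450 L3061 L2568 L5096 L10307 L112564 L18594 L110333 L18570 L5754 L15157 L4646 L2267 L1787 L963 L552 L334 L234 L354 L589 L1028 L1902 L1906 L1905 L3762 L7720 L19294 L115344 L109892 L22138 L23587 L23584 L116411 L83055 L24230 L25031 L32950 L49574 L118424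
theorem L118427 : sm gc N8575 = N10603 := flp_c L118426
theorem L118428 : sm ge N8083 = N10603 := ded_32_0 L118425 L49576 L52672 L118427 L63474 L81890 L32951 L25032 L24229 L20007 L20010 L23583 L23588 L22137 L19565 L19299 L19295 L7721 L3761 L1903 L1038 L858 L504 L305 L311 L314 L164 L102 L165 L318 L17787 L236 L214 L263 L398 L16746 L430 L634 L18350 L18347 L637 L384 L248 L122 L109 L106 L110 L216 L224 L155 L162 L315 L313 L518 L14611 L519 L312 L159 L306 L505 L859 L1556 L1905 L3762 L7720 L19294 L115344 L109892 L22138 L23587 L23584 L116411 L83055 L24230 L25031 L32950 L49574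
theorem L118429 : sm ge N10603 = N8083 := flp_e L118428
theorem L118430 : sm gg N8920 = N8832 := ded_21_2 L54026 L116034 L54433
theorem L118431 : sm gg N8832 = N8920 := flp_g L118430
theorem L118432 : sm gg N9638 = N9961 := ded_31_12 L118413 L69947 L44161 L44154 L84183 L116937 L107712 L37773 L27280 L27275 L37760 L93118 L93115 L111469
theorem L118433 : sm gg N9961 = N9638 := flp_g L118432
theorem L118434 : sm gf N8832 = N8832 := ded_30_8 L54026 L112205 L112283 L25824 L112303 L21053 L18731 L18783 L115808 L111891 L26348 L111889 L26345 L115583 L115619 L26024 L26021 L34911 L54028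
theorem L118435 : sm gf N8802 = N8802 := ded_30_0 L53888 L34855 L111709 L25338 L110472 L21138 L110162 L110146 L110324 L21139 L21045 L21136 L25914 L34854 L108634 L109212 L40915 L40917 L108223
theorem L118436 : sm gg N9079 = N8802 := ded_24_0 L103608 L116224 L118399
theorem L118437 : sm gg N8802 = N9079 := flp_g L118436
theorem L118438 : sm ga N10835 = N9079 := ded_12_3 L118436 L108222 L64817
theorem L118439 : sm ga N9079 = N10835 := flp_a L118438
theorem L118440 : sm gf N10835 = N9079 := ded_29_2 L118436 L108222 L109213 L64817
theorem L118441 : sm gf N9079 = N10835 := flp_f L118440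
theorem L118442 : sm ga N10832 = N10832 := ded_7_7 L64798 L115512 L53892 L108222 L40917 L108223 L53891 L115513 L64797
theorem L118443 : sm ge N10835 = N8920 := ded_10_0 L108292 L55252 L118439
theorem L118444 : sm ge N8920 = N10835 := flp_e L118443
theorem L118445 : sm ga N8922 = N8922 := ded_7_5 L54444 L35092 L34911 L54028 L108374 L54027 L34910 L35093 L54443
theorem L118446 : sm gg N8632 = N8632 := ded_31_6 L118318 L52978 L34402 L34227 L34215 L109609 L118418 L49575 L109507 L116435 L25684 L25697 L34396 L52977
theorem L118447 : sm gg N8575 = N10603 := ded_24_2 L118425 L109608 L52672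
theorem L118448 : sm gg N10603 = N8575 := flp_g L118447
theorem L118449 : sm gf N8575 = N8575 := ded_31_7 L52675 L109678 L118295 L117910 L118302 L118294 L33017 L109519 L40220 L28444 L109553 L40219 L63473 L118448
theorem L118450 : N10747 = N6472 := coi_31_7 L40668 L40667 L116709 L116707 L52676 L118447 L63475 L63474 L109518 L81886 L34356 L95580 L28676 L40666 L64312
theorem L118451 : N10747 = N6472 := eqc rfl L118450 rfl
theorem L118452 : sm gg N6472 = N6472 := trf L118451 L64313 rfl
theorem L118453 : sm gg N10746 = N10746 := ded_17_2 L64310 L115520 L40967 L115519 L64311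
theorem L118454 : sm gd N10832 = N8922 := ded_14_2 L54444 L115558 L64797
theorem L118455 : sm gd N8922 = N10832 := flp_d L118454
theorem L118456 : sm ge N10832 = N8922 := ded_15_2 L54444 L115560 L64797
theorem L118457 : sm ge N8922 = N10832 := flp_e L118456
theorem L118458 : sm gg N8922 = N8922 := ded_17_4 L54444 L115562 L40838 L115563 L54443
theorem L118459 : sm gb N8320 = N11948 := rfl
theorem L118460 : sm gb N11948 = N8320 := flp_b L118459
theorem L118461 : sm gd N11948 = N10746 := ded_14_2 L64310 L115593 L118459
theorem L118462 : sm gd N10746 = N11948 := flp_d L118461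
theorem L118463 : sm ge N11948 = N10746 := ded_15_2 L64310 L115595 L118459
theorem L118464 : sm ge N10746 = N11948 := flp_e L118463
theorem L118465 : sm gc N11948 = N8632 := ded_13_2 L52978 L34400 L111941 L51459 L118459
theorem L118466 : sm gc N8632 = N11948 := flp_c L118465
theorem L118467 : sm gf N11948 = N11948 := ded_16_2 L118460 L115596 L40838 L115597 L118459
theorem L118468 : sm gg N11948 = N11948 := ded_17_2 L118460 L115598 L111912 L115599 L118459
theorem L118469 : sm ga N11948 = N11948 := ded_7_1 L118460 L51461 L115609 L115533 L40838 L115532 L115608 L51462 L118459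
theorem L118470 : sm gb N8920 = N11949 := rfl
theorem L118471 : sm gb N11949 = N8920 := flp_b L118470
theorem L118472 : sm gc N11949 = N8922 := ded_13_2 L54444 L35091 L35086 L54433 L118470
theorem L118473 : sm gc N8922 = N11949 := flp_c L118472
theorem L118474 : sm gf N11949 = N8922 := ded_16_2 L54444 L115575 L92437 L108661 L118470
theorem L118475 : sm gf N8922 = N11949 := flp_f L118474
theorem L118476 : sm gg N11949 = N11949 := ded_17_2 L118471 L118430 L108374 L118431 L118470
theorem L118477 : sm ga N11949 = N11949 := ded_7_1 L118471 L108292 L92438 L115572 L111912 L115573 L92437 L108293 L118470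
theorem L118478 : sm gc N10832 = N11950 := rfl
theorem L118479 : sm gc N11950 = N10832 := flp_c L118478
theorem L118480 : sm ga N11950 = N11950 := ded_8_1 L118479 L118442 L118478
theorem L118481 : sm ge N11950 = N11949 := ded_19_2 L118472 L118457 L118478
theorem L118482 : sm ge N11949 = N11950 := flp_e L118481
theorem L118483 : sm gg N11950 = N11950 := ded_21_2 L118479 L64799 L118478
theorem L118484 : sm gb N11950 = N10835 := ded_13_1 L64815 L40898 L40896 L64797 L118478
theorem L118485 : sm gb N10835 = N11950 := flp_b L118484
theorem L118486 : sm gf N11950 = N10832 := ded_30_0 L118478 L118484 L118438 L118441 L64815 L40898 L115547 L111933 L40965 L40967 L115517 L64801 L40895 L40897 L108363 L108659 L64814 L118485 L118480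
theorem L118487 : sm gf N10832 = N11950 := flp_f L118486
theorem L118488 : sm gd N11950 = N11949 := ded_32_1 L118472 L118455 L118478 L118484 L118406 L54434 L35088 L108705 L24542 L24444 L32037 L111446 L41845 L29265 L29149 L115080 L31024 L112488 L112485 L78523 L18960 L6126 L6259 L18998 L19000 L19048 L19053 L19047 L6444 L5939 L5937 L18440 L3027 L1532 L850 L750 L1150 L2119 L2133 L18250 L17181 L3032 L6399 L18458 L10631 L10629 L5280 L2561 L3059 L6442 L19001 L77586 L19002 L77593 L19003 L18999 L80336 L6258 L6127 L18961 L112477 L20637 L112487 L31025 L115079 L111790 L111782 L41844 L111447 L32038 L110640 L116083 L108706 L35089 L54433 L118470 L118482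
theorem L118489 : sm gd N11949 = N11950 := flp_d L118488

end Cfsg.Agent.Helper28.SuzA
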