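import Cfsg.Agent.Helper28.SuzB9

/-!
# The Suzuki group presentation, cosets of the subgroup generated by a, …, f: the coset table and the index (helper28; generated)
-/

set_option autoImplicit false
set_option maxRecDepth 100000
set_option linter.unusedSimpArgs false

noncomputable section

namespace Cfsg.Agent.Helper28.SuzA

open Cfsg.Spor Cfsg.Spor.Suz Cfsg.Agent.Helper28.CosetTable

/-- The packed table of the generator a. -/
def TB_a : ℕ := 0x37aef4de7baf706a4ddfbbb76e78de5a5b4aee3ce39c337ec4dd1b4f2f6f1dbf96f28ea3db7b6b2be44d37b5b3f6c8dc58c3346ccc5389f116d0c5187b5e6d4d6bb17636e4cdb9cf03605c077fb54ec9d299f2f6eb0c8d79b63df4d0585b2eeb8c3f732efe74d55aaf5edbec1b8d6d56f0db969b2ce53b4795309dfbdafa6b2663ebb3bab74ebbc6575ac55b0ba961f32e0cbe15e6f5e87d11866b6e62b85acefcdb8abbb573cebaab574f3eeecaa7986a96acd8564373ee6dcb99361d4ca9d536f1ed1a9151b46e6ec09a133b60fb1fb8758d38dbd4c350d9cdb348a9969ed4186b6ed1bb4b8fe98e99b2f44688648babade91ed8a096771ccfbc9da627ad5b9db4a720d28c2f38f534e0c2ba4eb96d29b35566c4d7a1f33b67ecbd9d32edb5d0bd9b36624c3d5fb2adecbd97994b434bac6facb19dbcd3b2ca565f2cc12af53e8c9516b6a2607c11b0760663d7f29251ca2a0dafa4f49dd3970340da793573e4b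eb492b8424968b96d23f5ce23d1362e8448aae1ada43d7acd3216485ddd5b5faf05689016534bd7398fa4b23e8fcf51e63c624bed1d239eae8e323237d7da2520a41c6a93fa0eb7dfa8cbaa30ee148c738630680b118962dc5ca1549659e908ab3c30544e8a1a9626c4cbf1a8b27d1fd3f1228bd20a5b1172165888755289cf6c970eaa1dda86d1661a672cbf2fe6ec2fbd5a46155b7d1d09ea8c9984b09211c21a6b77ae4524833793454b1a6d05a0a418bb18c6b75e7b835c742c0c81758204ddc80f07aaf41f9b90160256a8055973fc01c799edffd57ab0fef1759acef9d6c2bf38659af3566c7e2fc1fce677db999f4e09b2af9a183e27eb3a9f0be09a53967f65c7b75debfbd77ad95726e5a7a1462cfbcf79d1131d638796f76d957cc8b959e35a0b4940280bbfca13ea81d2eb42ef21cbd1b3371f25649c56ec9d8bb09416cdd45e97997fdd2643a32e7a8ed1e73b4e5cb4f9c8146a7e3957276631eb8f994e3278dae70f0031dcc97054fa744e9700dfe9d4b9c6cdf2dd6346f3176c6d636f0ddf17e2dc58dc9dd44776b4edb2c4f99f8a9b1c2cc4d3ce76358baed5a5be21c40d51a9c53b1cd470e61b6a1862724b098b7bda5452b6384abc4b8690d1da3611c1ccfe28e0b8f70499ee02c038019d50bb877f6fe33866f7dec2475beacd2f9c6c74f7c5ccde1bdccc5985ca8577a196c0fbcacb2f1329b8b71993ddb8d0ff19341394f1c2e95d1642c824c5ceb9ac7ae5c7ab92c6dd7c947677118cc7f840c4adfb10b76c31875b9616c2a6f5b4b6adaac9306776f26d7b039812d254dab9a1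6b2d4da85f5126255a29a90f6cf52ab36bd97aaf47f0bc2232f95f165a8aaea7cf64d74d915d153dc5541b18b9972ccc9176257141db0cb86c1d82b02b7ec0467ac959a142da83506ebdd745b15d96a5758f929a053fd910b4167d6cad7046b4accacef92b156159357eae4eeab2b160847eaacb0ea4c3f582eb29fabeaa0b9ea5d4a576b0aa3aba572faaa2ab686f5095a4067c75029ed3c556aaa9339ca6ea9de42a6a694cd513bd542a828a52fa594ad4dd07a4ea6a2b3d9531485d03a1526f01e0bc2a38e8dea5168af35549291520a3e69aa38d743a86d0c8daa2143bf66729fdcd5099269f53e50577c9e9e23c54f340a7fbdc6c4ea648a737293f67c3979ee9c938a709e89b1c44f24d70c53538d9de9a558aae6b33ad30ce79cc97db4ce24bcc0a6fcdb9b4965b9b746eb359aea8e60abdda13604a7169bea4f61ad9a68afc99ae6da636c49a931b8ad948eb8dc1cc8489319214c29829065f4bb4b095da5b6169b2d57fcaf95d2b51ea3c476db51bafe954c8a52ad2467285d5c9c9368c195c9645ecaa4748d45a8b244c8666acca422279031f58a2245a6cfa3bc764431c98e31d8dca1a34a8943e8790eb255bb1990dc64435185b3c628bf1790ab07611161b7af18a8de908a10692d017db645fb12e1e43b6dd10a20c4040eb298243e404bb9052094110e21ac337e50ba169fa6b50a6131f7844b2189adb5b9071ae41741e7ccf9415646cf0f7c0e81a7b563c083d6bca01ade59a8a5ff2b37f4fb9fb9e256efd0f09e07defb1f59de57efa0eebe5588ac9c2ab055ee11411cf7bef78e6a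997b4f60e61cb768f55e9bd238ca714ea9e79af29543c7380a514aa96786ee5dc3b776cdc0df9be37a6f18c3ae75ac68dc284506ab4d82317546b9d33a535ae89cf9c53889d125a76730e49c8b903526a0d3b8e716e25c31f43b2760ea9d23a2915c09996fcdeccaa5a4b6971bb34f69c85109a126d694128a526d085dafb5e4ea640c798e6b67e531357312d55a9194326649a2b44686614c21826825f905a226765f1403366665e597b2e2f08a16322a6505dcbb3243e08d18f9f662ec598a970622c3cb5a1649c86184a564aa95180b005ae59d0620d46abb5762eb5e6818f496a2d2bbd009632c4584fe1fd2acb91231e85c0880f3a685acb54a82235a2535671e659652d029f83ea7b0ee1db28cb015eabc284ae15a9e53c876933a6636c4ed329b426c991319b15584cd54aa55484b8e39c8392a7d3c277382708e1a9751aa3145a8a2544a49428536e75c929d42425fce828123e9f93d92d2584ad37a6e4da46cd21a5234464ab93e27a4e49c18c2244d13019632e6612ea4047e8f8b424a4929208619c2a84212190f21c4351d2392048e07f1643648d8b9a321f45311722b44c8947b94f2fa548a8a1c2903b8b616d4328110199141c594b31804007fcff1602943b4760eb2b639c730e53427ec6e18b2925c8b89f12e8354f717a3d457ca996f27e78c6714328877c668cc28e680cf9263ac31ccf19d24474c6219a39c3e097930262728d61ab3546ecdd1b917a4f0da8bb1fe4dcd98b935e3005f8be34c68cd10b5194324858b318a66c8811131061cc318d22a36c5698a1602bc571042066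0c538e82466047a8a31a85ec699322ea35c7e8d91b03404c8ef1e05b8af15d2b83a4751002b4564ac0e41a42604b89612a250499552143447a0f31ec228a70fb1f238c6d0f2140514a094010645c8b0bc2742048993518430c5091e23a470938c82481e89007d0f81ec8c0822282c45910720c414848730e41c4548a820227c350891f8220608cf14c2304588613426c788e21c23806f8de1ba18c310610c02104389e13a358520a211a2703388e1962d06307f1001a05c0b716c2e82784e09a14c3a0751582ac5504808e1183685a0b22942c07e10a1702d8571242444808f0781042a0660ca1b0358690c81581f05d0ec1442903f0f21e03b82f05c0b4180700de1b81504406e0d82f0350a01541c05f04e0981883d086108200340660941c84909812c250190341141001f0760e8190150280700d8290500780e8220420ac1600e01a0441202301603c0b0100240600b8080260240500c0080140300700400c00800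
/-- The packed table of the generator b. -/
def TB_b : ℕ := 0x378ededb1b077aee0d41a6f4c6e9ce3b2b7666fd9baab5bee3dc9a9b3bef0cadbd36ee53c9b9272def3d3f8f744e94c778d3296b0d87adb73e20cd7bab1b68bcd5afb386b2d9f80b79688d0db1b00e72beb7cf2fdecdcbb3b20e7cbb9b13366d0b9f7f2fce17cb9b9adfe91b77b8b17ea4d4796ad26efdafa7b16dccddd6734ceedb9b81ef56d4b1f88b54589c6f7caf7e3cd917536aec0c15afed456bb9d59eb360db017eac36b4aed562ab665dc3612e5d4fa9daf375ec5dd15b6a6eb1d97b1ea5554b578033c611a8b776a1d42d735029ceabdb3a8a97e4ccafb7e90e44db9b46915a1a334776de58a2192b6d50ca1385a99e54a293ff5ad2c9f366f6b68cda73b314ce9d1fb2679ed2c397c66e529d4b3634edc5c5766b1cdd299979664cf0991a4ae8ecc9834dec8e33c0b336d959ed5991a5a60e96552732590957853405359dfa1e53dfdd2d75b0dca5ae1b0b5ee669434e3046ae9379fb56d2dad975f5dc96d75a3b19491d1b2c6476b8917a56454939536fb134869fd6564255cac9207316b3b051fe3ed7cbed81a3de8a8ef8a310c76d5fa0f4be9cceb41a46c7c9eb5bb164a08d31a233c66d5379a51c64d4f1866fc5ead5382634e78af8666dc879bd2aac9547ccf13627e8589712a24ea1b4747b2844788d8622269ac7d8aa1dd0db2f2baf1581aaf6b70ee10d2718a17caf96d0b3484299c79f61367693176eca67f8410760e5d88f55861955982d9ee0bc13aa104209603ab771b375f7d096deafc08d05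a06115df80d0dabd403ad302a04de0adf272bc67ab279e5fce687ed035fdd73ce99cf36bf08679a7093edb591bf31be8cc3981f2e5e7c2fd275cf27bd16b2edfec3cf6306489c8af5688d03cb2f3efc640a26f37183f59ccf2a28bc7a2f9472abc578168b274fc77cf1327bbca473e1db643a5744a98e4b761352cc648790eab23ba57bf729da39fa61409dc3cec8578de9d1c72ae531fd16880e46e3badc6b4f1c4e24c16e19c1e3aa7ae071c382b6949dbf4c2b0f2e25fdb6b736bdbc631b63209b9e2e8db1066ad0e6dce32293756c8d8f0d6276b4d6712e236af6d5aeb876b13930fb529c32f9afc598a8d39a6ce26fb62dbde1569184ef7344b1965a3f340c1f6baf3b3ec1306b02479b7aceeffdc4672f6da0d5abf6cd99ad837337d199b32bd0cc6f833d65f7b6e4b2ebd77a69a483b6179195de191136aef326bb52b6ecdc8bab5ee52322ba77418fc238490458eb23a8cf666bb19720c5ae1dc2b837021a5bc61f63add30b61b6e184b0860f4ea5e369b66c15824bb60534692afdb52beed52feb4f69ad2af8b4167d7ad9d8870ea6b4f75e6d0d7643cb3310975bf77df589f7465a975e5f62e6b1aff977d8a624b8ec43285c3615704738e95956f57f5b8b6ebf57d6ef2996c2d6aeb5dd92ad3ae95c6395725a4ffea92ce59b57aaed6859758d90acaac0b2163bf281d0b962315aa2c92aaac187154e9453e5790016154c86f0d6a44317d6ae194d4456ac42a0ab37c6ab69faaca0f4ed54ba693ce6e37536548e8e992a19faec94fa9ca5d402953bb57d4994cd0ba48a529051a72ea79495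1f52346d48518798a357cd01725455455055eef4945d0f678dbe7a282655429442b6502f728427b7ace89462a0a089e13ba767b4aa24baa57869ca7dcfa51eede7b46b4daa15c54d257ae3678b849893b9333889db3a2753564c33965ba5e96a9752d4dd836c02682589b295d2ab7075d34dada546c29422c34b4b893926ccf99c9b9b5a4b97abda62a686db32e654c398ee01aaa494893012023f5732ea5ca3d6d08f172cb347cb556bcb087c8ea4ecac4692a2483af9448ca4faa646f26a4ca2f92b2524923391f23115a2a90aeadf4c2844b2020abfa8e11e202a228ea88238ad143cc463626f44d1a9fe21c43f0ad8d3e68c68622fa168c086a2ec5c8b684e2b45542114d7837641d1322820a89c825dcc48766d7a22a0887e8a101b0185a80176c3d8727f8fe9fc3f70c1a4ac08547e213c253ed084fac1f83c7cd1741968b061a31f182903d8e22d3df032059eb80f010f440280279cf2bfd3c6fc5fc2e4574f2dc5bf33beafda7bea55cea1f39dc7c8765589d83aaaddf13e04fe73deeb9a398ce1cc3d739471dea3a07a2f08e2bd0388705e49e04e8724dfbc637cf05dfbbd7266eddd3a1762ed5093a937276dc71b6368eb1d39af5569f8dd1b07486b0d5b9e73ae70d4a97350e58d51bc630d89c79a634868cd135c3ace14e9a4534a835bf9ce32cdf1bd367328de4c9b746e4959b8b6c322660c836a31ed99b29926c0851aa21131a86532353446620c3b516a0d1da634a30cd08da9b366e8d51b33f660ce8bd97a668b656817c65acb0bbaf22ecc5d93975486c80b931e626c6cb8b142dec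292330e2d4c30b4a4a60ca25243032d0bfd3116c2c4bf17d2f42c2578aea045e2570ad2ee3dcba974ae85ce554a9ae22a4b7d6e9ea5b45456a17d59e7fca61e45987d0a4ac958c521629ec586514a1a98576504a02b450c4f9592b033e99d5799d4ca6c4a216d55498097aa7264a8d4b12d5444b14ea9b2624a94d12952aa4c95a7051c9f54392724ca111ca83470480e927c5004788ea7a4f29c53aa732389b131a6b4d49a48c13a3ae630ea16626a4448825221e97c8725b4b293129a5149e4352399e2dc5d0832424828ec8290424840cc01811f83ecf822c4628c07c8f845289d1218a1e88850e8f343662ce820c1d885d0aa0f1d6670778e620e82d038e21c281902a021be804a70e028e464fd0da3f27dcf90d81fa5646a1ed1a6344f49e62ae33cf11d13c2330ef1dd1967689e916276680911381e04d8cd8c318472ce18c039a2fce41c637a708e00be3706dc929831744e4909b216e6b8d69a716c468ab1a12164f0750c61642c4cd19932e654c70ae22e3c47b0ab2c6624c29843042a48010114a290a797f2fc284bc9781404244f1732e02a8851372ca25c5c16b2ce4544d0941585904e892122580af9582b63584808e11a5505795014c3784494d29621ca508828c2106694227e2f06489b18e4504007f2684cc3e13025c4a03d8ca17648c3c0ed23e46c3b0750e844c890b01b2430378e72103c88106c0d635c7f8fe0d01dc7d0f70cc3d47286e1903a4310791dc19c380e80ca390718dd0be3706d8720ba1646a8d01a41602a0ce0a6148288c51881383e8c117a12c4c0b91442d45a0b30e62302489515a270218a814e0fc250a312c27c498450982641f03d11e178458470721044508606a0e8188851062084082e09e1f8180630f41a4388480b80ac320290da1082d02c0d4184300250761582d82104e0882b82303806c2a84d05e1400d04008c05c2202806e0601e0240680d81c01502404c078330640b4068260540581000c03c07c0500903a0380c81400e0440800801600c0280400c00401000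
/-- The packed table of the generator c. -/
def TB_c : ℕ := 0x377edfdb7ba350ea2deba6b6d6d1dc7a53396f2dcdb9f356c5dd797b69e59de99572864fde7bb722e43c859233ee33dc38bf766abd51acb106aac3b8730d615d71b13726c6c0d8bb36e04c01adb09e52d2d9ef306c7bd9afb58608bb5b3aeaeb5ba172f015c1da1b334eecfbc96eadcda6b4bbc378da4b4568354d9fb3bbbaccd98d09aeec86eab1b62aeb5afba361ac2e0baef5d2f9571add862b6697bc165316d60ab99e76ad5ad758073f668ccf8273256faabba738671a9b54b60d50a97b96f1678cef67aa8e75c0b766a26b9a83b8b23e41a654bf7052aa474876f520a3faf28dedddb94628a513a2b43a86ed6cbb88f6cd04db1b5f2e52ca5d3da7a4eeb5741e9c5a99c938a70cdfda9376f8cd9da5b0b40cd69a77eadf5bdc2d6eeda61fc8d30e616cdc492f765eca977b265d68697389f644b3d7b55efe5ebbdb7babd4a8d1977b3b6b4be9b0f31ec0945ab73d6bfa0b79a4e611a5b8aa6c49ab4f2624b6079a3a2718d3696b83b07eb7c2122e464899117fa436a790b9a65be8394982ae1480ad1acf314a78f5a4758c789471df47eaf8eb60239471d5d422375358d720635483943777564ceacd8a7145b1c4da9b52d6a8bb172d9e25b6b15ade455d2114ebf462c771831c44bbefa9351ea0891a7ed0e9ed3999b4dc4488155b4ce988730fa1be8286b16219e958610c749c2e857a4a14cde84fa3b46d7caf757e115ceafb6b6bfd84b078360c4afd1714a5568a8f724b4440fce9a1e066858236e2045dbacb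6feb3c059b707e01e80b0501e00e7f8019f1ff4b2c2566b39bfba919bb32e6c7e4fc737bf3cd6fbdf75537d91162a6617cef972fc618bf4f1efd3e8b4f75ee6397b57c2e44947ab96de8bd0cb58fefde4079b961e644d795395e4c99caef1b2b654ca73fddfd01ca2ef5e064ea2eee325e4dc98ecdd93b176b92b24bad8a316dd35cac74e92ffe44784ee68e39da3ce71e9cf879ef51cacfc7238f9c7e3d71ae2e78cc070d8f2284eb9d8f81c04e79d0dfa936376f98db1ab79c6962319378ac6ddb185f96e58b26acd4c56daaf9cc699f7025c4c88c6e21c14cc8e134248354c45885a94f0714e270f350c378670bccdbc2d2af7c16c29561a4363af11f9a1c9d91f5d65060cbb0cf6095dfba780ee1ca9674ce2565fd66d7e2925f66697d5b2d346655c9cc4c5956cbdcd5e9bd4cb6f45e7659796f1b28b88c9ee35dc64d2ba3433eae775d90dd4ba4c7ee7c2163d736e64c7637725d73d7b8f715da47d69ad120f4069976b2a05aaa7ec26dbdb6a154ed835926eb6cad8545b5d5da85ced6acc32942fab5112a24da388ec76a359c5e8c5d8b59b7f56598e43c876bc2cbaefb2aba6c9ae8b22b9ec758f5cd63172358b16b8ac4b7db0edee0cc025bf6063a34bac5195b4b686e2d7612d796052d17fb3f645296b5ad0ae0ff56756d81502d66569abd192b22c9ac3092aed5b58b56607347aa90fd612c3580afd85abda9953ea72bba955255d547570fa981ab5a86ad2a13107c6c3955ceaa7aaa69d53954f4dd542a58d8a8a99cfa9faa7e98d309f6a6e95d2953549e92a9952f489cfa9374340d4ed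19a3aa528d2916e6eea81516518a2e87c69a25446882875111b6862b7500d9d9827d6554253dd0652ca35e1a7978aa4a804fe6bf23539c91724a867ca724e2e5e7ba6d9ead0a79a6b9e52fe5f4ca4d33bd33a644c5325304e94bf39a144e384cb62704dc4b336a2bb7477735e0da584aedb93636b6d934a0ec1c754d9a4ab5596093526253736d320d2475b291922c2c48713db24c4483305354bc51cc1633b5e8412d96a4b17f88ed6ec6695ae391b2358291f2532335a527d18c9e46126d3a4974dd24d16ba991c8ae454874ece9d13c849051fd1231444704e3ca218ed1ce2343d8dea1551a1d88510544b2447a8f11d3e4432f893fc4e7ea8562f25a4b9165a722a7d305d1322582a82d06a424191317caf85ee87d0f4434388151443a870bb9001ff5d680a1b4348650bcfd42d3f30a92f25d8467d9a29fd3f893dadb7a3e47ed07b493e0cecf74103db03565c0959a7a6022203d69bdff9e57f0fe4f13f77ec785fa1df7e0fb4ef3eb758775f43e63b8ac8ecab0506748e81ce7c2735ef3d97b6731ec1ca632f59cb1c67a4a71e0a9e79cf2de41c078ee8ce43be788e79de1be37ad3dd13b776c6e58abaf7606e18d28455e6c4d7bab61a939d41ad74a6fdd01c5388cad24335732e51c99a758cccdc836d718d45c39a170a67ccf384334e0cccb816feb85703074b6c21bbb706de650c99926c0695289a45b49f9b136131c68cd12756b8d69ac9896aebf1a9a1442684989b1268cc44da9812fcd05a017d6785ed9cb373506999897865cc10d4af1652c05803256465cd902c85ecbd58c2f330a5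ad8796d35c5b18524047e8f8bb9765aa5d57eafb5fc58cb12082e08197915e2baba8b02ed5d85616e2db5acb957195332ab78a89572acb5caaad329ab45679ea58e7b1651492e252d6214728ab055f142578ae55b2b327e6dd5893d3ac75c9c93726aab89a2ad266ab1552a625ca90e3a95392a813c277288708a1a984f4a4147928282501452863b44ed1c9222406014111f50285d3e12d2584ad14a2f4e08b929250494925341174cc9948991231898d3091132e440fba564aa9508691a23292c8c19b2105512210720c5a10d9252023f91c1b22c88dd1a0fa4643ec8da2c422841070f54443d0f3a071e457d0c2164343b4761861ee594b317f41482472a012dc811018e01c839c731fe3e87ccf898a3f0364fa8dc1fa3f0f78d43cc3b8f40d03c8338f19c3382780dd9ba3b6328ec0c836c318ea8c53a8310e99d139e3046193018472cd61ab354334661bc1962f0c20ba2006d05c9b33602e05b8be2f2640c798d3402d05990b33a670cc1961602bcc88b52282b46d98b31061c5510415029cc19231d0608a794e2f45f0510a12ce27cba17213a5bc718b2162528b516912c3a4750ff2b4564b095b1e22b05595c12a25049950212278a908b14c2945194c1102644614810a5189512924e4f84113c1024e89c1362624bc9907d0f8470419260f44909091e23a1dc8611622a3c07790f21c1c4850e21c24143690320435c6b06c1aa3e47c0671ec368798650ea1d0690730e43ac6f8de1ba1c03786e0c0174330d11b01a82d0d30b816c6785417a324638800fe178600bf09a2ec3c87816c1244d89a13025c57092122240548a4086228210411402344e03d09011c2308f08a1f84708710c2241b8360700cc1d0840601482883b09e1383d84c0961283b0630c41842f8440d61a43402804e0983202a0a0154110570b21600f81d0ac08c0e05305e0b81682c0300f01204007e0f80a0290640e40901506a0781a03101e0380c82b01804c1002502c08405810036068040170220180280d0060280480200e01000800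
/-- The packed table of the generator d. -/
def TB_d : ℕ := 0x37a6f5dddb0b6f6d9dbfbcf6b6e8ce7b9b37eeccd7bab4ae65cf1b4b3be5bddfbc751e51d359237869bc89bb71e693c61b8b276afd6389b65e1fd9baab56632cd382303e8dcd9bcb01601cdd7f744674cbfa0afadf6bd5796f1ddccf97bf67dcfda17eee36c9c3db2b43e90c1d8d32ce57dbb6aed5656ca968f205ccdb1b6f2563dcfb9c372d8fda974ac4ea8b0f75362689be37cb466bdd535b70cd95ba7aeab8e0fb1156f4beb3ab370aecee3dc3782e2ebcdd753ea7696dd3afea66c3dcf52b63e3fcb57ff72603a8950eeedb8d7754f14d37dc199f52d31d49a829369fa454776e5b3b59b46ce511a1fa66866dabc362e83ed7a0b67a7f69dcd13d74c6d5a533b69cd279c785e706a69c9b22bd6d3a5f4ba965cbb2f4732ee22997b3a654c498f8a2e84c1d99aae5e4c2b7b40742cffc6d2da5cdbb9f73e2b8579d01a9e55deb9556ff026c6d8b29251e09cc9b07604a1ccd27b5f49bd5d5beb7500ad9ae35cd68acfa2b45c92d655de4bdd7c19ade4550895921f5b572d6b5af23e769055cf30eb4b0b64f3cd7ebd91e64868ed07a4a3b621d611dec369cc591be46470b37ab73ac9f8d59eae05c1c156c30dc63c2939e72e60abb3ce31461ca16a25adbe96f3be32e4fd45a868fdb2a3d1422744dd3d12e2bc56a5790a22e4db8f3f21ec3ac573db42436bb50d22cc32d2931a714b0c8d0ab48e7fd1f736edd5cabd09ab14298577623d41d8398c708576bdd5e20c414bbd79340e11bf57e7435f7bc5026b05f4be7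04a12cda8096066e56980760edbd84cfcfff3dc688ff1f68c4f9cbd20e40481ce59c5f866da839aa8b530a33419f4663cc517aa5bf67e8f86753de9e51831cbdbcb923e45c897bef772c548c5f8b9e762db3f1071dbcbc719562642879994de53c9b5369f2962aa14f72a3d557775261c3b488d10f263b0c96eba2164975746e425e8c8b51b21ba47dafaf0d5f8c31905cc59ac26e72aa61287f65b1f38eb6d4edf5387b5cf9f1d3837034f67337fb753a6dce33c6f635c06356fcdf5be5616f7591e83cf8e2f35b836f6d8e31b43c2782efddc35ac4f895acb57c4763a2ae246a7873104546acd55aa61d6a4e770ac2fb5f85ad8b4d694e560b58c688e460ade7c1b82da033f94b07a53e06c0aceb00339b897f99bc0ebf903200c0abdb02203c6e74b7c198dd5a6ce65975c9a6b7a69a40dbcd04205d09aa577ea8551aaec96ab32367b5f6eb320b9d74608b2184ec7e6bdc8b952518eb1b63170d8b5588cd19ed6b0fb796d6da53a6d5509b4b0e618c2ec8b09b4368262cc0606d2d7f5a6781696d2525b44bf57dafa60b44eceaf5a25436952f39eed0accaed5d966175515801651ff5927cb641f63f1970fb9b0ae3aff62ac05248e760ab2ae180ab81713126ef29abe57b5b8b6d6d5755ad2c656d745a759a3ac8659f2724449a90b262b549692ab2a11d63abeb264cc37ab50d59631464cc91de39376d5015f53f64efbe1854d7e50ba81c31a053c55b5459dcc2a19af27c6eb29f2aaa674f29951aa70ef59932f65aaad54aa754aea551cd99b14b66b523a514869032a650a694cba652f34267c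4f99cea9ed3f9a2ea397e4cd6c4fddb0514512a217b51063943942be2a16ef9e93294f8f1249d044fe9f93eaa84f6ae65d4fa520a82474fd4e89ce592767f09ba5726f4d93d15fcd257aae95c2b79e0ad5c2aae9d898675ce19d137e6f4dd9b6c012fa5e83e9754f29d538a6d78cd59a8951784d35df17e2ecd14a494527a92522ede16bb5492a2d8226860333264a449912fe5f4bd9872ed212414f09de5a2e58a52cd1ea3c4e2b517fcaf4750f91bca99508d23dad146528a502d093ab3963acc596f6648a2c7b1235ebbfd59af21d43c77e6fee3f3fa8f888a3a4788e488636baf8d887d0f46b50d1a50e3fc62308189a1a8c91712845b8b4f9a2c21842c85623b5d8a6841adb7a68b146253b989312105209424ec622207880f91b8b6d6d68061e43b3fd0e562ab4576b09a62c0859086124223ee7e10dc1b835064fa1f341d05cf8b468267bd9e33881ecd995b3466701a011e866a79974a2a448b9947ae471afd5c5a255cee29cf389710fa5c32e845076958ab055ee11411cf7acf81eaba07a88b5e9a2b7a2734e639a394dd5ba3736e4f19e2a2778670ce11c1380d91b1b9b582ee8dd9ba6bc92dd9bb2370c5dd69b7506ab4d81b2746e89d0ba773e6b8d6b4f69ce50de39772c6a1a39a9720e48d338f3c2778eeb5c3409993299e3a2671c119b6f2de1bb19832e658ca9c538881101b6e404d9db330d6ca640c79bd51485daf98d42262cc6358314d45a818830e6a9a4b4830ad0cc1a38682604c033e2f8cecbf9ed3d67a953330548b10f62b353076d5e2c32e8c898f172634c64b83155bac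40b7308494c1d8316a2d2bdd23b022ceb5cb31652c8be57c1615e8580afa564aa94d7715a2b2bacf29dc3be788aa2de5be548b7ad95b05416a94f5a45391822945e8b8a52c8290b18fe9772ea7e9359763f69a9349fc44cac89f1d82784e8ea9d43a64e5319375584d5512a12f0a7c9893025e4b92c25752ca554a2932544a52627551aa3093a87508498921b4366a00912812409e93c91e23a8f9382722369b4a21432825009fa6722c990cea624c044c8925c4b69692c90f21c4acae24e49a4312424548c90c8424047e4151d9024726091b2354623f87ea331f8530a59cb3c8780f1a231ea88079a1d3ea864780ef1dc851098eb41e8350620b1ce3990420640a388709911c8800ff8dd28e508a29f91b47d86c1f23e07b86a97a2f27a4689e72ae3dcaa9a5348558d19a2342764649d718e758e91383a04d8e70c51883e0e49c838e718600bf3246fcdf0bd3726d85d9b51ec6c4909af1726b0d58b634e334660cb19467c640c6334664590b132864c5718e1784045d1891582acc30a9206610850f11ae5f8be97b14828c6993228c48cb989e2e22708016d2d85ac4c0972d026c4d0992c65884995b1ac578ae890124244ac0ce14e54c461511fe38ca68891f2228a48861403708d11923045c9e9152764509a1331001fc3f12d2581ec9410b24a4248f8790f047041882102444880730e44343d10720c1b8820a81b6294530fb1f41a4340cf0d43d0328f21d43a4740ed1d8184318621ca37c6f0e00be210358d90b63486a0580b23402a88e16a2d0598c31843042784e17c2b45c0b709414c290511602bc2304c0962a82206c11a27c510a107c0fc4e84012a2504b03c11e1781c8501161684388806a158428310ec1d43a05c0fa1f0168700de1dc1582f05c1c41606d052108208640cc19c128600480e82e8320400d82b81e0660e02a01a09011c268450920642181602a0981e83b0260880d8370220d00801c0420c01501801a0a01380b0460280f81d0120380b807028048078040180180280800600800800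
/-- The packed table of the generator e. -/
def TB_e : ℕ := 0x37a6f5dddb8f6f6d9dbfbcf6b6d4dd19cb4a6ebdcb9ab73ec1de5b877165bddfbc751e51d359237869bc89bb73e6eccbd8d319eb0d7da475beb8d73af30f678d55b0f36e06d8d8cb72603c0bb3f0a6cad2b9fb65eccd9baa355e89cc575aea6d0bd379718de3d6bb1ede6b6cc99dedce57dbb9172ae56ca968ed8db0db1b6f2563db296435dee9ce785b675fbcbb7f6f8661ccb9b35a570bcf86edc682bb7a12b1d6dad3aeaad6d5cf37bb3dec8d4d832f2669d27bab37d4dce383762e8acbfb9b3a615b7551745ea7c01acf4661dcd7b4f47e41dc14ce99531d49a8350e9fa458736e5a5a3746ace511a1fa66866daba388b516d7b3b4132e4fd9f53d74c543a818969c53fa734dea9ed2da3b0b56ce09bf3766dcdab2f346ff5edb157f31d5ca98791a84deca11b2730652d0d2f65e4bb9fda4b346bd9672bedde07b7b80737676a892a6545f2c21b135fca2d817c707663b5d8a747626d217ce6e4deb6f7a2f55ebbf58230168d9239eb14620be97d757df6d0f6fb57675d595be46d68ae5282ee5ddd07766ed47c927aca3c6b191f23b23c8c91560ac0c8790d8924257cb3720e41481aeb20242c958c979b07ea9c2399f52e85bef4a6855078b71674ee9ca5b7fe28c628c31822fc5e8bb48f28521d3d48224c488ab15321e4db8f14a874f4c570faade97ab3496a1696a9d51eaad4992f89e4dc9a93d2729b535a6973ae6d5f93342e925c892954aa6557aa355ae1d5082777e07e88bc52234056aacf5b33fde0ad7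01a08c10d0303a06c0cb0102a04c08b2b9f6c9cb1af15dac6cb4c6b5eabbd74a9563f38579a8353ec64e1b1cfa73360bc79646a5e3bc714f27453ea4f49b1be39c6d616c2583cb59672c3d67aaf52d7bd37a4f46db3f5a774eac957db4d94ed25a278cf15e23c3c9f939df3bd894edddac4476510f263b0c97665d6e49afd6d710e1fb693c229e42746e89d0ba073f85f2039772d8fdca392720e3f1f5987ecfd1f55067d0f9df14c9704f81f0d3d7bef79eebdc7b6f6aa4630c5f7e3175f9c5b8b1bcb786eedda1e43b872f2f153676ccd95afc2c93aeb27635874eea9d4ba8c46e99d2ba47dafaf0d619c30d41ce39b734e65cc554c26d22ac362c24d0e3f4639472870560967ccf19dc92957812555de82961e65d86b13622bfc89b1722ee057bbaf292f7b30ba774af0dd092d73e4c56eb9972ee0dc9b8d716e25c28fb2b63fdd8644cc998dd565ecb996c248470899632a652ca20dc19880c9e0bb26656ccd885bf9596b2d5daab536a2d3bccb66f2ad93c960ec1acfd9ea0b66ad6b0e61ac3185b0a61345ed0da05f0c1181d14a24c058046b5ff65978cd59a8bc269aef800ffdff3e67cafc1f63f17f2fb9fbccc668cdd9b3d9670f61ebc748e71ca013357faf91e43c78daebe363f38d2fedfd49fae6b4ab2d64ae358ab0d6080f57aaed5c817599682cf59d0856643786d0d60fb4682d05617b4985b3ce944f2830fbe184327e50ba5fc3197d3c6a34ef9dd0d219c1e7c73b674cea9cf39a72ce49c738a1442684b4c297d2ea594ae952a2542a814fc5c9a516a2c41d83947e8f51da38a594aa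945274668c290610be546a8ca2ca2a8ab025e944d43d10834dc686cca64731a62cc498f30a60cc0a0740a80d009fe9e93ccb99712de5b4b59f93ed394f94e13e136cf79ecdb55fabe57aae95c2b756cad5c2aae55b3ad562ab554aa5542a754aa8e6ccd89af3592e25b4b4965d72564aabadc72536c0a694ca979a133e6724e49b2c125b6b99a9214428650ad05414c85029fd3f27d4f89ed5ccba4808fd3b2754e89cdfc4b2476ff137a6e95c9b1ad30f67529d19ca694acfd69c278550a61042b8cd1ea3cc908ef1da3ac718cf1c237c6e8d51a1923257571ed16a2c456b7d1522844eb656c2d744c8956aa244528bd1746568114227c4e89b13225bbb8af15909c4688aed22144187e8690c21742c855dd447410845083b341cb461ec3a870819022036dc80962ab4576b0960ac046e8c1532a463cb21632c4566a618d319630af18aac36730497940580900d65c0159a7bcf6ade3d6b7574adc5a8b9972ae471ae31c5ad65cee29a8b89710e1dc32e85b6ac958ab03b4e11c1b81700dfdbf37d6f8b85bdae06f4f41e7bce79a724e41c738cda9b4ada6d0f09e0bc077e6fcdf3bc378851dcbb8372ed907b5d762d71ada8436ed65aba236acd55aa3536a4e79ce9ac356d35a634b694e54d3b9368ad11c8b423c2778ee9db4ce998d01d23a2740e79ce39a730e53756e8dcdb9194326dc1b79916d870ce11c1380d91b198e6c26ecdd35e3708d8d89b035e6b8d6b4f69c618d49a868e6991c9835c69190ca3267a8d0f82e2624c4590b2063ec7589b1c636c5d8b3145005f0bc1f62ee5d8f91752f2b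f91aafd5f8bed7d28e60a5a17b2f5512bccb696c2d65a8b4af72cebb8f72ed5d8ba8ad95e2ba570f29dc3be788bf17a396880f39e43c0874f1a31594815649ea58e7b0a694c3ea52cfe9f43e27e9359f33f69a9349fc4d0abcec9d83ae7589f13c27499131a624c29812fa5e3ee9754f29d538a6c9692c4a49452824f524a449428f49492545a475066d8da92624848d22a4448690920a784ee4711ea3c4e28e8a21432825009fa6533e45c8b1152284d0999312604bc972584ae4352a12a2529309390b2144248f91e23a8f88d984470408809001fe7e4bda222fa7e10da2143e8790e0f61f43e0a88f71f23c506a0c41682904a1240e3a8748e81da3b0758e41c6800ff9fe40237c6f0e028e508a28db1f64c8b89461ae358f49e83cc3486a0d32ae540aa9a5348558d19a23427549e9d427674c650c919031c6319a332548cc19732c654e29c417c640c79bd31a6d0929b33642f05d8ba312620c39aa30a334660cb33c674ce19b1682cc618c21802fcc90bd31862cc50ad1702dc5b104152608c09802fe29c530a52a65ccb79722e05d04f8a1140288b709b134264b19622c2598b296412a2504b1602be248489582b4564478ce2a8234608cf29e53845149290528438881b03708d1192304e49c13726c4d4410812224406c90f21c4ac861222424803d10720c414419132241d43a07d0f81ec840700de1dc8186d1fc3f47e06b0d43c87a0f31ea198338641e03bc770630c4394738e60c03887085f1ba2106d05c10a3542c8d01a215c4588e16a314620520a2140580af15c2e42604b15414c590b109011c268ac1561145404314828c2003f13a2781e89c13025c1e0931200ec2a08c0700dc4483510c0d01905d0ec2003f87e05e0b8388790f00b0180730e40a8370440d80a0138690d0094328610bc08c1085b0b407c2c05603a1540d84909e1380c84a02e118148420820501f0240740481c82006c0781980f0620341680c0560580a826026088088100380200d0180160280480e00e0180280400600800800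
/-- The packed table of the generator f. -/
def TB_f : ℕ := 0x377edfde7ba3706a0debbbb76ec2dc7a574b6f2cd5b977366ddd7b87716f1de996f6eedcdb7b6b2b69ed3fb5b42632cbd9df17629d99b37676cfc4da434e693d6d81b60ec3d89bb362e00c09ae30cdfbce5acefe6bed23b1ef35dfd758830fdfecbb9d2fa5ccb7daa3436aac178d2d5653d476932cef0dafb630c6c9b47a6b24d97cfbba775590d9188f5becabd37a3365e4af37c2b9685adbaa7446d5b899f2fbde7ac398b4be82bb570eece73da554b30eaecf1aeea6e6fce18277268da95b9ef2d55c5f6a2a6544c079fb3ae11a9fb4f57e41dbd4bf50d9ba45b6699644d494b728e50c9f4ba89510c7d4334ce48ba162a90e54b4168b2e4ffa3192f15d95a5149e9c4ed9c785e706a69bbb52f5d53ccfb46d3dfac7b35b684cbc45b2e9ddd5d2589ef0eb2d636c2dddafb7967f5ee9dc6d30ec6cbc9752bb305f19592aa5457ad4f29f374a4c05b1a516bfcc781e50ec0b65ac2fb6b9d798b24d4d8d037f64dead9b524b0868a9835d64edd6c6362747e8ed01ad734e8c90f21b10c83d69762e2c829039ef3cdde8f37b31250893f31e4664793d7229a6acadf1e23b5cea635a2eee83cf51aa38cd794baae31e1bc3b37e30570ac734adac5ab677fe5de1ec391663ddac89ba9628666c5b47ed2ea2d3790a6ae43c3512e24443cb10fe86c39d310e31e55aab33c277e948652fb0ac2d85591af54dc915226a855fb035f2c1d358435ce3a58284583345cad831056f7536afda26b65b8b9703343d7182103e06dc6ac9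04a02d67b6f57b3fc88b0958a02403a87652c9bfc8fcfeb343f8c619d9f9d85cbefc338e657df9adfbcd97d71322f664ab6fa1f93f57c4f81ef4eac4b395ede399fd5d2c05cd7ab956e3bd0cb593b2951ea03101e5e3bc74f768342478d95f22d04b4d4b1e73cda36f528163f774eda7b3b3763935d864c9eaeb6cce4a82742a46dd47954962b52073d46695bcfc814ddcfcf773aef5c9b919f945687cd3719329f5592b230df1c3829934f1bfce66fd3a29d37cc6f2e5bce35b74de319d888bb7cea45f8b818aad0b6e9e96d9bb3646e8dc9af4c8c513ca75cccba4d55aa490c2d2def7c586a363a2ae14b6384e7134c984d4da93496a0d1da336168784abc60f67f8399f60dc1507adfe0867581700c7cba773ef6c98beb7e60149c66ecd9bbc726637c9d2cc4828e9e84dd185361ec3560bc77899632ebc1772edb2764b55d924a0b5ac86ebdca8e17259c57d7af252e0c77640c7d8d31e7a37098ab14626c459eb3bb7b18985db961d5166db6a8b76d2d74c06e14165eb0960cbfd915a95f913ad5d46b3cbe61e59d5eebd97d2f4b390f579d2ab34bbe214495d6baacc5969dcffdff38770d63dc4ae75cab92c63585c562e45ae165b07611d2484b5eebfadd80f29a132e05b2d716fd775aab52bb48fa175996856bad502ab4d6e7fb03967ace83eb4ab2d5dab926564be786d0d605d5858755960d54a92afaa03acaa35055dd4ea96b015cab8a8f3c585542800ad95ab3c5614fd5553e5534f6932a7a72e71533c88e6a8a99d1a78ae8635d30a014768e29aa5341dd23d854948de9aa053ea494eb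b9536e8a7d28f51d45de028b515459c7a89a28a1e89d1150ca16873f45a69f93eb3091ce6a48bc94f4ef9e92a19fb40e7dbda4eae993e27b7209e538a709f29b67c39776adb135cf37109aa18b8b8690cd58aae4c33b1aca5f9d339d2f4e46d2b5e70cde92b3452c4cf69f339adc574a935129b8e685171bda5d49c96d2ccd049892e5826c49133523c1a6e2d5dc0c2c6b490a634c596d2d65fcb36e68f91ecb868a9065a23b9652c5a5a3a95edad40a349572a632be48c928d91c7592f2596323045c8b649ba865521213c85452cbd1622b9008923fc7d6731463d46f8dd1b10fb174431b50eaa363887234c688ce86e3323346517d0bb0c8c2fa62a2144ad14d0921142a83d78a0e8a48890544f5db1162520888f11903c44882b4580a0287c8197d9fe8770e962a698607ea17c2e4890ae1441c8327d6101f44d07de0d9f26f47c60bc1675701979411813020f61ed3d47be009e73cccd5749e47f6789fcbee3c2fd95b9e37e2779f6bec57af99f29dd3b6a11c2be3506e10e7a8239af85ef9cc7b8f654cbc7630f59d03c4786715e0a7877ef31529cb3946fce428d38cf08de9bc778eed4a1b9770eddda1b8764ebdd72b255eab1a09f035cea9d4b99730e8dcb29c3546a5cda6f35a69dcab944e8699c936071ae29742db3b2998ea9d24c6665c1a45700df5b41946cc901b2b75324c1cc8b6f6da640cba4a32ad9cc73636c4940c6b5f6ba90d302e348cd59a525a30cd39a6985690d10da9b33606bcbeb40620c3d11b342f2ccd993296505dd95a262f08a0bab26462bf98d97163a5c18cb166245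f0bd96a61a81181b082d0c1582167604c00b1a002e6bf4b0af85eabb8f72162b8bc0b020c2b0bb0ab9a12aab98c496f5b45456f2dc2a0b616b280594815662cd296b2ca6948590b1ca3ac4578b095f94628aae95a13f5666dd339d82766d932936368990e893355a6c555aa8530a5c96a95358a4d4f12b2544c0dd92e52c4a148a9038249d462883b47591c9d347053ce723746c9fd399c72389dd3b11b4e49b88d1a3348460fe13e33e4e4ce9123186693110f4a262127a5c21a95d2aa522189352499b31462cfc99620a8fd1e125248484900fd2e847d1aa1a4323e517a274543dd1297f4163cd1021e3f03f07695e1f486075a1342039cad0f541a39504a0129c5b0702031c85946e9ff3fa370fd9081e4360fb1f336457cf48d33d6354681e83ca780ef8cd282338a18cb3b86809e8c73ae498cf138188750911343a033c601c223c700e48be38870c5e9be3744e8c21831ae4d4c11812fc4bc5b1ab3506945a9a21944585990b226670581073302b8c998f228424851542202a8c39042062ec5d0a61ec2e4c016e1445acbd0a02ec3fcb209d2e454c528981c428cb68962d22546f89f2cc24cb115b1ac3bc4815d1d223cac95615a2704595224638ca508829822843149264508a208328045c648812782f0629370fa2e0429310f64b0948c62044047f0c20ee4748c8b422a1cc561110e24386d8b10dc418548a80f4400788691dc3ec338f81d01947a0da0c6248350f00c23b0750601cc2682f8e11bc1d83205b1b23482c0d40ae344608531982086404f0f21546184d17e29c3f84a16e238240701641185787408a2ac368420802645203e1420f44f08d1360f04b8941220e8248381180d81a88910e1583f0301080bc260321000b43e0510581e02e8750541c8378440501b01306b04a1a0330620461781585c03e1682c8340661400d0540a40642704b07211c0b0430281041f8130760600b81106e0780e80e01a0c4170220420a405827048030100100100700d81202a01c0200f01400c0100900c01400800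
/-- The packed table of the generator g. -/
def TB_g : ℕ := 0x37aef4de7b4f51ed7ddfbbb6d677dc59c337ee1d77a5b4ae63cbdbaf746dcdbfb776f6e0db7bb722657de19233dea6de59cf33ecbc4dac757e28da186f0ce35c1fb0302e04c078c3006c6cdb7f2fde86dcf9f7585edbd38473067abb3757676b9d9ba22e1e85c3b6f74e5bbd15b52d669bde390ad2da3ca795acfea9d49a6ace63ed05b9b72e71c69746ea614b1562704d77c17a9ef76aeb99af356594ad1a5f16669acf56b5d679dabad33e553dd9616a856dda55374a6eadd35335fe64cbf64340548da38eea266cdc976aa8eb5cd7b8f13d3cca393b27e4cdb1a7b28522d3f8632de55cb396b25658c97936cded6c2d422826d9a47a8a9f52ba61a627ad59ccd41a755a89d139b64693b75382baec2aab3666b681c577e265ecccbbb3e784c3b9587e60dd0c452f355cbbd952eb64e529d391e70e90a5b5535b4abd8f7cabcd36d176ff46e0194728b62ec4d87287046c1a532764debed7b26a6be2ab8125ee7dd3b1183a554a8921a275c48c91f22b5bd8b90f2b2b8574b715825b5db93f59a405c2bc198b59ca6b931e359691be91db49620beb1cac0687ae388eebc6ca191aa40c82d5b772b65f7c1518f555b0d518ce315e392b6ba72cc0a4d49e2adbc9676da32ea5b3d13a25e3899d67750c48d4147e23d21d3b6aed3699c932ca224f6b2f0ea1b684a8734a7966aa9d0be6fcbfbd1a3f475f38550a73b42593308aafdcda6907a4a419a4906306c16d192c718de4825052e5de58191c73a5c1ad3216b5e83cff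77aae4049b500e0fde2b0300603d657ff9fb1e5567f756317e12cf0fcf30e757e163f3966ea830c9f6e687f33b6a0665b26fd2a5d458bd9069ce5c8b316e9ebe07bd831ebd7fa3546e88e3fa30f4309bcdc8144effc4cb656cde5d7bc87952d03c6b44efe7fd00a654cdde52f9a940e8ad0ea54ec298c43a1f452205c77c8f75d2e467498e9e6645a2ced9ced1ca3af85e939579cf5a7c4f97236631eb8f9df645f56259e6ffaa34c89998e70be379c98dadace76fedfb0ae32b1b345bcb776ed58f17372bf38b5b75179a764a6f4cd6e969e684ebc52e1dac4ec8df2e25ab53c48d4b10db4b190b5a861ec39869c04c669578662cafb5f66abb3569690fe0ade6c217c6325f067b7623db3ac0f81b01406bbecdeff336bfb7eac1b34bed1d6dbd7d908cfd985efbd6cb9ccdec65b7aa15b2cbcf03eb549364f712e2ddd64cfea3433c94b1b9905d663f74a4b31e84373ab731b98f1ea34dc875b71a36c7d8cd19ed6ca9b7d6e62a30c6134fdb2c53a74c1a9db6a60af2ad8c618b8d21884456c76a97d528b530ed7c5a4b4310628599a20bce2350d95cbc17aaeb89565a1cc385d3655f3b8c717529733f1b1ce2a5f38291361ec341c5c4b82c22df80560a39b12ac35f96d42882eb62be57a8375e256d725a55ce042cf90cb39fed6f812b3205c11abb28164d64ac508eaf2c5ab73ba06ac3aaf1faa3b477d6fa185542aa4aee1854f5ceaeaa4ac27ef3c5f13f686aaf95ed0b7c6fa67f5387b94de853df554aa5e3aa4a6b3e9deaa253f3f5d952e5373ee96505a4b1594d2987b348149b9f740ee14ea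91a3ca41ead196debdd45bc2747409dabae50ef457a512632ed235ab65e4e6dcc27c6529ee84d0776ea293cbc3788a3e80aab7549ce46ba94e4a827e3924e2e527ba6d9e89b1c34348670b972269994e35332636af0b1ad4b99c7389b425f4bad766ea599b936da74cf4af36181254777355a136c6d716127b7d6be96e2ea4c89e9fdaab606cebf1bd2d55aee05224c97072c1b0a4198930972cbd47cdd5a22424792dd1dc527f0b511d34d5fedb55630f9248ce53c7c6452916523093d27117c98656ca11649145723a45c8866689dd3b329071fd923255a2ced10c798ef1d18b21e8e0875d7a85438c75432244370816ec51680c0d26c6042afd62fa5542716a2bb0061cdc5073046868697635e4131350444977481e1ebb1884ead0843e5de818ff2fd878baa1ba6b7df0c5a8b894c309cfbc268487d988ad63e7074f941a6b6b71ae3463df04d919ed82103965c0a59ace602a203d68ba002bc7f8fb15cab856af99f2ac47e4fb960ac03baeb15f9e13c0ac8ec2b055e74540b41738f6ded29739a72ce53d8510f50e33967a69dde09c479ef24e03c8550a30e41be78a6f5e03be73c848dca96772e88dc2a3766c558c2845066c156a056c492cd6ba874c6f1d09aa53c9b8d71a8734e5dc99a734c9d9c838e5d07e9c41f133ee14ce99a70890d71a466f8655bda3f6cc64dbc1926e6645843704a6924cb98f6d263986b644fc6352921741e980c4b594c4d31aa1864b8d3cc2b4b692d14eb1d339e7390c97c67c888f4b3866ab18bc33165e894bc9766545d5153143dc8c990ac82e0c718d317626b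f91aa034905a58596860ea38b3af148ec04ff9622d65857daf95ecbb94015c430808b015841abb4fd9563fa9a8cc9525c2b78b89505b6b653414d5a688d6814b58e799189722a27a8ef9463b67795a2b33ca7895b9423c67689eab136a8e49c1b34704d1571af46e8d95392e54ca94d5a95258a8495a9c3744c094a99250a514927a24e70d46a8936e494eb9213a857c8fa823a09d53e91c3929e08da744e09bcd1119230694aa9164ce44d3298a316990fc9874a24392f10d4b49612b10c4a093925108336671229053309011e93b2744d89a96e2944cc7d2342e64c914a2d1ee8a11314e2f67a0faa1f1e6600ae8ec4163ad0b214422564730ee1ca83105201364380b6a041c8374b32001b87f0d09121b27e0f39f41aa5d0f80f83d85fc7a0d819c7909f9401987706594428a324ec92430860c629d5240608c09d22fc5e88e9c217e7305f1c738a2f4e09bf3762ecdb13c1c62e4da1373622d8989ac3522d4d21a31686808490a33c550830af15c658ca19015a4508a98c154444c410420631c630f11a4310518f51825f45014c2ee3587e1492de274800e112e5904b16c2d43784a099126594b195b2462407815e11e3a8ad157166230a99481143d8a78a119e3fc4f08b1a651c419432822089f0ba2044049c8fe16e1f07d87b25e4b49507a24c320910771864788d1171b62ac3907122043c8586e16441c548a81021a84f87e1fa19c6a0f914a34479065122188740611de3b4300e91ce17c4d8e21be2102e0da1a035c340850cc16c4408e19a3285387809c290268c21802f0250801701d83784708c2c4580450ea2b03685e0a02981f08914421c4e03d0782684c0951241b02a08d10c1041f8550700cc2c05d0a612c1706b05a1fc3e82c0a41e42482a0e81cc380440760982d0250b21a4320630860d81885704e0e81901d0ac0d41c8300321442784c0561201201406e1082002903e0700d8150460401a0220420681781802e02c1002802203c0981e0240380680c02c0240500800e0140300400600800001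

/-- The coset table. -/
def tab : Gen → ℕ → ℕ
  | Gen.a, i => lk TB_a 11 i
  | Gen.b, i => lk TB_b 11 i
  | Gen.c, i => lk TB_c 11 i
  | Gen.d, i => lk TB_d 11 i
  | Gen.e, i => lk TB_e 11 i
  | Gen.f, i => lk TB_f 11 i
  | Gen.g, i => lk TB_g 11 i

/-- The generator with a given number. -/
def genOf : ℕ → Gen
  | 1 => Gen.b
  | 2 => Gen.c
  | 3 => Gen.d
  | 4 => Gen.e
  | 5 => Gen.f
  | 6 => Gen.g
  | _ => Gen.a

/-- Packed parents of a spanning tree of the table. -/
def PAR : ℕ := 0x377ededb1b0750ea0d41a6b4c677ce39c337e6fcd59ab35663cbd97b2f659cad9572864fc9b92322643c858f71e632c618bf17629c4d89b1061fc3b86f0ce15c1f81b02e04c0780b00600c017f2fddfbbeb7cef6decbd3796f1ddcbb3756ea5cfb9f72ee1dc1b7d6f6de5bbb776ead55a6b4b692d25a3b45682cfd9fb3b672ccd97b29642c858fb1b62ac4d89b0f61ac2d77aef5d2b9570adb5b6b656bad159eb1d60ab956aad55aab3562ab553aa754aa854fa9d536a6d4da9b532a654ca9552aa5548a91516a2544a8950ea1d42a835029cd37a654be97d2aa4548690d20a3f4768dd1ba3346289510a1f4328650ca1342282504a093fe7f4fb9f33d67a4ee9db3b2754e99c738a704df9bb3766e4d99b33626b4d69a733a65ccb99732e64cc398730e60cc19832f25e4bb9772ea5d4ba9732da5a4b39652ba564ab9572aa544a895129e53ca494728a514a2945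28650ca19432764dc9b93726a4d49a93525e4b49692b24a4949192123e4748c91722a4548990f21e4348690b21642483905206404809011fe3ec7c8f31e23c4788ef1da3b4768eb1ca394718e31be3746c8d71aa3546a8d31a233c668c918e31c638c71863045e8bb1722dc5a8af15a2ac558ab14e28c4e89b13625c4b89712a24c4889112223c4788d116224438810fe1dc398730e21b43686b0d219c328610be17c2d8550aa14c2984f09e1342584b08a114218410760e4198330620c41682d0560a41382504207c0f8190320640c8170260440880f01a02c0480900e01c0380500600c017feffdff3fc7f6fe9fcbf87ecfcdf9bf37e0fc1f83f07defbdf6bed7d6fa5f43e87cef95f2be27c2f81ef3de7bcf75edbdb7b4f61ebbd77aaf55e8bd07a0f3de73cd79af35e5bcb794f29e4bc778cf19e33c5780efddfbbf77cef5de3bc774ed9dabb3762ec1d83b0760eb5d6bad756ea9d2ba5748e91d239f73ce79ceb9d73ae71cb39572ae51c9b91720e3dc7b8e718e2dc4b8770ce19c1b82702e05bfb7f6fcdf9bf37c6f8df1bcb796f2de1bc3776ecdd9b9b726e4dc9b736e6d8da9b2b646c8d8daf35a6b4d65ac3576aed55aa3536a6d49a93526a2d45a83506a0d39a6b4c694d29a5349690d1da3344686d0da1b4067ecfd9f33e67acf19db3a674ce99d339672cdd9bb3666ccd99ab34668cd199b32662cc59833065ecb99732e65acb596b2c658cb195b2864ec9d93b2664ac9592323644c859032063ec7d8fb1e63cc798eb1b636c6d8d319630c598ab14626c458830f61ec3185b0b612c2584b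0860ec198330660ac1582303604bfd7f2fd5f8bed7d2fa5f4be57c2f85eebd97aaf45e8bcd79af35e6bbd762eb5d6ba9752ea5d2ba574ae85d0b9d732e65cab91722e35c4b89712e15c2b81702df5beb7d6f2dd5b8b6d6d2da5b2b616c2d65aab516a2d35a4b49682cf59eb39672ce59ab31662cc596b2964ac9592b2163ac558ab15622c3586b0d60ac1580af95f2bd578aed5dabb576ae95cab8570ae15b2b556aad15a2b3560ab5552aa552aa554aa754ea9d532a4548a89512a153ea7d4fa9c536a6d4da9a534a694ca9852ea5149a93526a4949291522a414828f51ca3545a8b514a294528950ea1d43a8750ca1542a825009f93ea7c4f89ed3da7b4f49e93ca794f29e13ba764ea9cd39a734e49c938a704e09b536a6d4d89b135a6b4d69a9352694d29a5332634c29853025f4be97d2f25e4ba9752d2594b29652c2584ae95d2aa544a895129a534a694127a4f49c93926a4c49892d25a4b49092123a4748e91922244486909212414829052023f47c8f91ea3d4788f11da3b4768ed1d23a4748e91b2344688cd19a334648c918a304608c117a2f45c8b51622c4568ad15a2a45289d13a2744a8911222444688910a214428810fa1e43c8750ea1d4388710e21c43686d0da1a4328610ba1642a8550aa1442684d0921142083d0720e41c82d0520a4128250420841081d03a0740e81501a02404800ff1fe3fc7f8fe9fc3f67e8fd1fa3f27e0fb9f73ec7d4fa9f43e67ccf91f23e47c4f89f13de7bcf71ed3da7b4f61eb3d47a4f41e73cc798f29e43c6788f11e23c2784f09df3be778ef1de3ba7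74ee9dc3b6764ec1d83aa744e79ce39a734e69cc39872ce51ca39471ce31c638c714e29c4388704e01c03806fcdf9be37c6f4de9bc3786ecdc9b93726e4dc1b83706e0dc1b63686c0d79af35c6b8d69ad35a6b0d59aa3546a4d49a835069cd39a734c698d31a634868cd11a133e67cce99a334664cc99932c654ca99432864cc9992324644c8991322640c818f31e638c718e31c634c698d31a62cc4989312620c398630c618c298530a614c19812fc5f8be97c2f85ecbd97a2f25e4bc1782f05dcbb9762ec5d4ba9752e85ccb91712e05c0b81702de5acb596a2d45a4b49682d05a0b39672ce59cb19622c4584b09612c2578ae95c2b8570ad1582b0560ab9562aa554a99522a4544a89502a0540a814d29a534a614b29652ca4948290520a394628a514a1942284504a013f27e4f89e93d2764e89c13626a4d09a1332664cc9792e25c4b89692d2584b09592b2544a8949292504a09412824e49c9392724c494921212404808f91f23e4788e91c2384708d91b23646c8d1192304608c11622c44c899122244448810f21e4388710d21a4348690c218430861082104208310520a414829022023f87f0fd1f83ec7d0fa1f43e47c8f81ee3dc7b8f51e83cc798f31e43b8768ec1d83ac758eb1d639c730e61ca394728e21c2380700e01be3746e8dd1b83706e0da1b23606c0d81aa3546a0d31a6344680d019c338670cd198330658cb196324648c718e318628c5188310620c3184304600c017e2fc5f0be17c2f45e8bd17a2ec5d8ba1742e45c8b916e2d85b0b616c2d45a8b51682d0598b31642c4580a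f15c2b8570ae15a2b4568ab1542a8550a915029c538a614a290518a3144284500a014027c4f09d13a2704c89812e25c4b09612c2544a09412624c498921222404809011e23c4788e11a2304588b1142284488811021c4308610a21041883106208410811022044007f0fa1f03e07b0f61ec3d87a0f41e83c0770ee1dc3b0750e81cc390710e21c43786e0dc1b83686c0d61a8350690d019c338670cc194328640c6188310610c2184300600c017c2f85f0be1742e05b0b61642c0580ae15c2a0530a61482884f09c1382684d09a12c2504a0941242404708c1182304508a114218420800fc1f03e07c0f41e83d0780f01e03c0780e81c8380700d81a83506a0cc188300600bc1702e05a0b41682c0580b01582a0540a8150290500981302504a0941282504608c1082103e07c0f81d03806c0d01a0320640c81902e05c0b0140280500a013026048090110220400780e01a0340680c01802c0580b016028050090100200400700e0180200400600c0100200400400000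
/-- Packed generators of a spanning tree of the table. -/
def PGN : ℕ := 0x1125528e399b16c822922f245d6adcd35b2d76c755b5241cdbda32b2ba628254e4b24559134996964acad1c625a264e1713ac598ace1356c944b48aa8a4d02ad7593b20582d207169aa8a07243560e8b339e5904ca34636a14ddac5ab3b33aa191141c0e38acd140d67204cba23995920d65902499ab0414852b20a0a7224e43120d54d5734d358dad140e19024e196341c62d500d112e791190cd5d4d3a8d59ab1b1948836b2ab47045205e46b451a813902b1b65bab362671c81a3208626d913a8b44d66ba8d42a14ec8e43568526b27336e791a3204dc85369b11a29d26ac339e44e409a74399c8640ac81aeb973c8e40e42966db63229c89390c48359a72171b4d5ab34eb58c820b1b53a8538e40d270b89b41d2e7913902f204e40ea2955a3aa1ad45a281a6ba8d42e281c89c8540e47214e38da75b0dd62b5956e791a32049b90c6d96262a14640ead5429c4e429c4eaec070a4eb61b2a0b3546409d69c758b56553a2656431b73c89b903504f206e3aad59d43469c85c6d3752a9c759ab08d07564935047034dc75559cd6429a8dacd350a82350c81a713aaa853b227214e27214e3ad8758b5681391a3204eb4e362d5924acb655038538ebac34e3ac5ab2f204eb3561a42e689a3214e3a968dd5828538eb3562e3ab24ea4eaaea4e356ac640ea0d66e44a04d472af559540e429c75a71d62d5939e47204eb3562ed4e79204d38eb16ac640eacb485272149d4235942e3ab371d513aa3abd41d59c0d26ac85c7539d6b2a812a9c759ab19a3903ab3a8c9026ed59c81d53485270a7528d4c5c75571d593abd613aac0d46b475195409b8eace40ea89376a8ead13853aa35cb8eaf59ac2b566bb0d24dc754756aed5eb0da75762d6315d96c28d571d5eb1eb01baeb19b21b1226bd6086eb1571578db0c5ab0c9b132ab46a070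

/-- The cosets, in chunks. -/
def Qc : List (List Q) := [
  [N0, N1, N2, N3, N4, N5, N6, N7, N9, N10, N11, N12, N13, N14, N15, N16, N17, N18, N19, N20, N21, N22, N23, N24, N25, N26, N27, N28, N29, N30, N31, N33, N34, N36, N37, N38, N39, N40, N41, N42, N43, N44, N45, N46, N47, N48, N49, N50, N51, N52, N53, N54, N55, N57, N58, N59, N60, N61, N63, N64, N65, N66, N67, N68],
  [N69, N70, N71, N72, N73, N74, N75, N76, N77, N78, N80, N81, N82, N83, N84, N85, N86, N87, N88, N89, N90, N91, N95, N99, N101, N102, N103, N105, N106, N108, N113, N114, N115, N116, N117, N118, N119, N120, N121, N122, N123, N124, N125, N127, N128, N129, N131, N132, N133, N134, N135, N136, N137, N138, N139, N145, N146, N147, N148, N150, N151, N152, N153, N154],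
  [N155, N159, N160, N161, N162, N163, N180, N181, N185, N186, N187, N192, N193, N195, N197, N208, N210, N211, N212, N213, N214, N215, N216, N217, N218, N219, N220, N222, N224, N226, N227, N228, N229, N230, N231, N232, N234, N235, N236, N239, N240, N241, N247, N248, N249, N250, N252, N253, N254, N255, N256, N257, N258, N259, N275, N276, N277, N278, N280, N281, N282, N286, N287, N288],
  [N289, N290, N291, N292, N296, N297, N303, N304, N305, N307, N308, N309, N310, N311, N312, N314, N353, N354, N356, N362, N363, N364, N365, N366, N377, N378, N380, N382, N384, N411, N412, N413, N417, N418, N419, N420, N421, N422, N423, N424, N425, N426, N428, N429, N430, N431, N432, N433, N435, N436, N445, N448, N449, N450, N452, N454, N455, N456, N457, N459, N460, N461, N464, N465],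
  [N467, N472, N473, N475, N476, N491, N492, N493, N494, N496, N497, N498, N502, N503, N504, N505, N506, N507, N508, N509, N510, N511, N514, N515, N516, N517, N518, N554, N555, N556, N557, N558, N560, N561, N562, N566, N567, N569, N570, N578, N579, N580, N581, N582, N583, N584, N585, N586, N587, N588, N590, N592, N593, N599, N600, N601, N603, N604, N619, N621, N622, N627, N628, N629],
  [N630, N631, N632, N633, N634, N635, N636, N637, N727, N728, N730, N743, N744, N745, N746, N747, N777, N778, N779, N781, N783, N791, N792, N793, N848, N849, N850, N853, N860, N861, N862, N863, N864, N871, N872, N873, N874, N875, N877, N885, N886, N887, N888, N889, N890, N892, N893, N916, N922, N923, N924, N925, N927, N935, N936, N937, N938, N939, N940, N941, N942, N943, N947, N948],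
  [N950, N955, N956, N972, N974, N1008, N1009, N1010, N1011, N1012, N1014, N1015, N1016, N1029, N1030, N1031, N1032, N1033, N1034, N1035, N1036, N1037, N1038, N1039, N1040, N1041, N1042, N1043, N1044, N1047, N1048, N1058, N1059, N1060, N1061, N1062, N1063, N1064, N1136, N1137, N1138, N1139, N1140, N1141, N1142, N1143, N1144, N1145, N1146, N1147, N1151, N1152, N1155, N1167, N1170, N1171, N1178, N1179, N1180, N1181, N1182, N1183, N1184, N1185],
  [N1186, N1187, N1188, N1189, N1190, N1191, N1192, N1193, N1194, N1195, N1196, N1197, N1198, N1199, N1208, N1209, N1210, N1212, N1213, N1228, N1231, N1236, N1260, N1264, N1269, N1271, N1272, N1274, N1275, N1277, N1278, N1279, N1280, N1282, N1284, N1285, N1288, N1289, N1452, N1453, N1454, N1456, N1484, N1485, N1486, N1487, N1488, N1489, N1490, N1524, N1525, N1526, N1527, N1528, N1530, N1532, N1533, N1536, N1550, N1551, N1553, N1554, N1669, N1670],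
  [N1671, N1674, N1692, N1693, N1694, N1695, N1696, N1711, N1712, N1713, N1714, N1715, N1716, N1718, N1739, N1740, N1741, N1742, N1743, N1744, N1745, N1746, N1747, N1748, N1749, N1750, N1751, N1809, N1822, N1823, N1824, N1825, N1826, N1827, N1829, N1834, N1851, N1852, N1853, N1854, N1855, N1856, N1857, N1858, N1859, N1860, N1861, N1863, N1864, N1865, N1866, N1868, N1869, N1870, N1878, N1879, N1895, N1934, N1990, N1991, N1992, N1993, N1994, N1995],
  [N1996, N1997, N1998, N1999, N2000, N2001, N2007, N2020, N2021, N2022, N2023, N2024, N2025, N2026, N2027, N2028, N2029, N2030, N2031, N2032, N2033, N2034, N2035, N2036, N2037, N2038, N2039, N2040, N2041, N2042, N2043, N2044, N2048, N2049, N2050, N2052, N2053, N2063, N2076, N2078, N2080, N2083, N2084, N2085, N2104, N2105, N2106, N2107, N2108, N2109, N2110, N2112, N2113, N2114, N2115, N2116, N2117, N2118, N2119, N2120, N2121, N2122, N2123, N2124],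
  [N2125, N2126, N2128, N2133, N2136, N2137, N2138, N2139, N2140, N2141, N2142, N2143, N2144, N2145, N2147, N2149, N2150, N2152, N2153, N2154, N2155, N2156, N2157, N2158, N2159, N2160, N2161, N2165, N2166, N2167, N2168, N2169, N2170, N2171, N2172, N2177, N2178, N2179, N2180, N2181, N2182, N2183, N2184, N2185, N2193, N2195, N2197, N2205, N2208, N2210, N2212, N2217, N2219, N2223, N2224, N2225, N2226, N2227, N2228, N2229, N2230, N2233, N2234, N2235],
  [N2239, N2240, N2241, N2243, N2246, N2247, N2249, N2250, N2252, N2253, N2254, N2256, N2258, N2260, N2261, N2262, N2263, N2264, N2265, N2266, N2267, N2268, N2269, N2271, N2272, N2273, N2274, N2275, N2276, N2277, N2278, N2279, N2280, N2281, N2282, N2283, N2284, N2285, N2286, N2288, N2290, N2291, N2292, N2293, N2294, N2295, N2296, N2297, N2298, N2300, N2302, N2304, N2305, N2306, N2307, N2308, N2309, N2310, N2311, N2312, N2313, N2314, N2315, N2316],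
  [N2317, N2318, N2320, N2322, N2325, N2326, N2328, N2329, N2331, N2332, N2333, N2334, N2335, N2337, N2338, N2339, N2340, N2341, N2342, N2343, N2344, N2345, N2346, N2347, N2348, N2349, N2350, N2351, N2352, N2353, N2354, N2355, N2356, N2357, N2358, N2359, N2360, N2361, N2362, N2364, N2366, N2367, N2368, N2371, N2372, N2373, N2374, N2375, N2376, N2377, N2378, N2380, N2381, N2382, N2383, N2384, N2385, N2386, N2387, N2388, N2389, N2390, N2391, N2392],
  [N2393, N2394, N2402, N2403, N2404, N2405, N2406, N2407, N2408, N2409, N2410, N2411, N2412, N2413, N2414, N2415, N2416, N2417, N2418, N2419, N2420, N2421, N2422, N2423, N2424, N2425, N2426, N2427, N2428, N2430, N2432, N2433, N2437, N2438, N2439, N2441, N2442, N2443, N2445, N2446, N2447, N2448, N2449, N2453, N2454, N2455, N2457, N2458, N2459, N2460, N2462, N2463, N2464, N2465, N2466, N2467, N2468, N2469, N2474, N2475, N2476, N2477, N2478, N2479],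
  [N2480, N2488, N2489, N2490, N2492, N2496, N2509, N2510, N2511, N2512, N2514, N2515, N2516, N2517, N2521, N2523, N2526, N2527, N2528, N2533, N2534, N2536, N2538, N2539, N2542, N2543, N2544, N2547, N2548, N2549, N2550, N2551, N2552, N2553, N2554, N2556, N2557, N2558, N2559, N2560, N2561, N2562, N2564, N2566, N2572, N2583, N2584, N2587, N2589, N2590, N2591, N2592, N2596, N2597, N2598, N2599, N2601, N2602, N2604, N2610, N2615, N2617, N2618, N2621],
  [N2622, N2623, N2624, N2625, N2626, N2627, N2628, N2634, N2635, N2636, N2637, N2638, N2639, N2645, N2646, N2647, N2648, N2653, N2654, N2655, N2658, N2660, N2661, N2677, N2678, N2680, N2681, N2682, N2683, N2685, N2686, N2687, N2688, N2689, N2711, N2730, N2744, N2748, N2749, N2756, N2757, N2759, N2762, N2763, N2764, N2766, N2767, N2768, N2769, N2770, N2771, N2772, N2778, N2780, N2781, N2788, N2791, N2793, N2798, N2799, N2800, N2805, N2806, N2807],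
  [N2808, N2816, N2819, N2820, N2821, N2822, N2823, N2828, N2830, N2831, N2832, N2834, N2835, N2836, N2837, N2838, N2839, N2840, N2842, N2843, N2844, N2845, N2847, N2849, N2851, N2856, N2857, N2858, N2859, N2860, N2861, N2862, N2864, N2866, N2867, N2868, N2869, N2870, N2871, N2872, N2873, N2874, N2875, N2876, N2877, N2878, N2879, N2881, N2883, N2884, N2888, N2893, N2894, N2896, N2897, N2898, N2899, N2900, N2901, N2903, N2904, N2905, N2908, N2922],
  [N2923, N2924, N2925, N2926, N2928, N2930, N2933, N2934, N2936, N2937, N2939, N2940, N2941, N2942, N2943, N2945, N2946, N2947, N2948, N2954, N2958, N2964, N2965, N2966, N2969, N2970, N2971, N2972, N2976, N2977, N2978, N2979, N2982, N2983, N2984, N2992, N2993, N2994, N2996, N2999, N3001, N3003, N3005, N3007, N3010, N3012, N3013, N3014, N3015, N3017, N3018, N3019, N3020, N3021, N3022, N3023, N3024, N3025, N3026, N3027, N3029, N3030, N3032, N3033],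
  [N3035, N3039, N3040, N3041, N3046, N3054, N3055, N3056, N3057, N3058, N3059, N3061, N3062, N3063, N3064, N3065, N3067, N3068, N3069, N3070, N3071, N3076, N3077, N3078, N3079, N3080, N3081, N3082, N3083, N3084, N3085, N3087, N3088, N3089, N3090, N3091, N3092, N3093, N3095, N3096, N3097, N3098, N3099, N3100, N3101, N3121, N3122, N3123, N3125, N3127, N3129, N3131, N3134, N3135, N3136, N3137, N3140, N3141, N3142, N3144, N3145, N3146, N3147, N3149],
  [N3150, N3151, N3152, N3153, N3154, N3155, N3157, N3159, N3160, N3162, N3163, N3164, N3165, N3181, N3199, N3201, N3202, N3203, N3214, N3223, N3230, N3231, N3240, N3241, N3242, N3243, N3249, N3250, N3252, N3253, N3254, N3255, N3256, N3257, N3273, N3274, N3275, N3277, N3278, N3279, N3280, N3281, N3298, N3299, N3301, N3302, N3326, N3327, N3329, N3332, N3339, N3342, N3349, N3355, N3356, N3363, N3366, N3379, N3381, N3385, N3386, N3389, N3408, N3410],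
  [N3411, N3412, N3413, N3415, N3416, N3428, N3429, N3431, N3432, N3434, N3446, N3449, N3479, N3480, N3481, N3492, N3493, N3494, N3495, N3496, N3501, N3510, N3513, N3524, N3541, N3542, N3546, N3548, N3553, N3554, N3555, N3556, N3565, N3566, N3567, N3568, N3581, N3584, N3586, N3587, N3589, N3590, N3605, N3606, N3607, N3608, N3610, N3612, N3613, N3626, N3640, N3641, N3678, N3680, N3681, N3687, N3688, N3689, N3695, N3698, N3699, N3700, N3704, N3705],
  [N3751, N3811, N3812, N3823, N3825, N3826, N3829, N3837, N3841, N3842, N3844, N3845, N3846, N3847, N3848, N3849, N3852, N3853, N3854, N3868, N3884, N3886, N3892, N3894, N3896, N3906, N3908, N3909, N3919, N3920, N3921, N3924, N3927, N3928, N3929, N3930, N3931, N3932, N3933, N3936, N3942, N3943, N3944, N3950, N3953, N3954, N3955, N3956, N3961, N3962, N3964, N3970, N3971, N3972, N3974, N3978, N3979, N3985, N3986, N3994, N3996, N3999, N4000, N4009],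
  [N4012, N4016, N4017, N4021, N4024, N4025, N4026, N4027, N4030, N4031, N4033, N4034, N4037, N4039, N4040, N4043, N4046, N4053, N4054, N4056, N4057, N4058, N4059, N4061, N4062, N4068, N4100, N4102, N4108, N4112, N4116, N4122, N4123, N4124, N4127, N4128, N4129, N4130, N4134, N4135, N4136, N4137, N4140, N4141, N4142, N4150, N4166, N4183, N4184, N4185, N4187, N4189, N4200, N4201, N4212, N4215, N4218, N4226, N4228, N4243, N4244, N4245, N4246, N4247],
  [N4248, N4251, N4254, N4258, N4260, N4261, N4262, N4266, N4273, N4277, N4278, N4284, N4285, N4288, N4289, N4294, N4297, N4298, N4299, N4300, N4301, N4302, N4303, N4304, N4310, N4311, N4315, N4317, N4318, N4319, N4325, N4328, N4330, N4341, N4360, N4361, N4363, N4364, N4366, N4367, N4369, N4372, N4375, N4377, N4382, N4385, N4386, N4392, N4393, N4395, N4396, N4404, N4407, N4408, N4410, N4415, N4416, N4417, N4418, N4419, N4420, N4421, N4425, N4433],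
  [N4434, N4435, N4436, N4437, N4438, N4439, N4440, N4441, N4442, N4447, N4448, N4449, N4450, N4451, N4454, N4455, N4456, N4457, N4493, N4507, N4512, N4518, N4521, N4530, N4532, N4533, N4534, N4539, N4540, N4541, N4542, N4554, N4555, N4556, N4558, N4559, N4560, N4576, N4579, N4580, N4581, N4582, N4638, N4690, N4724, N4725, N4728, N4730, N4731, N4754, N4757, N4758, N4761, N4763, N4801, N4802, N4819, N4859, N4862, N4863, N4896, N4929, N4940, N4987],
  [N4999, N5052, N5055, N5067, N5068, N5070, N5108, N5112, N5208, N5209, N5210, N5236, N5239, N5244, N5342, N5344, N5356, N5357, N5371, N5375, N5394, N5396, N5397, N5400, N5476, N5492, N5493, N5554, N5660, N5664, N5796, N5912, N5913, N5930, N5931, N5934, N5935, N5936, N5938, N5969, N5970, N5972, N5973, N5974, N5975, N5976, N5978, N5979, N5980, N5981, N5982, N5983, N5985, N5989, N5991, N6021, N6022, N6061, N6067, N6087, N6089, N6090, N6091, N6109],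
  [N6126, N6134, N6144, N6155, N6171, N6175, N6179, N6180, N6197, N6203, N6215, N6225, N6226, N6322, N6324, N6325, N6333, N6334, N6337, N6345, N6352, N6356, N6357, N6376, N6381, N6395, N6472, N6481, N6499, N6500, N6502, N6510, N6513, N6514, N6515, N6517, N6527, N6538, N6717, N6748, N6751, N6753, N6756, N6757, N6768, N6784, N6835, N6857, N6858, N6875, N6877, N6895, N6906, N6968, N6974, N6990, N7011, N7015, N7048, N7052, N7076, N7077, N7079, N7103],
  [N7105, N7106, N7108, N7112, N7114, N7115, N7116, N7144, N7259, N7294, N7308, N7310, N7338, N7341, N7390, N7392, N7398, N7688, N7691, N7693, N7752, N8022, N8083, N8293, N8320, N8326, N8575, N8632, N8802, N8832, N8920, N8922, N9079, N9638, N9639, N9641, N9894, N9948, N9949, N9950, N9961, N9962, N9967, N9968, N10036, N10603, N10746, N10832, N10833, N10835, N11745, N11948, N11949, N11950]]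

/-- The cosets. -/
def Qf (i : ℕ) : Q := (Qc.getD (i / 64) []).getD (i % 64) N0

theorem cl_a_0 : ∀ r, r < 64 → sm ga (Qf (64 * 0 + r)) = Qf (tab Gen.a (64 * 0 + r)) := by
  intro r hr
  interval_cases r
  · exact L0
  · exact L8
  · exact L18
  · exact L19
  · exact L40
  · exact L54
  · exact L53
  · exact L39
  · exact L85
  · exact L73
  · exact L72
  · exact L118
  · exact L84
  · exact L135
  · exact L142
  · exact L113
  · exact L104
  · exact L211
  · exact L112
  · exact L119
  · exact L238
  · exact L244
  · exact L210
  · exact L134
  · exact L141
  · exact L285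
  · exact L281
  · exact L219
  · exact L229
  · exact L167
  · exact L170
  · exact L261
  · exact L268
  · exact L218
  · exact L228
  · exact L237
  · exact L243
  · exact L18214
  · exact L368
  · exact L375
  · exact L260
  · exact L267
  · exact L427
  · exact L280
  · exact L286
  · exact L456
  · exact L461
  · exact L466
  · exact L447
  · exact L352
  · exact L18215
  · exact L317
  · exact L320
  · exact L396
  · exact L407
  · exact L415
  · exact L17864
  · exact L351
  · exact L367
  · exact L374
  · exact L631
  · exact L17865
  · exact L18207
  · exact L18072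

theorem cl_a_1 : ∀ r, r < 64 → sm ga (Qf (64 * 1 + r)) = Qf (tab Gen.a (64 * 1 + r)) := by
  intro r hr
  interval_cases r
  · exact L395
  · exact L626
  · exact L406
  · exact L414
  · exact L426
  · exact L428
  · exact L719
  · exact L723
  · exact L729
  · exact L446
  · exact L455
  · exact L460
  · exact L465
  · exact L786
  · exact L790
  · exact L797
  · exact L18073
  · exact L495
  · exact L494
  · exact L764
  · exact L592
  · exact L18208
  · exact L520
  · exact L18155
  · exact L678
  · exact L691
  · exact L699
  · exact L18326
  · exact L17928
  · exact L591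
  · exact L625
  · exact L632
  · exact L18346
  · exact L1100
  · exact L1106
  · exact L1112
  · exact L18154
  · exact L18325
  · exact L17927
  · exact L17776
  · exact L18067
  · exact L677
  · exact L1231
  · exact L690
  · exact L698
  · exact L711
  · exact L718
  · exact L722
  · exact L728
  · exact L1279
  · exact L1285
  · exact L1291
  · exact L756
  · exact L755
  · exact L763
  · exact L785
  · exact L789
  · exact L796
  · exact L1434
  · exact L1413
  · exact L1417
  · exact L1423
  · exact L18068
  · exact L832

theorem cl_a_2 : ∀ r, r < 64 → sm ga (Qf (64 * 2 + r)) = Qf (tab Gen.a (64 * 2 + r)) := by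
  intro r hr
  interval_cases r
  · exact L831
  · exact L1529
  · exact L15602
  · exact L1549
  · exact L1031
  · exact L17775
  · exact L18163
  · exact L17914
  · exact L1209
  · exact L1224
  · exact L1800
  · exact L17726
  · exact L18058
  · exact L17915
  · exact L1030
  · exact L18345
  · exact L1099
  · exact L1105
  · exact L1111
  · exact L18279
  · exact L18271
  · exact L18386
  · exact L2075
  · exact L2079
  · exact L2087
  · exact L2179
  · exact L1161
  · exact L1160
  · exact L18162
  · exact L17725
  · exact L18057
  · exact L17140
  · exact L17714
  · exact L18064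
  · exact L1208
  · exact L2285
  · exact L1223
  · exact L1232
  · exact L17141
  · exact L2341
  · exact L1250
  · exact L1253
  · exact L1278
  · exact L1284
  · exact L1290
  · exact L2466
  · exact L2439
  · exact L2445
  · exact L2453
  · exact L1328
  · exact L1327
  · exact L2539
  · exact L15601
  · exact L2565
  · exact L1412
  · exact L1416
  · exact L1422
  · exact L2764
  · exact L1435
  · exact L2795
  · exact L18223
  · exact L2841
  · exact L2741
  · exact L2747

theorem cl_a_3 : ∀ r, r < 64 → sm ga (Qf (64 * 3 + r)) = Qf (tab Gen.a (64 * 3 + r)) := by
  intro r hr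
  interval_cases r
  · exact L2753
  · exact L18065
  · exact L1477
  · exact L1476
  · exact L2938
  · exact L15548
  · exact L1530
  · exact L3019
  · exact L18222
  · exact L15593
  · exact L17258
  · exact L1550
  · exact L3065
  · exact L3069
  · exact L3084
  · exact L17715
  · exact L17876
  · exact L18051
  · exact L18136
  · exact L2264
  · exact L2280
  · exact L3599
  · exact L1801
  · exact L17144
  · exact L17730
  · exact L18062
  · exact L18052
  · exact L17292
  · exact L3839
  · exact L18278
  · exact L18272
  · exact L18387
  · exact L2074
  · exact L2078
  · exact L2086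
  · exact L18135
  · exact L16792
  · exact L13916
  · exact L18265
  · exact L18375
  · exact L17125
  · exact L2131
  · exact L2130
  · exact L4213
  · exact L4217
  · exact L4223
  · exact L4439
  · exact L2172
  · exact L2171
  · exact L2180
  · exact L17877
  · exact L17731
  · exact L18061
  · exact L17092
  · exact L17145
  · exact L4637
  · exact L17733
  · exact L2263
  · exact L4659
  · exact L2279
  · exact L2286
  · exact L17091
  · exact L4731
  · exact L17053

theorem cl_a_4 : ∀ r, r < 64 → sm ga (Qf (64 * 4 + r)) = Qf (tab Gen.a (64 * 4 + r)) := by
  intro r hr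
  interval_cases r
  · exact L17126
  · exact L2342
  · exact L4783
  · exact L2353
  · exact L2360
  · exact L2438
  · exact L2444
  · exact L2452
  · exact L4998
  · exact L2467
  · exact L17293
  · exact L17271
  · exact L5093
  · exact L4967
  · exact L4973
  · exact L4981
  · exact L2523
  · exact L2522
  · exact L5173
  · exact L15547
  · exact L2540
  · exact L17272
  · exact L15592
  · exact L17257
  · exact L2566
  · exact L5293
  · exact L5301
  · exact L5751
  · exact L2740
  · exact L2746
  · exact L2752
  · exact L5787
  · exact L2765
  · exact L5814
  · exact L17332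
  · exact L17052
  · exact L2794
  · exact L5922
  · exact L17386
  · exact L2842
  · exact L5980
  · exact L5984
  · exact L5990
  · exact L5764
  · exact L5770
  · exact L5778
  · exact L6062
  · exact L2881
  · exact L103732
  · exact L2880
  · exact L17734
  · exact L6104
  · exact L15441
  · exact L2939
  · exact L6207
  · exact L17331
  · exact L15563
  · exact L17327
  · exact L3018
  · exact L6382
  · exact L17387
  · exact L15578
  · exact L15411
  · exact L111158

theorem cl_a_5 : ∀ r, r < 64 → sm ga (Qf (64 * 5 + r)) = Qf (tab Gen.a (64 * 5 + r)) := by
  intro r hr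
  interval_cases r
  · exact L3064
  · exact L3068
  · exact L6459
  · exact L3081
  · exact L3080
  · exact L3085
  · exact L6479
  · exact L111157
  · exact L17649
  · exact L17645
  · exact L18129
  · exact L7500
  · exact L4652
  · exact L7508
  · exact L3600
  · exact L17137
  · exact L7714
  · exact L17722
  · exact L17737
  · exact L17644
  · exact L17286
  · exact L3840
  · exact L7877
  · exact L115676
  · exact L13915
  · exact L18264
  · exact L18376
  · exact L16809
  · exact L4212
  · exact L4216
  · exact L4222
  · exact L18130
  · exact L16812
  · exact L16872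
  · exact L16865
  · exact L13931
  · exact L17084
  · exact L4360
  · exact L4359
  · exact L8867
  · exact L5118
  · exact L8627
  · exact L8633
  · exact L8911
  · exact L4434
  · exact L4433
  · exact L4440
  · exact L17650
  · exact L9255
  · exact L17721
  · exact L17738
  · exact L13621
  · exact L17136
  · exact L4638
  · exact L9394
  · exact L9398
  · exact L9419
  · exact L9427
  · exact L4651
  · exact L4660
  · exact L9450
  · exact L13620
  · exact L9509
  · exact L15800

theorem cl_a_6 : ∀ r, r < 64 → sm ga (Qf (64 * 6 + r)) = Qf (tab Gen.a (64 * 6 + r)) := by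
  intro r hr
  interval_cases r
  · exact L17085
  · exact L4732
  · exact L9585
  · exact L4782
  · exact L9788
  · exact L10124
  · exact L4966
  · exact L4972
  · exact L4980
  · exact L10172
  · exact L4999
  · exact L17285
  · exact L17237
  · exact L5094
  · exact L10310
  · exact L10314
  · exact L10322
  · exact L5117
  · exact L10143
  · exact L10151
  · exact L10159
  · exact L10434
  · exact L5153
  · exact L110277
  · exact L5152
  · exact L10460
  · exact L15440
  · exact L5174
  · exact L17236
  · exact L15562
  · exact L17328
  · exact L15577
  · exact L15410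
  · exact L115675
  · exact L5292
  · exact L5300
  · exact L5317
  · exact L5316
  · exact L5752
  · exact L18560
  · exact L18564
  · exact L18568
  · exact L5763
  · exact L5769
  · exact L5777
  · exact L18627
  · exact L18635
  · exact L5788
  · exact L18654
  · exact L18531
  · exact L15799
  · exact L5813
  · exact L18428
  · exact L5921
  · exact L18446
  · exact L18499
  · exact L18699
  · exact L5979
  · exact L5983
  · exact L5989
  · exact L18716
  · exact L18722
  · exact L18726
  · exact L18732

theorem cl_a_7 : ∀ r, r < 64 → sm ga (Qf (64 * 7 + r)) = Qf (tab Gen.a (64 * 7 + r)) := by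
  intro r hr
  interval_cases r
  · exact L18791
  · exact L6025
  · exact L115647
  · exact L6024
  · exact L18606
  · exact L18614
  · exact L18841
  · exact L6055
  · exact L110082
  · exact L6054
  · exact L6063
  · exact L18874
  · exact L18880
  · exact L18899
  · exact L6105
  · exact L18942
  · exact L18532
  · exact L18483
  · exact L18485
  · exact L6206
  · exact L18429
  · exact L18476
  · exact L6381
  · exact L18447
  · exact L18493
  · exact L18474
  · exact L18478
  · exact L111150
  · exact L111168
  · exact L19096
  · exact L19102
  · exact L6460
  · exact L19113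
  · exact L19128
  · exact L19146
  · exact L6478
  · exact L111151
  · exact L111167
  · exact L100177
  · exact L7739
  · exact L17633
  · exact L18554
  · exact L7501
  · exact L19229
  · exact L100176
  · exact L19248
  · exact L7509
  · exact L19261
  · exact L18517
  · exact L7715
  · exact L19275
  · exact L19281
  · exact L111120
  · exact L7738
  · exact L18551
  · exact L19356
  · exact L17634
  · exact L17242
  · exact L19380
  · exact L7876
  · exact L7901
  · exact L7900
  · exact L16871
  · exact L16864

theorem cl_a_8 : ∀ r, r < 64 → sm ga (Qf (64 * 8 + r)) = Qf (tab Gen.a (64 * 8 + r)) := by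
  intro r hr
  interval_cases r
  · exact L13930
  · exact L18358
  · exact L19470
  · exact L8626
  · exact L8632
  · exact L18553
  · exact L18504
  · exact L19491
  · exact L19441
  · exact L19446
  · exact L19454
  · exact L13615
  · exact L8766
  · exact L8765
  · exact L8868
  · exact L19297
  · exact L19569
  · exact L19575
  · exact L10381
  · exact L10387
  · exact L10395
  · exact L19648
  · exact L8906
  · exact L112672
  · exact L8905
  · exact L8912
  · exact L19671
  · exact L19678
  · exact L9256
  · exact L19705
  · exact L19713
  · exact L19719
  · exact L18552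
  · exact L19766
  · exact L18464
  · exact L18518
  · exact L19788
  · exact L9393
  · exact L9397
  · exact L19800
  · exact L9416
  · exact L110941
  · exact L9415
  · exact L9420
  · exact L19833
  · exact L19837
  · exact L9428
  · exact L19861
  · exact L19884
  · exact L18650
  · exact L9449
  · exact L19911
  · exact L18465
  · exact L13616
  · exact L9510
  · exact L19947
  · exact L9584
  · exact L9787
  · exact L10125
  · exact L20013
  · exact L20017
  · exact L20023
  · exact L10142
  · exact L10150

theorem cl_a_9 : ∀ r, r < 64 → sm ga (Qf (64 * 9 + r)) = Qf (tab Gen.a (64 * 9 + r)) := by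
  intro r hr
  interval_cases r
  · exact L10158
  · exact L20100
  · exact L20114
  · exact L10173
  · exact L20125
  · exact L18521
  · exact L17243
  · exact L20144
  · exact L10309
  · exact L10313
  · exact L10321
  · exact L112562
  · exact L20169
  · exact L20175
  · exact L112673
  · exact L20246
  · exact L10367
  · exact L110271
  · exact L10366
  · exact L20276
  · exact L10380
  · exact L10386
  · exact L10394
  · exact L20075
  · exact L20085
  · exact L20353
  · exact L10429
  · exact L110209
  · exact L10428
  · exact L10435
  · exact L20388
  · exact L20407
  · exact L10461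
  · exact L20470
  · exact L18522
  · exact L18484
  · exact L18486
  · exact L18477
  · exact L18494
  · exact L18475
  · exact L111121
  · exact L20624
  · exact L20640
  · exact L20656
  · exact L20694
  · exact L18559
  · exact L18563
  · exact L18567
  · exact L20711
  · exact L20715
  · exact L20719
  · exact L20784
  · exact L18600
  · exact L112561
  · exact L18599
  · exact L18605
  · exact L18613
  · exact L20812
  · exact L20824
  · exact L18628
  · exact L20841
  · exact L20845
  · exact L18636
  · exact L20867

theorem cl_a_10 : ∀ r, r < 64 → sm ga (Qf (64 * 10 + r)) = Qf (tab Gen.a (64 * 10 + r)) := by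
  intro r hr
  interval_cases r
  · exact L18649
  · exact L18653
  · exact L18950
  · exact L18681
  · exact L18698
  · exact L18700
  · exact L115369
  · exact L20957
  · exact L20961
  · exact L111015
  · exact L18715
  · exact L18721
  · exact L18725
  · exact L18731
  · exact L112328
  · exact L21017
  · exact L21023
  · exact L21039
  · exact L21045
  · exact L21152
  · exact L18786
  · exact L110136
  · exact L18785
  · exact L18792
  · exact L21193
  · exact L18896
  · exact L21208
  · exact L21234
  · exact L18834
  · exact L110153
  · exact L18833
  · exact L18842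
  · exact L21273
  · exact L21277
  · exact L21302
  · exact L111959
  · exact L18873
  · exact L18879
  · exact L21379
  · exact L21398
  · exact L18895
  · exact L18900
  · exact L21415
  · exact L21419
  · exact L18941
  · exact L18949
  · exact L20497
  · exact L19007
  · exact L19030
  · exact L20532
  · exact L19052
  · exact L114725
  · exact L21694
  · exact L19097
  · exact L21723
  · exact L114998
  · exact L19103
  · exact L21748
  · exact L21752
  · exact L21767
  · exact L19112
  · exact L19129
  · exact L21800
  · exact L114999

theorem cl_a_11 : ∀ r, r < 64 → sm ga (Qf (64 * 11 + r)) = Qf (tab Gen.a (64 * 11 + r)) := by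
  intro r hr
  interval_cases r
  · exact L19147
  · exact L21842
  · exact L110447
  · exact L21879
  · exact L114726
  · exact L21909
  · exact L110942
  · exact L106791
  · exact L19343
  · exact L21997
  · exact L19483
  · exact L19228
  · exact L22029
  · exact L106792
  · exact L19249
  · exact L22050
  · exact L22054
  · exact L19260
  · exact L19919
  · exact L19785
  · exact L22085
  · exact L19274
  · exact L19280
  · exact L19296
  · exact L22106
  · exact L111092
  · exact L22183
  · exact L19327
  · exact L19326
  · exact L109835
  · exact L19342
  · exact L22231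
  · exact L19357
  · exact L22248
  · exact L22271
  · exact L20139
  · exact L19381
  · exact L22298
  · exact L22325
  · exact L111129
  · exact L22416
  · exact L22438
  · exact L22460
  · exact L19440
  · exact L19445
  · exact L19453
  · exact L19469
  · exact L19471
  · exact L22520
  · exact L113148
  · exact L19482
  · exact L19492
  · exact L22583
  · exact L22587
  · exact L22595
  · exact L20295
  · exact L22487
  · exact L22494
  · exact L22687
  · exact L19549
  · exact L112685
  · exact L19548
  · exact L19937
  · exact L109828

theorem cl_a_12 : ∀ r, r < 64 → sm ga (Qf (64 * 12 + r)) = Qf (tab Gen.a (64 * 12 + r)) := by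
  intro r hr
  interval_cases r
  · exact L19568
  · exact L19574
  · exact L118237
  · exact L22775
  · exact L113147
  · exact L20302
  · exact L22827
  · exact L19641
  · exact L19640
  · exact L19649
  · exact L22860
  · exact L22864
  · exact L22885
  · exact L91226
  · exact L112161
  · exact L19670
  · exact L22924
  · exact L19679
  · exact L22940
  · exact L109834
  · exact L22143
  · exact L19704
  · exact L19712
  · exact L19718
  · exact L111014
  · exact L22990
  · exact L115370
  · exact L23065
  · exact L19755
  · exact L19754
  · exact L23089
  · exact L19767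
  · exact L23112
  · exact L23118
  · exact L19927
  · exact L19784
  · exact L19789
  · exact L22144
  · exact L23158
  · exact L23205
  · exact L19801
  · exact L23222
  · exact L19851
  · exact L19877
  · exact L23255
  · exact L23263
  · exact L19832
  · exact L19836
  · exact L23276
  · exact L23282
  · exact L19850
  · exact L19860
  · exact L23339
  · exact L19876
  · exact L19885
  · exact L23366
  · exact L23370
  · exact L20879
  · exact L23405
  · exact L19910
  · exact L19918
  · exact L23422
  · exact L19926
  · exact L23459

theorem cl_a_13 : ∀ r, r < 64 → sm ga (Qf (64 * 13 + r)) = Qf (tab Gen.a (64 * 13 + r)) := by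
  intro r hr
  interval_cases r
  · exact L19936
  · exact L19946
  · exact L83061
  · exact L20012
  · exact L20016
  · exact L20022
  · exact L23586
  · exact L23596
  · exact L23604
  · exact L109829
  · exact L23671
  · exact L20067
  · exact L112655
  · exact L20066
  · exact L20074
  · exact L20084
  · exact L23717
  · exact L23729
  · exact L20101
  · exact L23748
  · exact L23754
  · exact L20115
  · exact L23784
  · exact L20124
  · exact L23806
  · exact L20482
  · exact L20138
  · exact L20145
  · exact L111093
  · exact L116733
  · exact L20168
  · exact L20174
  · exact L21951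
  · exact L112654
  · exact L112555
  · exact L23922
  · exact L112686
  · exact L24047
  · exact L110156
  · exact L91227
  · exact L20247
  · exact L20402
  · exact L115438
  · exact L20277
  · exact L21952
  · exact L83060
  · exact L20294
  · exact L20301
  · exact L112327
  · exact L116734
  · exact L24361
  · exact L20346
  · exact L94711
  · exact L20345
  · exact L20354
  · exact L24412
  · exact L24416
  · exact L24441
  · exact L118238
  · exact L20387
  · exact L24521
  · exact L20401
  · exact L20408
  · exact L24548

theorem cl_a_14 : ∀ r, r < 64 → sm ga (Qf (64 * 14 + r)) = Qf (tab Gen.a (64 * 14 + r)) := by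
  intro r hr
  interval_cases r
  · exact L24554
  · exact L20469
  · exact L24664
  · exact L20481
  · exact L20496
  · exact L20531
  · exact L20625
  · exact L24860
  · exact L115051
  · exact L20641
  · exact L115007
  · exact L20657
  · exact L24941
  · exact L115052
  · exact L20695
  · exact L25034
  · exact L20710
  · exact L20714
  · exact L20718
  · exact L25106
  · exact L110008
  · exact L25128
  · exact L25235
  · exact L110009
  · exact L20785
  · exact L114424
  · exact L20859
  · exact L112554
  · exact L112956
  · exact L25313
  · exact L25327
  · exact L20813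
  · exact L115613
  · exact L113249
  · exact L20825
  · exact L110369
  · exact L25405
  · exact L20840
  · exact L20844
  · exact L114457
  · exact L25424
  · exact L20858
  · exact L20866
  · exact L20878
  · exact L114990
  · exact L20956
  · exact L20960
  · exact L111040
  · exact L25620
  · exact L25624
  · exact L25628
  · exact L112225
  · exact L111958
  · exact L24154
  · exact L21016
  · exact L21022
  · exact L21038
  · exact L21044
  · exact L112301
  · exact L112200
  · exact L25778
  · exact L113291
  · exact L110370
  · exact L25953

theorem cl_a_15 : ∀ r, r < 64 → sm ga (Qf (64 * 15 + r)) = Qf (tab Gen.a (64 * 15 + r)) := by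
  intro r hr
  interval_cases r
  · exact L21147
  · exact L110162
  · exact L21146
  · exact L21153
  · exact L113250
  · exact L115612
  · exact L26017
  · exact L21192
  · exact L21391
  · exact L117169
  · exact L21209
  · exact L26100
  · exact L115568
  · exact L21235
  · exact L26176
  · exact L26182
  · exact L26209
  · exact L111940
  · exact L21272
  · exact L21276
  · exact L113290
  · exact L21303
  · exact L26348
  · exact L26511
  · exact L21378
  · exact L21390
  · exact L21399
  · exact L26546
  · exact L112957
  · exact L112948
  · exact L21414
  · exact L21418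
  · exact L26582
  · exact L26586
  · exact L26787
  · exact L21617
  · exact L117023
  · exact L21695
  · exact L27063
  · exact L106988
  · exact L21722
  · exact L27186
  · exact L21744
  · exact L21747
  · exact L21751
  · exact L27230
  · exact L110446
  · exact L21768
  · exact L27258
  · exact L27262
  · exact L111130
  · exact L27307
  · exact L21799
  · exact L112058
  · exact L114991
  · exact L21841
  · exact L22579
  · exact L111579
  · exact L21880
  · exact L27528
  · exact L109804
  · exact L110840
  · exact L21910
  · exact L27602

theorem cl_a_16 : ∀ r, r < 64 → sm ga (Qf (64 * 16 + r)) = Qf (tab Gen.a (64 * 16 + r)) := by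
  intro r hr
  interval_cases r
  · exact L115020
  · exact L27685
  · exact L27713
  · exact L21998
  · exact L27734
  · exact L27740
  · exact L117022
  · exact L27781
  · exact L22030
  · exact L27798
  · exact L22068
  · exact L27821
  · exact L27833
  · exact L22049
  · exact L22053
  · exact L110790
  · exact L110841
  · exact L22067
  · exact L23434
  · exact L23150
  · exact L27901
  · exact L22086
  · exact L27912
  · exact L22105
  · exact L117548
  · exact L28027
  · exact L22178
  · exact L22177
  · exact L22184
  · exact L22264
  · exact L105979
  · exact L115356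
  · exact L107626
  · exact L28133
  · exact L22232
  · exact L28160
  · exact L28164
  · exact L28183
  · exact L22247
  · exact L28205
  · exact L22263
  · exact L22272
  · exact L28234
  · exact L113538
  · exact L23830
  · exact L22297
  · exact L22324
  · exact L28278
  · exact L27145
  · exact L115008
  · exact L103195
  · exact L22417
  · exact L28393
  · exact L22439
  · exact L28411
  · exact L106987
  · exact L22461
  · exact L25762
  · exact L28429
  · exact L22486
  · exact L22493
  · exact L109622
  · exact L22519
  · exact L22578

theorem cl_a_17 : ∀ r, r < 64 → sm ga (Qf (64 * 17 + r)) = Qf (tab Gen.a (64 * 17 + r)) := by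
  intro r hr
  interval_cases r
  · exact L22582
  · exact L22586
  · exact L22594
  · exact L28648
  · exact L118273
  · exact L28722
  · exact L109623
  · exact L24314
  · exact L28794
  · exact L22681
  · exact L22680
  · exact L22688
  · exact L28831
  · exact L28837
  · exact L28870
  · exact L115975
  · exact L112153
  · exact L23452
  · exact L111514
  · exact L117148
  · exact L22776
  · exact L29074
  · exact L117170
  · exact L112199
  · exact L22828
  · exact L114888
  · exact L115437
  · exact L29152
  · exact L115266
  · exact L115464
  · exact L22859
  · exact L22863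
  · exact L29258
  · exact L112162
  · exact L22886
  · exact L29314
  · exact L22923
  · exact L29329
  · exact L22939
  · exact L107625
  · exact L23174
  · exact L22989
  · exact L29410
  · exact L112226
  · exact L113680
  · exact L111041
  · exact L23066
  · exact L29507
  · exact L23136
  · exact L29542
  · exact L23090
  · exact L29565
  · exact L29571
  · exact L113569
  · exact L23111
  · exact L23117
  · exact L29621
  · exact L29625
  · exact L23135
  · exact L23440
  · exact L23149
  · exact L23157
  · exact L109805
  · exact L23173

theorem cl_a_18 : ∀ r, r < 64 → sm ga (Qf (64 * 18 + r)) = Qf (tab Gen.a (64 * 18 + r)) := by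
  intro r hr
  interval_cases r
  · exact L29706
  · exact L23206
  · exact L113957
  · exact L116907
  · exact L23221
  · exact L29876
  · exact L23256
  · exact L29897
  · exact L110791
  · exact L23264
  · exact L29919
  · exact L113537
  · exact L117720
  · exact L23275
  · exact L23281
  · exact L29984
  · exact L117885
  · exact L114423
  · exact L30030
  · exact L114458
  · exact L113681
  · exact L30074
  · exact L23340
  · exact L30107
  · exact L113570
  · exact L114167
  · exact L30140
  · exact L23365
  · exact L23369
  · exact L30161
  · exact L30165
  · exact L117502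
  · exact L25478
  · exact L23406
  · exact L30239
  · exact L30243
  · exact L30247
  · exact L23421
  · exact L23433
  · exact L23439
  · exact L30314
  · exact L23451
  · exact L23460
  · exact L30335
  · exact L30354
  · exact L23585
  · exact L23595
  · exact L23603
  · exact L116580
  · exact L113904
  · exact L30573
  · exact L113125
  · exact L111513
  · exact L23672
  · exact L117760
  · exact L23772
  · exact L116579
  · exact L112918
  · exact L30788
  · exact L23718
  · exact L30831
  · exact L30835
  · exact L23730
  · exact L112885

theorem cl_a_19 : ∀ r, r < 64 → sm ga (Qf (64 * 19 + r)) = Qf (tab Gen.a (64 * 19 + r)) := by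
  intro r hr
  interval_cases r
  · exact L117149
  · exact L23747
  · exact L23753
  · exact L30913
  · exact L30917
  · exact L23771
  · exact L23783
  · exact L114472
  · exact L23805
  · exact L24676
  · exact L111301
  · exact L31034
  · exact L23829
  · exact L23921
  · exact L31368
  · exact L94695
  · exact L115974
  · exact L24048
  · exact L115225
  · exact L24153
  · exact L24313
  · exact L112300
  · exact L24362
  · exact L31836
  · exact L31842
  · exact L31875
  · exact L24411
  · exact L24415
  · exact L113436
  · exact L113456
  · exact L115465
  · exact L24442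
  · exact L32040
  · exact L111777
  · exact L24522
  · exact L32234
  · exact L112919
  · exact L50135
  · exact L24547
  · exact L24553
  · exact L111319
  · exact L111318
  · exact L107220
  · exact L24663
  · exact L24675
  · exact L32583
  · exact L115019
  · exact L24859
  · exact L117286
  · exact L24897
  · exact L24940
  · exact L111300
  · exact L25033
  · exact L32953
  · exact L116691
  · exact L25105
  · exact L25127
  · exact L109983
  · exact L116202
  · exact L33296
  · exact L109982
  · exact L25236
  · exact L112928
  · exact L25314

theorem cl_a_20 : ∀ r, r < 64 → sm ga (Qf (64 * 20 + r)) = Qf (tab Gen.a (64 * 20 + r)) := by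
  intro r hr
  interval_cases r
  · exact L113355
  · exact L117833
  · exact L25328
  · exact L111708
  · exact L33598
  · exact L25406
  · exact L43461
  · exact L115567
  · exact L43436
  · exact L25423
  · exact L116056
  · exact L25477
  · exact L25619
  · exact L25623
  · exact L25627
  · exact L31653
  · exact L34221
  · exact L34229
  · exact L109686
  · exact L116716
  · exact L111939
  · exact L25761
  · exact L25777
  · exact L112282
  · exact L111623
  · exact L111709
  · exact L116203
  · exact L34906
  · exact L25954
  · exact L117834
  · exact L113354
  · exact L115548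
  · exact L117195
  · exact L26018
  · exact L35093
  · exact L115618
  · exact L114635
  · exact L115093
  · exact L112949
  · exact L26099
  · exact L111344
  · exact L115248
  · exact L118272
  · exact L26175
  · exact L26181
  · exact L113138
  · exact L111624
  · exact L26210
  · exact L35545
  · exact L109708
  · exact L108664
  · exact L26347
  · exact L26512
  · exact L114074
  · exact L114109
  · exact L26545
  · exact L36287
  · exact L112927
  · exact L50136
  · exact L115224
  · exact L26581
  · exact L26585
  · exact L107221
  · exact L112059

theorem cl_a_21 : ∀ r, r < 64 → sm ga (Qf (64 * 21 + r)) = Qf (tab Gen.a (64 * 21 + r)) := by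
  intro r hr
  interval_cases r
  · exact L26788
  · exact L27146
  · exact L27062
  · exact L106994
  · exact L117453
  · exact L27185
  · exact L37587
  · exact L27229
  · exact L37712
  · exact L111580
  · exact L27257
  · exact L27261
  · exact L37732
  · exact L37723
  · exact L37727
  · exact L103196
  · exact L27308
  · exact L114614
  · exact L37795
  · exact L37956
  · exact L28632
  · exact L111615
  · exact L27527
  · exact L27552
  · exact L27551
  · exact L27601
  · exact L38289
  · exact L107058
  · exact L27686
  · exact L38405
  · exact L27758
  · exact L27714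
  · exact L116919
  · exact L27733
  · exact L27739
  · exact L113437
  · exact L115357
  · exact L27757
  · exact L105978
  · exact L27782
  · exact L29715
  · exact L27797
  · exact L116918
  · exact L27822
  · exact L27834
  · exact L38741
  · exact L116960
  · exact L107716
  · exact L116903
  · exact L116961
  · exact L110718
  · exact L29677
  · exact L117547
  · exact L27902
  · exact L27911
  · exact L114108
  · exact L113903
  · exact L117528
  · exact L117537
  · exact L28028
  · exact L114636
  · exact L88565
  · exact L114840
  · exact L114075

theorem cl_a_22 : ∀ r, r < 64 → sm ga (Qf (64 * 22 + r)) = Qf (tab Gen.a (64 * 22 + r)) := by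
  intro r hr
  interval_cases r
  · exact L28134
  · exact L28159
  · exact L28163
  · exact L28184
  · exact L114166
  · exact L114613
  · exact L28206
  · exact L39901
  · exact L38765
  · exact L28233
  · exact L39955
  · exact L113528
  · exact L28277
  · exact L113457
  · exact L112886
  · exact L37471
  · exact L103123
  · exact L28392
  · exact L114887
  · exact L28410
  · exact L113764
  · exact L106995
  · exact L28428
  · exact L34355
  · exact L116690
  · exact L116717
  · exact L28631
  · exact L28647
  · exact L118290
  · exact L118255
  · exact L28723
  · exact L113137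
  · exact L117196
  · exact L112283
  · exact L28795
  · exact L40881
  · exact L115547
  · exact L108635
  · exact L92408
  · exact L38757
  · exact L28830
  · exact L28836
  · exact L41024
  · exact L112152
  · exact L28871
  · exact L30305
  · exact L117287
  · exact L29075
  · exact L113143
  · exact L113124
  · exact L115092
  · exact L116057
  · exact L115267
  · exact L29153
  · exact L79612
  · exact L38764
  · exact L38753
  · exact L29259
  · exact L111776
  · exact L29315
  · exact L117121
  · exact L84572
  · exact L41965
  · exact L29328

theorem cl_a_23 : ∀ r, r < 64 → sm ga (Qf (64 * 23 + r)) = Qf (tab Gen.a (64 * 23 + r)) := by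
  intro r hr
  interval_cases r
  · exact L110746
  · exact L107715
  · exact L113925
  · exact L117501
  · exact L29411
  · exact L116908
  · exact L113958
  · exact L109685
  · exact L88566
  · exact L29506
  · exact L117721
  · exact L29543
  · exact L42495
  · exact L29564
  · exact L29570
  · exact L113559
  · exact L117691
  · exact L29620
  · exact L29624
  · exact L113979
  · exact L98830
  · exact L117738
  · exact L114492
  · exact L114471
  · exact L29676
  · exact L99340
  · exact L113765
  · exact L29707
  · exact L29714
  · exact L29759
  · exact L114841
  · exact L113971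
  · exact L29758
  · exact L117884
  · exact L29877
  · exact L107616
  · exact L117536
  · exact L29896
  · exact L43354
  · exact L116902
  · exact L29918
  · exact L43437
  · exact L113529
  · exact L113940
  · exact L98771
  · exact L43614
  · exact L29985
  · exact L117761
  · exact L88925
  · exact L30031
  · exact L30349
  · exact L30075
  · exact L42956
  · exact L30106
  · exact L113558
  · exact L30141
  · exact L38756
  · exact L116952
  · exact L110747
  · exact L107976
  · exact L30160
  · exact L30164
  · exact L44007
  · exact L43460

theorem cl_a_24 : ∀ r, r < 64 → sm ga (Qf (64 * 24 + r)) = Qf (tab Gen.a (64 * 24 + r)) := by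
  intro r hr
  interval_cases r
  · exact L30238
  · exact L30242
  · exact L30246
  · exact L44149
  · exact L117436
  · exact L44157
  · exact L44163
  · exact L30275
  · exact L30274
  · exact L117452
  · exact L30304
  · exact L30315
  · exact L114286
  · exact L117457
  · exact L30334
  · exact L37477
  · exact L30348
  · exact L30355
  · exact L30572
  · exact L113380
  · exact L117122
  · exact L112912
  · exact L117751
  · exact L112914
  · exact L30789
  · exact L74838
  · exact L113197
  · exact L30830
  · exact L30834
  · exact L84573
  · exact L45276
  · exact L43448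
  · exact L30912
  · exact L30916
  · exact L45452
  · exact L98772
  · exact L117690
  · exact L79613
  · exact L31035
  · exact L45744
  · exact L84514
  · exact L45758
  · exact L31369
  · exact L31652
  · exact L31835
  · exact L31841
  · exact L111614
  · exact L31876
  · exact L47409
  · exact L110719
  · exact L111539
  · exact L112911
  · exact L32039
  · exact L111723
  · exact L32233
  · exact L112913
  · exact L111345
  · exact L102773
  · exact L115247
  · exact L32584
  · exact L107059
  · exact L32952
  · exact L81888
  · exact L82871

theorem cl_a_25 : ∀ r, r < 64 → sm ga (Qf (64 * 25 + r)) = Qf (tab Gen.a (64 * 25 + r)) := by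
  intro r hr
  interval_cases r
  · exact L33297
  · exact L102774
  · exact L118256
  · exact L33599
  · exact L51462
  · exact L115619
  · exact L43491
  · exact L117737
  · exact L34217
  · exact L34220
  · exact L34228
  · exact L34354
  · exact L118287
  · exact L109709
  · exact L82872
  · exact L108634
  · exact L34907
  · exact L54028
  · exact L113198
  · exact L115513
  · exact L115533
  · exact L108665
  · exact L35092
  · exact L115573
  · exact L118289
  · exact L108362
  · exact L35544
  · exact L108293
  · exact L36286
  · exact L107430
  · exact L57950
  · exact L37470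
  · exact L37476
  · exact L114171
  · exact L113828
  · exact L117435
  · exact L114220
  · exact L117448
  · exact L37586
  · exact L37713
  · exact L112881
  · exact L107617
  · exact L37722
  · exact L37726
  · exact L37733
  · exact L114234
  · exact L114221
  · exact L59703
  · exact L59709
  · exact L59713
  · exact L103122
  · exact L111388
  · exact L107709
  · exact L37794
  · exact L114172
  · exact L37957
  · exact L60139
  · exact L113806
  · exact L113980
  · exact L38288
  · exact L113777
  · exact L113805
  · exact L113812
  · exact L38404

theorem cl_a_26 : ∀ r, r < 64 → sm ga (Qf (64 * 26 + r)) = Qf (tab Gen.a (64 * 26 + r)) := by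
  intro r hr
  interval_cases r
  · exact L38752
  · exact L116951
  · exact L42816
  · exact L113926
  · exact L113829
  · exact L38740
  · exact L74839
  · exact L116957
  · exact L116956
  · exact L113939
  · exact L117529
  · exact L88924
  · exact L114287
  · exact L117447
  · exact L39900
  · exact L98829
  · exact L113144
  · exact L39954
  · exact L114491
  · exact L111538
  · exact L116797
  · exact L59771
  · exact L102921
  · exact L99339
  · exact L81887
  · exact L118288
  · exact L118387
  · exact L117190
  · exact L107975
  · exact L113379
  · exact L115532
  · exact L40880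
  · exact L115512
  · exact L108363
  · exact L92407
  · exact L108223
  · exact L115517
  · exact L41025
  · exact L111724
  · exact L117458
  · exact L41964
  · exact L117428
  · exact L41991
  · exact L41990
  · exact L107710
  · exact L113970
  · exact L42494
  · exact L43447
  · exact L107888
  · exact L107431
  · exact L117752
  · exact L42817
  · exact L42955
  · exact L107562
  · exact L43353
  · exact L43490
  · exact L107887
  · exact L43615
  · exact L113778
  · exact L116798
  · exact L116613
  · exact L117427
  · exact L44006
  · exact L44148

theorem cl_a_27 : ∀ r, r < 54 → sm ga (Qf (64 * 27 + r)) = Qf (tab Gen.a (64 * 27 + r)) := by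
  intro r hr
  interval_cases r
  · exact L44156
  · exact L44162
  · exact L111387
  · exact L114235
  · exact L117444
  · exact L44211
  · exact L44210
  · exact L107561
  · exact L112883
  · exact L116612
  · exact L45275
  · exact L84515
  · exact L98793
  · exact L45451
  · exact L45743
  · exact L45757
  · exact L98792
  · exact L112882
  · exact L47408
  · exact L79600
  · exact L112884
  · exact L113813
  · exact L49578
  · exact L117189
  · exact L51461
  · exact L115572
  · exact L52674
  · exact L109611
  · exact L108222
  · exact L54027
  · exact L108292
  · exact L118445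
  · exact L118439
  · exact L57951
  · exact L79601
  · exact L118377
  · exact L117443
  · exact L59702
  · exact L59708
  · exact L59712
  · exact L118378
  · exact L59770
  · exact L102920
  · exact L118410
  · exact L60138
  · exact L118423
  · exact L118389
  · exact L118442
  · exact L115518
  · exact L118438
  · exact L118411
  · exact L118469
  · exact L118477
  · exact L118480

theorem cl_a : ∀ i, i < 1782 → sm ga (Qf i) = Qf (tab Gen.a i) := by
  intro i hi
  obtain ⟨k, r, rfl, hr⟩ : ∃ k r, i = 64 * k + r ∧ r < 64 := ⟨i / 64, i % 64, by omega, by omega⟩
  have hk : k < 28 := by omega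
  interval_cases k
  · exact cl_a_0 r (by omega)
  · exact cl_a_1 r (by omega)
  · exact cl_a_2 r (by omega)
  · exact cl_a_3 r (by omega)
  · exact cl_a_4 r (by omega)
  · exact cl_a_5 r (by omega)
  · exact cl_a_6 r (by omega)
  · exact cl_a_7 r (by omega)
  · exact cl_a_8 r (by omega)
  · exact cl_a_9 r (by omega)
  · exact cl_a_10 r (by omega)
  · exact cl_a_11 r (by omega)
  · exact cl_a_12 r (by omega)
  · exact cl_a_13 r (by omega)
  · exact cl_a_14 r (by omega)
  · exact cl_a_15 r (by omega)
  · exact cl_a_16 r (by omega)
  · exact cl_a_17 r (by omega)
  · exact cl_a_18 r (by omega)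
  · exact cl_a_19 r (by omega)
  · exact cl_a_20 r (by omega)
  · exact cl_a_21 r (by omega)
  · exact cl_a_22 r (by omega)
  · exact cl_a_23 r (by omega)
  · exact cl_a_24 r (by omega)
  · exact cl_a_25 r (by omega)
  · exact cl_a_26 r (by omega)
  · exact cl_a_27 r (by omega)

theorem cl_b_0 : ∀ r, r < 64 → sm gb (Qf (64 * 0 + r)) = Qf (tab Gen.b (64 * 0 + r)) := by
  intro r hr
  interval_cases r
  · exact L1
  · exact L13
  · exact L14
  · exact L33
  · exact L27
  · exact L32
  · exact L34
  · exact L79
  · exact L63
  · exact L99
  · exact L105
  · exact L80
  · exact L124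
  · exact L145
  · exact L92
  · exact L162
  · exact L100
  · exact L106
  · exact L183
  · exact L202
  · exact L123
  · exact L190
  · exact L131
  · exact L274
  · exact L252
  · exact L146
  · exact L291
  · exact L309
  · exact L311
  · exact L163
  · exact L203
  · exact L182
  · exact L189
  · exact L345
  · exact L335
  · exact L17786
  · exact L246
  · exact L379
  · exact L251
  · exact L344
  · exact L264
  · exact L420
  · exact L275
  · exact L434
  · exact L16747
  · exact L290
  · exact L483
  · exact L299
  · exact L471
  · exact L506
  · exact L310
  · exact L312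
  · exact L17787
  · exact L544
  · exact L334
  · exact L343
  · exact L346
  · exact L576
  · exact L17779
  · exact L378
  · exact L380
  · exact L638
  · exact L642
  · exact L683

theorem cl_b_1 : ∀ r, r < 64 → sm gb (Qf (64 * 1 + r)) = Qf (tab Gen.b (64 * 1 + r)) := by
  intro r hr
  interval_cases r
  · exact L16746
  · exact L568
  · exact L411
  · exact L705
  · exact L421
  · exact L17873
  · exact L433
  · exact L582
  · exact L443
  · exact L735
  · exact L15888
  · exact L801
  · exact L16933
  · exact L470
  · exact L816
  · exact L482
  · exact L484
  · exact L849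
  · exact L851
  · exact L854
  · exact L860
  · exact L507
  · exact L17780
  · exact L545
  · exact L943
  · exact L972
  · exact L567
  · exact L575
  · exact L581
  · exact L999
  · exact L630
  · exact L1089
  · exact L637
  · exact L641
  · exact L1143
  · exact L16932
  · exact L17872
  · exact L1118
  · exact L1196
  · exact L1130
  · exact L1212
  · exact L15887
  · exact L684
  · exact L1241
  · exact L1243
  · exact L706
  · exact L17946
  · exact L1294
  · exact L18241
  · exact L734
  · exact L1007
  · exact L746
  · exact L1333
  · exact L1337
  · exact L1342
  · exact L15865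
  · exact L1426
  · exact L16908
  · exact L802
  · exact L1448
  · exact L1462
  · exact L815
  · exact L817
  · exact L1499

theorem cl_b_2 : ∀ r, r < 64 → sm gb (Qf (64 * 2 + r)) = Qf (tab Gen.b (64 * 2 + r)) := by
  intro r hr
  interval_cases r
  · exact L1503
  · exact L850
  · exact L852
  · exact L855
  · exact L1556
  · exact L861
  · exact L942
  · exact L1752
  · exact L1739
  · exact L1794
  · exact L973
  · exact L998
  · exact L1006
  · exact L1890
  · exact L1902
  · exact L1090
  · exact L2045
  · exact L2092
  · exact L2094
  · exact L1117
  · exact L2110
  · exact L18240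
  · exact L1129
  · exact L2148
  · exact L16907
  · exact L1144
  · exact L18310
  · exact L18247
  · exact L17945
  · exact L2099
  · exact L2241
  · exact L1197
  · exact L2255
  · exact L2269
  · exact L15864
  · exact L1213
  · exact L2303
  · exact L2307
  · exact L1809
  · exact L1242
  · exact L1244
  · exact L2346
  · exact L17647
  · exact L2458
  · exact L16860
  · exact L1295
  · exact L2492
  · exact L1867
  · exact L1318
  · exact L2530
  · exact L2534
  · exact L1334
  · exact L1338
  · exact L1343
  · exact L2736
  · exact L2756
  · exact L16889
  · exact L1427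
  · exact L2790
  · exact L1438
  · exact L1548
  · exact L1449
  · exact L2848
  · exact L2867

theorem cl_b_3 : ∀ r, r < 64 → sm gb (Qf (64 * 3 + r)) = Qf (tab Gen.b (64 * 3 + r)) := by
  intro r hr
  interval_cases r
  · exact L2875
  · exact L1463
  · exact L2900
  · exact L2904
  · exact L1500
  · exact L1504
  · exact L17303
  · exact L1533
  · exact L18248
  · exact L1544
  · exact L1547
  · exact L3060
  · exact L3070
  · exact L1555
  · exact L1557
  · exact L3089
  · exact L1738
  · exact L3519
  · exact L1753
  · exact L3587
  · exact L3595
  · exact L1795
  · exact L18105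
  · exact L1808
  · exact L3757
  · exact L1866
  · exact L3795
  · exact L1891
  · exact L1903
  · exact L2044
  · exact L18104
  · exact L4168
  · exact L4151
  · exact L4226
  · exact L4230
  · exact L2093
  · exact L2095
  · exact L2098
  · exact L4339
  · exact L16859
  · exact L2111
  · exact L18311
  · exact L18250
  · exact L4399
  · exact L4413
  · exact L16890
  · exact L2149
  · exact L18315
  · exact L17420
  · exact L18093
  · exact L17648
  · exact L4577
  · exact L4589
  · exact L2242
  · exact L17545
  · exact L2256
  · exact L4643
  · exact L4645
  · exact L2270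
  · exact L4679
  · exact L4683
  · exact L3612
  · exact L2304
  · exact L2308

theorem cl_b_4 : ∀ r, r < 64 → sm gb (Qf (64 * 4 + r)) = Qf (tab Gen.b (64 * 4 + r)) := by
  intro r hr
  interval_cases r
  · exact L18081
  · exact L18080
  · exact L2345
  · exact L4740
  · exact L4793
  · exact L4960
  · exact L4986
  · exact L16882
  · exact L2459
  · exact L17544
  · exact L18092
  · exact L2564
  · exact L2493
  · exact L5102
  · exact L5133
  · exact L5145
  · exact L5160
  · exact L5166
  · exact L2531
  · exact L2535
  · exact L17304
  · exact L18249
  · exact L17428
  · exact L2563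
  · exact L5284
  · exact L3852
  · exact L2583
  · exact L2737
  · exact L5756
  · exact L5783
  · exact L5785
  · exact L2757
  · exact L5807
  · exact L2772
  · exact L2969
  · exact L2791
  · exact L13152
  · exact L2804
  · exact L5938
  · exact L5975
  · exact L2847
  · exact L6007
  · exact L6017
  · exact L5998
  · exact L6038
  · exact L6048
  · exact L2868
  · exact L6070
  · exact L2876
  · exact L112537
  · exact L6067
  · exact L2901
  · exact L2905
  · exact L17309
  · exact L2946
  · exact L17419
  · exact L2963
  · exact L2968
  · exact L5282
  · exact L3028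
  · exact L17427
  · exact L3054
  · exact L6442
  · exact L3061

theorem cl_b_5 : ∀ r, r < 64 → sm gb (Qf (64 * 5 + r)) = Qf (tab Gen.b (64 * 5 + r)) := by
  intro r hr
  interval_cases r
  · exact L6455
  · exact L6457
  · exact L3071
  · exact L6469
  · exact L112534
  · exact L6474
  · exact L3088
  · exact L3860
  · exact L7352
  · exact L7366
  · exact L3520
  · exact L3588
  · exact L7506
  · exact L3596
  · exact L18099
  · exact L3611
  · exact L3758
  · exact L7723
  · exact L7754
  · exact L7784
  · exact L3796
  · exact L7868
  · exact L3851
  · exact L3859
  · exact L4150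
  · exact L18098
  · exact L8534
  · exact L4169
  · exact L8622
  · exact L8636
  · exact L8640
  · exact L4227
  · exact L4231
  · exact L8718
  · exact L8739
  · exact L16881
  · exact L4340
  · exact L18316
  · exact L17229
  · exact L4400
  · exact L8874
  · exact L8893
  · exact L8901
  · exact L4414
  · exact L16858
  · exact L16895
  · exact L18096
  · exact L9177
  · exact L4578
  · exact L9262
  · exact L9275
  · exact L4590
  · exact L17560
  · exact L9389
  · exact L9399
  · exact L9407
  · exact L4644
  · exact L4646
  · exact L9439
  · exact L9443
  · exact L9424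
  · exact L7519
  · exact L4680
  · exact L4684

theorem cl_b_6 : ∀ r, r < 64 → sm gb (Qf (64 * 6 + r)) = Qf (tab Gen.b (64 * 6 + r)) := by
  intro r hr
  interval_cases r
  · exact L15814
  · exact L15813
  · exact L4739
  · exact L13153
  · exact L4792
  · exact L4961
  · exact L10131
  · exact L10164
  · exact L10168
  · exact L4987
  · exact L17559
  · exact L18095
  · exact L5202
  · exact L10303
  · exact L5101
  · exact L10343
  · exact L10357
  · exact L10374
  · exact L10332
  · exact L10412
  · exact L10422
  · exact L5134
  · exact L10442
  · exact L5146
  · exact L112744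
  · exact L5161
  · exact L5167
  · exact L17308
  · exact L17228
  · exact L15570
  · exact L5201
  · exact L15585
  · exact L5283
  · exact L5285
  · exact L10657
  · exact L10663
  · exact L10669
  · exact L91395
  · exact L18555
  · exact L5755
  · exact L18585
  · exact L18593
  · exact L18576
  · exact L18619
  · exact L18623
  · exact L5784
  · exact L5786
  · exact L18639
  · exact L18632
  · exact L6129
  · exact L5808
  · exact L18435
  · exact L18676
  · exact L18453
  · exact L18692
  · exact L5939
  · exact L5976
  · exact L18708
  · exact L112547
  · exact L18737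
  · exact L18572
  · exact L5997
  · exact L18765
  · exact L18777

theorem cl_b_7 : ∀ r, r < 64 → sm gb (Qf (64 * 7 + r)) = Qf (tab Gen.b (64 * 7 + r)) := by
  intro r hr
  interval_cases r
  · exact L6008
  · exact L18805
  · exact L6018
  · exact L112538
  · exact L18817
  · exact L18827
  · exact L6039
  · exact L18851
  · exact L6049
  · exact L112532
  · exact L18869
  · exact L6066
  · exact L18889
  · exact L6071
  · exact L18489
  · exact L18904
  · exact L16894
  · exact L112535
  · exact L6128
  · exact L10564
  · exact L15569
  · exact L18998
  · exact L10631
  · exact L15584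
  · exact L19026
  · exact L19045
  · exact L6443
  · exact L18704
  · exact L19078
  · exact L6456
  · exact L6458
  · exact L19108
  · exact L18800
  · exact L6470
  · exact L6475
  · exact L19154
  · exact L17687
  · exact L19180
  · exact L7353
  · exact L19191
  · exact L19214
  · exact L7367
  · exact L111123
  · exact L19234
  · exact L17688
  · exact L7507
  · exact L18505
  · exact L19253
  · exact L7518
  · exact L19268
  · exact L7722
  · exact L19308
  · exact L111122
  · exact L19334
  · exact L19352
  · exact L7755
  · exact L19368
  · exact L7785
  · exact L7869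
  · exact L19404
  · exact L19416
  · exact L19424
  · exact L19432
  · exact L18506

theorem cl_b_8 : ∀ r, r < 64 → sm gb (Qf (64 * 8 + r)) = Qf (tab Gen.b (64 * 8 + r)) := by
  intro r hr
  interval_cases r
  · exact L19459
  · exact L8535
  · exact L8623
  · exact L19476
  · exact L109179
  · exact L8637
  · exact L8641
  · exact L8719
  · exact L19500
  · exact L19528
  · exact L19540
  · exact L8740
  · exact L16857
  · exact L16891
  · exact L19564
  · exact L8873
  · exact L19590
  · exact L112568
  · exact L112219
  · exact L19622
  · exact L112575
  · exact L8894
  · exact L19656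
  · exact L8902
  · exact L19666
  · exact L18549
  · exact L19653
  · exact L9178
  · exact L19698
  · exact L9261
  · exact L19740
  · exact L19697
  · exact L19760
  · exact L9276
  · exact L19775
  · exact L18545
  · exact L9390
  · exact L19796
  · exact L115414
  · exact L9400
  · exact L117006
  · exact L9408
  · exact L19826
  · exact L19828
  · exact L9423
  · exact L19257
  · exact L111095
  · exact L19868
  · exact L9440
  · exact L9444
  · exact L19906
  · exact L19843
  · exact L19930
  · exact L18500
  · exact L18501
  · exact L19891
  · exact L18434
  · exact L18452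
  · exact L20006
  · exact L10130
  · exact L20046
  · exact L20058
  · exact L20035
  · exact L20092

theorem cl_b_9 : ∀ r, r < 64 → sm gb (Qf (64 * 9 + r)) = Qf (tab Gen.b (64 * 9 + r)) := by
  intro r hr
  interval_cases r
  · exact L20096
  · exact L10165
  · exact L10169
  · exact L18546
  · exact L20109
  · exact L10497
  · exact L18550
  · exact L10304
  · exact L112569
  · exact L114340
  · exact L112574
  · exact L20192
  · exact L10331
  · exact L20220
  · exact L20232
  · exact L10344
  · exact L20256
  · exact L10358
  · exact L112743
  · exact L10375
  · exact L20283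
  · exact L20315
  · exact L96126
  · exact L20323
  · exact L20337
  · exact L10413
  · exact L20363
  · exact L10423
  · exact L112693
  · exact L20381
  · exact L20393
  · exact L10443
  · exact L18490
  · exact L20416
  · exact L16892
  · exact L91394
  · exact L10496
  · exact L10565
  · exact L20526
  · exact L10632
  · exact L20153
  · exact L10658
  · exact L10664
  · exact L10670
  · exact L18556
  · exact L20703
  · exact L116569
  · exact L109909
  · exact L18571
  · exact L18575
  · exact L20758
  · exact L18586
  · exact L113023
  · exact L18594
  · exact L20802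
  · exact L20804
  · exact L20808
  · exact L18620
  · exact L18624
  · exact L20836
  · exact L18631
  · exact L112546
  · exact L116004
  · exact L18908

theorem cl_b_10 : ∀ r, r < 64 → sm gb (Qf (64 * 10 + r)) = Qf (tab Gen.b (64 * 10 + r)) := by
  intro r hr
  interval_cases r
  · exact L18640
  · exact L117593
  · exact L20900
  · exact L18677
  · exact L18693
  · exact L20697
  · exact L18703
  · exact L18707
  · exact L100550
  · exact L112220
  · exact L21010
  · exact L20983
  · exact L112541
  · exact L21052
  · exact L18738
  · exact L20739
  · exact L21108
  · exact L21126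
  · exact L21138
  · exact L18766
  · exact L21166
  · exact L18778
  · exact L112531
  · exact L113022
  · exact L18799
  · exact L21204
  · exact L18806
  · exact L18818
  · exact L21246
  · exact L18828
  · exact L108767
  · exact L21266
  · exact L20819
  · exact L21288
  · exact L18852
  · exact L18870
  · exact L21372
  · exact L113076
  · exact L19897
  · exact L18890
  · exact L113049
  · exact L21410
  · exact L18903
  · exact L18907
  · exact L80529
  · exact L21506
  · exact L112477
  · exact L18999
  · exact L19027
  · exact L19054
  · exact L19046
  · exact L21676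
  · exact L19079
  · exact L21718
  · exact L114407
  · exact L112476
  · exact L21742
  · exact L112827
  · exact L19135
  · exact L19109
  · exact L21777
  · exact L115059
  · exact L21213
  · exact L19134

theorem cl_b_11 : ∀ r, r < 64 → sm gb (Qf (64 * 11 + r)) = Qf (tab Gen.b (64 * 11 + r)) := by
  intro r hr
  interval_cases r
  · exact L19387
  · exact L21851
  · exact L21774
  · exact L19155
  · exact L21905
  · exact L19181
  · exact L19190
  · exact L21969
  · exact L21993
  · exact L19215
  · exact L22006
  · exact L22025
  · exact L19235
  · exact L22041
  · exact L22045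
  · exact L19252
  · exact L19256
  · exact L114744
  · exact L22060
  · exact L22081
  · exact L19269
  · exact L20029
  · exact L22119
  · exact L115344
  · exact L22163
  · exact L111094
  · exact L19309
  · exact L22197
  · exact L22201
  · exact L19335
  · exact L22225
  · exact L19353
  · exact L22241
  · exact L22255
  · exact L19369
  · exact L22280
  · exact L19386
  · exact L110542
  · exact L22350
  · exact L19405
  · exact L19417
  · exact L19425
  · exact L19433
  · exact L22471
  · exact L22498
  · exact L109225
  · exact L19460
  · exact L22301
  · exact L101212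
  · exact L19477
  · exact L117007
  · exact L22572
  · exact L19499
  · exact L22617
  · exact L112659
  · exact L112228
  · exact L22663
  · exact L112231
  · exact L19529
  · exact L22701
  · exact L19541
  · exact L22719
  · exact L22696
  · exact L19565

theorem cl_b_12 : ∀ r, r < 64 → sm gb (Qf (64 * 12 + r)) = Qf (tab Gen.b (64 * 12 + r)) := by
  intro r hr
  interval_cases r
  · exact L118214
  · exact L101213
  · exact L22745
  · exact L19591
  · exact L22799
  · exact L22801
  · exact L19623
  · exact L22837
  · exact L22851
  · exact L22855
  · exact L19652
  · exact L22875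
  · exact L19657
  · exact L112600
  · exact L19667
  · exact L22919
  · exact L117362
  · exact L111027
  · exact L22286
  · exact L19696
  · exact L19699
  · exact L109807
  · exact L23007
  · exact L115413
  · exact L109908
  · exact L23039
  · exact L111028
  · exact L19741
  · exact L114743
  · exact L23085
  · exact L19761
  · exact L23105
  · exact L19774
  · exact L22012
  · exact L23126
  · exact L114757
  · exact L21884
  · exact L22139
  · exact L23187
  · exact L19797
  · exact L114648
  · exact L117812
  · exact L114753
  · exact L23249
  · exact L19827
  · exact L19829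
  · exact L23271
  · exact L23287
  · exact L19842
  · exact L23303
  · exact L23315
  · exact L23335
  · exact L19869
  · exact L23355
  · exact L23359
  · exact L19890
  · exact L19896
  · exact L23393
  · exact L19907
  · exact L23410
  · exact L117942
  · exact L23298
  · exact L23445
  · exact L19931

theorem cl_b_13 : ∀ r, r < 64 → sm gb (Qf (64 * 13 + r)) = Qf (tab Gen.b (64 * 13 + r)) := by
  intro r hr
  interval_cases r
  · exact L23467
  · exact L79705
  · exact L20007
  · exact L116411
  · exact L23613
  · exact L115345
  · exact L20028
  · exact L20034
  · exact L23645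
  · exact L110543
  · exact L20047
  · exact L113038
  · exact L20059
  · exact L23701
  · exact L23705
  · exact L112826
  · exact L20093
  · exact L20097
  · exact L23741
  · exact L20108
  · exact L114339
  · exact L116024
  · exact L20422
  · exact L23797
  · exact L23762
  · exact L23817
  · exact L23821
  · exact L116748
  · exact L20152
  · exact L115395
  · exact L112658
  · exact L90378
  · exact L20193
  · exact L21958
  · exact L116568
  · exact L24013
  · exact L24029
  · exact L20221
  · exact L20233
  · exact L112692
  · exact L113039
  · exact L115459
  · exact L20257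
  · exact L21957
  · exact L20282
  · exact L116749
  · exact L24156
  · exact L116675
  · exact L96114
  · exact L20316
  · exact L20324
  · exact L24377
  · exact L20338
  · exact L112708
  · exact L118215
  · exact L116662
  · exact L24427
  · exact L20364
  · exact L20382
  · exact L114608
  · exact L20394
  · exact L113055
  · exact L24541
  · exact L20415

theorem cl_b_14 : ∀ r, r < 64 → sm gb (Qf (64 * 14 + r)) = Qf (tab Gen.b (64 * 14 + r)) := by
  intro r hr
  interval_cases r
  · exact L20421
  · exact L24655
  · exact L24562
  · exact L24683
  · exact L112486
  · exact L20527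
  · exact L24851
  · exact L114342
  · exact L112485
  · exact L24891
  · exact L20673
  · exact L115060
  · exact L24102
  · exact L20672
  · exact L20696
  · exact L20702
  · exact L23020
  · exact L25076
  · exact L116544
  · exact L20738
  · exact L25187
  · exact L25209
  · exact L20759
  · exact L116327
  · exact L113077
  · exact L23350
  · exact L113050
  · exact L112969
  · exact L20803
  · exact L20805
  · exact L20809
  · exact L25341
  · exact L20818
  · exact L112542
  · exact L116031
  · exact L111891
  · exact L20837
  · exact L25415
  · exact L112976
  · exact L117592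
  · exact L114406
  · exact L100551
  · exact L25465
  · exact L114752
  · exact L20901
  · exact L25036
  · exact L116674
  · exact L117943
  · exact L25683
  · exact L20982
  · exact L117920
  · exact L112227
  · exact L111960
  · exact L21011
  · exact L25764
  · exact L116543
  · exact L108503
  · exact L112232
  · exact L21053
  · exact L21217
  · exact L25907
  · exact L21109
  · exact L25941
  · exact L21127

theorem cl_b_15 : ∀ r, r < 64 → sm gb (Qf (64 * 15 + r)) = Qf (tab Gen.b (64 * 15 + r)) := by
  intro r hr
  interval_cases r
  · exact L25969
  · exact L21139
  · exact L108766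
  · exact L116328
  · exact L25938
  · exact L26011
  · exact L21167
  · exact L26075
  · exact L117561
  · exact L21205
  · exact L26095
  · exact L21212
  · exact L21216
  · exact L26169
  · exact L25322
  · exact L26195
  · exact L21247
  · exact L21267
  · exact L117921
  · exact L113363
  · exact L21289
  · exact L26341
  · exact L111890
  · exact L21373
  · exact L26525
  · exact L114670
  · exact L112970
  · exact L23384
  · exact L112975
  · exact L21411
  · exact L26577
  · exact L112937
  · exact L80530
  · exact L26603
  · exact L21507
  · exact L21621
  · exact L21677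
  · exact L27058
  · exact L117361
  · exact L21719
  · exact L27181
  · exact L117813
  · exact L21743
  · exact L110477
  · exact L27093
  · exact L27243
  · exact L27306
  · exact L106990
  · exact L27269
  · exact L21773
  · exact L21916
  · exact L21778
  · exact L111279
  · exact L26110
  · exact L27375
  · exact L22466
  · exact L21852
  · exact L27484
  · exact L21883
  · exact L27316
  · exact L109806
  · exact L21906
  · exact L106951
  · exact L110931

theorem cl_b_16 : ∀ r, r < 64 → sm gb (Qf (64 * 16 + r)) = Qf (tab Gen.b (64 * 16 + r)) := by
  intro r hr
  interval_cases r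
  · exact L21915
  · exact L21970
  · exact L21994
  · exact L27727
  · exact L22005
  · exact L22011
  · exact L27748
  · exact L22026
  · exact L27793
  · exact L27698
  · exact L106827
  · exact L22042
  · exact L22046
  · exact L114206
  · exact L110930
  · exact L22059
  · exact L27867
  · exact L113693
  · exact L27862
  · exact L27897
  · exact L22082
  · exact L22140
  · exact L27941
  · exact L117522
  · exact L22120
  · exact L22164
  · exact L88183
  · exact L116661
  · exact L28049
  · exact L28053
  · exact L22198
  · exact L22202
  · exact L28107
  · exact L22226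
  · exact L113686
  · exact L114557
  · exact L114604
  · exact L22242
  · exact L28201
  · exact L22256
  · exact L114649
  · exact L28227
  · exact L22279
  · exact L22285
  · exact L28248
  · exact L22302
  · exact L106950
  · exact L28295
  · exact L22351
  · exact L27092
  · exact L27984
  · exact L115041
  · exact L88052
  · exact L27305
  · exact L107005
  · exact L106989
  · exact L22467
  · exact L22470
  · exact L116744
  · exact L28485
  · exact L96052
  · exact L22499
  · exact L116412
  · exact L22573

theorem cl_b_17 : ∀ r, r < 64 → sm gb (Qf (64 * 17 + r)) = Qf (tab Gen.b (64 * 17 + r)) := by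
  intro r hr
  interval_cases r
  · exact L25108
  · exact L71417
  · exact L116743
  · exact L22602
  · exact L28696
  · exact L22618
  · exact L28758
  · exact L28762
  · exact L22664
  · exact L28805
  · exact L28820
  · exact L28824
  · exact L22695
  · exact L28854
  · exact L22702
  · exact L115482
  · exact L22720
  · exact L114831
  · exact L118170
  · exact L22746
  · exact L117126
  · exact L22800
  · exact L22802
  · exact L29096
  · exact L115458
  · exact L23724
  · exact L115319
  · exact L22838
  · exact L22852
  · exact L22856
  · exact L29224
  · exact L112601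
  · exact L22876
  · exact L29264
  · exact L110621
  · exact L22920
  · exact L29319
  · exact L88051
  · exact L29334
  · exact L29346
  · exact L29368
  · exact L29398
  · exact L23008
  · exact L23019
  · exact L23040
  · exact L116666
  · exact L114669
  · exact L117784
  · exact L114756
  · exact L23086
  · exact L113694
  · exact L114605
  · exact L114558
  · exact L23106
  · exact L29614
  · exact L29632
  · exact L23125
  · exact L23418
  · exact L118009
  · exact L29641
  · exact L114789
  · exact L29682
  · exact L23591
  · exact L29698

theorem cl_b_18 : ∀ r, r < 64 → sm gb (Qf (64 * 18 + r)) = Qf (tab Gen.b (64 * 18 + r)) := by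
  intro r hr
  interval_cases r
  · exact L23188
  · exact L29734
  · exact L81212
  · exact L23262
  · exact L29796
  · exact L23250
  · exact L29892
  · exact L29079
  · exact L23261
  · exact L26516
  · exact L29928
  · exact L29946
  · exact L23272
  · exact L117873
  · exact L29982
  · exact L23288
  · exact L23297
  · exact L30016
  · exact L23304
  · exact L114422
  · exact L23316
  · exact L23336
  · exact L30100
  · exact L23349
  · exact L113566
  · exact L23356
  · exact L23360
  · exact L30156
  · exact L107043
  · exact L79704
  · exact L23383
  · exact L23394
  · exact L117511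
  · exact L30234
  · exact L23409
  · exact L29323
  · exact L23417
  · exact L30257
  · exact L88182
  · exact L30296
  · exact L23446
  · exact L114809
  · exact L117273
  · exact L30340
  · exact L23468
  · exact L23592
  · exact L116491
  · exact L116575
  · exact L23614
  · exact L101253
  · exact L30652
  · exact L23646
  · exact L30718
  · exact L114609
  · exact L28256
  · exact L113054
  · exact L112963
  · exact L23702
  · exact L23706
  · exact L117125
  · exact L23723
  · exact L90377
  · exact L85574
  · exact L24452

theorem cl_b_19 : ∀ r, r < 64 → sm gb (Qf (64 * 19 + r)) = Qf (tab Gen.b (64 * 19 + r)) := by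
  intro r hr
  interval_cases r
  · exact L23742
  · exact L30906
  · exact L111799
  · exact L23761
  · exact L114343
  · exact L115396
  · exact L116068
  · exact L23798
  · exact L117571
  · exact L31022
  · exact L23818
  · exact L23822
  · exact L31043
  · exact L115988
  · exact L24014
  · exact L24030
  · exact L112707
  · exact L118169
  · exact L24101
  · exact L24155
  · exact L116697
  · exact L109218
  · exact L71416
  · exact L116667
  · exact L31857
  · exact L24378
  · exact L81213
  · exact L118190
  · exact L32005
  · exact L24428
  · exact L113154
  · exact L110640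
  · exact L29209
  · exact L24451
  · exact L112962
  · exact L28218
  · exact L111800
  · exact L24542
  · exact L115076
  · exact L111791
  · exact L24561
  · exact L32319
  · exact L24656
  · exact L107233
  · exact L32579
  · exact L24684
  · exact L24852
  · exact L117429
  · exact L114330
  · exact L24892
  · exact L115123
  · exact L111726
  · exact L25035
  · exact L29441
  · exact L25075
  · exact L25107
  · exact L116528
  · exact L33238
  · exact L25188
  · exact L25210
  · exact L109984
  · exact L113364
  · exact L29887
  · exact L33526

theorem cl_b_20 : ∀ r, r < 64 → sm gb (Qf (64 * 20 + r)) = Qf (tab Gen.b (64 * 20 + r)) := by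
  intro r hr
  interval_cases r
  · exact L25321
  · exact L108502
  · exact L85558
  · exact L111666
  · exact L25342
  · exact L111961
  · exact L117779
  · exact L112936
  · exact L25416
  · exact L33792
  · exact L25466
  · exact L117560
  · exact L34215
  · exact L116693
  · exact L116696
  · exact L25684
  · exact L34357
  · exact L116458
  · exact L109532
  · exact L117912
  · exact L111941
  · exact L25763
  · exact L116529
  · exact L26028
  · exact L25908
  · exact L34854
  · exact L25937
  · exact L25942
  · exact L109985
  · exact L34849
  · exact L115522
  · exact L25970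
  · exact L26012
  · exact L35086
  · exact L34911
  · exact L26027
  · exact L26076
  · exact L114832
  · exact L26096
  · exact L115077
  · exact L26109
  · exact L111358
  · exact L26170
  · exact L117911
  · exact L106083
  · exact L117202
  · exact L26196
  · exact L35538
  · exact L111665
  · exact L116457
  · exact L26342
  · exact L115583
  · exact L26515
  · exact L114076
  · exact L26526
  · exact L107992
  · exact L30185
  · exact L36302
  · exact L115320
  · exact L26578
  · exact L115124
  · exact L107234
  · exact L111280
  · exact L26604

theorem cl_b_21 : ∀ r, r < 64 → sm gb (Qf (64 * 21 + r)) = Qf (tab Gen.b (64 * 21 + r)) := by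
  intro r hr
  interval_cases r
  · exact L36937
  · exact L27059
  · exact L37474
  · exact L37550
  · exact L27182
  · exact L37571
  · exact L117783
  · exact L110560
  · exact L27244
  · exact L116501
  · exact L37718
  · exact L115040
  · exact L27270
  · exact L37739
  · exact L37760
  · exact L37772
  · exact L117516
  · exact L27315
  · exact L114207
  · exact L27376
  · exact L111714
  · exact L27485
  · exact L38160
  · exact L113898
  · exact L38190
  · exact L106961
  · exact L107044
  · exact L113877
  · exact L114158
  · exact L27697
  · exact L106826
  · exact L116915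
  · exact L27728
  · exact L114190
  · exact L107004
  · exact L27747
  · exact L118097
  · exact L113687
  · exact L38539
  · exact L38606
  · exact L27794
  · exact L116914
  · exact L116920
  · exact L38722
  · exact L30145
  · exact L114216
  · exact L113716
  · exact L113878
  · exact L30253
  · exact L27861
  · exact L27868
  · exact L117517
  · exact L27898
  · exact L117521
  · exact L106940
  · exact L27942
  · exact L106960
  · exact L27983
  · exact L114189
  · exact L118010
  · exact L88199
  · exact L28050
  · exact L28054
  · exact L28108

theorem cl_b_22 : ∀ r, r < 64 → sm gb (Qf (64 * 22 + r)) = Qf (tab Gen.b (64 * 22 + r)) := by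
  intro r hr
  interval_cases r
  · exact L84978
  · exact L107020
  · exact L114600
  · exact L113565
  · exact L114168
  · exact L28202
  · exact L107033
  · exact L28217
  · exact L28228
  · exact L39948
  · exact L28247
  · exact L28255
  · exact L116574
  · exact L28296
  · exact L110620
  · exact L40027
  · exact L114251
  · exact L115031
  · exact L117323
  · exact L113897
  · exact L107021
  · exact L107092
  · exact L116490
  · exact L28444
  · exact L116692
  · exact L28486
  · exact L118202
  · exact L33017
  · exact L40666
  · exact L28697
  · exact L117185
  · exact L28759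
  · exact L28763
  · exact L112206
  · exact L115521
  · exact L28800
  · exact L40897
  · exact L28806
  · exact L28821
  · exact L28825
  · exact L38747
  · exact L115483
  · exact L28855
  · exact L59031
  · exact L110561
  · exact L117322
  · exact L117274
  · exact L113153
  · exact L29078
  · exact L118191
  · exact L30799
  · exact L29097
  · exact L111790
  · exact L116067
  · exact L29208
  · exact L116921
  · exact L29225
  · exact L110641
  · exact L29265
  · exact L41944
  · exact L29318
  · exact L29322
  · exact L107547
  · exact L41973

theorem cl_b_23 : ∀ r, r < 64 → sm gb (Qf (64 * 23 + r)) = Qf (tab Gen.b (64 * 23 + r)) := by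
  intro r hr
  interval_cases r
  · exact L29335
  · exact L29347
  · exact L29369
  · exact L29399
  · exact L117510
  · exact L118208
  · exact L113717
  · exact L29440
  · exact L114790
  · exact L117874
  · exact L117780
  · exact L114130
  · exact L40821
  · exact L99229
  · exact L113703
  · exact L42620
  · exact L29615
  · exact L114392
  · exact L114505
  · exact L29633
  · exact L38937
  · exact L29640
  · exact L30267
  · exact L107874
  · exact L88198
  · exact L29683
  · exact L29699
  · exact L114599
  · exact L42815
  · exact L89506
  · exact L29735
  · exact L118098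
  · exact L114157
  · exact L29797
  · exact L107091
  · exact L29886
  · exact L29893
  · exact L98503
  · exact L107546
  · exact L114808
  · exact L114421
  · exact L29929
  · exact L107399
  · exact L29947
  · exact L43590
  · exact L29983
  · exact L101252
  · exact L114142
  · exact L30017
  · exact L94008
  · exact L107938
  · exact L43802
  · exact L30101
  · exact L43830
  · exact L107873
  · exact L30144
  · exact L117203
  · exact L113973
  · exact L99161
  · exact L30157
  · exact L107580
  · exact L107932
  · exact L30184
  · exact L30235

theorem cl_b_24 : ∀ r, r < 64 → sm gb (Qf (64 * 24 + r)) = Qf (tab Gen.b (64 * 24 + r)) := by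
  intro r hr
  interval_cases r
  · exact L75144
  · exact L113169
  · exact L44168
  · exact L30252
  · exact L30256
  · exact L84592
  · exact L30266
  · exact L101374
  · exact L107933
  · exact L30297
  · exact L117420
  · exact L117430
  · exact L114077
  · exact L117459
  · exact L117094
  · exact L30341
  · exact L114250
  · exact L37575
  · exact L116502
  · exact L30653
  · exact L117095
  · exact L30719
  · exact L98798
  · exact L42063
  · exact L117186
  · exact L30798
  · exact L115989
  · exact L84593
  · exact L111798
  · exact L115032
  · exact L107993
  · exact L30907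
  · exact L45438
  · exact L114393
  · exact L39973
  · exact L117570
  · exact L114329
  · exact L31023
  · exact L98502
  · exact L31042
  · exact L114504
  · exact L32556
  · exact L118201
  · exact L31656
  · exact L118207
  · exact L118199
  · exact L31858
  · exact L111369
  · exact L111359
  · exact L32006
  · exact L94007
  · exact L111797
  · exact L93120
  · exact L111725
  · exact L99063
  · exact L39909
  · exact L32320
  · exact L32555
  · exact L32580
  · exact L79603
  · exact L117476
  · exact L49574
  · exact L33016
  · exact L33239

theorem cl_b_25 : ∀ r, r < 64 → sm gb (Qf (64 * 25 + r)) = Qf (tab Gen.b (64 * 25 + r)) := by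
  intro r hr
  interval_cases r
  · exact L106084
  · exact L43324
  · exact L33527
  · exact L111942
  · exact L115609
  · exact L115582
  · exact L98799
  · exact L33793
  · exact L34216
  · exact L52676
  · exact L109651
  · exact L34356
  · exact L117909
  · exact L52977
  · exact L34848
  · exact L34855
  · exact L112205
  · exact L34910
  · exact L111620
  · exact L53892
  · exact L115608
  · exact L35087
  · exact L54443
  · exact L111912
  · exact L117910
  · exact L35539
  · exact L111915
  · exact L92438
  · exact L107574
  · exact L36303
  · exact L36938
  · exact L116820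
  · exact L37475
  · exact L37551
  · exact L89507
  · exact L37570
  · exact L37574
  · exact L111396
  · exact L75143
  · exact L59030
  · exact L111715
  · exact L37719
  · exact L107564
  · exact L84507
  · exact L117734
  · exact L37738
  · exact L114217
  · exact L59766
  · exact L101367
  · exact L59798
  · exact L103132
  · exact L37761
  · exact L37773
  · exact L114131
  · exact L114169
  · exact L111469
  · exact L111397
  · exact L38161
  · exact L38191
  · exact L106941
  · exact L113804
  · exact L107032
  · exact L99160
  · exact L84977

theorem cl_b_26 : ∀ r, r < 64 → sm gb (Qf (64 * 26 + r)) = Qf (tab Gen.b (64 * 26 + r)) := by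
  intro r hr
  interval_cases r
  · exact L117460
  · exact L38538
  · exact L38607
  · exact L113702
  · exact L38723
  · exact L38746
  · exact L117456
  · exact L117421
  · exact L84182
  · exact L114009
  · exact L38936
  · exact L111507
  · exact L117477
  · exact L114141
  · exact L107937
  · exact L39908
  · exact L39949
  · exact L107969
  · exact L39972
  · exact L40026
  · exact L101405
  · exact L107398
  · exact L101373
  · exact L99230
  · exact L63473
  · exact L40303
  · exact L40667
  · exact L64311
  · exact L40820
  · exact L118198
  · exact L40838
  · exact L118384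
  · exact L64797
  · exact L40898
  · exact L111916
  · exact L40917
  · exact L40967
  · exact L111368
  · exact L111449
  · exact L41945
  · exact L107968
  · exact L41972
  · exact L102914
  · exact L107573
  · exact L42062
  · exact L113972
  · exact L107581
  · exact L42621
  · exact L98795
  · exact L117733
  · exact L44201
  · exact L42814
  · exact L113803
  · exact L43323
  · exact L98519
  · exact L107414
  · exact L43591
  · exact L116819
  · exact L43803
  · exact L43831
  · exact L103131
  · exact L113168
  · exact L107931
  · exact L117455

theorem cl_b_27 : ∀ r, r < 54 → sm gb (Qf (64 * 27 + r)) = Qf (tab Gen.b (64 * 27 + r)) := by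
  intro r hr
  interval_cases r
  · exact L84183
  · exact L69946
  · exact L44169
  · exact L98647
  · exact L44200
  · exact L101368
  · exact L107930
  · exact L107563
  · exact L111506
  · exact L99062
  · exact L118356
  · exact L84506
  · exact L45437
  · exact L103206
  · exact L98518
  · exact L98646
  · exact L98794
  · exact L111619
  · exact L93119
  · exact L79602
  · exact L101404
  · exact L114010
  · exact L49575
  · exact L118383
  · exact L118459
  · exact L92437
  · exact L52675
  · exact L52978
  · exact L53891
  · exact L108374
  · exact L118470
  · exact L54444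
  · exact L118400
  · exact L111468
  · exact L111448
  · exact L111466
  · exact L111467
  · exact L107413
  · exact L102913
  · exact L103205
  · exact L59767
  · exact L118343
  · exact L118355
  · exact L59799
  · exact L118344
  · exact L63474
  · exact L64310
  · exact L64798
  · exact L118401
  · exact L118485
  · exact L69947
  · exact L118460
  · exact L118471
  · exact L118484

theorem cl_b : ∀ i, i < 1782 → sm gb (Qf i) = Qf (tab Gen.b i) := by
  intro i hi
  obtain ⟨k, r, rfl, hr⟩ : ∃ k r, i = 64 * k + r ∧ r < 64 := ⟨i / 64, i % 64, by omega, by omega⟩
  have hk : k < 28 := by omega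
  interval_cases k
  · exact cl_b_0 r (by omega)
  · exact cl_b_1 r (by omega)
  · exact cl_b_2 r (by omega)
  · exact cl_b_3 r (by omega)
  · exact cl_b_4 r (by omega)
  · exact cl_b_5 r (by omega)
  · exact cl_b_6 r (by omega)
  · exact cl_b_7 r (by omega)
  · exact cl_b_8 r (by omega)
  · exact cl_b_9 r (by omega)
  · exact cl_b_10 r (by omega)
  · exact cl_b_11 r (by omega)
  · exact cl_b_12 r (by omega)
  · exact cl_b_13 r (by omega)
  · exact cl_b_14 r (by omega)
  · exact cl_b_15 r (by omega)
  · exact cl_b_16 r (by omega)
  · exact cl_b_17 r (by omega)
  · exact cl_b_18 r (by omega)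
  · exact cl_b_19 r (by omega)
  · exact cl_b_20 r (by omega)
  · exact cl_b_21 r (by omega)
  · exact cl_b_22 r (by omega)
  · exact cl_b_23 r (by omega)
  · exact cl_b_24 r (by omega)
  · exact cl_b_25 r (by omega)
  · exact cl_b_26 r (by omega)
  · exact cl_b_27 r (by omega)

theorem cl_c_0 : ∀ r, r < 64 → sm gc (Qf (64 * 0 + r)) = Qf (tab Gen.c (64 * 0 + r)) := by
  intro r hr
  interval_cases r
  · exact L2
  · exact L9
  · exact L23
  · exact L37
  · exact L24
  · exact L68
  · exact L70
  · exact L38
  · exact L87
  · exact L67
  · exact L71
  · exact L109
  · exact L132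
  · exact L88
  · exact L151
  · exact L156
  · exact L102
  · exact L108
  · exact L216
  · exact L214
  · exact L247
  · exact L187
  · exact L213
  · exact L133
  · exact L283
  · exact L147
  · exact L150
  · exact L155
  · exact L306
  · exact L318
  · exact L171
  · exact L330
  · exact L186
  · exact L217
  · exact L354
  · exact L17788
  · exact L270
  · exact L248
  · exact L388
  · exact L392
  · exact L398
  · exact L269
  · exact L382
  · exact L282
  · exact L287
  · exact L292
  · exact L295
  · exact L298
  · exact L499
  · exact L305
  · exact L17789
  · exact L518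
  · exact L319
  · exact L331
  · exact L553
  · exact L557
  · exact L547
  · exact L353
  · exact L17781
  · exact L17798
  · exact L381
  · exact L653
  · exact L387
  · exact L391

theorem cl_c_1 : ∀ r, r < 64 → sm gc (Qf (64 * 1 + r)) = Qf (tab Gen.c (64 * 1 + r)) := by
  intro r hr
  interval_cases r
  · exact L397
  · exact L672
  · exact L680
  · exact L693
  · exact L423
  · exact L634
  · exact L644
  · exact L648
  · exact L652
  · exact L761
  · exact L457
  · exact L462
  · exact L467
  · exact L805
  · exact L474
  · exact L479
  · exact L17799
  · exact L489
  · exact L496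
  · exact L500
  · exact L859
  · exact L17782
  · exact L519
  · exact L546
  · exact L552
  · exact L556
  · exact L967
  · exact L945
  · exact L949
  · exact L1028
  · exact L17794
  · exact L633
  · exact L18348
  · exact L643
  · exact L647
  · exact L651
  · exact L654
  · exact L1175
  · exact L17841
  · exact L1200
  · exact L671
  · exact L679
  · exact L975
  · exact L692
  · exact L1226
  · exact L1251
  · exact L1102
  · exact L1108
  · exact L1114
  · exact L1302
  · exact L1134
  · exact L1140
  · exact L1150
  · exact L1163
  · exact L762
  · exact L1410
  · exact L791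
  · exact L798
  · exact L1436
  · exact L806
  · exact L1457
  · exact L1461
  · exact L17793
  · exact L824

theorem cl_c_2 : ∀ r, r < 64 → sm gc (Qf (64 * 2 + r)) = Qf (tab Gen.c (64 * 2 + r)) := by
  intro r hr
  interval_cases r
  · exact L833
  · exact L1531
  · exact L1541
  · exact L1451
  · exact L858
  · exact L1562
  · exact L944
  · exact L948
  · exact L1786
  · exact L966
  · exact L974
  · exact L1856
  · exact L1743
  · exact L17840
  · exact L1029
  · exact L18347
  · exact L1101
  · exact L1107
  · exact L1113
  · exact L18281
  · exact L18274
  · exact L18388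
  · exact L2138
  · exact L1133
  · exact L1139
  · exact L1755
  · exact L1149
  · exact L1162
  · exact L1174
  · exact L2231
  · exact L17828
  · exact L2249
  · exact L1201
  · exact L2260
  · exact L2266
  · exact L1799
  · exact L1225
  · exact L1803
  · exact L1807
  · exact L2343
  · exact L2351
  · exact L1252
  · exact L2436
  · exact L2081
  · exact L2089
  · exact L2470
  · exact L1303
  · exact L2503
  · exact L2509
  · exact L2157
  · exact L2174
  · exact L2543
  · exact L2556
  · exact L2497
  · exact L1411
  · exact L2749
  · exact L2755
  · exact L2768
  · exact L2792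
  · exact L1437
  · exact L2808
  · exact L1450
  · exact L2742
  · exact L1456

theorem cl_c_3 : ∀ r, r < 64 → sm gc (Qf (64 * 3 + r)) = Qf (tab Gen.c (64 * 3 + r)) := by
  intro r hr
  interval_cases r
  · exact L1460
  · exact L2892
  · exact L2872
  · exact L2883
  · exact L2942
  · exact L2958
  · exact L3016
  · exact L1532
  · exact L3032
  · exact L1542
  · exact L3059
  · exact L2844
  · exact L2852
  · exact L2856
  · exact L3086
  · exact L1563
  · exact L3509
  · exact L1742
  · exact L1754
  · exact L1787
  · exact L3592
  · exact L1798
  · exact L1802
  · exact L1806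
  · exact L1857
  · exact L3768
  · exact L17829
  · exact L17294
  · exact L3762
  · exact L18280
  · exact L18275
  · exact L18389
  · exact L4210
  · exact L2080
  · exact L2088
  · exact L18140
  · exact L18392
  · exact L4323
  · exact L18267
  · exact L18377
  · exact L17041
  · exact L2133
  · exact L2132
  · exact L2139
  · exact L4408
  · exact L4412
  · exact L3524
  · exact L2156
  · exact L2173
  · exact L18141
  · exact L4541
  · exact L2232
  · exact L4586
  · exact L4599
  · exact L2250
  · exact L4402
  · exact L2259
  · exact L2265
  · exact L4663
  · exact L4654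
  · exact L3602
  · exact L3608
  · exact L4735
  · exact L17040

theorem cl_c_4 : ∀ r, r < 64 → sm gc (Qf (64 * 4 + r)) = Qf (tab Gen.c (64 * 4 + r)) := by
  intro r hr
  interval_cases r
  · exact L15821
  · exact L4780
  · exact L2344
  · exact L2352
  · exact L2363
  · exact L2437
  · exact L4975
  · exact L4983
  · exact L5004
  · exact L17295
  · exact L2471
  · exact L17276
  · exact L2496
  · exact L5115
  · exact L2502
  · exact L2508
  · exact L5140
  · exact L5155
  · exact L5177
  · exact L5192
  · exact L17277
  · exact L2544
  · exact L2557
  · exact L5281
  · exact L5096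
  · exact L5106
  · exact L5112
  · exact L15157
  · exact L2743
  · exact L2748
  · exact L2754
  · exact L5791
  · exact L5811
  · exact L2769
  · exact L5831
  · exact L15822
  · exact L2793
  · exact L17366
  · exact L2807
  · exact L2843
  · exact L5993
  · exact L2851
  · exact L2855
  · exact L5766
  · exact L5772
  · exact L5780
  · exact L6064
  · exact L2871
  · exact L2877
  · exact L2882
  · exact L2893
  · exact L6108
  · exact L6121
  · exact L6204
  · exact L2943
  · exact L6224
  · exact L2959
  · exact L6259
  · exact L3017
  · exact L18441
  · exact L3031
  · exact L6431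
  · exact L3058
  · exact L6449

theorem cl_c_5 : ∀ r, r < 64 → sm gc (Qf (64 * 5 + r)) = Qf (tab Gen.c (64 * 5 + r)) := by
  intro r hr
  interval_cases r
  · exact L5986
  · exact L5992
  · exact L6463
  · exact L6014
  · exact L6027
  · exact L6476
  · exact L3087
  · exact L6493
  · exact L3510
  · exact L7361
  · exact L3523
  · exact L7355
  · exact L3591
  · exact L7512
  · exact L3601
  · exact L3607
  · exact L3761
  · exact L7736
  · exact L3767
  · exact L7763
  · exact L17247
  · exact L7717
  · exact L7727
  · exact L7733
  · exact L8508
  · exact L18266
  · exact L18378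
  · exact L18391
  · exact L4211
  · exact L8629
  · exact L8635
  · exact L11575
  · exact L18381
  · exact L4324
  · exact L8730
  · exact L8736
  · exact L17122
  · exact L4362
  · exact L4361
  · exact L4401
  · exact L4969
  · exact L4407
  · exact L4411
  · exact L8917
  · exact L8898
  · exact L8908
  · exact L11574
  · exact L4542
  · exact L8723
  · exact L17723
  · exact L4585
  · exact L9285
  · exact L4600
  · exact L8870
  · exact L8878
  · exact L8882
  · exact L9421
  · exact L15158
  · exact L4653
  · exact L9447
  · exact L4664
  · exact L9464
  · exact L9513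
  · exact L17121

theorem cl_c_6 : ∀ r, r < 64 → sm gc (Qf (64 * 6 + r)) = Qf (tab Gen.c (64 * 6 + r)) := by
  intro r hr
  interval_cases r
  · exact L15794
  · exact L9582
  · exact L4736
  · exact L4781
  · exact L17367
  · exact L15679
  · exact L4968
  · exact L4974
  · exact L4982
  · exact L10178
  · exact L17246
  · exact L5005
  · exact L17311
  · exact L5095
  · exact L10327
  · exact L5105
  · exact L5111
  · exact L5116
  · exact L10383
  · exact L10389
  · exact L10397
  · exact L7759
  · exact L5139
  · exact L5149
  · exact L5154
  · exact L10466
  · exact L10485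
  · exact L17310
  · exact L5178
  · exact L5193
  · exact L10561
  · exact L10621
  · exact L5280
  · exact L10641
  · exact L10316
  · exact L10324
  · exact L10352
  · exact L10369
  · exact L18469
  · exact L18569
  · exact L18471
  · exact L18473
  · exact L5765
  · exact L5771
  · exact L5779
  · exact L18629
  · exact L18508
  · exact L18651
  · exact L5792
  · exact L18660
  · exact L15793
  · exact L5812
  · exact L5830
  · exact L18466
  · exact L18440
  · exact L6445
  · exact L18701
  · exact L18713
  · exact L5985
  · exact L5991
  · exact L5994
  · exact L18748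
  · exact L18752
  · exact L94389

theorem cl_c_7 : ∀ r, r < 64 → sm gc (Qf (64 * 7 + r)) = Qf (tab Gen.c (64 * 7 + r)) := by
  intro r hr
  interval_cases r
  · exact L18795
  · exact L6013
  · exact L6019
  · exact L6026
  · exact L18608
  · exact L18616
  · exact L18845
  · exact L6057
  · exact L110327
  · exact L6056
  · exact L18871
  · exact L6065
  · exact L18886
  · exact L18901
  · exact L18939
  · exact L6109
  · exact L18952
  · exact L6122
  · exact L18961
  · exact L6205
  · exact L6223
  · exact L6258
  · exact L18459
  · exact L18458
  · exact L6432
  · exact L19039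
  · exact L6444
  · exact L6450
  · exact L19073
  · exact L19098
  · exact L19104
  · exact L19110
  · exact L6464
  · exact L19130
  · exact L19148
  · exact L6477
  · exact L6492
  · exact L19175
  · exact L7354
  · exact L17724
  · exact L7360
  · exact L19218
  · exact L100180
  · exact L19195
  · exact L100179
  · exact L19250
  · exact L19258
  · exact L7513
  · exact L19267
  · exact L7716
  · exact L19294
  · exact L7726
  · exact L7732
  · exact L7737
  · exact L19345
  · exact L7758
  · exact L7762
  · exact L19372
  · exact L19388
  · exact L19283
  · exact L19319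
  · exact L19329
  · exact L8509
  · exact L19448

theorem cl_c_8 : ∀ r, r < 64 → sm gc (Qf (64 * 8 + r)) = Qf (tab Gen.c (64 * 8 + r)) := by
  intro r hr
  interval_cases r
  · exact L19456
  · exact L18380
  · exact L19437
  · exact L8628
  · exact L8634
  · exact L19480
  · exact L109094
  · exact L8722
  · exact L8726
  · exact L8729
  · exact L8735
  · exact L19556
  · exact L19535
  · exact L19551
  · exact L8869
  · exact L19277
  · exact L8877
  · exact L8881
  · exact L10145
  · exact L10153
  · exact L10161
  · exact L19650
  · exact L8897
  · exact L18507
  · exact L8907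
  · exact L19668
  · exact L8918
  · exact L15678
  · exact L19494
  · exact L19722
  · exact L19504
  · exact L19510
  · exact L19209
  · exact L19770
  · exact L9286
  · exact L19782
  · exact L19790
  · exact L19571
  · exact L19577
  · exact L19804
  · exact L117008
  · exact L18472
  · exact L19611
  · exact L19830
  · exact L9422
  · exact L19847
  · exact L18468
  · exact L18470
  · exact L19888
  · exact L19898
  · exact L9448
  · exact L19916
  · exact L9463
  · exact L19939
  · exact L19944
  · exact L9514
  · exact L9583
  · exact L18467
  · exact L19681
  · exact L20026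
  · exact L19687
  · exact L19693
  · exact L10144
  · exact L10152

theorem cl_c_9 : ∀ r, r < 64 → sm gc (Qf (64 * 9 + r)) = Qf (tab Gen.c (64 * 9 + r)) := by
  intro r hr
  interval_cases r
  · exact L10160
  · exact L20104
  · exact L19545
  · exact L20122
  · exact L10179
  · exact L20133
  · exact L20136
  · exact L20148
  · exact L112564
  · exact L10315
  · exact L10323
  · exact L10328
  · exact L20199
  · exact L20203
  · exact L112752
  · exact L19313
  · exact L10351
  · exact L10361
  · exact L10368
  · exact L20195
  · exact L10382
  · exact L10388
  · exact L10396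
  · exact L20304
  · exact L20312
  · exact L20357
  · exact L19643
  · exact L104602
  · exact L19629
  · exact L19359
  · exact L19365
  · exact L20411
  · exact L20467
  · exact L10467
  · exact L20484
  · exact L10486
  · exact L20499
  · exact L10560
  · exact L10622
  · exact L20530
  · exact L10642
  · exact L20630
  · exact L112865
  · exact L20662
  · exact L116415
  · exact L20708
  · exact L19863
  · exact L109900
  · exact L18570
  · exact L20741
  · exact L20745
  · exact L20788
  · exact L19879
  · exact L112563
  · exact L19823
  · exact L18607
  · exact L18615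
  · exact L20816
  · exact L94390
  · exact L20838
  · exact L18630
  · exact L20855
  · exact L112751
  · exact L19665

theorem cl_c_10 : ∀ r, r < 64 → sm gc (Qf (64 * 10 + r)) = Qf (tab Gen.c (64 * 10 + r)) := by
  intro r hr
  interval_cases r
  · exact L20876
  · exact L18652
  · exact L18659
  · exact L19003
  · exact L18696
  · exact L111023
  · exact L18702
  · exact L20978
  · exact L20973
  · exact L111071
  · exact L18714
  · exact L21019
  · exact L21025
  · exact L112278
  · exact L112829
  · exact L18747
  · exact L18751
  · exact L21099
  · exact L110473
  · exact L21158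
  · exact L21113
  · exact L110326
  · exact L115808
  · exact L21190
  · exact L18796
  · exact L21201
  · exact L21210
  · exact L21238
  · exact L18836
  · exact L110324
  · exact L18835
  · exact L21270
  · exact L18846
  · exact L90239
  · exact L21306
  · exact L118244
  · exact L18872
  · exact L21381
  · exact L18885
  · exact L21402
  · exact L21393
  · exact L21412
  · exact L18902
  · exact L21429
  · exact L18940
  · exact L18951
  · exact L18960
  · exact L19002
  · exact L19029
  · exact L19038
  · exact L19053
  · exact L19072
  · exact L21698
  · exact L21720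
  · exact L19099
  · exact L112478
  · exact L21745
  · exact L19105
  · exact L21760
  · exact L21769
  · exact L19111
  · exact L21797
  · exact L19131
  · exact L21812

theorem cl_c_11 : ∀ r, r < 64 → sm gc (Qf (64 * 11 + r)) = Qf (tab Gen.c (64 * 11 + r)) := by
  intro r hr
  interval_cases r
  · exact L21839
  · exact L19149
  · exact L21860
  · exact L21854
  · exact L19174
  · exact L21911
  · exact L109899
  · exact L19194
  · exact L19208
  · exact L22001
  · exact L19219
  · exact L100155
  · exact L22033
  · exact L100154
  · exact L22047
  · exact L19251
  · exact L22064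
  · exact L19259
  · exact L19915
  · exact L19266
  · exact L109823
  · exact L19276
  · exact L19282
  · exact L19295
  · exact L118219
  · exact L111096
  · exact L19312
  · exact L19318
  · exact L19328
  · exact L109891
  · exact L19344
  · exact L22235
  · exact L19358
  · exact L19364
  · exact L22275
  · exact L19373
  · exact L22295
  · exact L19389
  · exact L22341
  · exact L22390
  · exact L22424
  · exact L22446
  · exact L19436
  · exact L19442
  · exact L19447
  · exact L19455
  · exact L109100
  · exact L22463
  · exact L22475
  · exact L117009
  · exact L19481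
  · exact L19493
  · exact L22600
  · exact L19503
  · exact L19509
  · exact L19515
  · exact L19520
  · exact L19525
  · exact L22691
  · exact L19534
  · exact L19544
  · exact L19550
  · exact L19557
  · exact L22138

theorem cl_c_12 : ∀ r, r < 64 → sm gc (Qf (64 * 12 + r)) = Qf (tab Gen.c (64 * 12 + r)) := by
  intro r hr
  interval_cases r
  · exact L19570
  · exact L19576
  · exact L22108
  · exact L117358
  · exact L19610
  · exact L20077
  · exact L22831
  · exact L19628
  · exact L19642
  · exact L22857
  · exact L19651
  · exact L114952
  · exact L22706
  · exact L19664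
  · exact L21509
  · exact L19669
  · exact L117015
  · exact L19680
  · exact L19686
  · exact L19692
  · exact L22145
  · exact L111070
  · exact L22589
  · exact L22597
  · exact L19723
  · exact L118245
  · exact L111024
  · exact L23071
  · exact L114745
  · exact L22644
  · exact L23095
  · exact L23109
  · exact L19771
  · exact L23130
  · exact L22078
  · exact L19783
  · exact L22146
  · exact L19791
  · exact L23176
  · exact L23207
  · exact L23219
  · exact L19805
  · exact L114710
  · exact L19822
  · exact L23257
  · exact L23265
  · exact L19831
  · exact L23284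
  · exact L117879
  · exact L19846
  · exact L23312
  · exact L19862
  · exact L23345
  · exact L19878
  · exact L23363
  · exact L19889
  · exact L23382
  · exact L19899
  · exact L23398
  · exact L19914
  · exact L19917
  · exact L23436
  · exact L23153
  · exact L22084

theorem cl_c_13 : ∀ r, r < 64 → sm gc (Qf (64 * 13 + r)) = Qf (tab Gen.c (64 * 13 + r)) := by
  intro r hr
  interval_cases r
  · exact L19938
  · exact L19945
  · exact L24230
  · exact L23583
  · exact L22942
  · exact L109890
  · exact L20027
  · exact L109809
  · exact L23624
  · exact L109824
  · exact L23677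
  · exact L118148
  · exact L112661
  · exact L22966
  · exact L20076
  · exact L112828
  · exact L23721
  · exact L112864
  · exact L23745
  · exact L20105
  · exact L23766
  · exact L112677
  · exact L22716
  · exact L20123
  · exact L22294
  · exact L20132
  · exact L20137
  · exact L111097
  · exact L20149
  · exact L111102
  · exact L112660
  · exact L112557
  · exact L20194
  · exact L20198
  · exact L20202
  · exact L118183
  · exact L112678
  · exact L118164
  · exact L112747
  · exact L110345
  · exact L22186
  · exact L22194
  · exact L24097
  · exact L21954
  · exact L21953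
  · exact L116416
  · exact L20298
  · exact L20303
  · exact L20311
  · exact L116664
  · exact L24367
  · exact L112312
  · exact L104259
  · exact L22808
  · exact L24409
  · exact L20358
  · exact L24426
  · exact L24445
  · exact L118220
  · exact L22250
  · exact L24527
  · exact L22266
  · exact L24545
  · exact L20412

theorem cl_c_14 : ∀ r, r < 64 → sm gc (Qf (64 * 14 + r)) = Qf (tab Gen.c (64 * 14 + r)) := by
  intro r hr
  interval_cases r
  · exact L24566
  · exact L20468
  · exact L23814
  · exact L20483
  · exact L20498
  · exact L20529
  · exact L24857
  · exact L20631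
  · exact L112487
  · exact L112855
  · exact L112873
  · exact L24938
  · exact L20663
  · exact L24982
  · exact L24229
  · exact L25071
  · exact L20709
  · exact L25110
  · exact L109957
  · exact L20740
  · exact L20744
  · exact L25178
  · exact L90238
  · exact L109958
  · exact L117902
  · exact L20789
  · exact L114380
  · exact L112556
  · exact L25307
  · exact L25317
  · exact L110472
  · exact L115615
  · exact L20817
  · exact L90194
  · exact L112279
  · exact L115809
  · exact L25409
  · exact L20839
  · exact L25426
  · exact L114711
  · exact L20854
  · exact L117878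
  · exact L110344
  · exact L20877
  · exact L112479
  · exact L25617
  · exact L93632
  · exact L20972
  · exact L20979
  · exact L25689
  · exact L25696
  · exact L25700
  · exact L111062
  · exact L25686
  · exact L21018
  · exact L21024
  · exact L25780
  · exact L110392
  · exact L112303
  · exact L112313
  · exact L21098
  · exact L25935
  · exact L21112
  · exact L25959

theorem cl_c_15 : ∀ r, r < 64 → sm gc (Qf (64 * 15 + r)) = Qf (tab Gen.c (64 * 15 + r)) := by
  intro r hr
  interval_cases r
  · exact L25914
  · exact L110323
  · exact L111711
  · exact L90193
  · exact L21159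
  · exact L115614
  · exact L26021
  · exact L21191
  · exact L21200
  · exact L26089
  · exact L26097
  · exact L21211
  · exact L26114
  · exact L26173
  · exact L21239
  · exact L113372
  · exact L26213
  · exact L26283
  · exact L21271
  · exact L117667
  · exact L117215
  · exact L26345
  · exact L21307
  · exact L118047
  · exact L21380
  · exact L21392
  · exact L26543
  · exact L21403
  · exact L26556
  · exact L26571
  · exact L21413
  · exact L26588
  · exact L79942
  · exact L21428
  · exact L21508
  · exact L21618
  · exact L117016
  · exact L27060
  · exact L21699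
  · exact L27167
  · exact L21721
  · exact L117359
  · exact L103036
  · exact L21746
  · exact L27232
  · exact L21759
  · exact L27250
  · exact L27255
  · exact L21770
  · exact L27278
  · exact L27282
  · exact L27272
  · exact L21798
  · exact L114951
  · exact L21811
  · exact L21840
  · exact L21853
  · exact L21859
  · exact L22577
  · exact L27475
  · exact L109808
  · exact L110933
  · exact L27599
  · exact L21912

theorem cl_c_16 : ∀ r, r < 64 → sm gc (Qf (64 * 16 + r)) = Qf (tab Gen.c (64 * 16 + r)) := by
  intro r hr
  interval_cases r
  · exact L27620
  · exact L27691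
  · exact L114607
  · exact L27731
  · exact L22002
  · exact L27752
  · exact L22927
  · exact L113627
  · exact L27795
  · exact L22034
  · exact L110871
  · exact L110870
  · exact L27835
  · exact L22048
  · exact L110932
  · exact L27857
  · exact L22063
  · exact L110804
  · exact L23424
  · exact L22077
  · exact L22083
  · exact L22137
  · exact L111516
  · exact L22107
  · exact L27979
  · exact L118107
  · exact L111101
  · exact L116663
  · exact L22185
  · exact L22193
  · exact L88054
  · exact L115358
  · exact L118149
  · exact L114538
  · exact L28157
  · exact L22236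
  · exact L114606
  · exact L118106
  · exact L22249
  · exact L28211
  · exact L22265
  · exact L28231
  · exact L22276
  · exact L28252
  · exact L22293
  · exact L22296
  · exact L28280
  · exact L22340
  · exact L28321
  · exact L28302
  · exact L22391
  · exact L28390
  · exact L22425
  · exact L28408
  · exact L22447
  · exact L28423
  · exact L22462
  · exact L28442
  · exact L22474
  · exact L22488
  · exact L22495
  · exact L114746
  · exact L28431
  · exact L22576

theorem cl_c_17 : ∀ r, r < 64 → sm gc (Qf (64 * 17 + r)) = Qf (tab Gen.c (64 * 17 + r)) := by
  intro r hr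
  interval_cases r
  · exact L28645
  · exact L22588
  · exact L22596
  · exact L22601
  · exact L28679
  · exact L117786
  · exact L22643
  · exact L22651
  · exact L28798
  · exact L22669
  · exact L22682
  · exact L28828
  · exact L22692
  · exact L111347
  · exact L22705
  · exact L22715
  · exact L24688
  · exact L25483
  · exact L27914
  · exact L29006
  · exact L117389
  · exact L29076
  · exact L29088
  · exact L22807
  · exact L114890
  · exact L22832
  · exact L115321
  · exact L116059
  · exact L29206
  · exact L29218
  · exact L22858
  · exact L112595
  · exact L28859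
  · exact L114981
  · exact L28873
  · exact L23826
  · exact L22928
  · exact L88053
  · exact L22941
  · exact L22965
  · exact L23160
  · exact L111061
  · exact L29414
  · exact L29434
  · exact L118046
  · exact L93631
  · exact L29504
  · exact L23072
  · exact L114758
  · exact L29546
  · exact L29562
  · exact L23096
  · exact L114539
  · exact L29602
  · exact L23110
  · exact L29627
  · exact L29636
  · exact L23129
  · exact L29653
  · exact L27894
  · exact L23154
  · exact L23159
  · exact L23598
  · exact L23175

theorem cl_c_18 : ∀ r, r < 64 → sm gc (Qf (64 * 18 + r)) = Qf (tab Gen.c (64 * 18 + r)) := by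
  intro r hr
  interval_cases r
  · exact L29712
  · exact L113726
  · exact L23208
  · exact L116913
  · exact L23220
  · exact L29882
  · exact L29894
  · exact L23258
  · exact L29909
  · exact L29916
  · exact L23266
  · exact L29941
  · exact L29931
  · exact L114381
  · exact L23283
  · exact L114096
  · exact L117907
  · exact L117903
  · exact L27870
  · exact L23311
  · exact L113677
  · exact L118163
  · exact L30104
  · exact L23346
  · exact L30119
  · exact L99583
  · exact L30146
  · exact L23364
  · exact L30167
  · exact L116887
  · exact L23381
  · exact L23397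
  · exact L23454
  · exact L117505
  · exact L30250
  · exact L114512
  · exact L113962
  · exact L23423
  · exact L23435
  · exact L29679
  · exact L30318
  · exact L23453
  · exact L27904
  · exact L114097
  · exact L116886
  · exact L23584
  · exact L23597
  · exact L113906
  · exact L118184
  · exact L23623
  · exact L113934
  · exact L30692
  · exact L111515
  · exact L88860
  · exact L23678
  · exact L114373
  · exact L112648
  · exact L30778
  · exact L30794
  · exact L30828
  · exact L23722
  · exact L30847
  · exact L112856
  · exact L112872

theorem cl_c_19 : ∀ r, r < 64 → sm gc (Qf (64 * 19 + r)) = Qf (tab Gen.c (64 * 19 + r)) := by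
  intro r hr
  interval_cases r
  · exact L117130
  · exact L23746
  · exact L30919
  · exact L30928
  · exact L23765
  · exact L117906
  · exact L115977
  · exact L114759
  · exact L23833
  · exact L23813
  · exact L112488
  · exact L23825
  · exact L23834
  · exact L112647
  · exact L118179
  · exact L104623
  · exact L115976
  · exact L118177
  · exact L24098
  · exact L31650
  · exact L24315
  · exact L24324
  · exact L31833
  · exact L24368
  · exact L113432
  · exact L31881
  · exact L24410
  · exact L113459
  · exact L24425
  · exact L32021
  · exact L113418
  · exact L32037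
  · exact L24446
  · exact L111480
  · exact L32231
  · exact L24528
  · exact L107311
  · exact L108706
  · exact L24546
  · exact L107294
  · exact L107295
  · exact L24565
  · exact L79941
  · exact L24678
  · exact L24677
  · exact L24687
  · exact L32778
  · exact L24858
  · exact L117129
  · exact L103029
  · exact L24939
  · exact L24981
  · exact L32950
  · exact L25072
  · exact L33018
  · exact L25109
  · exact L109987
  · exact L25177
  · exact L117216
  · exact L113373
  · exact L109986
  · exact L117666
  · exact L25308
  · exact L113359

theorem cl_c_20 : ∀ r, r < 64 → sm gc (Qf (64 * 20 + r)) = Qf (tab Gen.c (64 * 20 + r)) := by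
  intro r hr
  interval_cases r
  · exact L25318
  · exact L117838
  · exact L110393
  · exact L111710
  · exact L33604
  · exact L43463
  · exact L25410
  · exact L116139
  · exact L117715
  · exact L25425
  · exact L116058
  · exact L25484
  · exact L25618
  · exact L34222
  · exact L34231
  · exact L25685
  · exact L25690
  · exact L25695
  · exact L25699
  · exact L34373
  · exact L34401
  · exact L34358
  · exact L25779
  · exact L112284
  · exact L34844
  · exact L25913
  · exact L25936
  · exact L34908
  · exact L117839
  · exact L25960
  · exact L113358
  · exact L34988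
  · exact L35078
  · exact L35090
  · exact L26022
  · exact L35107
  · exact L99582
  · exact L26090
  · exact L108705
  · exact L26098
  · exact L111346
  · exact L26113
  · exact L35460
  · exact L26174
  · exact L113368
  · exact L117204
  · exact L117206
  · exact L35542
  · exact L26214
  · exact L26284
  · exact L35828
  · exact L26346
  · exact L113676
  · exact L118057
  · exact L114102
  · exact L26544
  · exact L79922
  · exact L26555
  · exact L26572
  · exact L115322
  · exact L107195
  · exact L26587
  · exact L107194
  · exact L112596

theorem cl_c_21 : ∀ r, r < 64 → sm gc (Qf (64 * 21 + r)) = Qf (tab Gen.c (64 * 21 + r)) := by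
  intro r hr
  interval_cases r
  · exact L114980
  · exact L37468
  · exact L27061
  · exact L27168
  · exact L37553
  · exact L117388
  · exact L117785
  · exact L27231
  · exact L27378
  · exact L27249
  · exact L27256
  · exact L37729
  · exact L27271
  · exact L37748
  · exact L27277
  · exact L27281
  · exact L37735
  · exact L114229
  · exact L37747
  · exact L27377
  · exact L27474
  · exact L37763
  · exact L28634
  · exact L109966
  · exact L113933
  · exact L27600
  · exact L38300
  · exact L27619
  · exact L38402
  · exact L27692
  · exact L113626
  · exact L114587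
  · exact L38500
  · exact L27732
  · exact L115359
  · exact L113460
  · exact L27751
  · exact L113617
  · exact L29331
  · exact L113616
  · exact L29711
  · exact L27796
  · exact L116922
  · exact L110803
  · exact L38738
  · exact L27836
  · exact L38785
  · exact L107083
  · exact L27858
  · exact L38859
  · exact L27869
  · exact L27893
  · exact L38934
  · exact L27903
  · exact L27913
  · exact L38994
  · exact L113905
  · exact L27980
  · exact L114279
  · exact L71943
  · exact L118025
  · exact L85133
  · exact L114842
  · exact L85132

theorem cl_c_22 : ∀ r, r < 64 → sm gc (Qf (64 * 22 + r)) = Qf (tab Gen.c (64 * 22 + r)) := by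
  intro r hr
  interval_cases r
  · exact L118063
  · exact L28158
  · exact L114588
  · exact L71944
  · exact L118024
  · exact L39888
  · exact L39898
  · exact L28212
  · exact L113417
  · exact L28232
  · exact L39970
  · exact L28251
  · exact L28279
  · exact L40022
  · exact L28301
  · exact L28322
  · exact L40080
  · exact L28391
  · exact L114889
  · exact L28409
  · exact L113767
  · exact L28422
  · exact L28430
  · exact L28443
  · exact L40222
  · exact L40301
  · exact L28633
  · exact L28646
  · exact L28678
  · exact L40726
  · exact L117384
  · exact L40816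
  · exact L40834
  · exact L28770
  · exact L40878
  · exact L28799
  · exact L40896
  · exact L40915
  · exact L40965
  · exact L38750
  · exact L28829
  · exact L114945
  · exact L28858
  · exact L112154
  · exact L28872
  · exact L114843
  · exact L29007
  · exact L113422
  · exact L29077
  · exact L114818
  · exact L29089
  · exact L79508
  · exact L115080
  · exact L79507
  · exact L29207
  · exact L29219
  · exact L116923
  · exact L41027
  · exact L41844
  · exact L31037
  · exact L114817
  · exact L31047
  · exact L31055
  · exact L29330

theorem cl_c_23 : ∀ r, r < 64 → sm gc (Qf (64 * 23 + r)) = Qf (tab Gen.c (64 * 23 + r)) := by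
  intro r hr
  interval_cases r
  · exact L118178
  · exact L42056
  · exact L113927
  · exact L117504
  · exact L116912
  · exact L29415
  · exact L113727
  · exact L29435
  · exact L118058
  · exact L29505
  · exact L117714
  · exact L42492
  · exact L29547
  · exact L29563
  · exact L118064
  · exact L29603
  · exact L42625
  · exact L107436
  · exact L29626
  · exact L114511
  · exact L29637
  · exact L42721
  · exact L107509
  · exact L29652
  · exact L29678
  · exact L84034
  · exact L42811
  · exact L29710
  · exact L29713
  · exact L113928
  · exact L117423
  · exact L113963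
  · exact L38655
  · exact L114372
  · exact L113882
  · exact L29883
  · exact L114024
  · exact L29895
  · exact L116871
  · exact L29908
  · exact L29917
  · exact L29930
  · exact L29940
  · exact L107944
  · exact L43493
  · exact L116851
  · exact L98008
  · exact L88859
  · exact L114101
  · exact L94002
  · exact L38891
  · exact L118176
  · exact L113951
  · exact L30105
  · exact L30118
  · exact L38751
  · exact L30147
  · exact L113433
  · exact L90112
  · exact L117205
  · exact L116880
  · exact L30166
  · exact L116872
  · exact L43462

theorem cl_c_24 : ∀ r, r < 64 → sm gc (Qf (64 * 24 + r)) = Qf (tab Gen.c (64 * 24 + r)) := by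
  intro r hr
  interval_cases r
  · exact L44146
  · exact L117098
  · exact L117498
  · exact L30251
  · exact L84189
  · exact L117386
  · exact L44189
  · exact L113952
  · exact L113948
  · exact L117465
  · exact L117422
  · exact L114294
  · exact L30319
  · exact L114280
  · exact L98007
  · exact L116852
  · exact L107943
  · exact L116881
  · exact L109965
  · exact L113171
  · exact L30693
  · exact L44985
  · exact L84542
  · exact L30779
  · exact L74832
  · exact L30795
  · exact L45196
  · exact L30829
  · exact L45278
  · exact L45285
  · exact L30846
  · exact L117699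
  · exact L45449
  · exact L30918
  · exact L30929
  · exact L98708
  · exact L117700
  · exact L115079
  · exact L31036
  · exact L84543
  · exact L31046
  · exact L31054
  · exact L90111
  · exact L31651
  · exact L31834
  · exact L118195
  · exact L110701
  · exact L47406
  · exact L31882
  · exact L94003
  · exact L32022
  · exact L47727
  · exact L32038
  · exact L111479
  · exact L32232
  · exact L107312
  · exact L114944
  · exact L79923
  · exact L116140
  · exact L112155
  · exact L32779
  · exact L32951
  · exact L33019
  · exact L117207

theorem cl_c_25 : ∀ r, r < 64 → sm gc (Qf (64 * 25 + r)) = Qf (tab Gen.c (64 * 25 + r)) := by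
  intro r hr
  interval_cases r
  · exact L113367
  · exact L107153
  · exact L51321
  · exact L51459
  · exact L33605
  · exact L51488
  · exact L98707
  · exact L107428
  · exact L49577
  · exact L34223
  · exact L34230
  · exact L34359
  · exact L34372
  · exact L34400
  · exact L34845
  · exact L53887
  · exact L54025
  · exact L34909
  · exact L116622
  · exact L34989
  · exact L35079
  · exact L54433
  · exact L35091
  · exact L35106
  · exact L35461
  · exact L55249
  · exact L35543
  · exact L35829
  · exact L107154
  · exact L107429
  · exact L57954
  · exact L37469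
  · exact L116822
  · exact L37552
  · exact L84035
  · exact L117387
  · exact L114222
  · exact L114228
  · exact L117385
  · exact L37959
  · exact L37963
  · exact L113883
  · exact L59700
  · exact L37728
  · exact L37734
  · exact L114236
  · exact L37746
  · exact L37749
  · exact L118340
  · exact L118339
  · exact L103127
  · exact L37762
  · exact L107082
  · exact L114223
  · exact L117464
  · exact L37958
  · exact L37962
  · exact L113815
  · exact L117097
  · exact L106939
  · exact L38301
  · exact L113807
  · exact L113814
  · exact L38403

theorem cl_c_26 : ∀ r, r < 64 → sm gc (Qf (64 * 26 + r)) = Qf (tab Gen.c (64 * 26 + r)) := by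
  intro r hr
  interval_cases r
  · exact L38501
  · exact L118194
  · exact L113768
  · exact L38654
  · exact L99401
  · exact L38739
  · exact L74831
  · exact L38784
  · exact L38858
  · exact L38890
  · exact L38935
  · exact L38995
  · exact L114295
  · exact L39889
  · exact L39899
  · exact L107437
  · exact L113423
  · exact L107510
  · exact L39971
  · exact L40023
  · exact L118358
  · exact L40081
  · exact L85045
  · exact L99400
  · exact L40221
  · exact L40302
  · exact L64307
  · exact L40727
  · exact L40817
  · exact L113381
  · exact L40835
  · exact L40879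
  · exact L40895
  · exact L64814
  · exact L64805
  · exact L40916
  · exact L40966
  · exact L41026
  · exact L41845
  · exact L114023
  · exact L45760
  · exact L113382
  · exact L98782
  · exact L45796
  · exact L42057
  · exact L117497
  · exact L42493
  · exact L42624
  · exact L107556
  · exact L42720
  · exact L98660
  · exact L42810
  · exact L113949
  · exact L107557
  · exact L107515
  · exact L43492
  · exact L116860
  · exact L116821
  · exact L106938
  · exact L85044
  · exact L116621
  · exact L113170
  · exact L107514
  · exact L44147

theorem cl_c_27 : ∀ r, r < 54 → sm gc (Qf (64 * 27 + r)) = Qf (tab Gen.c (64 * 27 + r)) := by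
  intro r hr
  interval_cases r
  · exact L84190
  · exact L114237
  · exact L110702
  · exact L44188
  · exact L84159
  · exact L84109
  · exact L84158
  · exact L116861
  · exact L44986
  · exact L45195
  · exact L45277
  · exact L45286
  · exact L98781
  · exact L45450
  · exact L98659
  · exact L45759
  · exact L45795
  · exact L111756
  · exact L47407
  · exact L79604
  · exact L47726
  · exact L113808
  · exact L49576
  · exact L51322
  · exact L51460
  · exact L51487
  · exact L118427
  · exact L118466
  · exact L53888
  · exact L54026
  · exact L54434
  · exact L118473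
  · exact L55250
  · exact L79605
  · exact L57955
  · exact L118349
  · exact L84108
  · exact L59701
  · exact L118361
  · exact L118362
  · exact L118415
  · exact L103128
  · exact L118357
  · exact L118350
  · exact L111757
  · exact L118426
  · exact L64308
  · exact L118478
  · exact L64804
  · exact L64815
  · exact L118414
  · exact L118465
  · exact L118472
  · exact L118479

theorem cl_c : ∀ i, i < 1782 → sm gc (Qf i) = Qf (tab Gen.c i) := by
  intro i hi
  obtain ⟨k, r, rfl, hr⟩ : ∃ k r, i = 64 * k + r ∧ r < 64 := ⟨i / 64, i % 64, by omega, by omega⟩
  have hk : k < 28 := by omega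
  interval_cases k
  · exact cl_c_0 r (by omega)
  · exact cl_c_1 r (by omega)
  · exact cl_c_2 r (by omega)
  · exact cl_c_3 r (by omega)
  · exact cl_c_4 r (by omega)
  · exact cl_c_5 r (by omega)
  · exact cl_c_6 r (by omega)
  · exact cl_c_7 r (by omega)
  · exact cl_c_8 r (by omega)
  · exact cl_c_9 r (by omega)
  · exact cl_c_10 r (by omega)
  · exact cl_c_11 r (by omega)
  · exact cl_c_12 r (by omega)
  · exact cl_c_13 r (by omega)
  · exact cl_c_14 r (by omega)
  · exact cl_c_15 r (by omega)
  · exact cl_c_16 r (by omega)
  · exact cl_c_17 r (by omega)
  · exact cl_c_18 r (by omega)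
  · exact cl_c_19 r (by omega)
  · exact cl_c_20 r (by omega)
  · exact cl_c_21 r (by omega)
  · exact cl_c_22 r (by omega)
  · exact cl_c_23 r (by omega)
  · exact cl_c_24 r (by omega)
  · exact cl_c_25 r (by omega)
  · exact cl_c_26 r (by omega)
  · exact cl_c_27 r (by omega)

theorem cl_d_0 : ∀ r, r < 64 → sm gd (Qf (64 * 0 + r)) = Qf (tab Gen.d (64 * 0 + r)) := by
  intro r hr
  interval_cases r
  · exact L3
  · exact L10
  · exact L15
  · exact L20
  · exact L61
  · exact L30
  · exact L35
  · exact L82
  · exact L62
  · exact L98
  · exact L110
  · exact L121
  · exact L83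
  · exact L138
  · exact L94
  · exact L97
  · exact L165
  · exact L180
  · exact L111
  · exact L235
  · exact L122
  · exact L257
  · exact L263
  · exact L137
  · exact L144
  · exact L277
  · exact L300
  · exact L225
  · exact L159
  · exact L164
  · exact L16432
  · exact L181
  · exact L340
  · exact L224
  · exact L234
  · exact L236
  · exact L377
  · exact L383
  · exact L253
  · exact L256
  · exact L262
  · exact L417
  · exact L276
  · exact L444
  · exact L430
  · exact L468
  · exact L438
  · exact L442
  · exact L301
  · exact L505
  · exact L348
  · exact L313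
  · exact L16433
  · exact L17868
  · exact L336
  · exact L339
  · exact L347
  · exact L589
  · exact L371
  · exact L376
  · exact L635
  · exact L384
  · exact L667
  · exact L666

theorem cl_d_1 : ∀ r, r < 64 → sm gd (Qf (64 * 1 + r)) = Qf (tab Gen.d (64 * 1 + r)) := by
  intro r hr
  interval_cases r
  · exact L658
  · exact L401
  · exact L408
  · exact L416
  · exact L708
  · exact L429
  · exact L732
  · exact L437
  · exact L441
  · exact L445
  · exact L783
  · exact L725
  · exact L731
  · exact L469
  · exact L810
  · exact L814
  · exact L580
  · exact L750
  · exact L758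
  · exact L769
  · exact L504
  · exact L863
  · exact L14611
  · exact L17869
  · exact L962
  · exact L18042
  · exact L562
  · exact L996
  · exact L579
  · exact L590
  · exact L627
  · exact L18350
  · exact L636
  · exact L1127
  · exact L1122
  · exact L1126
  · exact L657
  · exact L1188
  · exact L665
  · exact L668
  · exact L1205
  · exact L1211
  · exact L1199
  · exact L17843
  · exact L700
  · exact L707
  · exact L1276
  · exact L724
  · exact L730
  · exact L733
  · exact L1309
  · exact L1315
  · exact L749
  · exact L757
  · exact L768
  · exact L784
  · exact L1419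
  · exact L1425
  · exact L1297
  · exact L1452
  · exact L809
  · exact L813
  · exact L1465
  · exact L1471

theorem cl_d_2 : ∀ r, r < 64 → sm gd (Qf (64 * 2 + r)) = Qf (tab Gen.d (64 * 2 + r)) := by
  intro r hr
  interval_cases r
  · exact L1479
  · exact L1336
  · exact L1340
  · exact L1345
  · exact L1039
  · exact L862
  · exact L1736
  · exact L18043
  · exact L963
  · exact L1791
  · exact L18041
  · exact L997
  · exact L1863
  · exact L17842
  · exact L1038
  · exact L18349
  · exact L2072
  · exact L11307
  · exact L16916
  · exact L2096
  · exact L1121
  · exact L1125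
  · exact L1128
  · exact L2143
  · exact L2147
  · exact L2113
  · exact L2119
  · exact L2135
  · exact L2209
  · exact L1189
  · exact L2238
  · exact L1198
  · exact L12366
  · exact L1204
  · exact L1210
  · exact L2272
  · exact L2282
  · exact L17153
  · exact L17154
  · exact L17807
  · exact L1245
  · exact L2358
  · exact L1277
  · exact L2447
  · exact L2455
  · exact L1296
  · exact L2498
  · exact L1308
  · exact L1314
  · exact L2515
  · exact L2525
  · exact L1335
  · exact L1339
  · exact L1344
  · exact L2738
  · exact L1418
  · exact L1424
  · exact L2759
  · exact L2469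
  · exact L2802
  · exact L2481
  · exact L2845
  · exact L1453
  · exact L2862

theorem cl_d_3 : ∀ r, r < 64 → sm gd (Qf (64 * 3 + r)) = Qf (tab Gen.d (64 * 3 + r)) := by
  intro r hr
  interval_cases r
  · exact L2866
  · exact L1464
  · exact L1470
  · exact L1478
  · exact L2903
  · exact L2907
  · exact L2542
  · exact L3026
  · exact L17180
  · exact L3052
  · exact L2562
  · exact L2568
  · exact L2574
  · exact L2580
  · exact L1905
  · exact L12367
  · exact L1737
  · exact L3514
  · exact L18040
  · exact L2268
  · exact L1790
  · exact L3598
  · exact L18233
  · exact L18035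
  · exact L3763
  · exact L1862
  · exact L3780
  · exact L17808
  · exact L1904
  · exact L4148
  · exact L11308
  · exact L16915
  · exact L2073
  · exact L4219
  · exact L4225
  · exact L18234
  · exact L18353
  · exact L2097
  · exact L4330
  · exact L4336
  · exact L2112
  · exact L2118
  · exact L2134
  · exact L4403
  · exact L2142
  · exact L2146
  · exact L4416
  · exact L4422
  · exact L4436
  · exact L17118
  · exact L2210
  · exact L4581
  · exact L2237
  · exact L4592
  · exact L17164
  · exact L17677
  · exact L17696
  · exact L2267
  · exact L2271
  · exact L2281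
  · exact L4662
  · exact L4668
  · exact L4682
  · exact L18034

theorem cl_d_4 : ∀ r, r < 64 → sm gd (Qf (64 * 4 + r)) = Qf (tab Gen.d (64 * 4 + r)) := by
  intro r hr
  interval_cases r
  · exact L17119
  · exact L17553
  · exact L4790
  · exact L80373
  · exact L2359
  · exact L4964
  · exact L2446
  · exact L2454
  · exact L4989
  · exact L2468
  · exact L17552
  · exact L2480
  · exact L5099
  · exact L2499
  · exact L5128
  · exact L5132
  · exact L2514
  · exact L2524
  · exact L5163
  · exact L5169
  · exact L2541
  · exact L17181
  · exact L5275
  · exact L2561
  · exact L2567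
  · exact L2573
  · exact L2579
  · exact L5753
  · exact L2739
  · exact L5774
  · exact L5782
  · exact L2758
  · exact L5790
  · exact L77606
  · exact L5796
  · exact L17165
  · exact L5919
  · exact L2803
  · exact L5937
  · exact L5977
  · exact L2846
  · exact L6002
  · exact L6006
  · exact L5124
  · exact L2861
  · exact L2865
  · exact L6041
  · exact L6045
  · exact L6051
  · exact L6059
  · exact L17697
  · exact L2902
  · exact L2906
  · exact L6107
  · exact L80499
  · exact L6113
  · exact L77031
  · exact L6127
  · exact L6379
  · exact L3027
  · exact L6399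
  · exact L3053
  · exact L6441
  · exact L5287

theorem cl_d_5 : ∀ r, r < 64 → sm gd (Qf (64 * 5 + r)) = Qf (tab Gen.d (64 * 5 + r)) := by
  intro r hr
  interval_cases r
  · exact L5295
  · exact L5303
  · exact L3848
  · exact L5309
  · exact L5319
  · exact L3842
  · exact L17676
  · exact L3856
  · exact L7356
  · exact L3513
  · exact L7369
  · exact L4648
  · exact L4656
  · exact L3597
  · exact L7511
  · exact L7517
  · exact L7720
  · exact L3764
  · exact L7749
  · exact L3779
  · exact L7787
  · exact L3841
  · exact L3847
  · exact L3855
  · exact L4149
  · exact L8513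
  · exact L8517
  · exact L18354
  · exact L5120
  · exact L4218
  · exact L4224
  · exact L8639
  · exact L8643
  · exact L8724
  · exact L4329
  · exact L4335
  · exact L8742
  · exact L8750
  · exact L8768
  · exact L8871
  · exact L4404
  · exact L8888
  · exact L8892
  · exact L4415
  · exact L4421
  · exact L4435
  · exact L8914
  · exact L12412
  · exact L9259
  · exact L4582
  · exact L9274
  · exact L4591
  · exact L9313
  · exact L17695
  · exact L17692
  · exact L17690
  · exact L17705
  · exact L4647
  · exact L4655
  · exact L4661
  · exact L9459
  · exact L4667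
  · exact L4681
  · exact L9446

theorem cl_d_6 : ∀ r, r < 64 → sm gd (Qf (64 * 6 + r)) = Qf (tab Gen.d (64 * 6 + r)) := by
  intro r hr
  interval_cases r
  · exact L9470
  · exact L9512
  · exact L80502
  · exact L9785
  · exact L4791
  · exact L10128
  · exact L4965
  · exact L10155
  · exact L10163
  · exact L4988
  · exact L10175
  · exact L10222
  · exact L10185
  · exact L10307
  · exact L5100
  · exact L10338
  · exact L10342
  · exact L5119
  · exact L5123
  · exact L5127
  · exact L5131
  · exact L10415
  · exact L10419
  · exact L10425
  · exact L10431
  · exact L5162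
  · exact L5168
  · exact L10463
  · exact L17222
  · exact L80344
  · exact L10493
  · exact L5276
  · exact L10630
  · exact L5286
  · exact L5294
  · exact L5302
  · exact L5308
  · exact L5318
  · exact L18557
  · exact L5754
  · exact L18580
  · exact L110333
  · exact L10147
  · exact L5773
  · exact L5781
  · exact L18622
  · exact L18626
  · exact L5789
  · exact L80516
  · exact L5795
  · exact L18642
  · exact L80493
  · exact L77597
  · exact L5920
  · exact L5936
  · exact L18695
  · exact L18705
  · exact L5978
  · exact L18728
  · exact L18734
  · exact L112566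
  · exact L10334
  · exact L6001
  · exact L6005

theorem cl_d_7 : ∀ r, r < 64 → sm gd (Qf (64 * 7 + r)) = Qf (tab Gen.d (64 * 7 + r)) := by
  intro r hr
  interval_cases r
  · exact L18768
  · exact L18774
  · exact L18780
  · exact L18788
  · exact L10403
  · exact L10409
  · exact L6040
  · exact L6044
  · exact L6050
  · exact L6058
  · exact L18844
  · exact L17704
  · exact L18850
  · exact L18854
  · exact L6106
  · exact L80532
  · exact L6112
  · exact L80306
  · exact L6126
  · exact L80325
  · exact L80496
  · exact L80336
  · exact L6380
  · exact L6398
  · exact L18497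
  · exact L6440
  · exact L19048
  · exact L111152
  · exact L111162
  · exact L10660
  · exact L10666
  · exact L7879
  · exact L17691
  · exact L10672
  · exact L7871
  · exact L17694
  · exact L17689
  · exact L7903
  · exact L19188
  · exact L7357
  · exact L19211
  · exact L7368
  · exact L9430
  · exact L9438
  · exact L9410
  · exact L9442
  · exact L7510
  · exact L19262
  · exact L7516
  · exact L19272
  · exact L7721
  · exact L19303
  · exact L19307
  · exact L12413
  · exact L7748
  · exact L19355
  · exact L19347
  · exact L7786
  · exact L7870
  · exact L7878
  · exact L111161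
  · exact L7902
  · exact L19438
  · exact L8512

theorem cl_d_8 : ∀ r, r < 64 → sm gd (Qf (64 * 8 + r)) = Qf (tab Gen.d (64 * 8 + r)) := by
  intro r hr
  interval_cases r
  · exact L8516
  · exact L19462
  · exact L10377
  · exact L10391
  · exact L10399
  · exact L8638
  · exact L8642
  · exact L19497
  · exact L8725
  · exact L19522
  · exact L19527
  · exact L8741
  · exact L8749
  · exact L8767
  · exact L19299
  · exact L8872
  · exact L19585
  · exact L112570
  · exact L19517
  · exact L8887
  · exact L8891
  · exact L19625
  · exact L19631
  · exact L112577
  · exact L19645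
  · exact L8913
  · exact L19674
  · exact L19337
  · exact L19702
  · exact L9260
  · exact L19731
  · exact L19737
  · exact L9273
  · exact L19763
  · exact L19780
  · exact L9314
  · exact L19157
  · exact L19116
  · exact L111153
  · exact L18801
  · exact L114737
  · exact L9409
  · exact L19177
  · exact L18875
  · exact L19840
  · exact L18888
  · exact L9429
  · exact L9437
  · exact L9441
  · exact L9445
  · exact L19908
  · exact L9460
  · exact L19929
  · exact L9469
  · exact L9511
  · exact L80510
  · exact L80333
  · exact L9786
  · exact L20010
  · exact L10129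
  · exact L20041
  · exact L20045
  · exact L10146
  · exact L10154

theorem cl_d_9 : ∀ r, r < 64 → sm gd (Qf (64 * 9 + r)) = Qf (tab Gen.d (64 * 9 + r)) := by
  intro r hr
  interval_cases r
  · exact L10162
  · exact L20095
  · exact L20099
  · exact L10174
  · exact L20128
  · exact L10184
  · exact L10223
  · exact L112571
  · exact L10308
  · exact L20177
  · exact L112576
  · exact L18717
  · exact L10333
  · exact L10337
  · exact L10341
  · exact L20223
  · exact L115881
  · exact L20235
  · exact L20243
  · exact L10376
  · exact L20292
  · exact L10390
  · exact L10398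
  · exact L10402
  · exact L10408
  · exact L10414
  · exact L10418
  · exact L10424
  · exact L10430
  · exact L20356
  · exact L20362
  · exact L20366
  · exact L10462
  · exact L20477
  · exact L17221
  · exact L80305
  · exact L10492
  · exact L76902
  · exact L18498
  · exact L10629
  · exact L24167
  · exact L10659
  · exact L10665
  · exact L10671
  · exact L20700
  · exact L18558
  · exact L20721
  · exact L109932
  · exact L110332
  · exact L20037
  · exact L18579
  · exact L20761
  · exact L20767
  · exact L112565
  · exact L110011
  · exact L20079
  · exact L20089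
  · exact L18621
  · exact L18625
  · exact L20815
  · exact L20848
  · exact L20823
  · exact L20827
  · exact L20835

theorem cl_d_10 : ∀ r, r < 64 → sm gd (Qf (64 * 10 + r)) = Qf (tab Gen.d (64 * 10 + r)) := by
  intro r hr
  interval_cases r
  · exact L18641
  · exact L80517
  · exact L80522
  · exact L77593
  · exact L18694
  · exact L20954
  · exact L115371
  · exact L18706
  · exact L20987
  · exact L20991
  · exact L18718
  · exact L20171
  · exact L18727
  · exact L18733
  · exact L21055
  · exact L22314
  · exact L112559
  · exact L20211
  · exact L20217
  · exact L18767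
  · exact L18773
  · exact L18779
  · exact L18787
  · exact L21155
  · exact L18802
  · exact L21165
  · exact L21169
  · exact L20326
  · exact L20332
  · exact L20340
  · exact L20348
  · exact L18843
  · exact L114383
  · exact L18849
  · exact L18853
  · exact L21269
  · exact L18876
  · exact L21279
  · exact L18887
  · exact L21291
  · exact L114665
  · exact L21305
  · exact L21422
  · exact L111893
  · exact L80531
  · exact L80523
  · exact L78524
  · exact L77586
  · exact L19028
  · exact L19040
  · exact L19047
  · exact L114738
  · exact L115045
  · exact L20627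
  · exact L21730
  · exact L20637
  · exact L20643
  · exact L90956
  · exact L20653
  · exact L19407
  · exact L19117
  · exact L20659
  · exact L21807
  · exact L20669

theorem cl_d_11 : ∀ r, r < 64 → sm gd (Qf (64 * 11 + r)) = Qf (tab Gen.d (64 * 11 + r)) := by
  intro r hr
  interval_cases r
  · exact L19383
  · exact L22315
  · exact L19395
  · exact L19156
  · exact L19176
  · exact L19427
  · exact L19189
  · exact L109876
  · exact L19210
  · exact L21996
  · exact L22013
  · exact L19865
  · exact L19871
  · exact L19825
  · exact L19887
  · exact L22057
  · exact L19895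
  · exact L19921
  · exact L19263
  · exact L22080
  · exact L20030
  · exact L19273
  · exact L22110
  · exact L19298
  · exact L19302
  · exact L19306
  · exact L22166
  · exact L22172
  · exact L22180
  · exact L19336
  · exact L19346
  · exact L19354
  · exact L22234
  · exact L22240
  · exact L22228
  · exact L22287
  · exact L19382
  · exact L110544
  · exact L19394
  · exact L19406
  · exact L115044
  · exact L19426
  · exact L22468
  · exact L19439
  · exact L22490
  · exact L22497
  · exact L19461
  · exact L20279
  · exact L20287
  · exact L20318
  · exact L75286
  · exact L22580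
  · exact L19498
  · exact L22612
  · exact L109745
  · exact L19516
  · exact L19521
  · exact L19526
  · exact L22666
  · exact L22671
  · exact L112687
  · exact L22684
  · exact L22723
  · exact L109893

theorem cl_d_12 : ∀ r, r < 64 → sm gd (Qf (64 * 12 + r)) = Qf (tab Gen.d (64 * 12 + r)) := by
  intro r hr
  interval_cases r
  · exact L118216
  · exact L109407
  · exact L19584
  · exact L22748
  · exact L97790
  · exact L22653
  · exact L19624
  · exact L19630
  · exact L19644
  · exact L22830
  · exact L117364
  · exact L22836
  · exact L22840
  · exact L115882
  · exact L22854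
  · exact L22921
  · exact L19675
  · exact L111029
  · exact L22214
  · exact L111030
  · exact L109811
  · exact L19703
  · exact L22994
  · exact L115372
  · exact L23015
  · exact L19730
  · exact L19736
  · exact L23042
  · exact L117938
  · exact L23060
  · exact L19762
  · exact L23092
  · exact L23123
  · exact L23102
  · exact L19781
  · exact L23147
  · exact L21882
  · exact L23167
  · exact L21888
  · exact L21780
  · exact L21196
  · exact L117858
  · exact L21203
  · exact L19824
  · exact L21908
  · exact L21375
  · exact L23273
  · exact L21383
  · exact L19841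
  · exact L23302
  · exact L21395
  · exact L19864
  · exact L19870
  · exact L109875
  · exact L19886
  · exact L23375
  · exact L19894
  · exact L23399
  · exact L23407
  · exact L19909
  · exact L19920
  · exact L23144
  · exact L19928
  · exact L23448

theorem cl_d_13 : ∀ r, r < 64 → sm gd (Qf (64 * 13 + r)) = Qf (tab Gen.d (64 * 13 + r)) := by
  intro r hr
  interval_cases r
  · exact L23456
  · exact L80511
  · exact L83054
  · exact L20011
  · exact L23606
  · exact L109892
  · exact L20031
  · exact L20036
  · exact L20040
  · exact L20044
  · exact L23648
  · exact L118150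
  · exact L110545
  · exact L23668
  · exact L20078
  · exact L20088
  · exact L20094
  · exact L20098
  · exact L23720
  · exact L23759
  · exact L23728
  · exact L23732
  · exact L23740
  · exact L23803
  · exact L20129
  · exact L23816
  · exact L23827
  · exact L109406
  · exact L24166
  · exact L97789
  · exact L20170
  · exact L20176
  · exact L21013
  · exact L22304
  · exact L21027
  · exact L20210
  · exact L20216
  · exact L20222
  · exact L20234
  · exact L20242
  · exact L24050
  · exact L115467
  · exact L115481
  · exact L20278
  · exact L24151
  · exact L20286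
  · exact L20293
  · exact L24317
  · exact L24326
  · exact L20317
  · exact L20325
  · exact L20331
  · exact L20339
  · exact L20347
  · exact L20355
  · exact L111059
  · exact L20361
  · exact L20365
  · exact L118217
  · exact L24418
  · exact L24430
  · exact L24438
  · exact L24444
  · exact L24559

theorem cl_d_14 : ∀ r, r < 64 → sm gd (Qf (64 * 14 + r)) = Qf (tab Gen.d (64 * 14 + r)) := by
  intro r hr
  interval_cases r
  · exact L24450
  · exact L24661
  · exact L20478
  · exact L24680
  · exact L78523
  · exact L20528
  · exact L20626
  · exact L24873
  · exact L20636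
  · exact L20642
  · exact L20652
  · exact L20658
  · exact L115221
  · exact L20668
  · exact L25031
  · exact L20701
  · exact L109931
  · exact L23600
  · exact L20720
  · exact L22317
  · exact L110010
  · exact L23636
  · exact L20760
  · exact L20766
  · exact L25238
  · exact L114480
  · exact L114382
  · exact L112558
  · exact L111814
  · exact L23708
  · exact L90955
  · exact L20814
  · exact L114666
  · exact L20822
  · exact L20826
  · exact L20834
  · exact L25344
  · exact L114416
  · exact L117889
  · exact L20849
  · exact L117857
  · exact L117880
  · exact L110346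
  · exact L25475
  · exact L79656
  · exact L20955
  · exact L25630
  · exact L117939
  · exact L25687
  · exact L109744
  · exact L20986
  · exact L20990
  · exact L25732
  · exact L21012
  · exact L22307
  · exact L21026
  · exact L23924
  · exact L112688
  · exact L21054
  · exact L25826
  · exact L22319
  · exact L111871
  · exact L110347
  · exact L24016

theorem cl_d_15 : ∀ r, r < 64 → sm gd (Qf (64 * 15 + r)) = Qf (tab Gen.d (64 * 15 + r)) := by
  intro r hr
  interval_cases r
  · exact L115954
  · exact L24032
  · exact L24042
  · exact L21154
  · exact L117890
  · exact L21164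
  · exact L21168
  · exact L21197
  · exact L21202
  · exact L26014
  · exact L26020
  · exact L26107
  · exact L26026
  · exact L24364
  · exact L26187
  · exact L24374
  · exact L24380
  · exact L21268
  · exact L117881
  · exact L21278
  · exact L21290
  · exact L21304
  · exact L111892
  · exact L21374
  · exact L21382
  · exact L21394
  · exact L111872
  · exact L26549
  · exact L112988
  · exact L26344
  · exact L26579
  · exact L111883
  · exact L21423
  · exact L26602
  · exact L79657
  · exact L21619
  · exact L75287
  · exact L115025
  · exact L117363
  · exact L24854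
  · exact L27183
  · exact L21731
  · exact L24894
  · exact L112846
  · exact L103042
  · exact L112831
  · exact L110448
  · exact L103152
  · exact L27273
  · exact L22353
  · exact L103153
  · exact L21779
  · exact L111281
  · exact L21808
  · exact L112046
  · exact L22308
  · exact L22316
  · exact L22318
  · exact L21881
  · exact L21887
  · exact L109810
  · exact L21907
  · exact L22441
  · exact L27615

theorem cl_d_16 : ∀ r, r < 64 → sm gd (Qf (64 * 16 + r)) = Qf (tab Gen.d (64 * 16 + r)) := by
  intro r hr
  interval_cases r
  · exact L22455
  · exact L99569
  · exact L21995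
  · exact L27716
  · exact L27745
  · exact L114560
  · exact L22014
  · exact L23338
  · exact L23342
  · exact L27801
  · exact L23354
  · exact L23252
  · exact L23362
  · exact L114208
  · exact L23372
  · exact L22058
  · exact L110829
  · exact L113695
  · exact L27768
  · exact L22079
  · exact L27900
  · exact L23587
  · exact L23626
  · exact L22109
  · exact L117524
  · exact L22165
  · exact L22171
  · exact L22179
  · exact L28030
  · exact L28040
  · exact L88188
  · exact L111060
  · exact L22213
  · exact L22227
  · exact L22233
  · exact L114559
  · exact L22239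
  · exact L114569
  · exact L28166
  · exact L118073
  · exact L114638
  · exact L28136
  · exact L28245
  · exact L28110
  · exact L22288
  · exact L22303
  · exact L110449
  · exact L111545
  · exact L22352
  · exact L103041
  · exact L28341
  · exact L115026
  · exact L28398
  · exact L22440
  · exact L28416
  · exact L22454
  · exact L25766
  · exact L22469
  · exact L28448
  · exact L22489
  · exact L22496
  · exact L28488
  · exact L83055
  · exact L25112

theorem cl_d_17 : ∀ r, r < 64 → sm gd (Qf (64 * 17 + r)) = Qf (tab Gen.d (64 * 17 + r)) := by
  intro r hr
  interval_cases r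
  · exact L22581
  · exact L118276
  · exact L109664
  · exact L109564
  · exact L22611
  · exact L28699
  · exact L109722
  · exact L22652
  · exact L22665
  · exact L22670
  · exact L22683
  · exact L28797
  · exact L111326
  · exact L28804
  · exact L28808
  · exact L115955
  · exact L28823
  · exact L22724
  · exact L118151
  · exact L22747
  · exact L75002
  · exact L115398
  · exact L28765
  · exact L28772
  · exact L22829
  · exact L115034
  · exact L22835
  · exact L22839
  · exact L22853
  · exact L115466
  · exact L117403
  · exact L115480
  · exact L108716
  · exact L29149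
  · exact L29155
  · exact L29316
  · exact L22922
  · exact L28931
  · exact L107630
  · exact L107629
  · exact L113936
  · exact L22993
  · exact L29401
  · exact L23016
  · exact L23041
  · exact L23059
  · exact L114671
  · exact L29512
  · exact L29485
  · exact L107769
  · exact L23091
  · exact L118074
  · exact L23101
  · exact L113696
  · exact L29618
  · exact L29573
  · exact L23124
  · exact L29647
  · exact L118011
  · exact L23143
  · exact L23148
  · exact L27530
  · exact L23168
  · exact L113760

theorem cl_d_18 : ∀ r, r < 64 → sm gd (Qf (64 * 18 + r)) = Qf (tab Gen.d (64 * 18 + r)) := by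
  intro r hr
  interval_cases r
  · exact L27314
  · exact L27310
  · exact L29750
  · exact L27320
  · exact L117808
  · exact L23251
  · exact L110828
  · exact L29904
  · exact L114209
  · exact L26514
  · exact L117651
  · exact L26524
  · exact L117723
  · exact L23274
  · exact L114479
  · exact L26528
  · exact L29643
  · exact L23301
  · exact L30019
  · exact L114417
  · exact L114672
  · exact L23337
  · exact L23341
  · exact L114366
  · exact L23353
  · exact L99568
  · exact L23361
  · exact L30158
  · exact L23371
  · exact L23376
  · exact L30183
  · exact L117513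
  · exact L23400
  · exact L30236
  · exact L23408
  · exact L30261
  · exact L30265
  · exact L23442
  · exact L88187
  · exact L23441
  · exact L23447
  · exact L23455
  · exact L30317
  · exact L30323
  · exact L114811
  · exact L23588
  · exact L23599
  · exact L23605
  · exact L116577
  · exact L23625
  · exact L23635
  · exact L23647
  · exact L23667
  · exact L118121
  · exact L30734
  · exact L113093
  · exact L111546
  · exact L30721
  · exact L23707
  · exact L23719
  · exact L30840
  · exact L23727
  · exact L23731
  · exact L23739

theorem cl_d_19 : ∀ r, r < 64 → sm gd (Qf (64 * 19 + r)) = Qf (tab Gen.d (64 * 19 + r)) := by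
  intro r hr
  interval_cases r
  · exact L75003
  · exact L30910
  · exact L30837
  · exact L23760
  · exact L30939
  · exact L115399
  · exact L112705
  · exact L117573
  · exact L23804
  · exact L23815
  · exact L31025
  · exact L31040
  · exact L23828
  · exact L23923
  · exact L24015
  · exact L24031
  · exact L24041
  · exact L24049
  · exact L115222
  · exact L24152
  · exact L24316
  · exact L24325
  · exact L24363
  · exact L107770
  · exact L24373
  · exact L24379
  · exact L113967
  · exact L24417
  · exact L113440
  · exact L24429
  · exact L24437
  · exact L24443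
  · exact L32049
  · exact L24449
  · exact L111534
  · exact L32239
  · exact L32028
  · exact L116082
  · exact L111322
  · exact L111782
  · exact L24560
  · exact L111321
  · exact L107225
  · exact L24662
  · exact L24679
  · exact L32582
  · exact L24853
  · exact L117291
  · exact L24874
  · exact L24893
  · exact L115125
  · exact L111304
  · exact L25032
  · exact L33014
  · exact L116493
  · exact L25111
  · exact L30577
  · exact L27477
  · exact L111815
  · exact L30655
  · exact L109988
  · exact L25237
  · exact L33514
  · exact L30791

theorem cl_d_20 : ∀ r, r < 64 → sm gd (Qf (64 * 20 + r)) = Qf (tab Gen.d (64 * 20 + r)) := by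
  intro r hr
  interval_cases r
  · exact L117228
  · exact L30803
  · exact L112847
  · exact L112830
  · exact L25343
  · exact L33601
  · exact L117716
  · exact L33613
  · exact L117653
  · exact L117807
  · exact L110365
  · exact L25476
  · exact L34218
  · exact L109665
  · exact L25629
  · exact L34352
  · exact L25688
  · exact L34375
  · exact L109563
  · exact L109721
  · exact L25731
  · exact L25765
  · exact L112839
  · exact L25825
  · exact L27487
  · exact L110459
  · exact L112987
  · exact L110364
  · exact L31371
  · exact L34968
  · exact L115475
  · exact L86812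
  · exact L26013
  · exact L26019
  · exact L103603
  · exact L26025
  · exact L114637
  · exact L111327
  · exact L35089
  · exact L93205
  · exact L26108
  · exact L111361
  · exact L118275
  · exact L113141
  · exact L31844
  · exact L26188
  · exact L31860
  · exact L31878
  · exact L93032
  · exact L118285
  · exact L26343
  · exact L111884
  · exact L26513
  · exact L26523
  · exact L26527
  · exact L36284
  · exact L26550
  · exact L107177
  · exact L108715
  · exact L115126
  · exact L26580
  · exact L107226
  · exact L26601
  · exact L111282

theorem cl_d_21 : ∀ r, r < 64 → sm gd (Qf (64 * 21 + r)) = Qf (tab Gen.d (64 * 21 + r)) := by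
  intro r hr
  interval_cases r
  · exact L112045
  · exact L27264
  · exact L117404
  · exact L37554
  · exact L37568
  · exact L27184
  · exact L117717
  · exact L110458
  · exact L93031
  · exact L112840
  · exact L37720
  · exact L27263
  · exact L37736
  · exact L27274
  · exact L37755
  · exact L37759
  · exact L27309
  · exact L27313
  · exact L27319
  · exact L111409
  · exact L27476
  · exact L27486
  · exact L27529
  · exact L113761
  · exact L113935
  · exact L38286
  · exact L27616
  · exact L38307
  · exact L114579
  · exact L84727
  · exact L118094
  · exact L27715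
  · exact L116917
  · exact L113441
  · exact L113872
  · exact L27746
  · exact L113966
  · exact L114570
  · exact L27767
  · exact L30077
  · exact L30103
  · exact L116916
  · exact L27802
  · exact L29879
  · exact L30143
  · exact L38780
  · exact L30151
  · exact L30155
  · exact L75548
  · exact L38541
  · exact L114118
  · exact L117044
  · exact L27899
  · exact L117523
  · exact L113911
  · exact L114110
  · exact L113912
  · exact L114260
  · exact L117532
  · exact L28029
  · exact L28039
  · exact L118012
  · exact L88204
  · exact L28109

theorem cl_d_22 : ∀ r, r < 64 → sm gd (Qf (64 * 22 + r)) = Qf (tab Gen.d (64 * 22 + r)) := by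
  intro r hr
  interval_cases r
  · exact L28135
  · exact L113873
  · exact L28165
  · exact L118095
  · exact L114578
  · exact L114615
  · exact L99810
  · exact L39906
  · exact L84980
  · exact L39952
  · exact L28246
  · exact L117625
  · exact L116576
  · exact L111535
  · exact L112706
  · exact L40060
  · exact L28342
  · exact L115033
  · exact L28399
  · exact L107014
  · exact L28417
  · exact L106983
  · exact L116492
  · exact L31657
  · exact L28447
  · exact L28487
  · exact L109989
  · exact L29443
  · exact L118311
  · exact L28698
  · exact L117187
  · exact L113140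
  · exact L28764
  · exact L28771
  · exact L28796
  · exact L74646
  · exact L28803
  · exact L28807
  · exact L28822
  · exact L115474
  · exact L117248
  · exact L86811
  · exact L40900
  · exact L40908
  · exact L108637
  · exact L28930
  · exact L117292
  · exact L113094
  · exact L107986
  · exact L118122
  · exact L117247
  · exact L112208
  · exact L29148
  · exact L29154
  · exact L111305
  · exact L84726
  · exact L117399
  · exact L116083
  · exact L111781
  · exact L84452
  · exact L29317
  · exact L84574
  · exact L107987
  · exact L30309

theorem cl_d_23 : ∀ r, r < 64 → sm gd (Qf (64 * 23 + r)) = Qf (tab Gen.d (64 * 23 + r)) := by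
  intro r hr
  interval_cases r
  · exact L110720
  · exact L110721
  · exact L113929
  · exact L29400
  · exact L117512
  · exact L116791
  · exact L42171
  · exact L29442
  · exact L29484
  · exact L117724
  · exact L29513
  · exact L107858
  · exact L107578
  · exact L99811
  · exact L29572
  · exact L42626
  · exact L98754
  · exact L29619
  · exact L114498
  · exact L113981
  · exact L98824
  · exact L29642
  · exact L29646
  · exact L117755
  · exact L88203
  · exact L38163
  · exact L107015
  · exact L114616
  · exact L42953
  · exact L114177
  · exact L117043
  · exact L29751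
  · exact L37809
  · exact L114412
  · exact L29878
  · exact L43321
  · exact L114117
  · exact L43351
  · exact L29905
  · exact L114810
  · exact L117652
  · exact L117650
  · exact L73344
  · exact L114069
  · exact L117754
  · exact L114367
  · exact L114111
  · exact L42729
  · exact L30018
  · exact L114267
  · exact L114034
  · exact L30076
  · exact L30102
  · exact L98157
  · exact L107875
  · exact L30142
  · exact L117229
  · exact L30150
  · exact L30154
  · exact L98524
  · exact L30159
  · exact L44009
  · exact L30182
  · exact L117087

theorem cl_d_24 : ∀ r, r < 64 → sm gd (Qf (64 * 24 + r)) = Qf (tab Gen.d (64 * 24 + r)) := by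
  intro r hr
  interval_cases r
  · exact L30237
  · exact L44159
  · exact L44165
  · exact L116890
  · exact L30299
  · exact L30260
  · exact L30264
  · exact L44205
  · exact L44213
  · exact L30298
  · exact L30308
  · exact L30316
  · exact L114070
  · exact L30322
  · exact L73930
  · exact L117410
  · exact L114261
  · exact L75547
  · exact L30576
  · exact L30654
  · exact L84451
  · exact L30720
  · exact L30735
  · exact L107316
  · exact L30790
  · exact L117257
  · exact L30802
  · exact L84575
  · exact L30836
  · exact L30841
  · exact L84421
  · exact L45435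
  · exact L30911
  · exact L98755
  · exact L84526
  · exact L117572
  · exact L30938
  · exact L31024
  · exact L45741
  · exact L31041
  · exact L84527
  · exact L107433
  · exact L31370
  · exact L31658
  · exact L107859
  · exact L31843
  · exact L31859
  · exact L31877
  · exact L47422
  · exact L117531
  · exact L110706
  · exact L32027
  · exact L111446
  · exact L32050
  · exact L107317
  · exact L32240
  · exact L93206
  · exact L107176
  · exact L32581
  · exact L111362
  · exact L49265
  · exact L81891
  · exact L33015
  · exact L111496

theorem cl_d_25 : ∀ r, r < 64 → sm gd (Qf (64 * 25 + r)) = Qf (tab Gen.d (64 * 25 + r)) := by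
  intro r hr
  interval_cases r
  · exact L113384
  · exact L33515
  · exact L117188
  · exact L33600
  · exact L118368
  · exact L33612
  · exact L117626
  · exact L114413
  · exact L52672
  · exact L34219
  · exact L117914
  · exact L34353
  · exact L34374
  · exact L118310
  · exact L111622
  · exact L108636
  · exact L112207
  · exact L103609
  · exact L34969
  · exact L103604
  · exact L115508
  · exact L35088
  · exact L115558
  · exact L111910
  · exact L118286
  · exact L111371
  · exact L111917
  · exact L118399
  · exact L36285
  · exact L107432
  · exact L111408
  · exact L116796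
  · exact L117398
  · exact L114176
  · exact L37555
  · exact L37569
  · exact L116891
  · exact L59419
  · exact L117088
  · exact L111918
  · exact L111495
  · exact L117413
  · exact L37721
  · exact L59715
  · exact L114244
  · exact L37737
  · exact L88986
  · exact L59768
  · exact L40085
  · exact L37754
  · exact L37758
  · exact L59801
  · exact L103134
  · exact L116790
  · exact L37808
  · exact L111420
  · exact L111417
  · exact L38162
  · exact L113930
  · exact L38287
  · exact L113802
  · exact L40196
  · exact L38306
  · exact L84979

theorem cl_d_26 : ∀ r, r < 64 → sm gd (Qf (64 * 26 + r)) = Qf (tab Gen.d (64 * 26 + r)) := by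
  intro r hr
  interval_cases r
  · exact L117409
  · exact L38540
  · exact L43805
  · exact L113982
  · exact L106982
  · exact L117256
  · exact L38781
  · exact L74011
  · exact L113173
  · exact L117545
  · exact L114033
  · exact L114268
  · exact L117544
  · exact L114143
  · exact L98823
  · exact L39907
  · exact L107971
  · exact L39953
  · exact L114497
  · exact L101407
  · exact L40061
  · exact L59704
  · exact L40084
  · exact L40195
  · exact L81890
  · exact L117915
  · exact L118315
  · exact L115593
  · exact L107579
  · exact L113383
  · exact L74647
  · exact L115509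
  · exact L115559
  · exact L40899
  · exact L40907
  · exact L108377
  · exact L111911
  · exact L111370
  · exact L111447
  · exact L73931
  · exact L107970
  · exact L74012
  · exact L84578
  · exact L84420
  · exact L98549
  · exact L42170
  · exact L98525
  · exact L98797
  · exact L42627
  · exact L118372
  · exact L42728
  · exact L113801
  · exact L42954
  · exact L43322
  · exact L43352
  · exact L73343
  · exact L107876
  · exact L98158
  · exact L43804
  · exact L116795
  · exact L103133
  · exact L113172
  · exact L44008
  · exact L88985

theorem cl_d_27 : ∀ r, r < 54 → sm gd (Qf (64 * 27 + r)) = Qf (tab Gen.d (64 * 27 + r)) := by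
  intro r hr
  interval_cases r
  · exact L44158
  · exact L44164
  · exact L69949
  · exact L114245
  · exact L114144
  · exact L44204
  · exact L44212
  · exact L117414
  · exact L110705
  · exact L98548
  · exact L84577
  · exact L45453
  · exact L45436
  · exact L45454
  · exact L45742
  · exact L118371
  · exact L98796
  · exact L111621
  · exact L118392
  · exact L47423
  · exact L101406
  · exact L49266
  · exact L118424
  · exact L118367
  · exact L115592
  · exact L118394
  · exact L52673
  · exact L118314
  · exact L103608
  · exact L108376
  · exact L118407
  · exact L118455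
  · exact L118398
  · exact L111419
  · exact L118393
  · exact L111416
  · exact L59418
  · exact L59705
  · exact L102923
  · exact L59714
  · exact L118417
  · exact L59769
  · exact L102922
  · exact L59800
  · exact L118416
  · exact L118425
  · exact L118462
  · exact L118454
  · exact L118395
  · exact L118406
  · exact L69948
  · exact L118461
  · exact L118489
  · exact L118488

theorem cl_d : ∀ i, i < 1782 → sm gd (Qf i) = Qf (tab Gen.d i) := by
  intro i hi
  obtain ⟨k, r, rfl, hr⟩ : ∃ k r, i = 64 * k + r ∧ r < 64 := ⟨i / 64, i % 64, by omega, by omega⟩
  have hk : k < 28 := by omega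
  interval_cases k
  · exact cl_d_0 r (by omega)
  · exact cl_d_1 r (by omega)
  · exact cl_d_2 r (by omega)
  · exact cl_d_3 r (by omega)
  · exact cl_d_4 r (by omega)
  · exact cl_d_5 r (by omega)
  · exact cl_d_6 r (by omega)
  · exact cl_d_7 r (by omega)
  · exact cl_d_8 r (by omega)
  · exact cl_d_9 r (by omega)
  · exact cl_d_10 r (by omega)
  · exact cl_d_11 r (by omega)
  · exact cl_d_12 r (by omega)
  · exact cl_d_13 r (by omega)
  · exact cl_d_14 r (by omega)
  · exact cl_d_15 r (by omega)
  · exact cl_d_16 r (by omega)
  · exact cl_d_17 r (by omega)
  · exact cl_d_18 r (by omega)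
  · exact cl_d_19 r (by omega)
  · exact cl_d_20 r (by omega)
  · exact cl_d_21 r (by omega)
  · exact cl_d_22 r (by omega)
  · exact cl_d_23 r (by omega)
  · exact cl_d_24 r (by omega)
  · exact cl_d_25 r (by omega)
  · exact cl_d_26 r (by omega)
  · exact cl_d_27 r (by omega)

theorem cl_e_0 : ∀ r, r < 64 → sm ge (Qf (64 * 0 + r)) = Qf (tab Gen.e (64 * 0 + r)) := by
  intro r hr
  interval_cases r
  · exact L4
  · exact L11
  · exact L16
  · exact L21
  · exact L25
  · exact L31
  · exact L36
  · exact L41
  · exact L90
  · exact L69
  · exact L74
  · exact L81
  · exact L139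
  · exact L148
  · exact L91
  · exact L161
  · exact L101
  · exact L107
  · exact L226
  · exact L120
  · exact L249
  · exact L127
  · exact L130
  · exact L278
  · exact L140
  · exact L288
  · exact L149
  · exact L308
  · exact L160
  · exact L315
  · exact L172
  · exact L332
  · exact L188
  · exact L349
  · exact L227
  · exact L365
  · exact L245
  · exact L385
  · exact L250
  · exact L403
  · exact L410
  · exact L271
  · exact L431
  · exact L279
  · exact L453
  · exact L289
  · exact L476
  · exact L481
  · exact L450
  · exact L307
  · exact L509
  · exact L314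
  · exact L522
  · exact L550
  · exact L333
  · exact L564
  · exact L573
  · exact L350
  · exact L366
  · exact L629
  · exact L639
  · exact L661
  · exact L386
  · exact L674

theorem cl_e_1 : ∀ r, r < 64 → sm ge (Qf (64 * 1 + r)) = Qf (tab Gen.e (64 * 1 + r)) := by
  intro r hr
  interval_cases r
  · exact L682
  · exact L402
  · exact L409
  · exact L702
  · exact L422
  · exact L716
  · exact L432
  · exact L741
  · exact L745
  · exact L449
  · exact L454
  · exact L793
  · exact L800
  · exact L737
  · exact L475
  · exact L480
  · exact L819
  · exact L826
  · exact L835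
  · exact L766
  · exact L598
  · exact L508
  · exact L521
  · exact L940
  · exact L551
  · exact L969
  · exact L563
  · exact L574
  · exact L1005
  · exact L597
  · exact L628
  · exact L1097
  · exact L1115
  · exact L640
  · exact L1136
  · exact L1142
  · exact L1170
  · exact L662
  · exact L1195
  · exact L1191
  · exact L673
  · exact L681
  · exact L1215
  · exact L1228
  · exact L701
  · exact L1247
  · exact L717
  · exact L1287
  · exact L1293
  · exact L736
  · exact L740
  · exact L744
  · exact L1322
  · exact L1330
  · exact L765
  · exact L1281
  · exact L792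
  · exact L799
  · exact L1429
  · exact L1305
  · exact L1311
  · exact L1317
  · exact L818
  · exact L825

theorem cl_e_2 : ∀ r, r < 64 → sm ge (Qf (64 * 2 + r)) = Qf (tab Gen.e (64 * 2 + r)) := by
  intro r hr
  interval_cases r
  · exact L834
  · exact L1502
  · exact L1506
  · exact L1347
  · exact L1033
  · exact L1001
  · exact L941
  · exact L1745
  · exact L17879
  · exact L968
  · exact L1797
  · exact L1000
  · exact L1004
  · exact L1879
  · exact L1032
  · exact L2042
  · exact L1098
  · exact L2083
  · exact L2091
  · exact L1116
  · exact L2105
  · exact L2109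
  · exact L2101
  · exact L1135
  · exact L1141
  · exact L2151
  · exact L2159
  · exact L2176
  · exact L1171
  · exact L1190
  · exact L1194
  · exact L2244
  · exact L2234
  · exact L2240
  · exact L2216
  · exact L1214
  · exact L1227
  · exact L2288
  · exact L2292
  · exact L2306
  · exact L1246
  · exact L2355
  · exact L1280
  · exact L1286
  · exact L1292
  · exact L2461
  · exact L1304
  · exact L1310
  · exact L1316
  · exact L1321
  · exact L1329
  · exact L2533
  · exact L2537
  · exact L1346
  · exact L2441
  · exact L2449
  · exact L2457
  · exact L1428
  · exact L2767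
  · exact L2771
  · exact L2776
  · exact L2495
  · exact L2857
  · exact L2505

theorem cl_e_3 : ∀ r, r < 64 → sm ge (Qf (64 * 3 + r)) = Qf (tab Gen.e (64 * 3 + r)) := by
  intro r hr
  interval_cases r
  · exact L2511
  · exact L1865
  · exact L2517
  · exact L2527
  · exact L1501
  · exact L1505
  · exact L2941
  · exact L2945
  · exact L2950
  · exact L2961
  · exact L2967
  · exact L2570
  · exact L2576
  · exact L2582
  · exact L1907
  · exact L1859
  · exact L17878
  · exact L1744
  · exact L3522
  · exact L17657
  · exact L12456
  · exact L1796
  · exact L3604
  · exact L3610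
  · exact L1858
  · exact L1864
  · exact L1878
  · exact L3798
  · exact L1906
  · exact L2043
  · exact L4155
  · exact L4159
  · exact L16897
  · exact L2082
  · exact L2090
  · exact L4229
  · exact L4233
  · exact L2100
  · exact L2104
  · exact L2108
  · exact L4342
  · exact L4348
  · exact L4364
  · exact L4326
  · exact L4332
  · exact L4338
  · exact L2150
  · exact L2158
  · exact L2175
  · exact L4442
  · exact L2215
  · exact L2233
  · exact L2239
  · exact L2243
  · exact L4602
  · exact L4580
  · exact L4588
  · exact L4546
  · exact L4594
  · exact L17763
  · exact L2287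
  · exact L2291
  · exact L2305
  · exact L4686

theorem cl_e_4 : ∀ r, r < 64 → sm ge (Qf (64 * 4 + r)) = Qf (tab Gen.e (64 * 4 + r)) := by
  intro r hr
  interval_cases r
  · exact L4700
  · exact L4734
  · exact L4738
  · exact L2354
  · exact L76810
  · exact L2440
  · exact L2448
  · exact L2456
  · exact L2460
  · exact L5001
  · exact L5009
  · exact L5015
  · exact L2494
  · exact L5121
  · exact L2504
  · exact L2510
  · exact L2516
  · exact L2526
  · exact L2532
  · exact L2536
  · exact L5176
  · exact L5180
  · exact L5195
  · exact L5200
  · exact L2569
  · exact L2575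
  · exact L2581
  · exact L4963
  · exact L5761
  · exact L4977
  · exact L4985
  · exact L4991
  · exact L2766
  · exact L2770
  · exact L2775
  · exact L5810
  · exact L5816
  · exact L80365
  · exact L5833
  · exact L5098
  · exact L5995
  · exact L5108
  · exact L5114
  · exact L2858
  · exact L6033
  · exact L6037
  · exact L5136
  · exact L5142
  · exact L5148
  · exact L5157
  · exact L3770
  · exact L5165
  · exact L5171
  · exact L2940
  · exact L2944
  · exact L2949
  · exact L2960
  · exact L2966
  · exact L6209
  · exact L76835
  · exact L6226
  · exact L77408
  · exact L6261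
  · exact L5289

theorem cl_e_5 : ∀ r, r < 64 → sm ge (Qf (64 * 5 + r)) = Qf (tab Gen.e (64 * 5 + r)) := by
  intro r hr
  interval_cases r
  · exact L5297
  · exact L5305
  · exact L3850
  · exact L5311
  · exact L5321
  · exact L3844
  · exact L3760
  · exact L3858
  · exact L17656
  · exact L12457
  · exact L3521
  · exact L17666
  · exact L17636
  · exact L18030
  · exact L3603
  · exact L3609
  · exact L3759
  · exact L12388
  · exact L3769
  · exact L17764
  · exact L3797
  · exact L3843
  · exact L3849
  · exact L3857
  · exact L16898
  · exact L4154
  · exact L4158
  · exact L8537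
  · exact L16874
  · exact L16868
  · exact L13936
  · exact L4228
  · exact L4232
  · exact L4325
  · exact L4331
  · exact L4337
  · exact L4341
  · exact L4347
  · exact L4363
  · exact L8721
  · exact L8883
  · exact L8732
  · exact L8738
  · exact L8744
  · exact L8752
  · exact L8770
  · exact L4441
  · exact L4545
  · exact L4579
  · exact L12389
  · exact L4587
  · exact L4593
  · exact L4601
  · exact L9258
  · exact L9266
  · exact L9270
  · exact L9278
  · exact L9180
  · exact L17754
  · exact L17072
  · exact L9288
  · exact L17073
  · exact L17558
  · exact L4685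

theorem cl_e_6 : ∀ r, r < 64 → sm ge (Qf (64 * 6 + r)) = Qf (tab Gen.e (64 * 6 + r)) := by
  intro r hr
  interval_cases r
  · exact L4699
  · exact L4733
  · exact L4737
  · exact L9587
  · exact L76820
  · exact L4962
  · exact L10140
  · exact L4976
  · exact L4984
  · exact L4990
  · exact L5000
  · exact L5008
  · exact L5014
  · exact L5097
  · exact L10329
  · exact L5107
  · exact L5113
  · exact L10378
  · exact L5122
  · exact L10405
  · exact L10411
  · exact L5135
  · exact L5141
  · exact L5147
  · exact L5156
  · exact L5164
  · exact L5170
  · exact L5175
  · exact L5179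
  · exact L5194
  · exact L5199
  · exact L80350
  · exact L10563
  · exact L5288
  · exact L5296
  · exact L5304
  · exact L5310
  · exact L5320
  · exact L10127
  · exact L18573
  · exact L10135
  · exact L10139
  · exact L5762
  · exact L18610
  · exact L18618
  · exact L10167
  · exact L10171
  · exact L10177
  · exact L10181
  · exact L10187
  · exact L5809
  · exact L5815
  · exact L5832
  · exact L76855
  · exact L80358
  · exact L18679
  · exact L10306
  · exact L18719
  · exact L10318
  · exact L10326
  · exact L18745
  · exact L5996
  · exact L18760
  · exact L18764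

theorem cl_e_7 : ∀ r, r < 64 → sm ge (Qf (64 * 7 + r)) = Qf (tab Gen.e (64 * 7 + r)) := by
  intro r hr
  interval_cases r
  · exact L10346
  · exact L10354
  · exact L10360
  · exact L10371
  · exact L6032
  · exact L6036
  · exact L18820
  · exact L18824
  · exact L18830
  · exact L18838
  · exact L10437
  · exact L7757
  · exact L10441
  · exact L10445
  · exact L10465
  · exact L10469
  · exact L10475
  · exact L10488
  · exact L10495
  · exact L6208
  · exact L6225
  · exact L6260
  · exact L80362
  · exact L76847
  · exact L77419
  · exact L77397
  · exact L19001
  · exact L10644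
  · exact L111164
  · exact L10662
  · exact L10668
  · exact L7881
  · exact L7729
  · exact L10674
  · exact L7873
  · exact L7719
  · exact L7735
  · exact L7905
  · exact L17665
  · exact L12403
  · exact L17635
  · exact L18029
  · exact L100183
  · exact L19197
  · exact L100182
  · exact L19217
  · exact L18461
  · exact L19221
  · exact L18509
  · exact L7718
  · exact L18417
  · exact L7728
  · exact L7734
  · exact L12402
  · exact L18419
  · exact L7756
  · exact L17753
  · exact L17557
  · exact L7872
  · exact L7880
  · exact L111163
  · exact L7904
  · exact L16873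
  · exact L16867

theorem cl_e_8 : ∀ r, r < 64 → sm ge (Qf (64 * 8 + r)) = Qf (tab Gen.e (64 * 8 + r)) := by
  intro r hr
  interval_cases r
  · exact L13935
  · exact L8536
  · exact L19435
  · exact L19450
  · exact L19458
  · exact L18460
  · exact L19464
  · exact L8720
  · exact L19513
  · exact L8731
  · exact L8737
  · exact L8743
  · exact L8751
  · exact L8769
  · exact L19496
  · exact L111075
  · exact L19506
  · exact L19512
  · exact L8884
  · exact L19617
  · exact L112275
  · exact L19531
  · exact L19537
  · exact L19543
  · exact L19553
  · exact L18463
  · exact L19559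
  · exact L9179
  · exact L9257
  · exact L18416
  · exact L9265
  · exact L9269
  · exact L18418
  · exact L9277
  · exact L9287
  · exact L18644
  · exact L19701
  · exact L19715
  · exact L19721
  · exact L19743
  · exact L19749
  · exact L19695
  · exact L19757
  · exact L19769
  · exact L19773
  · exact L19779
  · exact L19683
  · exact L19689
  · exact L19371
  · exact L18510
  · exact L18512
  · exact L19922
  · exact L18511
  · exact L18462
  · exact L18526
  · exact L19375
  · exact L9586
  · exact L80367
  · exact L10126
  · exact L20032
  · exact L10134
  · exact L10138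
  · exact L10141
  · exact L20081

theorem cl_e_9 : ∀ r, r < 64 → sm ge (Qf (64 * 9 + r)) = Qf (tab Gen.e (64 * 9 + r)) := by
  intro r hr
  interval_cases r
  · exact L20091
  · exact L10166
  · exact L10170
  · exact L10176
  · exact L10180
  · exact L10186
  · exact L18525
  · exact L10305
  · exact L20166
  · exact L10317
  · exact L10325
  · exact L20196
  · exact L10330
  · exact L20213
  · exact L20219
  · exact L10345
  · exact L10353
  · exact L10359
  · exact L10370
  · exact L20280
  · exact L10379
  · exact L20306
  · exact L20314
  · exact L10404
  · exact L10410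
  · exact L20328
  · exact L20334
  · exact L20342
  · exact L20350
  · exact L10436
  · exact L10440
  · exact L10444
  · exact L10464
  · exact L10468
  · exact L10474
  · exact L10487
  · exact L10494
  · exact L10562
  · exact L77572
  · exact L80339
  · exact L10643
  · exact L10661
  · exact L10667
  · exact L10673
  · exact L20009
  · exact L20712
  · exact L20019
  · exact L20025
  · exact L20736
  · exact L18574
  · exact L20753
  · exact L20049
  · exact L20055
  · exact L20061
  · exact L20069
  · exact L18609
  · exact L18617
  · exact L20807
  · exact L20811
  · exact L20103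
  · exact L20107
  · exact L20113
  · exact L20117
  · exact L20121

theorem cl_e_10 : ∀ r, r < 64 → sm ge (Qf (64 * 10 + r)) = Qf (tab Gen.e (64 * 10 + r)) := by
  intro r hr
  interval_cases r
  · exact L18643
  · exact L20127
  · exact L20135
  · exact L18678
  · exact L77579
  · exact L20147
  · exact L20151
  · exact L20980
  · exact L20161
  · exact L111076
  · exact L21014
  · exact L18720
  · exact L21041
  · exact L21047
  · exact L112274
  · exact L18746
  · exact L21101
  · exact L18759
  · exact L18763
  · exact L21129
  · exact L21135
  · exact L21141
  · exact L21149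
  · exact L20249
  · exact L19311
  · exact L20255
  · exact L20259
  · exact L18819
  · exact L18823
  · exact L18829
  · exact L18837
  · exact L21237
  · exact L21241
  · exact L21245
  · exact L21249
  · exact L20384
  · exact L19361
  · exact L20390
  · exact L19367
  · exact L20396
  · exact L20404
  · exact L20410
  · exact L20414
  · exact L20420
  · exact L20472
  · exact L20486
  · exact L20501
  · exact L19000
  · exact L77569
  · exact L77575
  · exact L77389
  · exact L114729
  · exact L115047
  · exact L20629
  · exact L20633
  · exact L20639
  · exact L20645
  · exact L112867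
  · exact L20655
  · exact L19409
  · exact L19285
  · exact L20661
  · exact L20665
  · exact L20671

theorem cl_e_11 : ∀ r, r < 64 → sm ge (Qf (64 * 11 + r)) = Qf (tab Gen.e (64 * 11 + r)) := by
  intro r hr
  interval_cases r
  · exact L19385
  · exact L19391
  · exact L19397
  · exact L19271
  · exact L19331
  · exact L19429
  · exact L19339
  · exact L19196
  · exact L19349
  · exact L19216
  · exact L19220
  · exact L100157
  · exact L21972
  · exact L100156
  · exact L22000
  · exact L22004
  · exact L22010
  · exact L19485
  · exact L22073
  · exact L19901
  · exact L19270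
  · exact L19707
  · exact L19284
  · exact L19727
  · exact L19733
  · exact L19739
  · exact L19310
  · exact L114730
  · exact L19330
  · exact L19338
  · exact L19348
  · exact L19765
  · exact L19360
  · exact L19366
  · exact L19370
  · exact L19374
  · exact L19384
  · exact L19390
  · exact L19396
  · exact L19408
  · exact L115046
  · exact L19428
  · exact L19434
  · exact L20297
  · exact L19449
  · exact L19457
  · exact L19463
  · exact L22465
  · exact L22477
  · exact L22501
  · exact L19484
  · exact L19495
  · exact L112230
  · exact L19505
  · exact L19511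
  · exact L19514
  · exact L22655
  · exact L112244
  · exact L19530
  · exact L19536
  · exact L19542
  · exact L19552
  · exact L19558
  · exact L22575

theorem cl_e_12 : ∀ r, r < 64 → sm ge (Qf (64 * 12 + r)) = Qf (tab Gen.e (64 * 12 + r)) := by
  intro r hr
  interval_cases r
  · exact L22591
  · exact L22599
  · exact L111976
  · exact L22620
  · exact L22646
  · exact L19616
  · exact L22804
  · exact L22810
  · exact L112158
  · exact L22690
  · exact L22694
  · exact L22700
  · exact L22704
  · exact L22718
  · exact L22722
  · exact L19941
  · exact L22929
  · exact L19682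
  · exact L19688
  · exact L19694
  · exact L19700
  · exact L19706
  · exact L19714
  · exact L19720
  · exact L19726
  · exact L19732
  · exact L19738
  · exact L19742
  · exact L19748
  · exact L19756
  · exact L19764
  · exact L19768
  · exact L19772
  · exact L19778
  · exact L23141
  · exact L20881
  · exact L22141
  · exact L22142
  · exact L22982
  · exact L23010
  · exact L23068
  · exact L23074
  · exact L23080
  · exact L22968
  · exact L23088
  · exact L23108
  · exact L23114
  · exact L23120
  · exact L23295
  · exact L23132
  · exact L23138
  · exact L22944
  · exact L22284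
  · exact L109877
  · exact L22274
  · exact L22278
  · exact L22258
  · exact L19900
  · exact L19933
  · exact L23419
  · exact L23431
  · exact L19923
  · exact L23444
  · exact L19932

theorem cl_e_13 : ∀ r, r < 64 → sm ge (Qf (64 * 13 + r)) = Qf (tab Gen.e (64 * 13 + r)) := by
  intro r hr
  interval_cases r
  · exact L19940
  · exact L20141
  · exact L20008
  · exact L23593
  · exact L20018
  · exact L20024
  · exact L109813
  · exact L20033
  · exact L23638
  · exact L95302
  · exact L20048
  · exact L20054
  · exact L20060
  · exact L20068
  · exact L20080
  · exact L20090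
  · exact L23710
  · exact L112866
  · exact L20102
  · exact L20106
  · exact L20112
  · exact L20116
  · exact L20120
  · exact L20126
  · exact L79214
  · exact L20134
  · exact L20140
  · exact L20146
  · exact L20150
  · exact L20160
  · exact L20167
  · exact L23926
  · exact L21956
  · exact L20197
  · exact L116571
  · exact L20212
  · exact L20218
  · exact L24018
  · exact L24034
  · exact L24044
  · exact L20248
  · exact L20254
  · exact L20258
  · exact L21955
  · exact L20281
  · exact L116681
  · exact L20296
  · exact L20305
  · exact L20313
  · exact L116678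
  · exact L20327
  · exact L20333
  · exact L20341
  · exact L20349
  · exact L24366
  · exact L24370
  · exact L24376
  · exact L24382
  · exact L20383
  · exact L20389
  · exact L20395
  · exact L20403
  · exact L20409
  · exact L20413

theorem cl_e_14 : ∀ r, r < 64 → sm ge (Qf (64 * 14 + r)) = Qf (tab Gen.e (64 * 14 + r)) := by
  intro r hr
  interval_cases r
  · exact L20419
  · exact L20471
  · exact L79793
  · exact L20485
  · exact L20500
  · exact L77494
  · exact L20628
  · exact L20632
  · exact L20638
  · exact L20644
  · exact L20654
  · exact L20660
  · exact L20664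
  · exact L20670
  · exact L116680
  · exact L25073
  · exact L25103
  · exact L20713
  · exact L25130
  · exact L20737
  · exact L25180
  · exact L20752
  · exact L25212
  · exact L25218
  · exact L23674
  · exact L23680
  · exact L23686
  · exact L23700
  · exact L23704
  · exact L20806
  · exact L20810
  · exact L25316
  · exact L25320
  · exact L25326
  · exact L25330
  · exact L25340
  · exact L23744
  · exact L23750
  · exact L23756
  · exact L117595
  · exact L23768
  · exact L23774
  · exact L23786
  · exact L20880
  · exact L23820
  · exact L25621
  · exact L116677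
  · exact L111104
  · exact L25691
  · exact L20981
  · exact L25704
  · exact L112229
  · exact L111977
  · exact L25759
  · exact L21015
  · exact L25782
  · exact L21040
  · exact L21046
  · exact L112243
  · exact L112159
  · exact L21100
  · exact L25910
  · exact L25916
  · exact L21128

theorem cl_e_15 : ∀ r, r < 64 → sm ge (Qf (64 * 15 + r)) = Qf (tab Gen.e (64 * 15 + r)) := by
  intro r hr
  interval_cases r
  · exact L21134
  · exact L21140
  · exact L21148
  · exact L25956
  · exact L25962
  · exact L25968
  · exact L25972
  · exact L22188
  · exact L22196
  · exact L117173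
  · exact L115552
  · exact L24100
  · exact L111981
  · exact L21236
  · exact L21240
  · exact L21244
  · exact L21248
  · exact L26172
  · exact L26178
  · exact L26184
  · exact L26198
  · exact L26212
  · exact L26216
  · exact L22244
  · exact L22252
  · exact L22268
  · exact L24524
  · exact L24530
  · exact L24536
  · exact L24544
  · exact L24550
  · exact L24556
  · exact L79939
  · exact L24568
  · exact L24686
  · exact L77522
  · exact L114721
  · exact L115027
  · exact L114967
  · exact L24856
  · exact L24862
  · exact L27197
  · exact L24896
  · exact L112848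
  · exact L103044
  · exact L112875
  · exact L110450
  · exact L103154
  · exact L22393
  · exact L22355
  · exact L103155
  · exact L22122
  · exact L24943
  · exact L114930
  · exact L24984
  · exact L22300
  · exact L95301
  · exact L22343
  · exact L22088
  · exact L22098
  · exact L109812
  · exact L22204
  · exact L22443
  · exact L22449

theorem cl_e_16 : ∀ r, r < 64 → sm ge (Qf (64 * 16 + r)) = Qf (tab Gen.e (64 * 16 + r)) := by
  intro r hr
  interval_cases r
  · exact L22457
  · exact L21971
  · exact L22230
  · exact L21999
  · exact L22003
  · exact L22009
  · exact L27763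
  · exact L110917
  · exact L27688
  · exact L27694
  · exact L27702
  · exact L110918
  · exact L27730
  · exact L27736
  · exact L27742
  · exact L27859
  · exact L27754
  · exact L27760
  · exact L22074
  · exact L27896
  · exact L23396
  · exact L22087
  · exact L22097
  · exact L22996
  · exact L22121
  · exact L23044
  · exact L111103
  · exact L23062
  · exact L22187
  · exact L22195
  · exact L114720
  · exact L22203
  · exact L109878
  · exact L22229
  · exact L23094
  · exact L23098
  · exact L23104
  · exact L22243
  · exact L22251
  · exact L22257
  · exact L22267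
  · exact L22273
  · exact L22277
  · exact L22283
  · exact L116817
  · exact L22299
  · exact L110451
  · exact L22342
  · exact L22354
  · exact L103043
  · exact L22392
  · exact L115028
  · exact L114968
  · exact L22442
  · exact L22448
  · exact L22456
  · exact L22464
  · exact L24158
  · exact L22476
  · exact L24319
  · exact L24328
  · exact L22500
  · exact L28433
  · exact L22574

theorem cl_e_17 : ∀ r, r < 64 → sm ge (Qf (64 * 17 + r)) = Qf (tab Gen.e (64 * 17 + r)) := by
  intro r hr
  interval_cases r
  · exact L23022
  · exact L22590
  · exact L22598
  · exact L109566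
  · exact L111945
  · exact L22619
  · exact L22645
  · exact L22654
  · exact L28767
  · exact L28774
  · exact L112286
  · exact L22689
  · exact L22693
  · exact L22699
  · exact L22703
  · exact L22717
  · exact L22721
  · exact L28924
  · exact L28636
  · exact L118241
  · exact L28725
  · exact L28761
  · exact L22803
  · exact L22809
  · exact L117174
  · exact L29091
  · exact L115553
  · exact L29099
  · exact L111982
  · exact L28827
  · exact L28833
  · exact L28839
  · exact L28857
  · exact L28867
  · exact L28875
  · exact L23470
  · exact L29326
  · exact L22930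
  · exact L22943
  · exact L22967
  · exact L22981
  · exact L22995
  · exact L23009
  · exact L23021
  · exact L23043
  · exact L23061
  · exact L23067
  · exact L23073
  · exact L23079
  · exact L23087
  · exact L23093
  · exact L23097
  · exact L23103
  · exact L23107
  · exact L23113
  · exact L23119
  · exact L29638
  · exact L23131
  · exact L23137
  · exact L23142
  · exact L29674
  · exact L23178
  · exact L23589
  · exact L23177

theorem cl_e_18 : ∀ r, r < 64 → sm ge (Qf (64 * 18 + r)) = Qf (tab Gen.e (64 * 18 + r)) := by
  intro r hr
  interval_cases r
  · exact L29371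
  · exact L29413
  · exact L29417
  · exact L29421
  · exact L29509
  · exact L29349
  · exact L29545
  · exact L29549
  · exact L113719
  · exact L113547
  · exact L29605
  · exact L113599
  · exact L29617
  · exact L117887
  · exact L29629
  · exact L29635
  · exact L23296
  · exact L30015
  · exact L23416
  · exact L29655
  · exact L89655
  · exact L29337
  · exact L113598
  · exact L28254
  · exact L113548
  · exact L106888
  · exact L28230
  · exact L28236
  · exact L28208
  · exact L116847
  · exact L28214
  · exact L23395
  · exact L117046
  · exact L23462
  · exact L30254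
  · exact L23466
  · exact L23415
  · exact L23420
  · exact L23432
  · exact L23443
  · exact L30301
  · exact L30311
  · exact L23461
  · exact L23465
  · exact L23469
  · exact L23590
  · exact L23594
  · exact L30579
  · exact L116572
  · exact L113938
  · exact L23637
  · exact L30657
  · exact L111518
  · exact L23673
  · exact L23679
  · exact L23685
  · exact L23699
  · exact L23703
  · exact L23709
  · exact L30793
  · exact L30797
  · exact L30805
  · exact L112849
  · exact L112874

theorem cl_e_19 : ∀ r, r < 64 → sm ge (Qf (64 * 19 + r)) = Qf (tab Gen.e (64 * 19 + r)) := by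
  intro r hr
  interval_cases r
  · exact L23743
  · exact L23749
  · exact L23755
  · exact L30930
  · exact L23767
  · exact L23773
  · exact L23785
  · exact L117596
  · exact L79213
  · exact L79221
  · exact L23819
  · exact L116846
  · exact L116816
  · exact L23925
  · exact L24017
  · exact L24033
  · exact L24043
  · exact L31373
  · exact L24099
  · exact L24157
  · exact L24318
  · exact L24327
  · exact L24365
  · exact L24369
  · exact L24375
  · exact L24381
  · exact L31838
  · exact L31846
  · exact L113450
  · exact L31862
  · exact L113409
  · exact L31880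
  · exact L31884
  · exact L112835
  · exact L24523
  · exact L24529
  · exact L24535
  · exact L24543
  · exact L24549
  · exact L24555
  · exact L98937
  · exact L24567
  · exact L79938
  · exact L79792
  · exact L79220
  · exact L24685
  · exact L24855
  · exact L24861
  · exact L117719
  · exact L24895
  · exact L24942
  · exact L24983
  · exact L116695
  · exact L33020
  · exact L25074
  · exact L25104
  · exact L25129
  · exact L25179
  · exact L33241
  · exact L25211
  · exact L25217
  · exact L33299
  · exact L30781
  · exact L25315

theorem cl_e_20 : ∀ r, r < 64 → sm ge (Qf (64 * 20 + r)) = Qf (tab Gen.e (64 * 20 + r)) := by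
  intro r hr
  interval_cases r
  · exact L25319
  · exact L25325
  · exact L25329
  · exact L25339
  · exact L33529
  · exact L118240
  · exact L117718
  · exact L117180
  · exact L30909
  · exact L30921
  · exact L116070
  · exact L88343
  · exact L34224
  · exact L25622
  · exact L116698
  · exact L34360
  · exact L25692
  · exact L34377
  · exact L109565
  · exact L25703
  · exact L111944
  · exact L25760
  · exact L25781
  · exact L112285
  · exact L25909
  · exact L25915
  · exact L34847
  · exact L34857
  · exact L25955
  · exact L25961
  · exact L25967
  · exact L25971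
  · exact L117199
  · exact L115550
  · exact L34991
  · exact L111931
  · exact L28052
  · exact L114932
  · exact L116040
  · exact L115229
  · exact L114931
  · exact L111986
  · exact L26171
  · exact L26177
  · exact L26183
  · exact L113184
  · exact L26197
  · exact L26211
  · exact L26215
  · exact L35463
  · exact L35541
  · exact L35547
  · exact L28186
  · exact L28200
  · exact L28204
  · exact L32236
  · exact L116843
  · exact L107307
  · exact L116039
  · exact L115228
  · exact L107198
  · exact L98936
  · exact L107197
  · exact L32322

theorem cl_e_21 : ∀ r, r < 64 → sm ge (Qf (64 * 21 + r)) = Qf (tab Gen.e (64 * 21 + r)) := by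
  intro r hr
  interval_cases r
  · exact L32588
  · exact L27266
  · exact L117302
  · exact L32781
  · exact L73896
  · exact L37584
  · exact L27198
  · exact L110460
  · exact L112834
  · exact L112880
  · exact L107094
  · exact L27265
  · exact L27982
  · exact L37750
  · exact L28324
  · exact L107095
  · exact L117550
  · exact L27944
  · exact L27988
  · exact L111729
  · exact L111519
  · exact L28298
  · exact L27916
  · exact L27950
  · exact L113937
  · exact L28413
  · exact L38302
  · exact L28425
  · exact L27687
  · exact L27693
  · exact L27701
  · exact L28138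
  · exact L27729
  · exact L27735
  · exact L27741
  · exact L38536
  · exact L27753
  · exact L27759
  · exact L27764
  · exact L110757
  · exact L114164
  · exact L38407
  · exact L116948
  · exact L110758
  · exact L116947
  · exact L38503
  · exact L113718
  · exact L113834
  · exact L38856
  · exact L27860
  · exact L89225
  · exact L27895
  · exact L117549
  · exact L117525
  · exact L27915
  · exact L27943
  · exact L27949
  · exact L27981
  · exact L27987
  · exact L89654
  · exact L29487
  · exact L28051
  · exact L88344
  · exact L106887

theorem cl_e_22 : ∀ r, r < 64 → sm ge (Qf (64 * 22 + r)) = Qf (tab Gen.e (64 * 22 + r)) := by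
  intro r hr
  interval_cases r
  · exact L28137
  · exact L29567
  · exact L29575
  · exact L28185
  · exact L28199
  · exact L28203
  · exact L28207
  · exact L28213
  · exact L28229
  · exact L28235
  · exact L75685
  · exact L28253
  · exact L112879
  · exact L28297
  · exact L110461
  · exact L28323
  · exact L40082
  · exact L117301
  · exact L114933
  · exact L28412
  · exact L40191
  · exact L28424
  · exact L28432
  · exact L31655
  · exact L116694
  · exact L116699
  · exact L28635
  · exact L29439
  · exact L118313
  · exact L118257
  · exact L28724
  · exact L28760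
  · exact L28766
  · exact L28773
  · exact L117200
  · exact L40837
  · exact L115549
  · exact L112210
  · exact L111930
  · exact L28826
  · exact L28832
  · exact L28838
  · exact L28856
  · exact L28866
  · exact L28874
  · exact L28925
  · exact L117090
  · exact L113183
  · exact L40819
  · exact L40825
  · exact L29090
  · exact L29098
  · exact L117181
  · exact L116069
  · exact L111985
  · exact L38759
  · exact L38748
  · exact L41029
  · exact L59033
  · exact L30357
  · exact L41970
  · exact L30343
  · exact L107553
  · exact L29327

theorem cl_e_23 : ∀ r, r < 64 → sm ge (Qf (64 * 23 + r)) = Qf (tab Gen.e (64 * 23 + r)) := by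
  intro r hr
  interval_cases r
  · exact L29336
  · exact L29348
  · exact L29370
  · exact L117526
  · exact L29412
  · exact L29416
  · exact L29420
  · exact L29438
  · exact L29486
  · exact L29508
  · exact L114451
  · exact L29544
  · exact L29548
  · exact L29566
  · exact L29574
  · exact L29604
  · exact L29616
  · exact L117743
  · exact L29628
  · exact L29634
  · exact L42718
  · exact L29639
  · exact L42731
  · exact L29654
  · exact L29675
  · exact L29701
  · exact L29700
  · exact L113748
  · exact L113943
  · exact L113944
  · exact L117045
  · exact L89224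
  · exact L114165
  · exact L117886
  · exact L113833
  · exact L42059
  · exact L117538
  · exact L42497
  · exact L107552
  · exact L117416
  · exact L113562
  · exact L42623
  · exact L107390
  · exact L114071
  · exact L98776
  · exact L116853
  · exact L113920
  · exact L30014
  · exact L114146
  · exact L30249
  · exact L30277
  · exact L107680
  · exact L114072
  · exact L107391
  · exact L113561
  · exact L38758
  · exact L113408
  · exact L113449
  · exact L107679
  · exact L39951
  · exact L116882
  · exact L39903
  · exact L116838
  · exact L117089

theorem cl_e_24 : ∀ r, r < 64 → sm ge (Qf (64 * 24 + r)) = Qf (tab Gen.e (64 * 24 + r)) := by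
  intro r hr
  interval_cases r
  · exact L117438
  · exact L30337
  · exact L30248
  · exact L84202
  · exact L30255
  · exact L84196
  · exact L44199
  · exact L30351
  · exact L30276
  · exact L30300
  · exact L30310
  · exact L73895
  · exact L117470
  · exact L114278
  · exact L30336
  · exact L30342
  · exact L30350
  · exact L30356
  · exact L30578
  · exact L30656
  · exact L113175
  · exact L92679
  · exact L116814
  · exact L30780
  · exact L30792
  · exact L30796
  · exact L30804
  · exact L74836
  · exact L117894
  · exact L84460
  · exact L45198
  · exact L30908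
  · exact L98777
  · exact L30920
  · exact L98722
  · exact L30931
  · exact L114452
  · exact L79724
  · exact L116883
  · exact L75686
  · exact L116854
  · exact L116839
  · exact L31372
  · exact L31654
  · exact L31837
  · exact L31845
  · exact L31861
  · exact L31879
  · exact L31883
  · exact L117533
  · exact L110696
  · exact L47393
  · exact L47411
  · exact L111728
  · exact L32235
  · exact L107308
  · exact L32321
  · exact L116842
  · exact L79723
  · exact L32587
  · exact L32780
  · exact L81893
  · exact L33021
  · exact L33240

theorem cl_e_25 : ∀ r, r < 64 → sm ge (Qf (64 * 25 + r)) = Qf (tab Gen.e (64 * 25 + r)) := by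
  intro r hr
  interval_cases r
  · exact L33298
  · exact L107155
  · exact L33528
  · exact L118258
  · exact L51324
  · exact L74882
  · exact L98723
  · exact L117742
  · exact L52677
  · exact L34225
  · exact L116706
  · exact L34361
  · exact L34376
  · exact L118312
  · exact L34846
  · exact L34856
  · exact L112209
  · exact L53890
  · exact L117895
  · exact L34990
  · exact L115510
  · exact L115564
  · exact L115560
  · exact L111937
  · exact L35462
  · exact L35540
  · exact L35546
  · exact L55252
  · exact L107156
  · exact L116840
  · exact L79607
  · exact L37731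
  · exact L84459
  · exact L117475
  · exact L84033
  · exact L117437
  · exact L41947
  · exact L117442
  · exact L37585
  · exact L59032
  · exact L92678
  · exact L107086
  · exact L59706
  · exact L37730
  · exact L85090
  · exact L114238
  · exact L114277
  · exact L118342
  · exact L37751
  · exact L118341
  · exact L59797
  · exact L40025
  · exact L107085
  · exact L117539
  · exact L117469
  · exact L59037
  · exact L111721
  · exact L106934
  · exact L113921
  · exact L106935
  · exact L113798
  · exact L38303
  · exact L113816
  · exact L38406

theorem cl_e_26 : ∀ r, r < 64 → sm ge (Qf (64 * 26 + r)) = Qf (tab Gen.e (64 * 26 + r)) := by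
  intro r hr
  interval_cases r
  · exact L38502
  · exact L38537
  · exact L113825
  · exact L113749
  · exact L113824
  · exact L38749
  · exact L74837
  · exact L117417
  · exact L38857
  · exact L114013
  · exact L85091
  · exact L117441
  · exact L117474
  · exact L114145
  · exact L39902
  · exact L116841
  · exact L39950
  · exact L75659
  · exact L116815
  · exact L40024
  · exact L118346
  · exact L85052
  · exact L40083
  · exact L40192
  · exact L81892
  · exact L116705
  · exact L118317
  · exact L115595
  · exact L40818
  · exact L40824
  · exact L40836
  · exact L115511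
  · exact L115561
  · exact L115565
  · exact L74883
  · exact L108379
  · exact L111938
  · exact L41028
  · exact L59036
  · exact L41946
  · exact L107576
  · exact L41971
  · exact L44353
  · exact L98590
  · exact L42058
  · exact L117534
  · exact L42496
  · exact L42622
  · exact L116833
  · exact L42719
  · exact L42730
  · exact L84032
  · exact L114014
  · exact L98589
  · exact L107577
  · exact L98736
  · exact L107871
  · exact L98155
  · exact L113817
  · exact L85053
  · exact L107962
  · exact L113174
  · exact L116868
  · exact L84197

theorem cl_e_27 : ∀ r, r < 54 → sm ge (Qf (64 * 27 + r)) = Qf (tab Gen.e (64 * 27 + r)) := by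
  intro r hr
  interval_cases r
  · exact L84203
  · exact L117446
  · exact L110695
  · exact L84161
  · exact L44198
  · exact L114239
  · exact L84160
  · exact L44352
  · exact L111720
  · exact L45197
  · exact L107961
  · exact L98154
  · exact L107870
  · exact L98735
  · exact L75658
  · exact L116869
  · exact L116832
  · exact L47392
  · exact L47410
  · exact L79606
  · exact L111763
  · exact L113797
  · exact L118428
  · exact L51323
  · exact L115594
  · exact L118391
  · exact L52678
  · exact L118316
  · exact L53889
  · exact L108378
  · exact L118444
  · exact L118457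
  · exact L55251
  · exact L59317
  · exact L59316
  · exact L118373
  · exact L117445
  · exact L118405
  · exact L59707
  · exact L118404
  · exact L118408
  · exact L118345
  · exact L59796
  · exact L118409
  · exact L111764
  · exact L118429
  · exact L118464
  · exact L118456
  · exact L118390
  · exact L118443
  · exact L118374
  · exact L118463
  · exact L118482
  · exact L118481

theorem cl_e : ∀ i, i < 1782 → sm ge (Qf i) = Qf (tab Gen.e i) := by
  intro i hi
  obtain ⟨k, r, rfl, hr⟩ : ∃ k r, i = 64 * k + r ∧ r < 64 := ⟨i / 64, i % 64, by omega, by omega⟩
  have hk : k < 28 := by omega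
  interval_cases k
  · exact cl_e_0 r (by omega)
  · exact cl_e_1 r (by omega)
  · exact cl_e_2 r (by omega)
  · exact cl_e_3 r (by omega)
  · exact cl_e_4 r (by omega)
  · exact cl_e_5 r (by omega)
  · exact cl_e_6 r (by omega)
  · exact cl_e_7 r (by omega)
  · exact cl_e_8 r (by omega)
  · exact cl_e_9 r (by omega)
  · exact cl_e_10 r (by omega)
  · exact cl_e_11 r (by omega)
  · exact cl_e_12 r (by omega)
  · exact cl_e_13 r (by omega)
  · exact cl_e_14 r (by omega)
  · exact cl_e_15 r (by omega)
  · exact cl_e_16 r (by omega)
  · exact cl_e_17 r (by omega)
  · exact cl_e_18 r (by omega)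
  · exact cl_e_19 r (by omega)
  · exact cl_e_20 r (by omega)
  · exact cl_e_21 r (by omega)
  · exact cl_e_22 r (by omega)
  · exact cl_e_23 r (by omega)
  · exact cl_e_24 r (by omega)
  · exact cl_e_25 r (by omega)
  · exact cl_e_26 r (by omega)
  · exact cl_e_27 r (by omega)

theorem cl_f_0 : ∀ r, r < 64 → sm gf (Qf (64 * 0 + r)) = Qf (tab Gen.f (64 * 0 + r)) := by
  intro r hr
  interval_cases r
  · exact L5
  · exact L12
  · exact L28
  · exact L58
  · exact L65
  · exact L29
  · exact L57
  · exact L76
  · exact L95
  · exact L66
  · exact L75
  · exact L125
  · exact L115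
  · exact L153
  · exact L157
  · exact L96
  · exact L103
  · exact L184
  · exact L114
  · exact L241
  · exact L254
  · exact L126
  · exact L265
  · exact L221
  · exact L231
  · exact L293
  · exact L303
  · exact L154
  · exact L158
  · exact L166
  · exact L173
  · exact L337
  · exact L185
  · exact L220
  · exact L230
  · exact L372
  · exact L242
  · exact L389
  · exact L399
  · exact L255
  · exact L412
  · exact L266
  · exact L435
  · exact L356
  · exact L458
  · exact L472
  · exact L294
  · exact L492
  · exact L502
  · exact L304
  · exact L486
  · exact L316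
  · exact L321
  · exact L554
  · exact L560
  · exact L338
  · exact L577
  · exact L355
  · exact L623
  · exact L373
  · exact L645
  · exact L663
  · exact L669
  · exact L390

theorem cl_f_1 : ∀ r, r < 64 → sm gf (Qf (64 * 1 + r)) = Qf (tab Gen.f (64 * 1 + r)) := by
  intro r hr
  interval_cases r
  · exact L688
  · exact L400
  · exact L696
  · exact L413
  · exact L424
  · exact L720
  · exact L738
  · exact L436
  · exact L753
  · exact L594
  · exact L787
  · exact L459
  · exact L490
  · exact L807
  · exact L473
  · exact L829
  · exact L485
  · exact L491
  · exact L493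
  · exact L856
  · exact L503
  · exact L821
  · exact L523
  · exact L946
  · exact L964
  · exact L555
  · exact L561
  · exact L1002
  · exact L578
  · exact L593
  · exact L624
  · exact L1103
  · exact L1119
  · exact L1131
  · exact L646
  · exact L1158
  · exact L17845
  · exact L1192
  · exact L664
  · exact L1202
  · exact L670
  · exact L1221
  · exact L1146
  · exact L689
  · exact L697
  · exact L709
  · exact L1282
  · exact L721
  · exact L751
  · exact L1306
  · exact L739
  · exact L1325
  · exact L752
  · exact L754
  · exact L1035
  · exact L1414
  · exact L788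
  · exact L827
  · exact L17369
  · exact L1454
  · exact L808
  · exact L1474
  · exact L820
  · exact L828

theorem cl_f_2 : ∀ r, r < 64 → sm gf (Qf (64 * 2 + r)) = Qf (tab Gen.f (64 * 2 + r)) := by
  intro r hr
  interval_cases r
  · exact L830
  · exact L1534
  · exact L853
  · exact L1551
  · exact L857
  · exact L1467
  · exact L1740
  · exact L947
  · exact L1788
  · exact L965
  · exact L1757
  · exact L1860
  · exact L1003
  · exact L17844
  · exact L1034
  · exact L2046
  · exact L2076
  · exact L1104
  · exact L1151
  · exact L2102
  · exact L1120
  · exact L2128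
  · exact L2140
  · exact L1132
  · exact L2169
  · exact L1145
  · exact L1152
  · exact L1159
  · exact L18331
  · exact L2235
  · exact L1193
  · exact L2115
  · exact L2257
  · exact L1203
  · exact L2277
  · exact L2153
  · exact L1222
  · exact L2182
  · exact L2315
  · exact L17368
  · exact L1248
  · exact L1254
  · exact L2442
  · exact L1283
  · exact L1323
  · exact L17299
  · exact L2500
  · exact L1307
  · exact L2520
  · exact L1324
  · exact L1326
  · exact L17197
  · exact L1341
  · exact L2571
  · exact L2744
  · exact L1415
  · exact L1472
  · exact L17342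
  · exact L17396
  · exact L13210
  · exact L17324
  · exact L2849
  · exact L2859
  · exact L1455

theorem cl_f_3 : ∀ r, r < 64 → sm gf (Qf (64 * 3 + r)) = Qf (tab Gen.f (64 * 3 + r)) := by
  intro r hr
  interval_cases r
  · exact L2878
  · exact L1466
  · exact L1473
  · exact L1475
  · exact L2947
  · exact L1507
  · exact L17325
  · exact L3029
  · exact L1535
  · exact L1543
  · exact L17260
  · exact L3062
  · exact L1552
  · exact L3078
  · exact L3073
  · exact L2895
  · exact L3511
  · exact L1741
  · exact L1756
  · exact L3589
  · exact L1789
  · exact L3526
  · exact L18143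
  · exact L15785
  · exact L3765
  · exact L1861
  · exact L18332
  · exact L17298
  · exact L3845
  · exact L4152
  · exact L2047
  · exact L18262
  · exact L4214
  · exact L2077
  · exact L2160
  · exact L18142
  · exact L16815
  · exact L4327
  · exact L2103
  · exact L4357
  · exact L2114
  · exact L18261
  · exact L2129
  · exact L4405
  · exact L2141
  · exact L4431
  · exact L2152
  · exact L2161
  · exact L2170
  · exact L2181
  · exact L17760
  · exact L4583
  · exact L2236
  · exact L4344
  · exact L13695
  · exact L4639
  · exact L2258
  · exact L4649
  · exact L4418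
  · exact L2278
  · exact L4444
  · exact L4695
  · exact L17341
  · exact L13696

theorem cl_f_4 : ∀ r, r < 64 → sm gf (Qf (64 * 4 + r)) = Qf (tab Gen.f (64 * 4 + r)) := by
  intro r hr
  interval_cases r
  · exact L2316
  · exact L17397
  · exact L13211
  · exact L2356
  · exact L2361
  · exact L4970
  · exact L2443
  · exact L2518
  · exact L13363
  · exact L2472
  · exact L2473
  · exact L13325
  · exact L5103
  · exact L5125
  · exact L2501
  · exact L5150
  · exact L2519
  · exact L2521
  · exact L17223
  · exact L2538
  · exact L13326
  · exact L17198
  · exact L2558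
  · exact L17259
  · exact L5290
  · exact L2572
  · exact L5314
  · exact L5757
  · exact L5767
  · exact L2745
  · exact L2873
  · exact L17343
  · exact L17514
  · exact L17359
  · exact L13257
  · exact L15784
  · exact L17516
  · exact L17364
  · exact L17388
  · exact L5981
  · exact L5999
  · exact L2850
  · exact L6022
  · exact L6030
  · exact L2860
  · exact L6052
  · exact L6010
  · exact L2874
  · exact L112525
  · exact L2879
  · exact L2894
  · exact L6110
  · exact L2908
  · exact L13256
  · exact L6221
  · exact L2948
  · exact L2962
  · exact L17329
  · exact L17389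
  · exact L6396
  · exact L3030
  · exact L3055
  · exact L15414
  · exact L6451

theorem cl_f_5 : ∀ r, r < 64 → sm gf (Qf (64 * 5 + r)) = Qf (tab Gen.f (64 * 5 + r)) := by
  intro r hr
  interval_cases r
  · exact L3063
  · exact L3076
  · exact L3072
  · exact L3077
  · exact L3079
  · exact L6462
  · exact L6466
  · exact L6494
  · exact L7358
  · exact L3512
  · exact L3525
  · exact L7502
  · exact L3590
  · exact L7371
  · exact L11561
  · exact L15796
  · exact L7724
  · exact L7746
  · exact L3766
  · exact L17759
  · exact L13362
  · exact L7874
  · exact L3846
  · exact L7898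
  · exact L8510
  · exact L4153
  · exact L18178
  · exact L16816
  · exact L8624
  · exact L4215
  · exact L4423
  · exact L11560
  · exact L16770
  · exact L8727
  · exact L4328
  · exact L8763
  · exact L4343
  · exact L18177
  · exact L4358
  · exact L8875
  · exact L8885
  · exact L4406
  · exact L8903
  · exact L4417
  · exact L4424
  · exact L4432
  · exact L4443
  · exact L17756
  · exact L9263
  · exact L9271
  · exact L4584
  · exact L8746
  · exact L17124
  · exact L9391
  · exact L4640
  · exact L9413
  · exact L9402
  · exact L9435
  · exact L4650
  · exact L8916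
  · exact L8920
  · exact L9465
  · exact L17344
  · exact L17123

theorem cl_f_6 : ∀ r, r < 64 → sm gf (Qf (64 * 6 + r)) = Qf (tab Gen.f (64 * 6 + r)) := by
  intro r hr
  interval_cases r
  · exact L4696
  · exact L17515
  · exact L17358
  · exact L17517
  · exact L17363
  · exact L10132
  · exact L10148
  · exact L4971
  · exact L5143
  · exact L17245
  · exact L5011
  · exact L5010
  · exact L17313
  · exact L10311
  · exact L10335
  · exact L5104
  · exact L10364
  · exact L10384
  · exact L10400
  · exact L5126
  · exact L10426
  · exact L10348
  · exact L5144
  · exact L110233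
  · exact L5151
  · exact L10470
  · exact L5172
  · exact L17312
  · exact L17224
  · exact L5196
  · exact L17330
  · exact L5277
  · exact L15413
  · exact L115677
  · exact L5291
  · exact L5312
  · exact L5313
  · exact L5315
  · exact L18561
  · exact L18577
  · exact L5758
  · exact L18597
  · exact L18603
  · exact L5768
  · exact L6046
  · exact L18588
  · exact L18637
  · exact L18534
  · exact L18536
  · exact L18456
  · exact L15795
  · exact L18433
  · exact L18431
  · exact L18451
  · exact L18445
  · exact L18455
  · exact L18709
  · exact L18723
  · exact L5982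
  · exact L6015
  · exact L18749
  · exact L18757
  · exact L6000
  · exact L18783

theorem cl_f_7 : ∀ r, r < 64 → sm gf (Qf (64 * 7 + r)) = Qf (tab Gen.f (64 * 7 + r)) := by
  intro r hr
  interval_cases r
  · exact L6009
  · exact L6016
  · exact L112524
  · exact L6023
  · exact L6031
  · exact L18831
  · exact L18770
  · exact L6047
  · exact L110236
  · exact L6053
  · exact L18794
  · exact L18798
  · exact L18893
  · exact L18905
  · exact L18457
  · exact L18947
  · exact L6111
  · exact L6123
  · exact L18487
  · exact L18430
  · exact L6222
  · exact L18481
  · exact L18444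
  · exact L6397
  · exact L6433
  · exact L18479
  · exact L18454
  · exact L19070
  · exact L6452
  · exact L19081
  · exact L19106
  · exact L6461
  · exact L6465
  · exact L19132
  · exact L19150
  · exact L19115
  · exact L19170
  · exact L6495
  · exact L19192
  · exact L19206
  · exact L7359
  · exact L7370
  · exact L19226
  · exact L7503
  · exact L19242
  · exact L19237
  · exact L18414
  · exact L19223
  · exact L18646
  · exact L19278
  · exact L19300
  · exact L7725
  · exact L19324
  · exact L19340
  · exact L7747
  · exact L19315
  · exact L17755
  · exact L17244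
  · exact L19392
  · exact L7875
  · exact L115678
  · exact L7899
  · exact L19443
  · exact L8511

theorem cl_f_8 : ∀ r, r < 64 → sm gf (Qf (64 * 8 + r)) = Qf (tab Gen.f (64 * 8 + r)) := by
  intro r hr
  interval_cases r
  · exact L13937
  · exact L16769
  · exact L19472
  · exact L8625
  · exact L8899
  · exact L18415
  · exact L19466
  · exact L19501
  · exact L19518
  · exact L8728
  · exact L19546
  · exact L8745
  · exact L13938
  · exact L8764
  · exact L19566
  · exact L19582
  · exact L8876
  · exact L19606
  · exact L19614
  · exact L8886
  · exact L19638
  · exact L19593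
  · exact L8900
  · exact L19662
  · exact L8904
  · exact L8915
  · exact L8919
  · exact L19684
  · exact L19710
  · exact L19728
  · exact L9264
  · exact L19752
  · exact L9272
  · exact L19745
  · exact L19561
  · exact L18515
  · exact L19792
  · exact L9392
  · exact L9405
  · exact L9401
  · exact L9406
  · exact L19820
  · exact L9414
  · exact L19803
  · exact L19807
  · exact L19848
  · exact L19858
  · exact L9436
  · exact L19873
  · exact L18516
  · exact L19673
  · exact L19677
  · exact L19934
  · exact L9466
  · exact L18533
  · exact L18535
  · exact L18432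
  · exact L18450
  · exact L20014
  · exact L20038
  · exact L10133
  · exact L20064
  · exact L20072
  · exact L10149

theorem cl_f_9 : ∀ r, r < 64 → sm gf (Qf (64 * 9 + r)) = Qf (tab Gen.f (64 * 9 + r)) := by
  intro r hr
  interval_cases r
  · exact L10420
  · exact L20051
  · exact L20118
  · exact L10227
  · exact L19377
  · exact L18529
  · exact L10226
  · exact L20158
  · exact L20172
  · exact L10312
  · exact L10355
  · exact L20200
  · exact L20208
  · exact L10336
  · exact L20238
  · exact L10347
  · exact L10356
  · exact L110234
  · exact L10365
  · exact L20284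
  · exact L20299
  · exact L10385
  · exact L19632
  · exact L10401
  · exact L20343
  · exact L20225
  · exact L10421
  · exact L110215
  · exact L10427
  · exact L20251
  · exact L20399
  · exact L20417
  · exact L18530
  · exact L20479
  · exact L10471
  · exact L10489
  · exact L18488
  · exact L18482
  · exact L10623
  · exact L18480
  · exact L93568
  · exact L115686
  · exact L20650
  · exact L20666
  · exact L116429
  · exact L20716
  · exact L18562
  · exact L18591
  · exact L20742
  · exact L20750
  · exact L18578
  · exact L18587
  · exact L18592
  · exact L20800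
  · exact L18598
  · exact L18604
  · exact L18825
  · exact L20763
  · exact L20832
  · exact L20787
  · exact L20791
  · exact L20856
  · exact L20864
  · exact L18638

theorem cl_f_10 : ∀ r, r < 64 → sm gf (Qf (64 * 10 + r)) = Qf (tab Gen.f (64 * 10 + r)) := by
  intro r hr
  interval_cases r
  · exact L18645
  · exact L19949
  · exact L18944
  · exact L19005
  · exact L19050
  · exact L20958
  · exact L20970
  · exact L20984
  · exact L18710
  · exact L21004
  · exact L21020
  · exact L21036
  · exact L18724
  · exact L18775
  · exact L21070
  · exact L21096
  · exact L18750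
  · exact L18758
  · exact L21144
  · exact L18769
  · exact L18776
  · exact L110237
  · exact L18784
  · exact L18793
  · exact L18797
  · exact L18882
  · exact L21214
  · exact L21131
  · exact L18826
  · exact L110147
  · exact L18832
  · exact L21157
  · exact L21161
  · exact L90229
  · exact L111895
  · exact L118247
  · exact L21195
  · exact L18881
  · exact L21388
  · exact L21406
  · exact L18894
  · exact L21416
  · exact L21426
  · exact L18906
  · exact L18943
  · exact L18948
  · exact L20502
  · exact L19004
  · exact L21615
  · exact L20533
  · exact L19049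
  · exact L19071
  · exact L19080
  · exact L21697
  · exact L21701
  · exact L115062
  · exact L21749
  · exact L21757
  · exact L19107
  · exact L21771
  · exact L19114
  · exact L115061
  · exact L21809
  · exact L19133

theorem cl_f_11 : ∀ r, r < 64 → sm gf (Qf (64 * 11 + r)) = Qf (tab Gen.f (64 * 11 + r)) := by
  intro r hr
  interval_cases r
  · exact L110453
  · exact L21857
  · exact L19151
  · exact L21885
  · exact L19171
  · exact L19431
  · exact L109901
  · exact L19193
  · exact L19207
  · exact L21974
  · exact L19222
  · exact L19227
  · exact L19236
  · exact L19243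
  · exact L22032
  · exact L22036
  · exact L22065
  · exact L19487
  · exact L22016
  · exact L20883
  · exact L22095
  · exact L22103
  · exact L19279
  · exact L71316
  · exact L19301
  · exact L22175
  · exact L19314
  · exact L93569
  · exact L19325
  · exact L22211
  · exact L19341
  · exact L22168
  · exact L22190
  · exact L22261
  · exact L22281
  · exact L19376
  · exact L22322
  · exact L22338
  · exact L19393
  · exact L22357
  · exact L115687
  · exact L19430
  · exact L22472
  · exact L22484
  · exact L19444
  · exact L19538
  · exact L19465
  · exact L22517
  · exact L19473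
  · exact L112176
  · exact L19486
  · exact L22584
  · exact L22609
  · exact L19502
  · exact L22639
  · exact L22649
  · exact L19519
  · exact L22678
  · exact L22622
  · exact L19539
  · exact L22713
  · exact L19547
  · exact L19560
  · exact L22729

theorem cl_f_12 : ∀ r, r < 64 → sm gf (Qf (64 * 12 + r)) = Qf (tab Gen.f (64 * 12 + r)) := by
  intro r hr
  interval_cases r
  · exact L19567
  · exact L112177
  · exact L19583
  · exact L19592
  · exact L19607
  · exact L19615
  · exact L22750
  · exact L19633
  · exact L19639
  · exact L22778
  · exact L74229
  · exact L22879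
  · exact L97121
  · exact L19663
  · exact L112598
  · exact L19672
  · exact L19676
  · exact L22937
  · exact L19685
  · exact L22961
  · exact L22979
  · exact L22987
  · exact L19711
  · exact L19750
  · exact L118248
  · exact L19729
  · exact L23055
  · exact L19744
  · exact L19751
  · exact L19753
  · exact L23046
  · exact L23070
  · exact L23076
  · exact L23133
  · exact L22726
  · exact L19903
  · exact L23155
  · exact L23171
  · exact L19793
  · exact L23190
  · exact L19802
  · exact L19806
  · exact L19839
  · exact L19821
  · exact L23254
  · exact L89943
  · exact L23224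
  · exact L19838
  · exact L117860
  · exact L23307
  · exact L19849
  · exact L19859
  · exact L19872
  · exact L109902
  · exact L23344
  · exact L23348
  · exact L114687
  · exact L19902
  · exact L23411
  · exact L22926
  · exact L117944
  · exact L22932
  · exact L23449
  · exact L23463

theorem cl_f_13 : ∀ r, r < 64 → sm gf (Qf (64 * 13 + r)) = Qf (tab Gen.f (64 * 13 + r)) := by
  intro r hr
  interval_cases r
  · exact L19935
  · exact L19948
  · exact L116562
  · exact L23601
  · exact L20015
  · exact L20056
  · exact L23621
  · exact L23633
  · exact L20039
  · exact L23663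
  · exact L20050
  · exact L20057
  · exact L23697
  · exact L20065
  · exact L20073
  · exact L20335
  · exact L23650
  · exact L23737
  · exact L23676
  · exact L23682
  · exact L23769
  · exact L23781
  · exact L20119
  · exact L20143
  · exact L22290
  · exact L20474
  · exact L20142
  · exact L116750
  · exact L111106
  · exact L20159
  · exact L23919
  · exact L20173
  · exact L116428
  · exact L81570
  · exact L20201
  · exact L20209
  · exact L24037
  · exact L20224
  · exact L110216
  · exact L20239
  · exact L20250
  · exact L20392
  · exact L92306
  · exact L116561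
  · exact L116683
  · exact L20285
  · exact L24311
  · exact L20300
  · exact L22811
  · exact L116751
  · exact L24020
  · exact L20336
  · exact L110221
  · exact L20344
  · exact L24052
  · exact L118167
  · exact L24433
  · exact L24447
  · exact L71315
  · exact L20391
  · exact L24533
  · exact L20400
  · exact L24551
  · exact L24563

theorem cl_f_14 : ∀ r, r < 64 → sm gf (Qf (64 * 14 + r)) = Qf (tab Gen.f (64 * 14 + r)) := by
  intro r hr
  interval_cases r
  · exact L20418
  · exact L20473
  · exact L24673
  · exact L20480
  · exact L20503
  · exact L20534
  · exact L87718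
  · exact L88035
  · exact L115054
  · exact L103046
  · exact L20651
  · exact L115055
  · exact L24979
  · exact L20667
  · exact L116682
  · exact L81819
  · exact L109934
  · exact L25125
  · exact L20717
  · exact L25175
  · exact L20743
  · exact L20751
  · exact L20762
  · exact L109935
  · exact L20786
  · exact L20790
  · exact L20847
  · exact L20801
  · exact L112958
  · exact L25214
  · exact L25337
  · exact L25240
  · exact L90230
  · exact L113342
  · exact L110385
  · exact L20833
  · exact L115606
  · exact L114428
  · exact L20846
  · exact L114482
  · exact L117859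
  · exact L20857
  · exact L20865
  · exact L20882
  · exact L114993
  · exact L25625
  · exact L20959
  · exact L20971
  · exact L25693
  · exact L25701
  · exact L20985
  · exact L25727
  · exact L21005
  · exact L81820
  · exact L25775
  · exact L21021
  · exact L21037
  · exact L21136
  · exact L25823
  · exact L21071
  · exact L21097
  · exact L25190
  · exact L110386
  · exact L21130

theorem cl_f_15 : ∀ r, r < 64 → sm gf (Qf (64 * 15 + r)) = Qf (tab Gen.f (64 * 15 + r)) := by
  intro r hr
  interval_cases r
  · exact L21137
  · exact L110146
  · exact L21145
  · exact L21156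
  · exact L21160
  · exact L21281
  · exact L26023
  · exact L21194
  · exact L21385
  · exact L115605
  · exact L117175
  · exact L26111
  · exact L21215
  · exact L25958
  · exact L25964
  · exact L113375
  · exact L111670
  · exact L118299
  · exact L113341
  · exact L21280
  · exact L117218
  · exact L111888
  · exact L111894
  · exact L71871
  · exact L21384
  · exact L21389
  · exact L112959
  · exact L26553
  · exact L21407
  · exact L112951
  · exact L26583
  · exact L21417
  · exact L26599
  · exact L21427
  · exact L26608
  · exact L21616
  · exact L117945
  · exact L21696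
  · exact L21700
  · exact L103182
  · exact L27065
  · exact L74228
  · exact L103037
  · exact L27227
  · exact L21750
  · exact L21758
  · exact L110452
  · exact L27259
  · exact L27275
  · exact L21772
  · exact L103145
  · exact L27311
  · exact L114994
  · exact L112063
  · exact L21810
  · exact L110490
  · exact L27472
  · exact L21858
  · exact L27525
  · exact L21886
  · exact L27549
  · exact L22044
  · exact L22445
  · exact L22451

theorem cl_f_16 : ∀ r, r < 64 → sm gf (Qf (64 * 16 + r)) = Qf (tab Gen.f (64 * 16 + r)) := by
  intro r hr
  interval_cases r
  · exact L103183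
  · exact L21973
  · exact L106817
  · exact L27690
  · exact L27696
  · exact L27755
  · exact L22015
  · exact L116651
  · exact L22031
  · exact L22035
  · exact L22056
  · exact L22043
  · exact L27837
  · exact L27800
  · exact L22055
  · exact L27804
  · exact L110817
  · exact L22066
  · exact L27766
  · exact L25480
  · exact L114114
  · exact L27909
  · exact L22096
  · exact L22104
  · exact L27946
  · exact L22167
  · exact L111105
  · exact L22176
  · exact L22189
  · exact L22254
  · exact L115340
  · exact L116650
  · exact L22212
  · exact L28114
  · exact L28032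
  · exact L118109
  · exact L118044
  · exact L118108
  · exact L22253
  · exact L89944
  · exact L22262
  · exact L113588
  · exact L28249
  · exact L22282
  · exact L22289
  · exact L28275
  · exact L22323
  · exact L22339
  · exact L22356
  · exact L103045
  · exact L28326
  · exact L87719
  · exact L88034
  · exact L22444
  · exact L22450
  · exact L115022
  · exact L28426
  · exact L28445
  · exact L22473
  · exact L22485
  · exact L22672
  · exact L116747
  · exact L22518
  · exact L28629

theorem cl_f_17 : ∀ r, r < 64 → sm gf (Qf (64 * 17 + r)) = Qf (tab Gen.f (64 * 17 + r)) := by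
  intro r hr
  interval_cases r
  · exact L118279
  · exact L22585
  · exact L116746
  · exact L28676
  · exact L22610
  · exact L22621
  · exact L22640
  · exact L22650
  · exact L28701
  · exact L22673
  · exact L22679
  · exact L28727
  · exact L117788
  · exact L28862
  · exact L97128
  · exact L22714
  · exact L112105
  · exact L22725
  · exact L22730
  · exact L22749
  · exact L22777
  · exact L115992
  · exact L118243
  · exact L22812
  · exact L117164
  · exact L29009
  · exact L29144
  · exact L97110
  · exact L92305
  · exact L115469
  · exact L117405
  · exact L112597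
  · exact L115443
  · exact L22880
  · exact L97186
  · exact L29320
  · exact L22925
  · exact L22931
  · exact L22938
  · exact L22962
  · exact L22980
  · exact L22988
  · exact L29373
  · exact L118300
  · exact L23045
  · exact L23056
  · exact L23069
  · exact L23075
  · exact L23122
  · exact L29351
  · exact L89643
  · exact L71870
  · exact L88575
  · exact L114688
  · exact L29511
  · exact L23121
  · exact L29515
  · exact L29648
  · exact L23134
  · exact L28927
  · exact L23402
  · exact L23156
  · exact L100895
  · exact L23172

theorem cl_f_18 : ∀ r, r < 64 → sm gf (Qf (64 * 18 + r)) = Qf (tab Gen.f (64 * 18 + r)) := by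
  intro r hr
  interval_cases r
  · exact L23189
  · exact L29709
  · exact L29717
  · exact L29756
  · exact L23223
  · exact L23253
  · exact L29881
  · exact L29885
  · exact L98292
  · exact L113582
  · exact L113497
  · exact L113589
  · exact L117759
  · exact L117811
  · exact L114481
  · exact L114115
  · exact L117774
  · exact L114427
  · exact L30034
  · exact L23308
  · exact L89642
  · exact L118166
  · exact L23343
  · exact L23347
  · exact L23374
  · exact L106818
  · exact L30148
  · exact L30109
  · exact L23373
  · exact L107920
  · exact L107365
  · exact L114772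
  · exact L23401
  · exact L30240
  · exact L30258
  · exact L23412
  · exact L30272
  · exact L29333
  · exact L115339
  · exact L30302
  · exact L30320
  · exact L23450
  · exact L30332
  · exact L23464
  · exact L30345
  · exact L113910
  · exact L30570
  · exact L23602
  · exact L81571
  · exact L23622
  · exact L23634
  · exact L23649
  · exact L23664
  · exact L23675
  · exact L23681
  · exact L23758
  · exact L23698
  · exact L112965
  · exact L30659
  · exact L115456
  · exact L30695
  · exact L115991
  · exact L112860
  · exact L23738

theorem cl_f_19 : ∀ r, r < 64 → sm gf (Qf (64 * 19 + r)) = Qf (tab Gen.f (64 * 19 + r)) := by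
  intro r hr
  interval_cases r
  · exact L117165
  · exact L114353
  · exact L23757
  · exact L30737
  · exact L117773
  · exact L23770
  · exact L23782
  · exact L88663
  · exact L23832
  · exact L24666
  · exact L93303
  · exact L31044
  · exact L23831
  · exact L23920
  · exact L24019
  · exact L110220
  · exact L24038
  · exact L24051
  · exact L111989
  · exact L116687
  · exact L24312
  · exact L28775
  · exact L31375
  · exact L118181
  · exact L113434
  · exact L112837
  · exact L81178
  · exact L115470
  · exact L113445
  · exact L32025
  · exact L24434
  · exact L111784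
  · exact L111487
  · exact L24448
  · exact L112964
  · exact L107309
  · exact L24534
  · exact L108694
  · exact L111316
  · exact L24552
  · exact L111317
  · exact L24564
  · exact L107227
  · exact L24665
  · exact L24674
  · exact L32326
  · exact L115021
  · exact L117304
  · exact L117299
  · exact L103038
  · exact L93302
  · exact L24980
  · exact L116686
  · exact L116435
  · exact L116497
  · exact L109991
  · exact L25126
  · exact L25176
  · exact L25189
  · exact L25213
  · exact L109990
  · exact L25239
  · exact L112968
  · exact L33301

theorem cl_f_20 : ∀ r, r < 64 → sm gf (Qf (64 * 20 + r)) = Qf (tab Gen.f (64 * 20 + r)) := by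
  intro r hr
  interval_cases r
  · exact L113376
  · exact L117840
  · exact L94329
  · exact L25338
  · exact L86695
  · exact L118242
  · exact L115149
  · exact L117176
  · exact L117731
  · exact L117810
  · exact L116066
  · exact L25479
  · exact L34226
  · exact L80974
  · exact L25626
  · exact L116434
  · exact L34370
  · exact L25694
  · exact L34396
  · exact L25702
  · exact L25728
  · exact L116496
  · exact L25776
  · exact L25824
  · exact L33243
  · exact L94328
  · exact L117219
  · exact L112791
  · exact L25957
  · exact L25963
  · exact L26186
  · exact L111933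
  · exact L86696
  · exact L86731
  · exact L35104
  · exact L26024
  · exact L118045
  · exact L115150
  · exact L112952
  · exact L115255
  · exact L111350
  · exact L26112
  · exact L118278
  · exact L117841
  · exact L26185
  · exact L34971
  · exact L117209
  · exact L111880
  · exact L111669
  · exact L118323
  · exact L108668
  · exact L111889
  · exact L118070
  · exact L114082
  · exact L89095
  · exact L112967
  · exact L107187
  · exact L26554
  · exact L108695
  · exact L115109
  · exact L107228
  · exact L26584
  · exact L26600
  · exact L26607

theorem cl_f_21 : ∀ r, r < 64 → sm gf (Qf (64 * 21 + r)) = Qf (tab Gen.f (64 * 21 + r)) := by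
  intro r hr
  interval_cases r
  · exact L112064
  · exact L103146
  · exact L27064
  · exact L107065
  · exact L37572
  · exact L117406
  · exact L117787
  · exact L27228
  · exact L112836
  · exact L110491
  · exact L37724
  · exact L27260
  · exact L114233
  · exact L37752
  · exact L27276
  · exact L103119
  · exact L114618
  · exact L27312
  · exact L37804
  · exact L93141
  · exact L27473
  · exact L111498
  · exact L27526
  · exact L100894
  · exact L27550
  · exact L28415
  · exact L28419
  · exact L107064
  · exact L27689
  · exact L27695
  · exact L27744
  · exact L118085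
  · exact L98291
  · exact L38409
  · exact L27743
  · exact L84767
  · exact L118099
  · exact L27756
  · exact L27765
  · exact L118100
  · exact L89574
  · exact L27799
  · exact L27803
  · exact L110818
  · exact L116949
  · exact L38782
  · exact L27838
  · exact L114134
  · exact L75528
  · exact L116950
  · exact L38888
  · exact L114827
  · exact L89096
  · exact L111068
  · exact L27910
  · exact L27945
  · exact L113909
  · exact L39001
  · exact L114293
  · exact L28031
  · exact L28168
  · exact L88574
  · exact L114828
  · exact L28113

theorem cl_f_22 : ∀ r, r < 64 → sm gf (Qf (64 * 22 + r)) = Qf (tab Gen.f (64 * 22 + r)) := by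
  intro r hr
  interval_cases r
  · exact L114083
  · exact L118078
  · exact L28167
  · exact L118079
  · exact L118086
  · exact L114617
  · exact L113581
  · exact L113496
  · exact L113446
  · exact L107504
  · exact L107512
  · exact L28250
  · exact L28276
  · exact L93002
  · exact L112861
  · exact L28325
  · exact L40063
  · exact L117303
  · exact L117298
  · exact L28414
  · exact L28418
  · exact L99275
  · exact L28427
  · exact L40219
  · exact L28446
  · exact L80975
  · exact L28630
  · exact L118295
  · exact L28677
  · exact L28700
  · exact L28726
  · exact L113192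
  · exact L118252
  · exact L28776
  · exact L74867
  · exact L40729
  · exact L40903
  · exact L109212
  · exact L111932
  · exact L115476
  · exact L117381
  · exact L112104
  · exact L97163
  · exact L28863
  · exact L97180
  · exact L28926
  · exact L29008
  · exact L108057
  · exact L107988
  · exact L115457
  · exact L117166
  · exact L116252
  · exact L29145
  · exact L116052
  · exact L111990
  · exact L84768
  · exact L75529
  · exact L115444
  · exact L111783
  · exact L84444
  · exact L117123
  · exact L29321
  · exact L41988
  · exact L29332

theorem cl_f_23 : ∀ r, r < 64 → sm gf (Qf (64 * 23 + r)) = Qf (tab Gen.f (64 * 23 + r)) := by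
  intro r hr
  interval_cases r
  · exact L118180
  · exact L29350
  · exact L29372
  · exact L114002
  · exact L113991
  · exact L113756
  · exact L89575
  · exact L118322
  · exact L29577
  · exact L29510
  · exact L29514
  · exact L114133
  · exact L42061
  · exact L118069
  · exact L29576
  · exact L107364
  · exact L114405
  · exact L117758
  · exact L88664
  · exact L114773
  · exact L117730
  · exact L117697
  · exact L117757
  · exact L29649
  · exact L117486
  · exact L38165
  · exact L99323
  · exact L29708
  · exact L29716
  · exact L113757
  · exact L117487
  · exact L42958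
  · exact L29757
  · exact L114390
  · exact L29880
  · exact L29884
  · exact L117540
  · exact L98491
  · exact L43326
  · exact L117418
  · exact L118072
  · exact L98842
  · exact L107505
  · exact L106876
  · exact L117756
  · exact L107919
  · exact L111069
  · exact L114354
  · exact L117551
  · exact L30352
  · exact L30035
  · exact L81179
  · exact L117492
  · exact L30108
  · exact L30169
  · exact L116955
  · exact L113435
  · exact L30149
  · exact L113392
  · exact L43996
  · exact L98150
  · exact L30168
  · exact L107340
  · exact L117167

theorem cl_f_24 : ∀ r, r < 64 → sm gf (Qf (64 * 24 + r)) = Qf (tab Gen.f (64 * 24 + r)) := by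
  intro r hr
  interval_cases r
  · exact L44154
  · exact L30241
  · exact L30270
  · exact L116892
  · exact L84191
  · exact L30259
  · exact L44208
  · exact L30271
  · exact L30273
  · exact L114283
  · exact L30303
  · exact L73912
  · exact L114292
  · exact L30321
  · exact L30333
  · exact L30344
  · exact L30353
  · exact L37478
  · exact L30571
  · exact L30658
  · exact L30694
  · exact L93001
  · exact L30736
  · exact L99060
  · exact L113386
  · exact L107816
  · exact L113193
  · exact L117124
  · exact L108058
  · exact L84445
  · exact L107989
  · exact L117775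
  · exact L114302
  · exact L114389
  · exact L84538
  · exact L84560
  · exact L117696
  · exact L115108
  · exact L84511
  · exact L84537
  · exact L31045
  · exact L45791
  · exact L31374
  · exact L81880
  · exact L113391
  · exact L115477
  · exact L47388
  · exact L93104
  · exact L93142
  · exact L106875
  · exact L47724
  · exact L32026
  · exact L111374
  · exact L111488
  · exact L99059
  · exact L107310
  · exact L32325
  · exact L107188
  · exact L115254
  · exact L111351
  · exact L99274
  · exact L81879
  · exact L81886
  · exact L33242

theorem cl_f_25 : ∀ r, r < 64 → sm gf (Qf (64 * 25 + r)) = Qf (tab Gen.f (64 * 25 + r)) := by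
  intro r hr
  interval_cases r
  · exact L33300
  · exact L107167
  · exact L74866
  · exact L118251
  · exact L115611
  · exact L86732
  · exact L107513
  · exact L114404
  · exact L118422
  · exact L116708
  · exact L34227
  · exact L81885
  · exact L34371
  · exact L34397
  · exact L117210
  · exact L112802
  · exact L104197
  · exact L108656
  · exact L34970
  · exact L111919
  · exact L115610
  · exact L108669
  · exact L115575
  · exact L35105
  · exact L118294
  · exact L108659
  · exact L111879
  · exact L108661
  · exact L107166
  · exact L98874
  · exact L93151
  · exact L103118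
  · exact L37479
  · exact L114215
  · exact L113819
  · exact L116893
  · exact L37573
  · exact L114232
  · exact L117382
  · exact L93103
  · exact L111497
  · exact L98490
  · exact L59710
  · exact L37725
  · exact L114306
  · exact L114240
  · exact L114284
  · exact L118338
  · exact L118337
  · exact L37753
  · exact L103201
  · exact L111588
  · exact L107711
  · exact L114214
  · exact L37805
  · exact L93116
  · exact L111587
  · exact L38164
  · exact L114003
  · exact L99324
  · exact L113789
  · exact L40194
  · exact L113818
  · exact L38408

theorem cl_f_26 : ∀ r, r < 64 → sm gf (Qf (64 * 26 + r)) = Qf (tab Gen.f (64 * 26 + r)) := by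
  intro r hr
  interval_cases r
  · exact L117419
  · exact L116954
  · exact L113790
  · exact L113992
  · exact L113826
  · exact L116959
  · exact L74001
  · exact L38783
  · exact L116958
  · exact L38889
  · exact L117552
  · exact L39000
  · exact L117541
  · exact L114305
  · exact L118071
  · exact L98841
  · exact L107964
  · exact L107500
  · exact L84559
  · exact L111512
  · exact L40062
  · exact L118360
  · exact L118348
  · exact L40193
  · exact L40220
  · exact L116707
  · exact L40668
  · exact L40728
  · exact L97912
  · exact L113385
  · exact L115597
  · exact L117192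
  · exact L64800
  · exact L108658
  · exact L40904
  · exact L109213
  · exact L111920
  · exact L97162
  · exact L111375
  · exact L73911
  · exact L41986
  · exact L74000
  · exact L41987
  · exact L41989
  · exact L42060
  · exact L117493
  · exact L107712
  · exact L98873
  · exact L107341
  · exact L117776
  · exact L114301
  · exact L43809
  · exact L42957
  · exact L43325
  · exact L107569
  · exact L107499
  · exact L98124
  · exact L98149
  · exact L43808
  · exact L103200
  · exact L43997
  · exact L107817
  · exact L98123
  · exact L84192

theorem cl_f_27 : ∀ r, r < 54 → sm gf (Qf (64 * 27 + r)) = Qf (tab Gen.f (64 * 27 + r)) := by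
  intro r hr
  interval_cases r
  · exact L44155
  · exact L44206
  · exact L110697
  · exact L84156
  · exact L84155
  · exact L44207
  · exact L44209
  · exact L107568
  · exact L111511
  · exact L97911
  · exact L107963
  · exact L84510
  · exact L98788
  · exact L118351
  · exact L118352
  · exact L98789
  · exact L45792
  · exact L47389
  · exact L93115
  · exact L93150
  · exact L47725
  · exact L113827
  · exact L118418
  · exact L117191
  · exact L115596
  · exact L115574
  · exact L118449
  · exact L118318
  · exact L118435
  · exact L118434
  · exact L108660
  · exact L118475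
  · exact L118441
  · exact L111455
  · exact L111454
  · exact L118375
  · exact L114241
  · exact L118364
  · exact L118363
  · exact L59711
  · exact L118413
  · exact L118347
  · exact L118359
  · exact L118376
  · exact L110698
  · exact L63475
  · exact L64309
  · exact L118487
  · exact L64801
  · exact L118440
  · exact L118412
  · exact L118467
  · exact L118474
  · exact L118486

theorem cl_f : ∀ i, i < 1782 → sm gf (Qf i) = Qf (tab Gen.f i) := by
  intro i hi
  obtain ⟨k, r, rfl, hr⟩ : ∃ k r, i = 64 * k + r ∧ r < 64 := ⟨i / 64, i % 64, by omega, by omega⟩
  have hk : k < 28 := by omega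
  interval_cases k
  · exact cl_f_0 r (by omega)
  · exact cl_f_1 r (by omega)
  · exact cl_f_2 r (by omega)
  · exact cl_f_3 r (by omega)
  · exact cl_f_4 r (by omega)
  · exact cl_f_5 r (by omega)
  · exact cl_f_6 r (by omega)
  · exact cl_f_7 r (by omega)
  · exact cl_f_8 r (by omega)
  · exact cl_f_9 r (by omega)
  · exact cl_f_10 r (by omega)
  · exact cl_f_11 r (by omega)
  · exact cl_f_12 r (by omega)
  · exact cl_f_13 r (by omega)
  · exact cl_f_14 r (by omega)
  · exact cl_f_15 r (by omega)
  · exact cl_f_16 r (by omega)
  · exact cl_f_17 r (by omega)
  · exact cl_f_18 r (by omega)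
  · exact cl_f_19 r (by omega)
  · exact cl_f_20 r (by omega)
  · exact cl_f_21 r (by omega)
  · exact cl_f_22 r (by omega)
  · exact cl_f_23 r (by omega)
  · exact cl_f_24 r (by omega)
  · exact cl_f_25 r (by omega)
  · exact cl_f_26 r (by omega)
  · exact cl_f_27 r (by omega)

theorem cl_g_0 : ∀ r, r < 64 → sm gg (Qf (64 * 0 + r)) = Qf (tab Gen.g (64 * 0 + r)) := by
  intro r hr
  interval_cases r
  · exact L6
  · exact L7
  · exact L17
  · exact L22
  · exact L26
  · exact L60
  · exact L59
  · exact L42
  · exact L64
  · exact L78
  · exact L77
  · exact L128
  · exact L86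
  · exact L89
  · exact L93
  · exact L117
  · exact L168
  · exact L209
  · exact L116
  · exact L208
  · exact L258
  · exact L198
  · exact L129
  · exact L136
  · exact L143
  · exact L296
  · exact L152
  · exact L223
  · exact L233
  · exact L16607
  · exact L169
  · exact L240
  · exact L199
  · exact L222
  · exact L232
  · exact L239
  · exact L273
  · exact L393
  · exact L404
  · exact L341
  · exact L259
  · exact L272
  · exact L439
  · exact L284
  · exact L463
  · exact L477
  · exact L487
  · exact L297
  · exact L302
  · exact L358
  · exact L17822
  · exact L16427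
  · exact L16608
  · exact L17821
  · exact L370
  · exact L342
  · exact L17910
  · exact L357
  · exact L369
  · exact L419
  · exact L649
  · exact L659
  · exact L675
  · exact L558

theorem cl_g_1 : ∀ r, r < 64 → sm gg (Qf (64 * 1 + r)) = Qf (tab Gen.g (64 * 1 + r)) := by
  intro r hr
  interval_cases r
  · exact L394
  · exact L565
  · exact L405
  · exact L418
  · exact L425
  · exact L726
  · exact L742
  · exact L747
  · exact L440
  · exact L448
  · exact L794
  · exact L498
  · exact L464
  · exact L811
  · exact L822
  · exact L478
  · exact L12183
  · exact L488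
  · exact L497
  · exact L501
  · exact L596
  · exact L12225
  · exact L16428
  · exact L17909
  · exact L12224
  · exact L559
  · exact L566
  · exact L17902
  · exact L1014
  · exact L595
  · exact L704
  · exact L1109
  · exact L1123
  · exact L1137
  · exact L1147
  · exact L650
  · exact L660
  · exact L1177
  · exact L12112
  · exact L1206
  · exact L970
  · exact L676
  · exact L1233
  · exact L12184
  · exact L703
  · exact L710
  · exact L1288
  · exact L760
  · exact L727
  · exact L1312
  · exact L1319
  · exact L743
  · exact L748
  · exact L759
  · exact L767
  · exact L1420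
  · exact L837
  · exact L795
  · exact L1439
  · exact L1458
  · exact L1468
  · exact L812
  · exact L17805
  · exact L823

theorem cl_g_2 : ∀ r, r < 64 → sm gg (Qf (64 * 2 + r)) = Qf (tab Gen.g (64 * 2 + r)) := by
  intro r hr
  interval_cases r
  · exact L836
  · exact L17810
  · exact L1545
  · exact L1553
  · exact L1037
  · exact L17777
  · exact L17901
  · exact L12113
  · exact L17778
  · exact L971
  · exact L1804
  · exact L17895
  · exact L1876
  · exact L1015
  · exact L1036
  · exact L2048
  · exact L2084
  · exact L1165
  · exact L1110
  · exact L2106
  · exact L2116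
  · exact L1124
  · exact L2144
  · exact L2154
  · exact L1138
  · exact L17129
  · exact L1148
  · exact L1164
  · exact L1176
  · exact L2214
  · exact L18032
  · exact L17156
  · exact L2261
  · exact L1792
  · exact L1207
  · exact L2289
  · exact L17804
  · exact L17155
  · exact L1234
  · exact L17809
  · exact L1249
  · exact L1255
  · exact L2450
  · exact L1332
  · exact L1289
  · exact L2478
  · exact L2506
  · exact L2512
  · exact L1313
  · exact L1320
  · exact L1331
  · exact L1895
  · exact L2559
  · exact L2577
  · exact L2750
  · exact L1481
  · exact L1421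
  · exact L2773
  · exact L18225
  · exact L2805
  · exact L1440
  · exact L2853
  · exact L2863
  · exact L2869

theorem cl_g_3 : ∀ r, r < 64 → sm gg (Qf (64 * 3 + r)) = Qf (tab Gen.g (64 * 3 + r)) := by
  intro r hr
  interval_cases r
  · exact L1459
  · exact L17767
  · exact L1469
  · exact L1480
  · exact L17620
  · exact L2964
  · exact L12759
  · exact L12864
  · exact L18224
  · exact L3056
  · exact L1546
  · exact L3066
  · exact L3074
  · exact L1554
  · exact L3090
  · exact L17769
  · exact L17896
  · exact L18031
  · exact L13679
  · exact L17768
  · exact L1793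
  · exact L3605
  · exact L13489
  · exact L1805
  · exact L17746
  · exact L3777
  · exact L1877
  · exact L1894
  · exact L3853
  · exact L4156
  · exact L18403
  · exact L2049
  · exact L4220
  · exact L2178
  · exact L2085
  · exact L18229
  · exact L4171
  · exact L4333
  · exact L4345
  · exact L2107
  · exact L17128
  · exact L2117
  · exact L18402
  · exact L4409
  · exact L4419
  · exact L2145
  · exact L17111
  · exact L2155
  · exact L2177
  · exact L2320
  · exact L2213
  · exact L4548
  · exact L12453
  · exact L13605
  · exact L13488
  · exact L4641
  · exact L3593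
  · exact L2262
  · exact L4665
  · exact L17766
  · exact L13606
  · exact L2290
  · exact L17621
  · exact L13678

theorem cl_g_4 : ∀ r, r < 64 → sm gg (Qf (64 * 4 + r)) = Qf (tab Gen.g (64 * 4 + r)) := by
  intro r hr
  interval_cases r
  · exact L2319
  · exact L12758
  · exact L12863
  · exact L2357
  · exact L2362
  · exact L4978
  · exact L2529
  · exact L2451
  · exact L5012
  · exact L17270
  · exact L13312
  · exact L2479
  · exact L5109
  · exact L5129
  · exact L5137
  · exact L2507
  · exact L2513
  · exact L2528
  · exact L3800
  · exact L5197
  · exact L13311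
  · exact L17269
  · exact L5278
  · exact L2560
  · exact L5298
  · exact L5306
  · exact L2578
  · exact L5759
  · exact L5775
  · exact L2885
  · exact L2751
  · exact L5793
  · exact L17350
  · exact L5828
  · exact L2774
  · exact L18230
  · exact L13172
  · exact L5934
  · exact L2806
  · exact L5987
  · exact L6003
  · exact L6011
  · exact L2854
  · exact L6034
  · exact L6042
  · exact L2864
  · exact L6068
  · exact L2870
  · exact L6021
  · exact L2884
  · exact L12344
  · exact L17623
  · exact L6124
  · exact L17524
  · exact L12837
  · exact L17351
  · exact L6256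
  · exact L2965
  · exact L17526
  · exact L12854
  · exact L13171
  · exact L6438
  · exact L3057
  · exact L93467

theorem cl_g_5 : ∀ r, r < 64 → sm gg (Qf (64 * 5 + r)) = Qf (tab Gen.g (64 * 5 + r)) := by
  intro r hr
  interval_cases r
  · exact L3083
  · exact L3067
  · exact L115656
  · exact L3075
  · exact L3082
  · exact L93466
  · exact L6490
  · exact L3091
  · exact L17745
  · exact L12452
  · exact L17083
  · exact L7504
  · exact L3594
  · exact L7514
  · exact L17150
  · exact L3606
  · exact L7730
  · exact L17670
  · exact L7760
  · exact L3778
  · exact L3799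
  · exact L115680
  · exact L7890
  · exact L3854
  · exact L8514
  · exact L18365
  · exact L4157
  · exact L4170
  · exact L8630
  · exact L4438
  · exact L4221
  · exact L15798
  · exact L8539
  · exact L8733
  · exact L8747
  · exact L4334
  · exact L17112
  · exact L4346
  · exact L18364
  · exact L8879
  · exact L8889
  · exact L8895
  · exact L4410
  · exact L13619
  · exact L4420
  · exact L4437
  · exact L4702
  · exact L4547
  · exact L9267
  · exact L12405
  · exact L17639
  · exact L17075
  · exact L17151
  · exact L9395
  · exact L9403
  · exact L4642
  · exact L9425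
  · exact L9412
  · exact L12345
  · exact L17074
  · exact L9461
  · exact L4666
  · exact L17624
  · exact L17082

theorem cl_g_6 : ∀ r, r < 64 → sm gg (Qf (64 * 6 + r)) = Qf (tab Gen.g (64 * 6 + r)) := by
  intro r hr
  interval_cases r
  · exact L4701
  · exact L17525
  · exact L12838
  · exact L17527
  · exact L12853
  · exact L10136
  · exact L10156
  · exact L5159
  · exact L4979
  · exact L10182
  · exact L17248
  · exact L17315
  · exact L5013
  · exact L10319
  · exact L10339
  · exact L10349
  · exact L5110
  · exact L10392
  · exact L10406
  · exact L10416
  · exact L5130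
  · exact L10438
  · exact L5138
  · exact L10363
  · exact L5158
  · exact L7791
  · exact L10490
  · exact L17314
  · exact L17249
  · exact L10558
  · exact L5198
  · exact L10627
  · exact L5279
  · exact L115679
  · exact L5323
  · exact L5299
  · exact L5307
  · exact L5322
  · exact L18565
  · exact L110335
  · exact L18589
  · exact L5760
  · exact L18611
  · exact L6061
  · exact L5776
  · exact L18633
  · exact L18596
  · exact L18538
  · exact L18657
  · exact L5794
  · exact L15797
  · exact L18427
  · exact L5829
  · exact L18449
  · exact L5935
  · exact L5940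
  · exact L18711
  · exact L18729
  · exact L6029
  · exact L5988
  · exact L94384
  · exact L18761
  · exact L18771
  · exact L6004

theorem cl_g_7 : ∀ r, r < 64 → sm gg (Qf (64 * 7 + r)) = Qf (tab Gen.g (64 * 7 + r)) := by
  intro r hr
  interval_cases r
  · exact L18803
  · exact L6012
  · exact L6020
  · exact L6028
  · exact L18821
  · exact L6035
  · exact L18847
  · exact L6043
  · exact L18782
  · exact L6060
  · exact L18877
  · exact L18883
  · exact L6069
  · exact L18892
  · exact L18503
  · exact L18548
  · exact L18537
  · exact L18958
  · exact L6125
  · exact L18423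
  · exact L18426
  · exact L6257
  · exact L18436
  · exact L18448
  · exact L19036
  · exact L6439
  · exact L6446
  · exact L111155
  · exact L115657
  · exact L19100
  · exact L115664
  · exact L6499
  · exact L114732
  · exact L115659
  · exact L115665
  · exact L111156
  · exact L6491
  · exact L6498
  · exact L100099
  · exact L17669
  · exact L17638
  · exact L18421
  · exact L100098
  · exact L106796
  · exact L7505
  · exact L19254
  · exact L18520
  · exact L19264
  · exact L7515
  · exact L111118
  · exact L19304
  · exact L19316
  · exact L7731
  · exact L12404
  · exact L19351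
  · exact L19362
  · exact L7761
  · exact L7790
  · exact L115672
  · exact L7907
  · exact L7891
  · exact L7906
  · exact L19451
  · exact L16869

theorem cl_g_8 : ∀ r, r < 64 → sm gg (Qf (64 * 8 + r)) = Qf (tab Gen.g (64 * 8 + r)) := by
  intro r hr
  interval_cases r
  · exact L8515
  · exact L8538
  · exact L109472
  · exact L8910
  · exact L8631
  · exact L18648
  · exact L19468
  · exact L19507
  · exact L19523
  · exact L19532
  · exact L8734
  · exact L13618
  · exact L8748
  · exact L16870
  · exact L19572
  · exact L111091
  · exact L112179
  · exact L8880
  · exact L112277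
  · exact L19626
  · exact L8890
  · exact L19654
  · exact L8896
  · exact L91270
  · exact L8909
  · exact L9472
  · exact L19563
  · exact L19690
  · exact L19716
  · exact L19734
  · exact L19746
  · exact L9268
  · exact L19213
  · exact L19776
  · exact L18513
  · exact L18519
  · exact L105690
  · exact L9418
  · exact L9396
  · exact L19808
  · exact L9404
  · exact L9411
  · exact L9417
  · exact L19834
  · exact L19844
  · exact L9426
  · exact L109925
  · exact L19874
  · exact L19892
  · exact L18420
  · exact L18514
  · exact L19924
  · exact L9462
  · exact L9471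
  · exact L18502
  · exact L18547
  · exact L18422
  · exact L18437
  · exact L20020
  · exact L20042
  · exact L20052
  · exact L10137
  · exact L20082
  · exact L10433

theorem cl_g_9 : ∀ r, r < 64 → sm gg (Qf (64 * 9 + r)) = Qf (tab Gen.g (64 * 9 + r)) := by
  intro r hr
  interval_cases r
  · exact L10157
  · exact L20110
  · exact L20063
  · exact L18523
  · exact L20130
  · exact L10183
  · exact L18527
  · exact L111090
  · exact L91269
  · exact L10373
  · exact L10320
  · exact L112759
  · exact L20214
  · exact L112632
  · exact L10340
  · exact L20252
  · exact L10350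
  · exact L10362
  · exact L10372
  · exact L109475
  · exact L20307
  · exact L19647
  · exact L10393
  · exact L20329
  · exact L10407
  · exact L20359
  · exact L10417
  · exact L20237
  · exact L10432
  · exact L20385
  · exact L10439
  · exact L20398
  · exact L18528
  · exact L19379
  · exact L18524
  · exact L20494
  · exact L10491
  · exact L10559
  · exact L20535
  · exact L10628
  · exact L111119
  · exact L20634
  · exact L115671
  · exact L19423
  · exact L109493
  · exact L109937
  · exact L18602
  · exact L18566
  · exact L110334
  · exact L109976
  · exact L20764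
  · exact L20792
  · exact L18590
  · exact L18595
  · exact L18601
  · exact L18840
  · exact L18612
  · exact L20820
  · exact L94383
  · exact L20842
  · exact L20852
  · exact L18634
  · exact L112760
  · exact L112590

theorem cl_g_10 : ∀ r, r < 64 → sm gg (Qf (64 * 10 + r)) = Qf (tab Gen.g (64 * 10 + r)) := by
  intro r hr
  interval_cases r
  · exact L18647
  · exact L18954
  · exact L18658
  · exact L18680
  · exact L18697
  · exact L111025
  · exact L115373
  · exact L20988
  · exact L111011
  · exact L18712
  · exact L110412
  · exact L21042
  · exact L18790
  · exact L18730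
  · exact L112276
  · exact L110476
  · exact L21110
  · exact L21132
  · exact L18762
  · exact L21162
  · exact L18772
  · exact L18781
  · exact L18789
  · exact L18898
  · exact L21198
  · exact L18804
  · exact L21207
  · exact L21242
  · exact L18822
  · exact L21143
  · exact L18839
  · exact L21274
  · exact L90261
  · exact L18848
  · exact L21293
  · exact L111010
  · exact L21376
  · exact L18878
  · exact L18884
  · exact L18891
  · exact L18897
  · exact L21401
  · exact L21405
  · exact L112961
  · exact L19951
  · exact L18953
  · exact L18959
  · exact L19006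
  · exact L19055
  · exact L19037
  · exact L19051
  · exact L114731
  · exact L115660
  · exact L115013
  · exact L111297
  · exact L19101
  · exact L103016
  · exact L94238
  · exact L21761
  · exact L21775
  · exact L19179
  · exact L115063
  · exact L115232
  · exact L115014

theorem cl_g_11 : ∀ r, r < 64 → sm gg (Qf (64 * 11 + r)) = Qf (tab Gen.g (64 * 11 + r)) := by
  intro r hr
  interval_cases r
  · exact L103015
  · exact L94239
  · exact L102995
  · exact L21889
  · exact L19178
  · exact L21913
  · exact L109926
  · exact L106795
  · exact L19212
  · exact L22007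
  · exact L19905
  · exact L19247
  · exact L22037
  · exact L19246
  · exact L22051
  · exact L22061
  · exact L19255
  · exact L19787
  · exact L22075
  · exact L19265
  · exact L109826
  · exact L93602
  · exact L19333
  · exact L109412
  · exact L22169
  · exact L19305
  · exact L22191
  · exact L19317
  · exact L19332
  · exact L111032
  · exact L19350
  · exact L22237
  · exact L22245
  · exact L19363
  · exact L22260
  · exact L19378
  · exact L110531
  · exact L110548
  · exact L22358
  · exact L111133
  · exact L19422
  · exact L22452
  · exact L96024
  · exact L22491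
  · exact L19555
  · exact L19452
  · exact L19467
  · exact L95704
  · exact L109459
  · exact L112178
  · exact L20885
  · exact L22592
  · exact L109747
  · exact L112095
  · exact L19508
  · exact L92016
  · exact L22667
  · exact L19524
  · exact L22697
  · exact L19533
  · exact L112689
  · exact L19554
  · exact L19562
  · exact L109832

theorem cl_g_12 : ∀ r, r < 64 → sm gg (Qf (64 * 12 + r)) = Qf (tab Gen.g (64 * 12 + r)) := by
  intro r hr
  interval_cases r
  · exact L19613
  · exact L19573
  · exact L111056
  · exact L112167
  · exact L19612
  · exact L22805
  · exact L22833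
  · exact L19627
  · exact L19646
  · exact L22861
  · exact L114957
  · exact L19655
  · exact L22878
  · exact L112633
  · exact L112166
  · exact L19943
  · exact L22728
  · exact L111031
  · exact L109854
  · exact L19691
  · exact L105691
  · exact L115374
  · exact L19759
  · exact L19717
  · exact L111026
  · exact L111051
  · exact L19735
  · exact L23077
  · exact L19747
  · exact L19758
  · exact L23099
  · exact L23115
  · exact L23127
  · exact L19777
  · exact L19913
  · exact L19786
  · exact L100870
  · exact L100869
  · exact L113763
  · exact L23209
  · exact L19853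
  · exact L114465
  · exact L19809
  · exact L19866
  · exact L23259
  · exact L23269
  · exact L23279
  · exact L19835
  · exact L23299
  · exact L19845
  · exact L19852
  · exact L19867
  · exact L23351
  · exact L19875
  · exact L23367
  · exact L23379
  · exact L19893
  · exact L19904
  · exact L23413
  · exact L19912
  · exact L23152
  · exact L23437
  · exact L19925
  · exact L23306

theorem cl_g_13 : ∀ r, r < 64 → sm gg (Qf (64 * 13 + r)) = Qf (tab Gen.g (64 * 13 + r)) := by
  intro r hr
  interval_cases r
  · exact L19942
  · exact L19950
  · exact L109447
  · exact L109833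
  · exact L20071
  · exact L20021
  · exact L109827
  · exact L95319
  · exact L109851
  · exact L20043
  · exact L23683
  · exact L20053
  · exact L20062
  · exact L20070
  · exact L20352
  · exact L20083
  · exact L23725
  · exact L110549
  · exact L23751
  · exact L23763
  · exact L20111
  · exact L112682
  · exact L112907
  · exact L20488
  · exact L23811
  · exact L20131
  · exact L20476
  · exact L109411
  · exact L93603
  · exact L97794
  · exact L112690
  · exact L20245
  · exact L95680
  · exact L112683
  · exact L112591
  · exact L91225
  · exact L20215
  · exact L115472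
  · exact L20236
  · exact L20244
  · exact L20406
  · exact L20253
  · exact L115463
  · exact L95690
  · exact L109477
  · exact L109446
  · exact L24320
  · exact L95863
  · exact L20308
  · exact L111055
  · exact L24371
  · exact L20330
  · exact L24036
  · exact L20351
  · exact L24413
  · exact L24423
  · exact L20360
  · exact L24432
  · exact L97795
  · exact L20386
  · exact L20397
  · exact L20405
  · exact L24526
  · exact L24532

theorem cl_g_14 : ∀ r, r < 64 → sm gg (Qf (64 * 14 + r)) = Qf (tab Gen.g (64 * 14 + r)) := by
  intro r hr
  interval_cases r
  · exact L112924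
  · exact L20475
  · exact L22292
  · exact L20487
  · exact L20495
  · exact L20536
  · exact L87737
  · exact L114344
  · exact L20635
  · exact L110532
  · exact L115010
  · exact L22423
  · exact L22429
  · exact L87736
  · exact L109494
  · exact L109501
  · exact L109936
  · exact L109951
  · exact L110014
  · exact L109975
  · exact L110013
  · exact L25215
  · exact L90262
  · exact L20765
  · exact L20861
  · exact L88790
  · exact L20793
  · exact L20868
  · exact L112960
  · exact L25323
  · exact L110475
  · exact L90292
  · exact L90218
  · exact L20821
  · exact L110413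
  · exact L110426
  · exact L25413
  · exact L25421
  · exact L20843
  · exact L114464
  · exact L20853
  · exact L20860
  · exact L20869
  · exact L20884
  · exact L111296
  · exact L109758
  · exact L21009
  · exact L111050
  · exact L25697
  · exact L109746
  · exact L95466
  · exact L20989
  · exact L21008
  · exact L95667
  · exact L94314
  · exact L110425
  · exact L21151
  · exact L21043
  · exact L92017
  · exact L95864
  · exact L25911
  · exact L111873
  · exact L21111
  · exact L25965

theorem cl_g_15 : ∀ r, r < 64 → sm gg (Qf (64 * 15 + r)) = Qf (tab Gen.g (64 * 15 + r)) := by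
  intro r hr
  interval_cases r
  · exact L21133
  · exact L21142
  · exact L21150
  · exact L90219
  · exact L90293
  · exact L21163
  · exact L26016
  · exact L21397
  · exact L21199
  · exact L21206
  · exact L115556
  · exact L26092
  · exact L87411
  · exact L26179
  · exact L113281
  · exact L21243
  · exact L26200
  · exact L95465
  · exact L113343
  · exact L21275
  · exact L21292
  · exact L111874
  · exact L111878
  · exact L26521
  · exact L21377
  · exact L21396
  · exact L21400
  · exact L21404
  · exact L21420
  · exact L112953
  · exact L26548
  · exact L21421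
  · exact L26552
  · exact L99013
  · exact L102154
  · exact L21620
  · exact L117039
  · exact L115064
  · exact L115233
  · exact L103194
  · exact L87778
  · exact L102153
  · exact L27103
  · exact L110493
  · exact L102994
  · exact L27245
  · exact L21762
  · exact L111134
  · exact L27279
  · exact L102971
  · exact L21776
  · exact L27317
  · exact L87807
  · exact L114956
  · exact L87779
  · exact L110492
  · exact L95320
  · exact L111581
  · exact L105678
  · exact L27537
  · exact L21890
  · exact L114211
  · exact L115024
  · exact L27617

theorem cl_g_16 : ∀ r, r < 64 → sm gg (Qf (64 * 16 + r)) = Qf (tab Gen.g (64 * 16 + r)) := by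
  intro r hr
  interval_cases r
  · exact L21914
  · exact L27699
  · exact L114564
  · exact L27737
  · exact L27749
  · exact L22008
  · exact L23404
  · exact L110783
  · exact L22070
  · exact L110873
  · exact L22038
  · exact L110872
  · exact L27839
  · exact L114210
  · exact L22052
  · exact L110832
  · exact L22062
  · exact L22069
  · exact L27891
  · exact L22076
  · exact L27872
  · exact L100960
  · exact L27947
  · exact L22182
  · exact L27985
  · exact L28037
  · exact L22170
  · exact L22181
  · exact L22270
  · exact L22192
  · exact L28058
  · exact L115360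
  · exact L109855
  · exact L114553
  · exact L28161
  · exact L114563
  · exact L22238
  · exact L28197
  · exact L22246
  · exact L22259
  · exact L22269
  · exact L28210
  · exact L28216
  · exact L113552
  · exact L22291
  · exact L112863
  · exact L115011
  · exact L28299
  · exact L102972
  · exact L22359
  · exact L107097
  · exact L22422
  · exact L22428
  · exact L103193
  · exact L28420
  · exact L22453
  · exact L109463
  · exact L96032
  · exact L109453
  · exact L22686
  · exact L22492
  · exact L112096
  · exact L109460
  · exact L109946

theorem cl_g_17 : ∀ r, r < 64 → sm gg (Qf (64 * 17 + r)) = Qf (tab Gen.g (64 * 17 + r)) := by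
  intro r hr
  interval_cases r
  · exact L95513
  · exact L22648
  · exact L22593
  · exact L95581
  · exact L95541
  · exact L92177
  · exact L22647
  · exact L28768
  · exact L28801
  · exact L22668
  · exact L22685
  · exact L28834
  · exact L111333
  · exact L22698
  · exact L28861
  · exact L91224
  · exact L92178
  · exact L22727
  · exact L109852
  · exact L115270
  · exact L22884
  · exact L29080
  · exact L115557
  · exact L22806
  · exact L115462
  · exact L87525
  · exact L22834
  · exact L108732
  · exact L115269
  · exact L115471
  · exact L112000
  · exact L22862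
  · exact L22877
  · exact L22883
  · exact L29261
  · exact L29324
  · exact L23458
  · exact L28929
  · exact L22970
  · exact L22969
  · exact L100858
  · exact L23064
  · exact L29418
  · exact L109759
  · exact L29482
  · exact L23063
  · exact L23140
  · exact L88682
  · exact L23078
  · exact L113721
  · exact L29568
  · exact L114552
  · exact L23100
  · exact L113601
  · exact L29622
  · exact L23116
  · exact L29644
  · exact L23128
  · exact L23139
  · exact L23426
  · exact L23151
  · exact L100859
  · exact L105679
  · exact L113762

theorem cl_g_18 : ∀ r, r < 64 → sm gg (Qf (64 * 18 + r)) = Qf (tab Gen.g (64 * 18 + r)) := by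
  intro r hr
  interval_cases r
  · exact L29718
  · exact L113759
  · exact L113994
  · exact L23210
  · exact L23314
  · exact L110769
  · exact L110831
  · exact L29906
  · exact L23260
  · exact L113551
  · exact L29938
  · exact L23270
  · exact L29964
  · exact L88791
  · exact L23280
  · exact L29949
  · exact L30012
  · exact L23300
  · exact L23305
  · exact L23313
  · exact L114634
  · exact L98390
  · exact L113600
  · exact L30116
  · exact L23352
  · exact L113568
  · exact L30152
  · exact L30162
  · exact L23368
  · exact L30180
  · exact L23380
  · exact L89230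
  · exact L23403
  · exact L30244
  · exact L30262
  · exact L30268
  · exact L23414
  · exact L23425
  · exact L29681
  · exact L23438
  · exact L30021
  · exact L23457
  · exact L30033
  · exact L30346
  · exact L107555
  · exact L100961
  · exact L109945
  · exact L23670
  · exact L112908
  · exact L113915
  · exact L95344
  · exact L113122
  · exact L23669
  · exact L23776
  · exact L114377
  · exact L23684
  · exact L23787
  · exact L112923
  · exact L30800
  · exact L30832
  · exact L30844
  · exact L23726
  · exact L112862
  · exact L112888

theorem cl_g_19 : ∀ r, r < 64 → sm gg (Qf (64 * 19 + r)) = Qf (tab Gen.g (64 * 19 + r)) := by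
  intro r hr
  interval_cases r
  · exact L74984
  · exact L30914
  · exact L23752
  · exact L30936
  · exact L23764
  · exact L23775
  · exact L23788
  · exact L88683
  · exact L24682
  · exact L23812
  · exact L114345
  · exact L31052
  · exact L24668
  · exact L24046
  · exact L115479
  · exact L24035
  · exact L24045
  · exact L24440
  · exact L114911
  · exact L109484
  · exact L112290
  · exact L24321
  · exact L31839
  · exact L93956
  · exact L24372
  · exact L31864
  · exact L110744
  · exact L24414
  · exact L24424
  · exact L24431
  · exact L24439
  · exact L92985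
  · exact L32024
  · exact L90821
  · exact L24525
  · exact L24531
  · exact L24557
  · exact L116084
  · exact L32238
  · exact L24558
  · exact L32242
  · exact L112894
  · exact L32549
  · exact L24667
  · exact L24681
  · exact L114456
  · exact L115023
  · exact L115017
  · exact L93259
  · exact L27102
  · exact L28397
  · exact L115018
  · exact L109500
  · exact L109508
  · exact L109515
  · exact L109950
  · exact L95134
  · exact L95135
  · exact L111877
  · exact L113280
  · exact L25216
  · exact L113344
  · exact L99014
  · exact L113238

theorem cl_g_20 : ∀ r, r < 64 → sm gg (Qf (64 * 20 + r)) = Qf (tab Gen.g (64 * 20 + r)) := by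
  intro r hr
  interval_cases r
  · exact L113401
  · exact L25324
  · exact L94313
  · exact L111712
  · exact L33610
  · exact L87412
  · exact L93232
  · exact L25414
  · exact L33772
  · exact L25422
  · exact L112954
  · exact L117038
  · exact L109694
  · exact L95512
  · exact L25734
  · exact L109525
  · exact L95580
  · exact L109740
  · exact L25698
  · exact L118264
  · exact L25733
  · exact L109549
  · exact L111713
  · exact L112291
  · exact L111631
  · exact L25912
  · exact L92499
  · exact L112797
  · exact L113400
  · exact L113237
  · exact L25966
  · exact L115527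
  · exact L26015
  · exact L86754
  · exact L35081
  · exact L115620
  · exact L114641
  · exact L26091
  · exact L109198
  · exact L115119
  · exact L111334
  · exact L115265
  · exact L118265
  · exact L113370
  · exact L26180
  · exact L90353
  · exact L26199
  · exact L111632
  · exact L111639
  · exact L109741
  · exact L112796
  · exact L92498
  · exact L114524
  · exact L26522
  · exact L89138
  · exact L26547
  · exact L26551
  · exact L26589
  · exact L108733
  · exact L87526
  · exact L36289
  · exact L26590
  · exact L107161
  · exact L112001

theorem cl_g_21 : ∀ r, r < 64 → sm gg (Qf (64 * 21 + r)) = Qf (tab Gen.g (64 * 21 + r)) := by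
  intro r hr
  interval_cases r
  · exact L117377
  · exact L115043
  · exact L87808
  · exact L107017
  · exact L37576
  · exact L117378
  · exact L114455
  · exact L111582
  · exact L37714
  · exact L27246
  · exact L107096
  · exact L115042
  · exact L37744
  · exact L37756
  · exact L102877
  · exact L27280
  · exact L37792
  · exact L114183
  · exact L27318
  · exact L37960
  · exact L109979
  · exact L111554
  · exact L27556
  · exact L27538
  · exact L27555
  · exact L99291
  · exact L38304
  · exact L27618
  · exact L27762
  · exact L110782
  · exact L27700
  · exact L114593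
  · exact L113838
  · exact L115361
  · exact L27738
  · exact L110745
  · exact L27750
  · exact L27761
  · exact L117050
  · exact L113620
  · exact L38650
  · exact L110811
  · exact L110768
  · exact L110810
  · exact L107757
  · exact L114218
  · exact L113720
  · exact L27840
  · exact L107589
  · exact L114136
  · exact L27871
  · exact L27892
  · exact L114126
  · exact L93991
  · exact L113914
  · exact L39002
  · exact L27948
  · exact L114276
  · exact L27986
  · exact L114642
  · exact L28038
  · exact L114633
  · exact L28057
  · exact L114525

theorem cl_g_22 : ∀ r, r < 64 → sm gg (Qf (64 * 22 + r)) = Qf (tab Gen.g (64 * 22 + r)) := by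
  intro r hr
  interval_cases r
  · exact L118065
  · exact L114594
  · exact L28162
  · exact L113567
  · exact L28198
  · exact L114619
  · exact L28209
  · exact L28215
  · exact L118155
  · exact L39905
  · exact L39911
  · exact L113534
  · exact L112889
  · exact L92984
  · exact L28300
  · exact L102876
  · exact L102905
  · exact L28396
  · exact L114912
  · exact L107016
  · exact L113839
  · exact L28421
  · exact L109452
  · exact L109553
  · exact L109516
  · exact L95542
  · exact L95343
  · exact L109677
  · exact L116709
  · exact L112090
  · exact L28869
  · exact L40822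
  · exact L86753
  · exact L28769
  · exact L115526
  · exact L40893
  · exact L28802
  · exact L40902
  · exact L112091
  · exact L115478
  · exact L114949
  · exact L28835
  · exact L28860
  · exact L28868
  · exact L41031
  · exact L28928
  · exact L115214
  · exact L113123
  · exact L114820
  · exact L29081
  · exact L115120
  · exact L109197
  · exact L74985
  · exact L116085
  · exact L115213
  · exact L98389
  · exact L107624
  · exact L29260
  · exact L111785
  · exact L41962
  · exact L114819
  · exact L41984
  · exact L29325
  · exact L30313

theorem cl_g_23 : ∀ r, r < 64 → sm gg (Qf (64 * 23 + r)) = Qf (tab Gen.g (64 * 23 + r)) := by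
  intro r hr
  interval_cases r
  · exact L110751
  · exact L107758
  · exact L113947
  · exact L42168
  · exact L113993
  · exact L113758
  · exact L29419
  · exact L109693
  · exact L29483
  · exact L29657
  · exact L114470
  · exact L114135
  · exact L107862
  · exact L118066
  · exact L29569
  · exact L107382
  · exact L98759
  · exact L114502
  · exact L29623
  · exact L113984
  · exact L98692
  · exact L42726
  · exact L29645
  · exact L29656
  · exact L29680
  · exact L42808
  · exact L83975
  · exact L29761
  · exact L113946
  · exact L29719
  · exact L117049
  · exact L89229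
  · exact L29760
  · exact L114376
  · exact L113837
  · exact L107623
  · exact L114125
  · exact L107590
  · exact L107554
  · exact L29907
  · exact L113535
  · exact L43488
  · exact L29939
  · exact L29948
  · exact L29965
  · exact L43593
  · exact L113942
  · exact L30013
  · exact L30020
  · exact L30032
  · exact L30338
  · exact L118156
  · exact L113985
  · exact L107381
  · exact L30117
  · exact L110752
  · exact L113412
  · exact L93955
  · exact L30153
  · exact L43998
  · exact L44004
  · exact L30163
  · exact L30181
  · exact L115264

theorem cl_g_24 : ∀ r, r < 64 → sm gg (Qf (64 * 24 + r)) = Qf (tab Gen.g (64 * 24 + r)) := by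
  intro r hr
  interval_cases r
  · exact L44160
  · exact L30279
  · exact L30245
  · exact L44186
  · exact L44194
  · exact L44202
  · exact L30263
  · exact L30269
  · exact L30278
  · exact L114151
  · exact L30312
  · exact L114296
  · exact L89139
  · exact L114275
  · exact L30339
  · exact L44350
  · exact L30347
  · exact L98630
  · exact L109980
  · exact L90352
  · exact L98002
  · exact L90820
  · exact L98800
  · exact L112895
  · exact L90328
  · exact L45193
  · exact L30801
  · exact L45273
  · exact L30833
  · exact L84439
  · exact L30845
  · exact L98730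
  · exact L98760
  · exact L30915
  · exact L98731
  · exact L114469
  · exact L30937
  · exact L93260
  · exact L45755
  · exact L107435
  · exact L98791
  · exact L31053
  · exact L113413
  · exact L109489
  · exact L118197
  · exact L31840
  · exact L31863
  · exact L111553
  · exact L115245
  · exact L93992
  · exact L32023
  · exact L111786
  · exact L111555
  · exact L110708
  · exact L32237
  · exact L32241
  · exact L114948
  · exact L32550
  · exact L93233
  · exact L114917
  · exact L99292
  · exact L109507
  · exact L109519
  · exact L111638

theorem cl_g_25 : ∀ r, r < 64 → sm gg (Qf (64 * 25 + r)) = Qf (tab Gen.g (64 * 25 + r)) := by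
  intro r hr
  interval_cases r
  · exact L113369
  · exact L107160
  · exact L74875
  · exact L115621
  · exact L51485
  · exact L33611
  · exact L33773
  · exact L98801
  · exact L109609
  · exact L109678
  · exact L34403
  · exact L95619
  · exact L118302
  · exact L34402
  · exact L111866
  · exact L116221
  · exact L116034
  · exact L116224
  · exact L90327
  · exact L115504
  · exact L35080
  · exact L116035
  · exact L115562
  · exact L115599
  · exact L118303
  · exact L116222
  · exact L111867
  · exact L116225
  · exact L36288
  · exact L107434
  · exact L57960
  · exact L103212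
  · exact L98606
  · exact L114182
  · exact L83976
  · exact L59416
  · exact L114249
  · exact L37577
  · exact L114918
  · exact L111759
  · exact L37715
  · exact L98226
  · exact L102904
  · exact L103211
  · exact L114248
  · exact L114242
  · exact L37745
  · exact L102941
  · exact L59794
  · exact L102964
  · exact L37757
  · exact L93118
  · exact L114219
  · exact L37793
  · exact L114620
  · exact L60136
  · exact L37961
  · exact L113792
  · exact L42960
  · exact L106967
  · exact L113791
  · exact L113810
  · exact L38305
  · exact L113621

theorem cl_g_26 : ∀ r, r < 64 → sm gg (Qf (64 * 26 + r)) = Qf (tab Gen.g (64 * 26 + r)) := by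
  intro r hr
  interval_cases r
  · exact L98227
  · exact L118196
  · exact L99354
  · exact L38651
  · exact L113840
  · exact L98441
  · exact L107803
  · exact L107863
  · exact L116937
  · exact L113941
  · exact L114048
  · exact L114297
  · exact L39003
  · exact L114150
  · exact L39904
  · exact L39910
  · exact L98003
  · exact L98693
  · exact L114501
  · exact L111556
  · exact L102965
  · exact L102931
  · exact L102919
  · exact L99355
  · exact L109518
  · exact L116710
  · exact L118452
  · exact L115520
  · exact L107751
  · exact L40823
  · exact L115563
  · exact L115503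
  · exact L40894
  · exact L40901
  · exact L74874
  · exact L64817
  · exact L115519
  · exact L41030
  · exact L111766
  · exact L114047
  · exact L41963
  · exact L107752
  · exact L41985
  · exact L84440
  · exact L98442
  · exact L42169
  · exact L116936
  · exact L98738
  · exact L107885
  · exact L98665
  · exact L42727
  · exact L42809
  · exact L42959
  · exact L98607
  · exact L98629
  · exact L43489
  · exact L43592
  · exact L107886
  · exact L113811
  · exact L103208
  · exact L107804
  · exact L43999
  · exact L44005
  · exact L114243

theorem cl_g_27 : ∀ r, r < 54 → sm gg (Qf (64 * 27 + r)) = Qf (tab Gen.g (64 * 27 + r)) := by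
  intro r hr
  interval_cases r
  · exact L44215
  · exact L44161
  · exact L115246
  · exact L44187
  · exact L44195
  · exact L44203
  · exact L44214
  · exact L44351
  · exact L110707
  · exact L45194
  · exact L45274
  · exact L84512
  · exact L98790
  · exact L98737
  · exact L98664
  · exact L45756
  · exact L84513
  · exact L111758
  · exact L93117
  · exact L118403
  · exact L111765
  · exact L106966
  · exact L109608
  · exact L117193
  · exact L115598
  · exact L51486
  · exact L118447
  · exact L118446
  · exact L118437
  · exact L118431
  · exact L118430
  · exact L118458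
  · exact L118436
  · exact L118432
  · exact L118379
  · exact L57961
  · exact L59417
  · exact L102930
  · exact L102918
  · exact L103207
  · exact L118433
  · exact L102940
  · exact L59795
  · exact L118380
  · exact L60137
  · exact L118448
  · exact L118453
  · exact L64799
  · exact L117194
  · exact L64816
  · exact L118402
  · exact L118468
  · exact L118476
  · exact L118483

theorem cl_g : ∀ i, i < 1782 → sm gg (Qf i) = Qf (tab Gen.g i) := by
  intro i hi
  obtain ⟨k, r, rfl, hr⟩ : ∃ k r, i = 64 * k + r ∧ r < 64 := ⟨i / 64, i % 64, by omega, by omega⟩
  have hk : k < 28 := by omega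
  interval_cases k
  · exact cl_g_0 r (by omega)
  · exact cl_g_1 r (by omega)
  · exact cl_g_2 r (by omega)
  · exact cl_g_3 r (by omega)
  · exact cl_g_4 r (by omega)
  · exact cl_g_5 r (by omega)
  · exact cl_g_6 r (by omega)
  · exact cl_g_7 r (by omega)
  · exact cl_g_8 r (by omega)
  · exact cl_g_9 r (by omega)
  · exact cl_g_10 r (by omega)
  · exact cl_g_11 r (by omega)
  · exact cl_g_12 r (by omega)
  · exact cl_g_13 r (by omega)
  · exact cl_g_14 r (by omega)
  · exact cl_g_15 r (by omega)
  · exact cl_g_16 r (by omega)
  · exact cl_g_17 r (by omega)
  · exact cl_g_18 r (by omega)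
  · exact cl_g_19 r (by omega)
  · exact cl_g_20 r (by omega)
  · exact cl_g_21 r (by omega)
  · exact cl_g_22 r (by omega)
  · exact cl_g_23 r (by omega)
  · exact cl_g_24 r (by omega)
  · exact cl_g_25 r (by omega)
  · exact cl_g_26 r (by omega)
  · exact cl_g_27 r (by omega)

theorem hcl : ∀ g i, i < 1782 → gen g • Qf i = Qf (tab g i) := by
  intro g i hi
  cases g
  · exact cl_a i hi
  · exact cl_b i hi
  · exact cl_c i hi
  · exact cl_d i hi
  · exact cl_e i hi
  · exact cl_f i hi
  · exact cl_g i hi

theorem tab_ok : ∀ g : Gen, allLt 1782 (fun i => decide (tab g i < 1782) && (tab g (tab g i) == i)) = true := by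
  intro g
  cases g <;> decide +kernel

theorem ht : IsInv tab 1782 := by
  constructor
  · intro g i hi
    have h := allLt_spec (tab_ok g) i hi
    rw [Bool.and_eq_true] at h
    exact of_decide_eq_true h.1
  · intro g i hi
    have h := allLt_spec (tab_ok g) i hi
    rw [Bool.and_eq_true] at h
    exact beq_iff_eq.mp h.2

theorem par_ok : allLt 1782 (fun i => i == 0 || (decide (lk PAR 11 i < i) && (tab (genOf (lk PGN 3 i)) (lk PAR 11 i) == i))) = true := by
  decide +kernel

theorem hpar : ∀ i, 0 < i → i < 1782 → ∃ j g, j < i ∧ tab g j = i := by
  intro i h0 hi
  have h := allLt_spec par_ok i hi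
  rw [Bool.or_eq_true, Bool.and_eq_true] at h
  rcases h with h | h
  · exact absurd (beq_iff_eq.mp h) (by omega)
  · exact ⟨_, _, of_decide_eq_true h.1, beq_iff_eq.mp h.2⟩

theorem coxP (x y : Gen) : (permOf ht x * permOf ht y) ^ coxLabel edges x y = 1 := by
  rw [pow_eq_prod]
  apply prod_eq_one
  cases x <;> cases y <;> decide +kernel

theorem relsP : ∀ r ∈ rels, FreeGroup.lift (permOf ht) r = 1 := by
  intro r hr
  rcases hr with ⟨x, -, y, -, rfl⟩ | hr
  · rw [map_pow, map_mul, FreeGroup.lift_apply_of, FreeGroup.lift_apply_of]
    exact coxP x y
  · have hr' : r ∈ extra := hr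
    simp only [extra, List.mem_cons, List.not_mem_nil, or_false] at hr'
    rcases hr' with rfl | rfl | rfl | rfl | rfl
    · simp only [map_mul, map_pow, map_inv, FreeGroup.lift_apply_of, pow_succ, pow_zero, one_mul, mul_inv_rev,
        permOf_inv, mul_assoc]
      have h := prod_eq_one ht [Gen.a, Gen.d, Gen.c, Gen.d, Gen.c, Gen.d, Gen.c, Gen.d, Gen.c] (by decide +kernel)
      simpa only [List.map_cons, List.map_nil, List.prod_cons, List.prod_nil, mul_one] using h
    · simp only [map_mul, map_pow, map_inv, FreeGroup.lift_apply_of, pow_succ, pow_zero, one_mul, mul_inv_rev,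
        permOf_inv, mul_assoc]
      have h := prod_eq_one ht [Gen.a, Gen.g, Gen.f, Gen.g, Gen.f] (by decide +kernel)
      simpa only [List.map_cons, List.map_nil, List.prod_cons, List.prod_nil, mul_one] using h
    · simp only [map_mul, map_pow, map_inv, FreeGroup.lift_apply_of, pow_succ, pow_zero, one_mul, mul_inv_rev,
        permOf_inv, mul_assoc]
      have h := prod_eq_one ht [Gen.a, Gen.b, Gen.c, Gen.f, Gen.a, Gen.b, Gen.c, Gen.f, Gen.a, Gen.b, Gen.c, Gen.f, Gen.a, Gen.b, Gen.c, Gen.f, Gen.a, Gen.b, Gen.c, Gen.f] (by decide +kernel)
      simpa only [List.map_cons, List.map_nil, List.prod_cons, List.prod_nil, mul_one] using h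
    · simp only [map_mul, map_pow, map_inv, FreeGroup.lift_apply_of, pow_succ, pow_zero, one_mul, mul_inv_rev,
        permOf_inv, mul_assoc]
      have h := prod_eq_one ht [Gen.b, Gen.f, Gen.g, Gen.b, Gen.f, Gen.g, Gen.b, Gen.f, Gen.g, Gen.b, Gen.f, Gen.g, Gen.b, Gen.f, Gen.g] (by decide +kernel)
      simpa only [List.map_cons, List.map_nil, List.prod_cons, List.prod_nil, mul_one] using h
    · simp only [map_mul, map_pow, map_inv, FreeGroup.lift_apply_of, pow_succ, pow_zero, one_mul, mul_inv_rev,
        permOf_inv, mul_assoc]
      have h := prod_eq_one ht [Gen.b, Gen.c, Gen.d, Gen.c, Gen.d, Gen.b, Gen.c, Gen.d, Gen.c, Gen.d, Gen.b, Gen.c, Gen.d, Gen.c, Gen.d, Gen.b, Gen.c, Gen.d, Gen.c, Gen.d, Gen.b, Gen.c, Gen.d, Gen.c, Gen.d, Gen.e, Gen.b, Gen.c, Gen.d, Gen.c, Gen.d, Gen.b, Gen.c, Gen.d, Gen.c, Gen.d, Gen.b, Gen.c, Gen.d, Gen.c, Gen.d, Gen.b, Gen.c, Gen.d, Gen.c, Gen.d, Gen.b, Gen.c, Gen.d, Gen.c, Gen.d, Gen.e, Gen.b, Gen.c, Gen.d, Gen.c, Gen.d, Gen.b, Gen.c, Gen.d, Gen.c, Gen.d, Gen.b, Gen.c, Gen.d, Gen.c, Gen.d, Gen.b, Gen.c, Gen.d, Gen.c, Gen.d, Gen.b, Gen.c, Gen.d, Gen.c, Gen.d, Gen.e] (by decide +kernel)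
      simpa only [List.map_cons, List.map_nil, List.prod_cons, List.prod_nil, mul_one] using h

/-- The permutation representation on the cosets. -/
def phi : Grp →* Equiv.Perm (Fin 1782) := PresentedGroup.toGroup relsP

theorem phi_gen (x : Gen) : phi (gen x) = permOf ht x := PresentedGroup.toGroup.of relsP

theorem phi_mk_of (x : Gen) : phi (PresentedGroup.mk rels (FreeGroup.of x)) = permOf ht x := phi_gen x

theorem hH : ∀ h ∈ H, phi h ⟨0, by norm_num⟩ = ⟨0, by norm_num⟩ := by
  have hle : H ≤ (MulAction.stabilizer (Equiv.Perm (Fin 1782)) (⟨0, by norm_num⟩ : Fin 1782)).comap phi := by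
    rw [H, Subgroup.map_le_iff_le_comap, Subgroup.closure_le]
    intro s hs
    simp only [Set.mem_insert_iff, Set.mem_singleton_iff] at hs
    rcases hs with rfl | rfl | rfl | rfl | rfl | rfl
    · show phi (PresentedGroup.mk rels (a)) ⟨0, _⟩ = ⟨0, _⟩
      simp only [map_mul, map_pow, phi_mk_of, pow_succ, pow_zero, one_mul, mul_assoc]
      have h := prod_apply_mk ht [Gen.a] 0 0 (by norm_num) (by norm_num) (by decide +kernel)
      simpa only [List.map_cons, List.map_nil, List.prod_cons, List.prod_nil, mul_one] using h
    · show phi (PresentedGroup.mk rels (b)) ⟨0, _⟩ = ⟨0, _⟩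
      simp only [map_mul, map_pow, phi_mk_of, pow_succ, pow_zero, one_mul, mul_assoc]
      have h := prod_apply_mk ht [Gen.b] 0 0 (by norm_num) (by norm_num) (by decide +kernel)
      simpa only [List.map_cons, List.map_nil, List.prod_cons, List.prod_nil, mul_one] using h
    · show phi (PresentedGroup.mk rels (c)) ⟨0, _⟩ = ⟨0, _⟩
      simp only [map_mul, map_pow, phi_mk_of, pow_succ, pow_zero, one_mul, mul_assoc]
      have h := prod_apply_mk ht [Gen.c] 0 0 (by norm_num) (by norm_num) (by decide +kernel)
      simpa only [List.map_cons, List.map_nil, List.prod_cons, List.prod_nil, mul_one] using h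
    · show phi (PresentedGroup.mk rels (d)) ⟨0, _⟩ = ⟨0, _⟩
      simp only [map_mul, map_pow, phi_mk_of, pow_succ, pow_zero, one_mul, mul_assoc]
      have h := prod_apply_mk ht [Gen.d] 0 0 (by norm_num) (by norm_num) (by decide +kernel)
      simpa only [List.map_cons, List.map_nil, List.prod_cons, List.prod_nil, mul_one] using h
    · show phi (PresentedGroup.mk rels (e)) ⟨0, _⟩ = ⟨0, _⟩
      simp only [map_mul, map_pow, phi_mk_of, pow_succ, pow_zero, one_mul, mul_assoc]
      have h := prod_apply_mk ht [Gen.e] 0 0 (by norm_num) (by norm_num) (by decide +kernel)
      simpa only [List.map_cons, List.map_nil, List.prod_cons, List.prod_nil, mul_one] using h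
    · show phi (PresentedGroup.mk rels (f)) ⟨0, _⟩ = ⟨0, _⟩
      simp only [map_mul, map_pow, phi_mk_of, pow_succ, pow_zero, one_mul, mul_assoc]
      have h := prod_apply_mk ht [Gen.f] 0 0 (by norm_num) (by norm_num) (by decide +kernel)
      simpa only [List.map_cons, List.map_nil, List.prod_cons, List.prod_nil, mul_one] using h
  intro h hh
  exact hle hh

theorem hgen : Subgroup.closure (Set.range gen) = ⊤ := PresentedGroup.closure_range_of rels

theorem h0 : Qf 0 = ((1 : Grp) : Q) := rfl

theorem hphi : ∀ g (i : Fin 1782), ((phi (gen g) i : Fin 1782) : ℕ) = tab g i := by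
  intro g i
  rw [phi_gen]
  rfl

/-- The index of the subgroup. -/
theorem index_H : H.index = 1782 :=
  (index_eq hgen (by norm_num) h0 ht hcl phi hH hphi hpar).1

theorem psi_bij : Function.Bijective (psi H (by norm_num) phi hH) :=
  (index_eq hgen (by norm_num) h0 ht hcl phi hH hphi hpar).2

end Cfsg.Agent.Helper28.SuzA
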