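import Mathlib
import Cfsg.Prelude.Def_SporadicCombinatorics
import Cfsg.Agent.Helper12.GolayMore
import Cfsg.Agent.Helper3.M24Chain
import Cfsg.Agent.Helper28.Norm7
import Cfsg.Agent.Helper28.Syl2Data

/-!
A Sylow 2-subgroup of the group of the length-24 code, as the centralizer of an involution in
the stabilizer of a sextet and a trio: it has order 1024 and is its own normalizer.
-/

set_option autoImplicit false

namespace Cfsg.Agent.Helper28.Syl2

open Cfsg Cfsg.Agent.Helper12 Cfsg.Agent.Helper28.Coset Cfsg.Agent.Helper28.Ord3Data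
  Cfsg.Agent.Helper28.InvClass Cfsg.Agent.Helper28.Ord3
  Cfsg.Agent.Helper28.Ord3Inv Cfsg.Agent.Helper28.Sext Cfsg.Agent.Helper28.Trio
  Cfsg.Agent.Helper28.SxData Cfsg.Agent.Helper28.Norm7 Cfsg.Agent.Helper28.CentB
  Cfsg.Agent.Helper28.InvFix Cfsg.Agent.Helper28.Syl2Data
open scoped Pointwise

/-! ## Generic lemmas -/

theorem genOf_eq (GS QS ng : ℕ) (h : sysOK GS QS ng = true) {a : ℕ} (ha : a < ng) :
    genOf GS QS ng h a = mkPerm (sub GS a) (sub QS a) (allB_spec h a ha) := by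
  rw [genOf, dif_pos ha]

theorem genOf_inv_pt (GS QS ng : ℕ) (h : sysOK GS QS ng = true) {a : ℕ} (ha : a < ng) {i : ℕ}
    (hi : i < 24) :
    (genOf GS QS ng h a)⁻¹ (pt i) = pt (get24 (sub QS a) i) ∧ get24 (sub QS a) i < 24 := by
  rw [genOf_eq GS QS ng h ha]
  refine ⟨?_, (permOK_spec (allB_spec h a ha) hi).2.1⟩
  show pt (get24 (sub QS a) (idx (pt i))) = _
  rw [idx_pt hi]

theorem sxFix_of (P Q : ℕ) (h : permOK P Q = true) {k : ℕ}
    (hfix : mkPerm P Q h • sx k = sx k) : sxFix P k = true := by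
  have h1 : mkPerm P Q h • ofMask (sxm k 0) ∈ mkPerm P Q h • sx k :=
    Finset.smul_mem_smul_finset (mem_sx (by norm_num))
  rw [hfix, smul_ofMask, sx, mem_fam] at h1
  obtain ⟨i, hi, e⟩ := h1
  rw [sxFix, anyB_iff]
  refine ⟨i, hi, ?_⟩
  rw [Nat.beq_eq]
  exact (ofMask_inj (permMask_lt h _) (sxm_lt _ _) e).symm

theorem sx_fix_of (P Q : ℕ) (h : permOK P Q = true) (hm : m24OK P = true) {k : ℕ} (hk : k < 1771)
    (hf : sxFix P k = true) : mkPerm P Q h • sx k = sx k := by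
  have hg : mkPerm P Q h ∈ M24 := mkPerm_mem_M24 _ _ _ hm
  rw [sxFix, anyB_iff] at hf
  obtain ⟨i, hi, hi'⟩ := hf
  rw [Nat.beq_eq] at hi'
  apply sextet_unique (smul_sextet hg (sx_mem hk)) (sx_mem hk)
    (t := ofMask (permMask P (sxm k 0)))
  · rw [← smul_ofMask P Q h]
    exact Finset.smul_mem_smul_finset (mem_sx (by norm_num))
  · rw [← hi']; exact mem_sx hi

theorem octFix_of (P Q : ℕ) (h : permOK P Q = true) {k : ℕ}
    (hfix : mkPerm P Q h • ofMask (get24 OA k) = ofMask (get24 OA k)) : octFix P k = true := by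
  rw [smul_ofMask] at hfix
  rw [octFix, Nat.beq_eq]
  exact ofMask_inj (permMask_lt h _) (get24_lt _ _) hfix

/-- a permutation fixing a trio and mapping a point of one of its octads into the octad fixes
the octad -/
theorem octad_fix {c : Equiv.Perm GolayPt} {k : ℕ} (hk : k < 3795) (hc : c • tr k = tr k) {i : ℕ}
    (hi : i < 3) {p : GolayPt} (hp : p ∈ ofMask (trm k i)) (hcp : c p ∈ ofMask (trm k i)) :
    c • ofMask (trm k i) = ofMask (trm k i) := by
  have h1 : c • ofMask (trm k i) ∈ tr k := by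
    have : c • ofMask (trm k i) ∈ c • tr k := Finset.smul_mem_smul_finset (mem_tr hi)
    rwa [hc] at this
  by_contra hne
  have hd := (tr_mem hk).2.2 _ h1 _ (mem_tr hi) hne
  have h2 : c • p ∈ c • ofMask (trm k i) := Finset.smul_mem_smul_finset hp
  exact Finset.disjoint_left.1 hd h2 hcp

/-- a permutation fixing a trio and two of its octads fixes the third -/
theorem octad_third {c : Equiv.Perm GolayPt} {k : ℕ} (hk : k < 3795) (hc : c • tr k = tr k)
    {i j l : ℕ} (hi : i < 3) (hj : j < 3) (hl : l < 3) (hil : i ≠ l) (hjl : j ≠ l) (hij : i ≠ j)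
    (h1 : c • ofMask (trm k i) = ofMask (trm k i))
    (h2 : c • ofMask (trm k j) = ofMask (trm k j)) :
    c • ofMask (trm k l) = ofMask (trm k l) := by
  have h3 : c • ofMask (trm k l) ∈ tr k := by
    have : c • ofMask (trm k l) ∈ c • tr k := Finset.smul_mem_smul_finset (mem_tr hl)
    rwa [hc] at this
  rw [tr, mem_fam] at h3
  obtain ⟨m, hm, e⟩ := h3
  by_cases e1 : m = i
  · exfalso
    rw [e1, ← h1] at e
    exact tr_ne hk hi hl hil (MulAction.injective c e.symm)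
  by_cases e2 : m = j
  · exfalso
    rw [e2, ← h2] at e
    exact tr_ne hk hj hl hjl (MulAction.injective c e.symm)
  have e3 : m = l := by omega
  rw [e, e3]

theorem smul_eq_of_maps {c : Equiv.Perm GolayPt} {s : Finset GolayPt}
    (h : ∀ q, q ∈ s → c q ∈ s) : c • s = s := by
  apply Finset.eq_of_subset_of_card_le
  · intro x hx
    obtain ⟨q, hq, rfl⟩ := Finset.mem_smul_finset.1 hx
    exact h q hq
  · rw [Finset.card_smul_finset]

theorem fix_conj_aux {X : Type*} [MulAction (Equiv.Perm GolayPt) X] {n w : Equiv.Perm GolayPt}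
    {x : X} (h : (n⁻¹ * w * n) • x = x) : w • (n • x) = n • x := by
  calc w • (n • x) = n • ((n⁻¹ * w * n) • x) := by
        rw [← mul_smul, ← mul_smul]; congr 1; group
    _ = n • x := by rw [h]

/-! ## The subgroups -/

theorem u_ok : permOK U2 U2 = true := by decide +kernel
theorem u_m24 : m24OK U2 = true := by decide +kernel

/-- the central involution -/
def uP : Equiv.Perm GolayPt := mkPerm U2 U2 u_ok

theorem uP_mem : uP ∈ M24 := mkPerm_mem_M24 _ _ _ u_m24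

def uM : ↥M24 := ⟨uP, uP_mem⟩

/-- the subgroup of order 1024 -/
def Pg : Subgroup ↥M24 := (Subgroup.centralizer {uM} ⊓ MulAction.stabilizer ↥M24 (sx 1543)) ⊓
  MulAction.stabilizer ↥M24 (tr 3551)

/-- the subgroup of order 3072 -/
def Bg : Subgroup ↥M24 := (MulAction.stabilizer ↥M24 (ofMask 0x265640) ⊓
  MulAction.stabilizer ↥M24 (sx 1543)) ⊓ MulAction.stabilizer ↥M24 (tr 3551)

theorem mem_Pg {c : ↥M24} : c ∈ Pg ↔
    (c : Equiv.Perm GolayPt) * uP = uP * (c : Equiv.Perm GolayPt) ∧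
    (c : Equiv.Perm GolayPt) • sx 1543 = sx 1543 ∧
    (c : Equiv.Perm GolayPt) • tr 3551 = tr 3551 := by
  rw [Pg, Subgroup.mem_inf, Subgroup.mem_inf, Subgroup.mem_centralizer_iff]
  constructor
  · rintro ⟨⟨h1, h2⟩, h3⟩
    exact ⟨(congrArg Subtype.val (h1 uM rfl)).symm, h2, h3⟩
  · rintro ⟨h1, h2, h3⟩
    refine ⟨⟨?_, h2⟩, h3⟩
    intro x hx
    rw [Set.mem_singleton_iff] at hx
    rw [hx]; exact Subtype.ext h1.symm

theorem mem_Bg {c : ↥M24} : c ∈ Bg ↔
    (c : Equiv.Perm GolayPt) • ofMask 0x265640 = ofMask 0x265640 ∧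
    (c : Equiv.Perm GolayPt) • sx 1543 = sx 1543 ∧
    (c : Equiv.Perm GolayPt) • tr 3551 = tr 3551 := by
  rw [Bg, Subgroup.mem_inf, Subgroup.mem_inf]
  constructor
  · rintro ⟨⟨h1, h2⟩, h3⟩
    exact ⟨h1, h2, h3⟩
  · rintro ⟨h1, h2, h3⟩
    exact ⟨⟨h1, h2⟩, h3⟩

theorem k_FU : allB 24 (fun i => bif tb 0x265640 i then Nat.beq (get24 U2 i) i
    else (Nat.blt (get24 U2 i) i || Nat.blt i (get24 U2 i))) = true := by decide +kernel

theorem uP_fix : (Finset.univ.filter fun p => uP p = p) = ofMask 0x265640 :=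
  fix_of_table _ _ _ _ k_FU

theorem mem_O1 {q : GolayPt} : q ∈ ofMask 0x265640 ↔ uP q = q := by
  rw [← uP_fix, Finset.mem_filter]
  simp

theorem comm_u {c : Equiv.Perm GolayPt} (hc : c * uP = uP * c) (p : GolayPt) :
    c (uP p) = uP (c p) := by
  have := congrArg (fun f : Equiv.Perm GolayPt => f p) hc
  exact this

theorem Pg_le : Pg ≤ Bg := by
  intro c hc
  obtain ⟨h1, h2, h3⟩ := mem_Pg.1 hc
  refine mem_Bg.2 ⟨smul_eq_of_maps ?_, h2, h3⟩
  intro q hq
  rw [mem_O1] at hq ⊢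
  rw [← comm_u h1, hq]

/-! ## Tables -/

/-- the table is in the subgroup of order 1024 -/
def memPT (P : ℕ) : Bool := commT P U2 && sxFix P 1543 && trFix P 3551

/-- the table is in the subgroup of order 3072 -/
def memBT (P : ℕ) : Bool := Nat.beq (permMask P 0x265640) 0x265640 && sxFix P 1543 && trFix P 3551

theorem gen_P (GS QS ng : ℕ) (h : sysOK GS QS ng = true) (hm : sysM24 GS ng = true) {a : ℕ}
    (ha : a < ng) (hf : memPT (sub GS a) = true) :
    (⟨genOf GS QS ng h a, genOf_mem_M24 GS QS ng h hm a⟩ : ↥M24) ∈ Pg := by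
  rw [memPT, Bool.and_eq_true, Bool.and_eq_true] at hf
  obtain ⟨⟨f1, f2⟩, f3⟩ := hf
  rw [mem_Pg]
  refine ⟨(comm_iff GS QS ng h ha U2 U2 u_ok).2 f1, ?_, ?_⟩
  · show genOf GS QS ng h a • sx 1543 = sx 1543
    rw [genOf_eq GS QS ng h ha]
    exact sx_fix_of _ _ _ (allB_spec hm a ha) (by norm_num) f2
  · show genOf GS QS ng h a • tr 3551 = tr 3551
    rw [genOf_eq GS QS ng h ha]
    exact tr_fix_of _ _ _ (allB_spec hm a ha) (by norm_num) f3

theorem P_gen (GS QS ng : ℕ) (h : sysOK GS QS ng = true) {a : ℕ} (ha : a < ng) {c : ↥M24}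
    (hc : c ∈ Pg) (e : (c : Equiv.Perm GolayPt) = genOf GS QS ng h a) :
    memPT (sub GS a) = true := by
  obtain ⟨h1, h2, h3⟩ := mem_Pg.1 hc
  rw [e] at h1 h2 h3
  rw [memPT, Bool.and_eq_true, Bool.and_eq_true]
  refine ⟨⟨(comm_iff GS QS ng h ha U2 U2 u_ok).1 h1, ?_⟩, ?_⟩
  · rw [genOf_eq GS QS ng h ha] at h2
    exact sxFix_of _ _ _ h2
  · rw [genOf_eq GS QS ng h ha] at h3
    exact trFix_of _ _ _ h3

theorem gen_B (GS QS ng : ℕ) (h : sysOK GS QS ng = true) (hm : sysM24 GS ng = true) {a : ℕ}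
    (ha : a < ng) (hf : memBT (sub GS a) = true) :
    (⟨genOf GS QS ng h a, genOf_mem_M24 GS QS ng h hm a⟩ : ↥M24) ∈ Bg := by
  rw [memBT, Bool.and_eq_true, Bool.and_eq_true, Nat.beq_eq] at hf
  obtain ⟨⟨f1, f2⟩, f3⟩ := hf
  rw [mem_Bg]
  refine ⟨?_, ?_, ?_⟩
  · show genOf GS QS ng h a • ofMask 0x265640 = ofMask 0x265640
    rw [genOf_smul_ofMask GS QS ng h ha, f1]
  · show genOf GS QS ng h a • sx 1543 = sx 1543
    rw [genOf_eq GS QS ng h ha]
    exact sx_fix_of _ _ _ (allB_spec hm a ha) (by norm_num) f2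
  · show genOf GS QS ng h a • tr 3551 = tr 3551
    rw [genOf_eq GS QS ng h ha]
    exact tr_fix_of _ _ _ (allB_spec hm a ha) (by norm_num) f3

theorem B_gen (GS QS ng : ℕ) (h : sysOK GS QS ng = true) {a : ℕ} (ha : a < ng) {c : ↥M24}
    (hc : c ∈ Bg) (e : (c : Equiv.Perm GolayPt) = genOf GS QS ng h a) :
    memBT (sub GS a) = true := by
  obtain ⟨h1, h2, h3⟩ := mem_Bg.1 hc
  rw [e] at h1 h2 h3
  rw [memBT, Bool.and_eq_true, Bool.and_eq_true, Nat.beq_eq]
  refine ⟨⟨?_, ?_⟩, ?_⟩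
  · rw [genOf_smul_ofMask GS QS ng h ha] at h1
    exact ofMask_inj (permMask_lt (allB_spec h a ha) _) (by norm_num) h1
  · rw [genOf_eq GS QS ng h ha] at h2
    exact sxFix_of _ _ _ h2
  · rw [genOf_eq GS QS ng h ha] at h3
    exact trFix_of _ _ _ h3

theorem y_sys : sysOK YG YQ 97 = true := by decide +kernel
theorem y_m24 : sysM24 YG 97 = true := by decide +kernel

/-- the listed elements -/
def ely (a : ℕ) : ↥M24 := ⟨genOf YG YQ 97 y_sys a, genOf_mem_M24 YG YQ 97 y_sys y_m24 a⟩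

theorem ely_pt {a : ℕ} (ha : a < 97) {i : ℕ} (hi : i < 24) :
    (ely a : Equiv.Perm GolayPt) (pt i) = pt (get24 (sub YG a) i) :=
  (genOf_pt YG YQ 97 y_sys ha hi).1

/-! ## Invariant sets of the larger subgroup -/

theorem k_tr : trm 3551 0 = 0xc12017 ∧ trm 3551 1 = 0x1889a8 ∧ trm 3551 2 = 0x265640 := by
  decide +kernel
theorem k_sx : sxm 1543 0 = 0x800013 ∧ sxm 1543 5 = 0x412004 := by decide +kernel

theorem B_23 {c : ↥M24} (hc : c ∈ Bg) : (c : Equiv.Perm GolayPt) (pt 23) ∉ ofMask 0x265640 := by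
  rw [mem_of_tetrad_fix (mem_Bg.1 hc).1, pt_mem_ofMask (by norm_num)]
  decide +kernel

theorem B_O2 {c : ↥M24} (hc : c ∈ Bg) (h23 : (c : Equiv.Perm GolayPt) (pt 23) = pt 23) :
    (c : Equiv.Perm GolayPt) • ofMask 0xc12017 = ofMask 0xc12017 := by
  have hp : pt 23 ∈ ofMask (trm 3551 0) := by
    rw [pt_mem_ofMask (by norm_num)]; decide +kernel
  have h := octad_fix (by norm_num : 3551 < 3795) (mem_Bg.1 hc).2.2 (by norm_num : 0 < 3) hp
    (by rw [h23]; exact hp)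
  rwa [k_tr.1] at h

theorem B_O3 {c : ↥M24} (hc : c ∈ Bg) (h23 : (c : Equiv.Perm GolayPt) (pt 23) = pt 23) :
    (c : Equiv.Perm GolayPt) • ofMask 0x1889a8 = ofMask 0x1889a8 := by
  have h1 : (c : Equiv.Perm GolayPt) • ofMask (trm 3551 2) = ofMask (trm 3551 2) := by
    rw [k_tr.2.2]; exact (mem_Bg.1 hc).1
  have h2 : (c : Equiv.Perm GolayPt) • ofMask (trm 3551 0) = ofMask (trm 3551 0) := by
    rw [k_tr.1]; exact B_O2 hc h23
  have h := octad_third (by norm_num : 3551 < 3795) (mem_Bg.1 hc).2.2 (i := 2) (j := 0) (l := 1)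
    (by norm_num) (by norm_num) (by norm_num) (by norm_num) (by norm_num) (by norm_num) h1 h2
  rwa [k_tr.2.1] at h

theorem B_tc {c : ↥M24} (hc : c ∈ Bg) (h23 : (c : Equiv.Perm GolayPt) (pt 23) = pt 23) :
    (c : Equiv.Perm GolayPt) • ofMask 0x800013 = ofMask 0x800013 := by
  have hp : pt 23 ∈ ofMask (sxm 1543 0) := by
    rw [pt_mem_ofMask (by norm_num)]; decide +kernel
  have h := tetrad_fix (by norm_num : 1543 < 1771) (mem_Bg.1 hc).2.1 (by norm_num : 0 < 6) hp h23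
  rwa [k_sx.1] at h

theorem B_3 {c : ↥M24} (hc : c ∈ Bg) (h23 : (c : Equiv.Perm GolayPt) (pt 23) = pt 23) :
    (c : Equiv.Perm GolayPt) (pt 3) ∈ ofMask 0x1889a8 := by
  rw [mem_of_tetrad_fix (B_O3 hc h23), pt_mem_ofMask (by norm_num)]
  decide +kernel

theorem k_M2 : allB 24 (fun i => bif tb 0xc12017 i then (tb 0x800013 i || tb 0x412004 i)
    else true) = true := by decide +kernel

theorem B_2 {c : ↥M24} (hc : c ∈ Bg) (h23 : (c : Equiv.Perm GolayPt) (pt 23) = pt 23) :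
    (c : Equiv.Perm GolayPt) (pt 2) ∈ ofMask 0x412004 := by
  have h1 : (c : Equiv.Perm GolayPt) (pt 2) ∈ ofMask 0xc12017 := by
    rw [mem_of_tetrad_fix (B_O2 hc h23), pt_mem_ofMask (by norm_num)]
    decide +kernel
  have h2 : (c : Equiv.Perm GolayPt) (pt 2) ∉ ofMask 0x800013 := by
    rw [mem_of_tetrad_fix (B_tc hc h23), pt_mem_ofMask (by norm_num)]
    decide +kernel
  rw [mem_ofMask, ← tb_eq] at h1 h2 ⊢
  have h3 := allB_spec k_M2 _ (idx_lt ((c : Equiv.Perm GolayPt) (pt 2)))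
  rw [h1, cond_true, Bool.or_eq_true] at h3
  rcases h3 with h3 | h3
  · exact absurd h3 h2
  · exact h3

theorem tc_cases {q : GolayPt} (hq : q ∈ ofMask 0x800013) :
    q = pt 0 ∨ q = pt 1 ∨ q = pt 4 ∨ q = pt 23 := by
  rw [mem_ofMask] at hq
  have hcases : ∀ i, i < 24 → (0x800013 : ℕ).testBit i = true → i = 0 ∨ i = 1 ∨ i = 4 ∨ i = 23 := by
    decide
  have hp := pt_idx q
  rcases hcases _ (idx_lt q) hq with e | e | e | e <;> rw [e] at hp
  · left; exact hp.symm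
  · right; left; exact hp.symm
  · right; right; left; exact hp.symm
  · right; right; right; exact hp.symm

theorem B_tc_pt {c : ↥M24} (hc : c ∈ Bg) (h23 : (c : Equiv.Perm GolayPt) (pt 23) = pt 23) {i : ℕ}
    (hi : i < 24) (hm : tb 0x800013 i = true) :
    (c : Equiv.Perm GolayPt) (pt i) = pt 0 ∨ (c : Equiv.Perm GolayPt) (pt i) = pt 1 ∨
    (c : Equiv.Perm GolayPt) (pt i) = pt 4 ∨ (c : Equiv.Perm GolayPt) (pt i) = pt 23 := by
  apply tc_cases
  rw [mem_of_tetrad_fix (B_tc hc h23), pt_mem_ofMask hi]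
  exact hm

/-! ## The first three orbits, for every subgroup between the two -/

theorem k1 : allB 24 (fun q => bif tb 0x265640 q then true else
    (memPT (sub YG q) && Nat.beq (get24 (sub YG q) 23) q)) = true := by decide +kernel
theorem k2 : allB 24 (fun q => bif tb 0x1889a8 q then
    (memPT (sub YG (Nat.add 24 q)) && Nat.beq (get24 (sub YG (Nat.add 24 q)) 23) 23 &&
      Nat.beq (get24 (sub YG (Nat.add 24 q)) 3) q) else true) = true := by decide +kernel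
theorem k3 : allB 24 (fun q => bif tb 0x412004 q then
    (memPT (sub YG (Nat.add 48 q)) && Nat.beq (get24 (sub YG (Nat.add 48 q)) 23) 23 &&
      Nat.beq (get24 (sub YG (Nat.add 48 q)) 3) 3 &&
      Nat.beq (get24 (sub YG (Nat.add 48 q)) 2) q) else true) = true := by decide +kernel

theorem ely_P {a : ℕ} (ha : a < 97) (hf : memPT (sub YG a) = true) : ely a ∈ Pg :=
  gen_P YG YQ 97 y_sys y_m24 ha hf

theorem ely_B {a : ℕ} (ha : a < 97) (hf : memBT (sub YG a) = true) : ely a ∈ Bg :=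
  gen_B YG YQ 97 y_sys y_m24 ha hf

theorem orb0 (K : Subgroup ↥M24) (hP : Pg ≤ K) (hB : K ≤ Bg) (q : GolayPt) :
    q ∈ (Finset.univ \ ofMask 0x265640 : Finset GolayPt) ↔
      ∃ c ∈ K, (c : Equiv.Perm GolayPt) (pt 23) = q := by
  rw [Finset.mem_sdiff]
  constructor
  · rintro ⟨-, hq⟩
    have hi := idx_lt q
    have h1 := allB_spec k1 (idx q) hi
    have h2 : tb 0x265640 (idx q) = false := by
      rw [mem_ofMask, ← tb_eq] at hq
      simpa using hq
    rw [h2, cond_false, Bool.and_eq_true, Nat.beq_eq] at h1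
    refine ⟨ely (idx q), hP (ely_P (by omega) h1.1), ?_⟩
    rw [ely_pt (by omega) (by norm_num), h1.2, pt_idx]
  · rintro ⟨c, hc, rfl⟩
    exact ⟨Finset.mem_univ _, B_23 (hB hc)⟩

theorem orb1 (K : Subgroup ↥M24) (hP : Pg ≤ K) (hB : K ≤ Bg) (q : GolayPt) :
    q ∈ ofMask 0x1889a8 ↔
      ∃ c ∈ K ⊓ MulAction.stabilizer ↥M24 (pt 23), (c : Equiv.Perm GolayPt) (pt 3) = q := by
  constructor
  · intro hq
    have hi := idx_lt q
    have h1 := allB_spec k2 (idx q) hi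
    have h2 : tb 0x1889a8 (idx q) = true := by
      rw [mem_ofMask, ← tb_eq] at hq
      exact hq
    rw [h2, cond_true, Bool.and_eq_true, Bool.and_eq_true, Nat.beq_eq, Nat.beq_eq] at h1
    have ha : Nat.add 24 (idx q) < 97 := by show 24 + idx q < 97; omega
    refine ⟨ely (Nat.add 24 (idx q)), Subgroup.mem_inf.2 ⟨hP (ely_P ha h1.1.1), ?_⟩, ?_⟩
    · rw [mem_st, ely_pt ha (by norm_num), h1.1.2]
    · rw [ely_pt ha (by norm_num), h1.2, pt_idx]
  · rintro ⟨c, hc, rfl⟩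
    obtain ⟨hK, h23⟩ := Subgroup.mem_inf.1 hc
    rw [mem_st] at h23
    exact B_3 (hB hK) h23

theorem orb2 (K : Subgroup ↥M24) (hP : Pg ≤ K) (hB : K ≤ Bg) (q : GolayPt) :
    q ∈ ofMask 0x412004 ↔
      ∃ c ∈ (K ⊓ MulAction.stabilizer ↥M24 (pt 23)) ⊓ MulAction.stabilizer ↥M24 (pt 3),
        (c : Equiv.Perm GolayPt) (pt 2) = q := by
  constructor
  · intro hq
    have hi := idx_lt q
    have h1 := allB_spec k3 (idx q) hi
    have h2 : tb 0x412004 (idx q) = true := by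
      rw [mem_ofMask, ← tb_eq] at hq
      exact hq
    rw [h2, cond_true, Bool.and_eq_true, Bool.and_eq_true, Bool.and_eq_true, Nat.beq_eq,
      Nat.beq_eq, Nat.beq_eq] at h1
    have ha : Nat.add 48 (idx q) < 97 := by show 48 + idx q < 97; omega
    refine ⟨ely (Nat.add 48 (idx q)), Subgroup.mem_inf.2 ⟨Subgroup.mem_inf.2
      ⟨hP (ely_P ha h1.1.1.1), ?_⟩, ?_⟩, ?_⟩
    · rw [mem_st, ely_pt ha (by norm_num), h1.1.1.2]
    · rw [mem_st, ely_pt ha (by norm_num), h1.1.2]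
    · rw [ely_pt ha (by norm_num), h1.2, pt_idx]
  · rintro ⟨c, hc, rfl⟩
    obtain ⟨hc1, -⟩ := Subgroup.mem_inf.1 hc
    obtain ⟨hK, h23⟩ := Subgroup.mem_inf.1 hc1
    rw [mem_st] at h23
    exact B_2 (hB hK) h23

theorem card_first : (Finset.univ \ ofMask 0x265640 : Finset GolayPt).card = 16 := by
  rw [← Finset.compl_eq_univ_sdiff, Finset.card_compl, Leech.card_pts, card_ofMask]
  decide +kernel

theorem card_three (K : Subgroup ↥M24) (hP : Pg ≤ K) (hB : K ≤ Bg) :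
    Nat.card K = 512 * Nat.card ↥(((K ⊓ MulAction.stabilizer ↥M24 (pt 23)) ⊓
      MulAction.stabilizer ↥M24 (pt 3)) ⊓ MulAction.stabilizer ↥M24 (pt 2)) := by
  have e1 := card_orbit_mul K (pt 23) _ (orb0 K hP hB)
  have e2 := card_orbit_mul (K ⊓ MulAction.stabilizer ↥M24 (pt 23)) (pt 3) _ (orb1 K hP hB)
  have e3 := card_orbit_mul ((K ⊓ MulAction.stabilizer ↥M24 (pt 23)) ⊓
    MulAction.stabilizer ↥M24 (pt 3)) (pt 2) _ (orb2 K hP hB)
  have c2 : (ofMask 0x1889a8).card = 8 := by rw [card_ofMask]; decide +kernel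
  have c3 : (ofMask 0x412004).card = 4 := by rw [card_ofMask]; decide +kernel
  rw [card_first] at e1
  rw [c2] at e2
  rw [c3] at e3
  rw [e1, e2, e3]
  ring

/-! ## The order of the smaller subgroup -/

theorem k4 : (memPT (sub YG 76) && Nat.beq (get24 (sub YG 76) 23) 23 &&
    Nat.beq (get24 (sub YG 76) 3) 3 && Nat.beq (get24 (sub YG 76) 2) 2 &&
    Nat.beq (get24 (sub YG 76) 1) 4) = true := by decide +kernel

theorem k_u23 : get24 U2 23 = 0 := by decide +kernel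

theorem P_0 {c : ↥M24} (hc : c ∈ Pg) (h23 : (c : Equiv.Perm GolayPt) (pt 23) = pt 23) :
    (c : Equiv.Perm GolayPt) (pt 0) = pt 0 := by
  have hu : uP (pt 23) = pt 0 := by
    show mkPerm U2 U2 u_ok (pt 23) = pt 0
    rw [mkPerm_pt _ _ _ (by norm_num), k_u23]
  rw [← hu, comm_u (mem_Pg.1 hc).1, h23]

theorem el_fix4 {a : ℕ} (ha : a < 97) (h : (Nat.beq (get24 (sub YG a) 23) 23 &&
    Nat.beq (get24 (sub YG a) 3) 3 && Nat.beq (get24 (sub YG a) 2) 2) = true)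
    {K : Subgroup ↥M24} (hK : ely a ∈ K) :
    ely a ∈ ((K ⊓ MulAction.stabilizer ↥M24 (pt 23)) ⊓
      MulAction.stabilizer ↥M24 (pt 3)) ⊓ MulAction.stabilizer ↥M24 (pt 2) := by
  rw [Bool.and_eq_true, Bool.and_eq_true, Nat.beq_eq, Nat.beq_eq, Nat.beq_eq] at h
  refine Subgroup.mem_inf.2 ⟨Subgroup.mem_inf.2 ⟨Subgroup.mem_inf.2 ⟨hK, ?_⟩, ?_⟩, ?_⟩
  · rw [mem_st, ely_pt ha (by norm_num), h.1.1]
  · rw [mem_st, ely_pt ha (by norm_num), h.1.2]
  · rw [mem_st, ely_pt ha (by norm_num), h.2]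

theorem orbP3 (q : GolayPt) : q ∈ ofMask 18 ↔
    ∃ c ∈ ((Pg ⊓ MulAction.stabilizer ↥M24 (pt 23)) ⊓
      MulAction.stabilizer ↥M24 (pt 3)) ⊓ MulAction.stabilizer ↥M24 (pt 2),
        (c : Equiv.Perm GolayPt) (pt 1) = q := by
  constructor
  · intro hq
    rw [mem_ofMask] at hq
    have hcases : ∀ i, i < 24 → (18 : ℕ).testBit i = true → i = 1 ∨ i = 4 := by decide
    have hp := pt_idx q
    rcases hcases _ (idx_lt q) hq with e | e <;> rw [e] at hp
    · exact ⟨1, one_mem _, hp⟩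
    · have h1 := k4
      rw [Bool.and_eq_true, Bool.and_eq_true, Bool.and_eq_true, Bool.and_eq_true] at h1
      obtain ⟨⟨⟨⟨h1, h2⟩, h3⟩, h4⟩, h5⟩ := h1
      rw [Nat.beq_eq] at h5
      refine ⟨ely 76, el_fix4 (by norm_num) ?_ (ely_P (by norm_num) h1), ?_⟩
      · rw [h2, h3, h4]; rfl
      · rw [ely_pt (by norm_num) (by norm_num), h5, hp]
  · rintro ⟨c, hc, rfl⟩
    obtain ⟨hc2, -⟩ := Subgroup.mem_inf.1 hc
    obtain ⟨hc1, -⟩ := Subgroup.mem_inf.1 hc2
    obtain ⟨hK, h23⟩ := Subgroup.mem_inf.1 hc1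
    rw [mem_st] at h23
    have h0 := P_0 hK h23
    rcases B_tc_pt (Pg_le hK) h23 (by norm_num : 1 < 24) (by decide +kernel) with h | h | h | h
    · exfalso
      rw [← h0] at h
      have := pt_inj (by norm_num : 1 < 24) (by norm_num : 0 < 24)
        ((c : Equiv.Perm GolayPt).injective h)
      omega
    · rw [h, pt_mem_ofMask (by norm_num)]; decide +kernel
    · rw [h, pt_mem_ofMask (by norm_num)]; decide +kernel
    · exfalso
      rw [← h23] at h
      have := pt_inj (by norm_num : 1 < 24) (by norm_num : 23 < 24)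
        ((c : Equiv.Perm GolayPt).injective (by rw [h, h23]))
      omega

theorem el0_fix {a : ℕ} (ha : a < 48) :
    (el0 a : Equiv.Perm GolayPt) (pt 23) = pt 23 ∧ (el0 a : Equiv.Perm GolayPt) (pt 0) = pt 0 ∧
    (el0 a : Equiv.Perm GolayPt) (pt 1) = pt 1 ∧ (el0 a : Equiv.Perm GolayPt) (pt 2) = pt 2 ∧
    (el0 a : Equiv.Perm GolayPt) (pt 3) = pt 3 := by
  have h1 := allB_spec c0_base a ha
  simp only [Bool.and_eq_true, Nat.beq_eq] at h1
  obtain ⟨⟨⟨⟨a0, a1⟩, a2⟩, a3⟩, a4⟩ := h1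
  refine ⟨?_, ?_, ?_, ?_, ?_⟩
  · show genOf CG0 CQ0 48 c0_sys a (pt 23) = pt 23
    rw [(genOf_pt CG0 CQ0 48 c0_sys ha (by norm_num)).1, a0]
  · show genOf CG0 CQ0 48 c0_sys a (pt 0) = pt 0
    rw [(genOf_pt CG0 CQ0 48 c0_sys ha (by norm_num)).1, a1]
  · show genOf CG0 CQ0 48 c0_sys a (pt 1) = pt 1
    rw [(genOf_pt CG0 CQ0 48 c0_sys ha (by norm_num)).1, a2]
  · show genOf CG0 CQ0 48 c0_sys a (pt 2) = pt 2
    rw [(genOf_pt CG0 CQ0 48 c0_sys ha (by norm_num)).1, a3]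
  · show genOf CG0 CQ0 48 c0_sys a (pt 3) = pt 3
    rw [(genOf_pt CG0 CQ0 48 c0_sys ha (by norm_num)).1, a4]

theorem k_cntP : cntB 48 (fun a => memPT (sub CG0 a)) = 1 := by decide +kernel
theorem k_cntB : cntB 48 (fun a => memBT (sub CG0 a)) = 1 := by decide +kernel

theorem card_P4 : Nat.card ↥((((Pg ⊓ MulAction.stabilizer ↥M24 (pt 23)) ⊓
    MulAction.stabilizer ↥M24 (pt 3)) ⊓ MulAction.stabilizer ↥M24 (pt 2)) ⊓
    MulAction.stabilizer ↥M24 (pt 1)) = 1 := by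
  have h1 : Nat.card ↥((((Pg ⊓ MulAction.stabilizer ↥M24 (pt 23)) ⊓
      MulAction.stabilizer ↥M24 (pt 3)) ⊓ MulAction.stabilizer ↥M24 (pt 2)) ⊓
      MulAction.stabilizer ↥M24 (pt 1)) = (((((Pg ⊓ MulAction.stabilizer ↥M24 (pt 23)) ⊓
      MulAction.stabilizer ↥M24 (pt 3)) ⊓ MulAction.stabilizer ↥M24 (pt 2)) ⊓
      MulAction.stabilizer ↥M24 (pt 1) : Subgroup ↥M24) : Set ↥M24).ncard := by
    rw [← Nat.card_coe_set_eq]; rfl
  rw [h1, ← k_cntP]
  apply ncard_eq_cnt el0 48 el0_inj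
  intro s
  rw [SetLike.mem_coe]
  constructor
  · intro hs
    obtain ⟨hs3, h1⟩ := Subgroup.mem_inf.1 hs
    obtain ⟨hs2, h2⟩ := Subgroup.mem_inf.1 hs3
    obtain ⟨hs1, h3⟩ := Subgroup.mem_inf.1 hs2
    obtain ⟨hK, h23⟩ := Subgroup.mem_inf.1 hs1
    rw [mem_st] at h1 h2 h3 h23
    have h0 := P_0 hK h23
    obtain ⟨a, ha, e⟩ := coset_enum CG0 CQ0 c0_sys c0_m24 23 0 1 2 3 c0_base c0_keys s.2 h23 h0
      h1 h2 h3
    exact ⟨a, ha, P_gen CG0 CQ0 48 c0_sys ha hK e, Subtype.ext e⟩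
  · rintro ⟨a, ha, hf, rfl⟩
    obtain ⟨b23, b0, b1, b2, b3⟩ := el0_fix ha
    exact Subgroup.mem_inf.2 ⟨Subgroup.mem_inf.2 ⟨Subgroup.mem_inf.2 ⟨Subgroup.mem_inf.2
      ⟨gen_P CG0 CQ0 48 c0_sys c0_m24 ha hf, b23⟩, b3⟩, b2⟩, b1⟩

theorem card_Pg : Nat.card ↥Pg = 1024 := by
  have e1 := card_three Pg le_rfl Pg_le
  have e2 := card_orbit_mul _ (pt 1) _ orbP3
  have c2 : (ofMask 18).card = 2 := by rw [card_ofMask]; decide +kernel
  rw [c2, card_P4] at e2
  rw [e1, e2]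

/-! ## The order of the larger subgroup -/

theorem k4b : (memBT (sub YG 72) && Nat.beq (get24 (sub YG 72) 23) 23 &&
    Nat.beq (get24 (sub YG 72) 3) 3 && Nat.beq (get24 (sub YG 72) 2) 2 &&
    Nat.beq (get24 (sub YG 72) 1) 0) = true := by decide +kernel
theorem k5b : (memBT (sub YG 96) && Nat.beq (get24 (sub YG 96) 23) 23 &&
    Nat.beq (get24 (sub YG 96) 3) 3 && Nat.beq (get24 (sub YG 96) 2) 2 &&
    Nat.beq (get24 (sub YG 96) 1) 1 && Nat.beq (get24 (sub YG 96) 0) 4) = true := by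
  decide +kernel

theorem orbB3 (q : GolayPt) : q ∈ ofMask 19 ↔
    ∃ c ∈ ((Bg ⊓ MulAction.stabilizer ↥M24 (pt 23)) ⊓
      MulAction.stabilizer ↥M24 (pt 3)) ⊓ MulAction.stabilizer ↥M24 (pt 2),
        (c : Equiv.Perm GolayPt) (pt 1) = q := by
  constructor
  · intro hq
    rw [mem_ofMask] at hq
    have hcases : ∀ i, i < 24 → (19 : ℕ).testBit i = true → i = 0 ∨ i = 1 ∨ i = 4 := by decide
    have hp := pt_idx q
    rcases hcases _ (idx_lt q) hq with e | e | e <;> rw [e] at hp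
    · have h1 := k4b
      rw [Bool.and_eq_true, Bool.and_eq_true, Bool.and_eq_true, Bool.and_eq_true] at h1
      obtain ⟨⟨⟨⟨h1, h2⟩, h3⟩, h4⟩, h5⟩ := h1
      rw [Nat.beq_eq] at h5
      refine ⟨ely 72, el_fix4 (by norm_num) ?_ (ely_B (by norm_num) h1), ?_⟩
      · rw [h2, h3, h4]; rfl
      · rw [ely_pt (by norm_num) (by norm_num), h5, hp]
    · exact ⟨1, one_mem _, hp⟩
    · have h1 := k4
      rw [Bool.and_eq_true, Bool.and_eq_true, Bool.and_eq_true, Bool.and_eq_true] at h1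
      obtain ⟨⟨⟨⟨h1, h2⟩, h3⟩, h4⟩, h5⟩ := h1
      rw [Nat.beq_eq] at h5
      refine ⟨ely 76, el_fix4 (by norm_num) ?_ (Pg_le (ely_P (by norm_num) h1)), ?_⟩
      · rw [h2, h3, h4]; rfl
      · rw [ely_pt (by norm_num) (by norm_num), h5, hp]
  · rintro ⟨c, hc, rfl⟩
    obtain ⟨hc2, -⟩ := Subgroup.mem_inf.1 hc
    obtain ⟨hc1, -⟩ := Subgroup.mem_inf.1 hc2
    obtain ⟨hK, h23⟩ := Subgroup.mem_inf.1 hc1
    rw [mem_st] at h23
    rcases B_tc_pt hK h23 (by norm_num : 1 < 24) (by decide +kernel) with h | h | h | h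
    · rw [h, pt_mem_ofMask (by norm_num)]; decide +kernel
    · rw [h, pt_mem_ofMask (by norm_num)]; decide +kernel
    · rw [h, pt_mem_ofMask (by norm_num)]; decide +kernel
    · exfalso
      have := pt_inj (by norm_num : 1 < 24) (by norm_num : 23 < 24)
        ((c : Equiv.Perm GolayPt).injective (by rw [h, h23]))
      omega

theorem orbB4 (q : GolayPt) : q ∈ ofMask 17 ↔
    ∃ c ∈ (((Bg ⊓ MulAction.stabilizer ↥M24 (pt 23)) ⊓
      MulAction.stabilizer ↥M24 (pt 3)) ⊓ MulAction.stabilizer ↥M24 (pt 2)) ⊓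
      MulAction.stabilizer ↥M24 (pt 1), (c : Equiv.Perm GolayPt) (pt 0) = q := by
  constructor
  · intro hq
    rw [mem_ofMask] at hq
    have hcases : ∀ i, i < 24 → (17 : ℕ).testBit i = true → i = 0 ∨ i = 4 := by decide
    have hp := pt_idx q
    rcases hcases _ (idx_lt q) hq with e | e <;> rw [e] at hp
    · exact ⟨1, one_mem _, hp⟩
    · have h1 := k5b
      rw [Bool.and_eq_true, Bool.and_eq_true, Bool.and_eq_true, Bool.and_eq_true,
        Bool.and_eq_true] at h1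
      obtain ⟨⟨⟨⟨⟨h1, h2⟩, h3⟩, h4⟩, h5⟩, h6⟩ := h1
      rw [Nat.beq_eq] at h5 h6
      refine ⟨ely 96, Subgroup.mem_inf.2 ⟨el_fix4 (by norm_num) ?_ (ely_B (by norm_num) h1), ?_⟩,
        ?_⟩
      · rw [h2, h3, h4]; rfl
      · rw [mem_st, ely_pt (by norm_num) (by norm_num), h5]
      · rw [ely_pt (by norm_num) (by norm_num), h6, hp]
  · rintro ⟨c, hc, rfl⟩
    obtain ⟨hc3, h1⟩ := Subgroup.mem_inf.1 hc
    obtain ⟨hc2, -⟩ := Subgroup.mem_inf.1 hc3
    obtain ⟨hc1, -⟩ := Subgroup.mem_inf.1 hc2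
    obtain ⟨hK, h23⟩ := Subgroup.mem_inf.1 hc1
    rw [mem_st] at h23 h1
    rcases B_tc_pt hK h23 (by norm_num : 0 < 24) (by decide +kernel) with h | h | h | h
    · rw [h, pt_mem_ofMask (by norm_num)]; decide +kernel
    · exfalso
      have := pt_inj (by norm_num : 0 < 24) (by norm_num : 1 < 24)
        ((c : Equiv.Perm GolayPt).injective (by rw [h, h1]))
      omega
    · rw [h, pt_mem_ofMask (by norm_num)]; decide +kernel
    · exfalso
      have := pt_inj (by norm_num : 0 < 24) (by norm_num : 23 < 24)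
        ((c : Equiv.Perm GolayPt).injective (by rw [h, h23]))
      omega

theorem card_B5 : Nat.card ↥(((((Bg ⊓ MulAction.stabilizer ↥M24 (pt 23)) ⊓
    MulAction.stabilizer ↥M24 (pt 3)) ⊓ MulAction.stabilizer ↥M24 (pt 2)) ⊓
    MulAction.stabilizer ↥M24 (pt 1)) ⊓ MulAction.stabilizer ↥M24 (pt 0)) = 1 := by
  have h1 : Nat.card ↥(((((Bg ⊓ MulAction.stabilizer ↥M24 (pt 23)) ⊓
      MulAction.stabilizer ↥M24 (pt 3)) ⊓ MulAction.stabilizer ↥M24 (pt 2)) ⊓
      MulAction.stabilizer ↥M24 (pt 1)) ⊓ MulAction.stabilizer ↥M24 (pt 0)) =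
      ((((((Bg ⊓ MulAction.stabilizer ↥M24 (pt 23)) ⊓
      MulAction.stabilizer ↥M24 (pt 3)) ⊓ MulAction.stabilizer ↥M24 (pt 2)) ⊓
      MulAction.stabilizer ↥M24 (pt 1)) ⊓ MulAction.stabilizer ↥M24 (pt 0) : Subgroup ↥M24) :
        Set ↥M24).ncard := by
    rw [← Nat.card_coe_set_eq]; rfl
  rw [h1, ← k_cntB]
  apply ncard_eq_cnt el0 48 el0_inj
  intro s
  rw [SetLike.mem_coe]
  constructor
  · intro hs
    obtain ⟨hs4, h0⟩ := Subgroup.mem_inf.1 hs
    obtain ⟨hs3, h1⟩ := Subgroup.mem_inf.1 hs4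
    obtain ⟨hs2, h2⟩ := Subgroup.mem_inf.1 hs3
    obtain ⟨hs1, h3⟩ := Subgroup.mem_inf.1 hs2
    obtain ⟨hK, h23⟩ := Subgroup.mem_inf.1 hs1
    rw [mem_st] at h0 h1 h2 h3 h23
    obtain ⟨a, ha, e⟩ := coset_enum CG0 CQ0 c0_sys c0_m24 23 0 1 2 3 c0_base c0_keys s.2 h23 h0
      h1 h2 h3
    exact ⟨a, ha, B_gen CG0 CQ0 48 c0_sys ha hK e, Subtype.ext e⟩
  · rintro ⟨a, ha, hf, rfl⟩
    obtain ⟨b23, b0, b1, b2, b3⟩ := el0_fix ha
    exact Subgroup.mem_inf.2 ⟨Subgroup.mem_inf.2 ⟨Subgroup.mem_inf.2 ⟨Subgroup.mem_inf.2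
      ⟨Subgroup.mem_inf.2 ⟨gen_B CG0 CQ0 48 c0_sys c0_m24 ha hf, b23⟩, b3⟩, b2⟩, b1⟩, b0⟩

theorem card_Bg : Nat.card ↥Bg = 3072 := by
  have e1 := card_three Bg Pg_le le_rfl
  have e2 := card_orbit_mul _ (pt 1) _ orbB3
  have e3 := card_orbit_mul _ (pt 0) _ orbB4
  have c2 : (ofMask 19).card = 3 := by rw [card_ofMask]; decide +kernel
  have c3 : (ofMask 17).card = 2 := by rw [card_ofMask]; decide +kernel
  rw [c2] at e2
  rw [c3, card_B5] at e3
  rw [e1, e2, e3]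

/-! ## The normalizer -/

/-- the normalizer of the subgroup of order 1024 -/
def Ng : Subgroup ↥M24 := Subgroup.normalizer (Pg : Set ↥M24)

theorem k_w : memPT (sub YG 5) = true ∧ memPT (sub YG 43) = true := by decide +kernel
theorem k_uo : allB 759 (fun k => bif octFix (sub YG 5) k && octFix (sub YG 43) k
    then Nat.beq k 258 else true) = true := by decide +kernel
theorem k_us : allB 1771 (fun k => bif sxFix (sub YG 5) k && sxFix (sub YG 43) k
    then Nat.beq k 1543 else true) = true := by decide +kernel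
theorem k_ut : allB 3795 (fun k => bif trFix (sub YG 5) k && trFix (sub YG 43) k
    then Nat.beq k 3551 else true) = true := by decide +kernel
theorem k_258 : get24 OA 258 = 0x265640 := by decide +kernel

/-- an element of the normalizer conjugates the listed elements into the larger subgroup -/
theorem conj_mem {n : ↥M24} (hn : n ∈ Ng) {a : ℕ} (ha : a < 97) (hf : memPT (sub YG a) = true) :
    ((n : Equiv.Perm GolayPt)⁻¹ * genOf YG YQ 97 y_sys a * (n : Equiv.Perm GolayPt)) •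
      ofMask 0x265640 = ofMask 0x265640 ∧
    ((n : Equiv.Perm GolayPt)⁻¹ * genOf YG YQ 97 y_sys a * (n : Equiv.Perm GolayPt)) •
      sx 1543 = sx 1543 ∧
    ((n : Equiv.Perm GolayPt)⁻¹ * genOf YG YQ 97 y_sys a * (n : Equiv.Perm GolayPt)) •
      tr 3551 = tr 3551 := by
  have h1 : n⁻¹ * ely a * n⁻¹⁻¹ ∈ Pg :=
    (Subgroup.mem_normalizer_iff.1 (inv_mem hn) (ely a)).1 (ely_P ha hf)
  rw [inv_inv] at h1
  have hco : ((n⁻¹ * ely a * n : ↥M24) : Equiv.Perm GolayPt) =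
      (n : Equiv.Perm GolayPt)⁻¹ * genOf YG YQ 97 y_sys a * (n : Equiv.Perm GolayPt) := by
    rw [Subgroup.coe_mul, Subgroup.coe_mul, Subgroup.coe_inv]
    rfl
  rw [← hco]
  exact mem_Bg.1 (Pg_le h1)

theorem Ng_le : Ng ≤ Bg := by
  intro n hn
  have c5 := conj_mem hn (by norm_num : 5 < 97) k_w.1
  have c43 := conj_mem hn (by norm_num : 43 < 97) k_w.2
  have g5 := genOf_eq YG YQ 97 y_sys (by norm_num : 5 < 97)
  have g43 := genOf_eq YG YQ 97 y_sys (by norm_num : 43 < 97)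
  rw [mem_Bg]
  refine ⟨?_, ?_, ?_⟩
  · have ho : ofMask 0x265640 ∈ octads := (mem_octads_iff _).2 ⟨258, by norm_num, by rw [k_258]⟩
    obtain ⟨k', hk', e⟩ := (mem_octads_iff _).1 ((smul_mem_octads n.2).2 ho)
    have f5 := fix_conj_aux c5.1
    have f43 := fix_conj_aux c43.1
    rw [e, g5] at f5
    rw [e, g43] at f43
    have h3 := allB_spec k_uo k' hk'
    rw [octFix_of _ _ _ f5, octFix_of _ _ _ f43, Bool.and_self, cond_true, Nat.beq_eq] at h3
    rw [e, h3, k_258]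
  · obtain ⟨k', hk', e⟩ := (mem_sextets_iff _).1
      (smul_sextet n.2 (sx_mem (by norm_num : 1543 < 1771)))
    have f5 := fix_conj_aux c5.2.1
    have f43 := fix_conj_aux c43.2.1
    rw [e, g5] at f5
    rw [e, g43] at f43
    have h3 := allB_spec k_us k' hk'
    rw [sxFix_of _ _ _ f5, sxFix_of _ _ _ f43, Bool.and_self, cond_true, Nat.beq_eq] at h3
    rw [e, h3]
  · obtain ⟨k', hk', e⟩ := (mem_trios_iff _).1
      (smul_trio n.2 (tr_mem (by norm_num : 3551 < 3795)))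
    have f5 := fix_conj_aux c5.2.2
    have f43 := fix_conj_aux c43.2.2
    rw [e, g5] at f5
    rw [e, g43] at f43
    have h3 := allB_spec k_ut k' hk'
    rw [trFix_of _ _ _ f5, trFix_of _ _ _ f43, Bool.and_self, cond_true, Nat.beq_eq] at h3
    rw [e, h3]

theorem k_nn : memBT (sub YG 72) = true ∧ memPT (sub YG 0) = true ∧
    get24 (sub YG 72) (get24 (sub YG 0) (get24 (sub YQ 72) (get24 U2 0))) ≠
      get24 U2 (get24 (sub YG 72) (get24 (sub YG 0) (get24 (sub YQ 72) 0))) := by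
  decide +kernel

theorem conj_pt {i : ℕ} (hi : i < 24) :
    (genOf YG YQ 97 y_sys 72 * genOf YG YQ 97 y_sys 0 * (genOf YG YQ 97 y_sys 72)⁻¹) (pt i) =
      pt (get24 (sub YG 72) (get24 (sub YG 0) (get24 (sub YQ 72) i))) ∧
    get24 (sub YG 72) (get24 (sub YG 0) (get24 (sub YQ 72) i)) < 24 := by
  have a1 := genOf_inv_pt YG YQ 97 y_sys (by norm_num : 72 < 97) hi
  have a2 := genOf_pt YG YQ 97 y_sys (by norm_num : 0 < 97) a1.2
  have a3 := genOf_pt YG YQ 97 y_sys (by norm_num : 72 < 97) a2.2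
  rw [Equiv.Perm.mul_apply, Equiv.Perm.mul_apply, a1.1, a2.1, a3.1]
  exact ⟨rfl, a3.2⟩

theorem b0_not : ely 72 ∉ Ng := by
  intro hn
  have h1 : ely 72 * ely 0 * (ely 72)⁻¹ ∈ Pg :=
    (Subgroup.mem_normalizer_iff.1 hn (ely 0)).1 (ely_P (by norm_num) k_nn.2.1)
  have h2 : (genOf YG YQ 97 y_sys 72 * genOf YG YQ 97 y_sys 0 * (genOf YG YQ 97 y_sys 72)⁻¹) * uP
      = uP * (genOf YG YQ 97 y_sys 72 * genOf YG YQ 97 y_sys 0 * (genOf YG YQ 97 y_sys 72)⁻¹) :=
    (mem_Pg.1 h1).1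
  have h3 := comm_u h2 (pt 0)
  have u0 : uP (pt 0) = pt (get24 U2 0) := mkPerm_pt _ _ _ (by norm_num)
  have hu0 : get24 U2 0 < 24 := (permOK_spec u_ok (by norm_num : 0 < 24)).1
  have b1 := conj_pt hu0
  have b2 := conj_pt (by norm_num : 0 < 24)
  have u1 : uP (pt (get24 (sub YG 72) (get24 (sub YG 0) (get24 (sub YQ 72) 0)))) =
      pt (get24 U2 (get24 (sub YG 72) (get24 (sub YG 0) (get24 (sub YQ 72) 0)))) :=
    mkPerm_pt _ _ _ b2.2
  rw [u0, b1.1, b2.1, u1] at h3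
  exact k_nn.2.2 (pt_inj b1.2 (permOK_spec u_ok b2.2).1 h3)

theorem Ng_eq : Ng = Pg := by
  have h1 : Pg ≤ Ng := Subgroup.le_normalizer
  have h2 : Ng ≤ Bg := Ng_le
  have d1 : Nat.card Pg ∣ Nat.card Ng := Subgroup.card_dvd_of_le h1
  have d2 : Nat.card Ng ∣ Nat.card Bg := Subgroup.card_dvd_of_le h2
  rw [card_Pg] at d1
  rw [card_Bg] at d2
  obtain ⟨m, hm⟩ := d1
  have hm3 : m ∣ 3 := by
    rw [hm] at d2
    exact Nat.dvd_of_mul_dvd_mul_left (by norm_num : 0 < 1024) d2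
  have hcases : m = 1 ∨ m = 3 := by
    have hle := Nat.le_of_dvd (by norm_num) hm3
    interval_cases m
    · exact absurd hm3 (by norm_num)
    · left; rfl
    · exact absurd hm3 (by norm_num)
    · right; rfl
  rcases hcases with e | e
  · symm
    apply Subgroup.eq_of_le_of_card_ge h1
    rw [hm, e, card_Pg]
  · exfalso
    have hNB : Ng = Bg := by
      apply Subgroup.eq_of_le_of_card_ge h2
      rw [hm, e, card_Bg]
    apply b0_not
    rw [hNB]
    exact ely_B (by norm_num) k_nn.1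

/-! ## Sylow subgroups -/

theorem exists_sylow : ∃ S0 : Sylow 2 ↥M24, (S0 : Subgroup ↥M24) = Pg := by
  have : Fact (Nat.Prime 2) := ⟨by norm_num⟩
  have hp : IsPGroup 2 Pg := IsPGroup.of_card (n := 10) (by rw [card_Pg]; norm_num)
  obtain ⟨S0, hS0⟩ := hp.exists_le_sylow
  refine ⟨S0, ?_⟩
  obtain ⟨m, hm⟩ := IsPGroup.iff_card.1 S0.isPGroup'
  have hdvd : Nat.card (S0 : Subgroup ↥M24) ∣ 244823040 := by
    rw [← Cfsg.Agent.Helper3.M24_card]
    exact Subgroup.card_subgroup_dvd_card _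
  have hm10 : m ≤ 10 := by
    by_contra hlt
    have h11 : 2 ^ 11 ∣ 2 ^ m := pow_dvd_pow 2 (by omega)
    rw [← hm] at h11
    have := dvd_trans h11 hdvd
    norm_num at this
  symm
  apply Subgroup.eq_of_le_of_card_ge hS0
  rw [hm, card_Pg]
  calc 2 ^ m ≤ 2 ^ 10 := Nat.pow_le_pow_right (by norm_num) hm10
    _ = 1024 := by norm_num

/-- every Sylow 2-subgroup of the group is its own normalizer -/
theorem main (S : Sylow 2 ↥M24) :
    Subgroup.normalizer ((S : Subgroup ↥M24) : Set ↥M24) = (S : Subgroup ↥M24) := by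
  have : Fact (Nat.Prime 2) := ⟨by norm_num⟩
  obtain ⟨S0, hS0⟩ := exists_sylow
  obtain ⟨k, hk⟩ := MulAction.exists_smul_eq ↥M24 S0 S
  have e : (S : Subgroup ↥M24) = Pg.map (MulAut.conj k).toMonoidHom := by
    rw [← hk, ← hS0]
    rfl
  have hN : Subgroup.normalizer ((Pg.map (MulAut.conj k).toMonoidHom : Subgroup ↥M24) : Set ↥M24)
      = Ng.map (MulAut.conj k).toMonoidHom :=
    (Subgroup.map_equiv_normalizer_eq Pg (MulAut.conj k)).symm
  rw [e, hN, Ng_eq]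

end Cfsg.Agent.Helper28.Syl2
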