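import Cfsg.Agent.Helper28.SzbA

/-! # The Suzuki group presentation, cosets of the subgroup generated by a, b, c, d, f, g: the coset enumeration, part 0 (helper28; generated) -/

set_option autoImplicit false

noncomputable section

namespace Cfsg.Agent.Helper28.SzbA

open Cfsg.Agent.Helper28.CosetTable

def N1 : Q := sm ge N0
def N2 : Q := sm gd N1
def N3 : Q := sm gc N2
def N4 : Q := sm gb N3
def N5 : Q := sm gd N3
def N6 : Q := sm ga N4
def N7 : Q := sm gd N4
def N8 : Q := sm gf N4
def N9 : Q := sm gg N4
def N10 : Q := sm ge N5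
def N11 : Q := sm gb N6
def N12 : Q := sm gd N6
def N13 : Q := sm gf N6
def N14 : Q := sm gg N6
def N15 : Q := sm gc N7
def N16 : Q := sm ge N7
def N17 : Q := sm gf N7
def N18 : Q := sm gg N7
def N19 : Q := sm gg N8
def N20 : Q := sm gf N9
def N21 : Q := sm ga N11
def N22 : Q := sm gc N11
def N23 : Q := sm gd N11
def N24 : Q := sm gf N11
def N25 : Q := sm gg N11
def N26 : Q := sm gc N12
def N27 : Q := sm ge N12
def N28 : Q := sm gf N12
def N29 : Q := sm gg N12
def N30 : Q := sm gb N13
def N31 : Q := sm gb N14
def N32 : Q := sm gd N15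
def N33 : Q := sm ge N15
def N34 : Q := sm gf N15
def N35 : Q := sm gg N15
def N36 : Q := sm gf N16
def N37 : Q := sm gg N16
def N38 : Q := sm gg N17
def N39 : Q := sm gf N18
def N40 : Q := sm gb N19
def N41 : Q := sm gb N20
def N42 : Q := sm gc N21
def N43 : Q := sm gd N21
def N44 : Q := sm gf N21
def N45 : Q := sm gg N21
def N46 : Q := sm gd N22
def N47 : Q := sm gf N22
def N48 : Q := sm gg N22
def N49 : Q := sm gc N23
def N50 : Q := sm ge N23
def N51 : Q := sm gf N23
def N52 : Q := sm gg N23
def N53 : Q := sm gb N24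
def N54 : Q := sm gg N24
def N55 : Q := sm gb N25
def N56 : Q := sm gf N25
def N57 : Q := sm gb N26
def N58 : Q := sm gd N26
def N59 : Q := sm ge N26
def N60 : Q := sm gf N26
def N61 : Q := sm gg N26
def N62 : Q := sm gf N27
def N63 : Q := sm gg N27
def N64 : Q := sm gb N28
def N65 : Q := sm gb N29
def N66 : Q := sm ga N30
def N67 : Q := sm gc N30
def N68 : Q := sm gg N30
def N69 : Q := sm ga N31
def N70 : Q := sm gc N31
def N71 : Q := sm gf N31
def N72 : Q := sm ge N32
def N73 : Q := sm gf N32
def N74 : Q := sm gg N32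
def N75 : Q := sm gd N33
def N76 : Q := sm gf N33
def N77 : Q := sm gg N33
def N78 : Q := sm gb N34
def N79 : Q := sm gg N34
def N80 : Q := sm gb N35
def N81 : Q := sm gf N35
def N82 : Q := sm gg N36
def N83 : Q := sm gf N37
def N84 : Q := sm gb N38
def N85 : Q := sm gb N39
def N86 : Q := sm ga N40
def N87 : Q := sm gc N40
def N88 : Q := sm gf N40
def N89 : Q := sm ga N41
def N90 : Q := sm gc N41
def N91 : Q := sm gg N41
def N92 : Q := sm gb N42
def N93 : Q := sm gd N42
def N94 : Q := sm gf N42
def N95 : Q := sm gg N42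
def N96 : Q := sm gc N43
def N97 : Q := sm ge N43
def N98 : Q := sm gf N43
def N99 : Q := sm gg N43
def N100 : Q := sm gb N44
def N101 : Q := sm gb N45
def N102 : Q := sm gc N46
def N103 : Q := sm ge N46
def N104 : Q := sm gf N46
def N105 : Q := sm gg N46
def N106 : Q := sm gb N47
def N107 : Q := sm gg N47
def N108 : Q := sm gb N48
def N109 : Q := sm gf N48
def N110 : Q := sm gb N49
def N111 : Q := sm gd N49
def N112 : Q := sm ge N49
def N113 : Q := sm gf N49
def N114 : Q := sm gg N49
def N115 : Q := sm gf N50
def N116 : Q := sm gg N50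
def N117 : Q := sm gb N51
def N118 : Q := sm gg N51
def N119 : Q := sm gb N52
def N120 : Q := sm gf N52
def N121 : Q := sm gg N53
def N122 : Q := sm gb N54
def N123 : Q := sm ga N55
def N124 : Q := sm gc N55
def N125 : Q := sm gf N55
def N126 : Q := sm gb N56
def N127 : Q := sm ga N57
def N128 : Q := sm gd N57
def N129 : Q := sm ge N57
def N130 : Q := sm gf N57
def N131 : Q := sm gg N57
def N132 : Q := sm ge N58
def N133 : Q := sm gf N58
def N134 : Q := sm gg N58
def N135 : Q := sm gd N59
def N136 : Q := sm gf N59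
def N137 : Q := sm gg N59
def N138 : Q := sm gb N60
def N139 : Q := sm gb N61
def N140 : Q := sm gb N62
def N141 : Q := sm gb N63
def N142 : Q := sm ga N64
def N143 : Q := sm gc N64
def N144 : Q := sm gg N64
def N145 : Q := sm ga N65
def N146 : Q := sm gc N65
def N147 : Q := sm gf N65
def N148 : Q := sm gb N66
def N149 : Q := sm gd N67
def N150 : Q := sm gg N67
def N151 : Q := sm gb N69
def N152 : Q := sm gc N69
def N153 : Q := sm gd N70
def N154 : Q := sm gf N70
def N155 : Q := sm gg N71
def N156 : Q := sm gd N72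
def N157 : Q := sm gf N72
def N158 : Q := sm gg N72
def N159 : Q := sm gb N73
def N160 : Q := sm gg N73
def N161 : Q := sm gb N74
def N162 : Q := sm gf N74
def N163 : Q := sm gc N75
def N164 : Q := sm gf N75
def N165 : Q := sm gg N75
def N166 : Q := sm gb N76
def N167 : Q := sm gg N76
def N168 : Q := sm gb N77
def N169 : Q := sm gf N77
def N170 : Q := sm ga N78
def N171 : Q := sm gg N78
def N172 : Q := sm gb N79
def N173 : Q := sm ga N80
def N174 : Q := sm gf N80
def N175 : Q := sm gb N81
def N176 : Q := sm gb N82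
def N177 : Q := sm gb N83
def N178 : Q := sm ga N84
def N179 : Q := sm gc N84
def N180 : Q := sm gf N84
def N181 : Q := sm ga N85
def N182 : Q := sm gc N85
def N183 : Q := sm gg N85
def N184 : Q := sm gb N86
def N185 : Q := sm gc N86
def N186 : Q := sm gf N86
def N187 : Q := sm gd N87
def N188 : Q := sm gf N87
def N189 : Q := sm gc N89
def N190 : Q := sm gg N89
def N191 : Q := sm gd N90
def N192 : Q := sm gg N90
def N193 : Q := sm ga N92
def N194 : Q := sm gd N92
def N195 : Q := sm gf N92
def N196 : Q := sm gg N92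
def N197 : Q := sm gc N93
def N198 : Q := sm ge N93
def N199 : Q := sm gf N93
def N200 : Q := sm gg N93
def N201 : Q := sm gb N94
def N202 : Q := sm gb N96
def N203 : Q := sm gd N96
def N204 : Q := sm ge N96
def N205 : Q := sm gf N96
def N206 : Q := sm gg N96
def N207 : Q := sm gf N97
def N208 : Q := sm gg N97
def N209 : Q := sm gb N98
def N210 : Q := sm gb N99
def N211 : Q := sm gc N100
def N212 : Q := sm gb N102
def N213 : Q := sm gd N102
def N214 : Q := sm ge N102
def N215 : Q := sm gf N102
def N216 : Q := sm gg N102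
def N217 : Q := sm gf N103
def N218 : Q := sm gg N103
def N219 : Q := sm gb N104
def N220 : Q := sm gg N104
def N221 : Q := sm gb N105
def N222 : Q := sm gf N105
def N223 : Q := sm gb N107
def N224 : Q := sm gc N108
def N225 : Q := sm gf N108
def N226 : Q := sm gb N109
def N227 : Q := sm ga N110
def N228 : Q := sm gd N110
def N229 : Q := sm ge N110
def N230 : Q := sm gf N110
def N231 : Q := sm gg N110
def N232 : Q := sm gc N111
def N233 : Q := sm ge N111
def N234 : Q := sm gf N111
def N235 : Q := sm gg N111
def N236 : Q := sm gd N112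
def N237 : Q := sm gf N112
def N238 : Q := sm gg N112
def N239 : Q := sm gb N113
def N240 : Q := sm gg N113
def N241 : Q := sm gb N114
def N242 : Q := sm gf N114
def N243 : Q := sm gb N115
def N244 : Q := sm gg N115
def N245 : Q := sm gb N116
def N246 : Q := sm gf N116
def N247 : Q := sm gc N117
def N248 : Q := sm gg N117
def N249 : Q := sm gb N118
def N250 : Q := sm ga N119
def N251 : Q := sm gc N119
def N252 : Q := sm gf N119
def N253 : Q := sm gb N120
def N254 : Q := sm gc N122
def N255 : Q := sm gc N123
def N256 : Q := sm gd N124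
def N257 : Q := sm gb N127
def N258 : Q := sm gd N127
def N259 : Q := sm ge N127
def N260 : Q := sm gf N127
def N261 : Q := sm gg N127
def N262 : Q := sm ge N128
def N263 : Q := sm gf N128
def N264 : Q := sm gg N128
def N265 : Q := sm gd N129
def N266 : Q := sm gf N129
def N267 : Q := sm gg N129
def N268 : Q := sm gb N130
def N269 : Q := sm gg N130
def N270 : Q := sm gb N131
def N271 : Q := sm gf N131
def N272 : Q := sm gd N132
def N273 : Q := sm gf N132
def N274 : Q := sm gg N132
def N275 : Q := sm gb N133
def N276 : Q := sm gb N134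
def N277 : Q := sm gc N135
def N278 : Q := sm gf N135
def N279 : Q := sm gg N135
def N280 : Q := sm gb N136
def N281 : Q := sm gb N137
def N282 : Q := sm ga N138
def N283 : Q := sm gc N138
def N284 : Q := sm gg N138
def N285 : Q := sm ga N139
def N286 : Q := sm gc N139
def N287 : Q := sm gf N139
def N288 : Q := sm ga N140
def N289 : Q := sm gc N140
def N290 : Q := sm gg N140
def N291 : Q := sm ga N141
def N292 : Q := sm gc N141
def N293 : Q := sm gf N141
def N294 : Q := sm gb N142
def N295 : Q := sm gc N142
def N296 : Q := sm gd N143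
def N297 : Q := sm gg N143
def N298 : Q := sm gf N144
def N299 : Q := sm gb N145
def N300 : Q := sm gc N145
def N301 : Q := sm gd N146
def N302 : Q := sm gf N146
def N303 : Q := sm gg N147
def N304 : Q := sm gc N149
def N305 : Q := sm ge N149
def N306 : Q := sm gd N152
def N307 : Q := sm gc N153
def N308 : Q := sm ge N153
def N309 : Q := sm gf N153
def N310 : Q := sm gb N154
def N311 : Q := sm gg N154
def N312 : Q := sm gc N156
def N313 : Q := sm gf N156
def N314 : Q := sm gg N156
def N315 : Q := sm gb N157
def N316 : Q := sm gg N157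
def N317 : Q := sm gb N158
def N318 : Q := sm gf N158
def N319 : Q := sm ga N159
def N320 : Q := sm gc N159
def N321 : Q := sm gg N159
def N322 : Q := sm gb N160
def N323 : Q := sm ga N161
def N324 : Q := sm gc N161
def N325 : Q := sm gf N161
def N326 : Q := sm gb N162
def N327 : Q := sm gb N163
def N328 : Q := sm gf N163
def N329 : Q := sm gg N163
def N330 : Q := sm gb N164
def N331 : Q := sm gg N164
def N332 : Q := sm gb N165
def N333 : Q := sm gf N165
def N334 : Q := sm ga N166
def N335 : Q := sm gg N166
def N336 : Q := sm gb N167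
def N337 : Q := sm ga N168
def N338 : Q := sm gf N168
def N339 : Q := sm gb N169
def N340 : Q := sm gb N170
def N341 : Q := sm gg N170
def N342 : Q := sm gb N171
def N343 : Q := sm ga N172
def N344 : Q := sm gc N172
def N345 : Q := sm gf N172
def N346 : Q := sm gb N173
def N347 : Q := sm gf N173
def N348 : Q := sm gb N174
def N349 : Q := sm ga N175
def N350 : Q := sm gc N175
def N351 : Q := sm gg N175
def N352 : Q := sm ga N176
def N353 : Q := sm gc N176
def N354 : Q := sm gf N176
def N355 : Q := sm ga N177
def N356 : Q := sm gc N177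
def N357 : Q := sm gg N177
def N358 : Q := sm gc N178
def N359 : Q := sm gf N178
def N360 : Q := sm gd N179
def N361 : Q := sm gf N179
def N362 : Q := sm gc N181
def N363 : Q := sm gg N181
def N364 : Q := sm gd N182
def N365 : Q := sm gg N182
def N366 : Q := sm gd N185
def N367 : Q := sm gf N185
def N368 : Q := sm gc N187
def N369 : Q := sm ge N187
def N370 : Q := sm gf N187
def N371 : Q := sm gb N188
def N372 : Q := sm gb N189
def N373 : Q := sm gd N189
def N374 : Q := sm gg N189
def N375 : Q := sm gc N191
def N376 : Q := sm ge N191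
def N377 : Q := sm gg N191
def N378 : Q := sm gb N193
def N379 : Q := sm gd N193
def N380 : Q := sm gf N193
def N381 : Q := sm gg N193
def N382 : Q := sm gc N194
def N383 : Q := sm ge N194
def N384 : Q := sm gf N194
def N385 : Q := sm gg N194
def N386 : Q := sm gb N195
def N387 : Q := sm gg N195
def N388 : Q := sm gf N196
def N389 : Q := sm gb N197
def N390 : Q := sm ge N197
def N391 : Q := sm gf N197
def N392 : Q := sm gg N197
def N393 : Q := sm gf N198
def N394 : Q := sm gg N198
def N395 : Q := sm gb N199
def N396 : Q := sm ga N201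
def N397 : Q := sm gc N201
def N398 : Q := sm gg N201
def N399 : Q := sm ga N202
def N400 : Q := sm gd N202
def N401 : Q := sm ge N202
def N402 : Q := sm gf N202
def N403 : Q := sm gg N202
def N404 : Q := sm ge N203
def N405 : Q := sm gf N203
def N406 : Q := sm gg N203
def N407 : Q := sm gd N204
def N408 : Q := sm gf N204
def N409 : Q := sm gg N204
def N410 : Q := sm gb N205
def N411 : Q := sm gb N206
def N412 : Q := sm gb N207
def N413 : Q := sm gb N208
def N414 : Q := sm gc N209
def N415 : Q := sm gc N210
def N416 : Q := sm gd N211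
def N417 : Q := sm ga N212
def N418 : Q := sm gd N212
def N419 : Q := sm ge N212
def N420 : Q := sm gf N212
def N421 : Q := sm gg N212
def N422 : Q := sm ge N213
def N423 : Q := sm gf N213
def N424 : Q := sm gg N213
def N425 : Q := sm gd N214
def N426 : Q := sm gf N214
def N427 : Q := sm gg N214
def N428 : Q := sm gb N215
def N429 : Q := sm gg N215
def N430 : Q := sm gb N216
def N431 : Q := sm gf N216
def N432 : Q := sm gb N217
def N433 : Q := sm gg N217
def N434 : Q := sm gb N218
def N435 : Q := sm gf N218
def N436 : Q := sm gc N219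
def N437 : Q := sm gb N220
def N438 : Q := sm gc N221
def N439 : Q := sm gf N221
def N440 : Q := sm gb N222
def N441 : Q := sm ga N223
def N442 : Q := sm gb N227
def N443 : Q := sm gd N227
def N444 : Q := sm ge N227
def N445 : Q := sm gf N227
def N446 : Q := sm gg N227
def N447 : Q := sm ge N228
def N448 : Q := sm gf N228
def N449 : Q := sm gg N228
def N450 : Q := sm gd N229
def N451 : Q := sm gf N229
def N452 : Q := sm gg N229
def N453 : Q := sm gb N230
def N454 : Q := sm gg N230
def N455 : Q := sm gb N231
def N456 : Q := sm gf N231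
def N457 : Q := sm gb N232
def N458 : Q := sm ge N232
def N459 : Q := sm gf N232
def N460 : Q := sm gg N232
def N461 : Q := sm gd N233
def N462 : Q := sm gf N233
def N463 : Q := sm gg N233
def N464 : Q := sm gb N234
def N465 : Q := sm gg N234
def N466 : Q := sm gb N235
def N467 : Q := sm gf N235
def N468 : Q := sm gc N236
def N469 : Q := sm gf N236
def N470 : Q := sm gg N236
def N471 : Q := sm gb N237
def N472 : Q := sm gg N237
def N473 : Q := sm gb N238
def N474 : Q := sm gf N238
def N475 : Q := sm ga N239
def N476 : Q := sm gc N239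
def N477 : Q := sm gg N239
def N478 : Q := sm gb N240
def N479 : Q := sm ga N241
def N480 : Q := sm gc N241
def N481 : Q := sm gf N241
def N482 : Q := sm gb N242
def N483 : Q := sm gc N243
def N484 : Q := sm gg N243
def N485 : Q := sm gb N244
def N486 : Q := sm ga N245
def N487 : Q := sm gc N245
def N488 : Q := sm gf N245
def N489 : Q := sm gb N246
def N490 : Q := sm gd N247
def N491 : Q := sm gg N247
def N492 : Q := sm gc N249
def N493 : Q := sm gc N250
def N494 : Q := sm gd N251
def N495 : Q := sm gf N251
def N496 : Q := sm gc N253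
def N497 : Q := sm gd N254
def N498 : Q := sm gd N255
def N499 : Q := sm gc N256
def N500 : Q := sm ge N256
def N501 : Q := sm gc N257
def N502 : Q := sm gd N257
def N503 : Q := sm ge N257
def N504 : Q := sm gf N257
def N505 : Q := sm gg N257
def N506 : Q := sm ge N258
def N507 : Q := sm gf N258
def N508 : Q := sm gg N258
def N509 : Q := sm gd N259
def N510 : Q := sm gf N259
def N511 : Q := sm gg N259
def N512 : Q := sm gb N260
def N513 : Q := sm gb N261
def N514 : Q := sm gd N262
def N515 : Q := sm gf N262
def N516 : Q := sm gg N262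
def N517 : Q := sm gb N263
def N518 : Q := sm gg N263
def N519 : Q := sm gb N264
def N520 : Q := sm gf N264
def N521 : Q := sm gc N265
def N522 : Q := sm gf N265
def N523 : Q := sm gg N265
def N524 : Q := sm gb N266
def N525 : Q := sm gg N266
def N526 : Q := sm gb N267
def N527 : Q := sm gf N267
def N528 : Q := sm ga N268
def N529 : Q := sm gc N268
def N530 : Q := sm gg N268
def N531 : Q := sm gb N269
def N532 : Q := sm ga N270
def N533 : Q := sm gc N270
def N534 : Q := sm gf N270
def N535 : Q := sm gb N271
def N536 : Q := sm gc N272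
def N537 : Q := sm gf N272
def N538 : Q := sm gg N272
def N539 : Q := sm gb N273
def N540 : Q := sm gb N274
def N541 : Q := sm ga N275
def N542 : Q := sm gc N275
def N543 : Q := sm gg N275
def N544 : Q := sm ga N276
def N545 : Q := sm gc N276
def N546 : Q := sm gf N276
def N547 : Q := sm gb N277
def N548 : Q := sm gf N277
def N549 : Q := sm gg N277
def N550 : Q := sm gb N278
def N551 : Q := sm gb N279
def N552 : Q := sm ga N280
def N553 : Q := sm gc N280
def N554 : Q := sm gg N280
def N555 : Q := sm ga N281
def N556 : Q := sm gc N281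
def N557 : Q := sm gf N281
def N558 : Q := sm gb N282
def N559 : Q := sm gc N282
def N560 : Q := sm gg N282
def N561 : Q := sm gd N283
def N562 : Q := sm gg N283
def N563 : Q := sm gf N284
def N564 : Q := sm gb N285
def N565 : Q := sm gc N285
def N566 : Q := sm gf N285
def N567 : Q := sm gd N286
def N568 : Q := sm gf N286
def N569 : Q := sm gg N287
def N570 : Q := sm gb N288
def N571 : Q := sm gc N288
def N572 : Q := sm gd N289
def N573 : Q := sm gg N289
def N574 : Q := sm gf N290
def N575 : Q := sm gb N291
def N576 : Q := sm gc N291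
def N577 : Q := sm gd N292
def N578 : Q := sm gf N292
def N579 : Q := sm gg N293
def N580 : Q := sm gc N294
def N581 : Q := sm gb N295
def N582 : Q := sm gd N295
def N583 : Q := sm ge N296
def N584 : Q := sm gg N296
def N585 : Q := sm gb N297
def N586 : Q := sm gf N297
def N587 : Q := sm gc N299
def N588 : Q := sm gb N300
def N589 : Q := sm gd N300
def N590 : Q := sm gc N301
def N591 : Q := sm ge N301
def N592 : Q := sm gf N301
def N593 : Q := sm gb N302
def N594 : Q := sm gg N302
def N595 : Q := sm gb N304
def N596 : Q := sm gd N304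
def N597 : Q := sm ge N304
def N598 : Q := sm gc N306
def N599 : Q := sm ge N306
def N600 : Q := sm gb N307
def N601 : Q := sm gd N307
def N602 : Q := sm ge N307
def N603 : Q := sm gf N307
def N604 : Q := sm gf N308
def N605 : Q := sm gb N309
def N607 : Q := sm ga N310
def N608 : Q := sm gg N310
def N609 : Q := sm gb N311
def N610 : Q := sm gb N312
def N611 : Q := sm gd N312
def N612 : Q := sm gf N312
def N613 : Q := sm gg N312
def N614 : Q := sm gb N313
def N615 : Q := sm gg N313
def N616 : Q := sm gb N314
def N617 : Q := sm gf N314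
def N618 : Q := sm ga N315
def N619 : Q := sm gc N315
def N620 : Q := sm gg N315
def N621 : Q := sm gb N316
def N622 : Q := sm ga N317
def N623 : Q := sm gc N317
def N624 : Q := sm gf N317
def N625 : Q := sm gb N318
def N626 : Q := sm gb N319
def N627 : Q := sm gc N319
def N628 : Q := sm gg N319
def N629 : Q := sm gd N320
def N630 : Q := sm gg N320
def N631 : Q := sm gb N321
def N632 : Q := sm ga N322
def N633 : Q := sm gc N322
def N634 : Q := sm gf N322
def N635 : Q := sm gb N323
def N636 : Q := sm gc N323
def N637 : Q := sm gf N323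
def N638 : Q := sm gd N324
def N639 : Q := sm gf N324
def N640 : Q := sm gb N325
def N641 : Q := sm ga N326
def N642 : Q := sm gc N326
def N643 : Q := sm gg N326
def N644 : Q := sm ga N327
def N645 : Q := sm gf N327
def N646 : Q := sm gg N327
def N647 : Q := sm gb N328
def N648 : Q := sm gg N328
def N649 : Q := sm gb N329
def N650 : Q := sm gf N329
def N651 : Q := sm ga N330
def N652 : Q := sm gc N330
def N653 : Q := sm gg N330
def N654 : Q := sm gb N331
def N655 : Q := sm ga N332
def N656 : Q := sm gc N332
def N657 : Q := sm gf N332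
def N658 : Q := sm gb N333
def N659 : Q := sm gb N334
def N660 : Q := sm gg N334
def N661 : Q := sm gb N335
def N662 : Q := sm ga N336
def N663 : Q := sm gc N336
def N664 : Q := sm gf N336
def N665 : Q := sm gb N337
def N666 : Q := sm gf N337
def N667 : Q := sm gb N338
def N668 : Q := sm ga N339
def N669 : Q := sm gc N339
def N670 : Q := sm gg N339
def N671 : Q := sm ga N340
def N672 : Q := sm gc N340
def N673 : Q := sm gf N340
def N674 : Q := sm gg N340
def N675 : Q := sm gb N341
def N676 : Q := sm ga N342
def N677 : Q := sm gc N342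
def N678 : Q := sm gf N342
def N679 : Q := sm gb N343
def N680 : Q := sm gc N343
def N681 : Q := sm gf N343
def N682 : Q := sm gd N344
def N683 : Q := sm gf N344
def N684 : Q := sm gg N345
def N685 : Q := sm ga N346
def N686 : Q := sm gc N346
def N687 : Q := sm gf N346
def N688 : Q := sm gg N346
def N689 : Q := sm gb N347
def N690 : Q := sm ga N348
def N691 : Q := sm gc N348
def N692 : Q := sm gg N348
def N693 : Q := sm gb N349
def N694 : Q := sm gc N349
def N695 : Q := sm gg N349
def N696 : Q := sm gd N350
def N697 : Q := sm gg N350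
def N698 : Q := sm gf N351
def N699 : Q := sm gc N352
def N700 : Q := sm gf N352
def N701 : Q := sm gd N353
def N702 : Q := sm gf N353
def N703 : Q := sm gc N355
def N704 : Q := sm gg N355
def N705 : Q := sm gd N356
def N706 : Q := sm gg N356
def N707 : Q := sm gb N358
def N708 : Q := sm gd N358
def N709 : Q := sm gf N358
def N710 : Q := sm gc N360
def N711 : Q := sm ge N360
def N712 : Q := sm gf N360
def N713 : Q := sm gb N361
def N714 : Q := sm gb N362
def N715 : Q := sm gd N362
def N716 : Q := sm gg N362
def N717 : Q := sm gc N364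
def N718 : Q := sm ge N364
def N719 : Q := sm gg N364
def N720 : Q := sm gb N365
def N721 : Q := sm gc N366
def N722 : Q := sm ge N366
def N723 : Q := sm gf N366
def N724 : Q := sm gb N367
def N725 : Q := sm gb N368
def N726 : Q := sm gd N368
def N727 : Q := sm ge N368
def N728 : Q := sm gf N368
def N729 : Q := sm gf N369
def N730 : Q := sm gb N370
def N731 : Q := sm ga N371
def N732 : Q := sm gg N371
def N733 : Q := sm ga N372
def N734 : Q := sm gd N372
def N735 : Q := sm gf N372
def N736 : Q := sm gg N372
def N737 : Q := sm gc N373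
def N738 : Q := sm ge N373
def N739 : Q := sm gg N373
def N740 : Q := sm gb N374
def N741 : Q := sm gb N375
def N742 : Q := sm gd N375
def N743 : Q := sm ge N375
def N744 : Q := sm gg N375
def N745 : Q := sm gg N376
def N747 : Q := sm gd N378
def N748 : Q := sm gc N379
def N749 : Q := sm ge N379
def N750 : Q := sm gf N379
def N751 : Q := sm gg N379
def N752 : Q := sm gb N382
def N753 : Q := sm gd N382
def N754 : Q := sm ge N382
def N755 : Q := sm gf N382
def N756 : Q := sm gg N382
def N757 : Q := sm gf N383
def N758 : Q := sm gg N383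
def N759 : Q := sm gb N384
def N760 : Q := sm gg N384
def N762 : Q := sm gb N388
def N763 : Q := sm ga N389
def N764 : Q := sm ge N389
def N765 : Q := sm gf N389
def N766 : Q := sm gg N389
def N767 : Q := sm gd N390
def N768 : Q := sm gf N390
def N769 : Q := sm gg N390
def N770 : Q := sm gb N391
def N771 : Q := sm gb N392
def N772 : Q := sm gb N393
def N773 : Q := sm ga N395
def N774 : Q := sm gc N395
def N775 : Q := sm gg N395
def N776 : Q := sm gg N396
def N777 : Q := sm gd N397
def N778 : Q := sm gb N399
def N779 : Q := sm gd N399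
def N780 : Q := sm ge N399
def N781 : Q := sm gf N399
def N782 : Q := sm gg N399
def N783 : Q := sm gc N400
def N784 : Q := sm ge N400
def N785 : Q := sm gf N400
def N786 : Q := sm gg N400
def N787 : Q := sm gd N401
def N788 : Q := sm gf N401
def N789 : Q := sm gg N401
def N790 : Q := sm gb N402
def N791 : Q := sm gg N402
def N792 : Q := sm gb N403
def N793 : Q := sm gf N403
def N794 : Q := sm gd N404
def N795 : Q := sm gf N404
def N796 : Q := sm gg N404
def N797 : Q := sm gb N405
def N798 : Q := sm gb N406
def N799 : Q := sm gc N407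
def N800 : Q := sm gf N407
def N801 : Q := sm gg N407
def N802 : Q := sm gb N408
def N803 : Q := sm gb N409
def N804 : Q := sm ga N410
def N805 : Q := sm gc N410
def N806 : Q := sm gg N410
def N807 : Q := sm ga N411
def N808 : Q := sm gc N411
def N809 : Q := sm gf N411
def N810 : Q := sm gc N412
def N811 : Q := sm gc N413
def N812 : Q := sm gd N414
def N814 : Q := sm gc N416
def N815 : Q := sm ge N416
def N816 : Q := sm gb N417
def N817 : Q := sm gd N417
def N818 : Q := sm ge N417
def N821 : Q := sm gc N418
def N822 : Q := sm ge N418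
def N823 : Q := sm gf N418
def N824 : Q := sm gg N418
def N825 : Q := sm gd N419
def N826 : Q := sm gf N419
def N827 : Q := sm gg N419
def N828 : Q := sm gb N420
def N830 : Q := sm gb N421
def N832 : Q := sm gd N422
def N833 : Q := sm gf N422
def N834 : Q := sm gg N422
def N835 : Q := sm gb N423
def N836 : Q := sm gg N423
def N837 : Q := sm gb N424
def N838 : Q := sm gf N424
def N839 : Q := sm gc N425
def N840 : Q := sm gf N425
def N841 : Q := sm gg N425
def N842 : Q := sm gb N426
def N843 : Q := sm gg N426
def N844 : Q := sm gb N427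
def N845 : Q := sm gf N427
def N846 : Q := sm ga N428
def N847 : Q := sm gc N428
def N848 : Q := sm gg N428
def N849 : Q := sm gb N429
def N850 : Q := sm ga N430
def N851 : Q := sm gc N430
def N852 : Q := sm gf N430
def N853 : Q := sm gb N431
def N854 : Q := sm gc N432
def N855 : Q := sm gb N433
def N856 : Q := sm gc N434
def N857 : Q := sm gf N434
def N858 : Q := sm gb N435
def N859 : Q := sm gd N436
def N860 : Q := sm ga N437
def N861 : Q := sm gc N437
def N863 : Q := sm gf N438
def N864 : Q := sm gc N440
def N865 : Q := sm gb N441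
def N866 : Q := sm ga N442
def N867 : Q := sm gc N442
def N868 : Q := sm gd N442
def N869 : Q := sm ge N442
def N870 : Q := sm gf N442
def N871 : Q := sm gg N442
def N872 : Q := sm ge N443
def N873 : Q := sm gf N443
def N874 : Q := sm gg N443
def N875 : Q := sm gd N444
def N876 : Q := sm gf N444
def N877 : Q := sm gg N444
def N878 : Q := sm gb N445
def N879 : Q := sm gb N446
def N880 : Q := sm gd N447
def N881 : Q := sm gf N447
def N882 : Q := sm gg N447
def N883 : Q := sm gb N448
def N884 : Q := sm gg N448
def N885 : Q := sm gb N449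
def N886 : Q := sm gf N449
def N887 : Q := sm gc N450
def N888 : Q := sm gf N450
def N889 : Q := sm gg N450
def N890 : Q := sm gb N451
def N891 : Q := sm gg N451
def N892 : Q := sm gb N452
def N893 : Q := sm gf N452
def N894 : Q := sm ga N453
def N895 : Q := sm gc N453
def N896 : Q := sm gg N453
def N897 : Q := sm gb N454
def N898 : Q := sm ga N455
def N899 : Q := sm gc N455
def N900 : Q := sm gf N455
def N901 : Q := sm gb N456
def N902 : Q := sm ga N457
def N903 : Q := sm ge N457
def N904 : Q := sm gf N457
def N905 : Q := sm gg N457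
def N906 : Q := sm gd N458
def N907 : Q := sm gf N458
def N908 : Q := sm gg N458
def N909 : Q := sm gb N459
def N910 : Q := sm gb N460
def N911 : Q := sm gc N461
def N912 : Q := sm gf N461
def N913 : Q := sm gg N461
def N914 : Q := sm gb N462
def N915 : Q := sm gg N462
def N916 : Q := sm gb N463
def N917 : Q := sm gf N463
def N918 : Q := sm ga N464
def N919 : Q := sm gc N464
def N920 : Q := sm gg N464
def N921 : Q := sm gb N465
def N922 : Q := sm ga N466
def N923 : Q := sm gc N466
def N924 : Q := sm gf N466
def N925 : Q := sm gb N467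
def N926 : Q := sm gb N468
def N927 : Q := sm gf N468
def N928 : Q := sm gg N468
def N929 : Q := sm gb N469
def N930 : Q := sm gg N469
def N931 : Q := sm gb N470
def N932 : Q := sm gf N470
def N933 : Q := sm ga N471
def N934 : Q := sm gc N471
def N935 : Q := sm gg N471
def N936 : Q := sm gb N472
def N937 : Q := sm ga N473
def N938 : Q := sm gc N473
def N939 : Q := sm gf N473
def N940 : Q := sm gb N474
def N941 : Q := sm gb N475
def N942 : Q := sm gc N475
def N943 : Q := sm gg N475
def N944 : Q := sm gd N476
def N945 : Q := sm gg N476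
def N946 : Q := sm gb N477
def N947 : Q := sm gf N477
def N948 : Q := sm ga N478
def N949 : Q := sm gc N478
def N950 : Q := sm gf N478
def N951 : Q := sm gb N479
def N952 : Q := sm gc N479
def N953 : Q := sm gf N479
def N954 : Q := sm gd N480
def N955 : Q := sm gf N480
def N956 : Q := sm gb N481
def N957 : Q := sm gg N481
def N958 : Q := sm ga N482
def N959 : Q := sm gc N482
def N960 : Q := sm gg N482
def N961 : Q := sm gd N483
def N962 : Q := sm gg N483
def N963 : Q := sm gc N485
def N964 : Q := sm gc N486
def N965 : Q := sm gd N487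
def N966 : Q := sm gf N487
def N967 : Q := sm gc N489
def N968 : Q := sm ge N490
def N969 : Q := sm gg N490
def N970 : Q := sm gb N491
def N971 : Q := sm gd N492
def N972 : Q := sm gb N493
def N973 : Q := sm gd N493
def N974 : Q := sm gc N494
def N975 : Q := sm ge N494
def N976 : Q := sm gf N494
def N977 : Q := sm gb N495
def N978 : Q := sm gd N496
def N979 : Q := sm gc N497
def N980 : Q := sm ge N497
def N981 : Q := sm gc N498
def N982 : Q := sm ge N498
def N983 : Q := sm gb N499
def N984 : Q := sm gd N499
def N985 : Q := sm ge N499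
def N986 : Q := sm gd N501
def N987 : Q := sm ge N501
def N988 : Q := sm gf N501
def N989 : Q := sm gg N501
def N990 : Q := sm gc N502
def N991 : Q := sm ge N502
def N992 : Q := sm gf N502
def N993 : Q := sm gg N502
def N994 : Q := sm gd N503
def N995 : Q := sm gf N503
def N996 : Q := sm gg N503
def N997 : Q := sm gb N504
def N998 : Q := sm gg N504
def N999 : Q := sm gb N505
def N1000 : Q := sm gd N506
def N1001 : Q := sm gf N506
def N1002 : Q := sm gg N506
def N1003 : Q := sm gb N507
def N1004 : Q := sm gb N508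
def N1005 : Q := sm gc N509
def N1006 : Q := sm gf N509
def N1007 : Q := sm gg N509
def N1008 : Q := sm gb N510
def N1009 : Q := sm gb N511
def N1010 : Q := sm ga N512
def N1011 : Q := sm gc N512
def N1012 : Q := sm gg N512
def N1013 : Q := sm ga N513
def N1014 : Q := sm gc N513
def N1015 : Q := sm gf N513
def N1016 : Q := sm gc N514
def N1017 : Q := sm gf N514
def N1018 : Q := sm gg N514
def N1019 : Q := sm gb N515
def N1020 : Q := sm gg N515
def N1021 : Q := sm gb N516
def N1022 : Q := sm gf N516
def N1023 : Q := sm ga N517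
def N1024 : Q := sm gc N517
def N1025 : Q := sm gg N517
def N1026 : Q := sm gb N518
def N1027 : Q := sm ga N519
def N1028 : Q := sm gc N519
def N1029 : Q := sm gf N519
def N1030 : Q := sm gb N520
def N1031 : Q := sm gb N521
def N1032 : Q := sm gd N521
def N1033 : Q := sm gf N521
def N1034 : Q := sm gg N521
def N1035 : Q := sm gb N522
def N1036 : Q := sm gg N522
def N1037 : Q := sm gb N523
def N1038 : Q := sm gf N523
def N1039 : Q := sm ga N524
def N1040 : Q := sm gc N524
def N1041 : Q := sm gg N524
def N1042 : Q := sm gb N525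
def N1043 : Q := sm ga N526
def N1044 : Q := sm gc N526
def N1045 : Q := sm gf N526
def N1046 : Q := sm gb N527
def N1047 : Q := sm gb N528
def N1048 : Q := sm gc N528
def N1049 : Q := sm gd N529
def N1050 : Q := sm gg N529
def N1051 : Q := sm gb N530
def N1052 : Q := sm ga N531
def N1053 : Q := sm gc N531
def N1054 : Q := sm gf N531
def N1055 : Q := sm gb N532
def N1056 : Q := sm gc N532
def N1057 : Q := sm gd N533
def N1058 : Q := sm gf N533
def N1059 : Q := sm gb N534
def N1060 : Q := sm ga N535
def N1061 : Q := sm gc N535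
def N1062 : Q := sm gg N535
def N1063 : Q := sm gb N536
def N1064 : Q := sm gd N536
def N1065 : Q := sm gf N536
def N1066 : Q := sm gg N536
def N1067 : Q := sm gb N537
def N1068 : Q := sm gb N538
def N1069 : Q := sm ga N539
def N1070 : Q := sm gc N539
def N1071 : Q := sm gg N539
def N1072 : Q := sm ga N540
def N1073 : Q := sm gc N540
def N1074 : Q := sm gf N540
def N1075 : Q := sm gb N541
def N1076 : Q := sm gc N541
def N1077 : Q := sm gg N541
def N1078 : Q := sm gd N542
def N1079 : Q := sm gg N542
def N1080 : Q := sm gf N543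
def N1081 : Q := sm gb N544
def N1082 : Q := sm gc N544
def N1083 : Q := sm gf N544
def N1084 : Q := sm gd N545
def N1085 : Q := sm gf N545
def N1086 : Q := sm gg N546
def N1087 : Q := sm ga N547
def N1088 : Q := sm gf N547
def N1089 : Q := sm gg N547
def N1090 : Q := sm gb N548
def N1091 : Q := sm gb N549
def N1092 : Q := sm ga N550
def N1093 : Q := sm gc N550
def N1094 : Q := sm gg N550
def N1095 : Q := sm ga N551
def N1096 : Q := sm gc N551
def N1097 : Q := sm gf N551
def N1098 : Q := sm gb N552
def N1099 : Q := sm gc N552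
def N1100 : Q := sm gg N552
def N1101 : Q := sm gd N553
def N1102 : Q := sm gg N553
def N1103 : Q := sm gf N554
def N1104 : Q := sm gb N555
def N1105 : Q := sm gc N555
def N1106 : Q := sm gf N555
def N1107 : Q := sm gd N556
def N1108 : Q := sm gf N556
def N1109 : Q := sm gg N557
def N1110 : Q := sm ga N558
def N1111 : Q := sm gc N558
def N1112 : Q := sm gf N558
def N1113 : Q := sm gg N558
def N1114 : Q := sm gb N559
def N1115 : Q := sm gd N559
def N1116 : Q := sm gg N559
def N1117 : Q := sm gb N560
def N1118 : Q := sm gc N561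
def N1119 : Q := sm ge N561
def N1120 : Q := sm gg N561
def N1121 : Q := sm gb N562
def N1122 : Q := sm gf N562
def N1123 : Q := sm gb N563
def N1124 : Q := sm ga N564
def N1125 : Q := sm gc N564
def N1126 : Q := sm gf N564
def N1127 : Q := sm gg N564
def N1128 : Q := sm gb N565
def N1129 : Q := sm gd N565
def N1130 : Q := sm gf N565
def N1131 : Q := sm gb N566
def N1132 : Q := sm gc N567
def N1133 : Q := sm ge N567
def N1134 : Q := sm gf N567
def N1135 : Q := sm gb N568
def N1136 : Q := sm gg N568
def N1137 : Q := sm gb N569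
def N1138 : Q := sm gc N570
def N1139 : Q := sm gb N571
def N1140 : Q := sm gd N571
def N1141 : Q := sm gc N572
def N1142 : Q := sm ge N572
def N1143 : Q := sm gg N572
def N1144 : Q := sm gb N573
def N1145 : Q := sm gf N573
def N1146 : Q := sm gc N575
def N1147 : Q := sm gb N576
def N1148 : Q := sm gd N576
def N1149 : Q := sm gc N577
def N1150 : Q := sm ge N577
def N1151 : Q := sm gf N577
def N1152 : Q := sm gb N578
def N1153 : Q := sm gg N578
def N1154 : Q := sm gb N580
def N1155 : Q := sm gd N580
def N1156 : Q := sm ga N581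
def N1157 : Q := sm gd N581
def N1158 : Q := sm gf N581
def N1159 : Q := sm gg N581
def N1160 : Q := sm ge N582
def N1161 : Q := sm gg N583
def N1162 : Q := sm gb N584
def N1163 : Q := sm gf N584
def N1164 : Q := sm ga N585
def N1165 : Q := sm gf N585
def N1166 : Q := sm gb N586
def N1167 : Q := sm gb N587
def N1168 : Q := sm gd N587
def N1169 : Q := sm ga N588
def N1170 : Q := sm gd N588
def N1171 : Q := sm gf N588
def N1172 : Q := sm gg N588
def N1173 : Q := sm ge N589
def N1174 : Q := sm gb N590
def N1175 : Q := sm ge N590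
def N1176 : Q := sm gf N590
def N1177 : Q := sm gf N591
def N1178 : Q := sm gb N592
def N1179 : Q := sm gg N592
def N1180 : Q := sm ga N593
def N1181 : Q := sm gg N593
def N1182 : Q := sm gb N594
def N1183 : Q := sm ga N595
def N1184 : Q := sm gd N595
def N1185 : Q := sm ge N595
def N1186 : Q := sm gg N595
def N1187 : Q := sm ge N596
def N1188 : Q := sm gd N597
def N1189 : Q := sm gb N598
def N1190 : Q := sm ge N598
def N1191 : Q := sm ga N600
def N1192 : Q := sm gd N600
def N1193 : Q := sm ge N600
def N1194 : Q := sm gf N600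
def N1195 : Q := sm gg N600
def N1196 : Q := sm ge N601
def N1197 : Q := sm gf N601
def N1198 : Q := sm gd N602
def N1199 : Q := sm gf N602
def N1200 : Q := sm gb N603
def N1201 : Q := sm gg N603
def N1202 : Q := sm gb N604
def N1203 : Q := sm gg N604
def N1204 : Q := sm ga N605
def N1206 : Q := sm gg N605
def N1208 : Q := sm gb N608
def N1209 : Q := sm ga N610
def N1210 : Q := sm gd N610
def N1211 : Q := sm gf N610
def N1212 : Q := sm gg N610
def N1213 : Q := sm gf N611
def N1214 : Q := sm gg N611
def N1215 : Q := sm gb N612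
def N1216 : Q := sm gg N612
def N1217 : Q := sm gb N613
def N1218 : Q := sm gf N613
def N1219 : Q := sm ga N614
def N1220 : Q := sm gc N614
def N1221 : Q := sm gg N614
def N1222 : Q := sm gb N615
def N1223 : Q := sm ga N616
def N1224 : Q := sm gc N616
def N1225 : Q := sm gf N616
def N1226 : Q := sm gb N617
def N1227 : Q := sm gb N618
def N1228 : Q := sm gc N618
def N1229 : Q := sm gg N618
def N1230 : Q := sm gd N619
def N1231 : Q := sm gg N619
def N1232 : Q := sm gb N620
def N1233 : Q := sm ga N621
def N1234 : Q := sm gc N621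
def N1235 : Q := sm gf N621
def N1236 : Q := sm gb N622
def N1237 : Q := sm gc N622
def N1238 : Q := sm gf N622
def N1239 : Q := sm gd N623
def N1240 : Q := sm gf N623
def N1241 : Q := sm gb N624
def N1242 : Q := sm ga N625
def N1243 : Q := sm gc N625
def N1244 : Q := sm gg N625
def N1245 : Q := sm ga N626
def N1246 : Q := sm gc N626
def N1247 : Q := sm gf N626
def N1248 : Q := sm gg N626
def N1249 : Q := sm gb N627
def N1250 : Q := sm gd N627
def N1251 : Q := sm gg N627
def N1252 : Q := sm gb N628
def N1253 : Q := sm ge N629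
def N1254 : Q := sm gg N629
def N1255 : Q := sm gb N630
def N1256 : Q := sm ga N631
def N1257 : Q := sm gc N631
def N1258 : Q := sm gf N631
def N1259 : Q := sm gb N632
def N1260 : Q := sm gc N632
def N1261 : Q := sm gf N632
def N1262 : Q := sm gd N633
def N1263 : Q := sm gf N633
def N1264 : Q := sm gg N634
def N1265 : Q := sm ga N635
def N1266 : Q := sm gc N635
def N1267 : Q := sm gf N635
def N1268 : Q := sm gg N635
def N1269 : Q := sm gb N636
def N1270 : Q := sm gd N636
def N1271 : Q := sm gf N636
def N1272 : Q := sm gb N637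
def N1273 : Q := sm ge N638
def N1274 : Q := sm gf N638
def N1275 : Q := sm gb N639
def N1276 : Q := sm ga N640
def N1277 : Q := sm gc N640
def N1278 : Q := sm gg N640
def N1279 : Q := sm gb N641
def N1280 : Q := sm gc N641
def N1281 : Q := sm gg N641
def N1282 : Q := sm gd N642
def N1283 : Q := sm gg N642
def N1284 : Q := sm gf N643
def N1285 : Q := sm gb N644
def N1286 : Q := sm gf N644
def N1287 : Q := sm gg N644
def N1288 : Q := sm gb N645
def N1289 : Q := sm gg N645
def N1290 : Q := sm gb N646
def N1291 : Q := sm gf N646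
def N1292 : Q := sm ga N647
def N1293 : Q := sm gc N647
def N1294 : Q := sm gg N647
def N1295 : Q := sm gb N648
def N1296 : Q := sm ga N649
def N1297 : Q := sm gc N649
def N1298 : Q := sm gf N649
def N1299 : Q := sm gb N650
def N1300 : Q := sm gb N651
def N1301 : Q := sm gc N651
def N1302 : Q := sm gg N651
def N1303 : Q := sm gd N652
def N1304 : Q := sm gg N652
def N1305 : Q := sm gb N653
def N1306 : Q := sm ga N654
def N1307 : Q := sm gc N654
def N1308 : Q := sm gf N654
def N1309 : Q := sm gb N655
def N1310 : Q := sm gc N655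
def N1311 : Q := sm gf N655
def N1312 : Q := sm gd N656
def N1313 : Q := sm gf N656
def N1314 : Q := sm gb N657
def N1315 : Q := sm ga N658
def N1316 : Q := sm gc N658
def N1317 : Q := sm gg N658
def N1318 : Q := sm ga N659
def N1319 : Q := sm gc N659
def N1320 : Q := sm gf N659
def N1321 : Q := sm gg N659
def N1322 : Q := sm gb N660
def N1323 : Q := sm ga N661
def N1324 : Q := sm gc N661
def N1325 : Q := sm gf N661
def N1326 : Q := sm gb N662
def N1327 : Q := sm gc N662
def N1328 : Q := sm gf N662
def N1329 : Q := sm gd N663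
def N1330 : Q := sm gf N663
def N1331 : Q := sm gg N664
def N1332 : Q := sm ga N665
def N1333 : Q := sm gc N665
def N1334 : Q := sm gf N665
def N1335 : Q := sm gg N665
def N1336 : Q := sm gb N666
def N1337 : Q := sm ga N667
def N1338 : Q := sm gc N667
def N1339 : Q := sm gg N667
def N1340 : Q := sm gb N668
def N1341 : Q := sm gc N668
def N1342 : Q := sm gg N668
def N1343 : Q := sm gd N669
def N1344 : Q := sm gg N669
def N1345 : Q := sm gf N670
def N1346 : Q := sm gc N671
def N1347 : Q := sm gf N671
def N1348 : Q := sm gg N671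
def N1349 : Q := sm gd N672
def N1350 : Q := sm gf N672
def N1351 : Q := sm gg N672
def N1352 : Q := sm gg N673
def N1353 : Q := sm gb N674
def N1354 : Q := sm gf N674
def N1355 : Q := sm ga N675
def N1357 : Q := sm gf N675
def N1358 : Q := sm gb N676
def N1359 : Q := sm gc N676
def N1360 : Q := sm gd N677
def N1361 : Q := sm gf N677
def N1362 : Q := sm ga N679
def N1363 : Q := sm gc N679
def N1364 : Q := sm gf N679
def N1365 : Q := sm gg N679
def N1366 : Q := sm gb N680
def N1367 : Q := sm gd N680
def N1368 : Q := sm gf N680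
def N1369 : Q := sm gb N681
def N1370 : Q := sm gc N682
def N1371 : Q := sm ge N682
def N1372 : Q := sm gf N682
def N1373 : Q := sm gb N683
def N1375 : Q := sm gb N684
def N1376 : Q := sm gc N685
def N1377 : Q := sm gf N685
def N1378 : Q := sm gg N685
def N1379 : Q := sm gd N686
def N1380 : Q := sm gf N686
def N1381 : Q := sm gg N686
def N1382 : Q := sm gb N687
def N1383 : Q := sm gg N687
def N1384 : Q := sm gf N688
def N1385 : Q := sm ga N689
def N1386 : Q := sm gc N689
def N1387 : Q := sm gg N689
def N1388 : Q := sm gb N690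
def N1389 : Q := sm gc N690
def N1390 : Q := sm gd N691
def N1391 : Q := sm gg N691
def N1392 : Q := sm ga N693
def N1393 : Q := sm gc N693
def N1394 : Q := sm gf N693
def N1395 : Q := sm gg N693
def N1396 : Q := sm gb N694
def N1397 : Q := sm gd N694
def N1398 : Q := sm gg N694
def N1399 : Q := sm gb N695
def N1400 : Q := sm gc N696
def N1401 : Q := sm ge N696
def N1402 : Q := sm gg N696
def N1403 : Q := sm gb N697
def N1404 : Q := sm gf N697
def N1405 : Q := sm gb N698
def N1406 : Q := sm gb N699
def N1407 : Q := sm gd N699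
def N1408 : Q := sm gf N699
def N1409 : Q := sm gc N701
def N1410 : Q := sm ge N701
def N1411 : Q := sm gf N701
def N1412 : Q := sm gb N702
def N1413 : Q := sm gb N703
def N1414 : Q := sm gd N703
def N1415 : Q := sm gg N703
def N1416 : Q := sm gc N705
def N1417 : Q := sm ge N705
def N1418 : Q := sm gg N705
def N1419 : Q := sm gb N706
def N1420 : Q := sm ga N707
def N1421 : Q := sm gd N707
def N1422 : Q := sm gf N707
def N1423 : Q := sm gg N707
def N1424 : Q := sm ge N708
def N1425 : Q := sm gf N708
def N1426 : Q := sm gb N709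
def N1427 : Q := sm gb N710
def N1428 : Q := sm ge N710
def N1429 : Q := sm gf N710
def N1430 : Q := sm gf N711
def N1431 : Q := sm gb N712
def N1432 : Q := sm ga N713
def N1433 : Q := sm gg N713
def N1434 : Q := sm ga N714
def N1435 : Q := sm gd N714
def N1436 : Q := sm gf N714
def N1437 : Q := sm gg N714
def N1438 : Q := sm ge N715
def N1439 : Q := sm gg N715
def N1440 : Q := sm gb N716
def N1441 : Q := sm gb N717
def N1442 : Q := sm ge N717
def N1443 : Q := sm gg N717
def N1444 : Q := sm gg N718
def N1445 : Q := sm gb N719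
def N1446 : Q := sm ga N720
def N1447 : Q := sm gf N720
def N1448 : Q := sm gb N721
def N1449 : Q := sm ge N721
def N1450 : Q := sm gf N721
def N1451 : Q := sm gf N722
def N1452 : Q := sm gb N723
def N1453 : Q := sm gg N724
def N1454 : Q := sm ga N725
def N1455 : Q := sm gd N725
def N1456 : Q := sm ge N725
def N1457 : Q := sm gf N725
def N1458 : Q := sm gg N725
def N1459 : Q := sm ge N726
def N1460 : Q := sm gf N726
def N1461 : Q := sm gd N727
def N1462 : Q := sm gf N727
def N1463 : Q := sm gb N728
def N1464 : Q := sm gb N729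
def N1465 : Q := sm ga N730
def N1466 : Q := sm gc N730
def N1469 : Q := sm gb N733
def N1470 : Q := sm gd N733
def N1472 : Q := sm gc N734
def N1475 : Q := sm gb N737
def N1476 : Q := sm ge N737
def N1477 : Q := sm gg N737
def N1478 : Q := sm gg N738
def N1479 : Q := sm gb N739
def N1480 : Q := sm ga N741
def N1481 : Q := sm gd N741
def N1482 : Q := sm ge N741
def N1483 : Q := sm gf N741
def N1484 : Q := sm gg N741
def N1485 : Q := sm ge N742
def N1486 : Q := sm gg N742
def N1487 : Q := sm gd N743
def N1488 : Q := sm gg N743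
def N1489 : Q := sm gb N744
def N1491 : Q := sm gc N747
def N1493 : Q := sm gb N748
def N1494 : Q := sm gd N748
def N1495 : Q := sm ge N748
def N1496 : Q := sm gf N748
def N1497 : Q := sm gg N748
def N1499 : Q := sm gg N749
def N1500 : Q := sm ga N752
def N1501 : Q := sm gd N752
def N1502 : Q := sm ge N752
def N1505 : Q := sm ge N753
def N1506 : Q := sm gf N753
def N1507 : Q := sm gg N753
def N1508 : Q := sm gd N754
def N1510 : Q := sm gg N754
def N1511 : Q := sm gb N755
def N1513 : Q := sm gb N756
def N1514 : Q := sm gf N756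
def N1516 : Q := sm gg N757
def N1517 : Q := sm gf N758
def N1518 : Q := sm gc N759
def N1520 : Q := sm ga N762
def N1521 : Q := sm gb N763
def N1522 : Q := sm ge N763
def N1523 : Q := sm gf N763
def N1525 : Q := sm gd N764
def N1526 : Q := sm gf N764
def N1527 : Q := sm gg N764
def N1528 : Q := sm gb N765
def N1530 : Q := sm gb N766
def N1531 : Q := sm gf N766
def N1532 : Q := sm gc N767
def N1533 : Q := sm gf N767
def N1535 : Q := sm gb N768
def N1536 : Q := sm gb N769
def N1537 : Q := sm ga N770
def N1539 : Q := sm gg N770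
def N1540 : Q := sm ga N771
def N1542 : Q := sm ga N772
def N1543 : Q := sm gc N772
def N1544 : Q := sm gg N772
def N1545 : Q := sm gc N773
def N1547 : Q := sm gd N774
def N1548 : Q := sm gg N774
def N1549 : Q := sm gc N777
def N1550 : Q := sm ge N777
def N1551 : Q := sm ga N778
def N1552 : Q := sm gc N778
def N1553 : Q := sm gd N778
def N1554 : Q := sm ge N778
def N1555 : Q := sm gf N778
def N1556 : Q := sm gg N778
def N1557 : Q := sm gc N779
def N1558 : Q := sm ge N779
def N1559 : Q := sm gf N779
def N1561 : Q := sm gd N780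
def N1562 : Q := sm gf N780
def N1563 : Q := sm gg N780
def N1564 : Q := sm gb N781
def N1565 : Q := sm gb N782
def N1566 : Q := sm gd N783
def N1567 : Q := sm ge N783
def N1568 : Q := sm gf N783
def N1569 : Q := sm gg N783
def N1570 : Q := sm gd N784
def N1571 : Q := sm gf N784
def N1572 : Q := sm gg N784
def N1573 : Q := sm gb N785
def N1575 : Q := sm gb N786
def N1576 : Q := sm gf N786
def N1577 : Q := sm gc N787
def N1578 : Q := sm gf N787
def N1579 : Q := sm gg N787
def N1580 : Q := sm gb N788
def N1581 : Q := sm gg N788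
def N1582 : Q := sm gb N789
def N1583 : Q := sm gf N789
def N1584 : Q := sm ga N790
def N1585 : Q := sm gc N790
def N1586 : Q := sm gg N790
def N1587 : Q := sm gb N791
def N1588 : Q := sm ga N792
def N1589 : Q := sm gc N792
def N1590 : Q := sm gf N792
def N1591 : Q := sm gb N793
def N1592 : Q := sm gc N794
def N1593 : Q := sm gf N794
def N1594 : Q := sm gg N794
def N1595 : Q := sm gb N795
def N1596 : Q := sm gb N796
def N1597 : Q := sm ga N797
def N1598 : Q := sm gc N797
def N1600 : Q := sm ga N798
def N1601 : Q := sm gc N798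
def N1602 : Q := sm gf N798
def N1603 : Q := sm gb N799
def N1604 : Q := sm gf N799
def N1605 : Q := sm gg N799
def N1606 : Q := sm gb N800
def N1607 : Q := sm gb N801
def N1608 : Q := sm ga N802
def N1609 : Q := sm gc N802
def N1611 : Q := sm ga N803
def N1612 : Q := sm gc N803
def N1613 : Q := sm gf N803
def N1614 : Q := sm gb N804
def N1615 : Q := sm gc N804
def N1616 : Q := sm gg N804
def N1617 : Q := sm gd N805
def N1619 : Q := sm gf N806
def N1620 : Q := sm gb N807
def N1621 : Q := sm gc N807
def N1622 : Q := sm gf N807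
def N1623 : Q := sm gd N808
def N1624 : Q := sm gf N808
def N1625 : Q := sm gg N809
def N1626 : Q := sm gd N810
def N1627 : Q := sm gd N811
def N1628 : Q := sm gc N812
def N1631 : Q := sm gb N814
def N1632 : Q := sm ge N814
def N1633 : Q := sm ga N816
def N1634 : Q := sm gc N816
def N1635 : Q := sm gd N816
def N1636 : Q := sm ge N816
def N1639 : Q := sm gc N817
def N1640 : Q := sm ge N817
def N1641 : Q := sm gf N817
def N1643 : Q := sm gd N818
def N1648 : Q := sm gd N821
def N1649 : Q := sm ge N821
def N1650 : Q := sm gf N821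
def N1651 : Q := sm gg N821
def N1652 : Q := sm gd N822
def N1653 : Q := sm gf N822
def N1654 : Q := sm gg N822
def N1655 : Q := sm gb N823
def N1658 : Q := sm gf N824
def N1659 : Q := sm gc N825
def N1660 : Q := sm gf N825
def N1661 : Q := sm gg N825
def N1662 : Q := sm gb N826
def N1664 : Q := sm gb N827
def N1666 : Q := sm ga N828
def N1667 : Q := sm gc N828
def N1670 : Q := sm ga N830
def N1671 : Q := sm gc N830
def N1672 : Q := sm gf N830
def N1674 : Q := sm gc N832
def N1675 : Q := sm gf N832
def N1676 : Q := sm gg N832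
def N1677 : Q := sm gb N833
def N1678 : Q := sm gg N833
def N1679 : Q := sm gb N834
def N1680 : Q := sm gf N834
def N1681 : Q := sm ga N835
def N1682 : Q := sm gc N835
def N1683 : Q := sm gg N835
def N1684 : Q := sm gb N836
def N1687 : Q := sm gf N837
def N1688 : Q := sm gb N838
def N1689 : Q := sm gb N839
def N1691 : Q := sm gg N839
def N1692 : Q := sm gb N840
def N1693 : Q := sm gg N840
def N1694 : Q := sm gb N841
def N1695 : Q := sm gf N841
def N1696 : Q := sm ga N842
def N1697 : Q := sm gc N842
def N1698 : Q := sm gg N842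
def N1699 : Q := sm gb N843
def N1700 : Q := sm ga N844
def N1701 : Q := sm gc N844
def N1702 : Q := sm gf N844
def N1703 : Q := sm gb N845
def N1704 : Q := sm gb N846
def N1705 : Q := sm gc N846
def N1707 : Q := sm gd N847
def N1709 : Q := sm gb N848
def N1711 : Q := sm ga N849
def N1712 : Q := sm gc N849
def N1713 : Q := sm gf N849
def N1715 : Q := sm gc N850
def N1716 : Q := sm gf N850
def N1717 : Q := sm gd N851
def N1718 : Q := sm gf N851
def N1719 : Q := sm gb N852
def N1721 : Q := sm ga N853
def N1723 : Q := sm gg N853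
def N1724 : Q := sm gd N854
def N1725 : Q := sm ga N855
def N1726 : Q := sm gc N855
def N1728 : Q := sm gf N856
def N1729 : Q := sm gc N858
def N1730 : Q := sm ge N859
def N1731 : Q := sm gb N860
def N1732 : Q := sm gc N860
def N1733 : Q := sm gd N861
def N1736 : Q := sm gb N863
def N1737 : Q := sm gd N864
def N1738 : Q := sm gc N866
def N1739 : Q := sm gd N866
def N1740 : Q := sm ge N866
def N1741 : Q := sm gf N866
def N1742 : Q := sm gg N866
def N1743 : Q := sm gd N867
def N1744 : Q := sm ge N867
def N1745 : Q := sm gf N867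
def N1746 : Q := sm gg N867
def N1747 : Q := sm ge N868
def N1748 : Q := sm gf N868
def N1749 : Q := sm gg N868
def N1750 : Q := sm gd N869
def N1751 : Q := sm gf N869
def N1752 : Q := sm gg N869
def N1753 : Q := sm gb N870
def N1754 : Q := sm gg N870
def N1755 : Q := sm gb N871
def N1756 : Q := sm gf N871
def N1757 : Q := sm gd N872
def N1758 : Q := sm gf N872
def N1759 : Q := sm gg N872
def N1760 : Q := sm gb N873
def N1761 : Q := sm gb N874
def N1762 : Q := sm gc N875
def N1763 : Q := sm gf N875
def N1764 : Q := sm gg N875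
def N1765 : Q := sm gb N876
def N1766 : Q := sm gb N877
def N1767 : Q := sm ga N878
def N1768 : Q := sm gc N878
def N1769 : Q := sm gg N878
def N1770 : Q := sm ga N879
def N1771 : Q := sm gc N879
def N1772 : Q := sm gf N879
def N1773 : Q := sm gc N880
def N1774 : Q := sm gf N880
def N1775 : Q := sm gg N880
def N1776 : Q := sm gb N881
def N1777 : Q := sm gg N881
def N1778 : Q := sm gb N882
def N1779 : Q := sm gf N882
def N1780 : Q := sm ga N883
def N1781 : Q := sm gc N883
def N1782 : Q := sm gg N883
def N1783 : Q := sm gb N884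
def N1784 : Q := sm ga N885
def N1785 : Q := sm gc N885
def N1786 : Q := sm gf N885
def N1787 : Q := sm gb N886
def N1788 : Q := sm gb N887
def N1789 : Q := sm gd N887
def N1790 : Q := sm gf N887
def N1791 : Q := sm gg N887
def N1792 : Q := sm gb N888
def N1793 : Q := sm gg N888
def N1794 : Q := sm gb N889
def N1795 : Q := sm gf N889
def N1796 : Q := sm ga N890
def N1797 : Q := sm gc N890
def N1798 : Q := sm gg N890
def N1799 : Q := sm gb N891
def N1800 : Q := sm ga N892
def N1801 : Q := sm gc N892
def N1802 : Q := sm gf N892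
def N1803 : Q := sm gb N893
def N1804 : Q := sm gb N894
def N1805 : Q := sm gc N894
def N1806 : Q := sm gd N895
def N1807 : Q := sm gg N895
def N1808 : Q := sm gb N896
def N1809 : Q := sm ga N897
def N1810 : Q := sm gc N897
def N1811 : Q := sm gf N897
def N1812 : Q := sm gb N898
def N1813 : Q := sm gc N898
def N1814 : Q := sm gd N899
def N1815 : Q := sm gf N899
def N1816 : Q := sm gb N900
def N1817 : Q := sm ga N901
def N1818 : Q := sm gc N901
def N1819 : Q := sm gg N901
def N1820 : Q := sm gb N902
def N1821 : Q := sm ge N902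
def N1824 : Q := sm gd N903
def N1825 : Q := sm gf N903
def N1826 : Q := sm gg N903
def N1827 : Q := sm gb N904
def N1829 : Q := sm gb N905
def N1831 : Q := sm gc N906
def N1832 : Q := sm gf N906
def N1833 : Q := sm gg N906
def N1834 : Q := sm gb N907
def N1835 : Q := sm gb N908
def N1836 : Q := sm ga N909
def N1837 : Q := sm gc N909
def N1838 : Q := sm gg N909
def N1839 : Q := sm ga N910
def N1840 : Q := sm gc N910
def N1842 : Q := sm gb N911
def N1843 : Q := sm gd N911
def N1844 : Q := sm gf N911
def N1845 : Q := sm gg N911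
def N1846 : Q := sm gb N912
def N1847 : Q := sm gg N912
def N1848 : Q := sm gb N913
def N1849 : Q := sm gf N913
def N1850 : Q := sm ga N914
def N1851 : Q := sm gc N914
def N1852 : Q := sm gg N914
def N1853 : Q := sm gb N915
def N1854 : Q := sm ga N916
def N1855 : Q := sm gc N916
def N1856 : Q := sm gf N916
def N1857 : Q := sm gb N917
def N1858 : Q := sm gb N918
def N1859 : Q := sm gc N918
def N1860 : Q := sm gg N918
def N1861 : Q := sm gd N919
def N1862 : Q := sm gg N919
def N1863 : Q := sm gb N920
def N1864 : Q := sm gf N920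
def N1865 : Q := sm ga N921
def N1866 : Q := sm gc N921
def N1867 : Q := sm gf N921
def N1868 : Q := sm gb N922
def N1869 : Q := sm gc N922
def N1870 : Q := sm gf N922
def N1871 : Q := sm gd N923
def N1872 : Q := sm gf N923
def N1873 : Q := sm gb N924
def N1874 : Q := sm gg N924
def N1875 : Q := sm ga N925
def N1876 : Q := sm gc N925
def N1877 : Q := sm gg N925
def N1878 : Q := sm ga N926
def N1879 : Q := sm gf N926
def N1880 : Q := sm gg N926
def N1881 : Q := sm gb N927
def N1882 : Q := sm gg N927
def N1883 : Q := sm gb N928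
def N1884 : Q := sm gf N928
def N1885 : Q := sm ga N929
def N1886 : Q := sm gc N929
def N1887 : Q := sm gg N929
def N1888 : Q := sm gb N930
def N1889 : Q := sm ga N931
def N1890 : Q := sm gc N931
def N1891 : Q := sm gf N931
def N1892 : Q := sm gb N932
def N1893 : Q := sm gb N933
def N1894 : Q := sm gc N933
def N1895 : Q := sm gg N933
def N1896 : Q := sm gd N934
def N1897 : Q := sm gg N934
def N1898 : Q := sm gb N935
def N1899 : Q := sm gf N935
def N1900 : Q := sm ga N936
def N1901 : Q := sm gc N936
def N1902 : Q := sm gf N936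
def N1903 : Q := sm gb N937
def N1904 : Q := sm gc N937
def N1905 : Q := sm gf N937
def N1906 : Q := sm gd N938
def N1907 : Q := sm gf N938
def N1908 : Q := sm gb N939
def N1909 : Q := sm gg N939
def N1910 : Q := sm ga N940
def N1911 : Q := sm gc N940
def N1912 : Q := sm gg N940
def N1913 : Q := sm ga N941
def N1914 : Q := sm gc N941
def N1915 : Q := sm gf N941
def N1916 : Q := sm gg N941
def N1917 : Q := sm gb N942
def N1918 : Q := sm gd N942
def N1919 : Q := sm gg N942
def N1920 : Q := sm gb N943
def N1921 : Q := sm gc N944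
def N1922 : Q := sm ge N944
def N1923 : Q := sm gg N944
def N1924 : Q := sm gb N945
def N1925 : Q := sm gf N945
def N1926 : Q := sm ga N946
def N1927 : Q := sm gc N946
def N1928 : Q := sm gf N946
def N1929 : Q := sm gb N947
def N1930 : Q := sm gb N948
def N1931 : Q := sm gc N948
def N1932 : Q := sm gf N948
def N1933 : Q := sm gd N949
def N1934 : Q := sm gf N949
def N1935 : Q := sm gg N950
def N1936 : Q := sm ga N951
def N1937 : Q := sm gc N951
def N1938 : Q := sm gf N951
def N1939 : Q := sm gg N951
def N1940 : Q := sm gb N952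
def N1941 : Q := sm gd N952
def N1942 : Q := sm gf N952
def N1943 : Q := sm gb N953
def N1944 : Q := sm gc N954
def N1945 : Q := sm ge N954
def N1946 : Q := sm gf N954
def N1947 : Q := sm gb N955
def N1948 : Q := sm gg N955
def N1949 : Q := sm ga N956
def N1950 : Q := sm gc N956
def N1951 : Q := sm gg N956
def N1952 : Q := sm gb N957
def N1953 : Q := sm gb N958
def N1954 : Q := sm gc N958
def N1955 : Q := sm gg N958
def N1956 : Q := sm gd N959
def N1957 : Q := sm gg N959
def N1958 : Q := sm gf N960
def N1959 : Q := sm gc N961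
def N1960 : Q := sm ge N961
def N1961 : Q := sm gg N961
def N1962 : Q := sm gb N962
def N1963 : Q := sm gd N963
def N1964 : Q := sm gb N964
def N1965 : Q := sm gd N964
def N1966 : Q := sm gc N965
def N1967 : Q := sm ge N965
def N1968 : Q := sm gf N965
def N1969 : Q := sm gb N966
def N1970 : Q := sm gd N967
def N1971 : Q := sm gg N968
def N1972 : Q := sm gb N969
def N1973 : Q := sm ga N970
def N1974 : Q := sm gf N970
def N1975 : Q := sm ge N971
def N1976 : Q := sm ga N972
def N1977 : Q := sm gd N972
def N1978 : Q := sm gf N972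
def N1979 : Q := sm gg N972
def N1980 : Q := sm ge N973
def N1981 : Q := sm gb N974
def N1983 : Q := sm gf N974
def N1984 : Q := sm gf N975
def N1985 : Q := sm gb N976
def N1986 : Q := sm ga N977
def N1987 : Q := sm gg N977
def N1988 : Q := sm ge N978
def N1990 : Q := sm ge N979
def N1991 : Q := sm gb N981
def N1992 : Q := sm ge N981
def N1993 : Q := sm ga N983
def N1995 : Q := sm ge N983
def N1997 : Q := sm gg N983
def N1998 : Q := sm ge N984
def N1999 : Q := sm gd N985
def N2000 : Q := sm gc N986
def N2001 : Q := sm ge N986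
def N2002 : Q := sm gf N986
def N2003 : Q := sm gg N986
def N2004 : Q := sm gd N987
def N2005 : Q := sm gf N987
def N2006 : Q := sm gg N987
def N2007 : Q := sm gb N988
def N2008 : Q := sm gg N988
def N2009 : Q := sm gb N989
def N2010 : Q := sm gd N990
def N2011 : Q := sm ge N990
def N2012 : Q := sm gf N990
def N2013 : Q := sm gg N990
def N2014 : Q := sm gd N991
def N2015 : Q := sm gf N991
def N2016 : Q := sm gg N991
def N2017 : Q := sm gb N992
def N2018 : Q := sm gg N992
def N2019 : Q := sm gb N993
def N2020 : Q := sm gc N994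
def N2021 : Q := sm gf N994
def N2022 : Q := sm gg N994
def N2023 : Q := sm gb N995
def N2024 : Q := sm gg N995
def N2025 : Q := sm gb N996
def N2026 : Q := sm ga N997
def N2027 : Q := sm gc N997
def N2028 : Q := sm gg N997
def N2029 : Q := sm gb N998
def N2030 : Q := sm ga N999
def N2031 : Q := sm gc N999
def N2032 : Q := sm gf N999
def N2033 : Q := sm gc N1000
def N2034 : Q := sm gf N1000
def N2035 : Q := sm gg N1000
def N2036 : Q := sm gb N1001
def N2037 : Q := sm gb N1002
def N2038 : Q := sm ga N1003
def N2039 : Q := sm gc N1003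
def N2040 : Q := sm gg N1003
def N2041 : Q := sm ga N1004
def N2042 : Q := sm gc N1004
def N2043 : Q := sm gf N1004
def N2044 : Q := sm gb N1005
def N2045 : Q := sm gd N1005
def N2046 : Q := sm gf N1005
def N2047 : Q := sm gg N1005
def N2048 : Q := sm gb N1006
def N2049 : Q := sm gb N1007
def N2050 : Q := sm ga N1008
def N2051 : Q := sm gc N1008
def N2052 : Q := sm gg N1008
def N2053 : Q := sm ga N1009
def N2054 : Q := sm gc N1009
def N2055 : Q := sm gf N1009
def N2056 : Q := sm gb N1010
def N2057 : Q := sm gc N1010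
def N2058 : Q := sm gg N1010
def N2059 : Q := sm gd N1011
def N2060 : Q := sm gg N1011
def N2061 : Q := sm gf N1012
def N2062 : Q := sm gb N1013
def N2063 : Q := sm gc N1013
def N2064 : Q := sm gf N1013
def N2065 : Q := sm gd N1014
def N2066 : Q := sm gf N1014
def N2067 : Q := sm gg N1015
def N2068 : Q := sm gb N1016
def N2069 : Q := sm gd N1016
def N2070 : Q := sm gf N1016
def N2071 : Q := sm gg N1016
def N2072 : Q := sm gb N1017
def N2073 : Q := sm gg N1017
def N2074 : Q := sm gb N1018
def N2075 : Q := sm gf N1018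
def N2076 : Q := sm ga N1019
def N2077 : Q := sm gc N1019
def N2078 : Q := sm gg N1019
def N2079 : Q := sm gb N1020
def N2080 : Q := sm ga N1021
def N2081 : Q := sm gc N1021
def N2082 : Q := sm gf N1021
def N2083 : Q := sm gb N1022
def N2084 : Q := sm gb N1023
def N2085 : Q := sm gc N1023
def N2086 : Q := sm gd N1024
def N2087 : Q := sm gg N1024
def N2088 : Q := sm gb N1025
def N2089 : Q := sm ga N1026
def N2090 : Q := sm gc N1026
def N2091 : Q := sm gf N1026
def N2092 : Q := sm gb N1027
def N2093 : Q := sm gc N1027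
def N2094 : Q := sm gd N1028
def N2095 : Q := sm gf N1028
def N2096 : Q := sm gb N1029
def N2097 : Q := sm ga N1030
def N2098 : Q := sm gc N1030
def N2099 : Q := sm gg N1030
def N2100 : Q := sm ga N1031
def N2101 : Q := sm gd N1031
def N2102 : Q := sm gf N1031
def N2103 : Q := sm gg N1031
def N2104 : Q := sm gc N1032
def N2105 : Q := sm ge N1032
def N2106 : Q := sm gf N1032
def N2107 : Q := sm gg N1032
def N2108 : Q := sm gb N1033
def N2109 : Q := sm gg N1033
def N2110 : Q := sm gb N1034
def N2111 : Q := sm gf N1034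
def N2112 : Q := sm ga N1035
def N2113 : Q := sm gc N1035
def N2114 : Q := sm gg N1035
def N2115 : Q := sm gb N1036
def N2116 : Q := sm ga N1037
def N2117 : Q := sm gc N1037
def N2118 : Q := sm gf N1037
def N2119 : Q := sm gb N1038
def N2120 : Q := sm gb N1039
def N2121 : Q := sm gc N1039
def N2122 : Q := sm gd N1040
def N2123 : Q := sm gg N1040
def N2124 : Q := sm gb N1041
def N2125 : Q := sm ga N1042
def N2126 : Q := sm gc N1042
def N2127 : Q := sm gf N1042
def N2128 : Q := sm gb N1043
def N2129 : Q := sm gc N1043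
def N2130 : Q := sm gd N1044
def N2131 : Q := sm gf N1044
def N2132 : Q := sm gb N1045
def N2133 : Q := sm ga N1046
def N2134 : Q := sm gc N1046
def N2135 : Q := sm gg N1046
def N2136 : Q := sm ga N1047
def N2137 : Q := sm gg N1047
def N2138 : Q := sm gd N1048
def N2139 : Q := sm gc N1049
def N2140 : Q := sm ge N1049
def N2141 : Q := sm gg N1049
def N2142 : Q := sm gb N1050
def N2143 : Q := sm ga N1051
def N2144 : Q := sm gc N1051
def N2145 : Q := sm gf N1051
def N2146 : Q := sm gb N1052
def N2147 : Q := sm gc N1052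
def N2148 : Q := sm gd N1053
def N2149 : Q := sm gf N1053
def N2150 : Q := sm gg N1054
def N2151 : Q := sm ga N1055
def N2153 : Q := sm gf N1055
def N2154 : Q := sm gg N1055
def N2155 : Q := sm gb N1056
def N2156 : Q := sm gd N1056
def N2157 : Q := sm gc N1057
def N2158 : Q := sm ge N1057
def N2159 : Q := sm gf N1057
def N2160 : Q := sm gb N1058
def N2161 : Q := sm ga N1059
def N2162 : Q := sm gc N1059
def N2163 : Q := sm gg N1059
def N2164 : Q := sm gb N1060
def N2165 : Q := sm gc N1060
def N2166 : Q := sm gd N1061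
def N2167 : Q := sm gg N1061
def N2168 : Q := sm gf N1062
def N2169 : Q := sm ga N1063
def N2170 : Q := sm gd N1063
def N2171 : Q := sm gf N1063
def N2172 : Q := sm gg N1063
def N2173 : Q := sm gf N1064
def N2174 : Q := sm gg N1064
def N2175 : Q := sm gb N1065
def N2176 : Q := sm gb N1066
def N2177 : Q := sm ga N1067
def N2178 : Q := sm gc N1067
def N2179 : Q := sm gg N1067
def N2180 : Q := sm ga N1068
def N2181 : Q := sm gc N1068
def N2182 : Q := sm gf N1068
def N2183 : Q := sm gb N1069
def N2184 : Q := sm gc N1069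
def N2185 : Q := sm gg N1069
def N2186 : Q := sm gd N1070
def N2187 : Q := sm gg N1070
def N2188 : Q := sm gf N1071
def N2189 : Q := sm gb N1072
def N2190 : Q := sm gc N1072
def N2191 : Q := sm gf N1072
def N2192 : Q := sm gd N1073
def N2193 : Q := sm gf N1073
def N2194 : Q := sm gg N1074
def N2195 : Q := sm ga N1075
def N2196 : Q := sm gc N1075
def N2197 : Q := sm gf N1075
def N2198 : Q := sm gg N1075
def N2199 : Q := sm gb N1076
def N2200 : Q := sm gd N1076
def N2201 : Q := sm gg N1076
def N2202 : Q := sm gb N1077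
def N2203 : Q := sm gc N1078
def N2205 : Q := sm gg N1078
def N2206 : Q := sm gb N1079
def N2207 : Q := sm gf N1079
def N2208 : Q := sm gb N1080
def N2209 : Q := sm ga N1081
def N2210 : Q := sm gc N1081
def N2211 : Q := sm gf N1081
def N2212 : Q := sm gg N1081
def N2213 : Q := sm gb N1082
def N2214 : Q := sm gd N1082
def N2215 : Q := sm gf N1082
def N2216 : Q := sm gb N1083
def N2217 : Q := sm gc N1084
def N2218 : Q := sm ge N1084
def N2219 : Q := sm gf N1084
def N2220 : Q := sm gb N1085
def N2221 : Q := sm gg N1085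
def N2222 : Q := sm gb N1086
def N2223 : Q := sm gb N1087
def N2224 : Q := sm gf N1087
def N2225 : Q := sm gg N1087
def N2226 : Q := sm gb N1088
def N2227 : Q := sm gg N1088
def N2228 : Q := sm gb N1089
def N2229 : Q := sm gf N1089
def N2230 : Q := sm ga N1090
def N2231 : Q := sm gc N1090
def N2232 : Q := sm gg N1090
def N2233 : Q := sm ga N1091
def N2234 : Q := sm gc N1091
def N2235 : Q := sm gf N1091
def N2236 : Q := sm gb N1092
def N2237 : Q := sm gc N1092
def N2238 : Q := sm gg N1092
def N2239 : Q := sm gd N1093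
def N2240 : Q := sm gg N1093
def N2241 : Q := sm gf N1094
def N2242 : Q := sm gb N1095
def N2243 : Q := sm gc N1095
def N2244 : Q := sm gf N1095
def N2245 : Q := sm gd N1096
def N2246 : Q := sm gf N1096
def N2247 : Q := sm gg N1097
def N2249 : Q := sm gc N1098
def N2250 : Q := sm gf N1098
def N2251 : Q := sm gg N1098
def N2252 : Q := sm gb N1099
def N2253 : Q := sm gd N1099
def N2254 : Q := sm gg N1099
def N2255 : Q := sm gb N1100
def N2256 : Q := sm gc N1101
def N2257 : Q := sm ge N1101
def N2258 : Q := sm gg N1101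
def N2259 : Q := sm gb N1102
def N2260 : Q := sm gf N1102
def N2261 : Q := sm gb N1103
def N2262 : Q := sm ga N1104
def N2263 : Q := sm gc N1104
def N2264 : Q := sm gf N1104
def N2265 : Q := sm gg N1104
def N2266 : Q := sm gb N1105
def N2267 : Q := sm gd N1105
def N2268 : Q := sm gf N1105
def N2269 : Q := sm gb N1106
def N2270 : Q := sm gc N1107
def N2271 : Q := sm ge N1107
def N2272 : Q := sm gf N1107
def N2273 : Q := sm gb N1108
def N2274 : Q := sm gg N1108
def N2275 : Q := sm gb N1109
def N2276 : Q := sm gc N1110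
def N2277 : Q := sm gg N1110
def N2278 : Q := sm gb N1111
def N2279 : Q := sm gd N1111
def N2280 : Q := sm gf N1111
def N2281 : Q := sm gg N1111
def N2282 : Q := sm gg N1112
def N2283 : Q := sm gb N1113
def N2284 : Q := sm gf N1113
def N2285 : Q := sm ga N1114
def N2286 : Q := sm gd N1114
def N2287 : Q := sm gg N1114
def N2288 : Q := sm gc N1115
def N2289 : Q := sm ge N1115
def N2290 : Q := sm gg N1115
def N2291 : Q := sm gb N1116
def N2292 : Q := sm ga N1117
def N2293 : Q := sm gc N1117
def N2294 : Q := sm gd N1118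
def N2295 : Q := sm ge N1118
def N2296 : Q := sm gg N1118
def N2297 : Q := sm gg N1119
def N2298 : Q := sm gb N1120
def N2299 : Q := sm gf N1120
def N2300 : Q := sm ga N1121
def N2301 : Q := sm gf N1121
def N2302 : Q := sm gb N1122
def N2303 : Q := sm gc N1123
def N2304 : Q := sm gg N1123
def N2305 : Q := sm gc N1124
def N2306 : Q := sm gf N1124
def N2307 : Q := sm gb N1125
def N2308 : Q := sm gd N1125
def N2309 : Q := sm gf N1125
def N2310 : Q := sm gg N1125
def N2311 : Q := sm gb N1126
def N2312 : Q := sm gg N1126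
def N2313 : Q := sm gf N1127
def N2314 : Q := sm ga N1128
def N2315 : Q := sm gd N1128
def N2316 : Q := sm gf N1128
def N2317 : Q := sm gg N1128
def N2318 : Q := sm gc N1129
def N2319 : Q := sm ge N1129
def N2320 : Q := sm gf N1129
def N2321 : Q := sm gb N1130
def N2322 : Q := sm ga N1131
def N2323 : Q := sm gc N1131
def N2324 : Q := sm gb N1132
def N2325 : Q := sm gd N1132
def N2326 : Q := sm ge N1132
def N2327 : Q := sm gf N1132
def N2328 : Q := sm gf N1133
def N2329 : Q := sm gb N1134
def N2330 : Q := sm gg N1134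
def N2331 : Q := sm ga N1135
def N2332 : Q := sm gg N1135
def N2333 : Q := sm gb N1136
def N2334 : Q := sm gc N1137
def N2335 : Q := sm gf N1137
def N2336 : Q := sm gb N1138
def N2337 : Q := sm gd N1138
def N2338 : Q := sm ga N1139
def N2339 : Q := sm gd N1139
def N2340 : Q := sm gf N1139
def N2342 : Q := sm gc N1140
def N2343 : Q := sm ge N1140
def N2344 : Q := sm gb N1141
def N2345 : Q := sm ge N1141
def N2346 : Q := sm gg N1141
def N2347 : Q := sm gg N1142
def N2348 : Q := sm gb N1143
def N2349 : Q := sm gf N1143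
def N2350 : Q := sm ga N1144
def N2351 : Q := sm gf N1144
def N2352 : Q := sm gb N1145
def N2353 : Q := sm gb N1146
def N2354 : Q := sm gd N1146
def N2355 : Q := sm ga N1147
def N2356 : Q := sm gd N1147
def N2357 : Q := sm gf N1147
def N2358 : Q := sm gg N1147
def N2359 : Q := sm gc N1148
def N2360 : Q := sm ge N1148
def N2361 : Q := sm gb N1149
def N2362 : Q := sm ge N1149
def N2363 : Q := sm gf N1149
def N2364 : Q := sm gf N1150
def N2365 : Q := sm gb N1151
def N2366 : Q := sm gg N1151
def N2367 : Q := sm ga N1152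
def N2368 : Q := sm gg N1152
def N2369 : Q := sm gb N1153
def N2370 : Q := sm ga N1154
def N2372 : Q := sm gf N1154
def N2373 : Q := sm gg N1154
def N2375 : Q := sm gb N1156
def N2376 : Q := sm gd N1156
def N2377 : Q := sm gf N1156
def N2379 : Q := sm gc N1157
def N2380 : Q := sm ge N1157
def N2381 : Q := sm gf N1157
def N2382 : Q := sm gg N1157
def N2384 : Q := sm gf N1159
def N2385 : Q := sm gb N1161
def N2386 : Q := sm gf N1161
def N2387 : Q := sm ga N1162
def N2388 : Q := sm gc N1162
def N2389 : Q := sm gf N1162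
def N2390 : Q := sm gb N1163
def N2391 : Q := sm gb N1164
def N2392 : Q := sm gf N1164
def N2393 : Q := sm gb N1165
def N2394 : Q := sm gg N1165
def N2395 : Q := sm ga N1166
def N2396 : Q := sm gg N1166
def N2397 : Q := sm ga N1167
def N2399 : Q := sm gf N1167
def N2400 : Q := sm gg N1167
def N2401 : Q := sm ge N1168
def N2402 : Q := sm gb N1169
def N2403 : Q := sm gd N1169
def N2404 : Q := sm gf N1169
def N2405 : Q := sm gg N1169
def N2406 : Q := sm gc N1170
def N2407 : Q := sm ge N1170
def N2408 : Q := sm gf N1170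
def N2409 : Q := sm gg N1170
def N2410 : Q := sm gg N1171
def N2411 : Q := sm gf N1172
def N2412 : Q := sm ga N1174
def N2413 : Q := sm ge N1174
def N2414 : Q := sm gf N1174
def N2415 : Q := sm gg N1174
def N2416 : Q := sm gd N1175
def N2417 : Q := sm gf N1175
def N2418 : Q := sm gb N1176
def N2419 : Q := sm gb N1177
def N2420 : Q := sm gg N1177
def N2421 : Q := sm ga N1178
def N2422 : Q := sm gc N1178
def N2423 : Q := sm gg N1178
def N2424 : Q := sm gb N1179
def N2425 : Q := sm gb N1180
def N2426 : Q := sm gg N1180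
def N2427 : Q := sm gb N1181
def N2428 : Q := sm gf N1181
def N2429 : Q := sm ga N1182
def N2430 : Q := sm gf N1182
def N2431 : Q := sm gd N1183
def N2432 : Q := sm ge N1183
def N2433 : Q := sm gg N1183
def N2434 : Q := sm gc N1184
def N2435 : Q := sm ge N1184
def N2436 : Q := sm gg N1184
def N2437 : Q := sm gd N1185
def N2438 : Q := sm gg N1185
def N2439 : Q := sm gd N1187
def N2440 : Q := sm gc N1188
def N2441 : Q := sm ga N1189
def N2445 : Q := sm gd N1190
def N2446 : Q := sm gb N1191
def N2447 : Q := sm gd N1191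
def N2448 : Q := sm ge N1191
def N2449 : Q := sm gf N1191
def N2450 : Q := sm gg N1191
def N2451 : Q := sm gc N1192
def N2452 : Q := sm ge N1192
def N2453 : Q := sm gf N1192
def N2454 : Q := sm gg N1192
def N2455 : Q := sm gd N1193
def N2456 : Q := sm gf N1193
def N2457 : Q := sm gg N1193
def N2458 : Q := sm gb N1194
def N2459 : Q := sm gg N1194
def N2460 : Q := sm gf N1195
def N2461 : Q := sm gd N1196
def N2463 : Q := sm gb N1197
def N2464 : Q := sm gc N1198
def N2465 : Q := sm gf N1198
def N2466 : Q := sm gb N1199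
def N2468 : Q := sm ga N1200
def N2470 : Q := sm gg N1200
def N2472 : Q := sm ga N1202
def N2474 : Q := sm gg N1202
def N2475 : Q := sm gb N1203
def N2476 : Q := sm gc N1204
def N2479 : Q := sm gb N1206
def N2481 : Q := sm gb N1209
def N2482 : Q := sm gd N1209
def N2483 : Q := sm gf N1209
def N2484 : Q := sm gg N1209
def N2485 : Q := sm gc N1210
def N2486 : Q := sm gf N1210
def N2487 : Q := sm gg N1210
def N2488 : Q := sm gb N1211
def N2489 : Q := sm gg N1211
def N2490 : Q := sm gb N1212
def N2491 : Q := sm gf N1212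
def N2492 : Q := sm gb N1213
def N2493 : Q := sm gg N1213
def N2494 : Q := sm gb N1214
def N2495 : Q := sm gf N1214
def N2496 : Q := sm ga N1215
def N2497 : Q := sm gc N1215
def N2498 : Q := sm gg N1215
def N2499 : Q := sm gb N1216
def N2500 : Q := sm ga N1217
def N2501 : Q := sm gc N1217
def N2502 : Q := sm gf N1217
def N2503 : Q := sm gb N1218
def N2505 : Q := sm gc N1219
def N2506 : Q := sm gg N1219
def N2507 : Q := sm gd N1220
def N2508 : Q := sm gg N1220
def N2509 : Q := sm gb N1221
def N2510 : Q := sm ga N1222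
def N2511 : Q := sm gc N1222
def N2512 : Q := sm gf N1222
def N2513 : Q := sm gb N1223
def N2514 : Q := sm gc N1223
def N2515 : Q := sm gf N1223
def N2516 : Q := sm gd N1224
def N2517 : Q := sm gf N1224
def N2518 : Q := sm gb N1225
def N2519 : Q := sm ga N1226
def N2520 : Q := sm gc N1226
def N2521 : Q := sm gg N1226
def N2522 : Q := sm ga N1227
def N2524 : Q := sm gf N1227
def N2525 : Q := sm gg N1227
def N2526 : Q := sm gb N1228
def N2527 : Q := sm gd N1228
def N2529 : Q := sm gb N1229
def N2530 : Q := sm gc N1230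
def N2531 : Q := sm ge N1230
def N2532 : Q := sm gg N1230
def N2533 : Q := sm gb N1231
def N2534 : Q := sm ga N1232
def N2535 : Q := sm gc N1232
def N2536 : Q := sm gf N1232
def N2537 : Q := sm gb N1233
def N2538 : Q := sm gc N1233
def N2539 : Q := sm gf N1233
def N2540 : Q := sm gd N1234
def N2541 : Q := sm gf N1234
def N2542 : Q := sm gg N1235
def N2545 : Q := sm gf N1236
def N2548 : Q := sm gd N1237
def N2550 : Q := sm gb N1238
def N2551 : Q := sm gc N1239
def N2553 : Q := sm gf N1239
def N2554 : Q := sm gb N1240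
def N2555 : Q := sm ga N1241
def N2557 : Q := sm gg N1241
def N2558 : Q := sm gb N1242
def N2560 : Q := sm gg N1242
def N2562 : Q := sm gg N1243
def N2563 : Q := sm gf N1244
def N2564 : Q := sm gc N1245
def N2565 : Q := sm gf N1245
def N2566 : Q := sm gg N1245
def N2567 : Q := sm gb N1246
def N2568 : Q := sm gd N1246
def N2571 : Q := sm gg N1247
def N2574 : Q := sm ga N1249
def N2575 : Q := sm gd N1249
def N2576 : Q := sm gf N1249
def N2577 : Q := sm gg N1249
def N2578 : Q := sm ge N1250
def N2579 : Q := sm gg N1250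
def N2581 : Q := sm ga N1252
def N2583 : Q := sm gf N1252
def N2584 : Q := sm gg N1253
def N2585 : Q := sm gb N1254
def N2586 : Q := sm ga N1255
def N2587 : Q := sm gc N1255
def N2588 : Q := sm gf N1255
def N2589 : Q := sm gb N1256
def N2590 : Q := sm gc N1256
def N2591 : Q := sm gd N1257
def N2593 : Q := sm ga N1259
def N2594 : Q := sm gc N1259
def N2595 : Q := sm gf N1259
def N2596 : Q := sm gg N1259
def N2598 : Q := sm gd N1260
def N2600 : Q := sm gb N1261
def N2601 : Q := sm gc N1262
def N2602 : Q := sm ge N1262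
def N2603 : Q := sm gf N1262
def N2604 : Q := sm gb N1263
def N2606 : Q := sm gb N1264
def N2607 : Q := sm gc N1265
def N2608 : Q := sm gf N1265
def N2609 : Q := sm gg N1265
def N2610 : Q := sm gb N1266
def N2611 : Q := sm gd N1266
def N2613 : Q := sm gg N1266
def N2614 : Q := sm gb N1267
def N2615 : Q := sm gg N1267
def N2616 : Q := sm gf N1268
def N2617 : Q := sm ga N1269
def N2618 : Q := sm gd N1269
def N2619 : Q := sm gf N1269
def N2620 : Q := sm gg N1269
def N2621 : Q := sm ge N1270
def N2623 : Q := sm gb N1271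
def N2624 : Q := sm ga N1272
def N2625 : Q := sm gc N1272
def N2626 : Q := sm gg N1272
def N2627 : Q := sm gf N1273
def N2628 : Q := sm gb N1274
def N2629 : Q := sm ga N1275
def N2631 : Q := sm gg N1275
def N2632 : Q := sm gb N1276
def N2633 : Q := sm gc N1276
def N2634 : Q := sm gd N1277
def N2635 : Q := sm gg N1277
def N2636 : Q := sm ga N1279
def N2637 : Q := sm gc N1279
def N2638 : Q := sm gf N1279
def N2639 : Q := sm gg N1279
def N2640 : Q := sm gb N1280
def N2641 : Q := sm gd N1280
def N2642 : Q := sm gg N1280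
def N2643 : Q := sm gb N1281
def N2646 : Q := sm gg N1282
def N2647 : Q := sm gb N1283
def N2648 : Q := sm gf N1283
def N2649 : Q := sm gb N1284
def N2650 : Q := sm ga N1285
def N2651 : Q := sm gc N1285
def N2652 : Q := sm gf N1285
def N2653 : Q := sm gg N1285
def N2654 : Q := sm gb N1286
def N2655 : Q := sm gb N1287
def N2656 : Q := sm ga N1288
def N2657 : Q := sm gc N1288
def N2658 : Q := sm gg N1288
def N2659 : Q := sm gb N1289
def N2660 : Q := sm ga N1290
def N2661 : Q := sm gc N1290
def N2662 : Q := sm gf N1290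
def N2663 : Q := sm gb N1291
def N2664 : Q := sm gb N1292
def N2665 : Q := sm gc N1292
def N2666 : Q := sm gg N1292
def N2667 : Q := sm gd N1293
def N2668 : Q := sm gg N1293
def N2669 : Q := sm gb N1294
def N2670 : Q := sm gf N1294
def N2671 : Q := sm ga N1295
def N2672 : Q := sm gc N1295
def N2673 : Q := sm gf N1295
def N2674 : Q := sm gb N1296
def N2675 : Q := sm gc N1296
def N2676 : Q := sm gf N1296
def N2677 : Q := sm gd N1297
def N2678 : Q := sm gf N1297
def N2679 : Q := sm gb N1298
def N2680 : Q := sm gg N1298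
def N2681 : Q := sm ga N1299
def N2682 : Q := sm gc N1299
def N2683 : Q := sm gg N1299
def N2685 : Q := sm gc N1300
def N2687 : Q := sm gg N1300
def N2688 : Q := sm gb N1301
def N2689 : Q := sm gd N1301
def N2690 : Q := sm gg N1301
def N2692 : Q := sm ge N1303
def N2693 : Q := sm gg N1303
def N2694 : Q := sm gb N1304
def N2695 : Q := sm ga N1305
def N2696 : Q := sm gc N1305
def N2697 : Q := sm gf N1305
def N2698 : Q := sm gb N1306
def N2699 : Q := sm gc N1306
def N2700 : Q := sm gf N1306
def N2701 : Q := sm gd N1307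
def N2702 : Q := sm gf N1307
def N2703 : Q := sm gg N1308
def N2704 : Q := sm ga N1309
def N2706 : Q := sm gf N1309
def N2707 : Q := sm gg N1309
def N2709 : Q := sm gd N1310
def N2710 : Q := sm gf N1310
def N2711 : Q := sm gb N1311
def N2712 : Q := sm ge N1312
def N2713 : Q := sm gf N1312
def N2714 : Q := sm gb N1313
def N2715 : Q := sm ga N1314
def N2716 : Q := sm gc N1314
def N2717 : Q := sm gg N1314
def N2718 : Q := sm gb N1315
def N2719 : Q := sm gc N1315
def N2720 : Q := sm gg N1315
def N2721 : Q := sm gd N1316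
def N2722 : Q := sm gg N1316
def N2723 : Q := sm gf N1317
def N2724 : Q := sm gc N1318
def N2725 : Q := sm gf N1318
def N2728 : Q := sm gf N1319
def N2729 : Q := sm gg N1319
def N2731 : Q := sm gb N1321
def N2732 : Q := sm gf N1321
def N2735 : Q := sm gf N1322
def N2736 : Q := sm gb N1323
def N2737 : Q := sm gc N1323
def N2738 : Q := sm gd N1324
def N2739 : Q := sm gf N1324
def N2740 : Q := sm ga N1326
def N2741 : Q := sm gc N1326
def N2742 : Q := sm gf N1326
def N2743 : Q := sm gg N1326
def N2744 : Q := sm gb N1327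
def N2745 : Q := sm gd N1327
def N2746 : Q := sm gf N1327
def N2747 : Q := sm gb N1328
def N2748 : Q := sm gc N1329
def N2749 : Q := sm ge N1329
def N2750 : Q := sm gf N1329
def N2751 : Q := sm gb N1330
def N2752 : Q := sm gg N1330
def N2753 : Q := sm gb N1331
def N2754 : Q := sm gc N1332
def N2755 : Q := sm gf N1332
def N2756 : Q := sm gg N1332
def N2757 : Q := sm gd N1333
def N2758 : Q := sm gf N1333
def N2759 : Q := sm gg N1333
def N2760 : Q := sm gb N1334
def N2762 : Q := sm gf N1335
def N2763 : Q := sm ga N1336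
def N2765 : Q := sm gg N1336
def N2766 : Q := sm gb N1337
def N2767 : Q := sm gc N1337
def N2768 : Q := sm gd N1338
def N2769 : Q := sm gg N1338
def N2770 : Q := sm ga N1340
def N2771 : Q := sm gc N1340
def N2772 : Q := sm gf N1340
def N2773 : Q := sm gg N1340
def N2774 : Q := sm gb N1341
def N2775 : Q := sm gd N1341
def N2776 : Q := sm gg N1341
def N2777 : Q := sm gb N1342
def N2778 : Q := sm gc N1343
def N2779 : Q := sm ge N1343
def N2780 : Q := sm gg N1343
def N2781 : Q := sm gb N1344
def N2782 : Q := sm gf N1344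
def N2785 : Q := sm gd N1346
def N2788 : Q := sm gc N1349
def N2789 : Q := sm ge N1349
def N2790 : Q := sm gf N1349
def N2791 : Q := sm gg N1349
def N2795 : Q := sm gf N1351
def N2796 : Q := sm gb N1352
def N2797 : Q := sm ga N1353
def N2800 : Q := sm gb N1354
def N2802 : Q := sm gf N1355
def N2805 : Q := sm ga N1358
def N2806 : Q := sm gc N1358
def N2807 : Q := sm gf N1358
def N2808 : Q := sm gg N1358
def N2809 : Q := sm gb N1359
def N2810 : Q := sm gd N1359
def N2811 : Q := sm gc N1360
def N2812 : Q := sm ge N1360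
def N2813 : Q := sm gf N1360
def N2815 : Q := sm gc N1362
def N2816 : Q := sm gf N1362
def N2817 : Q := sm gb N1363
def N2818 : Q := sm gd N1363
def N2819 : Q := sm gf N1363
def N2820 : Q := sm gg N1363
def N2821 : Q := sm ga N1366
def N2822 : Q := sm gd N1366
def N2823 : Q := sm gf N1366
def N2824 : Q := sm gg N1366
def N2825 : Q := sm gc N1367
def N2826 : Q := sm ge N1367
def N2828 : Q := sm gb N1368
def N2829 : Q := sm gc N1369
def N2830 : Q := sm gb N1370
def N2831 : Q := sm gd N1370
def N2832 : Q := sm ge N1370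
def N2833 : Q := sm gf N1370
def N2834 : Q := sm gf N1371
def N2835 : Q := sm gb N1372
def N2837 : Q := sm ga N1373
def N2838 : Q := sm gg N1373
def N2840 : Q := sm gc N1375
def N2841 : Q := sm gf N1375
def N2842 : Q := sm gb N1376
def N2843 : Q := sm gd N1376
def N2844 : Q := sm gf N1376
def N2845 : Q := sm gg N1376
def N2847 : Q := sm ge N1379
def N2848 : Q := sm gf N1379
def N2850 : Q := sm gb N1380
def N2853 : Q := sm gf N1381
def N2854 : Q := sm ga N1382
def N2855 : Q := sm gc N1382
def N2856 : Q := sm gg N1382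
def N2857 : Q := sm gb N1384
def N2858 : Q := sm gc N1385
def N2860 : Q := sm gg N1386
def N2861 : Q := sm ga N1388
def N2862 : Q := sm gc N1388
def N2863 : Q := sm gf N1388
def N2864 : Q := sm gb N1389
def N2865 : Q := sm gd N1389
def N2866 : Q := sm gc N1390
def N2867 : Q := sm ge N1390
def N2868 : Q := sm gg N1390
def N2869 : Q := sm gb N1391
def N2870 : Q := sm gc N1392
def N2871 : Q := sm gg N1392
def N2872 : Q := sm gb N1393
def N2873 : Q := sm gd N1393
def N2874 : Q := sm gf N1393
def N2875 : Q := sm gg N1393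
def N2876 : Q := sm ga N1396
def N2877 : Q := sm gd N1396
def N2878 : Q := sm gf N1396
def N2879 : Q := sm gg N1396
def N2880 : Q := sm gc N1397
def N2881 : Q := sm ge N1397
def N2882 : Q := sm gg N1397
def N2884 : Q := sm gc N1399
def N2885 : Q := sm gb N1400
def N2886 : Q := sm gd N1400
def N2887 : Q := sm ge N1400
def N2888 : Q := sm gg N1400
def N2889 : Q := sm gg N1401
def N2890 : Q := sm gb N1402
def N2891 : Q := sm gf N1402
def N2892 : Q := sm ga N1403
def N2893 : Q := sm gf N1403
def N2894 : Q := sm gb N1404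
def N2896 : Q := sm ga N1406
def N2897 : Q := sm gd N1406
def N2898 : Q := sm gf N1406
def N2899 : Q := sm gg N1406
def N2900 : Q := sm gc N1407
def N2901 : Q := sm ge N1407
def N2902 : Q := sm gf N1407
def N2903 : Q := sm gb N1408
def N2904 : Q := sm gb N1409
def N2905 : Q := sm ge N1409
def N2906 : Q := sm gf N1409
def N2907 : Q := sm gf N1410
def N2908 : Q := sm gb N1411
def N2909 : Q := sm ga N1412
def N2910 : Q := sm gg N1412
def N2911 : Q := sm ga N1413
def N2912 : Q := sm gd N1413
def N2914 : Q := sm gg N1413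
def N2915 : Q := sm gc N1414
def N2916 : Q := sm ge N1414
def N2917 : Q := sm gg N1414
def N2918 : Q := sm gb N1415
def N2919 : Q := sm gb N1416
def N2920 : Q := sm ge N1416
def N2921 : Q := sm gg N1416
def N2922 : Q := sm gg N1417
def N2923 : Q := sm gb N1418
def N2924 : Q := sm ga N1419
def N2925 : Q := sm gf N1419
def N2926 : Q := sm gb N1420
def N2927 : Q := sm gd N1420
def N2928 : Q := sm gf N1420
def N2929 : Q := sm gg N1420
def N2930 : Q := sm gc N1421
def N2931 : Q := sm ge N1421
def N2932 : Q := sm gf N1421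
def N2933 : Q := sm gg N1421
def N2934 : Q := sm gb N1422
def N2935 : Q := sm gg N1422
def N2937 : Q := sm gf N1424
def N2938 : Q := sm gb N1425
def N2939 : Q := sm ga N1426
def N2940 : Q := sm gg N1426
def N2941 : Q := sm ga N1427
def N2942 : Q := sm ge N1427
def N2943 : Q := sm gf N1427
def N2944 : Q := sm gg N1427
def N2945 : Q := sm gd N1428
def N2946 : Q := sm gf N1428
def N2947 : Q := sm gb N1429
def N2948 : Q := sm gb N1430
def N2949 : Q := sm ga N1431
def N2950 : Q := sm gc N1431
def N2951 : Q := sm gg N1431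
def N2952 : Q := sm gb N1432
def N2953 : Q := sm gg N1432
def N2955 : Q := sm gb N1434
def N2956 : Q := sm gd N1434
def N2957 : Q := sm gf N1434
def N2959 : Q := sm gc N1435
def N2960 : Q := sm ge N1435
def N2962 : Q := sm gg N1435
def N2964 : Q := sm gb N1437
def N2966 : Q := sm gg N1438
def N2967 : Q := sm gb N1439
def N2968 : Q := sm ga N1440
def N2969 : Q := sm gf N1440
def N2970 : Q := sm ga N1441
def N2971 : Q := sm ge N1441
def N2972 : Q := sm gf N1441
def N2973 : Q := sm gg N1441
def N2974 : Q := sm gd N1442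
def N2975 : Q := sm gg N1442
def N2976 : Q := sm gb N1443
def N2977 : Q := sm gb N1444
def N2978 : Q := sm ga N1445
def N2979 : Q := sm gc N1445
def N2980 : Q := sm gf N1445
def N2981 : Q := sm gb N1446
def N2983 : Q := sm gg N1447
def N2984 : Q := sm ga N1448
def N2985 : Q := sm ge N1448
def N2986 : Q := sm gf N1448
def N2987 : Q := sm gg N1448
def N2988 : Q := sm gd N1449
def N2990 : Q := sm gb N1450
def N2991 : Q := sm gb N1451
def N2992 : Q := sm gc N1452
def N2993 : Q := sm gg N1452
def N2995 : Q := sm gd N1454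
def N2996 : Q := sm ge N1454
def N2997 : Q := sm gf N1454
def N2999 : Q := sm gc N1455
def N3000 : Q := sm ge N1455
def N3001 : Q := sm gf N1455
def N3002 : Q := sm gg N1455
def N3003 : Q := sm gd N1456
def N3004 : Q := sm gf N1456
def N3005 : Q := sm gg N1456
def N3006 : Q := sm gb N1457
def N3008 : Q := sm gf N1458
def N3009 : Q := sm gd N1459
def N3011 : Q := sm gb N1460
def N3012 : Q := sm gc N1461
def N3013 : Q := sm gf N1461
def N3014 : Q := sm gb N1462
def N3015 : Q := sm ga N1463
def N3016 : Q := sm gc N1463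
def N3017 : Q := sm gg N1463
def N3019 : Q := sm gc N1464
def N3021 : Q := sm gc N1465
def N3023 : Q := sm gd N1466
def N3024 : Q := sm gg N1466
def N3025 : Q := sm gd N1469
def N3026 : Q := sm gc N1470
def N3027 : Q := sm ge N1470
def N3028 : Q := sm gf N1470
def N3029 : Q := sm gb N1472
def N3030 : Q := sm gd N1472
def N3034 : Q := sm ga N1475
def N3035 : Q := sm ge N1475
def N3036 : Q := sm gf N1475
def N3037 : Q := sm gg N1475
def N3038 : Q := sm gd N1476
def N3039 : Q := sm gg N1476
def N3042 : Q := sm gc N1479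
def N3044 : Q := sm gd N1480
def N3045 : Q := sm ge N1480
def N3047 : Q := sm gg N1480
def N3048 : Q := sm gc N1481
def N3049 : Q := sm ge N1481
def N3050 : Q := sm gf N1481
def N3051 : Q := sm gg N1481
def N3052 : Q := sm gd N1482
def N3055 : Q := sm gg N1483
def N3056 : Q := sm gb N1484
def N3058 : Q := sm gd N1485
def N3060 : Q := sm gb N1486
def N3061 : Q := sm gc N1487
def N3062 : Q := sm gg N1487
def N3063 : Q := sm gb N1488
def N3065 : Q := sm gf N1489
def N3068 : Q := sm gb N1491
def N3071 : Q := sm ga N1493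
def N3074 : Q := sm gf N1493
def N3075 : Q := sm gg N1493
def N3076 : Q := sm ge N1494
def N3077 : Q := sm gf N1494
def N3078 : Q := sm gg N1494
def N3079 : Q := sm gd N1495
def N3080 : Q := sm gf N1495
def N3081 : Q := sm gg N1495
def N3082 : Q := sm gb N1496
def N3083 : Q := sm gb N1497
def N3084 : Q := sm gb N1500
def N3085 : Q := sm gd N1500
def N3089 : Q := sm gc N1501
def N3090 : Q := sm ge N1501
def N3092 : Q := sm gg N1501
def N3093 : Q := sm gd N1502
def N3101 : Q := sm gf N1505
def N3102 : Q := sm gg N1505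
def N3103 : Q := sm gb N1506
def N3105 : Q := sm gb N1507
def N3106 : Q := sm gf N1507
def N3108 : Q := sm gf N1508
def N3109 : Q := sm gg N1508
def N3112 : Q := sm gb N1510
def N3115 : Q := sm gc N1511
def N3116 : Q := sm gg N1511
def N3119 : Q := sm gf N1513
def N3120 : Q := sm gb N1514
def N3122 : Q := sm gb N1517
def N3126 : Q := sm ga N1521
def N3127 : Q := sm gc N1521
def N3129 : Q := sm gf N1521
def N3130 : Q := sm gg N1521
def N3133 : Q := sm gg N1522
def N3136 : Q := sm gc N1525
def N3137 : Q := sm gf N1525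
def N3138 : Q := sm gg N1525
def N3139 : Q := sm gb N1526
def N3140 : Q := sm gg N1526
def N3141 : Q := sm gb N1527
def N3143 : Q := sm ga N1528
def N3145 : Q := sm gg N1528
def N3147 : Q := sm ga N1530
def N3148 : Q := sm gf N1530
def N3150 : Q := sm gb N1532
def N3153 : Q := sm gb N1533
def N3155 : Q := sm ga N1535
def N3157 : Q := sm gg N1535
def N3158 : Q := sm ga N1536
def N3162 : Q := sm gg N1537
def N3165 : Q := sm gf N1539
def N3166 : Q := sm gb N1540
def N3169 : Q := sm gc N1542
def N3170 : Q := sm gg N1542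
def N3171 : Q := sm gd N1543
def N3172 : Q := sm gg N1543
def N3176 : Q := sm ge N1547
def N3177 : Q := sm gg N1547
def N3179 : Q := sm gb N1549
def N3180 : Q := sm gd N1549
def N3182 : Q := sm gc N1551
def N3183 : Q := sm gd N1551
def N3184 : Q := sm ge N1551
def N3185 : Q := sm gf N1551
def N3188 : Q := sm ge N1552
def N3189 : Q := sm gf N1552
def N3190 : Q := sm gg N1552
def N3191 : Q := sm gc N1553
def N3192 : Q := sm ge N1553
def N3193 : Q := sm gf N1553
def N3194 : Q := sm gg N1553
def N3195 : Q := sm gd N1554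
def N3196 : Q := sm gf N1554
def N3197 : Q := sm gg N1554
def N3198 : Q := sm gb N1555
def N3200 : Q := sm gb N1556
def N3202 : Q := sm gb N1557
def N3203 : Q := sm gd N1557
def N3204 : Q := sm ge N1557
def N3205 : Q := sm gf N1557
def N3206 : Q := sm gg N1557
def N3207 : Q := sm gd N1558
def N3208 : Q := sm gf N1558
def N3210 : Q := sm gb N1559
def N3212 : Q := sm gc N1561
def N3213 : Q := sm gf N1561
def N3214 : Q := sm gg N1561
def N3215 : Q := sm gb N1562
def N3217 : Q := sm ga N1564
def N3220 : Q := sm ga N1565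
def N3222 : Q := sm gf N1565
def N3224 : Q := sm gf N1566
def N3225 : Q := sm gg N1566
def N3226 : Q := sm gd N1567
def N3228 : Q := sm gg N1567
def N3229 : Q := sm gb N1568
def N3230 : Q := sm gg N1568
def N3231 : Q := sm gb N1569
def N3232 : Q := sm gf N1569
def N3233 : Q := sm gc N1570
def N3234 : Q := sm gf N1570
def N3235 : Q := sm gg N1570
def N3236 : Q := sm gb N1571
def N3238 : Q := sm gb N1572
def N3239 : Q := sm gf N1572
def N3240 : Q := sm ga N1573
def N3241 : Q := sm gc N1573
def N3242 : Q := sm gg N1573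
def N3244 : Q := sm ga N1575
def N3245 : Q := sm gc N1575
def N3248 : Q := sm gb N1577
def N3249 : Q := sm gd N1577
def N3250 : Q := sm gf N1577
def N3251 : Q := sm gg N1577
def N3252 : Q := sm gb N1578
def N3253 : Q := sm gg N1578
def N3254 : Q := sm gb N1579
def N3255 : Q := sm gf N1579
def N3256 : Q := sm ga N1580
def N3257 : Q := sm gc N1580
def N3258 : Q := sm gg N1580
def N3260 : Q := sm ga N1582
def N3261 : Q := sm gc N1582
def N3263 : Q := sm gb N1583
def N3264 : Q := sm gb N1584
def N3265 : Q := sm gc N1584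
def N3266 : Q := sm gd N1585
def N3268 : Q := sm gb N1586
def N3269 : Q := sm ga N1587
def N3270 : Q := sm gc N1587
def N3271 : Q := sm gf N1587
def N3272 : Q := sm gb N1588
def N3273 : Q := sm gc N1588
def N3274 : Q := sm gd N1589
def N3275 : Q := sm gf N1589
def N3276 : Q := sm gb N1590
def N3277 : Q := sm ga N1591
def N3279 : Q := sm gg N1591
def N3280 : Q := sm gb N1592
def N3281 : Q := sm gd N1592
def N3282 : Q := sm gf N1592
def N3283 : Q := sm gg N1592
def N3284 : Q := sm gb N1593
def N3285 : Q := sm gb N1594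
def N3288 : Q := sm gg N1595
def N3289 : Q := sm ga N1596
def N3291 : Q := sm gf N1596
def N3293 : Q := sm gc N1597
def N3294 : Q := sm gg N1597
def N3295 : Q := sm gd N1598
def N3298 : Q := sm gb N1600
def N3299 : Q := sm gc N1600
def N3300 : Q := sm gf N1600
def N3301 : Q := sm gd N1601
def N3302 : Q := sm gf N1601
def N3303 : Q := sm gg N1602
def N3304 : Q := sm ga N1603
def N3305 : Q := sm gf N1603
def N3306 : Q := sm gg N1603
def N3307 : Q := sm gb N1604
def N3308 : Q := sm gb N1605
def N3310 : Q := sm gc N1606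
def N3311 : Q := sm gg N1606
def N3312 : Q := sm ga N1607
def N3313 : Q := sm gc N1607
def N3314 : Q := sm gf N1607
def N3315 : Q := sm gb N1608
def N3317 : Q := sm gg N1608
def N3318 : Q := sm gd N1609
def N3319 : Q := sm gg N1609
def N3322 : Q := sm gc N1611
def N3323 : Q := sm gf N1611
def N3324 : Q := sm gd N1612
def N3325 : Q := sm gf N1612
def N3326 : Q := sm gg N1613
def N3327 : Q := sm ga N1614
def N3329 : Q := sm gf N1614
def N3330 : Q := sm gg N1614
def N3332 : Q := sm gd N1615
def N3334 : Q := sm gb N1616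
def N3335 : Q := sm gc N1617
def N3336 : Q := sm ge N1617
def N3337 : Q := sm gg N1617
def N3339 : Q := sm gb N1619
def N3340 : Q := sm ga N1620
def N3341 : Q := sm gc N1620
def N3342 : Q := sm gf N1620
def N3343 : Q := sm gg N1620
def N3344 : Q := sm gb N1621
def N3345 : Q := sm gd N1621
def N3347 : Q := sm gb N1622
def N3348 : Q := sm gc N1623
def N3349 : Q := sm ge N1623
def N3351 : Q := sm gg N1624
def N3352 : Q := sm gb N1625
def N3354 : Q := sm ge N1626
def N3357 : Q := sm gb N1628
def N3358 : Q := sm ge N1628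
def N3362 : Q := sm gg N1631
def N3363 : Q := sm gd N1632
def N3364 : Q := sm gc N1633
def N3365 : Q := sm gd N1633
def N3366 : Q := sm ge N1633
def N3369 : Q := sm gd N1634
def N3370 : Q := sm ge N1634
def N3371 : Q := sm gf N1634
def N3372 : Q := sm gg N1634
def N3373 : Q := sm gc N1635
def N3375 : Q := sm gf N1635
def N3376 : Q := sm gg N1635
def N3378 : Q := sm gf N1636
def N3379 : Q := sm gg N1636
def N3384 : Q := sm gb N1639
def N3386 : Q := sm ge N1639
def N3388 : Q := sm gg N1639
def N3389 : Q := sm gd N1640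
def N3390 : Q := sm gf N1640
def N3391 : Q := sm gg N1640
def N3395 : Q := sm gf N1643
def N3396 : Q := sm gg N1643
def N3406 : Q := sm gf N1648
def N3407 : Q := sm gg N1648
def N3409 : Q := sm gf N1649
def N3410 : Q := sm gg N1649
def N3411 : Q := sm gb N1650
def N3412 : Q := sm gg N1650
def N3413 : Q := sm gb N1651
def N3415 : Q := sm gc N1652
def N3416 : Q := sm gf N1652
def N3417 : Q := sm gg N1652
def N3418 : Q := sm gb N1653
def N3419 : Q := sm gg N1653
def N3420 : Q := sm gb N1654
def N3422 : Q := sm ga N1655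
def N3423 : Q := sm gc N1655
def N3430 : Q := sm gb N1659
def N3431 : Q := sm gd N1659
def N3432 : Q := sm gf N1659
def N3434 : Q := sm gb N1660
def N3435 : Q := sm gg N1660
def N3436 : Q := sm gb N1661
def N3437 : Q := sm gf N1661
def N3438 : Q := sm ga N1662
def N3439 : Q := sm gc N1662
def N3440 : Q := sm gg N1662
def N3442 : Q := sm ga N1664
def N3443 : Q := sm gc N1664
def N3447 : Q := sm gc N1666
def N3448 : Q := sm gd N1667
def N3449 : Q := sm gg N1667
def N3455 : Q := sm gc N1670
def N3456 : Q := sm gd N1671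
def N3462 : Q := sm gb N1674
def N3463 : Q := sm gd N1674
def N3465 : Q := sm gg N1674
def N3467 : Q := sm gg N1675
def N3468 : Q := sm gb N1676
def N3470 : Q := sm ga N1677
def N3473 : Q := sm gb N1678
def N3474 : Q := sm ga N1679
def N3476 : Q := sm gf N1679
def N3477 : Q := sm gb N1680
def N3478 : Q := sm gb N1681
def N3479 : Q := sm gc N1681
def N3481 : Q := sm gd N1682
def N3482 : Q := sm gg N1682
def N3484 : Q := sm gf N1683
def N3485 : Q := sm ga N1684
def N3486 : Q := sm gc N1684
def N3493 : Q := sm gb N1687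
def N3495 : Q := sm ga N1688
def N3496 : Q := sm gc N1688
def N3497 : Q := sm gg N1688
def N3498 : Q := sm ga N1689
def N3499 : Q := sm gf N1689
def N3500 : Q := sm gg N1689
def N3503 : Q := sm gb N1691
def N3507 : Q := sm gg N1692
def N3508 : Q := sm gb N1693
def N3509 : Q := sm ga N1694
def N3510 : Q := sm gc N1694
def N3511 : Q := sm gf N1694
def N3512 : Q := sm gb N1695
def N3513 : Q := sm gb N1696
def N3515 : Q := sm gg N1696
def N3517 : Q := sm gg N1697
def N3518 : Q := sm gb N1698
def N3520 : Q := sm ga N1699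
def N3521 : Q := sm gc N1699
def N3522 : Q := sm gf N1699
def N3524 : Q := sm gc N1700
def N3525 : Q := sm gf N1700
def N3526 : Q := sm gd N1701
def N3528 : Q := sm gb N1702
def N3530 : Q := sm ga N1703
def N3533 : Q := sm ga N1704
def N3535 : Q := sm gf N1704
def N3536 : Q := sm gg N1704
def N3539 : Q := sm gg N1705
def N3541 : Q := sm gc N1707
def N3543 : Q := sm gg N1707
def N3546 : Q := sm gc N1709
def N3547 : Q := sm gf N1709
def N3549 : Q := sm gb N1711
def N3551 : Q := sm gf N1711
def N3553 : Q := sm gf N1712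
def N3560 : Q := sm gd N1715
def N3564 : Q := sm ge N1717
def N3566 : Q := sm gb N1718
def N3567 : Q := sm gg N1718
def N3572 : Q := sm gb N1721
def N3577 : Q := sm gf N1723
def N3579 : Q := sm ge N1724
def N3580 : Q := sm gb N1725
def N3582 : Q := sm gd N1726
def N3586 : Q := sm gb N1728
def N3587 : Q := sm gd N1729
def N3588 : Q := sm gc N1731
def N3589 : Q := sm gb N1732
def N3595 : Q := sm ga N1736
def N3597 : Q := sm ge N1737
def N3600 : Q := sm gf N1738
def N3601 : Q := sm gg N1738
def N3602 : Q := sm ge N1739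
def N3603 : Q := sm gf N1739
def N3605 : Q := sm gd N1740
def N3606 : Q := sm gf N1740
def N3607 : Q := sm gg N1740
def N3608 : Q := sm gb N1741
def N3609 : Q := sm gb N1742
def N3610 : Q := sm ge N1743
def N3611 : Q := sm gf N1743
def N3612 : Q := sm gg N1743
def N3614 : Q := sm gf N1744
def N3615 : Q := sm gg N1744
def N3616 : Q := sm gb N1745
def N3617 : Q := sm gg N1745
def N3618 : Q := sm gb N1746
def N3620 : Q := sm gd N1747
def N3621 : Q := sm gf N1747
def N3622 : Q := sm gg N1747
def N3623 : Q := sm gb N1748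
def N3625 : Q := sm gb N1749
def N3626 : Q := sm gf N1749
def N3627 : Q := sm gc N1750
def N3628 : Q := sm gf N1750
def N3629 : Q := sm gg N1750
def N3630 : Q := sm gb N1751
def N3632 : Q := sm gb N1752
def N3633 : Q := sm gf N1752
def N3634 : Q := sm gg N1753
def N3635 : Q := sm gb N1754
def N3636 : Q := sm ga N1755
def N3637 : Q := sm gc N1755
def N3638 : Q := sm gf N1755
def N3639 : Q := sm gb N1756
def N3640 : Q := sm gc N1757
def N3641 : Q := sm gf N1757
def N3642 : Q := sm gg N1757
def N3643 : Q := sm gb N1758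
def N3644 : Q := sm gb N1759
def N3645 : Q := sm ga N1760
def N3646 : Q := sm gc N1760
def N3647 : Q := sm gg N1760
def N3648 : Q := sm ga N1761
def N3649 : Q := sm gc N1761
def N3650 : Q := sm gf N1761
def N3651 : Q := sm gb N1762
def N3652 : Q := sm gf N1762
def N3653 : Q := sm gg N1762
def N3654 : Q := sm gb N1763
def N3655 : Q := sm gb N1764
def N3656 : Q := sm ga N1765
def N3657 : Q := sm gc N1765
def N3658 : Q := sm gg N1765
def N3659 : Q := sm ga N1766
def N3660 : Q := sm gc N1766
def N3661 : Q := sm gf N1766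
def N3662 : Q := sm gb N1767
def N3663 : Q := sm gg N1767
def N3665 : Q := sm gg N1768
def N3666 : Q := sm gb N1770
def N3667 : Q := sm gc N1770
def N3668 : Q := sm gf N1770
def N3670 : Q := sm gf N1771
def N3671 : Q := sm gg N1772
def N3672 : Q := sm gb N1773
def N3673 : Q := sm gd N1773
def N3674 : Q := sm gf N1773
def N3675 : Q := sm gg N1773
def N3676 : Q := sm gb N1774
def N3677 : Q := sm gg N1774
def N3678 : Q := sm gb N1775
def N3679 : Q := sm gf N1775
def N3680 : Q := sm ga N1776
def N3681 : Q := sm gc N1776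
def N3682 : Q := sm gg N1776
def N3683 : Q := sm gb N1777
def N3684 : Q := sm ga N1778
def N3685 : Q := sm gc N1778
def N3686 : Q := sm gf N1778
def N3687 : Q := sm gb N1779
def N3688 : Q := sm gb N1780
def N3689 : Q := sm gc N1780
def N3690 : Q := sm gd N1781
def N3691 : Q := sm gg N1781
def N3692 : Q := sm gb N1782
def N3693 : Q := sm ga N1783
def N3694 : Q := sm gc N1783
def N3695 : Q := sm gf N1783
def N3696 : Q := sm gb N1784
def N3697 : Q := sm gc N1784
def N3698 : Q := sm gd N1785
def N3699 : Q := sm gf N1785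
def N3700 : Q := sm gb N1786
def N3701 : Q := sm ga N1787
def N3702 : Q := sm gc N1787
def N3703 : Q := sm gg N1787
def N3704 : Q := sm ga N1788
def N3705 : Q := sm gd N1788
def N3706 : Q := sm gf N1788
def N3707 : Q := sm gg N1788
def N3708 : Q := sm ge N1789
def N3709 : Q := sm gf N1789
def N3710 : Q := sm gg N1789
def N3711 : Q := sm gb N1790
def N3712 : Q := sm gg N1790
def N3713 : Q := sm gb N1791
def N3714 : Q := sm gf N1791
def N3715 : Q := sm ga N1792
def N3716 : Q := sm gc N1792
def N3717 : Q := sm gg N1792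
def N3718 : Q := sm gb N1793
def N3719 : Q := sm ga N1794
def N3720 : Q := sm gc N1794
def N3721 : Q := sm gf N1794
def N3722 : Q := sm gb N1795
def N3723 : Q := sm gb N1796
def N3724 : Q := sm gc N1796
def N3725 : Q := sm gd N1797
def N3726 : Q := sm gg N1797
def N3727 : Q := sm gb N1798
def N3728 : Q := sm ga N1799
def N3729 : Q := sm gc N1799
def N3730 : Q := sm gf N1799
def N3731 : Q := sm gb N1800
def N3732 : Q := sm gc N1800
def N3733 : Q := sm gd N1801
def N3734 : Q := sm gf N1801
def N3735 : Q := sm gb N1802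
def N3736 : Q := sm ga N1803
def N3737 : Q := sm gc N1803
def N3738 : Q := sm gg N1803
def N3739 : Q := sm ga N1804
def N3740 : Q := sm gc N1804
def N3741 : Q := sm gf N1804
def N3742 : Q := sm gg N1804
def N3743 : Q := sm gb N1805
def N3744 : Q := sm gd N1805
def N3745 : Q := sm gc N1806
def N3746 : Q := sm ge N1806
def N3747 : Q := sm gg N1806
def N3748 : Q := sm gb N1807
def N3749 : Q := sm ga N1808
def N3750 : Q := sm gc N1808
def N3751 : Q := sm gf N1808
def N3752 : Q := sm gb N1809
def N3753 : Q := sm gc N1809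
def N3754 : Q := sm gf N1809
def N3755 : Q := sm gd N1810
def N3756 : Q := sm gf N1810
def N3757 : Q := sm gg N1811
def N3758 : Q := sm ga N1812
def N3759 : Q := sm gc N1812
def N3760 : Q := sm gf N1812
def N3761 : Q := sm gg N1812
def N3762 : Q := sm gb N1813
def N3763 : Q := sm gd N1813
def N3764 : Q := sm gc N1814
def N3765 : Q := sm ge N1814
def N3766 : Q := sm gf N1814
def N3767 : Q := sm gb N1815
def N3768 : Q := sm ga N1816
def N3769 : Q := sm gc N1816
def N3770 : Q := sm gg N1816
def N3771 : Q := sm gb N1817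
def N3772 : Q := sm gc N1817
def N3773 : Q := sm gg N1817
def N3774 : Q := sm gd N1818
def N3775 : Q := sm gg N1818
def N3776 : Q := sm gf N1819
def N3777 : Q := sm ga N1820
def N3779 : Q := sm ge N1820
def N3780 : Q := sm gf N1820
def N3782 : Q := sm gd N1821
def N3787 : Q := sm gc N1824
def N3788 : Q := sm gf N1824
def N3789 : Q := sm gg N1824
def N3790 : Q := sm gb N1825
def N3791 : Q := sm gg N1825
def N3792 : Q := sm gb N1826
def N3794 : Q := sm ga N1827
def N3795 : Q := sm gc N1827
def N3798 : Q := sm ga N1829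
def N3799 : Q := sm gc N1829
def N3800 : Q := sm gf N1829
def N3802 : Q := sm gb N1831
def N3803 : Q := sm gd N1831
def N3808 : Q := sm ga N1834
def N3809 : Q := sm gc N1834
def N3810 : Q := sm gg N1834
def N3811 : Q := sm ga N1835
def N3812 : Q := sm gc N1835
def N3813 : Q := sm gf N1835
def N3815 : Q := sm gc N1836
def N3819 : Q := sm gf N1838
def N3820 : Q := sm gb N1839
def N3821 : Q := sm gc N1839
def N3822 : Q := sm gf N1839
def N3823 : Q := sm gd N1840
def N3826 : Q := sm ga N1842
def N3827 : Q := sm gd N1842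
def N3828 : Q := sm gf N1842
def N3829 : Q := sm gg N1842
def N3830 : Q := sm gf N1843
def N3831 : Q := sm gg N1843
def N3832 : Q := sm gb N1844
def N3833 : Q := sm gg N1844
def N3834 : Q := sm gb N1845
def N3835 : Q := sm gf N1845
def N3836 : Q := sm ga N1846
def N3837 : Q := sm gc N1846
def N3838 : Q := sm gg N1846
def N3839 : Q := sm gb N1847
def N3840 : Q := sm ga N1848
def N3841 : Q := sm gc N1848
def N3842 : Q := sm gf N1848
def N3843 : Q := sm gb N1849
def N3844 : Q := sm gb N1850
def N3845 : Q := sm gc N1850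
def N3846 : Q := sm gg N1850
def N3847 : Q := sm gd N1851
def N3848 : Q := sm gg N1851
def N3849 : Q := sm gb N1852
def N3850 : Q := sm gf N1852
def N3851 : Q := sm ga N1853
def N3852 : Q := sm gc N1853
def N3853 : Q := sm gf N1853
def N3854 : Q := sm gb N1854
def N3855 : Q := sm gc N1854
def N3856 : Q := sm gf N1854
def N3857 : Q := sm gd N1855
def N3858 : Q := sm gf N1855
def N3859 : Q := sm gb N1856
def N3860 : Q := sm gg N1856
def N3861 : Q := sm ga N1857
def N3862 : Q := sm gc N1857
def N3863 : Q := sm gg N1857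
def N3864 : Q := sm ga N1858
def N3865 : Q := sm gc N1858
def N3866 : Q := sm gf N1858
def N3867 : Q := sm gg N1858
def N3870 : Q := sm gg N1859
def N3871 : Q := sm gb N1860
def N3873 : Q := sm ge N1861
def N3874 : Q := sm gg N1861
def N3875 : Q := sm gb N1862
def N3876 : Q := sm gf N1862
def N3877 : Q := sm ga N1863
def N3878 : Q := sm gc N1863
def N3879 : Q := sm gf N1863
def N3881 : Q := sm gb N1865
def N3882 : Q := sm gc N1865
def N3883 : Q := sm gf N1865
def N3884 : Q := sm gd N1866
def N3885 : Q := sm gf N1866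
def N3886 : Q := sm gg N1867
def N3887 : Q := sm ga N1868
def N3888 : Q := sm gc N1868
def N3889 : Q := sm gf N1868
def N3890 : Q := sm gg N1868
def N3892 : Q := sm gd N1869
def N3893 : Q := sm gf N1869
def N3894 : Q := sm gb N1870
def N3895 : Q := sm gc N1871
def N3897 : Q := sm gf N1871
def N3898 : Q := sm gb N1872
def N3900 : Q := sm ga N1873
def N3901 : Q := sm gc N1873
def N3902 : Q := sm gg N1873
def N3903 : Q := sm gb N1874
def N3904 : Q := sm gb N1875
def N3905 : Q := sm gc N1875
def N3906 : Q := sm gg N1875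
def N3907 : Q := sm gd N1876
def N3908 : Q := sm gg N1876
def N3909 : Q := sm gf N1877
def N3910 : Q := sm gb N1878
def N3911 : Q := sm gf N1878
def N3912 : Q := sm gg N1878
def N3913 : Q := sm gb N1879
def N3914 : Q := sm gg N1879
def N3915 : Q := sm gb N1880
def N3916 : Q := sm gf N1880
def N3917 : Q := sm ga N1881
def N3918 : Q := sm gc N1881
def N3919 : Q := sm gg N1881
def N3920 : Q := sm gb N1882
def N3921 : Q := sm ga N1883
def N3922 : Q := sm gc N1883
def N3923 : Q := sm gf N1883
def N3924 : Q := sm gb N1884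
def N3925 : Q := sm gb N1885
def N3926 : Q := sm gc N1885
def N3927 : Q := sm gg N1885
def N3928 : Q := sm gd N1886
def N3929 : Q := sm gg N1886
def N3930 : Q := sm gb N1887
def N3931 : Q := sm gf N1887
def N3932 : Q := sm ga N1888
def N3933 : Q := sm gc N1888
def N3934 : Q := sm gf N1888
def N3935 : Q := sm gb N1889
def N3936 : Q := sm gc N1889
def N3937 : Q := sm gf N1889
def N3938 : Q := sm gd N1890
def N3939 : Q := sm gf N1890
def N3940 : Q := sm gb N1891
def N3941 : Q := sm gg N1891
def N3942 : Q := sm ga N1892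
def N3943 : Q := sm gc N1892
def N3944 : Q := sm gg N1892
def N3945 : Q := sm ga N1893
def N3946 : Q := sm gc N1893
def N3947 : Q := sm gf N1893
def N3948 : Q := sm gg N1893
def N3949 : Q := sm gb N1894
def N3950 : Q := sm gd N1894
def N3951 : Q := sm gg N1894
def N3952 : Q := sm gb N1895
def N3953 : Q := sm gc N1896
def N3954 : Q := sm ge N1896
def N3955 : Q := sm gg N1896
def N3956 : Q := sm gb N1897
def N3957 : Q := sm gf N1897
def N3958 : Q := sm ga N1898
def N3959 : Q := sm gc N1898
def N3961 : Q := sm gb N1899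
def N3962 : Q := sm gb N1900
def N3963 : Q := sm gc N1900
def N3964 : Q := sm gf N1900
def N3965 : Q := sm gd N1901
def N3966 : Q := sm gf N1901
def N3967 : Q := sm gg N1902
def N3968 : Q := sm ga N1903
def N3969 : Q := sm gc N1903
def N3970 : Q := sm gf N1903
def N3971 : Q := sm gg N1903
def N3972 : Q := sm gb N1904
def N3973 : Q := sm gd N1904
def N3974 : Q := sm gf N1904
def N3975 : Q := sm gb N1905
def N3976 : Q := sm gc N1906
def N3977 : Q := sm ge N1906
def N3978 : Q := sm gf N1906
def N3979 : Q := sm gb N1907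
def N3980 : Q := sm gg N1907
def N3981 : Q := sm ga N1908
def N3982 : Q := sm gc N1908
def N3983 : Q := sm gg N1908
def N3984 : Q := sm gb N1909
def N3985 : Q := sm gb N1910
def N3986 : Q := sm gc N1910
def N3987 : Q := sm gg N1910
def N3988 : Q := sm gd N1911
def N3989 : Q := sm gg N1911
def N3990 : Q := sm gf N1912
def N3991 : Q := sm gc N1913
def N3992 : Q := sm gf N1913
def N3993 : Q := sm gg N1913
def N3994 : Q := sm gb N1914
def N3995 : Q := sm gd N1914
def N3996 : Q := sm gf N1914
def N3997 : Q := sm gg N1914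
def N3998 : Q := sm gg N1915
def N3999 : Q := sm gb N1916
def N4000 : Q := sm gf N1916
def N4001 : Q := sm ga N1917
def N4002 : Q := sm gd N1917
def N4003 : Q := sm gf N1917
def N4004 : Q := sm gg N1917
def N4005 : Q := sm gc N1918
def N4006 : Q := sm ge N1918
def N4007 : Q := sm gg N1918
def N4008 : Q := sm gb N1919
def N4009 : Q := sm ga N1920
def N4011 : Q := sm gf N1920
def N4012 : Q := sm gd N1921
def N4013 : Q := sm ge N1921
def N4014 : Q := sm gg N1921
def N4015 : Q := sm gg N1922
def N4016 : Q := sm gb N1923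
def N4017 : Q := sm gf N1923
def N4018 : Q := sm ga N1924
def N4019 : Q := sm gf N1924
def N4020 : Q := sm gb N1925
def N4021 : Q := sm gb N1926
def N4022 : Q := sm gc N1926
def N4023 : Q := sm gd N1927
def N4025 : Q := sm gb N1928
def N4026 : Q := sm ga N1929
def N4027 : Q := sm gc N1929
def N4028 : Q := sm gg N1929
def N4029 : Q := sm ga N1930
def N4030 : Q := sm gc N1930
def N4031 : Q := sm gf N1930
def N4032 : Q := sm gg N1930
def N4033 : Q := sm gb N1931
def N4034 : Q := sm gd N1931
def N4035 : Q := sm gf N1931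
def N4036 : Q := sm gb N1932
def N4037 : Q := sm gc N1933
def N4038 : Q := sm ge N1933
def N4039 : Q := sm gf N1933
def N4040 : Q := sm gg N1934
def N4041 : Q := sm gb N1935
def N4042 : Q := sm gc N1936
def N4043 : Q := sm gf N1936
def N4044 : Q := sm gg N1936
def N4045 : Q := sm gb N1937
def N4047 : Q := sm gf N1937
def N4048 : Q := sm gg N1937
def N4049 : Q := sm gb N1938
def N4050 : Q := sm gg N1938
def N4051 : Q := sm gf N1939
def N4052 : Q := sm ga N1940
def N4053 : Q := sm gd N1940
def N4054 : Q := sm gf N1940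
def N4055 : Q := sm gg N1940
def N4056 : Q := sm gc N1941
def N4057 : Q := sm ge N1941
def N4058 : Q := sm gf N1941
def N4059 : Q := sm ga N1943
def N4060 : Q := sm gb N1944
def N4061 : Q := sm gd N1944
def N4062 : Q := sm ge N1944
def N4063 : Q := sm gf N1944
def N4064 : Q := sm gf N1945
def N4065 : Q := sm gb N1946
def N4066 : Q := sm gg N1946
def N4067 : Q := sm ga N1947
def N4068 : Q := sm gg N1947
def N4069 : Q := sm gb N1948
def N4070 : Q := sm gb N1949
def N4071 : Q := sm gc N1949
def N4072 : Q := sm gd N1950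
def N4073 : Q := sm gg N1950
def N4074 : Q := sm gb N1951
def N4075 : Q := sm ga N1952
def N4076 : Q := sm gc N1952
def N4077 : Q := sm gf N1952
def N4078 : Q := sm ga N1953
def N4079 : Q := sm gc N1953
def N4080 : Q := sm gf N1953
def N4081 : Q := sm gg N1953
def N4082 : Q := sm gb N1954
def N4083 : Q := sm gd N1954
def N4084 : Q := sm gg N1954
def N4085 : Q := sm gb N1955
def N4086 : Q := sm gc N1956
def N4087 : Q := sm ge N1956
def N4088 : Q := sm gg N1956
def N4089 : Q := sm gf N1957
def N4090 : Q := sm gb N1958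
def N4091 : Q := sm gb N1959
def N4092 : Q := sm ge N1959
def N4093 : Q := sm gg N1959
def N4094 : Q := sm gg N1960
def N4095 : Q := sm gb N1961
def N4096 : Q := sm ga N1962
def N4097 : Q := sm gf N1962
def N4098 : Q := sm gc N1963
def N4099 : Q := sm ge N1963
def N4100 : Q := sm ga N1964
def N4101 : Q := sm gd N1964
def N4102 : Q := sm gf N1964
def N4103 : Q := sm gg N1964
def N4104 : Q := sm gc N1965
def N4105 : Q := sm ge N1965
def N4106 : Q := sm gb N1966
def N4107 : Q := sm ge N1966
def N4108 : Q := sm gf N1966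
def N4109 : Q := sm gf N1967
def N4110 : Q := sm gb N1968
def N4111 : Q := sm ga N1969
def N4112 : Q := sm gg N1969
def N4113 : Q := sm gc N1970
def N4114 : Q := sm ge N1970
def N4115 : Q := sm gb N1971
def N4116 : Q := sm ga N1972
def N4117 : Q := sm gc N1972
def N4118 : Q := sm gf N1972
def N4119 : Q := sm gb N1973
def N4121 : Q := sm gb N1976
def N4123 : Q := sm gf N1976
def N4127 : Q := sm gf N1977
def N4128 : Q := sm gg N1977
def N4130 : Q := sm gf N1979
def N4131 : Q := sm ga N1981
def N4133 : Q := sm gf N1981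
def N4134 : Q := sm gg N1981
def N4137 : Q := sm gb N1983
def N4138 : Q := sm gb N1984
def N4139 : Q := sm ga N1985
def N4140 : Q := sm gc N1985
def N4141 : Q := sm gg N1985
def N4142 : Q := sm gb N1986
def N4143 : Q := sm gg N1986
def N4144 : Q := sm gf N1987
def N4149 : Q := sm gd N1990
def N4150 : Q := sm ga N1991
def N4151 : Q := sm ge N1991
def N4152 : Q := sm gf N1991
def N4153 : Q := sm gg N1991
def N4154 : Q := sm gd N1992
def N4157 : Q := sm ge N1993
def N4164 : Q := sm gd N1995
def N4165 : Q := sm gf N1995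
def N4166 : Q := sm gg N1995
def N4169 : Q := sm gd N1998
def N4170 : Q := sm gc N1999
def N4171 : Q := sm gb N2000
def N4172 : Q := sm gd N2000
def N4173 : Q := sm ge N2000
def N4174 : Q := sm gf N2000
def N4175 : Q := sm gg N2000
def N4176 : Q := sm gd N2001
def N4180 : Q := sm gg N2002
def N4182 : Q := sm gc N2004
def N4183 : Q := sm gf N2004
def N4184 : Q := sm gg N2004
def N4187 : Q := sm gb N2006
def N4189 : Q := sm gc N2007
def N4190 : Q := sm gg N2007
def N4192 : Q := sm ga N2009
def N4193 : Q := sm gc N2009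
def N4194 : Q := sm gf N2009
def N4195 : Q := sm ge N2010
def N4196 : Q := sm gf N2010
def N4197 : Q := sm gg N2010
def N4198 : Q := sm gd N2011
def N4199 : Q := sm gf N2011
def N4200 : Q := sm gg N2011
def N4201 : Q := sm gb N2012
def N4204 : Q := sm gc N2014
def N4205 : Q := sm gf N2014
def N4206 : Q := sm gg N2014
def N4207 : Q := sm gb N2015
def N4208 : Q := sm gg N2015
def N4209 : Q := sm gb N2016
def N4210 : Q := sm ga N2017
def N4211 : Q := sm gc N2017
def N4212 : Q := sm gg N2017
def N4214 : Q := sm ga N2019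
def N4215 : Q := sm gc N2019
def N4216 : Q := sm gf N2019
def N4217 : Q := sm gb N2020
def N4218 : Q := sm gd N2020
def N4219 : Q := sm gf N2020
def N4220 : Q := sm gg N2020
def N4221 : Q := sm gb N2021
def N4222 : Q := sm gg N2021
def N4223 : Q := sm gb N2022
def N4224 : Q := sm ga N2023
def N4225 : Q := sm gc N2023
def N4226 : Q := sm gg N2023
def N4227 : Q := sm gb N2024
def N4228 : Q := sm ga N2025
def N4230 : Q := sm gf N2025
def N4231 : Q := sm gd N2027
def N4232 : Q := sm gg N2027
def N4233 : Q := sm gc N2029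
def N4234 : Q := sm gc N2030
def N4236 : Q := sm gf N2031
def N4237 : Q := sm gb N2033
def N4238 : Q := sm gd N2033
def N4239 : Q := sm gf N2033
def N4240 : Q := sm gg N2033
def N4241 : Q := sm gb N2034
def N4242 : Q := sm gb N2035
def N4243 : Q := sm ga N2036
def N4245 : Q := sm gg N2036
def N4246 : Q := sm ga N2037
def N4247 : Q := sm gc N2037
def N4249 : Q := sm gb N2038
def N4251 : Q := sm gg N2038
def N4253 : Q := sm gg N2039
def N4254 : Q := sm gf N2040
def N4255 : Q := sm gb N2041
def N4256 : Q := sm gc N2041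
def N4257 : Q := sm gf N2041
def N4258 : Q := sm gd N2042
def N4259 : Q := sm gf N2042
def N4260 : Q := sm gg N2043
def N4261 : Q := sm ga N2044
def N4262 : Q := sm gd N2044
def N4263 : Q := sm gf N2044
def N4264 : Q := sm gg N2044
def N4265 : Q := sm ge N2045
def N4266 : Q := sm gf N2045
def N4267 : Q := sm gg N2045
def N4268 : Q := sm gb N2046
def N4269 : Q := sm gb N2047
def N4270 : Q := sm ga N2048
def N4271 : Q := sm gc N2048
def N4272 : Q := sm gg N2048
def N4273 : Q := sm ga N2049
def N4274 : Q := sm gc N2049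
def N4275 : Q := sm gf N2049
def N4276 : Q := sm gb N2050
def N4277 : Q := sm gc N2050
def N4278 : Q := sm gg N2050
def N4279 : Q := sm gd N2051
def N4280 : Q := sm gg N2051
def N4281 : Q := sm gf N2052
def N4283 : Q := sm gc N2053
def N4284 : Q := sm gf N2053
def N4286 : Q := sm gf N2054
def N4287 : Q := sm gg N2055
def N4288 : Q := sm gc N2056
def N4290 : Q := sm gg N2057
def N4293 : Q := sm gg N2059
def N4294 : Q := sm gb N2060
def N4295 : Q := sm gf N2060
def N4296 : Q := sm gc N2062
def N4297 : Q := sm gb N2063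
def N4298 : Q := sm gd N2063
def N4300 : Q := sm gc N2065
def N4302 : Q := sm gf N2065
def N4303 : Q := sm gb N2066
def N4304 : Q := sm gg N2066
def N4305 : Q := sm ga N2068
def N4306 : Q := sm gd N2068
def N4307 : Q := sm gf N2068
def N4308 : Q := sm gg N2068
def N4309 : Q := sm ge N2069
def N4310 : Q := sm gf N2069
def N4311 : Q := sm gg N2069
def N4312 : Q := sm gb N2070
def N4313 : Q := sm gg N2070
def N4314 : Q := sm gb N2071
def N4315 : Q := sm gf N2071
def N4316 : Q := sm ga N2072
def N4317 : Q := sm gc N2072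
def N4318 : Q := sm gg N2072
def N4319 : Q := sm gb N2073
def N4320 : Q := sm ga N2074
def N4321 : Q := sm gc N2074
def N4322 : Q := sm gf N2074
def N4323 : Q := sm gb N2075
def N4325 : Q := sm gc N2076
def N4326 : Q := sm gd N2077
def N4327 : Q := sm gg N2077
def N4328 : Q := sm gb N2078
def N4329 : Q := sm ga N2079
def N4330 : Q := sm gc N2079
def N4331 : Q := sm gf N2079
def N4332 : Q := sm gb N2080
def N4333 : Q := sm gc N2080
def N4334 : Q := sm gd N2081
def N4336 : Q := sm gb N2082
def N4337 : Q := sm ga N2083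
def N4338 : Q := sm gc N2083
def N4339 : Q := sm gg N2083
def N4342 : Q := sm gg N2084
def N4343 : Q := sm gb N2085
def N4344 : Q := sm gd N2085
def N4345 : Q := sm gc N2086
def N4346 : Q := sm ge N2086
def N4348 : Q := sm gb N2087
def N4349 : Q := sm ga N2088
def N4350 : Q := sm gc N2088
def N4351 : Q := sm gf N2088
def N4352 : Q := sm gb N2089
def N4353 : Q := sm gc N2089
def N4354 : Q := sm gd N2090
def N4355 : Q := sm gf N2090
def N4356 : Q := sm gg N2091
def N4361 : Q := sm gd N2093
def N4362 : Q := sm gc N2094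
def N4363 : Q := sm ge N2094
def N4364 : Q := sm gf N2094
def N4365 : Q := sm gb N2095
def N4366 : Q := sm ga N2096
def N4367 : Q := sm gc N2096
def N4368 : Q := sm gg N2096
def N4369 : Q := sm gb N2097
def N4370 : Q := sm gc N2097
def N4371 : Q := sm gd N2098
def N4372 : Q := sm gg N2098
def N4374 : Q := sm gb N2100
def N4375 : Q := sm gd N2100
def N4376 : Q := sm gf N2100
def N4377 : Q := sm gg N2100
def N4378 : Q := sm ge N2101
def N4379 : Q := sm gf N2101
def N4380 : Q := sm gg N2101
def N4381 : Q := sm gb N2102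
def N4382 : Q := sm gg N2102
def N4383 : Q := sm gb N2103
def N4384 : Q := sm gf N2103
def N4385 : Q := sm gb N2104
def N4386 : Q := sm ge N2104
def N4387 : Q := sm gf N2104
def N4388 : Q := sm gg N2104
def N4389 : Q := sm gf N2105
def N4390 : Q := sm gg N2105
def N4391 : Q := sm gb N2106
def N4392 : Q := sm gg N2106
def N4393 : Q := sm gb N2107
def N4394 : Q := sm gf N2107
def N4395 : Q := sm ga N2108
def N4396 : Q := sm gc N2108
def N4397 : Q := sm gg N2108
def N4398 : Q := sm gb N2109
def N4399 : Q := sm ga N2110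
def N4400 : Q := sm gc N2110
def N4401 : Q := sm gf N2110
def N4402 : Q := sm gb N2111
def N4403 : Q := sm gb N2112
def N4404 : Q := sm gc N2112
def N4405 : Q := sm gd N2113
def N4406 : Q := sm gg N2113
def N4407 : Q := sm gb N2114
def N4408 : Q := sm ga N2115
def N4409 : Q := sm gc N2115
def N4410 : Q := sm gf N2115
def N4411 : Q := sm gb N2116
def N4412 : Q := sm gc N2116
def N4413 : Q := sm gd N2117
def N4415 : Q := sm gb N2118
def N4416 : Q := sm ga N2119
def N4417 : Q := sm gc N2119
def N4418 : Q := sm gg N2119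
def N4419 : Q := sm ga N2120
def N4420 : Q := sm gg N2120
def N4421 : Q := sm gd N2121
def N4422 : Q := sm gc N2122
def N4423 : Q := sm ge N2122
def N4424 : Q := sm gg N2122
def N4425 : Q := sm gb N2123
def N4426 : Q := sm ga N2124
def N4427 : Q := sm gc N2124
def N4428 : Q := sm gf N2124
def N4429 : Q := sm gb N2125
def N4430 : Q := sm gc N2125
def N4431 : Q := sm gd N2126
def N4432 : Q := sm gf N2126
def N4433 : Q := sm gg N2127
def N4437 : Q := sm gb N2129
def N4438 : Q := sm gd N2129
def N4439 : Q := sm gc N2130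
def N4440 : Q := sm ge N2130
def N4441 : Q := sm gf N2130
def N4442 : Q := sm gb N2131
def N4443 : Q := sm ga N2132
def N4444 : Q := sm gc N2132
def N4445 : Q := sm gg N2132
def N4446 : Q := sm gb N2133
def N4447 : Q := sm gc N2133
def N4448 : Q := sm gd N2134
def N4449 : Q := sm gg N2134
def N4451 : Q := sm gc N2138
def N4452 : Q := sm ge N2138
def N4454 : Q := sm gd N2139
def N4455 : Q := sm ge N2139
def N4456 : Q := sm gg N2139
def N4457 : Q := sm gg N2140
def N4458 : Q := sm gb N2141
def N4459 : Q := sm ga N2142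
def N4460 : Q := sm gc N2142
def N4461 : Q := sm gf N2142
def N4462 : Q := sm gc N2143
def N4463 : Q := sm gd N2144
def N4465 : Q := sm gc N2146
def N4466 : Q := sm gb N2147
def N4467 : Q := sm gd N2147
def N4468 : Q := sm gc N2148
def N4469 : Q := sm ge N2148
def N4470 : Q := sm gf N2148
def N4471 : Q := sm gb N2149
def N4477 : Q := sm ga N2155
def N4478 : Q := sm gd N2155
def N4479 : Q := sm gf N2155
def N4480 : Q := sm gg N2155
def N4481 : Q := sm gc N2156
def N4482 : Q := sm ge N2156
def N4484 : Q := sm gd N2157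
def N4485 : Q := sm ge N2157
def N4486 : Q := sm gf N2157
def N4487 : Q := sm gf N2158
def N4488 : Q := sm gb N2159
def N4489 : Q := sm ga N2160
def N4490 : Q := sm gc N2160
def N4491 : Q := sm gg N2160
def N4492 : Q := sm gc N2161
def N4493 : Q := sm gd N2162
def N4495 : Q := sm gc N2164
def N4496 : Q := sm gb N2165
def N4497 : Q := sm gd N2165
def N4498 : Q := sm gc N2166
def N4499 : Q := sm ge N2166
def N4502 : Q := sm gf N2167
def N4503 : Q := sm gb N2169
def N4504 : Q := sm gd N2169
def N4505 : Q := sm gf N2169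
def N4506 : Q := sm gg N2169
def N4507 : Q := sm gc N2170
def N4508 : Q := sm gf N2170
def N4509 : Q := sm gg N2170
def N4510 : Q := sm gb N2171
def N4511 : Q := sm gg N2171
def N4512 : Q := sm gb N2172
def N4513 : Q := sm gf N2172
def N4514 : Q := sm gb N2173
def N4515 : Q := sm gb N2174
def N4516 : Q := sm ga N2175
def N4517 : Q := sm gc N2175
def N4518 : Q := sm gg N2175
def N4519 : Q := sm ga N2176
def N4520 : Q := sm gc N2176
def N4521 : Q := sm gf N2176
def N4522 : Q := sm gb N2177
def N4523 : Q := sm gc N2177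
def N4524 : Q := sm gg N2177
def N4525 : Q := sm gd N2178
def N4526 : Q := sm gg N2178
def N4527 : Q := sm gf N2179
def N4528 : Q := sm gb N2180
def N4529 : Q := sm gc N2180
def N4530 : Q := sm gf N2180
def N4531 : Q := sm gd N2181
def N4532 : Q := sm gf N2181
def N4533 : Q := sm gg N2182
def N4534 : Q := sm ga N2183
def N4535 : Q := sm gc N2183
def N4536 : Q := sm gf N2183
def N4537 : Q := sm gg N2183
def N4539 : Q := sm gd N2184
def N4540 : Q := sm gg N2184
def N4541 : Q := sm gb N2185
def N4542 : Q := sm gc N2186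
def N4543 : Q := sm ge N2186
def N4544 : Q := sm gg N2186
def N4545 : Q := sm gb N2187
def N4547 : Q := sm gb N2188
def N4548 : Q := sm ga N2189
def N4550 : Q := sm gf N2189
def N4551 : Q := sm gg N2189
def N4553 : Q := sm gd N2190
def N4554 : Q := sm gf N2190
def N4555 : Q := sm gb N2191
def N4556 : Q := sm gc N2192
def N4557 : Q := sm ge N2192
def N4558 : Q := sm gf N2192
def N4559 : Q := sm gb N2193
def N4560 : Q := sm gg N2193
def N4561 : Q := sm gb N2194
def N4562 : Q := sm gc N2195
def N4565 : Q := sm gd N2196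
def N4566 : Q := sm gf N2196
def N4567 : Q := sm gg N2196
def N4569 : Q := sm gb N2198
def N4571 : Q := sm ga N2199
def N4573 : Q := sm gf N2199
def N4574 : Q := sm gg N2199
def N4575 : Q := sm ge N2200
def N4577 : Q := sm gb N2201
def N4578 : Q := sm ga N2202
def N4579 : Q := sm gc N2202
def N4580 : Q := sm gb N2203
def N4581 : Q := sm ge N2203
def N4582 : Q := sm gg N2203
def N4585 : Q := sm gf N2205
def N4586 : Q := sm ga N2206
def N4588 : Q := sm gb N2207
def N4589 : Q := sm gc N2208
def N4590 : Q := sm gg N2208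
def N4591 : Q := sm gc N2209
def N4592 : Q := sm gf N2209
def N4593 : Q := sm gb N2210
def N4594 : Q := sm gd N2210
def N4595 : Q := sm gf N2210
def N4596 : Q := sm gg N2210
def N4597 : Q := sm gb N2211
def N4600 : Q := sm ga N2213
def N4601 : Q := sm gd N2213
def N4602 : Q := sm gf N2213
def N4603 : Q := sm gg N2213
def N4605 : Q := sm gf N2214
def N4606 : Q := sm gb N2215
def N4607 : Q := sm ga N2216
def N4608 : Q := sm gc N2216
def N4609 : Q := sm gb N2217
def N4611 : Q := sm gf N2217
def N4612 : Q := sm gf N2218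
def N4613 : Q := sm gb N2219
def N4615 : Q := sm ga N2220
def N4616 : Q := sm gg N2220
def N4619 : Q := sm gf N2222
def N4620 : Q := sm ga N2223
def N4621 : Q := sm gc N2223
def N4622 : Q := sm gf N2223
def N4623 : Q := sm gg N2223
def N4624 : Q := sm gb N2224
def N4625 : Q := sm gb N2225
def N4626 : Q := sm ga N2226
def N4627 : Q := sm gc N2226
def N4628 : Q := sm gg N2226
def N4629 : Q := sm gb N2227
def N4630 : Q := sm ga N2228
def N4631 : Q := sm gc N2228
def N4632 : Q := sm gf N2228
def N4633 : Q := sm gb N2229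
def N4634 : Q := sm gb N2230
def N4635 : Q := sm gc N2230
def N4636 : Q := sm gg N2230
def N4637 : Q := sm gd N2231
def N4638 : Q := sm gg N2231
def N4639 : Q := sm gf N2232
def N4640 : Q := sm gb N2233
def N4641 : Q := sm gc N2233
def N4642 : Q := sm gf N2233
def N4643 : Q := sm gd N2234
def N4644 : Q := sm gf N2234
def N4645 : Q := sm gg N2235
def N4646 : Q := sm ga N2236
def N4647 : Q := sm gc N2236
def N4648 : Q := sm gf N2236
def N4649 : Q := sm gg N2236
def N4650 : Q := sm gb N2237
def N4651 : Q := sm gd N2237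
def N4652 : Q := sm gg N2237
def N4653 : Q := sm gb N2238
def N4654 : Q := sm gc N2239
def N4655 : Q := sm ge N2239
def N4656 : Q := sm gg N2239
def N4657 : Q := sm gb N2240
def N4658 : Q := sm gf N2240
def N4659 : Q := sm gb N2241
def N4660 : Q := sm ga N2242
def N4661 : Q := sm gc N2242
def N4662 : Q := sm gf N2242
def N4664 : Q := sm gb N2243
def N4665 : Q := sm gd N2243
def N4666 : Q := sm gf N2243
def N4667 : Q := sm gb N2244
def N4668 : Q := sm gc N2245
def N4669 : Q := sm ge N2245
def N4670 : Q := sm gf N2245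
def N4671 : Q := sm gb N2246
def N4672 : Q := sm gg N2246
def N4673 : Q := sm gb N2247
def N4676 : Q := sm gb N2249
def N4678 : Q := sm gf N2249
def N4679 : Q := sm gg N2249
def N4680 : Q := sm gg N2250
def N4681 : Q := sm gb N2251
def N4683 : Q := sm ga N2252
def N4684 : Q := sm gd N2252
def N4685 : Q := sm gg N2252
def N4686 : Q := sm gc N2253
def N4687 : Q := sm ge N2253
def N4688 : Q := sm gg N2253
def N4689 : Q := sm gb N2254
def N4690 : Q := sm ga N2255
def N4691 : Q := sm gc N2255
def N4692 : Q := sm gb N2256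
def N4693 : Q := sm gd N2256
def N4694 : Q := sm ge N2256
def N4695 : Q := sm gg N2256
def N4696 : Q := sm gg N2257
def N4697 : Q := sm gb N2258
def N4698 : Q := sm gf N2258
def N4699 : Q := sm ga N2259
def N4700 : Q := sm gf N2259
def N4701 : Q := sm gb N2260
def N4702 : Q := sm gc N2261
def N4704 : Q := sm gc N2262
def N4706 : Q := sm gb N2263
def N4707 : Q := sm gd N2263
def N4710 : Q := sm gb N2264
def N4711 : Q := sm gg N2264
def N4713 : Q := sm ga N2266
def N4714 : Q := sm gd N2266
def N4715 : Q := sm gf N2266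
def N4716 : Q := sm gg N2266
def N4717 : Q := sm gc N2267
def N4718 : Q := sm ge N2267
def N4719 : Q := sm gf N2267
def N4720 : Q := sm gb N2268
def N4721 : Q := sm ga N2269
def N4722 : Q := sm gc N2269
def N4723 : Q := sm gb N2270
def N4724 : Q := sm gd N2270
def N4725 : Q := sm ge N2270
def N4726 : Q := sm gf N2270
def N4727 : Q := sm gf N2271
def N4728 : Q := sm gb N2272
def N4729 : Q := sm gg N2272
def N4730 : Q := sm ga N2273
def N4731 : Q := sm gg N2273
def N4732 : Q := sm gb N2274
def N4733 : Q := sm gc N2275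
def N4734 : Q := sm gf N2275
def N4737 : Q := sm gg N2276
def N4740 : Q := sm gg N2278
def N4741 : Q := sm gc N2279
def N4743 : Q := sm gf N2279
def N4744 : Q := sm gg N2279
def N4745 : Q := sm gg N2280
def N4746 : Q := sm gb N2281
def N4748 : Q := sm gc N2283
def N4749 : Q := sm gb N2285
def N4750 : Q := sm gd N2285
def N4751 : Q := sm gg N2285
def N4752 : Q := sm gc N2286
def N4753 : Q := sm ge N2286
def N4754 : Q := sm gg N2286
def N4755 : Q := sm gb N2287
def N4756 : Q := sm gb N2288
def N4757 : Q := sm ge N2288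
def N4758 : Q := sm gg N2288
def N4759 : Q := sm gg N2289
def N4760 : Q := sm gb N2290
def N4761 : Q := sm ga N2291
def N4762 : Q := sm gc N2291
def N4763 : Q := sm gf N2291
def N4764 : Q := sm gc N2292
def N4765 : Q := sm gd N2293
def N4767 : Q := sm gg N2294
def N4769 : Q := sm gg N2295
def N4770 : Q := sm gb N2296
def N4772 : Q := sm gb N2297
def N4773 : Q := sm gf N2297
def N4774 : Q := sm ga N2298
def N4775 : Q := sm gc N2298
def N4776 : Q := sm gf N2298
def N4778 : Q := sm gb N2301
def N4780 : Q := sm gc N2302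
def N4781 : Q := sm gd N2303
def N4782 : Q := sm gg N2303
def N4784 : Q := sm gb N2305
def N4787 : Q := sm ga N2307
def N4788 : Q := sm gd N2307
def N4789 : Q := sm gf N2307
def N4790 : Q := sm gg N2307
def N4792 : Q := sm ge N2308
def N4793 : Q := sm gf N2308
def N4794 : Q := sm gg N2308
def N4796 : Q := sm gg N2309
def N4801 : Q := sm gd N2314
def N4802 : Q := sm gf N2314
def N4803 : Q := sm gg N2314
def N4804 : Q := sm gc N2315
def N4805 : Q := sm ge N2315
def N4806 : Q := sm gf N2315
def N4807 : Q := sm gg N2315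
def N4808 : Q := sm gb N2316
def N4809 : Q := sm gg N2316
def N4810 : Q := sm gf N2317
def N4811 : Q := sm gb N2318
def N4812 : Q := sm ge N2318
def N4813 : Q := sm gf N2318
def N4814 : Q := sm gf N2319
def N4815 : Q := sm gb N2320
def N4816 : Q := sm ga N2321
def N4817 : Q := sm gc N2321
def N4818 : Q := sm gg N2321
def N4820 : Q := sm gd N2323
def N4821 : Q := sm ga N2324
def N4822 : Q := sm gd N2324
def N4823 : Q := sm ge N2324
def N4826 : Q := sm ge N2325
def N4827 : Q := sm gf N2325
def N4828 : Q := sm gd N2326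
def N4829 : Q := sm gf N2326
def N4831 : Q := sm gg N2327
def N4832 : Q := sm gb N2328
def N4833 : Q := sm gg N2328
def N4834 : Q := sm ga N2329
def N4835 : Q := sm gc N2329
def N4839 : Q := sm gb N2332
def N4841 : Q := sm gc N2333
def N4842 : Q := sm gf N2333
def N4843 : Q := sm gd N2334
def N4847 : Q := sm gf N2336
def N4850 : Q := sm ge N2337
def N4853 : Q := sm gf N2338
def N4856 : Q := sm ge N2339
def N4857 : Q := sm gf N2339
def N4861 : Q := sm gb N2342
def N4862 : Q := sm ge N2342
def N4863 : Q := sm ga N2344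
def N4864 : Q := sm ge N2344
def N4865 : Q := sm gf N2344
def N4866 : Q := sm gg N2344
def N4867 : Q := sm gd N2345
def N4868 : Q := sm gg N2345
def N4869 : Q := sm gb N2346
def N4870 : Q := sm gf N2346
def N4871 : Q := sm gb N2347
def N4872 : Q := sm gf N2347
def N4873 : Q := sm ga N2348
def N4874 : Q := sm gc N2348
def N4875 : Q := sm gf N2348
def N4876 : Q := sm gb N2349
def N4877 : Q := sm gb N2350
def N4878 : Q := sm gf N2350
def N4879 : Q := sm gb N2351
def N4880 : Q := sm gg N2351
def N4881 : Q := sm ga N2352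
def N4882 : Q := sm gg N2352
def N4883 : Q := sm ga N2353
def N4888 : Q := sm ge N2354
def N4889 : Q := sm gb N2355
def N4891 : Q := sm gf N2355
def N4892 : Q := sm gg N2355
def N4894 : Q := sm ge N2356
def N4895 : Q := sm gf N2356
def N4896 : Q := sm gg N2356
def N4897 : Q := sm gg N2357
def N4898 : Q := sm gf N2358
def N4899 : Q := sm gb N2359
def N4900 : Q := sm ge N2359
def N4901 : Q := sm ga N2361
def N4902 : Q := sm ge N2361
def N4903 : Q := sm gf N2361
def N4904 : Q := sm gg N2361
def N4905 : Q := sm gd N2362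
def N4906 : Q := sm gf N2362
def N4907 : Q := sm gb N2363
def N4908 : Q := sm gg N2363
def N4909 : Q := sm gb N2364
def N4910 : Q := sm gg N2364
def N4911 : Q := sm ga N2365
def N4912 : Q := sm gc N2365
def N4913 : Q := sm gg N2365
def N4914 : Q := sm gb N2366
def N4915 : Q := sm gb N2367
def N4916 : Q := sm gg N2367
def N4917 : Q := sm gb N2368
def N4918 : Q := sm gf N2368
def N4919 : Q := sm ga N2369
def N4920 : Q := sm gf N2369
def N4923 : Q := sm gf N2370
def N4924 : Q := sm gg N2370
def N4929 : Q := sm gg N2372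
def N4933 : Q := sm gf N2375
def N4935 : Q := sm gc N2376
def N4938 : Q := sm gg N2376
def N4944 : Q := sm gf N2380
def N4945 : Q := sm gg N2380
def N4946 : Q := sm gg N2381
def N4950 : Q := sm ga N2385
def N4951 : Q := sm gc N2385
def N4952 : Q := sm gf N2385
def N4953 : Q := sm gb N2386
def N4954 : Q := sm gb N2387
def N4955 : Q := sm gc N2387
def N4956 : Q := sm gf N2387
def N4957 : Q := sm gd N2388
def N4958 : Q := sm gf N2388
def N4959 : Q := sm gb N2389
def N4960 : Q := sm gg N2389
def N4961 : Q := sm ga N2390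
def N4962 : Q := sm gc N2390
def N4964 : Q := sm gb N2392
def N4965 : Q := sm ga N2393
def N4966 : Q := sm gg N2393
def N4967 : Q := sm gb N2394
def N4968 : Q := sm gb N2395
def N4969 : Q := sm gg N2395
def N4970 : Q := sm gf N2396
def N4973 : Q := sm gf N2397
def N4974 : Q := sm gg N2397
def N4979 : Q := sm gg N2399
def N4982 : Q := sm gd N2402
def N4986 : Q := sm ge N2403
def N4988 : Q := sm gg N2403
def N4989 : Q := sm gb N2404
def N4990 : Q := sm gb N2405
def N4992 : Q := sm ge N2406
def N4993 : Q := sm gf N2406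
def N4995 : Q := sm gf N2407
def N4997 : Q := sm gg N2408
def N5003 : Q := sm gf N2412
def N5007 : Q := sm gg N2413
def N5010 : Q := sm gf N2415
def N5011 : Q := sm gc N2416
def N5012 : Q := sm gf N2416
def N5015 : Q := sm gc N2418
def N5017 : Q := sm ga N2419
def N5018 : Q := sm gc N2419
def N5019 : Q := sm gg N2419
def N5020 : Q := sm gb N2420
def N5021 : Q := sm gb N2421
def N5023 : Q := sm gg N2421
def N5025 : Q := sm gg N2422
def N5026 : Q := sm gb N2423
def N5027 : Q := sm gf N2423
def N5028 : Q := sm ga N2424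
def N5029 : Q := sm gc N2424
def N5030 : Q := sm gf N2424
def N5031 : Q := sm ga N2425
def N5032 : Q := sm gc N2425
def N5033 : Q := sm gf N2425
def N5034 : Q := sm gg N2425
def N5035 : Q := sm gb N2426
def N5036 : Q := sm ga N2427
def N5037 : Q := sm gf N2427
def N5038 : Q := sm gb N2428
def N5040 : Q := sm gf N2429
def N5041 : Q := sm gg N2430
def N5043 : Q := sm ge N2431
def N5045 : Q := sm gd N2432
def N5046 : Q := sm gg N2432
def N5049 : Q := sm ge N2434
def N5051 : Q := sm gd N2435
def N5052 : Q := sm gg N2435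
def N5053 : Q := sm gc N2437
def N5054 : Q := sm gg N2437
def N5055 : Q := sm gc N2439
def N5056 : Q := sm gb N2440
def N5059 : Q := sm gf N2441
def N5060 : Q := sm gg N2441
def N5066 : Q := sm gc N2445
def N5067 : Q := sm ga N2446
def N5070 : Q := sm ge N2446
def N5074 : Q := sm ge N2447
def N5075 : Q := sm gf N2447
def N5076 : Q := sm gg N2447
def N5077 : Q := sm gd N2448
def N5078 : Q := sm gf N2448
def N5079 : Q := sm gg N2448
def N5083 : Q := sm ge N2451
def N5086 : Q := sm gd N2452
def N5088 : Q := sm gg N2452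
def N5089 : Q := sm gb N2453
def N5090 : Q := sm gg N2453
def N5091 : Q := sm gf N2454
def N5092 : Q := sm gc N2455
def N5093 : Q := sm gf N2455
def N5094 : Q := sm gg N2455
def N5095 : Q := sm gb N2456
def N5096 : Q := sm gg N2456
def N5097 : Q := sm gf N2457
def N5098 : Q := sm ga N2458
def N5103 : Q := sm gc N2461
def N5104 : Q := sm gf N2461
def N5107 : Q := sm gc N2463
def N5108 : Q := sm gg N2463
def N5109 : Q := sm gb N2464
def N5110 : Q := sm gf N2464
def N5111 : Q := sm gb N2465
def N5112 : Q := sm gg N2465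
def N5113 : Q := sm ga N2466
def N5123 : Q := sm gf N2470
def N5130 : Q := sm gb N2474
def N5133 : Q := sm gd N2476
def N5140 : Q := sm ga N2481
def N5141 : Q := sm gc N2481
def N5142 : Q := sm gd N2481
def N5143 : Q := sm gf N2481
def N5144 : Q := sm gg N2481
def N5145 : Q := sm gc N2482
def N5146 : Q := sm gf N2482
def N5147 : Q := sm gg N2482
def N5148 : Q := sm gb N2483
def N5149 : Q := sm gb N2484
def N5150 : Q := sm gd N2485
def N5151 : Q := sm gf N2485
def N5152 : Q := sm gg N2485
def N5153 : Q := sm gb N2486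
def N5154 : Q := sm gg N2486
def N5155 : Q := sm gb N2487
def N5156 : Q := sm gf N2487
def N5157 : Q := sm ga N2488
def N5158 : Q := sm gc N2488
def N5159 : Q := sm gg N2488
def N5160 : Q := sm gb N2489
def N5161 : Q := sm ga N2490
def N5162 : Q := sm gc N2490
def N5163 : Q := sm gf N2490
def N5164 : Q := sm gb N2491
def N5165 : Q := sm ga N2492
def N5166 : Q := sm gc N2492
def N5167 : Q := sm gg N2492
def N5168 : Q := sm gb N2493
def N5169 : Q := sm ga N2494
def N5170 : Q := sm gc N2494
def N5171 : Q := sm gf N2494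
def N5172 : Q := sm gb N2495
def N5173 : Q := sm gb N2496
def N5174 : Q := sm gc N2496
def N5175 : Q := sm gg N2496
def N5176 : Q := sm gd N2497
def N5177 : Q := sm gg N2497
def N5178 : Q := sm gb N2498
def N5179 : Q := sm gf N2498
def N5180 : Q := sm ga N2499
def N5181 : Q := sm gc N2499
def N5182 : Q := sm gf N2499
def N5183 : Q := sm gb N2500
def N5184 : Q := sm gc N2500
def N5185 : Q := sm gf N2500
def N5186 : Q := sm gd N2501
def N5187 : Q := sm gf N2501
def N5188 : Q := sm gb N2502
def N5189 : Q := sm gg N2502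
def N5190 : Q := sm ga N2503
def N5191 : Q := sm gc N2503
def N5192 : Q := sm gg N2503
def N5198 : Q := sm gd N2505
def N5199 : Q := sm gg N2505
def N5201 : Q := sm gc N2507
def N5202 : Q := sm ge N2507
def N5203 : Q := sm gg N2507
def N5204 : Q := sm gb N2508
def N5205 : Q := sm ga N2509
def N5206 : Q := sm gc N2509
def N5208 : Q := sm gb N2510
def N5209 : Q := sm gc N2510
def N5210 : Q := sm gf N2510
def N5211 : Q := sm gd N2511
def N5212 : Q := sm gf N2511
def N5213 : Q := sm gg N2512
def N5216 : Q := sm gf N2513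
def N5219 : Q := sm gd N2514
def N5220 : Q := sm gf N2514
def N5222 : Q := sm gc N2516
def N5223 : Q := sm ge N2516
def N5224 : Q := sm gf N2516
def N5225 : Q := sm gb N2517
def N5226 : Q := sm ga N2518
def N5227 : Q := sm gc N2518
def N5229 : Q := sm gb N2519
def N5230 : Q := sm gc N2519
def N5231 : Q := sm gg N2519
def N5232 : Q := sm gd N2520
def N5233 : Q := sm gg N2520
def N5234 : Q := sm gf N2521
def N5236 : Q := sm gf N2522
def N5244 : Q := sm gf N2525
def N5245 : Q := sm ga N2526
def N5249 : Q := sm gc N2527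
def N5255 : Q := sm gf N2529
def N5256 : Q := sm gb N2530
def N5257 : Q := sm gd N2530
def N5259 : Q := sm gg N2530
def N5260 : Q := sm gg N2531
def N5261 : Q := sm gb N2532
def N5266 : Q := sm gc N2534
def N5267 : Q := sm gd N2535
def N5268 : Q := sm gf N2535
def N5269 : Q := sm ga N2537
def N5270 : Q := sm gc N2537
def N5271 : Q := sm gf N2537
def N5272 : Q := sm gg N2537
def N5275 : Q := sm gf N2538
def N5276 : Q := sm gb N2539
def N5278 : Q := sm ge N2540
def N5280 : Q := sm gb N2541
def N5297 : Q := sm gc N2548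
def N5303 : Q := sm gg N2550
def N5304 : Q := sm gb N2551
def N5305 : Q := sm gd N2551
def N5310 : Q := sm ga N2554
def N5311 : Q := sm gc N2554
def N5317 : Q := sm ga N2558
def N5318 : Q := sm gc N2558
def N5320 : Q := sm gg N2558
def N5324 : Q := sm gb N2560
def N5329 : Q := sm gf N2562
def N5332 : Q := sm gd N2564
def N5335 : Q := sm gd N2567
def N5351 : Q := sm gd N2574
def N5352 : Q := sm gg N2574
def N5353 : Q := sm ge N2575
def N5354 : Q := sm gf N2575
def N5356 : Q := sm gg N2576
def N5358 : Q := sm gg N2578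
def N5364 : Q := sm gf N2581
def N5368 : Q := sm ga N2585
def N5374 : Q := sm gd N2587
def N5375 : Q := sm gf N2587
def N5376 : Q := sm gg N2588
def N5377 : Q := sm ga N2589
def N5378 : Q := sm gc N2589
def N5379 : Q := sm gf N2589
def N5382 : Q := sm gd N2590
def N5383 : Q := sm gc N2591
def N5387 : Q := sm gc N2593
def N5388 : Q := sm gf N2593
def N5389 : Q := sm gb N2594
def N5390 : Q := sm gd N2594
def N5391 : Q := sm gf N2594
def N5392 : Q := sm gg N2594
def N5397 : Q := sm ge N2598
def N5400 : Q := sm gc N2600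
def N5403 : Q := sm gf N2601
def N5406 : Q := sm gg N2603
def N5407 : Q := sm ga N2604
def N5408 : Q := sm gg N2604
def N5411 : Q := sm gf N2606
def N5412 : Q := sm gb N2607
def N5413 : Q := sm gd N2607
def N5414 : Q := sm gf N2607
def N5416 : Q := sm ga N2610
def N5420 : Q := sm gc N2611
def N5423 : Q := sm gg N2611
def N5427 : Q := sm gf N2613
def N5428 : Q := sm ga N2614
def N5429 : Q := sm gc N2614
def N5430 : Q := sm gg N2614
def N5431 : Q := sm gb N2616
def N5433 : Q := sm gd N2617
def N5435 : Q := sm gg N2617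
def N5438 : Q := sm gg N2618
def N5439 : Q := sm gb N2619
def N5440 : Q := sm gg N2619
def N5442 : Q := sm gf N2621
def N5446 : Q := sm gg N2623
def N5449 : Q := sm gg N2625
def N5450 : Q := sm gb N2627
def N5455 : Q := sm gc N2629
def N5456 : Q := sm gg N2629
def N5459 : Q := sm gf N2631
def N5460 : Q := sm ga N2632
def N5462 : Q := sm gf N2632
def N5464 : Q := sm gd N2633
def N5467 : Q := sm gg N2634
def N5469 : Q := sm gc N2636
def N5470 : Q := sm gg N2636
def N5471 : Q := sm gb N2637
def N5472 : Q := sm gd N2637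
def N5473 : Q := sm gf N2637
def N5474 : Q := sm gg N2637
def N5480 : Q := sm gg N2641
def N5482 : Q := sm gc N2643
def N5487 : Q := sm gb N2646
def N5491 : Q := sm gb N2648
def N5493 : Q := sm gc N2650
def N5494 : Q := sm gf N2650
def N5495 : Q := sm gg N2650
def N5496 : Q := sm gd N2651
def N5497 : Q := sm gf N2651
def N5498 : Q := sm gg N2651
def N5499 : Q := sm gb N2652
def N5500 : Q := sm gg N2652
def N5501 : Q := sm gb N2653
def N5502 : Q := sm gf N2653
def N5503 : Q := sm ga N2654
def N5504 : Q := sm gc N2654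
def N5505 : Q := sm gg N2654
def N5506 : Q := sm ga N2655
def N5507 : Q := sm gc N2655
def N5508 : Q := sm gf N2655
def N5509 : Q := sm gb N2656
def N5510 : Q := sm gc N2656
def N5511 : Q := sm gd N2657
def N5512 : Q := sm gg N2657
def N5513 : Q := sm gb N2658
def N5514 : Q := sm ga N2659
def N5515 : Q := sm gc N2659
def N5516 : Q := sm gf N2659
def N5517 : Q := sm gb N2660
def N5518 : Q := sm gc N2660
def N5519 : Q := sm gd N2661
def N5520 : Q := sm gf N2661
def N5521 : Q := sm gb N2662
def N5522 : Q := sm ga N2663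
def N5523 : Q := sm gc N2663
def N5524 : Q := sm gg N2663
def N5525 : Q := sm ga N2664
def N5526 : Q := sm gc N2664
def N5527 : Q := sm gf N2664
def N5528 : Q := sm gg N2664
def N5529 : Q := sm gb N2665
def N5530 : Q := sm gd N2665
def N5531 : Q := sm gg N2665
def N5532 : Q := sm gb N2666
def N5533 : Q := sm gc N2667
def N5534 : Q := sm ge N2667
def N5535 : Q := sm gg N2667
def N5536 : Q := sm gb N2668
def N5537 : Q := sm gf N2668
def N5538 : Q := sm ga N2669
def N5539 : Q := sm gc N2669
def N5540 : Q := sm gf N2669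
def N5541 : Q := sm gb N2670
def N5542 : Q := sm gb N2671
def N5543 : Q := sm gc N2671
def N5544 : Q := sm gf N2671
def N5545 : Q := sm gd N2672
def N5546 : Q := sm gf N2672
def N5547 : Q := sm gg N2673
def N5548 : Q := sm ga N2674
def N5549 : Q := sm gc N2674
def N5550 : Q := sm gf N2674
def N5551 : Q := sm gg N2674
def N5552 : Q := sm gb N2675
def N5553 : Q := sm gd N2675
def N5554 : Q := sm gf N2675
def N5555 : Q := sm gb N2676
def N5556 : Q := sm gc N2677
def N5557 : Q := sm ge N2677
def N5558 : Q := sm gf N2677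
def N5559 : Q := sm gb N2678
def N5560 : Q := sm gg N2678
def N5561 : Q := sm ga N2679
def N5562 : Q := sm gc N2679
def N5563 : Q := sm gg N2679
def N5564 : Q := sm gb N2680
def N5565 : Q := sm gb N2681
def N5566 : Q := sm gc N2681
def N5567 : Q := sm gg N2681
def N5568 : Q := sm gd N2682
def N5569 : Q := sm gg N2682
def N5570 : Q := sm gf N2683
def N5574 : Q := sm gb N2685
def N5577 : Q := sm gg N2685
def N5582 : Q := sm gd N2688
def N5585 : Q := sm ge N2689
def N5586 : Q := sm gg N2689
def N5591 : Q := sm gg N2692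
def N5592 : Q := sm gb N2693
def N5593 : Q := sm ga N2694
def N5594 : Q := sm gc N2694
def N5595 : Q := sm gf N2694
def N5596 : Q := sm gb N2695
def N5598 : Q := sm gd N2696
def N5600 : Q := sm ga N2698
def N5601 : Q := sm gc N2698
def N5602 : Q := sm gf N2698
def N5604 : Q := sm gb N2699
def N5605 : Q := sm gd N2699
def N5606 : Q := sm gf N2699
def N5607 : Q := sm gb N2700
def N5608 : Q := sm gc N2701
def N5609 : Q := sm ge N2701
def N5610 : Q := sm gf N2701
def N5611 : Q := sm gb N2702
def N5613 : Q := sm gb N2703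
def N5616 : Q := sm gg N2704
def N5621 : Q := sm gb N2706
def N5622 : Q := sm gg N2706
def N5623 : Q := sm gf N2707
def N5628 : Q := sm ge N2709
def N5629 : Q := sm gf N2709
def N5633 : Q := sm gg N2711
def N5634 : Q := sm gf N2712
def N5635 : Q := sm gb N2713
def N5636 : Q := sm ga N2714
def N5637 : Q := sm gc N2714
def N5638 : Q := sm gg N2714
def N5640 : Q := sm gc N2715
def N5641 : Q := sm gd N2716
def N5642 : Q := sm gg N2716
def N5643 : Q := sm ga N2718
def N5644 : Q := sm gc N2718
def N5645 : Q := sm gf N2718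
def N5646 : Q := sm gg N2718
def N5647 : Q := sm gb N2719
def N5648 : Q := sm gd N2719
def N5649 : Q := sm gg N2719
def N5650 : Q := sm gb N2720
def N5651 : Q := sm gc N2721
def N5652 : Q := sm ge N2721
def N5653 : Q := sm gg N2721
def N5654 : Q := sm gb N2722
def N5655 : Q := sm gf N2722
def N5659 : Q := sm gf N2724
def N5660 : Q := sm gg N2724
def N5666 : Q := sm gg N2728
def N5673 : Q := sm gb N2732
def N5678 : Q := sm ga N2736
def N5679 : Q := sm gc N2736
def N5680 : Q := sm gf N2736
def N5681 : Q := sm gg N2736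
def N5683 : Q := sm gd N2737
def N5684 : Q := sm gc N2738
def N5685 : Q := sm ge N2738
def N5686 : Q := sm gf N2738
def N5688 : Q := sm gc N2740
def N5690 : Q := sm gb N2741
def N5691 : Q := sm gd N2741
def N5693 : Q := sm gg N2741
def N5694 : Q := sm ga N2744
def N5695 : Q := sm gd N2744
def N5696 : Q := sm gf N2744
def N5697 : Q := sm gg N2744
def N5698 : Q := sm gc N2745
def N5699 : Q := sm ge N2745
def N5700 : Q := sm gf N2745
def N5701 : Q := sm gb N2746
def N5703 : Q := sm gb N2748
def N5704 : Q := sm gd N2748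
def N5705 : Q := sm ge N2748
def N5706 : Q := sm gf N2748
def N5707 : Q := sm gf N2749
def N5710 : Q := sm ga N2751
def N5713 : Q := sm gc N2753
def N5716 : Q := sm gd N2754
def N5717 : Q := sm gf N2754
def N5718 : Q := sm gg N2754
def N5720 : Q := sm ge N2757
def N5723 : Q := sm gb N2758
def N5724 : Q := sm gg N2758
def N5726 : Q := sm gf N2759
def N5727 : Q := sm ga N2760
def N5730 : Q := sm gb N2762
def N5734 : Q := sm ga N2766
def N5735 : Q := sm gc N2766
def N5736 : Q := sm gf N2766
def N5738 : Q := sm gd N2767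
def N5739 : Q := sm gc N2768
def N5740 : Q := sm ge N2768
def N5741 : Q := sm gg N2768
def N5743 : Q := sm gc N2770
def N5744 : Q := sm gg N2770
def N5745 : Q := sm gb N2771
def N5746 : Q := sm gd N2771
def N5747 : Q := sm gf N2771
def N5748 : Q := sm gg N2771
def N5749 : Q := sm ga N2774
def N5750 : Q := sm gd N2774
def N5751 : Q := sm gf N2774
def N5752 : Q := sm gg N2774
def N5753 : Q := sm gc N2775
def N5754 : Q := sm ge N2775
def N5755 : Q := sm gg N2775
def N5757 : Q := sm gc N2777
def N5758 : Q := sm gb N2778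
def N5759 : Q := sm gd N2778
def N5760 : Q := sm ge N2778
def N5763 : Q := sm gb N2780
def N5764 : Q := sm gf N2780
def N5765 : Q := sm ga N2781
def N5773 : Q := sm ge N2785
def N5774 : Q := sm gf N2785
def N5778 : Q := sm gd N2788
def N5779 : Q := sm ge N2788
def N5787 : Q := sm gf N2791
def N5806 : Q := sm gc N2805
def N5808 : Q := sm gf N2806
def N5809 : Q := sm ga N2809
def N5812 : Q := sm gc N2810
def N5818 : Q := sm gf N2812
def N5822 : Q := sm gb N2815
def N5823 : Q := sm gd N2815
def N5825 : Q := sm ga N2817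
def N5826 : Q := sm gd N2817
def N5827 : Q := sm gf N2817
def N5828 : Q := sm gc N2818
def N5829 : Q := sm ge N2818
def N5830 : Q := sm gf N2818
def N5831 : Q := sm gg N2818
def N5833 : Q := sm gb N2821
def N5834 : Q := sm gd N2821
def N5835 : Q := sm gf N2821
def N5836 : Q := sm gg N2821
def N5837 : Q := sm gc N2822
def N5838 : Q := sm ge N2822
def N5839 : Q := sm gf N2822
def N5840 : Q := sm gg N2822
def N5841 : Q := sm gb N2823
def N5842 : Q := sm gg N2823
def N5846 : Q := sm gf N2826
def N5848 : Q := sm ga N2828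
def N5849 : Q := sm gc N2828
def N5850 : Q := sm gg N2828
def N5852 : Q := sm ga N2830
def N5853 : Q := sm gd N2830
def N5854 : Q := sm ge N2830
def N5855 : Q := sm gf N2830
def N5856 : Q := sm gg N2830
def N5859 : Q := sm gd N2832
def N5860 : Q := sm gf N2832
def N5862 : Q := sm gg N2833
def N5863 : Q := sm gb N2834
def N5865 : Q := sm ga N2835
def N5867 : Q := sm gg N2835
def N5875 : Q := sm gf N2840
def N5879 : Q := sm gg N2842
def N5880 : Q := sm gc N2843
def N5882 : Q := sm gf N2843
def N5883 : Q := sm gg N2843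
def N5885 : Q := sm gb N2845
def N5891 : Q := sm gf N2847
def N5898 : Q := sm gc N2850
def N5901 : Q := sm gc N2854
def N5904 : Q := sm gb N2858
def N5909 : Q := sm gb N2860
def N5910 : Q := sm gb N2862
def N5912 : Q := sm ga N2864
def N5914 : Q := sm gf N2864
def N5915 : Q := sm gg N2864
def N5920 : Q := sm ge N2866
def N5922 : Q := sm gg N2867
def N5923 : Q := sm gb N2868
def N5926 : Q := sm gb N2870
def N5927 : Q := sm gd N2870
def N5928 : Q := sm gg N2870
def N5929 : Q := sm ga N2872
def N5930 : Q := sm gd N2872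
def N5931 : Q := sm gf N2872
def N5932 : Q := sm gg N2872
def N5933 : Q := sm gc N2873
def N5934 : Q := sm ge N2873
def N5936 : Q := sm gg N2873
def N5937 : Q := sm gb N2874
def N5939 : Q := sm gb N2876
def N5940 : Q := sm gd N2876
def N5941 : Q := sm gf N2876
def N5942 : Q := sm gg N2876
def N5943 : Q := sm gc N2877
def N5944 : Q := sm ge N2877
def N5945 : Q := sm gf N2877
def N5946 : Q := sm gg N2877
def N5947 : Q := sm gg N2878
def N5949 : Q := sm gf N2879
def N5951 : Q := sm ge N2880
def N5958 : Q := sm gd N2884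
def N5959 : Q := sm ga N2885
def N5960 : Q := sm gd N2885
def N5961 : Q := sm ge N2885
def N5962 : Q := sm gf N2885
def N5963 : Q := sm gg N2885
def N5965 : Q := sm gg N2886
def N5966 : Q := sm gd N2887
def N5967 : Q := sm gg N2887
def N5970 : Q := sm gb N2889
def N5971 : Q := sm gf N2889
def N5972 : Q := sm ga N2890
def N5973 : Q := sm gc N2890
def N5974 : Q := sm gf N2890
def N5975 : Q := sm gb N2891
def N5976 : Q := sm gb N2892
def N5977 : Q := sm gb N2893
def N5980 : Q := sm gg N2894
def N5982 : Q := sm gb N2896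
def N5983 : Q := sm gd N2896
def N5984 : Q := sm gf N2896
def N5985 : Q := sm gg N2896
def N5986 : Q := sm gc N2897
def N5987 : Q := sm ge N2897
def N5988 : Q := sm gf N2897
def N5989 : Q := sm gg N2897
def N5990 : Q := sm gb N2898
def N5991 : Q := sm gg N2898
def N5993 : Q := sm gb N2900
def N5994 : Q := sm ge N2900
def N5995 : Q := sm gf N2900
def N5996 : Q := sm gf N2901
def N5997 : Q := sm gb N2902
def N5998 : Q := sm ga N2903
def N5999 : Q := sm gg N2903
def N6000 : Q := sm ga N2904
def N6001 : Q := sm ge N2904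
def N6002 : Q := sm gf N2904
def N6003 : Q := sm gg N2904
def N6004 : Q := sm gd N2905
def N6005 : Q := sm gf N2905
def N6006 : Q := sm gb N2906
def N6007 : Q := sm gb N2907
def N6008 : Q := sm ga N2908
def N6009 : Q := sm gc N2908
def N6010 : Q := sm gg N2908
def N6011 : Q := sm gb N2909
def N6012 : Q := sm gg N2909
def N6013 : Q := sm gf N2910
def N6014 : Q := sm gb N2911
def N6015 : Q := sm gd N2911
def N6016 : Q := sm gf N2911
def N6017 : Q := sm gg N2911
def N6018 : Q := sm gc N2912
def N6019 : Q := sm ge N2912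
def N6020 : Q := sm gf N2912
def N6021 : Q := sm gg N2912
def N6023 : Q := sm gb N2914
def N6025 : Q := sm gb N2915
def N6026 : Q := sm ge N2915
def N6027 : Q := sm gg N2915
def N6028 : Q := sm gg N2916
def N6029 : Q := sm gb N2917
def N6030 : Q := sm ga N2918
def N6031 : Q := sm gf N2918
def N6032 : Q := sm ga N2919
def N6033 : Q := sm ge N2919
def N6034 : Q := sm gf N2919
def N6035 : Q := sm gg N2919
def N6036 : Q := sm gd N2920
def N6037 : Q := sm gg N2920
def N6038 : Q := sm gb N2921
def N6039 : Q := sm gb N2922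
def N6040 : Q := sm ga N2923
def N6041 : Q := sm gc N2923
def N6042 : Q := sm gf N2923
def N6043 : Q := sm gb N2924
def N6044 : Q := sm gf N2924
def N6045 : Q := sm gg N2925
def N6046 : Q := sm gc N2926
def N6047 : Q := sm gd N2926
def N6048 : Q := sm gf N2926
def N6049 : Q := sm gg N2926
def N6050 : Q := sm gc N2927
def N6051 : Q := sm ge N2927
def N6052 : Q := sm gf N2927
def N6053 : Q := sm gg N2927
def N6055 : Q := sm gb N2929
def N6056 : Q := sm gd N2930
def N6057 : Q := sm ge N2930
def N6059 : Q := sm gg N2930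
def N6060 : Q := sm gf N2931
def N6062 : Q := sm gb N2932
def N6063 : Q := sm gg N2932
def N6065 : Q := sm ga N2934
def N6066 : Q := sm gg N2934
def N6067 : Q := sm gb N2935
def N6069 : Q := sm gb N2937
def N6070 : Q := sm ga N2938
def N6072 : Q := sm gg N2938
def N6076 : Q := sm gb N2941
def N6077 : Q := sm ge N2941
def N6078 : Q := sm gf N2941
def N6079 : Q := sm gg N2941
def N6080 : Q := sm gd N2942
def N6082 : Q := sm gg N2942
def N6083 : Q := sm gb N2943
def N6084 : Q := sm gg N2943
def N6085 : Q := sm gf N2944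
def N6086 : Q := sm gc N2945
def N6087 : Q := sm gf N2945
def N6088 : Q := sm gb N2946
def N6091 : Q := sm gg N2947
def N6092 : Q := sm ga N2948
def N6093 : Q := sm gc N2948
def N6094 : Q := sm gg N2948
def N6095 : Q := sm gb N2949
def N6097 : Q := sm gg N2949
def N6099 : Q := sm gg N2950
def N6100 : Q := sm gf N2951
def N6101 : Q := sm ga N2952
def N6102 : Q := sm gc N2952
def N6103 : Q := sm gf N2952
def N6104 : Q := sm gg N2952
def N6108 : Q := sm gd N2955
def N6111 : Q := sm gc N2956
def N6112 : Q := sm ge N2956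
def N6113 : Q := sm gf N2956
def N6114 : Q := sm gg N2956
def N6115 : Q := sm gb N2957
def N6117 : Q := sm gd N2959
def N6118 : Q := sm ge N2959
def N6119 : Q := sm gf N2959
def N6120 : Q := sm gg N2959
def N6122 : Q := sm gg N2960
def N6124 : Q := sm gb N2962
def N6127 : Q := sm ga N2964
def N6128 : Q := sm gf N2964
def N6130 : Q := sm gb N2966
def N6131 : Q := sm ga N2967
def N6132 : Q := sm gc N2967
def N6133 : Q := sm gf N2967
def N6134 : Q := sm gb N2968
def N6135 : Q := sm gf N2968
def N6137 : Q := sm gb N2970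
def N6138 : Q := sm ge N2970
def N6139 : Q := sm gf N2970
def N6140 : Q := sm gg N2970
def N6141 : Q := sm gd N2971
def N6142 : Q := sm gf N2971
def N6143 : Q := sm gg N2971
def N6145 : Q := sm gb N2973
def N6146 : Q := sm gf N2973
def N6147 : Q := sm gc N2974
def N6148 : Q := sm gg N2974
def N6149 : Q := sm gb N2975
def N6151 : Q := sm gc N2976
def N6153 : Q := sm ga N2977
def N6154 : Q := sm gc N2977
def N6155 : Q := sm gf N2977
def N6156 : Q := sm gb N2978
def N6157 : Q := sm gc N2978
def N6158 : Q := sm gf N2978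
def N6160 : Q := sm gf N2979
def N6161 : Q := sm gg N2980
def N6162 : Q := sm ga N2981
def N6163 : Q := sm gc N2981
def N6164 : Q := sm gf N2981
def N6165 : Q := sm gg N2981
def N6169 : Q := sm ge N2984
def N6171 : Q := sm gg N2984
def N6172 : Q := sm gd N2985
def N6173 : Q := sm gf N2985
def N6175 : Q := sm gb N2986
def N6176 : Q := sm gg N2986
def N6178 : Q := sm gc N2988
def N6179 : Q := sm gf N2988
def N6182 : Q := sm gc N2990
def N6183 : Q := sm gg N2990
def N6194 : Q := sm gc N2995
def N6195 : Q := sm ge N2995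
def N6197 : Q := sm gg N2995
def N6198 : Q := sm gd N2996
def N6203 : Q := sm gd N2999
def N6204 : Q := sm ge N2999
def N6205 : Q := sm gf N2999
def N6206 : Q := sm gg N2999
def N6207 : Q := sm gd N3000
def N6210 : Q := sm gb N3001
def N6211 : Q := sm gg N3001
def N6213 : Q := sm gc N3003
def N6214 : Q := sm gf N3003
def N6216 : Q := sm gb N3004
def N6219 : Q := sm ga N3006
def N6224 : Q := sm gc N3009
def N6229 : Q := sm gg N3011
def N6230 : Q := sm gb N3012
def N6231 : Q := sm gf N3012
def N6232 : Q := sm gb N3013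
def N6234 : Q := sm gc N3014
def N6235 : Q := sm gg N3014
def N6240 : Q := sm gg N3016
def N6245 : Q := sm gg N3019
def N6249 : Q := sm gg N3023
def N6252 : Q := sm ge N3025
def N6254 : Q := sm gd N3026
def N6256 : Q := sm gf N3026
def N6257 : Q := sm gf N3027
def N6258 : Q := sm ga N3029
def N6259 : Q := sm gd N3029
def N6262 : Q := sm gg N3029
def N6270 : Q := sm ge N3034
def N6272 : Q := sm gg N3034
def N6273 : Q := sm gd N3035
def N6275 : Q := sm gg N3035
def N6276 : Q := sm gg N3036
def N6278 : Q := sm gf N3037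
def N6279 : Q := sm gc N3038
def N6293 : Q := sm gc N3044
def N6294 : Q := sm ge N3044
def N6295 : Q := sm gf N3044
def N6297 : Q := sm gd N3045
def N6299 : Q := sm gg N3045
def N6302 : Q := sm gd N3048
def N6303 : Q := sm ge N3048
def N6304 : Q := sm gf N3048
def N6306 : Q := sm gd N3049
def N6310 : Q := sm gb N3051
def N6311 : Q := sm gf N3051
def N6312 : Q := sm gc N3052
def N6314 : Q := sm gg N3052
def N6320 : Q := sm gf N3056
def N6322 : Q := sm gc N3058
def N6326 : Q := sm gc N3060
def N6327 : Q := sm gf N3060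
def N6328 : Q := sm gb N3061
def N6329 : Q := sm gg N3061
def N6330 : Q := sm gb N3062
def N6332 : Q := sm gf N3063
def N6339 : Q := sm ga N3068
def N6346 : Q := sm gb N3071
def N6358 : Q := sm gb N3074
def N6360 : Q := sm gb N3075
def N6364 : Q := sm gg N3076
def N6368 : Q := sm gf N3079
def N6371 : Q := sm gb N3081
def N6373 : Q := sm gg N3082
def N6376 : Q := sm ga N3084
def N6377 : Q := sm gc N3084
def N6378 : Q := sm gd N3084
def N6391 : Q := sm gf N3089
def N6393 : Q := sm gd N3090
def N6398 : Q := sm gb N3092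
def N6417 : Q := sm gb N3101
def N6418 : Q := sm gg N3101
def N6423 : Q := sm gg N3103
def N6428 : Q := sm gb N3106
def N6435 : Q := sm gf N3109
def N6441 : Q := sm gf N3112
def N6447 : Q := sm gg N3115
def N6458 : Q := sm gg N3120
def N6460 : Q := sm ga N3122
def N6465 : Q := sm gc N3126
def N6466 : Q := sm ge N3126
def N6468 : Q := sm gg N3126
def N6477 : Q := sm gg N3129
def N6491 : Q := sm gb N3136
def N6498 : Q := sm gf N3138
def N6499 : Q := sm ga N3139
def N6501 : Q := sm gg N3139
def N6503 : Q := sm ga N3141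
def N6504 : Q := sm gf N3141
def N6506 : Q := sm gb N3143
def N6521 : Q := sm gg N3150
def N6526 : Q := sm gg N3153
def N6532 : Q := sm gg N3155
def N6535 : Q := sm gf N3157
def N6536 : Q := sm gb N3158
def N6537 : Q := sm gf N3158
def N6555 : Q := sm gf N3166
def N6561 : Q := sm gg N3169
def N6563 : Q := sm ge N3171
def N6564 : Q := sm gg N3171
def N6577 : Q := sm gd N3179
def N6580 : Q := sm gg N3179
def N6585 : Q := sm ge N3182
def N6587 : Q := sm gg N3182
def N6589 : Q := sm ge N3183
def N6590 : Q := sm gf N3183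
def N6593 : Q := sm gf N3184
def N6602 : Q := sm gf N3188
def N6605 : Q := sm gg N3189
def N6608 : Q := sm gb N3191
def N6612 : Q := sm gg N3191
def N6613 : Q := sm gd N3192
def N6614 : Q := sm gf N3192
def N6619 : Q := sm gf N3194
def N6621 : Q := sm gf N3195
def N6622 : Q := sm gg N3195
def N6623 : Q := sm gb N3196
def N6626 : Q := sm gf N3197
def N6627 : Q := sm ga N3198
def N6629 : Q := sm gg N3198
def N6631 : Q := sm ga N3200
def N6636 : Q := sm gd N3202
def N6638 : Q := sm gf N3202
def N6641 : Q := sm gf N3203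
def N6642 : Q := sm gg N3203
def N6645 : Q := sm gg N3204
def N6648 : Q := sm gc N3207
def N6651 : Q := sm gb N3208
def N6653 : Q := sm ga N3210
def N6660 : Q := sm gd N3212
def N6661 : Q := sm gf N3212
def N6667 : Q := sm gg N3215
def N6673 : Q := sm gg N3217
def N6677 : Q := sm gb N3220
def N6678 : Q := sm gc N3220
def N6679 : Q := sm gf N3220
def N6682 : Q := sm gg N3222
def N6686 : Q := sm gb N3224
def N6688 : Q := sm gb N3225
def N6692 : Q := sm gg N3226
def N6695 : Q := sm gb N3228
def N6698 : Q := sm gc N3229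
def N6702 : Q := sm gc N3231
def N6705 : Q := sm gb N3233
def N6706 : Q := sm gd N3233
def N6707 : Q := sm gf N3233
def N6708 : Q := sm gg N3233
def N6709 : Q := sm gb N3234
def N6711 : Q := sm gb N3235
def N6713 : Q := sm ga N3236
def N6717 : Q := sm ga N3238
def N6722 : Q := sm gc N3240
def N6724 : Q := sm gg N3241
def N6729 : Q := sm gb N3244
def N6737 : Q := sm ga N3248
def N6738 : Q := sm gd N3248
def N6739 : Q := sm gf N3248
def N6740 : Q := sm gg N3248
def N6741 : Q := sm ge N3249
def N6742 : Q := sm gf N3249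
def N6743 : Q := sm gg N3249
def N6750 : Q := sm gg N3252
def N6752 : Q := sm ga N3254
def N6756 : Q := sm gb N3256
def N6757 : Q := sm gc N3256
def N6764 : Q := sm gb N3260
def N6765 : Q := sm gc N3260
def N6767 : Q := sm gf N3261
def N6771 : Q := sm gg N3263
def N6772 : Q := sm gd N3265
def N6774 : Q := sm ge N3266
def N6775 : Q := sm gg N3266
def N6777 : Q := sm ga N3268
def N6779 : Q := sm gf N3268
def N6780 : Q := sm gb N3269
def N6781 : Q := sm gc N3269
def N6782 : Q := sm gf N3269
def N6784 : Q := sm gf N3270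
def N6786 : Q := sm gf N3272
def N6787 : Q := sm gg N3272
def N6788 : Q := sm gb N3273
def N6789 : Q := sm gd N3273
def N6791 : Q := sm ge N3274
def N6792 : Q := sm gf N3274
def N6794 : Q := sm ga N3276
def N6796 : Q := sm gg N3276
def N6797 : Q := sm gb N3277
def N6799 : Q := sm gg N3277
def N6802 : Q := sm gf N3279
def N6803 : Q := sm ga N3280
def N6804 : Q := sm gd N3280
def N6805 : Q := sm gf N3280
def N6806 : Q := sm gg N3280
def N6807 : Q := sm gf N3281
def N6808 : Q := sm gg N3281
def N6809 : Q := sm gb N3282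
def N6810 : Q := sm gb N3283
def N6813 : Q := sm gg N3284
def N6814 : Q := sm ga N3285
def N6828 : Q := sm gg N3291
def N6834 : Q := sm gd N3293
def N6835 : Q := sm gg N3293
def N6848 : Q := sm gd N3299
def N6849 : Q := sm gf N3299
def N6851 : Q := sm gc N3301
def N6854 : Q := sm gb N3302
def N6855 : Q := sm gg N3302
def N6857 : Q := sm gb N3304
def N6858 : Q := sm gf N3304
def N6859 : Q := sm gg N3304
def N6860 : Q := sm gb N3305
def N6861 : Q := sm gg N3305
def N6862 : Q := sm gb N3306
def N6863 : Q := sm gf N3306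
def N6864 : Q := sm ga N3307
def N6865 : Q := sm gc N3307
def N6866 : Q := sm gg N3307
def N6867 : Q := sm ga N3308
def N6868 : Q := sm gc N3308
def N6869 : Q := sm gf N3308
def N6880 : Q := sm gf N3313
def N6881 : Q := sm gg N3314
def N6882 : Q := sm ga N3315
def N6891 : Q := sm ge N3318
def N6893 : Q := sm gf N3319
def N6899 : Q := sm gb N3322
def N6901 : Q := sm gf N3322
def N6902 : Q := sm gb N3323
def N6904 : Q := sm ge N3324
def N6906 : Q := sm gg N3325
def N6909 : Q := sm gf N3327
def N6910 : Q := sm gg N3327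
def N6915 : Q := sm gg N3329
def N6916 : Q := sm gb N3330
def N6917 : Q := sm gf N3330
def N6923 : Q := sm gg N3332
def N6927 : Q := sm gf N3334
def N6929 : Q := sm gd N3335
def N6931 : Q := sm gg N3335
def N6933 : Q := sm gf N3337
def N6935 : Q := sm ga N3339
def N6936 : Q := sm gc N3339
def N6937 : Q := sm gg N3339
def N6940 : Q := sm gg N3340
def N6941 : Q := sm gb N3341
def N6944 : Q := sm gg N3341
def N6945 : Q := sm gb N3342
def N6947 : Q := sm gf N3343
def N6951 : Q := sm gg N3344
def N6952 : Q := sm gc N3345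
def N6954 : Q := sm gf N3345
def N6958 : Q := sm gg N3347
def N6959 : Q := sm gd N3348
def N6960 : Q := sm ge N3348
def N6965 : Q := sm ga N3352
def N6967 : Q := sm gf N3352
def N6975 : Q := sm gg N3357
def N6976 : Q := sm gd N3358
def N6987 : Q := sm gb N3364
def N6991 : Q := sm gg N3364
def N6993 : Q := sm ge N3365
def N6995 : Q := sm gg N3365
def N6997 : Q := sm gf N3366
def N7001 : Q := sm gc N3369
def N7003 : Q := sm gf N3369
def N7006 : Q := sm gf N3370
def N7007 : Q := sm gg N3370
def N7009 : Q := sm gg N3371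
def N7012 : Q := sm gb N3373
def N7015 : Q := sm gf N3373
def N7021 : Q := sm gg N3375
def N7030 : Q := sm gf N3379
def N7041 : Q := sm ge N3384
def N7049 : Q := sm gg N3386
def N7053 : Q := sm gf N3389
def N7091 : Q := sm gg N3406
def N7092 : Q := sm gb N3407
def N7097 : Q := sm gb N3409
def N7099 : Q := sm gb N3410
def N7106 : Q := sm gc N3413
def N7109 : Q := sm gb N3415
def N7111 : Q := sm gf N3415
def N7114 : Q := sm gg N3416
def N7117 : Q := sm ga N3418
def N7119 : Q := sm gg N3418
def N7121 : Q := sm ga N3420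
def N7126 : Q := sm gc N3422
def N7142 : Q := sm gd N3430
def N7146 : Q := sm gf N3431
def N7154 : Q := sm gg N3434
def N7156 : Q := sm ga N3436
def N7161 : Q := sm gc N3438
def N7169 : Q := sm gc N3442
def N7171 : Q := sm gf N3443
def N7182 : Q := sm gc N3448
def N7184 : Q := sm gg N3448
def N7200 : Q := sm gd N3455
def N7202 : Q := sm ge N3456
def N7203 : Q := sm gf N3456
def N7214 : Q := sm ga N3462
def N7215 : Q := sm gd N3462
def N7219 : Q := sm gg N3463
def N7222 : Q := sm gb N3465
def N7228 : Q := sm ga N3468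
def N7232 : Q := sm gb N3470
def N7234 : Q := sm gg N3470
def N7239 : Q := sm ga N3473
def N7240 : Q := sm gc N3473
def N7241 : Q := sm gf N3473
def N7248 : Q := sm gg N3476
def N7250 : Q := sm gc N3477
def N7252 : Q := sm ga N3478
def N7257 : Q := sm gd N3479
def N7264 : Q := sm gf N3482
def N7271 : Q := sm gf N3485
def N7288 : Q := sm ga N3493
def N7292 : Q := sm gb N3495
def N7293 : Q := sm gc N3495
def N7297 : Q := sm gf N3497
def N7299 : Q := sm gf N3498
def N7304 : Q := sm gf N3500
def N7310 : Q := sm gc N3503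
def N7318 : Q := sm gb N3507
def N7327 : Q := sm gf N3510
def N7329 : Q := sm gg N3511
def N7330 : Q := sm ga N3512
def N7332 : Q := sm gg N3512
def N7336 : Q := sm gg N3513
def N7344 : Q := sm gf N3517
def N7345 : Q := sm ga N3518
def N7346 : Q := sm gc N3518
def N7347 : Q := sm gf N3518
def N7349 : Q := sm gb N3520
def N7351 : Q := sm gf N3520
def N7352 : Q := sm gd N3521
def N7361 : Q := sm gf N3524
def N7364 : Q := sm ge N3526
def N7368 : Q := sm ga N3528
def N7370 : Q := sm gg N3528
def N7374 : Q := sm gg N3530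
def N7379 : Q := sm gf N3533
def N7387 : Q := sm gf N3536
def N7401 : Q := sm gg N3541
def N7408 : Q := sm gf N3546
def N7413 : Q := sm ga N3549
def N7442 : Q := sm gf N3560
def N7454 : Q := sm ga N3566
def N7455 : Q := sm gg N3566
def N7465 : Q := sm ga N3572
def N7490 : Q := sm ga N3586
def N7493 : Q := sm ge N3587
def N7494 : Q := sm gb N3588
def N7499 : Q := sm gg N3589
def N7507 : Q := sm gg N3595
def N7519 : Q := sm gf N3602
def N7520 : Q := sm gg N3602
def N7524 : Q := sm gf N3605
def N7525 : Q := sm gg N3605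
def N7526 : Q := sm gb N3606
def N7527 : Q := sm gb N3607
def N7528 : Q := sm ga N3608
def N7529 : Q := sm gc N3608
def N7530 : Q := sm gg N3608
def N7531 : Q := sm ga N3609
def N7533 : Q := sm gf N3609
def N7534 : Q := sm gd N3610
def N7540 : Q := sm gf N3612
def N7545 : Q := sm gg N3614
def N7546 : Q := sm gb N3615
def N7548 : Q := sm ga N3616
def N7551 : Q := sm ga N3618
def N7552 : Q := sm gc N3618
def N7555 : Q := sm gc N3620
def N7558 : Q := sm gb N3621
def N7559 : Q := sm gg N3621
def N7560 : Q := sm gb N3622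
def N7562 : Q := sm gc N3623
def N7565 : Q := sm ga N3625
def N7567 : Q := sm gf N3625
def N7569 : Q := sm gb N3627
def N7573 : Q := sm gb N3628
def N7575 : Q := sm gb N3629
def N7576 : Q := sm gf N3629
def N7579 : Q := sm ga N3632
def N7580 : Q := sm gc N3632
def N7581 : Q := sm gf N3632
def N7583 : Q := sm gb N3634
def N7584 : Q := sm ga N3635
def N7587 : Q := sm gb N3636
def N7588 : Q := sm gc N3636
def N7590 : Q := sm gf N3637
def N7592 : Q := sm ga N3639
def N7594 : Q := sm gg N3639
def N7595 : Q := sm gb N3640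
def N7596 : Q := sm gd N3640
def N7597 : Q := sm gf N3640
def N7598 : Q := sm gg N3640
def N7599 : Q := sm gb N3641
def N7600 : Q := sm gb N3642
def N7601 : Q := sm ga N3643
def N7602 : Q := sm gc N3643
def N7603 : Q := sm gg N3643
def N7604 : Q := sm ga N3644
def N7605 : Q := sm gc N3644
def N7606 : Q := sm gf N3644
def N7607 : Q := sm gb N3645
def N7611 : Q := sm gg N3646
def N7614 : Q := sm gc N3648
def N7615 : Q := sm gf N3648
def N7616 : Q := sm gd N3649
def N7617 : Q := sm gf N3649
def N7618 : Q := sm gg N3650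
def N7619 : Q := sm ga N3651
def N7620 : Q := sm gf N3651
def N7621 : Q := sm gg N3651
def N7622 : Q := sm gb N3652
def N7623 : Q := sm gb N3653
def N7624 : Q := sm ga N3654
def N7625 : Q := sm gc N3654
def N7626 : Q := sm gg N3654
def N7627 : Q := sm ga N3655
def N7628 : Q := sm gc N3655
def N7629 : Q := sm gf N3655
def N7632 : Q := sm gd N3657
def N7634 : Q := sm gb N3659
def N7635 : Q := sm gc N3659
def N7636 : Q := sm gf N3659
def N7638 : Q := sm gf N3660
def N7639 : Q := sm gg N3661
def N7640 : Q := sm ga N3662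
def N7642 : Q := sm gb N3663
def N7645 : Q := sm gb N3665
def N7646 : Q := sm ga N3666
def N7652 : Q := sm gf N3667
def N7653 : Q := sm gb N3668
def N7657 : Q := sm gb N3670
def N7658 : Q := sm gg N3670
def N7659 : Q := sm gb N3671
def N7660 : Q := sm ga N3672
def N7661 : Q := sm gd N3672
def N7662 : Q := sm gf N3672
def N7663 : Q := sm gg N3672
def N7664 : Q := sm ge N3673
def N7665 : Q := sm gf N3673
def N7666 : Q := sm gg N3673
def N7667 : Q := sm gb N3674
def N7668 : Q := sm gg N3674
def N7669 : Q := sm gb N3675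
def N7670 : Q := sm gf N3675
def N7671 : Q := sm ga N3676
def N7672 : Q := sm gc N3676
def N7673 : Q := sm gg N3676
def N7674 : Q := sm gb N3677
def N7675 : Q := sm ga N3678
def N7676 : Q := sm gc N3678
def N7677 : Q := sm gf N3678
def N7678 : Q := sm gb N3679
def N7680 : Q := sm gc N3680
def N7681 : Q := sm gd N3681
def N7683 : Q := sm gb N3682
def N7684 : Q := sm ga N3683
def N7685 : Q := sm gc N3683
def N7688 : Q := sm gc N3684
def N7689 : Q := sm gd N3685
def N7690 : Q := sm gf N3685
def N7691 : Q := sm gb N3686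
def N7692 : Q := sm ga N3687
def N7694 : Q := sm gg N3687
def N7697 : Q := sm gf N3688
def N7700 : Q := sm gd N3689
def N7705 : Q := sm ga N3692
def N7708 : Q := sm gb N3693
def N7710 : Q := sm gf N3693
def N7713 : Q := sm gg N3695
def N7716 : Q := sm gf N3696
def N7717 : Q := sm gg N3696
def N7719 : Q := sm gd N3697
def N7720 : Q := sm gc N3698
def N7724 : Q := sm ga N3700
def N7726 : Q := sm gg N3700
def N7728 : Q := sm gc N3701
def N7733 : Q := sm gb N3704
def N7734 : Q := sm gd N3704
def N7735 : Q := sm gf N3704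
def N7736 : Q := sm gg N3704
def N7737 : Q := sm gc N3705
def N7738 : Q := sm ge N3705
def N7739 : Q := sm gf N3705
def N7740 : Q := sm gg N3705
def N7741 : Q := sm gb N3706
def N7742 : Q := sm gg N3706
def N7743 : Q := sm gb N3707
def N7744 : Q := sm gf N3707
def N7745 : Q := sm gf N3708
def N7746 : Q := sm gg N3708
def N7747 : Q := sm gb N3709
def N7748 : Q := sm gg N3709
def N7749 : Q := sm gb N3710
def N7750 : Q := sm gf N3710
def N7751 : Q := sm ga N3711
def N7752 : Q := sm gc N3711
def N7753 : Q := sm gg N3711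
def N7754 : Q := sm gb N3712
def N7755 : Q := sm ga N3713
def N7756 : Q := sm gc N3713
def N7757 : Q := sm gf N3713
def N7758 : Q := sm gb N3714
def N7759 : Q := sm gb N3715
def N7760 : Q := sm gc N3715
def N7761 : Q := sm gd N3716
def N7762 : Q := sm gg N3716
def N7763 : Q := sm gb N3717
def N7764 : Q := sm ga N3718
def N7765 : Q := sm gc N3718
def N7766 : Q := sm gf N3718
def N7767 : Q := sm gb N3719
def N7768 : Q := sm gc N3719
def N7769 : Q := sm gd N3720
def N7770 : Q := sm gf N3720
def N7771 : Q := sm gb N3721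
def N7772 : Q := sm ga N3722
def N7773 : Q := sm gc N3722
def N7774 : Q := sm gg N3722
def N7775 : Q := sm ga N3723
def N7778 : Q := sm gg N3723
def N7779 : Q := sm gb N3724
def N7780 : Q := sm gd N3724
def N7781 : Q := sm gc N3725
def N7782 : Q := sm ge N3725
def N7783 : Q := sm gg N3725
def N7784 : Q := sm gb N3726
def N7785 : Q := sm ga N3727
def N7788 : Q := sm gb N3728
def N7791 : Q := sm gd N3729
def N7792 : Q := sm gf N3729
def N7793 : Q := sm gg N3730
def N7795 : Q := sm gc N3731
def N7796 : Q := sm gf N3731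
def N7797 : Q := sm gg N3731
def N7798 : Q := sm gb N3732
def N7799 : Q := sm gd N3732
def N7800 : Q := sm gc N3733
def N7801 : Q := sm ge N3733
def N7802 : Q := sm gf N3733
def N7803 : Q := sm gb N3734
def N7804 : Q := sm ga N3735
def N7805 : Q := sm gc N3735
def N7807 : Q := sm gb N3736
def N7808 : Q := sm gc N3736
def N7810 : Q := sm gd N3737
def N7811 : Q := sm gg N3737
def N7812 : Q := sm gf N3738
def N7813 : Q := sm gc N3739
def N7815 : Q := sm gg N3739
def N7816 : Q := sm gb N3740
def N7817 : Q := sm gd N3740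
def N7819 : Q := sm gg N3741
def N7820 : Q := sm gf N3742
def N7821 : Q := sm gd N3743
def N7822 : Q := sm gg N3743
def N7824 : Q := sm ge N3744
def N7826 : Q := sm gd N3745
def N7827 : Q := sm ge N3745
def N7828 : Q := sm gg N3745
def N7829 : Q := sm gg N3746
def N7830 : Q := sm gb N3747
def N7831 : Q := sm ga N3748
def N7832 : Q := sm gc N3748
def N7833 : Q := sm gf N3748
def N7835 : Q := sm gc N3749
def N7837 : Q := sm gf N3750
def N7838 : Q := sm ga N3752
def N7840 : Q := sm gg N3752
def N7842 : Q := sm gd N3753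
def N7843 : Q := sm gf N3753
def N7844 : Q := sm gc N3755
def N7845 : Q := sm ge N3755
def N7846 : Q := sm gf N3755
def N7847 : Q := sm gb N3756
def N7848 : Q := sm gg N3756
def N7849 : Q := sm gb N3757
def N7850 : Q := sm gc N3758
def N7851 : Q := sm gf N3758
def N7852 : Q := sm gg N3758
def N7853 : Q := sm gb N3759
def N7855 : Q := sm gf N3759
def N7856 : Q := sm gg N3760
def N7857 : Q := sm gf N3761
def N7858 : Q := sm ga N3762
def N7859 : Q := sm gd N3762
def N7860 : Q := sm gf N3762
def N7861 : Q := sm gc N3763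
def N7862 : Q := sm ge N3763
def N7865 : Q := sm ge N3764
def N7866 : Q := sm gf N3764
def N7867 : Q := sm gf N3765
def N7868 : Q := sm gb N3766
def N7869 : Q := sm ga N3767
def N7871 : Q := sm gc N3768
def N7872 : Q := sm gd N3769
def N7873 : Q := sm ga N3771
def N7877 : Q := sm gd N3772
def N7878 : Q := sm gc N3774
def N7879 : Q := sm ge N3774
def N7880 : Q := sm gg N3774
def N7882 : Q := sm gb N3776
def N7884 : Q := sm ge N3777
def N7891 : Q := sm gd N3779
def N7898 : Q := sm gc N3782
def N7899 : Q := sm gf N3782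
def N7909 : Q := sm gb N3787
def N7916 : Q := sm gf N3789
def N7917 : Q := sm ga N3790
def N7919 : Q := sm gg N3790
def N7921 : Q := sm ga N3792
def N7922 : Q := sm gc N3792
def N7925 : Q := sm gb N3794
def N7926 : Q := sm gc N3794
def N7928 : Q := sm gg N3795
def N7935 : Q := sm gd N3799
def N7942 : Q := sm gd N3802
def N7945 : Q := sm gf N3803
def N7946 : Q := sm gg N3803
def N7956 : Q := sm gc N3808
def N7957 : Q := sm gg N3808
def N7958 : Q := sm gd N3809
def N7960 : Q := sm gf N3810
def N7964 : Q := sm gd N3812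
def N7966 : Q := sm gg N3813
def N7973 : Q := sm gg N3815
def N7983 : Q := sm gf N3820
def N7986 : Q := sm gd N3821
def N7995 : Q := sm gb N3826
def N7996 : Q := sm gd N3826
def N7997 : Q := sm gf N3826
def N7998 : Q := sm gg N3826
def N7999 : Q := sm gc N3827
def N8000 : Q := sm gf N3827
def N8001 : Q := sm gg N3827
def N8002 : Q := sm gb N3828
def N8003 : Q := sm gg N3828
def N8004 : Q := sm gb N3829
def N8005 : Q := sm gf N3829
def N8006 : Q := sm gb N3830
def N8007 : Q := sm gg N3830
def N8008 : Q := sm gb N3831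
def N8009 : Q := sm gf N3831
def N8010 : Q := sm ga N3832
def N8011 : Q := sm gc N3832
def N8012 : Q := sm gg N3832
def N8013 : Q := sm gb N3833
def N8014 : Q := sm ga N3834
def N8015 : Q := sm gc N3834
def N8016 : Q := sm gf N3834
def N8017 : Q := sm gb N3835
def N8018 : Q := sm gb N3836
def N8019 : Q := sm gc N3836
def N8020 : Q := sm gg N3836
def N8021 : Q := sm gd N3837
def N8022 : Q := sm gg N3837
def N8023 : Q := sm gb N3838
def N8024 : Q := sm gf N3838
def N8025 : Q := sm ga N3839
def N8026 : Q := sm gc N3839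
def N8027 : Q := sm gf N3839
def N8028 : Q := sm gb N3840
def N8029 : Q := sm gc N3840
def N8030 : Q := sm gf N3840
def N8031 : Q := sm gd N3841
def N8032 : Q := sm gf N3841
def N8033 : Q := sm gb N3842
def N8034 : Q := sm gg N3842
def N8035 : Q := sm ga N3843
def N8036 : Q := sm gc N3843
def N8037 : Q := sm gg N3843
def N8038 : Q := sm ga N3844
def N8039 : Q := sm gc N3844
def N8040 : Q := sm gf N3844
def N8041 : Q := sm gg N3844
def N8043 : Q := sm gd N3845
def N8044 : Q := sm gg N3845
def N8045 : Q := sm gb N3846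
def N8046 : Q := sm gc N3847
def N8047 : Q := sm ge N3847
def N8048 : Q := sm gg N3847
def N8049 : Q := sm gb N3848
def N8050 : Q := sm gf N3848
def N8051 : Q := sm ga N3849
def N8052 : Q := sm gc N3849
def N8053 : Q := sm gf N3849
def N8055 : Q := sm gb N3851
def N8056 : Q := sm gc N3851
def N8057 : Q := sm gf N3851
def N8058 : Q := sm gd N3852
def N8059 : Q := sm gf N3852
def N8060 : Q := sm gg N3853
def N8061 : Q := sm ga N3854
def N8063 : Q := sm gf N3854
def N8064 : Q := sm gg N3854
def N8066 : Q := sm gd N3855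
def N8067 : Q := sm gf N3855
def N8068 : Q := sm gb N3856
def N8069 : Q := sm gc N3857
def N8070 : Q := sm ge N3857
def N8071 : Q := sm gf N3857
def N8072 : Q := sm gb N3858
def N8073 : Q := sm gg N3858
def N8074 : Q := sm ga N3859
def N8075 : Q := sm gc N3859
def N8076 : Q := sm gg N3859
def N8077 : Q := sm gb N3860
def N8078 : Q := sm gb N3861
def N8079 : Q := sm gc N3861
def N8080 : Q := sm gg N3861
def N8081 : Q := sm gd N3862
def N8082 : Q := sm gg N3862
def N8083 : Q := sm gf N3863
def N8085 : Q := sm gf N3864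
def N8086 : Q := sm gg N3864
def N8090 : Q := sm gg N3865
def N8101 : Q := sm ga N3871
def N8103 : Q := sm gf N3871
def N8108 : Q := sm gb N3874
def N8109 : Q := sm gf N3874
def N8111 : Q := sm gc N3875
def N8114 : Q := sm gb N3877
def N8115 : Q := sm gc N3877
def N8116 : Q := sm gd N3878
def N8117 : Q := sm gf N3878
def N8124 : Q := sm gf N3881
def N8126 : Q := sm gb N3882
def N8127 : Q := sm gd N3882
def N8128 : Q := sm gf N3882
def N8129 : Q := sm gb N3883
def N8133 : Q := sm gb N3885
def N8135 : Q := sm gb N3886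
def N8138 : Q := sm gg N3887
def N8142 : Q := sm gg N3888
def N8144 : Q := sm gg N3889
def N8145 : Q := sm gf N3890
def N8150 : Q := sm ge N3892
def N8152 : Q := sm gb N3893
def N8153 : Q := sm ga N3894
def N8154 : Q := sm gc N3894
def N8155 : Q := sm gb N3895
def N8157 : Q := sm gf N3895
def N8160 : Q := sm gg N3897
def N8162 : Q := sm gc N3898
def N8165 : Q := sm gb N3900
def N8166 : Q := sm gc N3900
def N8167 : Q := sm gd N3901
def N8168 : Q := sm gg N3901
def N8169 : Q := sm gb N3902
def N8172 : Q := sm gf N3903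
def N8173 : Q := sm ga N3904
def N8174 : Q := sm gc N3904
def N8175 : Q := sm gf N3904
def N8177 : Q := sm gb N3905
def N8179 : Q := sm gg N3905
def N8180 : Q := sm gb N3906
def N8181 : Q := sm gc N3907
def N8187 : Q := sm ga N3910
def N8188 : Q := sm gc N3910
def N8189 : Q := sm gf N3910
def N8190 : Q := sm gg N3910
def N8191 : Q := sm gb N3911
def N8192 : Q := sm gb N3912
def N8193 : Q := sm ga N3913
def N8194 : Q := sm gc N3913
def N8195 : Q := sm gg N3913
def N8196 : Q := sm gb N3914
def N8197 : Q := sm ga N3915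
def N8198 : Q := sm gc N3915
def N8199 : Q := sm gf N3915
def N8200 : Q := sm gb N3916
def N8201 : Q := sm gb N3917
def N8202 : Q := sm gc N3917
def N8203 : Q := sm gg N3917
def N8204 : Q := sm gd N3918
def N8205 : Q := sm gg N3918
def N8206 : Q := sm gb N3919
def N8207 : Q := sm gf N3919
def N8208 : Q := sm ga N3920
def N8209 : Q := sm gc N3920
def N8210 : Q := sm gf N3920
def N8211 : Q := sm gb N3921
def N8212 : Q := sm gc N3921
def N8213 : Q := sm gf N3921
def N8214 : Q := sm gd N3922
def N8215 : Q := sm gf N3922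
def N8216 : Q := sm gb N3923
def N8217 : Q := sm gg N3923
def N8218 : Q := sm ga N3924
def N8219 : Q := sm gc N3924
def N8220 : Q := sm gg N3924
def N8221 : Q := sm ga N3925
def N8222 : Q := sm gc N3925
def N8223 : Q := sm gf N3925
def N8225 : Q := sm gb N3926
def N8226 : Q := sm gd N3926
def N8227 : Q := sm gg N3926
def N8229 : Q := sm gc N3928
def N8230 : Q := sm ge N3928
def N8231 : Q := sm gg N3928
def N8232 : Q := sm gb N3929
def N8233 : Q := sm gf N3929
def N8234 : Q := sm ga N3930
def N8235 : Q := sm gc N3930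
def N8236 : Q := sm gf N3930
def N8238 : Q := sm gb N3932
def N8239 : Q := sm gc N3932
def N8240 : Q := sm gf N3932
def N8241 : Q := sm gd N3933
def N8242 : Q := sm gf N3933
def N8243 : Q := sm gg N3934
def N8244 : Q := sm ga N3935
def N8245 : Q := sm gc N3935
def N8246 : Q := sm gf N3935
def N8247 : Q := sm gg N3935
def N8248 : Q := sm gb N3936
def N8249 : Q := sm gd N3936
def N8250 : Q := sm gf N3936
def N8252 : Q := sm gc N3938
def N8253 : Q := sm ge N3938
def N8254 : Q := sm gf N3938
def N8255 : Q := sm gb N3939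
def N8256 : Q := sm gg N3939
def N8257 : Q := sm ga N3940
def N8258 : Q := sm gc N3940
def N8259 : Q := sm gg N3940
def N8260 : Q := sm gb N3941
def N8261 : Q := sm gb N3942
def N8262 : Q := sm gc N3942
def N8263 : Q := sm gg N3942
def N8264 : Q := sm gd N3943
def N8265 : Q := sm gg N3943
def N8266 : Q := sm gf N3944
def N8268 : Q := sm gg N3945
def N8270 : Q := sm gb N3948
def N8272 : Q := sm ga N3949
def N8273 : Q := sm gd N3949
def N8274 : Q := sm gg N3949
def N8275 : Q := sm gc N3950
def N8276 : Q := sm ge N3950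
def N8277 : Q := sm gg N3950
def N8281 : Q := sm gf N3952
def N8282 : Q := sm gb N3953
def N8283 : Q := sm gd N3953
def N8284 : Q := sm ge N3953
def N8285 : Q := sm gg N3953
def N8286 : Q := sm gg N3954
def N8287 : Q := sm gb N3955
def N8288 : Q := sm gf N3955
def N8289 : Q := sm ga N3956
def N8290 : Q := sm gf N3956
def N8291 : Q := sm gb N3957
def N8292 : Q := sm gb N3958
def N8293 : Q := sm gc N3958
def N8294 : Q := sm gd N3959
def N8295 : Q := sm gf N3959
def N8300 : Q := sm ga N3962
def N8304 : Q := sm gb N3963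
def N8305 : Q := sm gd N3963
def N8306 : Q := sm gf N3963
def N8307 : Q := sm gb N3964
def N8308 : Q := sm gc N3965
def N8309 : Q := sm ge N3965
def N8310 : Q := sm gf N3965
def N8311 : Q := sm gg N3966
def N8312 : Q := sm gb N3967
def N8316 : Q := sm gb N3970
def N8319 : Q := sm gd N3972
def N8321 : Q := sm gc N3973
def N8322 : Q := sm ge N3973
def N8323 : Q := sm gf N3973
def N8324 : Q := sm ga N3975
def N8325 : Q := sm gb N3976
def N8326 : Q := sm gd N3976
def N8327 : Q := sm ge N3976
def N8328 : Q := sm gf N3976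
def N8329 : Q := sm gf N3977
def N8330 : Q := sm gb N3978
def N8331 : Q := sm gg N3978
def N8332 : Q := sm ga N3979
def N8333 : Q := sm gg N3979
def N8334 : Q := sm gb N3980
def N8335 : Q := sm gb N3981
def N8336 : Q := sm gc N3981
def N8337 : Q := sm gd N3982
def N8338 : Q := sm gg N3982
def N8341 : Q := sm gc N3984
def N8342 : Q := sm gf N3984
def N8343 : Q := sm ga N3985
def N8346 : Q := sm gg N3985
def N8347 : Q := sm gb N3986
def N8348 : Q := sm gd N3986
def N8349 : Q := sm gg N3986
def N8350 : Q := sm gb N3987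
def N8351 : Q := sm gc N3988
def N8352 : Q := sm ge N3988
def N8353 : Q := sm gg N3988
def N8354 : Q := sm gf N3989

end Cfsg.Agent.Helper28.SzbA
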