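import Cfsg.Agent.Helper28.SzbB0

/-! # The Suzuki group presentation, cosets of the subgroup generated by a, b, c, d, f, g: the coset enumeration, part 1 (helper28; generated) -/

set_option autoImplicit false

noncomputable section

namespace Cfsg.Agent.Helper28.SzbA

open Cfsg.Agent.Helper28.CosetTable

def N8356 : Q := sm gb N3991
def N8357 : Q := sm gb N3997
def N8358 : Q := sm ga N3999
def N8360 : Q := sm gf N3999
def N8364 : Q := sm ge N4002
def N8366 : Q := sm gb N4004
def N8367 : Q := sm gf N4004
def N8369 : Q := sm ge N4005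
def N8370 : Q := sm gg N4005
def N8371 : Q := sm gg N4006
def N8375 : Q := sm gf N4008
def N8376 : Q := sm gb N4009
def N8377 : Q := sm gc N4009
def N8378 : Q := sm gf N4009
def N8384 : Q := sm gg N4013
def N8385 : Q := sm gb N4014
def N8387 : Q := sm gb N4015
def N8388 : Q := sm gf N4015
def N8389 : Q := sm ga N4016
def N8390 : Q := sm gc N4016
def N8392 : Q := sm gb N4017
def N8393 : Q := sm gb N4018
def N8394 : Q := sm gb N4019
def N8395 : Q := sm ga N4020
def N8396 : Q := sm gc N4020
def N8397 : Q := sm gg N4020
def N8402 : Q := sm gb N4022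
def N8403 : Q := sm gd N4022
def N8404 : Q := sm gc N4023
def N8405 : Q := sm ge N4023
def N8406 : Q := sm gf N4023
def N8408 : Q := sm ga N4025
def N8410 : Q := sm gg N4025
def N8412 : Q := sm gg N4026
def N8415 : Q := sm gf N4028
def N8416 : Q := sm gc N4029
def N8418 : Q := sm gg N4029
def N8419 : Q := sm gb N4030
def N8421 : Q := sm gf N4030
def N8423 : Q := sm gb N4031
def N8425 : Q := sm ga N4033
def N8426 : Q := sm gd N4033
def N8428 : Q := sm gg N4033
def N8430 : Q := sm ge N4034
def N8431 : Q := sm gf N4034
def N8433 : Q := sm gc N4036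
def N8434 : Q := sm gd N4037
def N8435 : Q := sm ge N4037
def N8437 : Q := sm gf N4038
def N8438 : Q := sm gg N4039
def N8442 : Q := sm gb N4042
def N8443 : Q := sm gb N4043
def N8444 : Q := sm gb N4052
def N8448 : Q := sm ge N4053
def N8451 : Q := sm gb N4056
def N8452 : Q := sm ge N4056
def N8453 : Q := sm gf N4056
def N8454 : Q := sm gf N4057
def N8455 : Q := sm gb N4059
def N8457 : Q := sm gd N4060
def N8458 : Q := sm ge N4060
def N8459 : Q := sm gf N4060
def N8461 : Q := sm ge N4061
def N8463 : Q := sm gd N4062
def N8464 : Q := sm gf N4062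
def N8466 : Q := sm gg N4063
def N8467 : Q := sm gb N4064
def N8468 : Q := sm gg N4064
def N8469 : Q := sm ga N4065
def N8470 : Q := sm gc N4065
def N8471 : Q := sm gg N4065
def N8472 : Q := sm gb N4066
def N8473 : Q := sm gb N4067
def N8474 : Q := sm ga N4069
def N8483 : Q := sm ge N4072
def N8485 : Q := sm ga N4074
def N8486 : Q := sm gf N4074
def N8489 : Q := sm gf N4075
def N8492 : Q := sm gg N4077
def N8493 : Q := sm gc N4078
def N8496 : Q := sm gb N4079
def N8498 : Q := sm gf N4079
def N8499 : Q := sm gg N4079
def N8501 : Q := sm gb N4081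
def N8502 : Q := sm gd N4082
def N8505 : Q := sm ge N4083
def N8507 : Q := sm gb N4084
def N8510 : Q := sm ge N4086
def N8512 : Q := sm gg N4087
def N8513 : Q := sm gf N4088
def N8516 : Q := sm gc N4090
def N8517 : Q := sm gg N4090
def N8518 : Q := sm ga N4091
def N8519 : Q := sm ge N4091
def N8520 : Q := sm gf N4091
def N8521 : Q := sm gg N4091
def N8522 : Q := sm gd N4092
def N8523 : Q := sm gg N4092
def N8524 : Q := sm gb N4093
def N8525 : Q := sm gb N4094
def N8526 : Q := sm ga N4095
def N8527 : Q := sm gc N4095
def N8528 : Q := sm gf N4095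
def N8529 : Q := sm gb N4096
def N8530 : Q := sm gf N4096
def N8531 : Q := sm gb N4098
def N8532 : Q := sm ge N4098
def N8536 : Q := sm gg N4100
def N8539 : Q := sm gf N4101
def N8540 : Q := sm gg N4101
def N8541 : Q := sm gg N4102
def N8543 : Q := sm gb N4104
def N8544 : Q := sm ge N4104
def N8545 : Q := sm ga N4106
def N8546 : Q := sm ge N4106
def N8547 : Q := sm gf N4106
def N8548 : Q := sm gg N4106
def N8549 : Q := sm gd N4107
def N8550 : Q := sm gf N4107
def N8551 : Q := sm gb N4108
def N8552 : Q := sm gb N4109
def N8553 : Q := sm ga N4110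
def N8554 : Q := sm gc N4110
def N8555 : Q := sm gg N4110
def N8556 : Q := sm gb N4111
def N8557 : Q := sm gg N4111
def N8558 : Q := sm gf N4112
def N8559 : Q := sm gb N4113
def N8560 : Q := sm ge N4113
def N8561 : Q := sm ga N4115
def N8562 : Q := sm gc N4115
def N8563 : Q := sm gf N4115
def N8564 : Q := sm gb N4116
def N8565 : Q := sm gc N4116
def N8568 : Q := sm gf N4117
def N8569 : Q := sm gc N4119
def N8595 : Q := sm gg N4131
def N8599 : Q := sm gb N4133
def N8600 : Q := sm gg N4133
def N8606 : Q := sm gc N4137
def N8608 : Q := sm ga N4138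
def N8609 : Q := sm gc N4138
def N8610 : Q := sm gg N4138
def N8611 : Q := sm gb N4139
def N8613 : Q := sm gg N4139
def N8615 : Q := sm gg N4140
def N8616 : Q := sm gf N4141
def N8618 : Q := sm gc N4142
def N8622 : Q := sm gb N4144
def N8635 : Q := sm gf N4150
def N8638 : Q := sm gf N4151
def N8639 : Q := sm gg N4151
def N8641 : Q := sm gf N4153
def N8655 : Q := sm gg N4157
def N8668 : Q := sm gf N4164
def N8669 : Q := sm gg N4164
def N8670 : Q := sm gg N4165
def N8674 : Q := sm gc N4169
def N8677 : Q := sm gd N4171
def N8681 : Q := sm ge N4172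
def N8685 : Q := sm gf N4173
def N8692 : Q := sm gg N4176
def N8704 : Q := sm gd N4182
def N8705 : Q := sm gf N4182
def N8708 : Q := sm gg N4183
def N8719 : Q := sm gd N4189
def N8720 : Q := sm gb N4190
def N8721 : Q := sm gf N4190
def N8726 : Q := sm gg N4194
def N8727 : Q := sm gd N4195
def N8730 : Q := sm gb N4196
def N8735 : Q := sm gg N4198
def N8737 : Q := sm gg N4199
def N8740 : Q := sm gc N4201
def N8746 : Q := sm gb N4204
def N8747 : Q := sm gd N4204
def N8748 : Q := sm gf N4204
def N8749 : Q := sm gg N4204
def N8750 : Q := sm gb N4205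
def N8751 : Q := sm gg N4205
def N8753 : Q := sm ga N4207
def N8757 : Q := sm ga N4209
def N8758 : Q := sm gc N4209
def N8759 : Q := sm gf N4209
def N8762 : Q := sm gg N4211
def N8764 : Q := sm gc N4214
def N8767 : Q := sm ga N4217
def N8768 : Q := sm gd N4217
def N8769 : Q := sm gf N4217
def N8770 : Q := sm gg N4217
def N8771 : Q := sm ge N4218
def N8772 : Q := sm gf N4218
def N8773 : Q := sm gg N4218
def N8777 : Q := sm ga N4221
def N8781 : Q := sm ga N4223
def N8785 : Q := sm gg N4225
def N8787 : Q := sm gc N4228
def N8794 : Q := sm gd N4234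
def N8798 : Q := sm ga N4237
def N8799 : Q := sm gd N4237
def N8800 : Q := sm gf N4237
def N8801 : Q := sm gg N4237
def N8802 : Q := sm ge N4238
def N8803 : Q := sm gf N4238
def N8804 : Q := sm gg N4238
def N8805 : Q := sm gb N4239
def N8806 : Q := sm gb N4240
def N8808 : Q := sm gc N4241
def N8809 : Q := sm gg N4241
def N8811 : Q := sm gc N4242
def N8812 : Q := sm gf N4242
def N8813 : Q := sm gb N4243
def N8818 : Q := sm gf N4245
def N8821 : Q := sm gf N4246
def N8823 : Q := sm gf N4247
def N8832 : Q := sm gb N4253
def N8834 : Q := sm gc N4255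
def N8836 : Q := sm gd N4256
def N8842 : Q := sm gg N4259
def N8843 : Q := sm gb N4261
def N8844 : Q := sm gd N4261
def N8845 : Q := sm gf N4261
def N8846 : Q := sm gg N4261
def N8847 : Q := sm gc N4262
def N8848 : Q := sm ge N4262
def N8849 : Q := sm gf N4262
def N8850 : Q := sm gg N4262
def N8851 : Q := sm gb N4263
def N8852 : Q := sm gg N4263
def N8853 : Q := sm gb N4264
def N8854 : Q := sm gf N4264
def N8855 : Q := sm gf N4265
def N8856 : Q := sm gg N4265
def N8857 : Q := sm gb N4266
def N8858 : Q := sm gb N4267
def N8859 : Q := sm ga N4268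
def N8860 : Q := sm gc N4268
def N8861 : Q := sm gg N4268
def N8862 : Q := sm ga N4269
def N8863 : Q := sm gc N4269
def N8864 : Q := sm gf N4269
def N8865 : Q := sm gb N4270
def N8867 : Q := sm gg N4270
def N8873 : Q := sm gf N4273
def N8876 : Q := sm gg N4275
def N8879 : Q := sm gg N4277
def N8884 : Q := sm gf N4280
def N8887 : Q := sm gf N4283
def N8891 : Q := sm gb N4286
def N8893 : Q := sm gd N4288
def N8902 : Q := sm gb N4293
def N8907 : Q := sm ge N4298
def N8908 : Q := sm gf N4298
def N8910 : Q := sm gd N4300
def N8912 : Q := sm gf N4300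
def N8916 : Q := sm gb N4305
def N8917 : Q := sm gd N4305
def N8918 : Q := sm gf N4305
def N8919 : Q := sm gg N4305
def N8921 : Q := sm ge N4306
def N8922 : Q := sm gf N4306
def N8923 : Q := sm gg N4306
def N8924 : Q := sm gb N4307
def N8925 : Q := sm gg N4307
def N8926 : Q := sm gb N4308
def N8927 : Q := sm gf N4308
def N8928 : Q := sm gf N4309
def N8929 : Q := sm gg N4309
def N8930 : Q := sm gb N4310
def N8931 : Q := sm gg N4310
def N8932 : Q := sm gb N4311
def N8933 : Q := sm gf N4311
def N8934 : Q := sm ga N4312
def N8935 : Q := sm gc N4312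
def N8936 : Q := sm gg N4312
def N8937 : Q := sm gb N4313
def N8938 : Q := sm ga N4314
def N8939 : Q := sm gc N4314
def N8940 : Q := sm gf N4314
def N8941 : Q := sm gb N4315
def N8943 : Q := sm gc N4316
def N8944 : Q := sm gd N4317
def N8945 : Q := sm gg N4317
def N8946 : Q := sm gb N4318
def N8947 : Q := sm ga N4319
def N8948 : Q := sm gc N4319
def N8949 : Q := sm gf N4319
def N8950 : Q := sm gb N4320
def N8951 : Q := sm gc N4320
def N8952 : Q := sm gd N4321
def N8953 : Q := sm gf N4321
def N8954 : Q := sm gb N4322
def N8955 : Q := sm ga N4323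
def N8956 : Q := sm gc N4323
def N8957 : Q := sm gg N4323
def N8961 : Q := sm gb N4325
def N8964 : Q := sm ge N4326
def N8967 : Q := sm ga N4328
def N8968 : Q := sm gc N4328
def N8969 : Q := sm gf N4328
def N8970 : Q := sm gb N4329
def N8971 : Q := sm gc N4329
def N8972 : Q := sm gd N4330
def N8973 : Q := sm gf N4330
def N8974 : Q := sm gg N4331
def N8977 : Q := sm gf N4332
def N8979 : Q := sm gd N4333
def N8980 : Q := sm gc N4334
def N8981 : Q := sm ge N4334
def N8982 : Q := sm gf N4334
def N8984 : Q := sm ga N4336
def N8985 : Q := sm gc N4336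
def N8986 : Q := sm gg N4336
def N8987 : Q := sm gb N4337
def N8988 : Q := sm gc N4337
def N8989 : Q := sm gd N4338
def N8990 : Q := sm gg N4338
def N8998 : Q := sm gf N4343
def N8999 : Q := sm gg N4343
def N9000 : Q := sm ge N4344
def N9001 : Q := sm gb N4345
def N9004 : Q := sm gg N4346
def N9007 : Q := sm gc N4348
def N9009 : Q := sm gc N4349
def N9010 : Q := sm gd N4350
def N9011 : Q := sm gf N4350
def N9013 : Q := sm gb N4353
def N9014 : Q := sm gd N4353
def N9015 : Q := sm gc N4354
def N9017 : Q := sm gf N4354
def N9028 : Q := sm ge N4361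
def N9029 : Q := sm gb N4362
def N9033 : Q := sm gb N4364
def N9035 : Q := sm gc N4365
def N9036 : Q := sm gg N4365
def N9037 : Q := sm gc N4366
def N9039 : Q := sm gg N4367
def N9042 : Q := sm gd N4370
def N9043 : Q := sm gc N4371
def N9044 : Q := sm ge N4371
def N9046 : Q := sm gb N4372
def N9047 : Q := sm gf N4372
def N9048 : Q := sm ga N4374
def N9049 : Q := sm gc N4374
def N9050 : Q := sm gd N4374
def N9053 : Q := sm ge N4375
def N9054 : Q := sm gf N4375
def N9055 : Q := sm gg N4375
def N9056 : Q := sm gb N4376
def N9057 : Q := sm gb N4377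
def N9058 : Q := sm gf N4378
def N9059 : Q := sm gg N4378
def N9060 : Q := sm gb N4379
def N9061 : Q := sm gg N4379
def N9062 : Q := sm gb N4380
def N9063 : Q := sm gf N4380
def N9064 : Q := sm ga N4381
def N9065 : Q := sm gc N4381
def N9066 : Q := sm gg N4381
def N9067 : Q := sm gb N4382
def N9068 : Q := sm ga N4383
def N9069 : Q := sm gc N4383
def N9070 : Q := sm gf N4383
def N9071 : Q := sm gb N4384
def N9072 : Q := sm ga N4385
def N9073 : Q := sm ge N4385
def N9074 : Q := sm gf N4385
def N9075 : Q := sm gg N4385
def N9076 : Q := sm gd N4386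
def N9077 : Q := sm gf N4386
def N9078 : Q := sm gg N4386
def N9079 : Q := sm gb N4387
def N9080 : Q := sm gb N4388
def N9081 : Q := sm gb N4389
def N9082 : Q := sm gg N4389
def N9083 : Q := sm gb N4390
def N9084 : Q := sm gf N4390
def N9085 : Q := sm ga N4391
def N9086 : Q := sm gc N4391
def N9087 : Q := sm gg N4391
def N9088 : Q := sm gb N4392
def N9089 : Q := sm ga N4393
def N9090 : Q := sm gc N4393
def N9091 : Q := sm gf N4393
def N9092 : Q := sm gb N4394
def N9093 : Q := sm gb N4395
def N9094 : Q := sm gc N4395
def N9095 : Q := sm gg N4395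
def N9096 : Q := sm gd N4396
def N9097 : Q := sm gg N4396
def N9098 : Q := sm gb N4397
def N9099 : Q := sm gf N4397
def N9100 : Q := sm ga N4398
def N9101 : Q := sm gc N4398
def N9102 : Q := sm gf N4398
def N9103 : Q := sm gb N4399
def N9104 : Q := sm gc N4399
def N9105 : Q := sm gf N4399
def N9106 : Q := sm gd N4400
def N9107 : Q := sm gf N4400
def N9108 : Q := sm gb N4401
def N9109 : Q := sm gg N4401
def N9110 : Q := sm ga N4402
def N9111 : Q := sm gc N4402
def N9112 : Q := sm gg N4402
def N9113 : Q := sm ga N4403
def N9115 : Q := sm gg N4403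
def N9116 : Q := sm gb N4404
def N9117 : Q := sm gd N4404
def N9118 : Q := sm gc N4405
def N9119 : Q := sm ge N4405
def N9120 : Q := sm gg N4405
def N9122 : Q := sm ga N4407
def N9123 : Q := sm gc N4407
def N9124 : Q := sm gf N4407
def N9125 : Q := sm gb N4408
def N9126 : Q := sm gc N4408
def N9127 : Q := sm gd N4409
def N9128 : Q := sm gf N4409
def N9129 : Q := sm gg N4410
def N9134 : Q := sm gd N4412
def N9135 : Q := sm gc N4413
def N9136 : Q := sm ge N4413
def N9137 : Q := sm gf N4413
def N9139 : Q := sm ga N4415
def N9140 : Q := sm gc N4415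
def N9143 : Q := sm gc N4416
def N9144 : Q := sm gd N4417
def N9145 : Q := sm gg N4417
def N9147 : Q := sm gc N4421
def N9148 : Q := sm ge N4421
def N9149 : Q := sm gb N4422
def N9150 : Q := sm gd N4422
def N9151 : Q := sm ge N4422
def N9152 : Q := sm gg N4422
def N9153 : Q := sm gg N4423
def N9156 : Q := sm gc N4425
def N9157 : Q := sm gf N4425
def N9159 : Q := sm gd N4427
def N9160 : Q := sm gf N4427
def N9162 : Q := sm gb N4430
def N9163 : Q := sm gd N4430
def N9164 : Q := sm gc N4431
def N9165 : Q := sm ge N4431
def N9166 : Q := sm gf N4431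
def N9167 : Q := sm gb N4432
def N9168 : Q := sm gg N4432
def N9175 : Q := sm gf N4437
def N9176 : Q := sm gg N4437
def N9177 : Q := sm gc N4438
def N9178 : Q := sm ge N4438
def N9179 : Q := sm gb N4439
def N9180 : Q := sm gd N4439
def N9181 : Q := sm ge N4439
def N9182 : Q := sm gf N4439
def N9183 : Q := sm gf N4440
def N9185 : Q := sm ga N4442
def N9186 : Q := sm gc N4442
def N9187 : Q := sm gg N4442
def N9188 : Q := sm gc N4443
def N9189 : Q := sm gd N4444
def N9192 : Q := sm gb N4447
def N9193 : Q := sm gd N4447
def N9194 : Q := sm gc N4448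
def N9195 : Q := sm ge N4448
def N9196 : Q := sm gg N4448
def N9199 : Q := sm gb N4451
def N9200 : Q := sm ge N4451
def N9206 : Q := sm gg N4454
def N9208 : Q := sm gg N4455
def N9211 : Q := sm ga N4458
def N9212 : Q := sm gc N4458
def N9213 : Q := sm gf N4458
def N9214 : Q := sm gb N4459
def N9215 : Q := sm gc N4459
def N9216 : Q := sm gf N4459
def N9217 : Q := sm gd N4460
def N9218 : Q := sm gf N4460
def N9220 : Q := sm gd N4462
def N9221 : Q := sm gc N4463
def N9223 : Q := sm gf N4463
def N9225 : Q := sm gb N4465
def N9227 : Q := sm ga N4466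
def N9228 : Q := sm gd N4466
def N9229 : Q := sm gf N4466
def N9230 : Q := sm gg N4466
def N9231 : Q := sm gc N4467
def N9233 : Q := sm gb N4468
def N9235 : Q := sm ge N4468
def N9236 : Q := sm gf N4468
def N9238 : Q := sm gb N4470
def N9239 : Q := sm gg N4470
def N9252 : Q := sm gd N4477
def N9254 : Q := sm gg N4477
def N9258 : Q := sm gg N4478
def N9259 : Q := sm gg N4479
def N9261 : Q := sm gb N4481
def N9268 : Q := sm ge N4484
def N9269 : Q := sm gf N4484
def N9270 : Q := sm gd N4485
def N9274 : Q := sm ga N4488
def N9276 : Q := sm gg N4488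
def N9278 : Q := sm gd N4490
def N9280 : Q := sm gd N4492
def N9281 : Q := sm gc N4493
def N9285 : Q := sm gb N4495
def N9287 : Q := sm ga N4496
def N9288 : Q := sm gd N4496
def N9289 : Q := sm gf N4496
def N9290 : Q := sm gg N4496
def N9291 : Q := sm gc N4497
def N9292 : Q := sm ge N4497
def N9293 : Q := sm gb N4498
def N9294 : Q := sm gd N4498
def N9295 : Q := sm ge N4498
def N9300 : Q := sm ga N4503
def N9301 : Q := sm gc N4503
def N9302 : Q := sm gd N4503
def N9303 : Q := sm gf N4503
def N9304 : Q := sm gg N4503
def N9305 : Q := sm gc N4504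
def N9306 : Q := sm gf N4504
def N9307 : Q := sm gg N4504
def N9308 : Q := sm gb N4505
def N9309 : Q := sm gb N4506
def N9310 : Q := sm gd N4507
def N9311 : Q := sm gf N4507
def N9312 : Q := sm gg N4507
def N9313 : Q := sm gb N4508
def N9314 : Q := sm gg N4508
def N9315 : Q := sm gb N4509
def N9316 : Q := sm gf N4509
def N9317 : Q := sm ga N4510
def N9318 : Q := sm gc N4510
def N9319 : Q := sm gg N4510
def N9320 : Q := sm gb N4511
def N9321 : Q := sm ga N4512
def N9322 : Q := sm gc N4512
def N9323 : Q := sm gf N4512
def N9324 : Q := sm gb N4513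
def N9325 : Q := sm ga N4514
def N9326 : Q := sm gc N4514
def N9327 : Q := sm gg N4514
def N9328 : Q := sm ga N4515
def N9329 : Q := sm gc N4515
def N9330 : Q := sm gf N4515
def N9331 : Q := sm gb N4516
def N9332 : Q := sm gc N4516
def N9333 : Q := sm gg N4516
def N9334 : Q := sm gd N4517
def N9335 : Q := sm gg N4517
def N9336 : Q := sm gf N4518
def N9337 : Q := sm gb N4519
def N9338 : Q := sm gc N4519
def N9339 : Q := sm gf N4519
def N9340 : Q := sm gd N4520
def N9341 : Q := sm gf N4520
def N9342 : Q := sm gg N4521
def N9343 : Q := sm ga N4522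
def N9347 : Q := sm gb N4523
def N9348 : Q := sm gd N4523
def N9349 : Q := sm gg N4523
def N9350 : Q := sm gb N4524
def N9351 : Q := sm gc N4525
def N9352 : Q := sm ge N4525
def N9353 : Q := sm gg N4525
def N9354 : Q := sm gb N4526
def N9355 : Q := sm gf N4526
def N9357 : Q := sm ga N4528
def N9361 : Q := sm gb N4529
def N9362 : Q := sm gd N4529
def N9363 : Q := sm gf N4529
def N9364 : Q := sm gb N4530
def N9365 : Q := sm gc N4531
def N9366 : Q := sm ge N4531
def N9367 : Q := sm gf N4531
def N9368 : Q := sm gb N4532
def N9369 : Q := sm gg N4532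
def N9370 : Q := sm gb N4533
def N9375 : Q := sm gf N4535
def N9376 : Q := sm gg N4535
def N9378 : Q := sm gb N4537
def N9379 : Q := sm gf N4537
def N9384 : Q := sm gc N4539
def N9389 : Q := sm gc N4541
def N9390 : Q := sm gb N4542
def N9391 : Q := sm gd N4542
def N9393 : Q := sm gg N4542
def N9402 : Q := sm gc N4548
def N9403 : Q := sm gf N4548
def N9408 : Q := sm gb N4550
def N9410 : Q := sm gf N4551
def N9415 : Q := sm gc N4553
def N9417 : Q := sm gf N4553
def N9421 : Q := sm gb N4556
def N9422 : Q := sm gd N4556
def N9423 : Q := sm ge N4556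
def N9424 : Q := sm gf N4556
def N9428 : Q := sm ga N4559
def N9432 : Q := sm gf N4561
def N9434 : Q := sm gd N4562
def N9435 : Q := sm gg N4562
def N9445 : Q := sm gg N4566
def N9448 : Q := sm gc N4569
def N9452 : Q := sm gg N4571
def N9456 : Q := sm gg N4573
def N9457 : Q := sm gb N4574
def N9459 : Q := sm gg N4575
def N9462 : Q := sm gc N4577
def N9464 : Q := sm gc N4578
def N9466 : Q := sm ga N4580
def N9467 : Q := sm ge N4580
def N9468 : Q := sm gf N4580
def N9482 : Q := sm gc N4588
def N9483 : Q := sm gg N4588
def N9485 : Q := sm gg N4589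
def N9487 : Q := sm gb N4591
def N9491 : Q := sm gd N4593
def N9492 : Q := sm gf N4593
def N9494 : Q := sm gc N4594
def N9496 : Q := sm gf N4594
def N9497 : Q := sm gg N4594
def N9499 : Q := sm gg N4595
def N9502 : Q := sm gc N4597
def N9504 : Q := sm gd N4600
def N9506 : Q := sm gg N4600
def N9512 : Q := sm gg N4602
def N9517 : Q := sm gc N4606
def N9518 : Q := sm gg N4606
def N9521 : Q := sm ga N4609
def N9524 : Q := sm gg N4609
def N9529 : Q := sm gg N4612
def N9532 : Q := sm gg N4613
def N9541 : Q := sm gc N4620
def N9542 : Q := sm gf N4620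
def N9543 : Q := sm gg N4620
def N9544 : Q := sm gd N4621
def N9545 : Q := sm gf N4621
def N9546 : Q := sm gg N4621
def N9547 : Q := sm gb N4622
def N9548 : Q := sm gg N4622
def N9549 : Q := sm gb N4623
def N9550 : Q := sm gf N4623
def N9551 : Q := sm ga N4624
def N9552 : Q := sm gc N4624
def N9553 : Q := sm gg N4624
def N9554 : Q := sm ga N4625
def N9555 : Q := sm gc N4625
def N9556 : Q := sm gf N4625
def N9557 : Q := sm gb N4626
def N9558 : Q := sm gc N4626
def N9559 : Q := sm gd N4627
def N9560 : Q := sm gg N4627
def N9561 : Q := sm gb N4628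
def N9562 : Q := sm ga N4629
def N9563 : Q := sm gc N4629
def N9564 : Q := sm gf N4629
def N9565 : Q := sm gb N4630
def N9566 : Q := sm gc N4630
def N9567 : Q := sm gd N4631
def N9568 : Q := sm gf N4631
def N9569 : Q := sm gb N4632
def N9570 : Q := sm ga N4633
def N9571 : Q := sm gc N4633
def N9572 : Q := sm gg N4633
def N9573 : Q := sm ga N4634
def N9574 : Q := sm gc N4634
def N9575 : Q := sm gf N4634
def N9576 : Q := sm gg N4634
def N9577 : Q := sm gb N4635
def N9578 : Q := sm gd N4635
def N9579 : Q := sm gg N4635
def N9580 : Q := sm gb N4636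
def N9581 : Q := sm gc N4637
def N9582 : Q := sm ge N4637
def N9583 : Q := sm gg N4637
def N9584 : Q := sm gb N4638
def N9585 : Q := sm gf N4638
def N9586 : Q := sm gb N4639
def N9587 : Q := sm ga N4640
def N9588 : Q := sm gc N4640
def N9589 : Q := sm gf N4640
def N9590 : Q := sm gg N4640
def N9591 : Q := sm gb N4641
def N9592 : Q := sm gd N4641
def N9593 : Q := sm gf N4641
def N9594 : Q := sm gb N4642
def N9595 : Q := sm gc N4643
def N9596 : Q := sm ge N4643
def N9597 : Q := sm gf N4643
def N9598 : Q := sm gb N4644
def N9599 : Q := sm gg N4644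
def N9600 : Q := sm gb N4645
def N9602 : Q := sm gg N4646
def N9603 : Q := sm gb N4647
def N9605 : Q := sm gf N4647
def N9607 : Q := sm gg N4648
def N9608 : Q := sm gb N4649
def N9610 : Q := sm ga N4650
def N9611 : Q := sm gd N4650
def N9612 : Q := sm gf N4650
def N9613 : Q := sm gg N4650
def N9614 : Q := sm ge N4651
def N9615 : Q := sm gg N4651
def N9616 : Q := sm gb N4652
def N9617 : Q := sm ga N4653
def N9619 : Q := sm gb N4654
def N9620 : Q := sm ge N4654
def N9621 : Q := sm gg N4654
def N9622 : Q := sm gg N4655
def N9623 : Q := sm gb N4656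
def N9624 : Q := sm gf N4656
def N9625 : Q := sm ga N4657
def N9626 : Q := sm gf N4657
def N9629 : Q := sm gg N4659
def N9630 : Q := sm gc N4660
def N9632 : Q := sm gb N4661
def N9635 : Q := sm gg N4661
def N9636 : Q := sm gb N4662
def N9639 : Q := sm ga N4664
def N9640 : Q := sm gd N4664
def N9641 : Q := sm gf N4664
def N9642 : Q := sm gg N4664
def N9643 : Q := sm ge N4665
def N9644 : Q := sm gf N4665
def N9645 : Q := sm gb N4666
def N9646 : Q := sm ga N4667
def N9648 : Q := sm gb N4668
def N9649 : Q := sm ge N4668
def N9650 : Q := sm gf N4668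
def N9651 : Q := sm gf N4669
def N9652 : Q := sm gb N4670
def N9653 : Q := sm gg N4670
def N9654 : Q := sm ga N4671
def N9655 : Q := sm gg N4671
def N9658 : Q := sm gf N4673
def N9664 : Q := sm gg N4676
def N9669 : Q := sm gg N4678
def N9670 : Q := sm gb N4679
def N9672 : Q := sm gc N4681
def N9673 : Q := sm gb N4683
def N9674 : Q := sm gd N4683
def N9675 : Q := sm gg N4683
def N9676 : Q := sm gc N4684
def N9677 : Q := sm ge N4684
def N9678 : Q := sm gg N4684
def N9679 : Q := sm gb N4685
def N9680 : Q := sm gb N4686
def N9681 : Q := sm ge N4686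
def N9682 : Q := sm gg N4686
def N9683 : Q := sm gg N4687
def N9684 : Q := sm gb N4688
def N9685 : Q := sm ga N4689
def N9686 : Q := sm gc N4689
def N9687 : Q := sm gf N4689
def N9688 : Q := sm gc N4690
def N9690 : Q := sm ga N4692
def N9691 : Q := sm gd N4692
def N9692 : Q := sm ge N4692
def N9693 : Q := sm gf N4692
def N9694 : Q := sm gg N4692
def N9695 : Q := sm ge N4693
def N9696 : Q := sm gg N4693
def N9697 : Q := sm gd N4694
def N9698 : Q := sm gg N4694
def N9699 : Q := sm gb N4695
def N9700 : Q := sm gf N4695
def N9701 : Q := sm gb N4696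
def N9702 : Q := sm gf N4696
def N9703 : Q := sm ga N4697
def N9704 : Q := sm gc N4697
def N9705 : Q := sm gf N4697
def N9707 : Q := sm gb N4700
def N9709 : Q := sm gc N4701
def N9711 : Q := sm gg N4702
def N9714 : Q := sm gd N4704
def N9716 : Q := sm ga N4706
def N9717 : Q := sm gd N4706
def N9718 : Q := sm gf N4706
def N9719 : Q := sm gg N4706
def N9720 : Q := sm gc N4707
def N9721 : Q := sm ge N4707
def N9723 : Q := sm gg N4707
def N9728 : Q := sm gc N4710
def N9729 : Q := sm gb N4713
def N9730 : Q := sm gd N4713
def N9733 : Q := sm gc N4714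
def N9734 : Q := sm ge N4714
def N9735 : Q := sm gf N4714
def N9736 : Q := sm gg N4714
def N9737 : Q := sm gb N4715
def N9739 : Q := sm gf N4716
def N9740 : Q := sm gb N4717
def N9741 : Q := sm ge N4717
def N9742 : Q := sm gf N4717
def N9743 : Q := sm gf N4718
def N9744 : Q := sm gb N4719
def N9745 : Q := sm ga N4720
def N9746 : Q := sm gc N4720
def N9750 : Q := sm ga N4723
def N9751 : Q := sm gd N4723
def N9752 : Q := sm ge N4723
def N9753 : Q := sm gf N4723
def N9754 : Q := sm gg N4723
def N9755 : Q := sm ge N4724
def N9756 : Q := sm gf N4724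
def N9757 : Q := sm gd N4725
def N9758 : Q := sm gf N4725
def N9759 : Q := sm gb N4726
def N9760 : Q := sm gg N4726
def N9761 : Q := sm gb N4727
def N9762 : Q := sm gg N4727
def N9763 : Q := sm ga N4728
def N9764 : Q := sm gc N4728
def N9766 : Q := sm gb N4729
def N9768 : Q := sm gb N4731
def N9770 : Q := sm gc N4732
def N9787 : Q := sm gb N4740
def N9789 : Q := sm gd N4741
def N9797 : Q := sm gf N4744
def N9799 : Q := sm ga N4746
def N9800 : Q := sm gc N4746
def N9801 : Q := sm gf N4746
def N9803 : Q := sm gd N4748
def N9806 : Q := sm gf N4749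
def N9809 : Q := sm ge N4750
def N9810 : Q := sm gg N4750
def N9812 : Q := sm gb N4752
def N9814 : Q := sm gb N4754
def N9816 : Q := sm gc N4755
def N9818 : Q := sm ga N4760
def N9820 : Q := sm gf N4760
def N9821 : Q := sm gd N4762
def N9822 : Q := sm gg N4763
def N9826 : Q := sm gc N4772
def N9829 : Q := sm gc N4774
def N9836 : Q := sm gc N4778
def N9840 : Q := sm ge N4781
def N9843 : Q := sm gf N4788
def N9847 : Q := sm gb N4804
def N9848 : Q := sm gf N4805
def N9850 : Q := sm ga N4832
def N9851 : Q := sm ga N4861
def N9852 : Q := sm ge N4861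
def N9853 : Q := sm gf N4861
def N9854 : Q := sm gg N4861
def N9855 : Q := sm gd N4862
def N9856 : Q := sm gb N4863
def N9857 : Q := sm ge N4863
def N9858 : Q := sm gf N4863
def N9859 : Q := sm gg N4863
def N9860 : Q := sm gd N4864
def N9861 : Q := sm gf N4864
def N9862 : Q := sm gg N4864
def N9863 : Q := sm gg N4865
def N9864 : Q := sm gb N4866
def N9865 : Q := sm gf N4866
def N9866 : Q := sm gc N4867
def N9867 : Q := sm gg N4867
def N9868 : Q := sm gb N4868
def N9869 : Q := sm gf N4868
def N9870 : Q := sm ga N4869
def N9871 : Q := sm gc N4869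
def N9872 : Q := sm gf N4869
def N9873 : Q := sm gb N4870
def N9874 : Q := sm ga N4871
def N9875 : Q := sm gc N4871
def N9876 : Q := sm gf N4871
def N9877 : Q := sm gb N4872
def N9878 : Q := sm gb N4873
def N9879 : Q := sm gc N4873
def N9880 : Q := sm gd N4874
def N9881 : Q := sm gf N4874
def N9882 : Q := sm gc N4876
def N9883 : Q := sm gg N4876
def N9884 : Q := sm ga N4899
def N9885 : Q := sm ge N4899
def N9886 : Q := sm gf N4899
def N9887 : Q := sm gg N4899
def N9888 : Q := sm gd N4900
def N9889 : Q := sm gb N4901
def N9890 : Q := sm ge N4901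
def N9891 : Q := sm gf N4901
def N9892 : Q := sm gg N4901
def N9893 : Q := sm gd N4902
def N9894 : Q := sm gf N4902
def N9895 : Q := sm gg N4902
def N9896 : Q := sm gb N4903
def N9897 : Q := sm gg N4903
def N9898 : Q := sm gf N4904
def N9899 : Q := sm gc N4905
def N9900 : Q := sm gf N4905
def N9901 : Q := sm gb N4906
def N9902 : Q := sm gg N4906
def N9903 : Q := sm ga N4907
def N9904 : Q := sm gc N4907
def N9905 : Q := sm gg N4907
def N9906 : Q := sm gb N4908
def N9907 : Q := sm ga N4909
def N9908 : Q := sm gc N4909
def N9909 : Q := sm gg N4909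
def N9910 : Q := sm gb N4910
def N9911 : Q := sm gb N4911
def N9912 : Q := sm gc N4911
def N9913 : Q := sm gd N4912
def N9914 : Q := sm gg N4912
def N9915 : Q := sm gc N4914
def N9916 : Q := sm gf N4914
def N9917 : Q := sm gc N4953
def N9918 : Q := sm gg N4953
def N9919 : Q := sm gd N4962
def N9920 : Q := sm gg N4962
def N9921 : Q := sm gc N5020
def N9923 : Q := sm gd N5029
def N9924 : Q := sm gf N5029
def N9925 : Q := sm gc N5051
def N9926 : Q := sm gg N5051
def N9927 : Q := sm gb N5053
def N9928 : Q := sm gd N5053
def N9929 : Q := sm gg N5053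
def N9930 : Q := sm gb N5055
def N9931 : Q := sm ga N5056
def N9932 : Q := sm gf N5056
def N9933 : Q := sm gg N5056
def N9934 : Q := sm gc N5086
def N9935 : Q := sm gf N5086
def N9936 : Q := sm gb N5092
def N9937 : Q := sm gd N5092
def N9938 : Q := sm gf N5092
def N9939 : Q := sm gb N5103
def N9940 : Q := sm ga N5109
def N9941 : Q := sm gf N5109
def N9942 : Q := sm gg N5109
def N9943 : Q := sm gc N5140
def N9944 : Q := sm gd N5140
def N9945 : Q := sm gf N5140
def N9946 : Q := sm gg N5140
def N9947 : Q := sm gd N5141
def N9948 : Q := sm gf N5141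
def N9949 : Q := sm gg N5141
def N9950 : Q := sm gc N5142
def N9951 : Q := sm gf N5142
def N9952 : Q := sm gg N5142
def N9953 : Q := sm gb N5143
def N9954 : Q := sm gg N5143
def N9955 : Q := sm gb N5144
def N9956 : Q := sm gf N5144
def N9957 : Q := sm gb N5145
def N9958 : Q := sm gd N5145
def N9959 : Q := sm gf N5145
def N9960 : Q := sm gg N5145
def N9961 : Q := sm gb N5146
def N9962 : Q := sm gb N5147
def N9963 : Q := sm ga N5148
def N9964 : Q := sm gc N5148
def N9965 : Q := sm gg N5148
def N9966 : Q := sm ga N5149
def N9967 : Q := sm gc N5149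
def N9968 : Q := sm gf N5149
def N9969 : Q := sm gf N5150
def N9970 : Q := sm gg N5150
def N9971 : Q := sm gb N5151
def N9972 : Q := sm gg N5151
def N9973 : Q := sm gb N5152
def N9974 : Q := sm gf N5152
def N9975 : Q := sm ga N5153
def N9976 : Q := sm gc N5153
def N9977 : Q := sm gg N5153
def N9978 : Q := sm gb N5154
def N9979 : Q := sm ga N5155
def N9980 : Q := sm gc N5155
def N9981 : Q := sm gf N5155
def N9982 : Q := sm gb N5156
def N9983 : Q := sm gb N5157
def N9984 : Q := sm gc N5157
def N9985 : Q := sm gd N5158
def N9986 : Q := sm gg N5158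
def N9987 : Q := sm gb N5159
def N9988 : Q := sm ga N5160
def N9989 : Q := sm gc N5160
def N9990 : Q := sm gf N5160
def N9991 : Q := sm gb N5161
def N9992 : Q := sm gc N5161
def N9993 : Q := sm gd N5162
def N9994 : Q := sm gf N5162
def N9995 : Q := sm gb N5163
def N9996 : Q := sm ga N5164
def N9997 : Q := sm gc N5164
def N9998 : Q := sm gg N5164
def N9999 : Q := sm gb N5165
def N10000 : Q := sm gc N5165
def N10001 : Q := sm gg N5165
def N10002 : Q := sm gd N5166
def N10003 : Q := sm gg N5166
def N10004 : Q := sm gb N5167
def N10005 : Q := sm gf N5167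
def N10006 : Q := sm ga N5168
def N10007 : Q := sm gc N5168
def N10008 : Q := sm gf N5168
def N10009 : Q := sm gb N5169
def N10010 : Q := sm gc N5169
def N10011 : Q := sm gf N5169
def N10012 : Q := sm gd N5170
def N10013 : Q := sm gf N5170
def N10014 : Q := sm gb N5171
def N10015 : Q := sm gg N5171
def N10016 : Q := sm ga N5172
def N10017 : Q := sm gc N5172
def N10018 : Q := sm gg N5172
def N10019 : Q := sm ga N5173
def N10020 : Q := sm gc N5173
def N10021 : Q := sm gf N5173
def N10022 : Q := sm gg N5173
def N10023 : Q := sm gb N5174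
def N10024 : Q := sm gd N5174
def N10025 : Q := sm gg N5174
def N10026 : Q := sm gb N5175
def N10027 : Q := sm gc N5176
def N10028 : Q := sm ge N5176
def N10029 : Q := sm gg N5176
def N10030 : Q := sm gb N5177
def N10031 : Q := sm gf N5177
def N10032 : Q := sm ga N5178
def N10033 : Q := sm gc N5178
def N10034 : Q := sm gf N5178
def N10035 : Q := sm gb N5179
def N10036 : Q := sm gb N5180
def N10037 : Q := sm gc N5180
def N10038 : Q := sm gf N5180
def N10039 : Q := sm gd N5181
def N10040 : Q := sm gf N5181
def N10041 : Q := sm gg N5182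
def N10042 : Q := sm ga N5183
def N10043 : Q := sm gc N5183
def N10044 : Q := sm gf N5183
def N10045 : Q := sm gg N5183
def N10046 : Q := sm gb N5184
def N10047 : Q := sm gd N5184
def N10048 : Q := sm gf N5184
def N10049 : Q := sm gb N5185
def N10050 : Q := sm gc N5186
def N10051 : Q := sm ge N5186
def N10052 : Q := sm gf N5186
def N10053 : Q := sm gb N5187
def N10054 : Q := sm gg N5187
def N10055 : Q := sm ga N5188
def N10056 : Q := sm gc N5188
def N10057 : Q := sm gg N5188
def N10058 : Q := sm gb N5189
def N10059 : Q := sm gb N5190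
def N10060 : Q := sm gc N5190
def N10061 : Q := sm gg N5190
def N10062 : Q := sm gd N5191
def N10063 : Q := sm gg N5191
def N10064 : Q := sm gf N5192
def N10065 : Q := sm gb N5201
def N10066 : Q := sm ge N5201
def N10067 : Q := sm ga N5204
def N10068 : Q := sm gf N5204
def N10069 : Q := sm ga N5208
def N10070 : Q := sm gc N5208
def N10071 : Q := sm gb N5209
def N10072 : Q := sm gd N5209
def N10073 : Q := sm gc N5211
def N10074 : Q := sm ge N5211
def N10075 : Q := sm gb N5222
def N10076 : Q := sm ge N5222
def N10077 : Q := sm ga N5225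
def N10078 : Q := sm gg N5225
def N10079 : Q := sm ga N5229
def N10080 : Q := sm gc N5229
def N10081 : Q := sm gb N5230
def N10082 : Q := sm gd N5230
def N10083 : Q := sm gc N5232
def N10084 : Q := sm ge N5232
def N10085 : Q := sm gc N5269
def N10086 : Q := sm gd N5270
def N10087 : Q := sm gc N5317
def N10088 : Q := sm gd N5318
def N10089 : Q := sm gb N5387
def N10090 : Q := sm gd N5387
def N10091 : Q := sm gc N5390
def N10093 : Q := sm gb N5469
def N10094 : Q := sm gd N5469
def N10097 : Q := sm gd N5493
def N10098 : Q := sm gf N5493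
def N10099 : Q := sm gg N5493
def N10100 : Q := sm gb N5494
def N10101 : Q := sm gb N5495
def N10102 : Q := sm gc N5496
def N10103 : Q := sm ge N5496
def N10104 : Q := sm gf N5496
def N10105 : Q := sm gg N5496
def N10106 : Q := sm gb N5497
def N10107 : Q := sm gg N5497
def N10108 : Q := sm gb N5498
def N10109 : Q := sm gf N5498
def N10110 : Q := sm ga N5499
def N10111 : Q := sm gc N5499
def N10112 : Q := sm gg N5499
def N10113 : Q := sm gb N5500
def N10114 : Q := sm ga N5501
def N10115 : Q := sm gc N5501
def N10116 : Q := sm gf N5501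
def N10117 : Q := sm gb N5502
def N10118 : Q := sm gb N5503
def N10119 : Q := sm gc N5503
def N10120 : Q := sm gg N5503
def N10121 : Q := sm gd N5504
def N10122 : Q := sm gg N5504
def N10123 : Q := sm gf N5505
def N10124 : Q := sm gb N5506
def N10125 : Q := sm gc N5506
def N10126 : Q := sm gf N5506
def N10127 : Q := sm gd N5507
def N10128 : Q := sm gf N5507
def N10129 : Q := sm gg N5508
def N10130 : Q := sm ga N5509
def N10131 : Q := sm gc N5509
def N10132 : Q := sm gf N5509
def N10133 : Q := sm gg N5509
def N10134 : Q := sm gb N5510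
def N10135 : Q := sm gd N5510
def N10136 : Q := sm gc N5511
def N10137 : Q := sm ge N5511
def N10138 : Q := sm gg N5511
def N10139 : Q := sm gb N5512
def N10140 : Q := sm ga N5513
def N10141 : Q := sm gc N5513
def N10142 : Q := sm gf N5513
def N10143 : Q := sm gb N5514
def N10144 : Q := sm gc N5514
def N10145 : Q := sm gf N5514
def N10146 : Q := sm gd N5515
def N10147 : Q := sm gf N5515
def N10148 : Q := sm gg N5516
def N10149 : Q := sm ga N5517
def N10150 : Q := sm gc N5517
def N10151 : Q := sm gf N5517
def N10152 : Q := sm gg N5517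
def N10153 : Q := sm gb N5518
def N10154 : Q := sm gd N5518
def N10155 : Q := sm gc N5519
def N10156 : Q := sm ge N5519
def N10157 : Q := sm gf N5519
def N10158 : Q := sm gb N5520
def N10159 : Q := sm ga N5521
def N10160 : Q := sm gc N5521
def N10161 : Q := sm gg N5521
def N10162 : Q := sm gb N5522
def N10163 : Q := sm gc N5522
def N10164 : Q := sm gg N5522
def N10165 : Q := sm gd N5523
def N10166 : Q := sm gg N5523
def N10167 : Q := sm gf N5524
def N10168 : Q := sm gc N5525
def N10169 : Q := sm gf N5525
def N10170 : Q := sm gg N5525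
def N10171 : Q := sm gb N5526
def N10172 : Q := sm gd N5526
def N10173 : Q := sm gf N5526
def N10174 : Q := sm gg N5526
def N10175 : Q := sm gg N5527
def N10176 : Q := sm gb N5528
def N10177 : Q := sm gf N5528
def N10178 : Q := sm ga N5529
def N10179 : Q := sm gd N5529
def N10180 : Q := sm gf N5529
def N10181 : Q := sm gg N5529
def N10182 : Q := sm gc N5530
def N10183 : Q := sm ge N5530
def N10184 : Q := sm gg N5530
def N10185 : Q := sm gb N5531
def N10186 : Q := sm ga N5532
def N10187 : Q := sm gc N5532
def N10188 : Q := sm gf N5532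
def N10189 : Q := sm gd N5533
def N10190 : Q := sm ge N5533
def N10191 : Q := sm gg N5533
def N10192 : Q := sm gg N5534
def N10193 : Q := sm gb N5535
def N10194 : Q := sm gf N5535
def N10195 : Q := sm ga N5536
def N10196 : Q := sm gc N5536
def N10197 : Q := sm gf N5536
def N10198 : Q := sm gb N5537
def N10199 : Q := sm gb N5538
def N10200 : Q := sm gc N5538
def N10201 : Q := sm gd N5539
def N10202 : Q := sm gf N5539
def N10203 : Q := sm gb N5540
def N10204 : Q := sm ga N5541
def N10205 : Q := sm gc N5541
def N10206 : Q := sm gg N5541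
def N10207 : Q := sm ga N5542
def N10208 : Q := sm gc N5542
def N10209 : Q := sm gf N5542
def N10210 : Q := sm gg N5542
def N10211 : Q := sm gb N5543
def N10212 : Q := sm gd N5543
def N10213 : Q := sm gf N5543
def N10214 : Q := sm gb N5544
def N10215 : Q := sm gc N5545
def N10216 : Q := sm ge N5545
def N10217 : Q := sm gf N5545
def N10218 : Q := sm gg N5546
def N10219 : Q := sm gb N5547
def N10220 : Q := sm gc N5548
def N10221 : Q := sm gf N5548
def N10222 : Q := sm gg N5548
def N10223 : Q := sm gb N5549
def N10224 : Q := sm gd N5549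
def N10225 : Q := sm gf N5549
def N10226 : Q := sm gg N5549
def N10227 : Q := sm gb N5550
def N10228 : Q := sm gg N5550
def N10229 : Q := sm gf N5551
def N10230 : Q := sm ga N5552
def N10231 : Q := sm gd N5552
def N10232 : Q := sm gf N5552
def N10233 : Q := sm gg N5552
def N10234 : Q := sm gc N5553
def N10235 : Q := sm ge N5553
def N10236 : Q := sm gf N5553
def N10237 : Q := sm gb N5554
def N10238 : Q := sm ga N5555
def N10239 : Q := sm gc N5555
def N10240 : Q := sm gg N5555
def N10241 : Q := sm gd N5556
def N10242 : Q := sm ge N5556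
def N10243 : Q := sm gf N5556
def N10244 : Q := sm gf N5557
def N10245 : Q := sm gb N5558
def N10246 : Q := sm gg N5558
def N10247 : Q := sm ga N5559
def N10248 : Q := sm gc N5559
def N10249 : Q := sm gg N5559
def N10250 : Q := sm gb N5560
def N10251 : Q := sm gb N5561
def N10252 : Q := sm gc N5561
def N10253 : Q := sm gd N5562
def N10254 : Q := sm gg N5562
def N10255 : Q := sm gb N5563
def N10256 : Q := sm ga N5564
def N10257 : Q := sm gc N5564
def N10258 : Q := sm gf N5564
def N10259 : Q := sm ga N5565
def N10260 : Q := sm gc N5565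
def N10261 : Q := sm gf N5565
def N10262 : Q := sm gg N5565
def N10263 : Q := sm gb N5566
def N10264 : Q := sm gd N5566
def N10265 : Q := sm gg N5566
def N10266 : Q := sm gb N5567
def N10267 : Q := sm gc N5568
def N10268 : Q := sm ge N5568
def N10269 : Q := sm gg N5568
def N10270 : Q := sm gf N5569
def N10271 : Q := sm gb N5570
def N10272 : Q := sm gb N5591
def N10273 : Q := sm ga N5592
def N10274 : Q := sm gc N5592
def N10275 : Q := sm gf N5592
def N10276 : Q := sm gb N5593
def N10277 : Q := sm gc N5593
def N10278 : Q := sm gf N5593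
def N10279 : Q := sm gd N5594
def N10280 : Q := sm gf N5594
def N10281 : Q := sm gg N5595
def N10282 : Q := sm ge N5598
def N10283 : Q := sm gc N5600
def N10284 : Q := sm gb N5601
def N10285 : Q := sm gd N5601
def N10286 : Q := sm ga N5604
def N10287 : Q := sm gd N5604
def N10288 : Q := sm gf N5604
def N10289 : Q := sm gg N5604
def N10290 : Q := sm ge N5605
def N10291 : Q := sm gb N5608
def N10292 : Q := sm ge N5608
def N10293 : Q := sm gb N5634
def N10294 : Q := sm ga N5635
def N10295 : Q := sm gc N5635
def N10296 : Q := sm gg N5635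
def N10297 : Q := sm gb N5636
def N10298 : Q := sm gc N5636
def N10299 : Q := sm gg N5636
def N10300 : Q := sm gd N5637
def N10301 : Q := sm gg N5637
def N10302 : Q := sm gf N5638
def N10303 : Q := sm ge N5641
def N10304 : Q := sm gc N5643
def N10305 : Q := sm gb N5644
def N10306 : Q := sm gd N5644
def N10307 : Q := sm ga N5647
def N10308 : Q := sm gd N5647
def N10309 : Q := sm gf N5647
def N10310 : Q := sm gg N5647
def N10311 : Q := sm ge N5648
def N10312 : Q := sm gb N5651
def N10313 : Q := sm ge N5651
def N10314 : Q := sm gb N5684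
def N10315 : Q := sm ge N5684
def N10316 : Q := sm gd N5688
def N10317 : Q := sm gd N5690
def N10318 : Q := sm gf N5690
def N10319 : Q := sm gc N5691
def N10320 : Q := sm ge N5691
def N10321 : Q := sm gd N5694
def N10322 : Q := sm gf N5694
def N10323 : Q := sm gc N5695
def N10324 : Q := sm ge N5695
def N10325 : Q := sm gf N5695
def N10326 : Q := sm gg N5695
def N10327 : Q := sm gb N5698
def N10328 : Q := sm ge N5698
def N10329 : Q := sm ga N5703
def N10330 : Q := sm gd N5703
def N10331 : Q := sm ge N5703
def N10332 : Q := sm gf N5703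
def N10333 : Q := sm gg N5703
def N10334 : Q := sm ge N5704
def N10335 : Q := sm gd N5705
def N10336 : Q := sm gb N5739
def N10337 : Q := sm ge N5739
def N10338 : Q := sm gd N5743
def N10339 : Q := sm gd N5745
def N10340 : Q := sm gc N5746
def N10341 : Q := sm ge N5746
def N10342 : Q := sm gd N5749
def N10343 : Q := sm gc N5750
def N10344 : Q := sm ge N5750
def N10345 : Q := sm gf N5750
def N10346 : Q := sm gg N5750
def N10347 : Q := sm gb N5753
def N10348 : Q := sm ge N5753
def N10349 : Q := sm ga N5758
def N10350 : Q := sm gd N5758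
def N10351 : Q := sm ge N5758
def N10352 : Q := sm gf N5758
def N10353 : Q := sm gg N5758
def N10354 : Q := sm ge N5759
def N10355 : Q := sm gd N5760
def N10356 : Q := sm gc N5823
def N10357 : Q := sm ge N5823
def N10358 : Q := sm ge N5826
def N10359 : Q := sm gf N5826
def N10360 : Q := sm gd N5828
def N10361 : Q := sm ge N5828
def N10362 : Q := sm ge N5834
def N10363 : Q := sm gf N5834
def N10364 : Q := sm ge N5837
def N10366 : Q := sm gg N5838
def N10367 : Q := sm ge N5852
def N10370 : Q := sm gf N5854
def N10371 : Q := sm gg N5854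
def N10373 : Q := sm gf N5856
def N10374 : Q := sm gc N5859
def N10376 : Q := sm ge N5927
def N10377 : Q := sm ge N5930
def N10378 : Q := sm gd N5933
def N10379 : Q := sm ge N5933
def N10380 : Q := sm gf N5944
def N10382 : Q := sm ge N5959
def N10384 : Q := sm gd N5961
def N10385 : Q := sm gf N5961
def N10386 : Q := sm gg N5961
def N10389 : Q := sm gc N5966
def N10390 : Q := sm gc N5983
def N10391 : Q := sm ge N5983
def N10392 : Q := sm gg N5983
def N10393 : Q := sm gb N5985
def N10394 : Q := sm gb N5986
def N10395 : Q := sm gd N5986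
def N10396 : Q := sm ge N5986
def N10397 : Q := sm gf N5986
def N10398 : Q := sm gg N5986
def N10399 : Q := sm gf N5987
def N10400 : Q := sm gg N5987
def N10401 : Q := sm gb N5988
def N10402 : Q := sm gg N5988
def N10403 : Q := sm gb N5991
def N10404 : Q := sm ga N5993
def N10405 : Q := sm ge N5993
def N10406 : Q := sm gf N5993
def N10407 : Q := sm gg N5993
def N10408 : Q := sm gd N5994
def N10409 : Q := sm gf N5994
def N10410 : Q := sm gb N5995
def N10411 : Q := sm gb N5996
def N10412 : Q := sm gc N5997
def N10413 : Q := sm gb N6000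
def N10414 : Q := sm ge N6000
def N10415 : Q := sm gf N6000
def N10416 : Q := sm gg N6000
def N10417 : Q := sm gd N6001
def N10418 : Q := sm gf N6001
def N10419 : Q := sm gg N6001
def N10420 : Q := sm gb N6002
def N10421 : Q := sm gg N6002
def N10422 : Q := sm gf N6003
def N10423 : Q := sm gc N6004
def N10425 : Q := sm gb N6005
def N10426 : Q := sm ga N6006
def N10427 : Q := sm gc N6006
def N10428 : Q := sm gg N6006
def N10429 : Q := sm ga N6007
def N10430 : Q := sm gc N6007
def N10431 : Q := sm gg N6007
def N10432 : Q := sm gb N6008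
def N10433 : Q := sm gc N6008
def N10434 : Q := sm gd N6009
def N10435 : Q := sm gg N6009
def N10436 : Q := sm gc N6011
def N10437 : Q := sm gc N6015
def N10438 : Q := sm ge N6015
def N10439 : Q := sm gf N6015
def N10440 : Q := sm gb N6016
def N10441 : Q := sm gb N6018
def N10442 : Q := sm gd N6018
def N10443 : Q := sm ge N6018
def N10444 : Q := sm gf N6018
def N10445 : Q := sm gg N6018
def N10446 : Q := sm gf N6019
def N10447 : Q := sm gg N6019
def N10448 : Q := sm gb N6021
def N10449 : Q := sm gf N6021
def N10451 : Q := sm ga N6025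
def N10452 : Q := sm ge N6025
def N10453 : Q := sm gf N6025
def N10454 : Q := sm gg N6025
def N10455 : Q := sm gd N6026
def N10456 : Q := sm gg N6026
def N10457 : Q := sm gb N6027
def N10458 : Q := sm gb N6028
def N10459 : Q := sm gc N6029
def N10460 : Q := sm gb N6032
def N10461 : Q := sm ge N6032
def N10462 : Q := sm gf N6032
def N10463 : Q := sm gg N6032
def N10464 : Q := sm gd N6033
def N10465 : Q := sm gf N6033
def N10466 : Q := sm gg N6033
def N10467 : Q := sm gg N6034
def N10468 : Q := sm gb N6035
def N10469 : Q := sm gf N6035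
def N10470 : Q := sm gc N6036
def N10472 : Q := sm gb N6037
def N10473 : Q := sm ga N6038
def N10474 : Q := sm gc N6038
def N10475 : Q := sm gf N6038
def N10476 : Q := sm ga N6039
def N10477 : Q := sm gc N6039
def N10478 : Q := sm gf N6039
def N10479 : Q := sm gb N6040
def N10480 : Q := sm gc N6040
def N10481 : Q := sm gd N6041
def N10482 : Q := sm gf N6041
def N10483 : Q := sm gc N6043
def N10485 : Q := sm gd N6050
def N10486 : Q := sm ge N6050
def N10488 : Q := sm gg N6051
def N10489 : Q := sm gb N6053
def N10490 : Q := sm gc N6055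
def N10492 : Q := sm ge N6056
def N10494 : Q := sm gd N6057
def N10496 : Q := sm gg N6057
def N10499 : Q := sm gb N6060
def N10501 : Q := sm gd N6077
def N10504 : Q := sm gb N6078
def N10505 : Q := sm gb N6079
def N10506 : Q := sm gc N6080
def N10507 : Q := sm gf N6080
def N10508 : Q := sm gg N6080
def N10512 : Q := sm gb N6086
def N10513 : Q := sm gd N6086
def N10514 : Q := sm gf N6086
def N10515 : Q := sm gb N6092
def N10516 : Q := sm gc N6095
def N10517 : Q := sm gd N6102
def N10519 : Q := sm gd N6111
def N10520 : Q := sm ge N6111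
def N10522 : Q := sm gf N6112
def N10523 : Q := sm gb N6113
def N10524 : Q := sm gc N6115
def N10525 : Q := sm gc N6117
def N10526 : Q := sm ge N6117
def N10528 : Q := sm gd N6118
def N10533 : Q := sm gb N6122
def N10535 : Q := sm gd N6138
def N10537 : Q := sm gg N6138
def N10538 : Q := sm gb N6139
def N10539 : Q := sm gb N6140
def N10540 : Q := sm gc N6141
def N10543 : Q := sm gg N6142
def N10546 : Q := sm gb N6147
def N10547 : Q := sm gd N6147
def N10548 : Q := sm gg N6147
def N10549 : Q := sm gb N6153
def N10550 : Q := sm gc N6156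
def N10551 : Q := sm gd N6163
def N10552 : Q := sm gd N6169
def N10555 : Q := sm gc N6172
def N10559 : Q := sm gb N6178
def N10560 : Q := sm gf N6178
def N10561 : Q := sm ge N6203
def N10562 : Q := sm gf N6203
def N10563 : Q := sm gg N6203
def N10564 : Q := sm gd N6204
def N10565 : Q := sm gf N6204
def N10566 : Q := sm gg N6204
def N10569 : Q := sm gf N6206
def N10570 : Q := sm gc N6207
def N10575 : Q := sm gb N6211
def N10577 : Q := sm gb N6213
def N10578 : Q := sm gd N6213
def N10579 : Q := sm gf N6213
def N10580 : Q := sm gg N6213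
def N10581 : Q := sm gb N6214
def N10585 : Q := sm gg N6216
def N10593 : Q := sm gb N6224
def N10594 : Q := sm gf N6224
def N10595 : Q := sm ga N6230
def N10596 : Q := sm gf N6230
def N10597 : Q := sm gg N6230
def N10598 : Q := sm gb N6231
def N10600 : Q := sm gc N6232
def N10604 : Q := sm gc N6273
def N10606 : Q := sm gb N6279
def N10608 : Q := sm ge N6302
def N10609 : Q := sm gf N6302
def N10610 : Q := sm gg N6302
def N10611 : Q := sm gd N6303
def N10615 : Q := sm gc N6306
def N10618 : Q := sm gb N6312
def N10619 : Q := sm gd N6312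
def N10620 : Q := sm gf N6312
def N10621 : Q := sm gg N6312
def N10622 : Q := sm gb N6314
def N10623 : Q := sm gb N6322
def N10624 : Q := sm gg N6322
def N10625 : Q := sm ga N6328
def N10626 : Q := sm gf N6328
def N10627 : Q := sm gg N6328
def N10628 : Q := sm gb N6329
def N10629 : Q := sm ga N6330
def N10633 : Q := sm ga N6705
def N10634 : Q := sm gf N6705
def N10635 : Q := sm gg N6705
def N10636 : Q := sm gb N6737
def N10637 : Q := sm gd N6737
def N10638 : Q := sm gf N6737
def N10639 : Q := sm gg N6737
def N10640 : Q := sm gc N6738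
def N10641 : Q := sm gf N6738
def N10642 : Q := sm gg N6738
def N10643 : Q := sm gg N6739
def N10644 : Q := sm gf N6740
def N10645 : Q := sm gb N6803
def N10646 : Q := sm gd N6803
def N10647 : Q := sm gf N6803
def N10648 : Q := sm gg N6803
def N10649 : Q := sm gc N6804
def N10650 : Q := sm gf N6804
def N10651 : Q := sm gg N6804
def N10652 : Q := sm gb N6805
def N10653 : Q := sm gg N6805
def N10654 : Q := sm gb N6806
def N10655 : Q := sm gf N6806
def N10656 : Q := sm gb N6807
def N10657 : Q := sm gb N6808
def N10658 : Q := sm ga N6809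
def N10659 : Q := sm gg N6809
def N10660 : Q := sm ga N6810
def N10661 : Q := sm gf N6810
def N10662 : Q := sm ga N6857
def N10663 : Q := sm gc N6857
def N10664 : Q := sm gf N6857
def N10665 : Q := sm gg N6857
def N10666 : Q := sm gb N6858
def N10667 : Q := sm gb N6859
def N10668 : Q := sm ga N6860
def N10669 : Q := sm gg N6860
def N10670 : Q := sm gb N6861
def N10671 : Q := sm ga N6862
def N10672 : Q := sm gf N6862
def N10673 : Q := sm gb N6863
def N10674 : Q := sm gb N6864
def N10675 : Q := sm gg N6864
def N10676 : Q := sm gf N6866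
def N10677 : Q := sm gb N6867
def N10678 : Q := sm gf N6867
def N10679 : Q := sm gg N6869
def N10680 : Q := sm gf N7595
def N10681 : Q := sm gg N7595
def N10682 : Q := sm gb N7597
def N10683 : Q := sm gb N7598
def N10684 : Q := sm gc N7599
def N10685 : Q := sm gc N7600
def N10686 : Q := sm gb N7619
def N10687 : Q := sm gf N7619
def N10688 : Q := sm gg N7619
def N10689 : Q := sm gb N7620
def N10690 : Q := sm gg N7620
def N10691 : Q := sm gb N7621
def N10692 : Q := sm gf N7621
def N10693 : Q := sm ga N7622
def N10694 : Q := sm gc N7622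
def N10695 : Q := sm gg N7622
def N10696 : Q := sm ga N7623
def N10697 : Q := sm gc N7623
def N10698 : Q := sm gf N7623
def N10699 : Q := sm gd N7625
def N10700 : Q := sm gd N7628
def N10701 : Q := sm gb N7660
def N10702 : Q := sm gd N7660
def N10703 : Q := sm gf N7660
def N10704 : Q := sm gg N7660
def N10705 : Q := sm gf N7661
def N10706 : Q := sm gg N7661
def N10707 : Q := sm gb N7662
def N10708 : Q := sm gg N7662
def N10709 : Q := sm gb N7663
def N10710 : Q := sm gf N7663
def N10711 : Q := sm gb N7665
def N10712 : Q := sm gg N7665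
def N10713 : Q := sm gb N7666
def N10714 : Q := sm gf N7666
def N10715 : Q := sm ga N7667
def N10716 : Q := sm gc N7667
def N10717 : Q := sm gg N7667
def N10718 : Q := sm gb N7668
def N10719 : Q := sm ga N7669
def N10720 : Q := sm gc N7669
def N10721 : Q := sm gf N7669
def N10722 : Q := sm gb N7670
def N10723 : Q := sm gd N7672
def N10724 : Q := sm gg N7672
def N10725 : Q := sm gc N7674
def N10726 : Q := sm gd N7676
def N10727 : Q := sm gf N7676
def N10728 : Q := sm gc N7678
def N10729 : Q := sm ga N7733
def N10730 : Q := sm gc N7733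
def N10731 : Q := sm gd N7733
def N10732 : Q := sm gf N7733
def N10733 : Q := sm gg N7733
def N10734 : Q := sm gc N7734
def N10735 : Q := sm ge N7734
def N10736 : Q := sm gf N7734
def N10737 : Q := sm gg N7734
def N10738 : Q := sm gb N7735
def N10739 : Q := sm gb N7736
def N10740 : Q := sm gd N7737
def N10741 : Q := sm ge N7737
def N10742 : Q := sm gf N7737
def N10743 : Q := sm gg N7737
def N10744 : Q := sm gf N7738
def N10745 : Q := sm gg N7738
def N10746 : Q := sm gb N7739
def N10747 : Q := sm gg N7739
def N10748 : Q := sm gb N7740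
def N10749 : Q := sm gf N7740
def N10750 : Q := sm ga N7741
def N10751 : Q := sm gc N7741
def N10752 : Q := sm gg N7741
def N10753 : Q := sm gb N7742
def N10754 : Q := sm ga N7743
def N10755 : Q := sm gc N7743
def N10756 : Q := sm gf N7743
def N10757 : Q := sm gb N7744
def N10758 : Q := sm gb N7745
def N10759 : Q := sm gg N7745
def N10760 : Q := sm gb N7746
def N10761 : Q := sm gf N7746
def N10762 : Q := sm ga N7747
def N10763 : Q := sm gc N7747
def N10764 : Q := sm gg N7747
def N10765 : Q := sm gb N7748
def N10766 : Q := sm ga N7749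
def N10767 : Q := sm gc N7749
def N10768 : Q := sm gf N7749
def N10769 : Q := sm gb N7750
def N10770 : Q := sm gb N7751
def N10771 : Q := sm gc N7751
def N10772 : Q := sm gg N7751
def N10773 : Q := sm gd N7752
def N10774 : Q := sm gg N7752
def N10775 : Q := sm gb N7753
def N10776 : Q := sm gf N7753
def N10777 : Q := sm ga N7754
def N10778 : Q := sm gc N7754
def N10779 : Q := sm gf N7754
def N10780 : Q := sm gb N7755
def N10781 : Q := sm gc N7755
def N10782 : Q := sm gf N7755
def N10783 : Q := sm gd N7756
def N10784 : Q := sm gf N7756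
def N10785 : Q := sm gb N7757
def N10786 : Q := sm gg N7757
def N10787 : Q := sm ga N7758
def N10788 : Q := sm gc N7758
def N10789 : Q := sm gg N7758
def N10790 : Q := sm gb N7760
def N10791 : Q := sm gd N7760
def N10792 : Q := sm gc N7761
def N10793 : Q := sm ge N7761
def N10794 : Q := sm gg N7761
def N10795 : Q := sm gb N7762
def N10796 : Q := sm gd N7765
def N10797 : Q := sm gb N7768
def N10798 : Q := sm gd N7768
def N10799 : Q := sm gc N7769
def N10800 : Q := sm ge N7769
def N10801 : Q := sm gf N7769
def N10802 : Q := sm gb N7770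
def N10803 : Q := sm gd N7773
def N10804 : Q := sm gd N7779
def N10805 : Q := sm gg N7779
def N10806 : Q := sm gc N7780
def N10807 : Q := sm ge N7780
def N10808 : Q := sm gb N7781
def N10809 : Q := sm gd N7781
def N10810 : Q := sm ge N7781
def N10811 : Q := sm gg N7781
def N10812 : Q := sm gg N7782
def N10813 : Q := sm gc N7791
def N10814 : Q := sm ge N7791
def N10815 : Q := sm gd N7798
def N10816 : Q := sm gf N7798
def N10817 : Q := sm gc N7799
def N10818 : Q := sm ge N7799
def N10819 : Q := sm gb N7800
def N10820 : Q := sm gd N7800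
def N10821 : Q := sm ge N7800
def N10822 : Q := sm gf N7800
def N10823 : Q := sm gf N7801
def N10824 : Q := sm gc N7810
def N10825 : Q := sm ge N7810
def N10826 : Q := sm ge N7821
def N10827 : Q := sm gg N7821
def N10828 : Q := sm ge N7859
def N10829 : Q := sm gf N7859
def N10830 : Q := sm ga N7995
def N10831 : Q := sm gd N7995
def N10832 : Q := sm gf N7995
def N10833 : Q := sm gg N7995
def N10834 : Q := sm gf N7996
def N10835 : Q := sm gg N7996
def N10836 : Q := sm gb N7997
def N10837 : Q := sm gb N7998
def N10838 : Q := sm gf N7999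
def N10839 : Q := sm gg N7999
def N10840 : Q := sm gb N8000
def N10841 : Q := sm gg N8000
def N10842 : Q := sm gb N8001
def N10843 : Q := sm gf N8001
def N10844 : Q := sm ga N8002
def N10845 : Q := sm gc N8002
def N10846 : Q := sm gg N8002
def N10847 : Q := sm gb N8003
def N10848 : Q := sm ga N8004
def N10849 : Q := sm gc N8004
def N10850 : Q := sm gf N8004
def N10851 : Q := sm gb N8005
def N10852 : Q := sm ga N8006
def N10853 : Q := sm gc N8006
def N10854 : Q := sm gg N8006
def N10855 : Q := sm gb N8007
def N10856 : Q := sm ga N8008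
def N10857 : Q := sm gc N8008
def N10858 : Q := sm gf N8008
def N10859 : Q := sm gb N8009
def N10860 : Q := sm gb N8010
def N10861 : Q := sm gc N8010
def N10862 : Q := sm gg N8010
def N10863 : Q := sm gd N8011
def N10864 : Q := sm gg N8011
def N10865 : Q := sm gb N8012
def N10866 : Q := sm gf N8012
def N10867 : Q := sm ga N8013
def N10868 : Q := sm gc N8013
def N10869 : Q := sm gf N8013
def N10870 : Q := sm gb N8014
def N10871 : Q := sm gc N8014
def N10872 : Q := sm gf N8014
def N10873 : Q := sm gd N8015
def N10874 : Q := sm gf N8015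
def N10875 : Q := sm gb N8016
def N10876 : Q := sm gg N8016
def N10877 : Q := sm ga N8017
def N10878 : Q := sm gc N8017
def N10879 : Q := sm gg N8017
def N10880 : Q := sm gc N8018
def N10881 : Q := sm gb N8019
def N10882 : Q := sm gd N8019
def N10883 : Q := sm ge N8021
def N10884 : Q := sm gg N8021
def N10885 : Q := sm gb N8022
def N10886 : Q := sm gf N8022
def N10887 : Q := sm ga N8023
def N10888 : Q := sm gc N8023
def N10889 : Q := sm gc N8025
def N10890 : Q := sm gd N8026
def N10891 : Q := sm gc N8028
def N10892 : Q := sm gb N8029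
def N10893 : Q := sm gd N8029
def N10894 : Q := sm ge N8031
def N10895 : Q := sm gf N8031
def N10896 : Q := sm gb N8032
def N10897 : Q := sm gg N8032
def N10898 : Q := sm ga N8033
def N10899 : Q := sm gc N8033
def N10900 : Q := sm gc N8035
def N10901 : Q := sm gd N8036
def N10902 : Q := sm gb N8046
def N10903 : Q := sm gd N8046
def N10904 : Q := sm gc N8051
def N10905 : Q := sm gd N8052
def N10906 : Q := sm gd N8056
def N10907 : Q := sm gc N8058
def N10908 : Q := sm ge N8058
def N10909 : Q := sm gb N8069
def N10910 : Q := sm gd N8069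
def N10911 : Q := sm gc N8074
def N10912 : Q := sm gd N8075
def N10913 : Q := sm gd N8079
def N10914 : Q := sm gc N8081
def N10915 : Q := sm ge N8081
def N10916 : Q := sm gb N8115
def N10917 : Q := sm gd N8115
def N10923 : Q := sm gb N8166
def N10924 : Q := sm gd N8166
def N10925 : Q := sm gc N8167
def N10930 : Q := sm gf N8187
def N10931 : Q := sm gg N8187
def N10932 : Q := sm gb N8189
def N10933 : Q := sm gg N8189
def N10934 : Q := sm gb N8190
def N10935 : Q := sm gf N8190
def N10936 : Q := sm ga N8191
def N10937 : Q := sm gc N8191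
def N10938 : Q := sm gg N8191
def N10939 : Q := sm ga N8192
def N10940 : Q := sm gc N8192
def N10941 : Q := sm gf N8192
def N10942 : Q := sm gb N8193
def N10943 : Q := sm gc N8193
def N10944 : Q := sm gd N8194
def N10945 : Q := sm gg N8194
def N10946 : Q := sm gb N8195
def N10947 : Q := sm ga N8196
def N10948 : Q := sm gc N8196
def N10949 : Q := sm gf N8196
def N10950 : Q := sm gb N8197
def N10951 : Q := sm gc N8197
def N10952 : Q := sm gd N8198
def N10953 : Q := sm gf N8198
def N10954 : Q := sm gb N8199
def N10955 : Q := sm ga N8200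
def N10956 : Q := sm gc N8200
def N10957 : Q := sm gg N8200
def N10958 : Q := sm ga N8201
def N10959 : Q := sm gc N8201
def N10960 : Q := sm gf N8201
def N10961 : Q := sm gg N8201
def N10962 : Q := sm gb N8202
def N10963 : Q := sm gd N8202
def N10964 : Q := sm gg N8202
def N10965 : Q := sm gb N8203
def N10966 : Q := sm ge N8204
def N10967 : Q := sm gg N8204
def N10968 : Q := sm gb N8205
def N10969 : Q := sm gf N8205
def N10970 : Q := sm ga N8206
def N10971 : Q := sm gc N8206
def N10972 : Q := sm gf N8206
def N10973 : Q := sm gb N8207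
def N10974 : Q := sm gb N8208
def N10975 : Q := sm gc N8208
def N10976 : Q := sm gf N8208
def N10977 : Q := sm gd N8209
def N10978 : Q := sm gf N8209
def N10979 : Q := sm gg N8210
def N10980 : Q := sm ga N8211
def N10981 : Q := sm gc N8211
def N10982 : Q := sm gf N8211
def N10983 : Q := sm gg N8211
def N10984 : Q := sm gb N8212
def N10985 : Q := sm gd N8212
def N10986 : Q := sm gf N8212
def N10987 : Q := sm gb N8213
def N10988 : Q := sm ge N8214
def N10989 : Q := sm gf N8214
def N10990 : Q := sm gb N8215
def N10991 : Q := sm gg N8215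
def N10992 : Q := sm ga N8216
def N10993 : Q := sm gc N8216
def N10994 : Q := sm gg N8216
def N10995 : Q := sm gb N8217
def N10996 : Q := sm gb N8218
def N10997 : Q := sm gc N8218
def N10998 : Q := sm gg N8218
def N10999 : Q := sm gd N8219
def N11000 : Q := sm gg N8219
def N11001 : Q := sm gf N8220
def N11002 : Q := sm gb N8222
def N11003 : Q := sm gd N8222
def N11004 : Q := sm ga N8225
def N11005 : Q := sm gd N8225
def N11006 : Q := sm gf N8225
def N11007 : Q := sm gg N8225
def N11008 : Q := sm ge N8226
def N11009 : Q := sm gb N8229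
def N11010 : Q := sm ge N8229
def N11011 : Q := sm gg N8229
def N11012 : Q := sm gg N8230
def N11013 : Q := sm gb N8231
def N11014 : Q := sm gf N8231
def N11015 : Q := sm ga N8232
def N11016 : Q := sm gc N8232
def N11017 : Q := sm gf N8232
def N11018 : Q := sm gb N8233
def N11019 : Q := sm gc N8234
def N11020 : Q := sm gd N8235
def N11021 : Q := sm gb N8239
def N11022 : Q := sm gd N8239
def N11023 : Q := sm gc N8241
def N11024 : Q := sm ge N8241
def N11025 : Q := sm gb N8245
def N11026 : Q := sm gd N8245
def N11027 : Q := sm ga N8248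
def N11028 : Q := sm gd N8248
def N11029 : Q := sm gf N8248
def N11030 : Q := sm gg N8248
def N11031 : Q := sm ge N8249
def N11032 : Q := sm gb N8252
def N11033 : Q := sm ge N8252
def N11034 : Q := sm gf N8252
def N11035 : Q := sm gf N8253
def N11036 : Q := sm gb N8254
def N11037 : Q := sm gg N8254
def N11038 : Q := sm ga N8255
def N11039 : Q := sm gc N8255
def N11040 : Q := sm gg N8255
def N11041 : Q := sm gb N8256
def N11042 : Q := sm gc N8257
def N11043 : Q := sm gd N8258
def N11044 : Q := sm gb N8262
def N11045 : Q := sm gd N8262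
def N11046 : Q := sm gc N8264
def N11047 : Q := sm ge N8264
def N11048 : Q := sm gb N8275
def N11049 : Q := sm ge N8275
def N11050 : Q := sm ga N8282
def N11051 : Q := sm gd N8282
def N11052 : Q := sm ge N8282
def N11053 : Q := sm gf N8282
def N11054 : Q := sm gg N8282
def N11055 : Q := sm ge N8283
def N11056 : Q := sm gg N8283
def N11057 : Q := sm gd N8284
def N11058 : Q := sm gg N8284
def N11059 : Q := sm gb N8285
def N11060 : Q := sm gf N8285
def N11061 : Q := sm gb N8286
def N11062 : Q := sm gf N8286
def N11063 : Q := sm ga N8287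
def N11064 : Q := sm gc N8287
def N11065 : Q := sm gf N8287
def N11066 : Q := sm gb N8288
def N11067 : Q := sm gg N8291
def N11068 : Q := sm gd N8293
def N11069 : Q := sm gc N8294
def N11070 : Q := sm ge N8294
def N11071 : Q := sm gd N8304
def N11072 : Q := sm gf N8304
def N11073 : Q := sm gc N8305
def N11074 : Q := sm ge N8305
def N11075 : Q := sm gb N8308
def N11076 : Q := sm gd N8308
def N11077 : Q := sm ge N8308
def N11078 : Q := sm gb N8321
def N11079 : Q := sm ge N8321
def N11080 : Q := sm ga N8325
def N11081 : Q := sm gd N8325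
def N11082 : Q := sm ge N8325
def N11083 : Q := sm gf N8325
def N11084 : Q := sm gg N8325
def N11085 : Q := sm ge N8326
def N11086 : Q := sm gf N8326
def N11087 : Q := sm gd N8327
def N11088 : Q := sm gf N8327
def N11089 : Q := sm gb N8328
def N11090 : Q := sm gg N8328
def N11091 : Q := sm gb N8329
def N11092 : Q := sm gg N8329
def N11093 : Q := sm ga N8330
def N11094 : Q := sm gc N8330
def N11095 : Q := sm gg N8330
def N11096 : Q := sm gb N8331
def N11097 : Q := sm gf N8334
def N11098 : Q := sm gd N8336
def N11099 : Q := sm gc N8337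
def N11100 : Q := sm ge N8337
def N11101 : Q := sm gd N8347
def N11102 : Q := sm gg N8347
def N11103 : Q := sm gc N8348
def N11104 : Q := sm ge N8348
def N11105 : Q := sm gb N8351
def N11106 : Q := sm gd N8351
def N11107 : Q := sm ge N8351
def N11108 : Q := sm ga N8387
def N11109 : Q := sm gc N8387
def N11111 : Q := sm gb N8388
def N11112 : Q := sm gg N8392
def N11114 : Q := sm gd N8404
def N11115 : Q := sm ge N8404
def N11117 : Q := sm ge N8426
def N11118 : Q := sm gf N8426
def N11121 : Q := sm ge N8434
def N11122 : Q := sm gd N8435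
def N11123 : Q := sm gg N8467
def N11124 : Q := sm gb N8468
def N11125 : Q := sm gf N8472
def N11129 : Q := sm gc N8502
def N11135 : Q := sm gd N8510
def N11136 : Q := sm gb N8518
def N11137 : Q := sm ge N8518
def N11138 : Q := sm gf N8518
def N11139 : Q := sm gg N8518
def N11140 : Q := sm gd N8519
def N11141 : Q := sm gf N8519
def N11142 : Q := sm gg N8519
def N11143 : Q := sm gg N8520
def N11144 : Q := sm gb N8521
def N11145 : Q := sm gf N8521
def N11146 : Q := sm gg N8522
def N11147 : Q := sm gb N8523
def N11148 : Q := sm ga N8524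
def N11149 : Q := sm gc N8524
def N11150 : Q := sm gf N8524
def N11151 : Q := sm ga N8525
def N11152 : Q := sm gc N8525
def N11153 : Q := sm gf N8525
def N11154 : Q := sm gc N8526
def N11155 : Q := sm gf N8526
def N11156 : Q := sm gd N8527
def N11157 : Q := sm gf N8527
def N11158 : Q := sm ga N8531
def N11159 : Q := sm ge N8531
def N11160 : Q := sm gf N8531
def N11161 : Q := sm gg N8531
def N11162 : Q := sm gd N8532
def N11163 : Q := sm gb N8545
def N11164 : Q := sm ge N8545
def N11165 : Q := sm gf N8545
def N11166 : Q := sm gg N8545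
def N11167 : Q := sm gd N8546
def N11168 : Q := sm gf N8546
def N11169 : Q := sm gg N8546
def N11170 : Q := sm gb N8547
def N11171 : Q := sm gg N8547
def N11172 : Q := sm gf N8548
def N11173 : Q := sm gf N8549
def N11174 : Q := sm gb N8550
def N11175 : Q := sm ga N8551
def N11176 : Q := sm gc N8551
def N11177 : Q := sm gg N8551
def N11178 : Q := sm ga N8552
def N11179 : Q := sm gc N8552
def N11180 : Q := sm gg N8552
def N11181 : Q := sm gc N8553
def N11182 : Q := sm gg N8553
def N11183 : Q := sm gd N8554
def N11184 : Q := sm gg N8554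
def N11185 : Q := sm ga N8559
def N11186 : Q := sm ge N8559
def N11187 : Q := sm gf N8559
def N11188 : Q := sm gg N8559
def N11189 : Q := sm gd N8560
def N11191 : Q := sm gd N8562
def N11193 : Q := sm gd N8609
def N11194 : Q := sm ga N8746
def N11195 : Q := sm gf N8746
def N11196 : Q := sm gg N8746
def N11197 : Q := sm gd N8767
def N11198 : Q := sm gf N8767
def N11199 : Q := sm gg N8767
def N11200 : Q := sm gc N8768
def N11201 : Q := sm gf N8768
def N11202 : Q := sm gg N8768
def N11203 : Q := sm gg N8769
def N11204 : Q := sm gf N8770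
def N11205 : Q := sm gb N8798
def N11206 : Q := sm gf N8798
def N11207 : Q := sm gg N8798
def N11208 : Q := sm gf N8799
def N11209 : Q := sm gg N8799
def N11210 : Q := sm gb N8800
def N11211 : Q := sm gg N8800
def N11212 : Q := sm gb N8801
def N11213 : Q := sm gf N8801
def N11214 : Q := sm gf N8802
def N11215 : Q := sm gg N8802
def N11216 : Q := sm gb N8803
def N11217 : Q := sm gb N8804
def N11218 : Q := sm ga N8805
def N11219 : Q := sm gg N8805
def N11220 : Q := sm ga N8806
def N11221 : Q := sm gf N8806
def N11222 : Q := sm gd N8843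
def N11223 : Q := sm gf N8843
def N11224 : Q := sm gg N8843
def N11225 : Q := sm gc N8844
def N11226 : Q := sm gf N8844
def N11227 : Q := sm gg N8844
def N11228 : Q := sm gb N8845
def N11229 : Q := sm gb N8846
def N11230 : Q := sm gd N8847
def N11231 : Q := sm ge N8847
def N11232 : Q := sm gf N8847
def N11233 : Q := sm gg N8847
def N11234 : Q := sm gf N8848
def N11235 : Q := sm gg N8848
def N11236 : Q := sm gb N8849
def N11237 : Q := sm gg N8849
def N11238 : Q := sm gb N8850
def N11239 : Q := sm gf N8850
def N11240 : Q := sm ga N8851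
def N11241 : Q := sm gg N8851
def N11242 : Q := sm gb N8852
def N11243 : Q := sm ga N8853
def N11244 : Q := sm gf N8853
def N11245 : Q := sm gb N8854
def N11246 : Q := sm gb N8855
def N11247 : Q := sm gb N8856
def N11248 : Q := sm ga N8857
def N11249 : Q := sm gc N8857
def N11250 : Q := sm gg N8857
def N11251 : Q := sm ga N8858
def N11252 : Q := sm gc N8858
def N11253 : Q := sm gf N8858
def N11254 : Q := sm gb N8859
def N11255 : Q := sm gg N8859
def N11256 : Q := sm gf N8861
def N11257 : Q := sm gb N8862
def N11258 : Q := sm gf N8862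
def N11259 : Q := sm gg N8864
def N11260 : Q := sm gb N8918
def N11261 : Q := sm gb N8919
def N11262 : Q := sm ga N8924
def N11263 : Q := sm gc N8924
def N11264 : Q := sm gg N8924
def N11265 : Q := sm gb N8925
def N11266 : Q := sm ga N8926
def N11267 : Q := sm gc N8926
def N11268 : Q := sm gf N8926
def N11269 : Q := sm gb N8927
def N11270 : Q := sm gb N8928
def N11271 : Q := sm gg N8928
def N11272 : Q := sm gb N8929
def N11273 : Q := sm gf N8929
def N11274 : Q := sm ga N8930
def N11275 : Q := sm gc N8930
def N11276 : Q := sm gg N8930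
def N11277 : Q := sm gb N8931
def N11278 : Q := sm ga N8932
def N11279 : Q := sm gc N8932
def N11280 : Q := sm gf N8932
def N11281 : Q := sm gb N8933
def N11282 : Q := sm gb N8934
def N11283 : Q := sm gc N8934
def N11284 : Q := sm gg N8934
def N11285 : Q := sm gd N8935
def N11286 : Q := sm gg N8935
def N11287 : Q := sm gb N8936
def N11288 : Q := sm gf N8936
def N11289 : Q := sm ga N8937
def N11290 : Q := sm gc N8937
def N11291 : Q := sm gf N8937
def N11292 : Q := sm gb N8938
def N11293 : Q := sm gc N8938
def N11294 : Q := sm gf N8938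
def N11295 : Q := sm gd N8939
def N11296 : Q := sm gf N8939
def N11297 : Q := sm gb N8940
def N11298 : Q := sm gg N8940
def N11299 : Q := sm ga N8941
def N11300 : Q := sm gc N8941
def N11301 : Q := sm gg N8941
def N11302 : Q := sm ge N8944
def N11303 : Q := sm gc N8947
def N11304 : Q := sm gd N8948
def N11305 : Q := sm ge N8952
def N11306 : Q := sm gc N8955
def N11307 : Q := sm gd N8956
def N11308 : Q := sm gd N8971
def N11309 : Q := sm gc N8972
def N11310 : Q := sm ge N8972
def N11311 : Q := sm gd N8988
def N11312 : Q := sm gc N8989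
def N11313 : Q := sm ge N8989
def N11314 : Q := sm ge N9014
def N11315 : Q := sm gb N9015
def N11316 : Q := sm ge N9015
def N11318 : Q := sm gb N9043
def N11320 : Q := sm gb N9054
def N11321 : Q := sm gb N9055
def N11322 : Q := sm ga N9056
def N11323 : Q := sm gc N9056
def N11324 : Q := sm gg N9056
def N11325 : Q := sm ga N9057
def N11326 : Q := sm gc N9057
def N11327 : Q := sm gf N9057
def N11328 : Q := sm ga N9060
def N11329 : Q := sm gc N9060
def N11330 : Q := sm gg N9060
def N11331 : Q := sm gb N9061
def N11332 : Q := sm ga N9062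
def N11333 : Q := sm gc N9062
def N11334 : Q := sm gf N9062
def N11335 : Q := sm gb N9063
def N11336 : Q := sm gb N9064
def N11337 : Q := sm gc N9064
def N11338 : Q := sm gd N9065
def N11339 : Q := sm gg N9065
def N11340 : Q := sm gb N9066
def N11341 : Q := sm ga N9067
def N11342 : Q := sm gc N9067
def N11343 : Q := sm gf N9067
def N11344 : Q := sm gb N9068
def N11345 : Q := sm gc N9068
def N11346 : Q := sm gd N9069
def N11347 : Q := sm gf N9069
def N11348 : Q := sm gb N9070
def N11349 : Q := sm ga N9071
def N11350 : Q := sm gc N9071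
def N11351 : Q := sm gg N9071
def N11352 : Q := sm gb N9074
def N11353 : Q := sm gb N9075
def N11354 : Q := sm ga N9079
def N11355 : Q := sm gc N9079
def N11356 : Q := sm gg N9079
def N11357 : Q := sm ga N9080
def N11358 : Q := sm gc N9080
def N11359 : Q := sm gf N9080
def N11360 : Q := sm ga N9081
def N11361 : Q := sm gc N9081
def N11362 : Q := sm gg N9081
def N11363 : Q := sm gb N9082
def N11364 : Q := sm ga N9083
def N11365 : Q := sm gc N9083
def N11366 : Q := sm gf N9083
def N11367 : Q := sm gb N9084
def N11368 : Q := sm gb N9085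
def N11369 : Q := sm gc N9085
def N11370 : Q := sm gg N9085
def N11371 : Q := sm gd N9086
def N11372 : Q := sm gg N9086
def N11373 : Q := sm gb N9087
def N11374 : Q := sm gf N9087
def N11375 : Q := sm ga N9088
def N11376 : Q := sm gc N9088
def N11377 : Q := sm gf N9088
def N11378 : Q := sm gb N9089
def N11379 : Q := sm gc N9089
def N11380 : Q := sm gf N9089
def N11381 : Q := sm gd N9090
def N11382 : Q := sm gf N9090
def N11383 : Q := sm gb N9091
def N11384 : Q := sm gg N9091
def N11385 : Q := sm ga N9092
def N11386 : Q := sm gc N9092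
def N11387 : Q := sm gg N9092
def N11388 : Q := sm ga N9093
def N11389 : Q := sm gc N9093
def N11390 : Q := sm gf N9093
def N11391 : Q := sm gg N9093
def N11392 : Q := sm gb N9094
def N11393 : Q := sm gd N9094
def N11394 : Q := sm gg N9094
def N11395 : Q := sm gb N9095
def N11396 : Q := sm gc N9096
def N11397 : Q := sm ge N9096
def N11398 : Q := sm gg N9096
def N11399 : Q := sm gf N9097
def N11400 : Q := sm ga N9098
def N11401 : Q := sm gc N9098
def N11402 : Q := sm gf N9098
def N11403 : Q := sm gb N9099
def N11404 : Q := sm gb N9100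
def N11405 : Q := sm gc N9100
def N11406 : Q := sm gf N9100
def N11407 : Q := sm gd N9101
def N11408 : Q := sm gf N9101
def N11409 : Q := sm gg N9102
def N11410 : Q := sm ga N9103
def N11411 : Q := sm gc N9103
def N11412 : Q := sm gf N9103
def N11413 : Q := sm gg N9103
def N11414 : Q := sm gb N9104
def N11415 : Q := sm gd N9104
def N11416 : Q := sm gf N9104
def N11417 : Q := sm gb N9105
def N11418 : Q := sm gc N9106
def N11419 : Q := sm ge N9106
def N11420 : Q := sm gf N9106
def N11421 : Q := sm gg N9107
def N11422 : Q := sm ga N9108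
def N11423 : Q := sm gc N9108
def N11424 : Q := sm gg N9108
def N11425 : Q := sm gb N9109
def N11426 : Q := sm gb N9110
def N11427 : Q := sm gc N9110
def N11428 : Q := sm gg N9110
def N11429 : Q := sm gd N9111
def N11430 : Q := sm gg N9111
def N11431 : Q := sm gf N9112
def N11432 : Q := sm gb N9118
def N11433 : Q := sm ge N9118
def N11434 : Q := sm gb N9126
def N11435 : Q := sm gd N9126
def N11436 : Q := sm gc N9127
def N11437 : Q := sm ge N9127
def N11438 : Q := sm gb N9135
def N11439 : Q := sm ge N9135
def N11440 : Q := sm gb N9143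
def N11441 : Q := sm gd N9143
def N11442 : Q := sm gc N9144
def N11443 : Q := sm ge N9144
def N11444 : Q := sm ga N9149
def N11445 : Q := sm gd N9149
def N11446 : Q := sm ge N9149
def N11447 : Q := sm gf N9149
def N11448 : Q := sm gg N9149
def N11449 : Q := sm ge N9150
def N11450 : Q := sm gd N9151
def N11451 : Q := sm gd N9162
def N11453 : Q := sm gc N9163
def N11454 : Q := sm ge N9163
def N11455 : Q := sm gb N9164
def N11456 : Q := sm gd N9164
def N11457 : Q := sm ge N9164
def N11458 : Q := sm ga N9179
def N11459 : Q := sm gd N9179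
def N11460 : Q := sm ge N9179
def N11461 : Q := sm gf N9179
def N11462 : Q := sm gg N9179
def N11463 : Q := sm ge N9180
def N11464 : Q := sm gd N9181
def N11465 : Q := sm gd N9192
def N11466 : Q := sm gg N9192
def N11467 : Q := sm gc N9193
def N11468 : Q := sm ge N9193
def N11469 : Q := sm gb N9194
def N11470 : Q := sm gd N9194
def N11471 : Q := sm ge N9194
def N11473 : Q := sm gb N9231
def N11474 : Q := sm ge N9231
def N11476 : Q := sm ge N9233
def N11477 : Q := sm gf N9233
def N11478 : Q := sm gg N9233
def N11480 : Q := sm gd N9235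
def N11482 : Q := sm gb N9291
def N11484 : Q := sm gd N9293
def N11485 : Q := sm ge N9293
def N11487 : Q := sm gg N9293
def N11488 : Q := sm ge N9294
def N11489 : Q := sm gd N9295
def N11490 : Q := sm gf N9300
def N11491 : Q := sm gg N9300
def N11492 : Q := sm gf N9302
def N11493 : Q := sm gg N9302
def N11494 : Q := sm gb N9303
def N11495 : Q := sm gg N9303
def N11496 : Q := sm gb N9304
def N11497 : Q := sm gf N9304
def N11498 : Q := sm gb N9305
def N11499 : Q := sm gf N9305
def N11500 : Q := sm gg N9305
def N11501 : Q := sm gb N9306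
def N11502 : Q := sm gb N9307
def N11503 : Q := sm ga N9308
def N11504 : Q := sm gc N9308
def N11505 : Q := sm gg N9308
def N11506 : Q := sm ga N9309
def N11507 : Q := sm gc N9309
def N11508 : Q := sm gf N9309
def N11509 : Q := sm gb N9311
def N11510 : Q := sm gg N9311
def N11511 : Q := sm gb N9312
def N11512 : Q := sm gf N9312
def N11513 : Q := sm ga N9313
def N11514 : Q := sm gc N9313
def N11515 : Q := sm gg N9313
def N11516 : Q := sm gb N9314
def N11517 : Q := sm ga N9315
def N11518 : Q := sm gc N9315
def N11519 : Q := sm gf N9315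
def N11520 : Q := sm gb N9316
def N11521 : Q := sm gb N9317
def N11522 : Q := sm gc N9317
def N11523 : Q := sm gd N9318
def N11524 : Q := sm gg N9318
def N11525 : Q := sm gb N9319
def N11526 : Q := sm ga N9320
def N11527 : Q := sm gc N9320
def N11528 : Q := sm gf N9320
def N11529 : Q := sm gb N9321
def N11530 : Q := sm gc N9321
def N11531 : Q := sm gd N9322
def N11532 : Q := sm gf N9322
def N11533 : Q := sm gb N9323
def N11534 : Q := sm ga N9324
def N11535 : Q := sm gc N9324
def N11536 : Q := sm gg N9324
def N11537 : Q := sm gb N9325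
def N11538 : Q := sm gc N9325
def N11539 : Q := sm gg N9325
def N11540 : Q := sm gd N9326
def N11541 : Q := sm gg N9326
def N11542 : Q := sm gf N9327
def N11543 : Q := sm gb N9328
def N11544 : Q := sm gc N9328
def N11545 : Q := sm gf N9328
def N11546 : Q := sm gd N9329
def N11547 : Q := sm gf N9329
def N11548 : Q := sm gg N9330
def N11549 : Q := sm ga N9331
def N11550 : Q := sm gf N9331
def N11551 : Q := sm gg N9331
def N11552 : Q := sm gb N9332
def N11553 : Q := sm gd N9332
def N11554 : Q := sm gg N9332
def N11555 : Q := sm gb N9333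
def N11556 : Q := sm gc N9334
def N11557 : Q := sm ge N9334
def N11558 : Q := sm gg N9334
def N11559 : Q := sm gb N9335
def N11560 : Q := sm gf N9335
def N11561 : Q := sm gb N9336
def N11562 : Q := sm ga N9337
def N11563 : Q := sm gc N9337
def N11564 : Q := sm gf N9337
def N11565 : Q := sm gg N9337
def N11566 : Q := sm gb N9338
def N11567 : Q := sm gd N9338
def N11568 : Q := sm gf N9338
def N11569 : Q := sm gb N9339
def N11570 : Q := sm gc N9340
def N11571 : Q := sm ge N9340
def N11572 : Q := sm gf N9340
def N11573 : Q := sm gb N9341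
def N11574 : Q := sm gg N9341
def N11575 : Q := sm gb N9342
def N11576 : Q := sm ga N9347
def N11577 : Q := sm gd N9347
def N11578 : Q := sm gf N9347
def N11579 : Q := sm gg N9347
def N11580 : Q := sm ge N9348
def N11581 : Q := sm gb N9349
def N11582 : Q := sm gg N9352
def N11583 : Q := sm gb N9353
def N11584 : Q := sm ga N9354
def N11585 : Q := sm gf N9354
def N11586 : Q := sm ga N9361
def N11587 : Q := sm gd N9361
def N11588 : Q := sm gf N9361
def N11589 : Q := sm gg N9361
def N11590 : Q := sm ge N9362
def N11591 : Q := sm gb N9363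
def N11592 : Q := sm gf N9366
def N11593 : Q := sm gb N9367
def N11594 : Q := sm ga N9368
def N11595 : Q := sm gg N9368
def N11596 : Q := sm ga N9390
def N11597 : Q := sm gd N9390
def N11598 : Q := sm gf N9390
def N11599 : Q := sm gg N9390
def N11600 : Q := sm ge N9391
def N11601 : Q := sm ga N9421
def N11602 : Q := sm gd N9421
def N11603 : Q := sm gf N9421
def N11604 : Q := sm gg N9421
def N11605 : Q := sm ge N9422
def N11606 : Q := sm gb N9542
def N11607 : Q := sm gb N9543
def N11608 : Q := sm gb N9545
def N11609 : Q := sm gg N9545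
def N11610 : Q := sm gb N9546
def N11611 : Q := sm gf N9546
def N11612 : Q := sm gg N9547
def N11613 : Q := sm gb N9548
def N11614 : Q := sm ga N9549
def N11615 : Q := sm gc N9549
def N11616 : Q := sm gf N9549
def N11617 : Q := sm gb N9550
def N11618 : Q := sm gb N9551
def N11619 : Q := sm gg N9551
def N11620 : Q := sm gg N9552
def N11621 : Q := sm gb N9554
def N11622 : Q := sm gc N9554
def N11623 : Q := sm gf N9554
def N11624 : Q := sm gd N9555
def N11625 : Q := sm gf N9555
def N11626 : Q := sm gg N9556
def N11627 : Q := sm ga N9557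
def N11628 : Q := sm gc N9557
def N11629 : Q := sm gf N9557
def N11630 : Q := sm gg N9557
def N11631 : Q := sm gb N9558
def N11632 : Q := sm gd N9558
def N11633 : Q := sm gc N9559
def N11634 : Q := sm ge N9559
def N11635 : Q := sm gg N9559
def N11636 : Q := sm gb N9560
def N11637 : Q := sm ga N9561
def N11638 : Q := sm gc N9561
def N11639 : Q := sm gf N9561
def N11640 : Q := sm gb N9562
def N11641 : Q := sm gc N9562
def N11642 : Q := sm gf N9562
def N11643 : Q := sm gd N9563
def N11644 : Q := sm gf N9563
def N11645 : Q := sm gg N9564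
def N11646 : Q := sm ga N9565
def N11647 : Q := sm gc N9565
def N11648 : Q := sm gf N9565
def N11649 : Q := sm gg N9565
def N11650 : Q := sm gb N9566
def N11651 : Q := sm gd N9566
def N11652 : Q := sm gc N9567
def N11653 : Q := sm ge N9567
def N11654 : Q := sm gf N9567
def N11655 : Q := sm gb N9568
def N11656 : Q := sm ga N9569
def N11657 : Q := sm gc N9569
def N11658 : Q := sm gg N9569
def N11659 : Q := sm gb N9570
def N11660 : Q := sm gc N9570
def N11661 : Q := sm gg N9570
def N11662 : Q := sm gd N9571
def N11663 : Q := sm gg N9571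
def N11664 : Q := sm gf N9572
def N11665 : Q := sm gf N9573
def N11666 : Q := sm gg N9573
def N11667 : Q := sm gg N9575
def N11668 : Q := sm gb N9576
def N11669 : Q := sm gf N9576
def N11670 : Q := sm gd N9577
def N11671 : Q := sm gf N9577
def N11672 : Q := sm gg N9577
def N11673 : Q := sm ge N9578
def N11674 : Q := sm gg N9578
def N11675 : Q := sm gb N9579
def N11676 : Q := sm ga N9580
def N11677 : Q := sm gc N9580
def N11678 : Q := sm gf N9580
def N11679 : Q := sm gb N9581
def N11680 : Q := sm ge N9581
def N11681 : Q := sm gg N9581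
def N11682 : Q := sm gg N9582
def N11683 : Q := sm gb N9583
def N11684 : Q := sm gf N9583
def N11685 : Q := sm ga N9584
def N11686 : Q := sm gf N9584
def N11687 : Q := sm gb N9585
def N11688 : Q := sm ga N9586
def N11689 : Q := sm gc N9586
def N11690 : Q := sm gg N9586
def N11691 : Q := sm gc N9587
def N11692 : Q := sm gf N9587
def N11693 : Q := sm gg N9587
def N11694 : Q := sm gb N9588
def N11696 : Q := sm gf N9588
def N11697 : Q := sm gg N9588
def N11698 : Q := sm gb N9589
def N11699 : Q := sm gg N9589
def N11700 : Q := sm gf N9590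
def N11701 : Q := sm ga N9591
def N11702 : Q := sm gd N9591
def N11703 : Q := sm gf N9591
def N11704 : Q := sm gg N9591
def N11705 : Q := sm ge N9592
def N11706 : Q := sm gf N9592
def N11707 : Q := sm gb N9593
def N11708 : Q := sm ga N9594
def N11709 : Q := sm gc N9594
def N11710 : Q := sm gg N9594
def N11711 : Q := sm gb N9595
def N11712 : Q := sm ge N9595
def N11713 : Q := sm gf N9595
def N11714 : Q := sm gf N9596
def N11715 : Q := sm gb N9597
def N11716 : Q := sm gg N9597
def N11717 : Q := sm ga N9598
def N11718 : Q := sm gg N9598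
def N11719 : Q := sm gb N9599
def N11720 : Q := sm ga N9600
def N11721 : Q := sm gc N9600
def N11722 : Q := sm gf N9600
def N11723 : Q := sm gb N9610
def N11724 : Q := sm gd N9610
def N11725 : Q := sm gf N9610
def N11726 : Q := sm gg N9610
def N11727 : Q := sm gc N9611
def N11728 : Q := sm ge N9611
def N11729 : Q := sm gf N9611
def N11730 : Q := sm gg N9611
def N11731 : Q := sm gg N9612
def N11732 : Q := sm gb N9613
def N11733 : Q := sm gf N9613
def N11734 : Q := sm gg N9614
def N11735 : Q := sm gb N9615
def N11736 : Q := sm ga N9616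
def N11737 : Q := sm gf N9616
def N11738 : Q := sm ga N9619
def N11739 : Q := sm ge N9619
def N11740 : Q := sm gf N9619
def N11741 : Q := sm gg N9619
def N11742 : Q := sm gd N9620
def N11743 : Q := sm gg N9620
def N11744 : Q := sm gb N9621
def N11745 : Q := sm gb N9622
def N11746 : Q := sm ga N9623
def N11747 : Q := sm gc N9623
def N11748 : Q := sm gf N9623
def N11749 : Q := sm gb N9625
def N11750 : Q := sm gf N9625
def N11751 : Q := sm gg N9626
def N11752 : Q := sm gb N9639
def N11753 : Q := sm gd N9639
def N11754 : Q := sm gf N9639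
def N11755 : Q := sm gg N9639
def N11756 : Q := sm gc N9640
def N11757 : Q := sm ge N9640
def N11758 : Q := sm gf N9640
def N11759 : Q := sm gg N9640
def N11760 : Q := sm gb N9641
def N11761 : Q := sm gg N9641
def N11762 : Q := sm gf N9642
def N11763 : Q := sm gf N9643
def N11764 : Q := sm gb N9644
def N11765 : Q := sm ga N9645
def N11766 : Q := sm gg N9645
def N11767 : Q := sm ga N9648
def N11768 : Q := sm ge N9648
def N11769 : Q := sm gf N9648
def N11770 : Q := sm gg N9648
def N11771 : Q := sm gd N9649
def N11772 : Q := sm gf N9649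
def N11773 : Q := sm gb N9650
def N11774 : Q := sm gb N9651
def N11775 : Q := sm ga N9652
def N11776 : Q := sm gc N9652
def N11777 : Q := sm gg N9652
def N11778 : Q := sm gb N9654
def N11779 : Q := sm gg N9654
def N11780 : Q := sm gf N9655
def N11781 : Q := sm gb N9676
def N11782 : Q := sm gd N9676
def N11783 : Q := sm ge N9676
def N11784 : Q := sm gg N9676
def N11785 : Q := sm gg N9677
def N11786 : Q := sm gb N9678
def N11787 : Q := sm ga N9679
def N11788 : Q := sm ga N9680
def N11789 : Q := sm ge N9680
def N11790 : Q := sm gf N9680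
def N11791 : Q := sm gg N9680
def N11792 : Q := sm gd N9681
def N11793 : Q := sm gb N9682
def N11794 : Q := sm ga N9684
def N11795 : Q := sm gc N9684
def N11797 : Q := sm gb N9690
def N11798 : Q := sm gd N9690
def N11799 : Q := sm ge N9690
def N11800 : Q := sm gf N9690
def N11801 : Q := sm gg N9690
def N11802 : Q := sm ge N9691
def N11803 : Q := sm gf N9691
def N11804 : Q := sm gg N9691
def N11805 : Q := sm gd N9692
def N11806 : Q := sm gf N9692
def N11807 : Q := sm gg N9692
def N11808 : Q := sm gg N9693
def N11809 : Q := sm gb N9694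
def N11810 : Q := sm gf N9694
def N11811 : Q := sm gd N9695
def N11812 : Q := sm gg N9695
def N11813 : Q := sm gb N9696
def N11814 : Q := sm gc N9697
def N11815 : Q := sm gg N9697
def N11816 : Q := sm gb N9698
def N11817 : Q := sm ga N9699
def N11818 : Q := sm gc N9699
def N11819 : Q := sm gf N9699
def N11820 : Q := sm ga N9701
def N11821 : Q := sm gc N9701
def N11822 : Q := sm gc N9703
def N11823 : Q := sm gd N9704
def N11824 : Q := sm gb N9733
def N11825 : Q := sm gd N9733
def N11826 : Q := sm ge N9733
def N11827 : Q := sm gf N9733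
def N11828 : Q := sm gf N9734
def N11829 : Q := sm gb N9735
def N11831 : Q := sm ga N9740
def N11832 : Q := sm ge N9740
def N11833 : Q := sm gf N9740
def N11834 : Q := sm gg N9740
def N11835 : Q := sm gd N9741
def N11836 : Q := sm gb N9742
def N11837 : Q := sm ga N9744
def N11838 : Q := sm gc N9744
def N11839 : Q := sm gg N9744
def N11840 : Q := sm gb N9750
def N11841 : Q := sm gd N9750
def N11842 : Q := sm ge N9750
def N11843 : Q := sm gf N9750
def N11844 : Q := sm gg N9750
def N11845 : Q := sm ge N9751
def N11846 : Q := sm gf N9751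
def N11847 : Q := sm gg N9751
def N11848 : Q := sm gd N9752
def N11849 : Q := sm gf N9752
def N11850 : Q := sm gg N9752
def N11851 : Q := sm gb N9753
def N11852 : Q := sm gg N9753
def N11853 : Q := sm gf N9754
def N11854 : Q := sm gd N9755
def N11855 : Q := sm gf N9755
def N11856 : Q := sm gb N9756
def N11857 : Q := sm gc N9757
def N11858 : Q := sm gf N9757
def N11859 : Q := sm gb N9758
def N11860 : Q := sm ga N9759
def N11861 : Q := sm gc N9759
def N11862 : Q := sm gg N9759
def N11863 : Q := sm ga N9761
def N11864 : Q := sm gc N9761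
def N11865 : Q := sm gc N9763
def N11866 : Q := sm gd N9764
def N11867 : Q := sm gb N9851
def N11868 : Q := sm ge N9851
def N11869 : Q := sm gf N9851
def N11870 : Q := sm gg N9851
def N11871 : Q := sm gd N9852
def N11872 : Q := sm gf N9852
def N11873 : Q := sm gg N9852
def N11874 : Q := sm gg N9853
def N11875 : Q := sm gf N9854
def N11876 : Q := sm ga N9856
def N11877 : Q := sm gc N9856
def N11878 : Q := sm ge N9856
def N11879 : Q := sm gf N9856
def N11880 : Q := sm gg N9856
def N11881 : Q := sm gd N9857
def N11882 : Q := sm gf N9857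
def N11883 : Q := sm gg N9857
def N11884 : Q := sm gb N9858
def N11885 : Q := sm gb N9859
def N11886 : Q := sm gc N9860
def N11887 : Q := sm gf N9860
def N11888 : Q := sm gg N9860
def N11889 : Q := sm gg N9861
def N11890 : Q := sm gb N9862
def N11891 : Q := sm gf N9862
def N11892 : Q := sm gb N9863
def N11893 : Q := sm ga N9864
def N11894 : Q := sm gc N9864
def N11895 : Q := sm gf N9864
def N11896 : Q := sm gb N9865
def N11897 : Q := sm gb N9866
def N11898 : Q := sm gg N9866
def N11899 : Q := sm gb N9867
def N11900 : Q := sm ga N9868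
def N11901 : Q := sm gc N9868
def N11902 : Q := sm gf N9868
def N11903 : Q := sm gb N9869
def N11904 : Q := sm gb N9870
def N11905 : Q := sm gc N9870
def N11906 : Q := sm gf N9870
def N11907 : Q := sm gd N9871
def N11908 : Q := sm gf N9871
def N11909 : Q := sm gb N9872
def N11910 : Q := sm gg N9872
def N11911 : Q := sm ga N9873
def N11912 : Q := sm gc N9873
def N11913 : Q := sm gg N9873
def N11914 : Q := sm gc N9874
def N11915 : Q := sm gd N9875
def N11916 : Q := sm gf N9875
def N11917 : Q := sm gc N9877
def N11918 : Q := sm gg N9877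
def N11919 : Q := sm gc N9878
def N11920 : Q := sm gb N9879
def N11921 : Q := sm gd N9879
def N11922 : Q := sm gc N9880
def N11923 : Q := sm ge N9880
def N11924 : Q := sm gf N9880
def N11925 : Q := sm gb N9881
def N11926 : Q := sm gd N9882
def N11927 : Q := sm gg N9882
def N11928 : Q := sm gb N9884
def N11929 : Q := sm ge N9884
def N11930 : Q := sm gf N9884
def N11931 : Q := sm gg N9884
def N11932 : Q := sm gd N9885
def N11933 : Q := sm gf N9885
def N11934 : Q := sm gg N9885
def N11935 : Q := sm gg N9886
def N11936 : Q := sm gf N9887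
def N11937 : Q := sm ga N9889
def N11938 : Q := sm gc N9889
def N11939 : Q := sm ge N9889
def N11940 : Q := sm gf N9889
def N11941 : Q := sm gg N9889
def N11942 : Q := sm gd N9890
def N11943 : Q := sm gf N9890
def N11944 : Q := sm gg N9890
def N11945 : Q := sm gb N9891
def N11946 : Q := sm gb N9892
def N11947 : Q := sm gc N9893
def N11948 : Q := sm gf N9893
def N11949 : Q := sm gg N9893
def N11950 : Q := sm gb N9894
def N11951 : Q := sm gg N9894
def N11952 : Q := sm gf N9895
def N11953 : Q := sm ga N9896
def N11954 : Q := sm gc N9896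
def N11955 : Q := sm gg N9896
def N11956 : Q := sm gb N9897
def N11957 : Q := sm gb N9898
def N11958 : Q := sm gb N9899
def N11959 : Q := sm gf N9899
def N11960 : Q := sm gb N9900
def N11961 : Q := sm ga N9901
def N11962 : Q := sm gc N9901
def N11963 : Q := sm gg N9901
def N11964 : Q := sm gb N9902
def N11965 : Q := sm gb N9903
def N11966 : Q := sm gc N9903
def N11967 : Q := sm gg N9903
def N11968 : Q := sm gd N9904
def N11969 : Q := sm gg N9904
def N11970 : Q := sm gb N9905
def N11971 : Q := sm gf N9905
def N11972 : Q := sm ga N9906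
def N11973 : Q := sm gc N9906
def N11974 : Q := sm gf N9906
def N11975 : Q := sm gc N9907
def N11976 : Q := sm gd N9908
def N11977 : Q := sm gg N9908
def N11978 : Q := sm gc N9910
def N11979 : Q := sm gf N9910
def N11980 : Q := sm gc N9911
def N11981 : Q := sm gb N9912
def N11982 : Q := sm gd N9912
def N11983 : Q := sm gc N9913
def N11984 : Q := sm ge N9913
def N11985 : Q := sm gg N9913
def N11986 : Q := sm gb N9914
def N11987 : Q := sm gd N9915
def N11988 : Q := sm gf N9915
def N11989 : Q := sm gd N9917
def N11991 : Q := sm ge N9919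
def N11994 : Q := sm gf N9921
def N11997 : Q := sm gb N9925
def N11998 : Q := sm gd N9925
def N11999 : Q := sm gg N9925
def N12000 : Q := sm ga N9927
def N12001 : Q := sm gd N9927
def N12002 : Q := sm gf N9927
def N12003 : Q := sm gg N9927
def N12004 : Q := sm ge N9928
def N12005 : Q := sm gg N9928
def N12006 : Q := sm gb N9929
def N12007 : Q := sm ga N9930
def N12008 : Q := sm gf N9930
def N12009 : Q := sm gg N9930
def N12010 : Q := sm gb N9931
def N12011 : Q := sm gf N9931
def N12012 : Q := sm gg N9931
def N12013 : Q := sm gg N9932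
def N12014 : Q := sm gf N9933
def N12015 : Q := sm gb N9934
def N12016 : Q := sm gd N9934
def N12017 : Q := sm gf N9934
def N12018 : Q := sm ga N9936
def N12019 : Q := sm gd N9936
def N12020 : Q := sm gf N9936
def N12021 : Q := sm gg N9936
def N12022 : Q := sm ge N9937
def N12023 : Q := sm gf N9937
def N12024 : Q := sm gb N9938
def N12025 : Q := sm ga N9939
def N12026 : Q := sm gf N9939
def N12027 : Q := sm gg N9939
def N12028 : Q := sm gb N9940
def N12029 : Q := sm gf N9940
def N12030 : Q := sm gg N9940
def N12031 : Q := sm gg N9941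
def N12032 : Q := sm gf N9942
def N12033 : Q := sm gd N9943
def N12034 : Q := sm gf N9943
def N12035 : Q := sm gg N9943
def N12036 : Q := sm gb N9945
def N12037 : Q := sm gb N9946
def N12038 : Q := sm ge N9947
def N12039 : Q := sm gf N9947
def N12040 : Q := sm gg N9947
def N12041 : Q := sm gb N9948
def N12042 : Q := sm gg N9948
def N12043 : Q := sm gb N9949
def N12044 : Q := sm gf N9949
def N12045 : Q := sm gb N9951
def N12046 : Q := sm gg N9951
def N12047 : Q := sm gb N9952
def N12048 : Q := sm gf N9952
def N12049 : Q := sm ga N9953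
def N12050 : Q := sm gc N9953
def N12051 : Q := sm gg N9953
def N12052 : Q := sm gb N9954
def N12053 : Q := sm ga N9955
def N12054 : Q := sm gc N9955
def N12055 : Q := sm gf N9955
def N12056 : Q := sm gb N9956
def N12057 : Q := sm ga N9957
def N12058 : Q := sm gd N9957
def N12059 : Q := sm gf N9957
def N12060 : Q := sm gg N9957
def N12061 : Q := sm gf N9958
def N12062 : Q := sm gg N9958
def N12063 : Q := sm gb N9959
def N12064 : Q := sm gb N9960
def N12065 : Q := sm ga N9961
def N12066 : Q := sm gc N9961
def N12067 : Q := sm gg N9961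
def N12068 : Q := sm ga N9962
def N12069 : Q := sm gc N9962
def N12070 : Q := sm gf N9962
def N12071 : Q := sm gb N9963
def N12072 : Q := sm gc N9963
def N12073 : Q := sm gg N9963
def N12074 : Q := sm gd N9964
def N12075 : Q := sm gg N9964
def N12076 : Q := sm gf N9965
def N12077 : Q := sm gb N9966
def N12078 : Q := sm gc N9966
def N12079 : Q := sm gf N9966
def N12080 : Q := sm gd N9967
def N12081 : Q := sm gf N9967
def N12082 : Q := sm gg N9968
def N12083 : Q := sm gb N9969
def N12084 : Q := sm gg N9969
def N12085 : Q := sm gb N9970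
def N12086 : Q := sm gf N9970
def N12087 : Q := sm ga N9971
def N12088 : Q := sm gc N9971
def N12089 : Q := sm gg N9971
def N12090 : Q := sm gb N9972
def N12091 : Q := sm ga N9973
def N12092 : Q := sm gc N9973
def N12093 : Q := sm gf N9973
def N12094 : Q := sm gb N9974
def N12095 : Q := sm gb N9975
def N12096 : Q := sm gc N9975
def N12097 : Q := sm gd N9976
def N12098 : Q := sm gg N9976
def N12099 : Q := sm gb N9977
def N12100 : Q := sm ga N9978
def N12101 : Q := sm gc N9978
def N12102 : Q := sm gf N9978
def N12103 : Q := sm gb N9979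
def N12104 : Q := sm gc N9979
def N12105 : Q := sm gd N9980
def N12106 : Q := sm gf N9980
def N12107 : Q := sm gb N9981
def N12108 : Q := sm ga N9982
def N12109 : Q := sm gc N9982
def N12110 : Q := sm gg N9982
def N12111 : Q := sm gf N9983
def N12112 : Q := sm gg N9983
def N12113 : Q := sm gb N9984
def N12114 : Q := sm gd N9984
def N12115 : Q := sm gc N9985
def N12116 : Q := sm ge N9985
def N12117 : Q := sm gg N9985
def N12118 : Q := sm gb N9986
def N12119 : Q := sm ga N9987
def N12120 : Q := sm gc N9987
def N12121 : Q := sm gf N9987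
def N12122 : Q := sm gb N9988
def N12123 : Q := sm gc N9988
def N12124 : Q := sm gf N9988
def N12125 : Q := sm gd N9989
def N12126 : Q := sm gf N9989
def N12127 : Q := sm gg N9990
def N12128 : Q := sm ga N9991
def N12129 : Q := sm gc N9991
def N12130 : Q := sm gf N9991
def N12131 : Q := sm gg N9991
def N12132 : Q := sm gb N9992
def N12133 : Q := sm gd N9992
def N12134 : Q := sm gc N9993
def N12135 : Q := sm ge N9993
def N12136 : Q := sm gf N9993
def N12137 : Q := sm gb N9994
def N12138 : Q := sm ga N9995
def N12139 : Q := sm gc N9995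
def N12140 : Q := sm gg N9995
def N12141 : Q := sm gb N9996
def N12142 : Q := sm gc N9996
def N12143 : Q := sm gg N9996
def N12144 : Q := sm gd N9997
def N12145 : Q := sm gg N9997
def N12146 : Q := sm gf N9998
def N12147 : Q := sm ga N9999
def N12148 : Q := sm gc N9999
def N12149 : Q := sm gf N9999
def N12150 : Q := sm gg N9999
def N12151 : Q := sm gb N10000
def N12152 : Q := sm gd N10000
def N12153 : Q := sm gg N10000
def N12154 : Q := sm gb N10001
def N12155 : Q := sm gc N10002
def N12156 : Q := sm ge N10002
def N12157 : Q := sm gg N10002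
def N12158 : Q := sm gb N10003
def N12159 : Q := sm gf N10003
def N12160 : Q := sm ga N10004
def N12161 : Q := sm gc N10004
def N12162 : Q := sm gf N10004
def N12163 : Q := sm gb N10005
def N12164 : Q := sm gb N10006
def N12165 : Q := sm gc N10006
def N12166 : Q := sm gf N10006
def N12167 : Q := sm gd N10007
def N12168 : Q := sm gf N10007
def N12169 : Q := sm gg N10008
def N12170 : Q := sm ga N10009
def N12171 : Q := sm gc N10009
def N12172 : Q := sm gf N10009
def N12173 : Q := sm gg N10009
def N12174 : Q := sm gb N10010
def N12175 : Q := sm gd N10010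
def N12176 : Q := sm gf N10010
def N12177 : Q := sm gb N10011
def N12178 : Q := sm gc N10012
def N12179 : Q := sm ge N10012
def N12180 : Q := sm gf N10012
def N12181 : Q := sm gb N10013
def N12182 : Q := sm gg N10013
def N12183 : Q := sm ga N10014
def N12184 : Q := sm gc N10014
def N12185 : Q := sm gg N10014
def N12186 : Q := sm gb N10015
def N12187 : Q := sm gb N10016
def N12188 : Q := sm gc N10016
def N12189 : Q := sm gg N10016
def N12190 : Q := sm gd N10017
def N12191 : Q := sm gg N10017
def N12192 : Q := sm gf N10018
def N12193 : Q := sm gf N10019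
def N12194 : Q := sm gg N10019
def N12195 : Q := sm gb N10020
def N12196 : Q := sm gd N10020
def N12197 : Q := sm gf N10020
def N12198 : Q := sm gg N10020
def N12199 : Q := sm gg N10021
def N12200 : Q := sm gb N10022
def N12201 : Q := sm gf N10022
def N12202 : Q := sm ga N10023
def N12203 : Q := sm gd N10023
def N12204 : Q := sm gf N10023
def N12205 : Q := sm gg N10023
def N12206 : Q := sm gc N10024
def N12207 : Q := sm ge N10024
def N12208 : Q := sm gg N10024
def N12209 : Q := sm gb N10025
def N12210 : Q := sm ga N10026
def N12211 : Q := sm gc N10026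
def N12212 : Q := sm gf N10026
def N12213 : Q := sm gb N10027
def N12214 : Q := sm gd N10027
def N12215 : Q := sm ge N10027
def N12216 : Q := sm gg N10027
def N12217 : Q := sm gg N10028
def N12218 : Q := sm gb N10029
def N12219 : Q := sm gf N10029
def N12220 : Q := sm ga N10030
def N12221 : Q := sm gf N10030
def N12222 : Q := sm gb N10031
def N12223 : Q := sm gb N10032
def N12224 : Q := sm gc N10032
def N12225 : Q := sm gd N10033
def N12226 : Q := sm gf N10033
def N12227 : Q := sm gb N10034
def N12228 : Q := sm ga N10035
def N12229 : Q := sm gc N10035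
def N12230 : Q := sm gg N10035
def N12231 : Q := sm ga N10036
def N12232 : Q := sm gc N10036
def N12233 : Q := sm gf N10036
def N12234 : Q := sm gg N10036
def N12235 : Q := sm gb N10037
def N12236 : Q := sm gd N10037
def N12237 : Q := sm gf N10037
def N12238 : Q := sm gb N10038
def N12239 : Q := sm gc N10039
def N12240 : Q := sm ge N10039
def N12241 : Q := sm gf N10039
def N12242 : Q := sm gg N10040
def N12243 : Q := sm gb N10041
def N12244 : Q := sm gc N10042
def N12245 : Q := sm gf N10042
def N12246 : Q := sm gg N10042
def N12247 : Q := sm gb N10043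
def N12248 : Q := sm gd N10043
def N12249 : Q := sm gf N10043
def N12250 : Q := sm gg N10043
def N12251 : Q := sm gb N10044
def N12252 : Q := sm gg N10044
def N12253 : Q := sm gf N10045
def N12254 : Q := sm ga N10046
def N12255 : Q := sm gd N10046
def N12256 : Q := sm gf N10046
def N12257 : Q := sm gg N10046
def N12258 : Q := sm gc N10047
def N12259 : Q := sm ge N10047
def N12260 : Q := sm gf N10047
def N12261 : Q := sm gb N10048
def N12262 : Q := sm ga N10049
def N12263 : Q := sm gc N10049
def N12264 : Q := sm gg N10049
def N12265 : Q := sm gb N10050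
def N12266 : Q := sm gd N10050
def N12267 : Q := sm ge N10050
def N12268 : Q := sm gf N10050
def N12269 : Q := sm gf N10051
def N12270 : Q := sm gb N10052
def N12271 : Q := sm gg N10052
def N12272 : Q := sm ga N10053
def N12273 : Q := sm gg N10053
def N12274 : Q := sm gb N10054
def N12275 : Q := sm gb N10055
def N12276 : Q := sm gc N10055
def N12277 : Q := sm gd N10056
def N12278 : Q := sm gg N10056
def N12279 : Q := sm gb N10057
def N12280 : Q := sm ga N10058
def N12281 : Q := sm gc N10058
def N12282 : Q := sm gf N10058
def N12283 : Q := sm ga N10059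
def N12284 : Q := sm gc N10059
def N12285 : Q := sm gf N10059
def N12286 : Q := sm gg N10059
def N12287 : Q := sm gb N10060
def N12288 : Q := sm gd N10060
def N12289 : Q := sm gg N10060
def N12290 : Q := sm gb N10061
def N12291 : Q := sm gc N10062
def N12292 : Q := sm ge N10062
def N12293 : Q := sm gg N10062
def N12294 : Q := sm gf N10063
def N12295 : Q := sm gb N10064
def N12296 : Q := sm ga N10065
def N12297 : Q := sm ge N10065
def N12298 : Q := sm gf N10065
def N12299 : Q := sm gb N10067
def N12300 : Q := sm gf N10067
def N12301 : Q := sm gg N10068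
def N12302 : Q := sm gc N10069
def N12303 : Q := sm gb N10070
def N12304 : Q := sm gd N10070
def N12305 : Q := sm ga N10071
def N12306 : Q := sm gd N10071
def N12307 : Q := sm gf N10071
def N12308 : Q := sm gg N10071
def N12309 : Q := sm ge N10072
def N12310 : Q := sm gb N10073
def N12311 : Q := sm ge N10073
def N12312 : Q := sm ga N10075
def N12313 : Q := sm ge N10075
def N12314 : Q := sm gg N10075
def N12315 : Q := sm gb N10077
def N12316 : Q := sm gg N10077
def N12317 : Q := sm gf N10078
def N12318 : Q := sm gc N10079
def N12319 : Q := sm gb N10080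
def N12320 : Q := sm gd N10080
def N12321 : Q := sm ga N10081
def N12322 : Q := sm gd N10081
def N12323 : Q := sm gf N10081
def N12324 : Q := sm gg N10081
def N12325 : Q := sm ge N10082
def N12326 : Q := sm gb N10083
def N12327 : Q := sm ge N10083
def N12328 : Q := sm gb N10085
def N12329 : Q := sm gd N10085
def N12330 : Q := sm gc N10086
def N12331 : Q := sm ge N10086
def N12332 : Q := sm gb N10087
def N12333 : Q := sm gd N10087
def N12334 : Q := sm gc N10088
def N12335 : Q := sm ge N10088
def N12337 : Q := sm ge N10090
def N12340 : Q := sm gd N10093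
def N12341 : Q := sm ge N10094
def N12344 : Q := sm gc N10097
def N12345 : Q := sm ge N10097
def N12346 : Q := sm gf N10097
def N12347 : Q := sm gg N10097
def N12348 : Q := sm gb N10098
def N12349 : Q := sm gb N10099
def N12350 : Q := sm ga N10100
def N12351 : Q := sm gc N10100
def N12352 : Q := sm gg N10100
def N12353 : Q := sm ga N10101
def N12354 : Q := sm gc N10101
def N12355 : Q := sm gf N10101
def N12356 : Q := sm gb N10102
def N12357 : Q := sm gd N10102
def N12358 : Q := sm ge N10102
def N12359 : Q := sm gf N10102
def N12360 : Q := sm gg N10102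
def N12361 : Q := sm gf N10103
def N12362 : Q := sm gg N10103
def N12363 : Q := sm gb N10104
def N12364 : Q := sm gg N10104
def N12365 : Q := sm gb N10105
def N12366 : Q := sm gf N10105
def N12367 : Q := sm ga N10106
def N12368 : Q := sm gc N10106
def N12369 : Q := sm gg N10106
def N12370 : Q := sm gb N10107
def N12371 : Q := sm ga N10108
def N12372 : Q := sm gc N10108
def N12373 : Q := sm gf N10108
def N12374 : Q := sm gb N10109
def N12375 : Q := sm gb N10110
def N12376 : Q := sm gc N10110
def N12377 : Q := sm gd N10111
def N12378 : Q := sm gg N10111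
def N12379 : Q := sm gb N10112
def N12380 : Q := sm ga N10113
def N12381 : Q := sm gc N10113
def N12382 : Q := sm gf N10113
def N12383 : Q := sm gb N10114
def N12384 : Q := sm gc N10114
def N12385 : Q := sm gd N10115
def N12386 : Q := sm gf N10115
def N12387 : Q := sm gb N10116
def N12388 : Q := sm ga N10117
def N12389 : Q := sm gc N10117
def N12390 : Q := sm gg N10117
def N12391 : Q := sm ga N10118
def N12392 : Q := sm gc N10118
def N12393 : Q := sm gf N10118
def N12394 : Q := sm gg N10118
def N12395 : Q := sm gb N10119
def N12396 : Q := sm gd N10119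
def N12397 : Q := sm gg N10119
def N12398 : Q := sm gb N10120
def N12399 : Q := sm ge N10121
def N12400 : Q := sm gg N10121
def N12401 : Q := sm gb N10122
def N12402 : Q := sm gf N10122
def N12403 : Q := sm gb N10123
def N12404 : Q := sm ga N10124
def N12405 : Q := sm gc N10124
def N12406 : Q := sm gf N10124
def N12407 : Q := sm gg N10124
def N12408 : Q := sm gb N10125
def N12409 : Q := sm gd N10125
def N12410 : Q := sm gf N10125
def N12411 : Q := sm gb N10126
def N12412 : Q := sm gc N10127
def N12413 : Q := sm ge N10127
def N12414 : Q := sm gf N10127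
def N12415 : Q := sm gb N10128
def N12416 : Q := sm gg N10128
def N12417 : Q := sm gb N10129
def N12418 : Q := sm gg N10130
def N12419 : Q := sm gb N10131
def N12420 : Q := sm gg N10131
def N12421 : Q := sm gg N10132
def N12422 : Q := sm gf N10133
def N12423 : Q := sm ga N10134
def N12424 : Q := sm gd N10134
def N12425 : Q := sm gf N10134
def N12426 : Q := sm gg N10134
def N12427 : Q := sm gc N10135
def N12428 : Q := sm ge N10135
def N12429 : Q := sm gb N10136
def N12430 : Q := sm gd N10136
def N12431 : Q := sm ge N10136
def N12432 : Q := sm gg N10136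
def N12433 : Q := sm gg N10137
def N12434 : Q := sm gb N10138
def N12435 : Q := sm ga N10139
def N12436 : Q := sm gc N10139
def N12437 : Q := sm gf N10139
def N12438 : Q := sm gb N10140
def N12439 : Q := sm gc N10140
def N12440 : Q := sm gd N10141
def N12441 : Q := sm gf N10141
def N12442 : Q := sm ga N10143
def N12443 : Q := sm gc N10143
def N12444 : Q := sm gg N10143
def N12445 : Q := sm gb N10144
def N12446 : Q := sm gd N10144
def N12447 : Q := sm gf N10144
def N12448 : Q := sm gc N10146
def N12449 : Q := sm ge N10146
def N12450 : Q := sm gf N10146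
def N12451 : Q := sm gb N10147
def N12452 : Q := sm gg N10147
def N12453 : Q := sm gb N10148
def N12454 : Q := sm gc N10149
def N12455 : Q := sm gf N10149
def N12456 : Q := sm gg N10149
def N12457 : Q := sm gb N10150
def N12459 : Q := sm gf N10150
def N12460 : Q := sm gg N10150
def N12461 : Q := sm gg N10151
def N12462 : Q := sm gf N10152
def N12463 : Q := sm ga N10153
def N12464 : Q := sm gd N10153
def N12465 : Q := sm gf N10153
def N12466 : Q := sm gg N10153
def N12467 : Q := sm gc N10154
def N12468 : Q := sm ge N10154
def N12469 : Q := sm gb N10155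
def N12470 : Q := sm gd N10155
def N12471 : Q := sm ge N10155
def N12472 : Q := sm gf N10155
def N12473 : Q := sm gf N10156
def N12474 : Q := sm gb N10157
def N12475 : Q := sm ga N10158
def N12476 : Q := sm gc N10158
def N12477 : Q := sm gg N10158
def N12478 : Q := sm gb N10159
def N12479 : Q := sm gc N10159
def N12480 : Q := sm gd N10160
def N12481 : Q := sm gg N10160
def N12482 : Q := sm ga N10162
def N12483 : Q := sm gc N10162
def N12484 : Q := sm gf N10162
def N12485 : Q := sm gb N10163
def N12486 : Q := sm gd N10163
def N12487 : Q := sm gg N10163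
def N12488 : Q := sm gc N10165
def N12489 : Q := sm ge N10165
def N12490 : Q := sm gg N10165
def N12491 : Q := sm gb N10166
def N12492 : Q := sm gf N10166
def N12493 : Q := sm gb N10167
def N12494 : Q := sm gb N10169
def N12495 : Q := sm gb N10170
def N12496 : Q := sm gd N10171
def N12497 : Q := sm gf N10171
def N12498 : Q := sm gg N10171
def N12499 : Q := sm ge N10172
def N12500 : Q := sm gf N10172
def N12501 : Q := sm gg N10172
def N12502 : Q := sm gb N10173
def N12503 : Q := sm gg N10173
def N12504 : Q := sm gb N10174
def N12505 : Q := sm gf N10174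
def N12506 : Q := sm gb N10175
def N12507 : Q := sm ga N10176
def N12508 : Q := sm gc N10176
def N12509 : Q := sm gf N10176
def N12510 : Q := sm gb N10177
def N12511 : Q := sm gd N10178
def N12512 : Q := sm gf N10178
def N12513 : Q := sm gg N10178
def N12514 : Q := sm gc N10179
def N12515 : Q := sm ge N10179
def N12516 : Q := sm gf N10179
def N12517 : Q := sm gg N10179
def N12518 : Q := sm gg N10180
def N12519 : Q := sm gb N10181
def N12520 : Q := sm gf N10181
def N12521 : Q := sm gb N10182
def N12522 : Q := sm ge N10182
def N12523 : Q := sm gg N10182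
def N12524 : Q := sm gg N10183
def N12525 : Q := sm gb N10184
def N12526 : Q := sm ga N10185
def N12527 : Q := sm gc N10185
def N12528 : Q := sm gf N10185
def N12529 : Q := sm gb N10186
def N12530 : Q := sm gc N10186
def N12531 : Q := sm gf N10186
def N12532 : Q := sm gd N10187
def N12533 : Q := sm gf N10187
def N12534 : Q := sm ge N10189
def N12535 : Q := sm gg N10189
def N12536 : Q := sm gd N10190
def N12537 : Q := sm gg N10190
def N12538 : Q := sm gb N10191
def N12539 : Q := sm gf N10191
def N12540 : Q := sm gb N10192
def N12541 : Q := sm gf N10192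
def N12542 : Q := sm ga N10193
def N12543 : Q := sm gc N10193
def N12544 : Q := sm gf N10193
def N12545 : Q := sm gb N10194
def N12546 : Q := sm gb N10195
def N12547 : Q := sm gc N10195
def N12548 : Q := sm gd N10196
def N12549 : Q := sm gf N10196
def N12550 : Q := sm gb N10197
def N12551 : Q := sm ga N10198
def N12552 : Q := sm gc N10198
def N12553 : Q := sm gg N10198
def N12554 : Q := sm ga N10199
def N12555 : Q := sm gc N10199
def N12556 : Q := sm gf N10199
def N12557 : Q := sm gg N10199
def N12558 : Q := sm gb N10200
def N12559 : Q := sm gd N10200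
def N12560 : Q := sm gc N10201
def N12561 : Q := sm ge N10201
def N12562 : Q := sm gf N10201
def N12563 : Q := sm gb N10202
def N12564 : Q := sm ga N10203
def N12565 : Q := sm gc N10203
def N12566 : Q := sm gg N10203
def N12567 : Q := sm gb N10204
def N12568 : Q := sm gc N10204
def N12569 : Q := sm gg N10204
def N12570 : Q := sm gd N10205
def N12571 : Q := sm gg N10205
def N12572 : Q := sm gf N10206
def N12573 : Q := sm gc N10207
def N12574 : Q := sm gf N10207
def N12575 : Q := sm gg N10207
def N12576 : Q := sm gb N10208
def N12577 : Q := sm gd N10208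
def N12578 : Q := sm gf N10208
def N12579 : Q := sm gg N10208
def N12580 : Q := sm gb N10209
def N12581 : Q := sm gf N10210
def N12582 : Q := sm ga N10211
def N12583 : Q := sm gd N10211
def N12584 : Q := sm gf N10211
def N12585 : Q := sm gg N10211
def N12586 : Q := sm gc N10212
def N12587 : Q := sm ge N10212
def N12588 : Q := sm gf N10212
def N12589 : Q := sm gb N10213
def N12590 : Q := sm gc N10214
def N12591 : Q := sm gb N10215
def N12592 : Q := sm gd N10215
def N12593 : Q := sm ge N10215
def N12594 : Q := sm gf N10215
def N12595 : Q := sm gf N10216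
def N12596 : Q := sm gg N10217
def N12597 : Q := sm gb N10218
def N12598 : Q := sm ga N10219
def N12599 : Q := sm gc N10219
def N12600 : Q := sm gf N10219
def N12602 : Q := sm gd N10220
def N12603 : Q := sm gf N10220
def N12604 : Q := sm gg N10220
def N12605 : Q := sm gb N10221
def N12606 : Q := sm gb N10222
def N12607 : Q := sm ga N10223
def N12608 : Q := sm gd N10223
def N12609 : Q := sm gf N10223
def N12610 : Q := sm gg N10223
def N12611 : Q := sm gc N10224
def N12612 : Q := sm ge N10224
def N12613 : Q := sm gf N10224
def N12614 : Q := sm gg N10224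
def N12615 : Q := sm gb N10225
def N12616 : Q := sm gg N10225
def N12617 : Q := sm gb N10226
def N12618 : Q := sm gf N10226
def N12619 : Q := sm ga N10227
def N12620 : Q := sm gc N10227
def N12621 : Q := sm gg N10227
def N12622 : Q := sm gb N10229
def N12623 : Q := sm gd N10230
def N12624 : Q := sm gf N10230
def N12625 : Q := sm gg N10230
def N12626 : Q := sm gc N10231
def N12627 : Q := sm ge N10231
def N12628 : Q := sm gf N10231
def N12629 : Q := sm gg N10231
def N12630 : Q := sm gb N10232
def N12631 : Q := sm gg N10232
def N12632 : Q := sm gf N10233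
def N12633 : Q := sm gb N10234
def N12634 : Q := sm ge N10234
def N12635 : Q := sm gf N10234
def N12636 : Q := sm gf N10235
def N12637 : Q := sm gb N10236
def N12638 : Q := sm ga N10237
def N12639 : Q := sm gc N10237
def N12640 : Q := sm gg N10237
def N12641 : Q := sm gb N10238
def N12642 : Q := sm gc N10238
def N12643 : Q := sm gd N10239
def N12644 : Q := sm gg N10239
def N12645 : Q := sm ge N10241
def N12646 : Q := sm gf N10241
def N12647 : Q := sm gd N10242
def N12648 : Q := sm gf N10242
def N12649 : Q := sm gb N10243
def N12650 : Q := sm gg N10243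
def N12651 : Q := sm gb N10244
def N12652 : Q := sm gg N10244
def N12653 : Q := sm ga N10245
def N12654 : Q := sm gc N10245
def N12655 : Q := sm gg N10245
def N12656 : Q := sm gb N10246
def N12657 : Q := sm gb N10247
def N12658 : Q := sm gc N10247
def N12659 : Q := sm gd N10248
def N12660 : Q := sm gg N10248
def N12661 : Q := sm gb N10249
def N12662 : Q := sm ga N10250
def N12663 : Q := sm gc N10250
def N12664 : Q := sm gf N10250
def N12665 : Q := sm ga N10251
def N12666 : Q := sm gc N10251
def N12667 : Q := sm gf N10251
def N12668 : Q := sm gg N10251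
def N12669 : Q := sm gb N10252
def N12670 : Q := sm gd N10252
def N12671 : Q := sm gc N10253
def N12672 : Q := sm ge N10253
def N12673 : Q := sm gg N10253
def N12674 : Q := sm gb N10254
def N12675 : Q := sm ga N10255
def N12676 : Q := sm gc N10255
def N12677 : Q := sm gf N10255
def N12678 : Q := sm gc N10256
def N12679 : Q := sm gf N10256
def N12680 : Q := sm gd N10257
def N12681 : Q := sm gf N10257
def N12682 : Q := sm gg N10258
def N12683 : Q := sm gc N10259
def N12684 : Q := sm gf N10259
def N12685 : Q := sm gg N10259
def N12686 : Q := sm gb N10260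
def N12687 : Q := sm gd N10260
def N12688 : Q := sm gf N10260
def N12689 : Q := sm gg N10260
def N12690 : Q := sm gg N10261
def N12691 : Q := sm gb N10262
def N12692 : Q := sm ga N10263
def N12693 : Q := sm gd N10263
def N12694 : Q := sm gf N10263
def N12695 : Q := sm gg N10263
def N12696 : Q := sm ge N10264
def N12697 : Q := sm gg N10264
def N12698 : Q := sm gb N10265
def N12699 : Q := sm gc N10266
def N12700 : Q := sm gb N10267
def N12701 : Q := sm ge N10267
def N12702 : Q := sm gg N10267
def N12703 : Q := sm gg N10268
def N12704 : Q := sm gf N10269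
def N12705 : Q := sm gb N10270
def N12706 : Q := sm ga N10271
def N12707 : Q := sm gc N10271
def N12708 : Q := sm gg N10271
def N12709 : Q := sm ga N10272
def N12710 : Q := sm gc N10272
def N12711 : Q := sm gf N10272
def N12712 : Q := sm gb N10273
def N12713 : Q := sm gc N10273
def N12714 : Q := sm gf N10273
def N12715 : Q := sm gd N10274
def N12716 : Q := sm gf N10274
def N12717 : Q := sm gg N10275
def N12718 : Q := sm ga N10276
def N12719 : Q := sm gc N10276
def N12720 : Q := sm gg N10276
def N12721 : Q := sm gb N10277
def N12722 : Q := sm gd N10277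
def N12723 : Q := sm gf N10277
def N12724 : Q := sm gc N10279
def N12725 : Q := sm ge N10279
def N12726 : Q := sm gf N10279
def N12727 : Q := sm gg N10280
def N12728 : Q := sm gb N10281
def N12729 : Q := sm gb N10283
def N12730 : Q := sm gd N10283
def N12731 : Q := sm ga N10284
def N12732 : Q := sm gd N10284
def N12733 : Q := sm gf N10284
def N12734 : Q := sm gg N10284
def N12735 : Q := sm gc N10285
def N12736 : Q := sm ge N10285
def N12737 : Q := sm gb N10286
def N12738 : Q := sm gd N10286
def N12739 : Q := sm gf N10286
def N12740 : Q := sm gg N10286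
def N12741 : Q := sm gc N10287
def N12742 : Q := sm ge N10287
def N12743 : Q := sm gf N10287
def N12744 : Q := sm gg N10287
def N12745 : Q := sm gg N10288
def N12746 : Q := sm gf N10289
def N12747 : Q := sm ga N10291
def N12748 : Q := sm ge N10291
def N12749 : Q := sm gf N10291
def N12750 : Q := sm gg N10291
def N12751 : Q := sm gd N10292
def N12752 : Q := sm ga N10293
def N12753 : Q := sm gc N10293
def N12754 : Q := sm gg N10293
def N12755 : Q := sm gb N10294
def N12756 : Q := sm gc N10294
def N12757 : Q := sm gg N10294
def N12758 : Q := sm gd N10295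
def N12759 : Q := sm gg N10295
def N12760 : Q := sm gf N10296
def N12761 : Q := sm ga N10297
def N12762 : Q := sm gc N10297
def N12763 : Q := sm gf N10297
def N12764 : Q := sm gg N10297
def N12765 : Q := sm gb N10298
def N12766 : Q := sm gd N10298
def N12767 : Q := sm gg N10298
def N12768 : Q := sm gb N10299
def N12769 : Q := sm gc N10300
def N12770 : Q := sm ge N10300
def N12771 : Q := sm gg N10300
def N12772 : Q := sm gf N10301
def N12773 : Q := sm gb N10302
def N12774 : Q := sm gb N10304
def N12775 : Q := sm gd N10304
def N12776 : Q := sm ga N10305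
def N12777 : Q := sm gd N10305
def N12778 : Q := sm gf N10305
def N12779 : Q := sm gg N10305
def N12780 : Q := sm gc N10306
def N12781 : Q := sm ge N10306
def N12782 : Q := sm gb N10307
def N12783 : Q := sm gd N10307
def N12784 : Q := sm gf N10307
def N12785 : Q := sm gg N10307
def N12786 : Q := sm gc N10308
def N12787 : Q := sm ge N10308
def N12788 : Q := sm gf N10308
def N12789 : Q := sm gg N10308
def N12790 : Q := sm gg N10309
def N12791 : Q := sm gf N10310
def N12792 : Q := sm ga N10312
def N12793 : Q := sm ge N10312
def N12794 : Q := sm gf N10312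
def N12795 : Q := sm gg N10312
def N12796 : Q := sm gd N10313
def N12797 : Q := sm ga N10314
def N12798 : Q := sm ge N10314
def N12799 : Q := sm gf N10314
def N12800 : Q := sm gg N10314
def N12801 : Q := sm gc N10316
def N12802 : Q := sm ge N10316
def N12803 : Q := sm gc N10317
def N12804 : Q := sm ge N10317
def N12805 : Q := sm gf N10317
def N12806 : Q := sm gb N10319
def N12807 : Q := sm gd N10319
def N12808 : Q := sm ge N10319
def N12809 : Q := sm gc N10321
def N12810 : Q := sm ge N10321
def N12811 : Q := sm gf N10321
def N12812 : Q := sm gb N10323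
def N12813 : Q := sm gd N10323
def N12814 : Q := sm ge N10323
def N12815 : Q := sm gf N10323
def N12816 : Q := sm gg N10323
def N12817 : Q := sm gf N10324
def N12818 : Q := sm gg N10324
def N12819 : Q := sm ga N10327
def N12820 : Q := sm ge N10327
def N12821 : Q := sm gf N10327
def N12822 : Q := sm gg N10327
def N12823 : Q := sm gd N10328
def N12824 : Q := sm gb N10329
def N12825 : Q := sm gd N10329
def N12826 : Q := sm ge N10329
def N12827 : Q := sm gf N10329
def N12828 : Q := sm gg N10329
def N12829 : Q := sm gc N10330
def N12830 : Q := sm ge N10330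
def N12831 : Q := sm gf N10330
def N12832 : Q := sm gg N10330
def N12833 : Q := sm gd N10331
def N12834 : Q := sm gf N10331
def N12835 : Q := sm gg N10331
def N12836 : Q := sm gg N10332
def N12837 : Q := sm gf N10333
def N12838 : Q := sm gd N10334
def N12839 : Q := sm ga N10336
def N12840 : Q := sm ge N10336
def N12841 : Q := sm gf N10336
def N12842 : Q := sm gg N10336
def N12843 : Q := sm gc N10338
def N12844 : Q := sm ge N10338
def N12845 : Q := sm gc N10339
def N12846 : Q := sm ge N10339
def N12847 : Q := sm gb N10340
def N12848 : Q := sm gd N10340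
def N12849 : Q := sm ge N10340
def N12850 : Q := sm gc N10342
def N12851 : Q := sm ge N10342
def N12852 : Q := sm gb N10343
def N12853 : Q := sm gd N10343
def N12854 : Q := sm ge N10343
def N12855 : Q := sm gf N10343
def N12856 : Q := sm gg N10343
def N12857 : Q := sm gf N10344
def N12858 : Q := sm gg N10344
def N12859 : Q := sm ga N10347
def N12860 : Q := sm ge N10347
def N12861 : Q := sm gf N10347
def N12862 : Q := sm gg N10347
def N12863 : Q := sm gd N10348
def N12864 : Q := sm gb N10349
def N12865 : Q := sm gd N10349
def N12866 : Q := sm ge N10349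
def N12867 : Q := sm gf N10349
def N12868 : Q := sm gg N10349
def N12869 : Q := sm gc N10350
def N12870 : Q := sm ge N10350
def N12871 : Q := sm gf N10350
def N12872 : Q := sm gg N10350
def N12873 : Q := sm gd N10351
def N12874 : Q := sm gf N10351
def N12875 : Q := sm gg N10351
def N12877 : Q := sm gf N10353
def N12878 : Q := sm gd N10354
def N12879 : Q := sm ge N10356
def N12881 : Q := sm ge N10360
def N12882 : Q := sm gd N10361
def N12883 : Q := sm gf N10362
def N12884 : Q := sm gd N10367
def N12885 : Q := sm gg N10367
def N12890 : Q := sm gg N10370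
def N12892 : Q := sm gb N10374
def N12893 : Q := sm gd N10374
def N12895 : Q := sm ge N10378
def N12897 : Q := sm gd N10382
def N12898 : Q := sm gf N10382
def N12900 : Q := sm gc N10384
def N12904 : Q := sm gf N10386
def N12905 : Q := sm gb N10389
def N12906 : Q := sm gd N10389
def N12907 : Q := sm gb N10390
def N12908 : Q := sm gd N10390
def N12909 : Q := sm ge N10390
def N12912 : Q := sm gb N10392
def N12913 : Q := sm gc N10393
def N12914 : Q := sm ga N10394
def N12915 : Q := sm gd N10394
def N12917 : Q := sm gf N10394
def N12918 : Q := sm gg N10394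
def N12919 : Q := sm gc N10395
def N12921 : Q := sm gg N10395
def N12923 : Q := sm gf N10396
def N12924 : Q := sm gg N10396
def N12925 : Q := sm gb N10397
def N12927 : Q := sm gb N10398
def N12928 : Q := sm gb N10399
def N12929 : Q := sm gg N10399
def N12930 : Q := sm gc N10401
def N12932 : Q := sm gb N10404
def N12933 : Q := sm ge N10404
def N12934 : Q := sm gf N10404
def N12935 : Q := sm gg N10404
def N12936 : Q := sm gd N10405
def N12937 : Q := sm gf N10405
def N12938 : Q := sm gg N10405
def N12939 : Q := sm gb N10406
def N12940 : Q := sm gg N10406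
def N12941 : Q := sm gf N10407
def N12942 : Q := sm gf N10408
def N12943 : Q := sm gb N10409
def N12944 : Q := sm ga N10410
def N12945 : Q := sm gc N10410
def N12946 : Q := sm gg N10410
def N12948 : Q := sm gd N10412
def N12949 : Q := sm ga N10413
def N12950 : Q := sm gc N10413
def N12951 : Q := sm ge N10413
def N12952 : Q := sm gf N10413
def N12953 : Q := sm gg N10413
def N12955 : Q := sm gf N10414
def N12956 : Q := sm gg N10414
def N12957 : Q := sm gb N10415
def N12958 : Q := sm gb N10416
def N12959 : Q := sm gc N10417
def N12960 : Q := sm gf N10417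
def N12962 : Q := sm gb N10418
def N12963 : Q := sm gg N10418
def N12965 : Q := sm ga N10420
def N12966 : Q := sm gc N10420
def N12967 : Q := sm gg N10420
def N12968 : Q := sm gb N10421
def N12969 : Q := sm gb N10422
def N12970 : Q := sm gb N10423
def N12971 : Q := sm gf N10423
def N12973 : Q := sm ga N10425
def N12974 : Q := sm gc N10425
def N12975 : Q := sm gg N10425
def N12976 : Q := sm gb N10426
def N12977 : Q := sm gc N10426
def N12978 : Q := sm gg N10426
def N12979 : Q := sm gd N10427
def N12980 : Q := sm gg N10427
def N12981 : Q := sm gf N10428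
def N12982 : Q := sm gb N10429
def N12983 : Q := sm gc N10429
def N12984 : Q := sm gd N10430
def N12985 : Q := sm gg N10430
def N12986 : Q := sm gc N10432
def N12987 : Q := sm gb N10433
def N12988 : Q := sm ge N10434
def N12989 : Q := sm gg N10434
def N12990 : Q := sm gb N10435
def N12991 : Q := sm gd N10436
def N12992 : Q := sm gb N10437
def N12993 : Q := sm gd N10437
def N12994 : Q := sm ge N10437
def N12996 : Q := sm gf N10438
def N12997 : Q := sm gb N10439
def N12998 : Q := sm gc N10440
def N12999 : Q := sm ga N10441
def N13000 : Q := sm gd N10441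
def N13002 : Q := sm gf N10441
def N13003 : Q := sm gg N10441
def N13004 : Q := sm gc N10442
def N13005 : Q := sm ge N10442
def N13006 : Q := sm gf N10442
def N13008 : Q := sm gf N10443
def N13009 : Q := sm gg N10443
def N13013 : Q := sm gb N10447
def N13014 : Q := sm gf N10447
def N13015 : Q := sm gc N10448
def N13016 : Q := sm gb N10449
def N13017 : Q := sm gb N10451
def N13018 : Q := sm ge N10451
def N13019 : Q := sm gf N10451
def N13021 : Q := sm gd N10452
def N13022 : Q := sm gf N10452
def N13023 : Q := sm gg N10452
def N13025 : Q := sm gb N10454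
def N13026 : Q := sm gf N10454
def N13027 : Q := sm gg N10455
def N13028 : Q := sm gb N10456
def N13029 : Q := sm ga N10457
def N13030 : Q := sm gc N10457
def N13031 : Q := sm gf N10457
def N13032 : Q := sm gc N10458
def N13033 : Q := sm gd N10459
def N13034 : Q := sm ga N10460
def N13035 : Q := sm gc N10460
def N13036 : Q := sm ge N10460
def N13037 : Q := sm gf N10460
def N13038 : Q := sm gg N10460
def N13039 : Q := sm gd N10461
def N13042 : Q := sm gb N10462
def N13043 : Q := sm gb N10463
def N13046 : Q := sm gg N10464
def N13048 : Q := sm gb N10466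
def N13050 : Q := sm gb N10467
def N13051 : Q := sm ga N10468
def N13052 : Q := sm gc N10468
def N13053 : Q := sm gf N10468
def N13054 : Q := sm gb N10469
def N13055 : Q := sm gb N10470
def N13056 : Q := sm gg N10470
def N13058 : Q := sm ga N10472
def N13059 : Q := sm gc N10472
def N13060 : Q := sm gf N10472
def N13061 : Q := sm gb N10473
def N13062 : Q := sm gc N10473
def N13063 : Q := sm gf N10473
def N13064 : Q := sm gd N10474
def N13065 : Q := sm gf N10474
def N13066 : Q := sm gg N10475
def N13067 : Q := sm gb N10476
def N13068 : Q := sm gc N10476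
def N13069 : Q := sm gd N10477
def N13070 : Q := sm gf N10477
def N13071 : Q := sm gc N10479
def N13072 : Q := sm gb N10480
def N13073 : Q := sm ge N10481
def N13074 : Q := sm gf N10481
def N13075 : Q := sm gb N10482
def N13076 : Q := sm gd N10483
def N13078 : Q := sm ge N10485
def N13080 : Q := sm gd N10486
def N13084 : Q := sm gc N10489
def N13088 : Q := sm gg N10492
def N13090 : Q := sm gc N10494
def N13092 : Q := sm gg N10494
def N13096 : Q := sm gf N10501
def N13100 : Q := sm gg N10504
def N13102 : Q := sm gb N10506
def N13107 : Q := sm gf N10508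
def N13111 : Q := sm gd N10512
def N13114 : Q := sm gf N10513
def N13115 : Q := sm gb N10514
def N13116 : Q := sm gc N10515
def N13117 : Q := sm gd N10516
def N13118 : Q := sm ge N10517
def N13120 : Q := sm ge N10519
def N13122 : Q := sm gd N10520
def N13123 : Q := sm gf N10520
def N13125 : Q := sm gb N10522
def N13126 : Q := sm gc N10523
def N13127 : Q := sm ge N10525
def N13129 : Q := sm gd N10526
def N13130 : Q := sm gf N10526
def N13133 : Q := sm gf N10528
def N13134 : Q := sm gg N10528
def N13137 : Q := sm gc N10535
def N13142 : Q := sm ga N10538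
def N13146 : Q := sm gf N10540
def N13147 : Q := sm gg N10540
def N13152 : Q := sm ga N10546
def N13153 : Q := sm gd N10546
def N13155 : Q := sm gg N10546
def N13156 : Q := sm gg N10547
def N13157 : Q := sm gb N10548
def N13158 : Q := sm gc N10549
def N13159 : Q := sm gd N10550
def N13162 : Q := sm gg N10552
def N13164 : Q := sm gb N10555
def N13170 : Q := sm ga N10559
def N13171 : Q := sm gf N10559
def N13172 : Q := sm gg N10559
def N13173 : Q := sm gb N10560
def N13175 : Q := sm gf N10561
def N13176 : Q := sm gg N10561
def N13177 : Q := sm gg N10562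
def N13181 : Q := sm gf N10564
def N13182 : Q := sm gg N10564
def N13183 : Q := sm gg N10565
def N13188 : Q := sm gd N10570
def N13189 : Q := sm gf N10570
def N13190 : Q := sm gg N10570
def N13195 : Q := sm ga N10575
def N13199 : Q := sm gf N10577
def N13200 : Q := sm gg N10577
def N13201 : Q := sm ge N10578
def N13202 : Q := sm gf N10578
def N13203 : Q := sm gg N10578
def N13204 : Q := sm gb N10579
def N13205 : Q := sm gg N10579
def N13206 : Q := sm gb N10580
def N13209 : Q := sm gc N10581
def N13220 : Q := sm gf N10593
def N13221 : Q := sm gg N10593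
def N13222 : Q := sm gb N10594
def N13224 : Q := sm gf N10595
def N13225 : Q := sm gg N10595
def N13226 : Q := sm gb N10596
def N13227 : Q := sm gg N10596
def N13229 : Q := sm ga N10598
def N13231 : Q := sm gg N10598
def N13239 : Q := sm gf N10604
def N13240 : Q := sm ga N10606
def N13242 : Q := sm gg N10606
def N13244 : Q := sm gd N10608
def N13246 : Q := sm gg N10608
def N13250 : Q := sm gg N10611
def N13252 : Q := sm gb N10615
def N13253 : Q := sm gd N10615
def N13256 : Q := sm ga N10618
def N13258 : Q := sm gf N10618
def N13259 : Q := sm gg N10618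
def N13261 : Q := sm gf N10619
def N13267 : Q := sm gf N10623
def N13269 : Q := sm gb N10624
def N13272 : Q := sm gg N10625
def N13273 : Q := sm gg N10626
def N13274 : Q := sm gb N10627
def N13283 : Q := sm gf N10633
def N13284 : Q := sm gg N10633
def N13285 : Q := sm gg N10634
def N13286 : Q := sm gf N10635
def N13287 : Q := sm gc N10636
def N13288 : Q := sm gf N10636
def N13289 : Q := sm gg N10636
def N13290 : Q := sm gf N10637
def N13291 : Q := sm gg N10637
def N13292 : Q := sm gb N10638
def N13293 : Q := sm gb N10639
def N13294 : Q := sm gf N10640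
def N13295 : Q := sm gg N10640
def N13296 : Q := sm gg N10641
def N13297 : Q := sm gf N10642
def N13298 : Q := sm gb N10643
def N13299 : Q := sm gb N10644
def N13300 : Q := sm ga N10645
def N13301 : Q := sm gc N10645
def N13302 : Q := sm gd N10645
def N13303 : Q := sm gf N10645
def N13304 : Q := sm gg N10645
def N13305 : Q := sm gf N10646
def N13306 : Q := sm gg N10646
def N13307 : Q := sm gb N10647
def N13308 : Q := sm gb N10648
def N13309 : Q := sm gf N10649
def N13310 : Q := sm gg N10649
def N13311 : Q := sm gb N10650
def N13312 : Q := sm gg N10650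
def N13313 : Q := sm gb N10651
def N13314 : Q := sm gf N10651
def N13315 : Q := sm ga N10652
def N13316 : Q := sm gg N10652
def N13317 : Q := sm gb N10653
def N13318 : Q := sm ga N10654
def N13319 : Q := sm gf N10654
def N13320 : Q := sm gb N10655
def N13321 : Q := sm ga N10656
def N13322 : Q := sm gc N10656
def N13323 : Q := sm gg N10656
def N13324 : Q := sm ga N10657
def N13325 : Q := sm gc N10657
def N13326 : Q := sm gf N10657
def N13327 : Q := sm gb N10658
def N13328 : Q := sm gg N10658
def N13329 : Q := sm gf N10659
def N13330 : Q := sm gb N10660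
def N13331 : Q := sm gf N10660
def N13332 : Q := sm gg N10661
def N13333 : Q := sm gf N10662
def N13334 : Q := sm gg N10662
def N13335 : Q := sm gd N10663
def N13336 : Q := sm gf N10663
def N13337 : Q := sm gg N10663
def N13338 : Q := sm gb N10664
def N13339 : Q := sm gg N10664
def N13340 : Q := sm gb N10665
def N13341 : Q := sm gf N10665
def N13342 : Q := sm ga N10666
def N13343 : Q := sm gc N10666
def N13344 : Q := sm gg N10666
def N13345 : Q := sm ga N10667
def N13346 : Q := sm gc N10667
def N13347 : Q := sm gf N10667
def N13348 : Q := sm gb N10668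
def N13349 : Q := sm gb N10669
def N13350 : Q := sm ga N10670
def N13351 : Q := sm gc N10670
def N13352 : Q := sm gf N10670
def N13353 : Q := sm gb N10671
def N13354 : Q := sm gb N10672
def N13355 : Q := sm ga N10673
def N13356 : Q := sm gc N10673
def N13357 : Q := sm gg N10673
def N13358 : Q := sm ga N10674
def N13359 : Q := sm gc N10674
def N13360 : Q := sm gf N10674
def N13361 : Q := sm gg N10674
def N13362 : Q := sm gb N10675
def N13363 : Q := sm gb N10676
def N13364 : Q := sm ga N10677
def N13365 : Q := sm gc N10677
def N13366 : Q := sm gf N10677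
def N13367 : Q := sm gg N10677
def N13368 : Q := sm gb N10678
def N13369 : Q := sm gb N10679
def N13370 : Q := sm gb N10680
def N13371 : Q := sm gb N10681
def N13372 : Q := sm ga N10682
def N13373 : Q := sm gc N10682
def N13374 : Q := sm gg N10682
def N13375 : Q := sm ga N10683
def N13376 : Q := sm gc N10683
def N13377 : Q := sm gf N10683
def N13378 : Q := sm gd N10684
def N13379 : Q := sm gd N10685
def N13380 : Q := sm gf N10686
def N13381 : Q := sm gg N10686
def N13382 : Q := sm gb N10687
def N13383 : Q := sm gb N10688
def N13384 : Q := sm ga N10689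
def N13385 : Q := sm gc N10689
def N13386 : Q := sm gg N10689
def N13387 : Q := sm gb N10690
def N13388 : Q := sm ga N10691
def N13389 : Q := sm gc N10691
def N13390 : Q := sm gf N10691
def N13391 : Q := sm gb N10692
def N13392 : Q := sm gb N10693
def N13393 : Q := sm gc N10693
def N13394 : Q := sm gg N10693
def N13395 : Q := sm gd N10694
def N13396 : Q := sm gg N10694
def N13397 : Q := sm gf N10695
def N13398 : Q := sm gb N10696
def N13399 : Q := sm gc N10696
def N13400 : Q := sm gf N10696
def N13401 : Q := sm gd N10697
def N13402 : Q := sm gf N10697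
def N13403 : Q := sm gg N10698
def N13404 : Q := sm ge N10699
def N13405 : Q := sm ge N10700
def N13406 : Q := sm gf N10701
def N13407 : Q := sm gg N10701
def N13408 : Q := sm gf N10702
def N13409 : Q := sm gg N10702
def N13410 : Q := sm gb N10703
def N13411 : Q := sm gb N10704
def N13412 : Q := sm gb N10705
def N13413 : Q := sm gg N10705
def N13414 : Q := sm gb N10706
def N13415 : Q := sm gf N10706
def N13416 : Q := sm ga N10707
def N13417 : Q := sm gc N10707
def N13418 : Q := sm gg N10707
def N13419 : Q := sm gb N10708
def N13420 : Q := sm ga N10709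
def N13421 : Q := sm gc N10709
def N13422 : Q := sm gf N10709
def N13423 : Q := sm gb N10710
def N13424 : Q := sm ga N10711
def N13425 : Q := sm gc N10711
def N13426 : Q := sm gg N10711
def N13427 : Q := sm gb N10712
def N13428 : Q := sm ga N10713
def N13429 : Q := sm gc N10713
def N13430 : Q := sm gf N10713
def N13431 : Q := sm gb N10714
def N13432 : Q := sm gb N10715
def N13433 : Q := sm gc N10715
def N13434 : Q := sm gg N10715
def N13435 : Q := sm gd N10716
def N13436 : Q := sm gg N10716
def N13437 : Q := sm gb N10717
def N13438 : Q := sm gf N10717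
def N13439 : Q := sm ga N10718
def N13440 : Q := sm gc N10718
def N13441 : Q := sm gf N10718
def N13442 : Q := sm gb N10719
def N13443 : Q := sm gc N10719
def N13444 : Q := sm gf N10719
def N13445 : Q := sm gd N10720
def N13446 : Q := sm gf N10720
def N13447 : Q := sm gb N10721
def N13448 : Q := sm gg N10721
def N13449 : Q := sm ga N10722
def N13450 : Q := sm gc N10722
def N13451 : Q := sm gg N10722
def N13452 : Q := sm ge N10723
def N13453 : Q := sm gg N10723
def N13454 : Q := sm gb N10724
def N13455 : Q := sm gd N10725
def N13456 : Q := sm ge N10726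
def N13457 : Q := sm gf N10726
def N13458 : Q := sm gb N10727
def N13459 : Q := sm gd N10728
def N13460 : Q := sm gf N10731
def N13461 : Q := sm gg N10731
def N13462 : Q := sm gb N10732
def N13463 : Q := sm gg N10732
def N13464 : Q := sm gb N10733
def N13465 : Q := sm gf N10733
def N13466 : Q := sm ge N10734
def N13467 : Q := sm gf N10734
def N13468 : Q := sm gg N10734
def N13469 : Q := sm gf N10735
def N13470 : Q := sm gg N10735
def N13471 : Q := sm gb N10736
def N13472 : Q := sm gb N10737
def N13473 : Q := sm ga N10738
def N13474 : Q := sm gc N10738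
def N13475 : Q := sm gg N10738
def N13476 : Q := sm ga N10739
def N13477 : Q := sm gc N10739
def N13478 : Q := sm gf N10739
def N13479 : Q := sm ge N10740
def N13480 : Q := sm gf N10740
def N13481 : Q := sm gg N10740
def N13482 : Q := sm gd N10741
def N13483 : Q := sm gf N10741
def N13484 : Q := sm gg N10741
def N13485 : Q := sm gb N10742
def N13486 : Q := sm gg N10742
def N13487 : Q := sm gb N10743
def N13488 : Q := sm gf N10743
def N13489 : Q := sm gb N10744
def N13490 : Q := sm gg N10744
def N13491 : Q := sm gb N10745
def N13492 : Q := sm gf N10745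
def N13493 : Q := sm ga N10746
def N13494 : Q := sm gc N10746
def N13495 : Q := sm gg N10746
def N13496 : Q := sm gb N10747
def N13497 : Q := sm ga N10748
def N13498 : Q := sm gc N10748
def N13499 : Q := sm gf N10748
def N13500 : Q := sm gb N10749
def N13501 : Q := sm gb N10750
def N13502 : Q := sm gc N10750
def N13503 : Q := sm gd N10751
def N13504 : Q := sm gg N10751
def N13505 : Q := sm gb N10752
def N13506 : Q := sm ga N10753
def N13507 : Q := sm gc N10753
def N13508 : Q := sm gf N10753
def N13509 : Q := sm gb N10754
def N13510 : Q := sm gc N10754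
def N13511 : Q := sm gd N10755
def N13512 : Q := sm gf N10755
def N13513 : Q := sm gb N10756
def N13514 : Q := sm ga N10757
def N13515 : Q := sm gc N10757
def N13516 : Q := sm gg N10757
def N13517 : Q := sm ga N10758
def N13518 : Q := sm gc N10758
def N13519 : Q := sm gg N10758
def N13520 : Q := sm gb N10759
def N13521 : Q := sm ga N10760
def N13522 : Q := sm gc N10760
def N13523 : Q := sm gf N10760
def N13524 : Q := sm gb N10761
def N13525 : Q := sm gb N10762
def N13526 : Q := sm gc N10762
def N13527 : Q := sm gg N10762
def N13528 : Q := sm gd N10763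
def N13529 : Q := sm gg N10763
def N13530 : Q := sm gb N10764
def N13531 : Q := sm gf N10764
def N13532 : Q := sm ga N10765
def N13533 : Q := sm gc N10765
def N13534 : Q := sm gf N10765
def N13535 : Q := sm gb N10766
def N13536 : Q := sm gc N10766
def N13537 : Q := sm gf N10766
def N13538 : Q := sm gd N10767
def N13539 : Q := sm gf N10767
def N13540 : Q := sm gb N10768
def N13541 : Q := sm gg N10768
def N13542 : Q := sm ga N10769
def N13543 : Q := sm gc N10769
def N13544 : Q := sm gg N10769
def N13545 : Q := sm ga N10770
def N13546 : Q := sm gc N10770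
def N13547 : Q := sm gf N10770
def N13548 : Q := sm gg N10770
def N13549 : Q := sm gb N10771
def N13550 : Q := sm gd N10771
def N13551 : Q := sm gg N10771
def N13552 : Q := sm gb N10772
def N13553 : Q := sm gc N10773
def N13554 : Q := sm ge N10773
def N13555 : Q := sm gg N10773
def N13556 : Q := sm gb N10774
def N13557 : Q := sm gf N10774
def N13558 : Q := sm ga N10775
def N13559 : Q := sm gc N10775
def N13560 : Q := sm gf N10775
def N13561 : Q := sm gb N10776
def N13562 : Q := sm gb N10777
def N13563 : Q := sm gc N10777
def N13564 : Q := sm gf N10777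
def N13565 : Q := sm gd N10778
def N13566 : Q := sm gf N10778
def N13567 : Q := sm gg N10779
def N13568 : Q := sm ga N10780
def N13569 : Q := sm gc N10780
def N13570 : Q := sm gf N10780
def N13571 : Q := sm gg N10780
def N13572 : Q := sm gb N10781
def N13573 : Q := sm gd N10781
def N13574 : Q := sm gf N10781
def N13575 : Q := sm gb N10782
def N13576 : Q := sm gc N10783
def N13577 : Q := sm ge N10783
def N13578 : Q := sm gf N10783
def N13579 : Q := sm gb N10784
def N13580 : Q := sm gg N10784
def N13581 : Q := sm ga N10785
def N13582 : Q := sm gc N10785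
def N13583 : Q := sm gg N10785
def N13584 : Q := sm gb N10786
def N13585 : Q := sm gb N10787
def N13586 : Q := sm gc N10787
def N13587 : Q := sm gg N10787
def N13588 : Q := sm gd N10788
def N13589 : Q := sm gg N10788
def N13590 : Q := sm gf N10789
def N13591 : Q := sm ga N10790
def N13592 : Q := sm gd N10790
def N13593 : Q := sm gf N10790
def N13594 : Q := sm gg N10790
def N13595 : Q := sm ge N10791
def N13596 : Q := sm gb N10792
def N13597 : Q := sm ge N10792
def N13598 : Q := sm gg N10792
def N13599 : Q := sm gg N10793
def N13600 : Q := sm gb N10794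
def N13601 : Q := sm ga N10795
def N13602 : Q := sm gf N10795
def N13603 : Q := sm ge N10796
def N13604 : Q := sm ga N10797
def N13605 : Q := sm gd N10797
def N13606 : Q := sm gf N10797
def N13607 : Q := sm gg N10797
def N13608 : Q := sm ge N10798
def N13609 : Q := sm gb N10799
def N13610 : Q := sm ge N10799
def N13611 : Q := sm gf N10799
def N13612 : Q := sm gf N10800
def N13613 : Q := sm gb N10801
def N13614 : Q := sm ga N10802
def N13615 : Q := sm gg N10802
def N13616 : Q := sm ge N10803
def N13617 : Q := sm gc N10804
def N13618 : Q := sm ge N10804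
def N13619 : Q := sm gg N10804
def N13620 : Q := sm gb N10806
def N13621 : Q := sm ge N10806
def N13622 : Q := sm ga N10808
def N13623 : Q := sm gd N10808
def N13624 : Q := sm ge N10808
def N13625 : Q := sm gf N10808
def N13626 : Q := sm gg N10808
def N13627 : Q := sm ge N10809
def N13628 : Q := sm gg N10809
def N13629 : Q := sm gd N10810
def N13630 : Q := sm gg N10810
def N13631 : Q := sm gb N10811
def N13632 : Q := sm gb N10813
def N13633 : Q := sm ge N10813
def N13634 : Q := sm gc N10815
def N13635 : Q := sm ge N10815
def N13636 : Q := sm gf N10815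
def N13637 : Q := sm gb N10817
def N13638 : Q := sm ge N10817
def N13639 : Q := sm ga N10819
def N13640 : Q := sm gd N10819
def N13641 : Q := sm ge N10819
def N13642 : Q := sm gf N10819
def N13643 : Q := sm gg N10819
def N13644 : Q := sm ge N10820
def N13645 : Q := sm gf N10820
def N13646 : Q := sm gd N10821
def N13647 : Q := sm gf N10821
def N13648 : Q := sm gb N10822
def N13649 : Q := sm gb N10824
def N13650 : Q := sm ge N10824
def N13651 : Q := sm gg N10826
def N13653 : Q := sm gd N10830
def N13654 : Q := sm gf N10830
def N13655 : Q := sm gg N10830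
def N13656 : Q := sm gf N10831
def N13657 : Q := sm gg N10831
def N13658 : Q := sm gb N10832
def N13659 : Q := sm gg N10832
def N13660 : Q := sm gb N10833
def N13661 : Q := sm gf N10833
def N13662 : Q := sm gb N10834
def N13663 : Q := sm gb N10835
def N13664 : Q := sm ga N10836
def N13665 : Q := sm gc N10836
def N13666 : Q := sm gg N10836
def N13667 : Q := sm ga N10837
def N13668 : Q := sm gc N10837
def N13669 : Q := sm gf N10837
def N13670 : Q := sm gb N10838
def N13671 : Q := sm gb N10839
def N13672 : Q := sm ga N10840
def N13673 : Q := sm gc N10840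
def N13674 : Q := sm gg N10840
def N13675 : Q := sm gb N10841
def N13676 : Q := sm ga N10842
def N13677 : Q := sm gc N10842
def N13678 : Q := sm gf N10842
def N13679 : Q := sm gb N10843
def N13680 : Q := sm gb N10844
def N13681 : Q := sm gc N10844
def N13682 : Q := sm gd N10845
def N13683 : Q := sm gg N10845
def N13684 : Q := sm gb N10846
def N13685 : Q := sm ga N10847
def N13686 : Q := sm gc N10847
def N13687 : Q := sm gf N10847
def N13688 : Q := sm gb N10848
def N13689 : Q := sm gc N10848
def N13690 : Q := sm gd N10849
def N13691 : Q := sm gf N10849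
def N13692 : Q := sm gb N10850
def N13693 : Q := sm ga N10851
def N13694 : Q := sm gc N10851
def N13695 : Q := sm gg N10851
def N13696 : Q := sm gb N10852
def N13697 : Q := sm gg N10852
def N13698 : Q := sm gg N10853
def N13699 : Q := sm gb N10854
def N13700 : Q := sm gf N10854
def N13701 : Q := sm ga N10855
def N13702 : Q := sm gc N10855
def N13703 : Q := sm gf N10855
def N13704 : Q := sm gb N10856
def N13705 : Q := sm gf N10856
def N13706 : Q := sm gf N10857
def N13707 : Q := sm gb N10858
def N13708 : Q := sm gg N10858
def N13709 : Q := sm ga N10859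
def N13710 : Q := sm gc N10859
def N13711 : Q := sm gg N10859
def N13712 : Q := sm ga N10860
def N13713 : Q := sm gc N10860
def N13714 : Q := sm gf N10860
def N13715 : Q := sm gg N10860
def N13716 : Q := sm gb N10861
def N13717 : Q := sm gd N10861
def N13718 : Q := sm gg N10861
def N13719 : Q := sm gb N10862
def N13720 : Q := sm ge N10863
def N13721 : Q := sm gg N10863
def N13722 : Q := sm gb N10864
def N13723 : Q := sm gf N10864
def N13724 : Q := sm ga N10865
def N13725 : Q := sm gc N10865
def N13726 : Q := sm gf N10865
def N13727 : Q := sm gb N10866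
def N13728 : Q := sm gb N10867
def N13729 : Q := sm gc N10867
def N13730 : Q := sm gf N10867
def N13731 : Q := sm gd N10868
def N13732 : Q := sm gf N10868
def N13733 : Q := sm gg N10869
def N13734 : Q := sm ga N10870
def N13735 : Q := sm gc N10870
def N13736 : Q := sm gf N10870
def N13737 : Q := sm gg N10870
def N13738 : Q := sm gb N10871
def N13739 : Q := sm gd N10871
def N13740 : Q := sm gf N10871
def N13741 : Q := sm gb N10872
def N13742 : Q := sm ge N10873
def N13743 : Q := sm gf N10873
def N13744 : Q := sm gb N10874
def N13745 : Q := sm gg N10874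
def N13746 : Q := sm ga N10875
def N13747 : Q := sm gc N10875
def N13748 : Q := sm gg N10875
def N13749 : Q := sm gb N10876
def N13750 : Q := sm gb N10877
def N13751 : Q := sm gc N10877
def N13752 : Q := sm gg N10877
def N13753 : Q := sm gd N10878
def N13754 : Q := sm gg N10878
def N13755 : Q := sm gf N10879
def N13756 : Q := sm gb N10880
def N13757 : Q := sm gd N10880
def N13758 : Q := sm ga N10881
def N13759 : Q := sm gd N10881
def N13760 : Q := sm gf N10881
def N13761 : Q := sm gg N10881
def N13762 : Q := sm ge N10882
def N13763 : Q := sm gg N10883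
def N13764 : Q := sm gb N10884
def N13765 : Q := sm gf N10884
def N13766 : Q := sm ga N10885
def N13767 : Q := sm gc N10885
def N13768 : Q := sm gf N10885
def N13769 : Q := sm gb N10886
def N13770 : Q := sm gc N10887
def N13771 : Q := sm gd N10888
def N13772 : Q := sm gb N10889
def N13773 : Q := sm gd N10889
def N13774 : Q := sm gc N10890
def N13775 : Q := sm ge N10890
def N13776 : Q := sm gb N10891
def N13777 : Q := sm gd N10891
def N13778 : Q := sm ga N10892
def N13779 : Q := sm gd N10892
def N13780 : Q := sm gf N10892
def N13781 : Q := sm gg N10892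
def N13782 : Q := sm ge N10893
def N13783 : Q := sm gf N10894
def N13784 : Q := sm gb N10895
def N13785 : Q := sm gg N10895
def N13786 : Q := sm ga N10896
def N13787 : Q := sm gc N10896
def N13788 : Q := sm gg N10896
def N13789 : Q := sm gb N10897
def N13790 : Q := sm gc N10898
def N13791 : Q := sm gd N10899
def N13792 : Q := sm gb N10900
def N13793 : Q := sm gd N10900
def N13794 : Q := sm gc N10901
def N13795 : Q := sm ge N10901
def N13796 : Q := sm ga N10902
def N13797 : Q := sm gd N10902
def N13798 : Q := sm gf N10902
def N13799 : Q := sm gg N10902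
def N13800 : Q := sm ge N10903
def N13801 : Q := sm gb N10904
def N13802 : Q := sm gd N10904
def N13803 : Q := sm gc N10905
def N13804 : Q := sm ge N10905
def N13805 : Q := sm gc N10906
def N13806 : Q := sm ge N10906
def N13807 : Q := sm gb N10907
def N13808 : Q := sm gd N10907
def N13810 : Q := sm ga N10909
def N13811 : Q := sm gd N10909
def N13812 : Q := sm gf N10909
def N13813 : Q := sm gg N10909
def N13814 : Q := sm ge N10910
def N13815 : Q := sm gb N10911
def N13816 : Q := sm gd N10911
def N13817 : Q := sm gc N10912
def N13818 : Q := sm ge N10912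
def N13819 : Q := sm gc N10913
def N13821 : Q := sm gb N10914
def N13822 : Q := sm gd N10914
def N13823 : Q := sm ge N10914
def N13824 : Q := sm gd N10916
def N13825 : Q := sm ge N10917
def N13833 : Q := sm ge N10925
def N13838 : Q := sm gb N10930
def N13839 : Q := sm gb N10931
def N13840 : Q := sm ga N10932
def N13841 : Q := sm gc N10932
def N13842 : Q := sm gg N10932
def N13843 : Q := sm gb N10933
def N13844 : Q := sm ga N10934
def N13845 : Q := sm gc N10934
def N13846 : Q := sm gf N10934
def N13847 : Q := sm gb N10935
def N13848 : Q := sm gb N10936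
def N13849 : Q := sm gc N10936
def N13850 : Q := sm gg N10936
def N13851 : Q := sm gd N10937
def N13852 : Q := sm gg N10937
def N13853 : Q := sm gf N10938
def N13854 : Q := sm gb N10939
def N13855 : Q := sm gc N10939
def N13856 : Q := sm gf N10939
def N13857 : Q := sm gd N10940
def N13858 : Q := sm gf N10940
def N13859 : Q := sm gg N10941
def N13860 : Q := sm ga N10942
def N13861 : Q := sm gc N10942
def N13862 : Q := sm gf N10942
def N13863 : Q := sm gg N10942
def N13864 : Q := sm gb N10943
def N13865 : Q := sm gd N10943
def N13866 : Q := sm ge N10944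
def N13867 : Q := sm gg N10944
def N13868 : Q := sm gb N10945
def N13869 : Q := sm ga N10946
def N13870 : Q := sm gc N10946
def N13871 : Q := sm gf N10946
def N13872 : Q := sm gb N10947
def N13873 : Q := sm gc N10947
def N13874 : Q := sm gf N10947
def N13875 : Q := sm gd N10948
def N13876 : Q := sm gf N10948
def N13877 : Q := sm gg N10949
def N13878 : Q := sm ga N10950
def N13879 : Q := sm gc N10950
def N13880 : Q := sm gf N10950
def N13881 : Q := sm gg N10950
def N13882 : Q := sm gb N10951
def N13883 : Q := sm gd N10951
def N13884 : Q := sm ge N10952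
def N13885 : Q := sm gf N10952
def N13886 : Q := sm gb N10953
def N13887 : Q := sm ga N10954
def N13888 : Q := sm gc N10954
def N13889 : Q := sm gg N10954
def N13890 : Q := sm gb N10955
def N13891 : Q := sm gc N10955
def N13892 : Q := sm gg N10955
def N13893 : Q := sm gd N10956
def N13894 : Q := sm gg N10956
def N13895 : Q := sm gf N10957
def N13896 : Q := sm gc N10958
def N13897 : Q := sm gf N10958
def N13898 : Q := sm gg N10958
def N13899 : Q := sm gb N10959
def N13900 : Q := sm gd N10959
def N13901 : Q := sm gf N10959
def N13902 : Q := sm gg N10959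
def N13903 : Q := sm gg N10960
def N13904 : Q := sm gb N10961
def N13905 : Q := sm gf N10961
def N13906 : Q := sm ga N10962
def N13907 : Q := sm gd N10962
def N13908 : Q := sm gf N10962
def N13909 : Q := sm gg N10962
def N13910 : Q := sm ge N10963
def N13911 : Q := sm gg N10963
def N13912 : Q := sm gb N10964
def N13913 : Q := sm ga N10965
def N13914 : Q := sm gc N10965
def N13915 : Q := sm gf N10965
def N13916 : Q := sm gg N10966
def N13917 : Q := sm gb N10967
def N13918 : Q := sm gf N10967
def N13919 : Q := sm ga N10968
def N13920 : Q := sm gc N10968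
def N13921 : Q := sm gf N10968
def N13922 : Q := sm gb N10969
def N13923 : Q := sm gb N10970
def N13924 : Q := sm gc N10970
def N13925 : Q := sm gd N10971
def N13926 : Q := sm gf N10971
def N13927 : Q := sm gb N10972
def N13928 : Q := sm ga N10973
def N13929 : Q := sm gc N10973
def N13930 : Q := sm gg N10973
def N13931 : Q := sm ga N10974
def N13932 : Q := sm gc N10974
def N13933 : Q := sm gf N10974
def N13934 : Q := sm gg N10974
def N13935 : Q := sm gb N10975
def N13936 : Q := sm gd N10975
def N13937 : Q := sm gf N10975
def N13938 : Q := sm gb N10976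
def N13939 : Q := sm gc N10977
def N13940 : Q := sm ge N10977
def N13941 : Q := sm gf N10977
def N13942 : Q := sm gg N10978
def N13943 : Q := sm gb N10979
def N13944 : Q := sm gc N10980
def N13945 : Q := sm gf N10980
def N13946 : Q := sm gg N10980
def N13947 : Q := sm gb N10981
def N13948 : Q := sm gd N10981
def N13949 : Q := sm gf N10981
def N13950 : Q := sm gg N10981
def N13951 : Q := sm gb N10982
def N13952 : Q := sm gg N10982
def N13953 : Q := sm gf N10983
def N13954 : Q := sm ga N10984
def N13955 : Q := sm gd N10984
def N13956 : Q := sm gf N10984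
def N13957 : Q := sm gg N10984
def N13958 : Q := sm ge N10985
def N13959 : Q := sm gf N10985
def N13960 : Q := sm gb N10986
def N13961 : Q := sm ga N10987
def N13962 : Q := sm gc N10987
def N13963 : Q := sm gg N10987
def N13964 : Q := sm gf N10988
def N13965 : Q := sm gb N10989
def N13966 : Q := sm gg N10989
def N13967 : Q := sm ga N10990
def N13968 : Q := sm gc N10990
def N13969 : Q := sm gg N10990
def N13970 : Q := sm gb N10991
def N13971 : Q := sm gb N10992
def N13972 : Q := sm gc N10992
def N13973 : Q := sm gd N10993
def N13974 : Q := sm gg N10993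
def N13975 : Q := sm gb N10994
def N13976 : Q := sm ga N10995
def N13977 : Q := sm gc N10995
def N13978 : Q := sm gf N10995
def N13979 : Q := sm ga N10996
def N13980 : Q := sm gc N10996
def N13981 : Q := sm gf N10996
def N13982 : Q := sm gg N10996
def N13983 : Q := sm gb N10997
def N13984 : Q := sm gd N10997
def N13985 : Q := sm gg N10997
def N13986 : Q := sm gb N10998
def N13987 : Q := sm gc N10999
def N13988 : Q := sm ge N10999
def N13989 : Q := sm gg N10999
def N13990 : Q := sm gf N11000
def N13991 : Q := sm gb N11001
def N13992 : Q := sm ga N11002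
def N13993 : Q := sm gd N11002
def N13994 : Q := sm gf N11002
def N13995 : Q := sm gg N11002
def N13996 : Q := sm ge N11003
def N13997 : Q := sm gd N11004
def N13998 : Q := sm gf N11004
def N13999 : Q := sm gg N11004
def N14000 : Q := sm gc N11005
def N14001 : Q := sm ge N11005
def N14002 : Q := sm gf N11005
def N14003 : Q := sm gg N11005
def N14004 : Q := sm gg N11006
def N14005 : Q := sm gf N11007
def N14006 : Q := sm ga N11009
def N14007 : Q := sm ge N11009
def N14008 : Q := sm gf N11009
def N14009 : Q := sm gg N11009
def N14010 : Q := sm gd N11010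
def N14011 : Q := sm gg N11010
def N14012 : Q := sm gb N11011
def N14013 : Q := sm gb N11012
def N14014 : Q := sm gf N11012
def N14015 : Q := sm ga N11013
def N14016 : Q := sm gc N11013
def N14017 : Q := sm gf N11013
def N14018 : Q := sm gb N11014
def N14019 : Q := sm gb N11015
def N14020 : Q := sm gc N11015
def N14021 : Q := sm gf N11015
def N14022 : Q := sm gd N11016
def N14023 : Q := sm gf N11016
def N14024 : Q := sm gb N11017
def N14025 : Q := sm gg N11017
def N14026 : Q := sm ga N11018
def N14027 : Q := sm gg N11018
def N14028 : Q := sm gb N11019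
def N14029 : Q := sm gd N11019
def N14030 : Q := sm gc N11020
def N14031 : Q := sm ge N11020
def N14032 : Q := sm ga N11021
def N14033 : Q := sm gd N11021
def N14034 : Q := sm gf N11021
def N14035 : Q := sm gg N11021
def N14036 : Q := sm ge N11022
def N14037 : Q := sm gb N11023
def N14038 : Q := sm ge N11023
def N14039 : Q := sm ga N11025
def N14040 : Q := sm gd N11025
def N14041 : Q := sm gf N11025
def N14042 : Q := sm gg N11025
def N14043 : Q := sm ge N11026
def N14044 : Q := sm gd N11027
def N14045 : Q := sm gf N11027
def N14046 : Q := sm gg N11027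
def N14047 : Q := sm gc N11028
def N14048 : Q := sm ge N11028
def N14049 : Q := sm gf N11028
def N14050 : Q := sm gg N11028
def N14051 : Q := sm gg N11029
def N14052 : Q := sm gf N11030
def N14053 : Q := sm ga N11032
def N14054 : Q := sm ge N11032
def N14055 : Q := sm gf N11032
def N14056 : Q := sm gg N11032
def N14057 : Q := sm gd N11033
def N14058 : Q := sm gf N11033
def N14059 : Q := sm gb N11034
def N14060 : Q := sm gb N11035
def N14061 : Q := sm gg N11035
def N14062 : Q := sm ga N11036
def N14063 : Q := sm gc N11036
def N14064 : Q := sm gg N11036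
def N14065 : Q := sm gb N11037
def N14066 : Q := sm gb N11038
def N14067 : Q := sm gc N11038
def N14068 : Q := sm gg N11038
def N14069 : Q := sm gd N11039
def N14070 : Q := sm gg N11039
def N14071 : Q := sm gb N11040
def N14072 : Q := sm gf N11040
def N14073 : Q := sm ga N11041
def N14074 : Q := sm gf N11041
def N14075 : Q := sm gb N11042
def N14076 : Q := sm gd N11042
def N14077 : Q := sm gc N11043
def N14078 : Q := sm ge N11043
def N14079 : Q := sm ga N11044
def N14080 : Q := sm gd N11044
def N14081 : Q := sm gf N11044
def N14082 : Q := sm gg N11044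
def N14083 : Q := sm ge N11045
def N14084 : Q := sm gb N11046
def N14085 : Q := sm ge N11046
def N14086 : Q := sm ga N11048
def N14087 : Q := sm ge N11048
def N14088 : Q := sm gf N11048
def N14089 : Q := sm gg N11048
def N14090 : Q := sm gd N11049
def N14091 : Q := sm gb N11050
def N14092 : Q := sm gd N11050
def N14093 : Q := sm ge N11050
def N14094 : Q := sm gf N11050
def N14095 : Q := sm gg N11050
def N14096 : Q := sm gc N11051
def N14097 : Q := sm ge N11051
def N14098 : Q := sm gf N11051
def N14099 : Q := sm gg N11051
def N14100 : Q := sm gd N11052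
def N14101 : Q := sm gf N11052
def N14102 : Q := sm gg N11052
def N14103 : Q := sm gg N11053
def N14104 : Q := sm gb N11054
def N14105 : Q := sm gf N11054
def N14106 : Q := sm gd N11055
def N14107 : Q := sm gg N11055
def N14108 : Q := sm gb N11056
def N14109 : Q := sm gc N11057
def N14110 : Q := sm gg N11057
def N14111 : Q := sm gb N11058
def N14112 : Q := sm gf N11058
def N14113 : Q := sm ga N11059
def N14114 : Q := sm gc N11059
def N14115 : Q := sm gf N11059
def N14116 : Q := sm gb N11060
def N14117 : Q := sm ga N11061
def N14118 : Q := sm gc N11061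
def N14119 : Q := sm gf N11061
def N14120 : Q := sm gb N11062
def N14121 : Q := sm gc N11063
def N14122 : Q := sm gd N11064
def N14123 : Q := sm gf N11064
def N14124 : Q := sm gc N11066
def N14126 : Q := sm gc N11068
def N14128 : Q := sm gb N11069
def N14129 : Q := sm gd N11069
def N14130 : Q := sm ge N11069
def N14131 : Q := sm gc N11071
def N14134 : Q := sm gb N11073
def N14135 : Q := sm ge N11073
def N14136 : Q := sm ga N11075
def N14137 : Q := sm gd N11075
def N14138 : Q := sm ge N11075
def N14139 : Q := sm gf N11075
def N14140 : Q := sm gg N11075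
def N14141 : Q := sm ge N11076
def N14142 : Q := sm gd N11077
def N14143 : Q := sm ga N11078
def N14144 : Q := sm ge N11078
def N14145 : Q := sm gf N11078
def N14146 : Q := sm gg N11078
def N14147 : Q := sm gd N11079
def N14148 : Q := sm gb N11080
def N14149 : Q := sm gd N11080
def N14150 : Q := sm ge N11080
def N14151 : Q := sm gf N11080
def N14152 : Q := sm gg N11080
def N14153 : Q := sm gc N11081
def N14154 : Q := sm ge N11081
def N14155 : Q := sm gf N11081
def N14156 : Q := sm gg N11081
def N14157 : Q := sm gd N11082
def N14158 : Q := sm gf N11082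
def N14159 : Q := sm gg N11082
def N14160 : Q := sm gb N11083
def N14161 : Q := sm gg N11083
def N14162 : Q := sm gf N11084
def N14163 : Q := sm gd N11085
def N14164 : Q := sm gf N11085
def N14165 : Q := sm gb N11086
def N14166 : Q := sm gc N11087
def N14167 : Q := sm gf N11087
def N14168 : Q := sm gb N11088
def N14169 : Q := sm gg N11088
def N14170 : Q := sm ga N11089
def N14171 : Q := sm gc N11089
def N14172 : Q := sm gg N11089
def N14173 : Q := sm gb N11090
def N14175 : Q := sm gc N11091
def N14176 : Q := sm gg N11091
def N14177 : Q := sm gb N11092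
def N14178 : Q := sm gc N11093
def N14179 : Q := sm gd N11094
def N14180 : Q := sm gg N11094
def N14181 : Q := sm gc N11096
def N14182 : Q := sm gf N11096
def N14183 : Q := sm gc N11098
def N14184 : Q := sm ge N11098
def N14185 : Q := sm gb N11099
def N14186 : Q := sm gd N11099
def N14187 : Q := sm ge N11099
def N14188 : Q := sm gc N11101
def N14191 : Q := sm gb N11103
def N14192 : Q := sm ge N11103
def N14193 : Q := sm ga N11105
def N14194 : Q := sm gd N11105
def N14195 : Q := sm ge N11105
def N14196 : Q := sm gf N11105
def N14197 : Q := sm gg N11105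
def N14198 : Q := sm ge N11106
def N14199 : Q := sm gd N11107
def N14200 : Q := sm gg N11111
def N14201 : Q := sm ge N11114
def N14202 : Q := sm gd N11115
def N14207 : Q := sm gf N11117
def N14211 : Q := sm gd N11121
def N14219 : Q := sm gg N11129
def N14226 : Q := sm ga N11136
def N14227 : Q := sm gc N11136
def N14228 : Q := sm ge N11136
def N14229 : Q := sm gf N11136
def N14230 : Q := sm gg N11136
def N14231 : Q := sm gd N11137
def N14232 : Q := sm gf N11137
def N14233 : Q := sm gg N11137
def N14234 : Q := sm gb N11138
def N14235 : Q := sm gb N11139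
def N14236 : Q := sm gc N11140
def N14237 : Q := sm gf N11140
def N14238 : Q := sm gg N11140
def N14239 : Q := sm gg N11141
def N14240 : Q := sm gb N11142
def N14241 : Q := sm gf N11142
def N14242 : Q := sm gb N11143
def N14243 : Q := sm ga N11144
def N14244 : Q := sm gc N11144
def N14245 : Q := sm gf N11144
def N14246 : Q := sm gb N11145
def N14247 : Q := sm gb N11146
def N14248 : Q := sm ga N11147
def N14249 : Q := sm gc N11147
def N14250 : Q := sm gf N11147
def N14251 : Q := sm gb N11148
def N14252 : Q := sm gc N11148
def N14253 : Q := sm gf N11148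
def N14254 : Q := sm gd N11149
def N14255 : Q := sm gf N11149
def N14256 : Q := sm gg N11150
def N14257 : Q := sm gc N11151
def N14259 : Q := sm gd N11152
def N14260 : Q := sm gf N11152
def N14261 : Q := sm gb N11154
def N14262 : Q := sm gd N11154
def N14263 : Q := sm gf N11154
def N14264 : Q := sm gc N11156
def N14265 : Q := sm ge N11156
def N14266 : Q := sm gf N11156
def N14267 : Q := sm gb N11157
def N14268 : Q := sm gb N11158
def N14269 : Q := sm ge N11158
def N14270 : Q := sm gf N11158
def N14271 : Q := sm gg N11158
def N14272 : Q := sm gd N11159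
def N14273 : Q := sm gf N11159
def N14274 : Q := sm gg N11159
def N14275 : Q := sm gg N11160
def N14276 : Q := sm gf N11161
def N14277 : Q := sm ga N11163
def N14278 : Q := sm gc N11163
def N14279 : Q := sm ge N11163
def N14280 : Q := sm gf N11163
def N14281 : Q := sm gg N11163
def N14282 : Q := sm gd N11164
def N14283 : Q := sm gf N11164
def N14284 : Q := sm gg N11164
def N14285 : Q := sm gb N11165
def N14286 : Q := sm gb N11166
def N14287 : Q := sm gc N11167
def N14288 : Q := sm gf N11167
def N14289 : Q := sm gg N11167
def N14290 : Q := sm gb N11168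
def N14291 : Q := sm gg N11168
def N14292 : Q := sm gf N11169
def N14293 : Q := sm ga N11170
def N14294 : Q := sm gc N11170
def N14295 : Q := sm gg N11170
def N14296 : Q := sm gb N11171
def N14297 : Q := sm gb N11172
def N14298 : Q := sm gb N11173
def N14299 : Q := sm ga N11174
def N14300 : Q := sm gc N11174
def N14301 : Q := sm gg N11174
def N14302 : Q := sm gb N11175
def N14303 : Q := sm gc N11175
def N14304 : Q := sm gg N11175
def N14305 : Q := sm gd N11176
def N14306 : Q := sm gg N11176
def N14307 : Q := sm gf N11177
def N14308 : Q := sm gc N11178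
def N14310 : Q := sm gd N11179
def N14311 : Q := sm gg N11179
def N14312 : Q := sm gb N11181
def N14313 : Q := sm gg N11181
def N14314 : Q := sm ge N11183
def N14315 : Q := sm gg N11183
def N14316 : Q := sm gb N11184
def N14317 : Q := sm gb N11185
def N14318 : Q := sm ge N11185
def N14319 : Q := sm gf N11185
def N14320 : Q := sm gg N11185
def N14321 : Q := sm gd N11186
def N14322 : Q := sm gf N11186
def N14323 : Q := sm gg N11186
def N14324 : Q := sm gg N11187
def N14325 : Q := sm gf N11188
def N14326 : Q := sm gc N11191
def N14327 : Q := sm gc N11193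
def N14328 : Q := sm gf N11194
def N14329 : Q := sm gg N11194
def N14330 : Q := sm gg N11195
def N14331 : Q := sm gf N11196
def N14332 : Q := sm gf N11197
def N14333 : Q := sm gg N11197
def N14334 : Q := sm gb N11198
def N14335 : Q := sm gb N11199
def N14336 : Q := sm gd N11200
def N14337 : Q := sm gf N11200
def N14338 : Q := sm gg N11200
def N14339 : Q := sm gg N11201
def N14340 : Q := sm gf N11202
def N14341 : Q := sm gb N11203
def N14342 : Q := sm gb N11204
def N14343 : Q := sm gf N11205
def N14344 : Q := sm gg N11205
def N14345 : Q := sm gb N11206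
def N14346 : Q := sm gb N11207
def N14347 : Q := sm gb N11208
def N14348 : Q := sm gg N11208
def N14349 : Q := sm gb N11209
def N14350 : Q := sm gf N11209
def N14351 : Q := sm ga N11210
def N14352 : Q := sm gg N11210
def N14353 : Q := sm gb N11211
def N14354 : Q := sm ga N11212
def N14355 : Q := sm gf N11212
def N14356 : Q := sm gb N11213
def N14357 : Q := sm gb N11214
def N14358 : Q := sm gb N11215
def N14359 : Q := sm ga N11216
def N14360 : Q := sm gc N11216
def N14361 : Q := sm gg N11216
def N14362 : Q := sm ga N11217
def N14363 : Q := sm gc N11217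
def N14364 : Q := sm gf N11217
def N14365 : Q := sm gb N11218
def N14366 : Q := sm gg N11218
def N14367 : Q := sm gf N11219
def N14368 : Q := sm gb N11220
def N14369 : Q := sm gf N11220
def N14370 : Q := sm gg N11221
def N14371 : Q := sm gf N11222
def N14372 : Q := sm gg N11222
def N14373 : Q := sm gb N11223
def N14374 : Q := sm gb N11224
def N14375 : Q := sm gb N11225
def N14376 : Q := sm gd N11225
def N14377 : Q := sm gf N11225
def N14378 : Q := sm gg N11225
def N14379 : Q := sm gb N11226
def N14380 : Q := sm gb N11227
def N14381 : Q := sm ga N11228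
def N14382 : Q := sm gc N11228
def N14383 : Q := sm gg N11228
def N14384 : Q := sm ga N11229
def N14385 : Q := sm gc N11229
def N14386 : Q := sm gf N11229
def N14387 : Q := sm gc N11230
def N14388 : Q := sm ge N11230
def N14389 : Q := sm gf N11230
def N14390 : Q := sm gg N11230
def N14391 : Q := sm gf N11231
def N14392 : Q := sm gg N11231
def N14393 : Q := sm gb N11232
def N14394 : Q := sm gg N11232
def N14395 : Q := sm gb N11233
def N14396 : Q := sm gf N11233
def N14397 : Q := sm gb N11234
def N14398 : Q := sm gg N11234
def N14399 : Q := sm gb N11235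
def N14400 : Q := sm gf N11235
def N14401 : Q := sm ga N11236
def N14402 : Q := sm gc N11236
def N14403 : Q := sm gg N11236
def N14404 : Q := sm gb N11237
def N14405 : Q := sm ga N11238
def N14406 : Q := sm gc N11238
def N14407 : Q := sm gf N11238
def N14408 : Q := sm gb N11239
def N14409 : Q := sm gb N11240
def N14410 : Q := sm gb N11241
def N14411 : Q := sm ga N11242
def N14412 : Q := sm gc N11242
def N14413 : Q := sm gf N11242
def N14414 : Q := sm gb N11243
def N14415 : Q := sm gb N11244
def N14416 : Q := sm ga N11245
def N14417 : Q := sm gc N11245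
def N14418 : Q := sm gg N11245
def N14419 : Q := sm ga N11246
def N14420 : Q := sm gc N11246
def N14421 : Q := sm gg N11246
def N14422 : Q := sm ga N11247
def N14423 : Q := sm gc N11247
def N14424 : Q := sm gf N11247
def N14425 : Q := sm gb N11248
def N14426 : Q := sm gc N11248
def N14427 : Q := sm gg N11248
def N14428 : Q := sm gd N11249
def N14429 : Q := sm gg N11249
def N14430 : Q := sm gf N11250
def N14431 : Q := sm gb N11251
def N14432 : Q := sm gc N11251
def N14433 : Q := sm gf N11251
def N14434 : Q := sm gd N11252
def N14435 : Q := sm gf N11252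
def N14436 : Q := sm gg N11253
def N14437 : Q := sm ga N11254
def N14438 : Q := sm gc N11254
def N14439 : Q := sm gf N11254
def N14440 : Q := sm gg N11254
def N14441 : Q := sm gb N11255
def N14442 : Q := sm gb N11256
def N14443 : Q := sm ga N11257
def N14444 : Q := sm gc N11257
def N14445 : Q := sm gf N11257
def N14446 : Q := sm gg N11257
def N14447 : Q := sm gb N11258
def N14448 : Q := sm gb N11259
def N14449 : Q := sm ga N11260
def N14450 : Q := sm gc N11260
def N14451 : Q := sm gg N11260
def N14452 : Q := sm ga N11261
def N14453 : Q := sm gc N11261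
def N14454 : Q := sm gf N11261
def N14455 : Q := sm gb N11262
def N14456 : Q := sm gc N11262
def N14457 : Q := sm gd N11263
def N14458 : Q := sm gg N11263
def N14459 : Q := sm gb N11264
def N14460 : Q := sm ga N11265
def N14461 : Q := sm gc N11265
def N14462 : Q := sm gf N11265
def N14463 : Q := sm gb N11266
def N14464 : Q := sm gc N11266
def N14465 : Q := sm gd N11267
def N14466 : Q := sm gf N11267
def N14467 : Q := sm gb N11268
def N14468 : Q := sm ga N11269
def N14469 : Q := sm gc N11269
def N14470 : Q := sm gg N11269
def N14471 : Q := sm gg N11270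
def N14472 : Q := sm gb N11271
def N14473 : Q := sm ga N11272
def N14474 : Q := sm gc N11272
def N14475 : Q := sm gf N11272
def N14476 : Q := sm gb N11273
def N14477 : Q := sm gb N11274
def N14478 : Q := sm gg N11274
def N14479 : Q := sm gd N11275
def N14480 : Q := sm gg N11275
def N14481 : Q := sm gb N11276
def N14482 : Q := sm gf N11276
def N14483 : Q := sm ga N11277
def N14484 : Q := sm gc N11277
def N14485 : Q := sm gf N11277
def N14486 : Q := sm gb N11278
def N14487 : Q := sm gc N11278
def N14488 : Q := sm gf N11278
def N14489 : Q := sm gd N11279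
def N14490 : Q := sm gf N11279
def N14491 : Q := sm gb N11280
def N14492 : Q := sm gg N11280
def N14493 : Q := sm ga N11281
def N14494 : Q := sm gc N11281
def N14495 : Q := sm gg N11281
def N14496 : Q := sm ga N11282
def N14497 : Q := sm gc N11282
def N14498 : Q := sm gf N11282
def N14499 : Q := sm gg N11282
def N14500 : Q := sm gb N11283
def N14501 : Q := sm gd N11283
def N14502 : Q := sm gg N11283
def N14503 : Q := sm gb N11284
def N14504 : Q := sm gc N11285
def N14505 : Q := sm ge N11285
def N14506 : Q := sm gg N11285
def N14507 : Q := sm gf N11286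
def N14508 : Q := sm ga N11287
def N14509 : Q := sm gc N11287
def N14510 : Q := sm gf N11287
def N14511 : Q := sm gb N11288
def N14512 : Q := sm gb N11289
def N14513 : Q := sm gc N11289
def N14514 : Q := sm gf N11289
def N14515 : Q := sm gd N11290
def N14516 : Q := sm gf N11290
def N14517 : Q := sm gg N11291
def N14518 : Q := sm ga N11292
def N14519 : Q := sm gc N11292
def N14520 : Q := sm gf N11292
def N14521 : Q := sm gg N11292
def N14522 : Q := sm gb N11293
def N14523 : Q := sm gd N11293
def N14524 : Q := sm gf N11293
def N14525 : Q := sm gb N11294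
def N14526 : Q := sm gc N11295
def N14527 : Q := sm ge N11295
def N14528 : Q := sm gf N11295
def N14529 : Q := sm gg N11296
def N14530 : Q := sm ga N11297
def N14531 : Q := sm gc N11297
def N14532 : Q := sm gg N11297
def N14533 : Q := sm gb N11298
def N14534 : Q := sm gb N11299
def N14535 : Q := sm gc N11299
def N14536 : Q := sm gg N11299
def N14537 : Q := sm gd N11300
def N14538 : Q := sm gg N11300
def N14539 : Q := sm gf N11301
def N14540 : Q := sm gb N11303
def N14541 : Q := sm gd N11303
def N14542 : Q := sm gc N11304
def N14543 : Q := sm ge N11304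
def N14544 : Q := sm gb N11306
def N14545 : Q := sm gd N11306
def N14546 : Q := sm gc N11307
def N14547 : Q := sm ge N11307
def N14548 : Q := sm gc N11308
def N14549 : Q := sm ge N11308
def N14550 : Q := sm gb N11309
def N14551 : Q := sm gd N11309
def N14552 : Q := sm ge N11309
def N14553 : Q := sm gc N11311
def N14554 : Q := sm ge N11311
def N14555 : Q := sm gb N11312
def N14556 : Q := sm gd N11312
def N14557 : Q := sm ge N11312
def N14558 : Q := sm ge N11315
def N14562 : Q := sm ge N11318
def N14564 : Q := sm gg N11318
def N14566 : Q := sm ga N11320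
def N14567 : Q := sm gc N11320
def N14568 : Q := sm gg N11320
def N14569 : Q := sm ga N11321
def N14570 : Q := sm gc N11321
def N14571 : Q := sm gf N11321
def N14572 : Q := sm gb N11322
def N14573 : Q := sm gg N11322
def N14574 : Q := sm gb N11325
def N14575 : Q := sm gc N11325
def N14576 : Q := sm gf N11325
def N14577 : Q := sm gd N11326
def N14578 : Q := sm gf N11326
def N14579 : Q := sm gg N11327
def N14580 : Q := sm gb N11328
def N14581 : Q := sm gc N11328
def N14582 : Q := sm gd N11329
def N14583 : Q := sm gg N11329
def N14584 : Q := sm gb N11330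
def N14585 : Q := sm ga N11331
def N14586 : Q := sm gc N11331
def N14587 : Q := sm gf N11331
def N14588 : Q := sm gb N11332
def N14589 : Q := sm gc N11332
def N14590 : Q := sm gd N11333
def N14591 : Q := sm gf N11333
def N14592 : Q := sm gb N11334
def N14593 : Q := sm ga N11335
def N14594 : Q := sm gc N11335
def N14595 : Q := sm gg N11335
def N14596 : Q := sm ga N11336
def N14597 : Q := sm gc N11336
def N14598 : Q := sm gf N11336
def N14599 : Q := sm gg N11336
def N14600 : Q := sm gb N11337
def N14601 : Q := sm gd N11337
def N14602 : Q := sm gc N11338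
def N14603 : Q := sm ge N11338
def N14604 : Q := sm gg N11338
def N14605 : Q := sm gb N11339
def N14606 : Q := sm ga N11340
def N14607 : Q := sm gc N11340
def N14608 : Q := sm gf N11340
def N14609 : Q := sm gb N11341
def N14610 : Q := sm gc N11341
def N14611 : Q := sm gf N11341
def N14612 : Q := sm gd N11342
def N14613 : Q := sm gf N11342
def N14614 : Q := sm gg N11343
def N14615 : Q := sm ga N11344
def N14616 : Q := sm gc N11344
def N14617 : Q := sm gf N11344
def N14618 : Q := sm gg N11344
def N14619 : Q := sm gb N11345
def N14620 : Q := sm gd N11345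
def N14621 : Q := sm gc N11346
def N14622 : Q := sm ge N11346
def N14623 : Q := sm gf N11346
def N14624 : Q := sm gb N11347
def N14625 : Q := sm ga N11348
def N14626 : Q := sm gc N11348
def N14627 : Q := sm gg N11348
def N14628 : Q := sm gb N11349
def N14629 : Q := sm gc N11349
def N14630 : Q := sm gg N11349
def N14631 : Q := sm gd N11350
def N14632 : Q := sm gg N11350
def N14633 : Q := sm gf N11351
def N14634 : Q := sm ga N11352
def N14635 : Q := sm gc N11352
def N14636 : Q := sm gg N11352
def N14637 : Q := sm ga N11353
def N14638 : Q := sm gc N11353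
def N14639 : Q := sm gf N11353
def N14640 : Q := sm gb N11354
def N14641 : Q := sm gc N11354
def N14642 : Q := sm gg N11354
def N14643 : Q := sm gd N11355
def N14644 : Q := sm gg N11355
def N14645 : Q := sm gf N11356
def N14646 : Q := sm gb N11357
def N14647 : Q := sm gc N11357
def N14648 : Q := sm gf N11357
def N14649 : Q := sm gd N11358
def N14650 : Q := sm gf N11358
def N14651 : Q := sm gg N11359
def N14652 : Q := sm gb N11360
def N14653 : Q := sm gc N11360
def N14654 : Q := sm gg N11360
def N14655 : Q := sm gd N11361
def N14656 : Q := sm gg N11361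
def N14657 : Q := sm gb N11362
def N14658 : Q := sm gf N11362
def N14659 : Q := sm ga N11363
def N14660 : Q := sm gc N11363
def N14661 : Q := sm gf N11363
def N14662 : Q := sm gb N11364
def N14663 : Q := sm gc N11364
def N14664 : Q := sm gf N11364
def N14665 : Q := sm gd N11365
def N14666 : Q := sm gf N11365
def N14667 : Q := sm gb N11366
def N14668 : Q := sm gg N11366
def N14669 : Q := sm ga N11367
def N14670 : Q := sm gc N11367
def N14671 : Q := sm gg N11367
def N14672 : Q := sm ga N11368
def N14673 : Q := sm gc N11368
def N14674 : Q := sm gf N11368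
def N14675 : Q := sm gg N11368
def N14676 : Q := sm gb N11369
def N14677 : Q := sm gd N11369
def N14678 : Q := sm gg N11369
def N14679 : Q := sm gb N11370
def N14680 : Q := sm gc N11371
def N14681 : Q := sm ge N11371
def N14682 : Q := sm gg N11371
def N14683 : Q := sm gb N11372
def N14684 : Q := sm gf N11372
def N14685 : Q := sm ga N11373
def N14686 : Q := sm gc N11373
def N14687 : Q := sm gf N11373
def N14688 : Q := sm gb N11374
def N14689 : Q := sm gb N11375
def N14690 : Q := sm gc N11375
def N14691 : Q := sm gf N11375
def N14692 : Q := sm gd N11376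
def N14693 : Q := sm gf N11376
def N14694 : Q := sm gg N11377
def N14695 : Q := sm ga N11378
def N14696 : Q := sm gc N11378
def N14697 : Q := sm gf N11378
def N14698 : Q := sm gg N11378
def N14699 : Q := sm gb N11379
def N14700 : Q := sm gd N11379
def N14701 : Q := sm gf N11379
def N14702 : Q := sm gb N11380
def N14703 : Q := sm gc N11381
def N14704 : Q := sm ge N11381
def N14705 : Q := sm gf N11381
def N14706 : Q := sm gb N11382
def N14707 : Q := sm gg N11382
def N14708 : Q := sm ga N11383
def N14709 : Q := sm gc N11383
def N14710 : Q := sm gg N11383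
def N14711 : Q := sm gb N11384
def N14712 : Q := sm gb N11385
def N14713 : Q := sm gc N11385
def N14714 : Q := sm gg N11385
def N14715 : Q := sm gd N11386
def N14716 : Q := sm gg N11386
def N14717 : Q := sm gf N11387
def N14718 : Q := sm gc N11388
def N14719 : Q := sm gf N11388
def N14720 : Q := sm gg N11388
def N14721 : Q := sm gb N11389
def N14722 : Q := sm gd N11389
def N14723 : Q := sm gf N11389
def N14724 : Q := sm gg N11389
def N14725 : Q := sm gg N11390
def N14726 : Q := sm gb N11391
def N14727 : Q := sm gf N11391
def N14728 : Q := sm ga N11392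
def N14729 : Q := sm gd N11392
def N14730 : Q := sm gf N11392
def N14731 : Q := sm gg N11392
def N14732 : Q := sm gc N11393
def N14733 : Q := sm ge N11393
def N14734 : Q := sm gg N11393
def N14735 : Q := sm gb N11394
def N14736 : Q := sm ga N11395
def N14737 : Q := sm gc N11395
def N14738 : Q := sm gf N11395
def N14739 : Q := sm gb N11396
def N14740 : Q := sm gd N11396
def N14741 : Q := sm ge N11396
def N14742 : Q := sm gg N11396
def N14743 : Q := sm gg N11397
def N14744 : Q := sm gf N11398
def N14745 : Q := sm gb N11399
def N14746 : Q := sm gb N11400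
def N14747 : Q := sm gc N11400
def N14748 : Q := sm gd N11401
def N14749 : Q := sm gf N11401
def N14750 : Q := sm gb N11402
def N14751 : Q := sm ga N11403
def N14752 : Q := sm gc N11403
def N14753 : Q := sm gg N11403
def N14754 : Q := sm ga N11404
def N14755 : Q := sm gc N11404
def N14756 : Q := sm gf N11404
def N14757 : Q := sm gg N11404
def N14758 : Q := sm gb N11405
def N14759 : Q := sm gd N11405
def N14760 : Q := sm gf N11405
def N14761 : Q := sm gb N11406
def N14762 : Q := sm gc N11407
def N14763 : Q := sm ge N11407
def N14764 : Q := sm gf N11407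
def N14765 : Q := sm gg N11408
def N14766 : Q := sm gb N11409
def N14767 : Q := sm gc N11410
def N14768 : Q := sm gf N11410
def N14769 : Q := sm gg N11410
def N14770 : Q := sm gb N11411
def N14771 : Q := sm gd N11411
def N14772 : Q := sm gf N11411
def N14773 : Q := sm gg N11411
def N14774 : Q := sm gb N11412
def N14775 : Q := sm gg N11412
def N14776 : Q := sm gf N11413
def N14777 : Q := sm ga N11414
def N14778 : Q := sm gd N11414
def N14779 : Q := sm gf N11414
def N14780 : Q := sm gg N11414
def N14781 : Q := sm gc N11415
def N14782 : Q := sm ge N11415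
def N14783 : Q := sm gf N11415
def N14784 : Q := sm gb N11416
def N14785 : Q := sm ga N11417
def N14786 : Q := sm gc N11417
def N14787 : Q := sm gg N11417
def N14788 : Q := sm gb N11418
def N14789 : Q := sm gd N11418
def N14790 : Q := sm ge N11418
def N14791 : Q := sm gf N11418
def N14792 : Q := sm gf N11419
def N14793 : Q := sm gg N11420
def N14794 : Q := sm gb N11421
def N14795 : Q := sm gb N11422
def N14796 : Q := sm gc N11422
def N14797 : Q := sm gd N11423
def N14798 : Q := sm gg N11423
def N14799 : Q := sm gb N11424
def N14800 : Q := sm ga N11425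
def N14801 : Q := sm gc N11425
def N14802 : Q := sm gf N11425
def N14803 : Q := sm ga N11426
def N14804 : Q := sm gc N11426
def N14805 : Q := sm gf N11426
def N14806 : Q := sm gg N11426
def N14807 : Q := sm gb N11427
def N14808 : Q := sm gd N11427
def N14809 : Q := sm gg N11427
def N14810 : Q := sm gb N11428
def N14811 : Q := sm gc N11429
def N14812 : Q := sm ge N11429
def N14813 : Q := sm gg N11429
def N14814 : Q := sm gf N11430
def N14815 : Q := sm gb N11431
def N14816 : Q := sm ga N11432
def N14817 : Q := sm ge N11432
def N14818 : Q := sm gf N11432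
def N14819 : Q := sm gg N11432
def N14820 : Q := sm gd N11433
def N14821 : Q := sm ga N11434
def N14822 : Q := sm gd N11434
def N14823 : Q := sm gf N11434
def N14824 : Q := sm gg N11434
def N14825 : Q := sm ge N11435
def N14826 : Q := sm gb N11436
def N14827 : Q := sm ge N11436
def N14828 : Q := sm ga N11438
def N14829 : Q := sm ge N11438
def N14830 : Q := sm gf N11438
def N14831 : Q := sm gg N11438
def N14832 : Q := sm gd N11439
def N14833 : Q := sm ga N11440
def N14834 : Q := sm gd N11440
def N14835 : Q := sm gf N11440
def N14836 : Q := sm gg N11440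
def N14837 : Q := sm ge N11441
def N14838 : Q := sm gb N11442
def N14839 : Q := sm ge N11442
def N14840 : Q := sm gb N11444
def N14841 : Q := sm gd N11444
def N14842 : Q := sm ge N11444
def N14843 : Q := sm gf N11444
def N14844 : Q := sm gg N11444
def N14845 : Q := sm gc N11445
def N14846 : Q := sm ge N11445
def N14847 : Q := sm gf N11445
def N14848 : Q := sm gg N11445
def N14849 : Q := sm gd N11446
def N14850 : Q := sm gf N11446
def N14851 : Q := sm gg N11446
def N14852 : Q := sm gg N11447
def N14853 : Q := sm gf N11448
def N14854 : Q := sm gd N11449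
def N14857 : Q := sm gf N11451
def N14858 : Q := sm gb N11453
def N14860 : Q := sm ga N11455
def N14861 : Q := sm gd N11455
def N14862 : Q := sm ge N11455
def N14863 : Q := sm gf N11455
def N14864 : Q := sm gg N11455
def N14865 : Q := sm ge N11456
def N14867 : Q := sm gb N11458
def N14868 : Q := sm gd N11458
def N14869 : Q := sm ge N11458
def N14870 : Q := sm gf N11458
def N14871 : Q := sm gg N11458
def N14872 : Q := sm gc N11459
def N14873 : Q := sm ge N11459
def N14874 : Q := sm gf N11459
def N14875 : Q := sm gg N11459
def N14876 : Q := sm gd N11460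
def N14877 : Q := sm gf N11460
def N14878 : Q := sm gg N11460
def N14879 : Q := sm gg N11461
def N14880 : Q := sm gf N11462
def N14881 : Q := sm gd N11463
def N14884 : Q := sm gg N11465
def N14885 : Q := sm gb N11467
def N14887 : Q := sm ga N11469
def N14888 : Q := sm gd N11469
def N14889 : Q := sm ge N11469
def N14890 : Q := sm gf N11469
def N14891 : Q := sm gg N11469
def N14892 : Q := sm ge N11470
def N14894 : Q := sm ge N11473
def N14895 : Q := sm gf N11473
def N14899 : Q := sm gd N11476
def N14902 : Q := sm gf N11478
def N14906 : Q := sm gg N11482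
def N14908 : Q := sm ge N11484
def N14909 : Q := sm gg N11484
def N14911 : Q := sm gf N11485
def N14914 : Q := sm gd N11488
def N14916 : Q := sm gb N11490
def N14917 : Q := sm gb N11491
def N14918 : Q := sm gb N11492
def N14919 : Q := sm gg N11492
def N14920 : Q := sm gb N11493
def N14921 : Q := sm gf N11493
def N14922 : Q := sm gg N11494
def N14923 : Q := sm gb N11495
def N14924 : Q := sm ga N11496
def N14925 : Q := sm gc N11496
def N14926 : Q := sm gf N11496
def N14927 : Q := sm gb N11497
def N14928 : Q := sm ga N11498
def N14929 : Q := sm gf N11498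
def N14930 : Q := sm gg N11498
def N14931 : Q := sm gb N11499
def N14932 : Q := sm gb N11500
def N14933 : Q := sm ga N11501
def N14934 : Q := sm gc N11501
def N14935 : Q := sm gg N11501
def N14936 : Q := sm ga N11502
def N14937 : Q := sm gc N11502
def N14938 : Q := sm gf N11502
def N14939 : Q := sm gb N11503
def N14940 : Q := sm gg N11503
def N14941 : Q := sm gd N11504
def N14942 : Q := sm gg N11504
def N14943 : Q := sm gb N11506
def N14944 : Q := sm gc N11506
def N14945 : Q := sm gf N11506
def N14946 : Q := sm gd N11507
def N14947 : Q := sm gf N11507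
def N14948 : Q := sm gg N11508
def N14949 : Q := sm gc N11509
def N14950 : Q := sm gg N11509
def N14951 : Q := sm gb N11510
def N14952 : Q := sm ga N11511
def N14953 : Q := sm gc N11511
def N14954 : Q := sm gf N11511
def N14955 : Q := sm gb N11512
def N14956 : Q := sm gb N11513
def N14957 : Q := sm gc N11513
def N14958 : Q := sm gd N11514
def N14959 : Q := sm gg N11514
def N14960 : Q := sm gb N11515
def N14961 : Q := sm ga N11516
def N14962 : Q := sm gc N11516
def N14963 : Q := sm gf N11516
def N14964 : Q := sm gb N11517
def N14965 : Q := sm gc N11517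
def N14966 : Q := sm gd N11518
def N14967 : Q := sm gf N11518
def N14968 : Q := sm gb N11519
def N14969 : Q := sm ga N11520
def N14970 : Q := sm gc N11520
def N14971 : Q := sm gg N11520
def N14972 : Q := sm ga N11521
def N14973 : Q := sm gc N11521
def N14974 : Q := sm gf N11521
def N14975 : Q := sm gg N11521
def N14976 : Q := sm gb N11522
def N14977 : Q := sm gd N11522
def N14978 : Q := sm gc N11523
def N14979 : Q := sm ge N11523
def N14980 : Q := sm gg N11523
def N14981 : Q := sm gb N11524
def N14982 : Q := sm ga N11525
def N14983 : Q := sm gc N11525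
def N14984 : Q := sm gf N11525
def N14985 : Q := sm gb N11526
def N14986 : Q := sm gc N11526
def N14987 : Q := sm gf N11526
def N14988 : Q := sm gd N11527
def N14989 : Q := sm gf N11527
def N14990 : Q := sm gg N11528
def N14991 : Q := sm ga N11529
def N14992 : Q := sm gc N11529
def N14993 : Q := sm gf N11529
def N14994 : Q := sm gg N11529
def N14995 : Q := sm gb N11530
def N14996 : Q := sm gd N11530
def N14997 : Q := sm gc N11531
def N14998 : Q := sm ge N11531
def N14999 : Q := sm gf N11531
def N15000 : Q := sm gb N11532
def N15001 : Q := sm ga N11533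
def N15002 : Q := sm gc N11533
def N15003 : Q := sm gg N11533
def N15004 : Q := sm gb N11534
def N15005 : Q := sm gc N11534
def N15006 : Q := sm gg N11534
def N15007 : Q := sm gd N11535
def N15008 : Q := sm gg N11535
def N15009 : Q := sm gf N11536
def N15010 : Q := sm gf N11537
def N15011 : Q := sm gg N11537
def N15012 : Q := sm gb N11538
def N15013 : Q := sm gd N11538
def N15014 : Q := sm gg N11538
def N15015 : Q := sm gb N11539
def N15016 : Q := sm gc N11540
def N15017 : Q := sm ge N11540
def N15018 : Q := sm gg N11540
def N15019 : Q := sm gb N11541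
def N15020 : Q := sm gf N11541
def N15021 : Q := sm gb N11542
def N15022 : Q := sm gf N11543
def N15023 : Q := sm gg N11543
def N15024 : Q := sm gb N11544
def N15025 : Q := sm gd N11544
def N15026 : Q := sm gf N11544
def N15027 : Q := sm gb N11545
def N15028 : Q := sm gc N11546
def N15029 : Q := sm ge N11546
def N15030 : Q := sm gf N11546
def N15031 : Q := sm gb N11547
def N15032 : Q := sm gg N11547
def N15033 : Q := sm gb N11548
def N15034 : Q := sm gf N11549
def N15035 : Q := sm gg N11549
def N15036 : Q := sm gg N11550
def N15037 : Q := sm gb N11551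
def N15038 : Q := sm gf N11551
def N15039 : Q := sm gd N11552
def N15040 : Q := sm gf N11552
def N15041 : Q := sm gg N11552
def N15042 : Q := sm gc N11553
def N15043 : Q := sm ge N11553
def N15044 : Q := sm gg N11553
def N15045 : Q := sm gb N11554
def N15046 : Q := sm ga N11555
def N15047 : Q := sm gc N11555
def N15048 : Q := sm gf N11555
def N15049 : Q := sm gd N11556
def N15050 : Q := sm ge N11556
def N15051 : Q := sm gg N11556
def N15052 : Q := sm gg N11557
def N15053 : Q := sm gb N11558
def N15054 : Q := sm gf N11558
def N15055 : Q := sm ga N11559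
def N15056 : Q := sm gf N11559
def N15057 : Q := sm gb N11560
def N15058 : Q := sm ga N11561
def N15059 : Q := sm gc N11561
def N15060 : Q := sm gg N11561
def N15061 : Q := sm gf N11562
def N15062 : Q := sm gg N11562
def N15063 : Q := sm gb N11564
def N15064 : Q := sm gg N11564
def N15065 : Q := sm gf N11565
def N15066 : Q := sm gd N11566
def N15067 : Q := sm gf N11566
def N15068 : Q := sm gg N11566
def N15069 : Q := sm gc N11567
def N15070 : Q := sm ge N11567
def N15071 : Q := sm gf N11567
def N15072 : Q := sm gb N11568
def N15073 : Q := sm ga N11569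
def N15074 : Q := sm gc N11569
def N15075 : Q := sm gg N11569
def N15076 : Q := sm gd N11570
def N15077 : Q := sm ge N11570
def N15078 : Q := sm gf N11570
def N15079 : Q := sm gf N11571
def N15080 : Q := sm gb N11572
def N15081 : Q := sm gg N11572
def N15082 : Q := sm ga N11573
def N15083 : Q := sm gg N11573
def N15084 : Q := sm gb N11574
def N15085 : Q := sm ga N11575
def N15086 : Q := sm gc N11575
def N15087 : Q := sm gf N11575
def N15088 : Q := sm gb N11576
def N15089 : Q := sm gd N11576
def N15090 : Q := sm gf N11576
def N15091 : Q := sm gg N11576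
def N15092 : Q := sm gc N11577
def N15093 : Q := sm ge N11577
def N15094 : Q := sm gf N11577
def N15095 : Q := sm gg N11577
def N15096 : Q := sm gg N11578
def N15097 : Q := sm gb N11579
def N15098 : Q := sm gf N11579
def N15099 : Q := sm ga N11581
def N15100 : Q := sm gf N11581
def N15101 : Q := sm gb N11582
def N15102 : Q := sm ga N11583
def N15103 : Q := sm gc N11583
def N15104 : Q := sm gf N11583
def N15105 : Q := sm gb N11584
def N15106 : Q := sm gf N11584
def N15107 : Q := sm gg N11585
def N15108 : Q := sm gb N11586
def N15109 : Q := sm gd N11586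
def N15110 : Q := sm gf N11586
def N15111 : Q := sm gg N11586
def N15112 : Q := sm gc N11587
def N15113 : Q := sm ge N11587
def N15114 : Q := sm gf N11587
def N15115 : Q := sm gg N11587
def N15116 : Q := sm gb N11588
def N15117 : Q := sm gg N11588
def N15118 : Q := sm gf N11589
def N15119 : Q := sm ga N11591
def N15120 : Q := sm gg N11591
def N15121 : Q := sm gb N11592
def N15122 : Q := sm ga N11593
def N15123 : Q := sm gc N11593
def N15124 : Q := sm gg N11593
def N15125 : Q := sm gb N11594
def N15126 : Q := sm gg N11594
def N15127 : Q := sm gf N11595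
def N15128 : Q := sm gb N11596
def N15129 : Q := sm gd N11596
def N15130 : Q := sm gf N11596
def N15131 : Q := sm gg N11596
def N15132 : Q := sm gc N11597
def N15133 : Q := sm ge N11597
def N15134 : Q := sm gf N11597
def N15135 : Q := sm gg N11597
def N15136 : Q := sm gg N11598
def N15137 : Q := sm gf N11599
def N15138 : Q := sm gb N11601
def N15139 : Q := sm gd N11601
def N15140 : Q := sm gf N11601
def N15141 : Q := sm gg N11601
def N15142 : Q := sm gc N11602
def N15143 : Q := sm ge N11602
def N15144 : Q := sm gf N11602
def N15145 : Q := sm gg N11602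
def N15146 : Q := sm gg N11603
def N15147 : Q := sm gf N11604
def N15148 : Q := sm gc N11606
def N15149 : Q := sm gg N11606
def N15150 : Q := sm gc N11607
def N15151 : Q := sm gf N11607
def N15152 : Q := sm ga N11608
def N15153 : Q := sm gg N11608
def N15154 : Q := sm gb N11609
def N15155 : Q := sm ga N11610
def N15156 : Q := sm gc N11610
def N15157 : Q := sm gf N11610
def N15158 : Q := sm gb N11611
def N15159 : Q := sm gb N11612
def N15160 : Q := sm gc N11613
def N15161 : Q := sm gc N11614
def N15163 : Q := sm gf N11615
def N15164 : Q := sm gb N11616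
def N15165 : Q := sm gc N11617
def N15166 : Q := sm gg N11618
def N15167 : Q := sm gc N11621
def N15168 : Q := sm gf N11621
def N15170 : Q := sm gd N11622
def N15171 : Q := sm gf N11622
def N15172 : Q := sm gc N11624
def N15174 : Q := sm gf N11624
def N15175 : Q := sm gb N11625
def N15176 : Q := sm gg N11625
def N15177 : Q := sm gc N11627
def N15178 : Q := sm gb N11628
def N15179 : Q := sm gd N11628
def N15180 : Q := sm gf N11628
def N15181 : Q := sm gg N11628
def N15182 : Q := sm gg N11629
def N15183 : Q := sm gf N11630
def N15184 : Q := sm ga N11631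
def N15185 : Q := sm gd N11631
def N15186 : Q := sm gf N11631
def N15187 : Q := sm gg N11631
def N15188 : Q := sm ge N11632
def N15189 : Q := sm gb N11633
def N15190 : Q := sm ge N11633
def N15191 : Q := sm gg N11633
def N15192 : Q := sm gg N11634
def N15193 : Q := sm gb N11635
def N15194 : Q := sm ga N11636
def N15195 : Q := sm gc N11636
def N15196 : Q := sm gf N11636
def N15197 : Q := sm gb N11637
def N15198 : Q := sm gc N11637
def N15199 : Q := sm gd N11638
def N15200 : Q := sm gf N11638
def N15201 : Q := sm gc N11640
def N15202 : Q := sm gb N11641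
def N15203 : Q := sm gd N11641
def N15204 : Q := sm gf N11641
def N15205 : Q := sm gc N11643
def N15206 : Q := sm ge N11643
def N15207 : Q := sm gf N11643
def N15208 : Q := sm gb N11644
def N15209 : Q := sm gg N11644
def N15210 : Q := sm gc N11646
def N15211 : Q := sm gb N11647
def N15212 : Q := sm gd N11647
def N15213 : Q := sm gf N11647
def N15214 : Q := sm gg N11647
def N15215 : Q := sm gg N11648
def N15216 : Q := sm gf N11649
def N15217 : Q := sm ga N11650
def N15218 : Q := sm gd N11650
def N15219 : Q := sm gf N11650
def N15220 : Q := sm gg N11650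
def N15221 : Q := sm ge N11651
def N15222 : Q := sm gb N11652
def N15223 : Q := sm ge N11652
def N15224 : Q := sm gf N11652
def N15225 : Q := sm gf N11653
def N15226 : Q := sm gb N11654
def N15227 : Q := sm ga N11655
def N15228 : Q := sm gc N11655
def N15229 : Q := sm gg N11655
def N15230 : Q := sm gb N11656
def N15231 : Q := sm gc N11656
def N15232 : Q := sm gd N11657
def N15233 : Q := sm gg N11657
def N15234 : Q := sm gc N11659
def N15235 : Q := sm gb N11660
def N15236 : Q := sm gd N11660
def N15237 : Q := sm gg N11660
def N15238 : Q := sm gc N11662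
def N15239 : Q := sm ge N11662
def N15240 : Q := sm gg N11662
def N15241 : Q := sm gf N11663
def N15242 : Q := sm gb N11666
def N15243 : Q := sm gc N11668
def N15244 : Q := sm gb N11669
def N15245 : Q := sm ge N11670
def N15246 : Q := sm gf N11670
def N15247 : Q := sm gg N11670
def N15248 : Q := sm gb N11672
def N15249 : Q := sm gg N11673
def N15250 : Q := sm gb N11674
def N15251 : Q := sm ga N11675
def N15252 : Q := sm gc N11675
def N15253 : Q := sm gf N11675
def N15254 : Q := sm gb N11676
def N15255 : Q := sm gc N11676
def N15256 : Q := sm gf N11676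
def N15257 : Q := sm gd N11677
def N15258 : Q := sm gf N11677
def N15259 : Q := sm ga N11679
def N15260 : Q := sm ge N11679
def N15261 : Q := sm gf N11679
def N15262 : Q := sm gg N11679
def N15263 : Q := sm gd N11680
def N15264 : Q := sm gg N11680
def N15265 : Q := sm gb N11681
def N15266 : Q := sm gf N11681
def N15267 : Q := sm gb N11682
def N15268 : Q := sm gf N11682
def N15269 : Q := sm ga N11683
def N15270 : Q := sm gc N11683
def N15271 : Q := sm gf N11683
def N15272 : Q := sm gb N11684
def N15273 : Q := sm gb N11685
def N15274 : Q := sm gb N11686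
def N15275 : Q := sm ga N11687
def N15276 : Q := sm gc N11687
def N15277 : Q := sm gg N11687
def N15278 : Q := sm gc N11688
def N15279 : Q := sm gd N11689
def N15280 : Q := sm gg N11689
def N15281 : Q := sm gf N11690
def N15282 : Q := sm gb N11692
def N15283 : Q := sm gc N11698
def N15284 : Q := sm ge N11702
def N15285 : Q := sm gf N11702
def N15286 : Q := sm gg N11702
def N15287 : Q := sm gb N11703
def N15288 : Q := sm gf N11705
def N15289 : Q := sm gb N11706
def N15290 : Q := sm ga N11707
def N15291 : Q := sm gc N11707
def N15292 : Q := sm gg N11707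
def N15293 : Q := sm gb N11708
def N15294 : Q := sm gc N11708
def N15295 : Q := sm gd N11709
def N15296 : Q := sm gg N11709
def N15297 : Q := sm ga N11711
def N15298 : Q := sm ge N11711
def N15299 : Q := sm gf N11711
def N15300 : Q := sm gg N11711
def N15301 : Q := sm gd N11712
def N15302 : Q := sm gf N11712
def N15303 : Q := sm gb N11713
def N15304 : Q := sm gg N11713
def N15305 : Q := sm gb N11714
def N15306 : Q := sm gg N11714
def N15307 : Q := sm ga N11715
def N15308 : Q := sm gc N11715
def N15309 : Q := sm gg N11715
def N15310 : Q := sm gb N11716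
def N15311 : Q := sm gb N11717
def N15312 : Q := sm gb N11718
def N15313 : Q := sm ga N11719
def N15314 : Q := sm gc N11719
def N15315 : Q := sm gf N11719
def N15316 : Q := sm gc N11720
def N15317 : Q := sm gd N11721
def N15318 : Q := sm gf N11721
def N15319 : Q := sm gg N11722
def N15320 : Q := sm gd N11723
def N15321 : Q := sm gf N11723
def N15322 : Q := sm gg N11723
def N15323 : Q := sm gc N11724
def N15324 : Q := sm ge N11724
def N15325 : Q := sm gf N11724
def N15326 : Q := sm gg N11724
def N15327 : Q := sm gb N11725
def N15328 : Q := sm gb N11726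
def N15329 : Q := sm ge N11727
def N15330 : Q := sm gf N11727
def N15331 : Q := sm gg N11727
def N15332 : Q := sm gf N11728
def N15333 : Q := sm gg N11728
def N15334 : Q := sm gg N11729
def N15335 : Q := sm gb N11730
def N15336 : Q := sm gf N11730
def N15337 : Q := sm gb N11731
def N15338 : Q := sm ga N11732
def N15339 : Q := sm gf N11732
def N15340 : Q := sm gb N11733
def N15341 : Q := sm gb N11734
def N15342 : Q := sm ga N11735
def N15343 : Q := sm gc N11735
def N15344 : Q := sm gf N11735
def N15345 : Q := sm gb N11736
def N15346 : Q := sm gf N11736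
def N15347 : Q := sm gg N11737
def N15348 : Q := sm gb N11738
def N15349 : Q := sm ge N11738
def N15350 : Q := sm gf N11738
def N15351 : Q := sm gg N11738
def N15352 : Q := sm gd N11739
def N15353 : Q := sm gf N11739
def N15354 : Q := sm gg N11739
def N15355 : Q := sm gg N11740
def N15356 : Q := sm gb N11741
def N15357 : Q := sm gf N11741
def N15358 : Q := sm gg N11742
def N15359 : Q := sm gb N11743
def N15360 : Q := sm ga N11744
def N15361 : Q := sm gc N11744
def N15362 : Q := sm gf N11744
def N15363 : Q := sm ga N11745
def N15364 : Q := sm gc N11745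

end Cfsg.Agent.Helper28.SzbA
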