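import Cfsg.Agent.Helper28.SzbB9

/-! # The Suzuki group presentation, cosets of the subgroup generated by a, b, c, d, f, g: the coset enumeration, part 10 (helper28; generated) -/

set_option autoImplicit false

noncomputable section

namespace Cfsg.Agent.Helper28.SzbA

open Cfsg.Agent.Helper28.CosetTable

theorem L94353 : sm gc N9757 = N11857 := rfl
theorem L94355 : sm ga N11857 = N11464 := ded_8_1 (flp_c L94233) L94229 L94353
theorem L94357 : sm gg N11857 = N11835 := ded_21_2 L94233 L92257 L94353
theorem L94359 : sm gd N11857 = N10337 := ded_28_7 L86122 L44585 L21414 L82587 (flp_d L10978) (flp_c L22834) L47408 L94353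
theorem L94361 : sm gf N10355 = N11857 := ded_23_0 L94359 L86126 L86226
theorem L94363 : sm gf N9757 = N11858 := rfl
theorem L94365 : sm gc N11858 = N10355 := ded_20_1 L94361 (flp_c L94353) L94363
theorem L94367 : sm gd N11858 = N9758 := ded_23_1 (flp_f L47410) L47408 L94363
theorem L94369 : sm gg N10355 = N11858 := ded_29_1 (flp_f L94363) (flp_g L92257) (flp_a L94355) (flp_f L94361)
theorem L94371 : sm gb N9758 = N11859 := rfl
theorem L94373 : sm ge N11859 = N9759 := ded_15_2 (flp_b L47416) (flp_e L47414) L94371
theorem L94375 : sm ga N9759 = N11860 := rfl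
theorem L94377 : sm gc N9759 = N11861 := rfl
theorem L94379 : sm gb N11861 = N9764 := ded_13_1 (flp_c L47450) (flp_b L22846) (flp_c L22838) L47416 L94377
theorem L94381 : sm gg N9759 = N11862 := rfl
theorem L94383 : sm gb N11862 = N10353 := ded_17_1 (flp_g L86216) (flp_b L27936) L77867 L47416 L94381
theorem L94385 : sm ga N9761 = N11863 := rfl
theorem L94389 : sm ge N11863 = N9763 := ded_10_2 (flp_a L47444) (flp_e L47430) L94385
theorem L94391 : sm gf N11863 = N9907 := ded_11_2 (flp_a L84075) (flp_f L47432) L94385
theorem L94393 : sm gg N11863 = N10476 := ded_12_2 (flp_a L86966) L82729 L94385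
theorem L94395 : sm gc N9761 = N11864 := rfl
theorem L94397 : sm ge N11864 = N9764 := ded_19_2 (flp_c L47450) (flp_e L47430) L94395
theorem L94399 : sm gf N11864 = N9908 := ded_20_2 (flp_c L84081) (flp_f L47432) L94395
theorem L94401 : sm gg N11864 = N10477 := ded_21_2 (flp_c L86974) L82729 L94395
theorem L94403 : sm gc N9763 = N11865 := rfl
theorem L94405 : sm ga N11865 = N9764 := ded_8_1 (flp_c L47450) L47444 L94403
theorem L94407 : sm gf N11865 = N9912 := ded_20_2 (flp_c L84103) (flp_f L47448) L94403
theorem L94409 : sm gg N11865 = N10480 := ded_21_2 (flp_c L86992) L82725 L94403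
theorem L94411 : sm gd N9764 = N11866 := rfl
theorem L94413 : sm gf N11866 = N9913 := ded_23_2 (flp_d L84107) (flp_f L47452) L94411
theorem L94415 : sm gg N11866 = N10481 := ded_24_2 (flp_d L86998) L82727 L94411
theorem L94417 : sm gb N9851 = N11867 := rfl
theorem L94419 : sm gd N11867 = N9856 := ded_14_2 (flp_b L83839) (flp_d L83814) L94417
theorem L94421 : sm ge N9851 = N11868 := rfl
theorem L94423 : sm ga N11868 = N9852 := ded_10_1 (flp_e L83816) L83811 L94421
theorem L94426 : sm gf N9851 = N11869 := rfl
theorem L94428 : sm ga N11869 = N9853 := ded_11_1 (flp_f L83821) L83811 L94426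
theorem L94431 : sm gd N11869 = N9858 := ded_23_1 (flp_f L83845) (flp_d L83814) L94426
theorem L94433 : sm gg N9851 = N11870 := rfl
theorem L94435 : sm ga N11870 = N9854 := ded_12_1 (flp_g L83826) L83811 L94433
theorem L94437 : sm gc N11870 = N11870 := ded_21_1 (flp_g L94433) L83813 L94433
theorem L94438 : sm gd N11870 = N9859 := ded_24_1 (flp_g L83849) (flp_d L83814) L94433
theorem L94440 : sm gd N9852 = N11871 := rfl
theorem L94442 : sm gb N11871 = N9855 := ded_14_1 (flp_d L83831) (flp_b L83818) L94440
theorem L94444 : sm ge N11871 = N9860 := ded_22_2 (flp_d L83853) (flp_e L23505) (flp_d L23495) L83816 L94440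
theorem L94446 : sm gf N9852 = N11872 := rfl
theorem L94449 : sm ge N11872 = N9853 := ded_25_1 (flp_f L83821) L83816 L94446
theorem L94451 : sm gg N9852 = N11873 := rfl
theorem L94453 : sm gc N11873 = N11873 := ded_21_1 (flp_g L94451) L83820 L94451
theorem L94454 : sm ge N11873 = N9854 := ded_26_1 (flp_g L83826) L83816 L94451
theorem L94456 : sm gg N9853 = N11874 := rfl
theorem L94458 : sm gc N11874 = N11874 := ded_21_1 (flp_g L94456) L83823 L94456
theorem L94459 : sm gd N11874 = N9863 := ded_24_1 (flp_g L83865) (flp_d L83824) L94456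
theorem L94461 : sm gf N11870 = N11874 := ded_29_0 (flp_g L94456) (flp_f L83821) L83826 (flp_a L94435)
theorem L94463 : sm gf N9854 = N11875 := rfl
theorem L94465 : sm ga N11875 = N11874 := ded_11_1 (flp_f L94461) L94435 L94463
theorem L94468 : sm gd N11875 = N9865 := ded_23_1 (flp_f L83873) (flp_d L83829) L94463
theorem L94472 : sm ga N9856 = N11876 := rfl
theorem L94474 : sm gc N9856 = N11877 := rfl
theorem L94476 : sm ge N9856 = N11878 := rfl
theorem L94478 : sm gb N11878 = N9857 := ded_15_1 (flp_e L83841) L83839 L94476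
theorem L94480 : sm gf N9856 = N11879 := rfl
theorem L94482 : sm gg N9856 = N11880 := rfl
theorem L94484 : sm gd N9857 = N11881 := rfl
theorem L94486 : sm ga N11881 = N9860 := ded_9_1 (flp_d L83853) (flp_a L83843) L94484
theorem L94488 : sm gf N9857 = N11882 := rfl
theorem L94490 : sm ga N11882 = N9861 := ded_11_1 (flp_f L83857) (flp_a L83843) L94488
theorem L94492 : sm ge N11882 = N9858 := ded_25_1 (flp_f L83845) L83841 L94488
theorem L94494 : sm gg N9857 = N11883 := rfl
theorem L94496 : sm ga N11883 = N9862 := ded_12_1 (flp_g L83861) (flp_a L83843) L94494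
theorem L94498 : sm ge N11883 = N9859 := ded_26_1 (flp_g L83849) L83841 L94494
theorem L94500 : sm gb N9858 = N11884 := rfl
theorem L94502 : sm gb N9859 = N11885 := rfl
theorem L94504 : sm gc N9860 = N11886 := rfl
theorem L94506 : sm gf N9860 = N11887 := rfl
theorem L94508 : sm gd N11887 = N9861 := ded_23_1 (flp_f L83857) L83853 L94506
theorem L94510 : sm gg N9860 = N11888 := rfl
theorem L94512 : sm gd N11888 = N9862 := ded_24_1 (flp_g L83861) L83853 L94510
theorem L94514 : sm gg N9861 = N11889 := rfl
theorem L94516 : sm ge N11889 = N9863 := ded_26_1 (flp_g L83865) (flp_e L83859) L94514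
theorem L94518 : sm gf N11883 = N11889 := ded_29_0 (flp_g L94514) (flp_f L83857) L83861 (flp_a L94496)
theorem L94520 : sm gb N9862 = N11890 := rfl
theorem L94522 : sm ge N11890 = N9864 := ded_15_2 (flp_b L83869) (flp_e L83863) L94520
theorem L94524 : sm gg N11890 = N9868 := ded_17_2 (flp_b L83893) (flp_g L23515) (flp_b L23507) L83861 L94520
theorem L94526 : sm gf N9862 = N11891 := rfl
theorem L94528 : sm ga N11891 = N11889 := ded_11_1 (flp_f L94518) L94496 L94526
theorem L94530 : sm ge N11891 = N9865 := ded_25_1 (flp_f L83873) (flp_e L83863) L94526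
theorem L94534 : sm gb N9863 = N11892 := rfl
theorem L94536 : sm ga N9864 = N11893 := rfl
theorem L94538 : sm gg N11893 = N9870 := ded_12_2 (flp_a L83907) (flp_g L83871) L94536
theorem L94540 : sm gc N9864 = N11894 := rfl
theorem L94542 : sm gg N11894 = N9871 := ded_21_2 (flp_c L83909) (flp_g L83871) L94540
theorem L94544 : sm gf N9864 = N11895 := rfl
theorem L94546 : sm gb N9865 = N11896 := rfl
theorem L94548 : sm gb N9866 = N11897 := rfl
theorem L94550 : sm gd N11897 = N9930 := ded_14_2 (flp_b L84202) (flp_d L83887) L94548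
theorem L94552 : sm ge N11897 = N11140 := ded_15_2 L90616 (flp_e L83883) L94548
theorem L94554 : sm gg N9866 = N11898 := rfl
theorem L94556 : sm ga N11898 = N11146 := ded_12_1 (flp_g L90642) (flp_a L83881) L94554
theorem L94558 : sm gc N11898 = N9867 := ded_21_1 (flp_g L83889) L83879 L94554
theorem L94560 : sm gd N11898 = N9869 := ded_24_1 L83905 (flp_d L83887) L94554
theorem L94562 : sm ge N11898 = N11146 := ded_26_1 (flp_g L90642) (flp_e L83883) L94554
theorem L94564 : sm gf N9867 = N11898 := ded_29_0 (flp_g L94554) L83885 (flp_g L90846) L90842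
theorem L94566 : sm gb N9867 = N11899 := rfl
theorem L94568 : sm gd N11899 = N9868 := ded_14_2 (flp_b L83893) (flp_d L83891) L94566
theorem L94570 : sm ga N9868 = N11900 := rfl
theorem L94572 : sm ge N11900 = N9870 := ded_10_2 (flp_a L83907) (flp_e L83895) L94570
theorem L94574 : sm gc N9868 = N11901 := rfl
theorem L94576 : sm ge N11901 = N9871 := ded_19_2 (flp_c L83909) (flp_e L83895) L94574
theorem L94578 : sm gb N11901 = N9875 := ded_13_1 (flp_c L83925) (flp_b L23533) (flp_c L23517) L83893 L94574
theorem L94580 : sm gf N9868 = N11902 := rfl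
theorem L94582 : sm ge N11902 = N9872 := ded_25_1 (flp_f L83913) (flp_e L83895) L94580
theorem L94584 : sm gb N9869 = N11903 := rfl
theorem L94586 : sm ge N11903 = N9873 := ded_15_2 (flp_b L83915) (flp_e L83903) L94584
theorem L94588 : sm gb N9870 = N11904 := rfl
theorem L94590 : sm gc N9870 = N11905 := rfl
theorem L94592 : sm ga N11905 = N9871 := ded_8_1 (flp_c L83909) L83907 L94590
theorem L94594 : sm gf N9870 = N11906 := rfl
theorem L94596 : sm ga N11906 = N9872 := ded_11_1 (flp_f L83913) L83907 L94594
theorem L94598 : sm gg N11895 = N11906 := ded_29_1 (flp_f L94594) (flp_g L94538) (flp_a L94536) L94544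
theorem L94600 : sm gd N9871 = N11907 := rfl
theorem L94602 : sm gb N11907 = N9880 := ded_14_1 (flp_d L83951) (flp_b L83911) L94600
theorem L94604 : sm gf N9871 = N11908 := rfl
theorem L94606 : sm gc N11908 = N9872 := ded_20_1 (flp_f L83913) L83909 L94604
theorem L94608 : sm gb N9872 = N11909 := rfl
theorem L94610 : sm gd N11909 = N11150 := ded_14_2 (flp_b L90832) L90830 L94608
theorem L94612 : sm gf N11909 = N9873 := ded_16_2 (flp_b L83915) (flp_f L23523) L23521 L83913 L94608
theorem L94614 : sm gg N9872 = N11910 := rfl
theorem L94616 : sm ga N11910 = N11895 := ded_12_1 L94598 L94596 L94614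
theorem L94618 : sm gf N11893 = N11910 := ded_29_0 (flp_g L94614) (flp_f L83913) (flp_g L83871) L94536
theorem L94620 : sm ga N9873 = N11911 := rfl
theorem L94622 : sm gd N11911 = N11148 := ded_9_2 (flp_a L90650) (flp_d L83917) L94620
theorem L94624 : sm gc N9873 = N11912 := rfl
theorem L94626 : sm gb N11912 = N9882 := ded_13_1 (flp_c L83957) (flp_b L23559) (flp_c L23527) L83915 L94624
theorem L94628 : sm gg N9873 = N11913 := rfl
theorem L94630 : sm gd N11913 = N11144 := ded_24_1 L90634 (flp_d L83917) L94628
theorem L94632 : sm gb N11913 = N9933 := ded_17_1 (flp_g L84216) (flp_b L24458) (flp_g L23531) L83915 L94628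
theorem L94634 : sm gc N9874 = N11914 := rfl
theorem L94636 : sm ga N11914 = N9875 := ded_8_1 (flp_c L83925) L83919 L94634
theorem L94638 : sm ge N11914 = N9879 := ded_19_2 (flp_c L83947) (flp_e L83923) L94634
theorem L94640 : sm gd N9875 = N11915 := rfl
theorem L94642 : sm gf N9875 = N11916 := rfl
theorem L94644 : sm gc N11916 = N9876 := ded_20_1 (flp_f L83929) L83925 L94642
theorem L94646 : sm ge N11916 = N9881 := ded_25_1 (flp_f L83953) (flp_e L83927) L94642
theorem L94648 : sm gc N9877 = N11917 := rfl
theorem L94650 : sm ge N11917 = N9882 := ded_19_2 (flp_c L83957) (flp_e L83939) L94648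
theorem L94652 : sm gg N9877 = N11918 := rfl
theorem L94658 : sm gf N11918 = N10400 := ded_29_2 (flp_g L86580) (flp_a L86532) L86536 L94652
theorem L94662 : sm gc N9878 = N11919 := rfl
theorem L94664 : sm gg N11919 = N11157 := ded_21_2 L90692 (flp_g L83945) L94662
theorem L94666 : sm gb N9879 = N11920 := rfl
theorem L94668 : sm gd N9879 = N11921 := rfl
theorem L94670 : sm ga N11921 = N9880 := ded_9_1 (flp_d L83951) (flp_a L83949) L94668
theorem L94672 : sm gc N11921 = N10481 := ded_28_6 (flp_d L86998) (flp_a L86994) (flp_c L86992) L29277 L14132 (flp_d L23551) L83947 L94668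
theorem L94674 : sm gc N9880 = N11922 := rfl
theorem L94676 : sm ga N11922 = N10481 := ded_8_1 (flp_c L94672) L94670 L94674
theorem L94678 : sm gd N11922 = N10480 := ded_28_7 L86994 (flp_c L29279) L14128 L6912 (flp_d L11344) L23553 L83951 L94674
theorem L94680 : sm ge N9880 = N11923 := rfl
theorem L94682 : sm gf N9880 = N11924 := rfl
theorem L94684 : sm gd N11924 = N9881 := ded_23_1 (flp_f L83953) L83951 L94682
theorem L94686 : sm gb N9881 = N11925 := rfl
theorem L94688 : sm gd N9882 = N11926 := rfl
theorem L94690 : sm gg N9882 = N11927 := rfl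
theorem L94692 : sm gc N11927 = N9883 := ded_21_1 (flp_g L83959) L83957 L94690
theorem L94696 : sm gb N9884 = N11928 := rfl
theorem L94698 : sm gd N11928 = N9889 := ded_14_2 (flp_b L83995) (flp_d L83970) L94696
theorem L94700 : sm ge N9884 = N11929 := rfl
theorem L94702 : sm ga N11929 = N9885 := ded_10_1 (flp_e L83972) L83967 L94700
theorem L94705 : sm gf N9884 = N11930 := rfl
theorem L94707 : sm ga N11930 = N9886 := ded_11_1 (flp_f L83977) L83967 L94705
theorem L94709 : sm gc N11930 = N11930 := ded_20_1 (flp_f L94705) L83969 L94705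
theorem L94710 : sm gd N11930 = N9891 := ded_23_1 (flp_f L84001) (flp_d L83970) L94705
theorem L94712 : sm gg N9884 = N11931 := rfl
theorem L94714 : sm ga N11931 = N9887 := ded_12_1 (flp_g L83982) L83967 L94712
theorem L94717 : sm gd N11931 = N9892 := ded_24_1 (flp_g L84005) (flp_d L83970) L94712
theorem L94719 : sm gd N9885 = N11932 := rfl
theorem L94721 : sm gb N11932 = N9888 := ded_14_1 (flp_d L83987) (flp_b L83974) L94719
theorem L94723 : sm ge N11932 = N9893 := ded_22_2 (flp_d L84009) (flp_e L23709) (flp_d L23699) L83972 L94719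
theorem L94725 : sm gf N9885 = N11933 := rfl
theorem L94727 : sm gc N11933 = N11933 := ded_20_1 (flp_f L94725) L83976 L94725
theorem L94728 : sm ge N11933 = N9886 := ded_25_1 (flp_f L83977) L83972 L94725
theorem L94730 : sm gg N9885 = N11934 := rfl
theorem L94733 : sm ge N11934 = N9887 := ded_26_1 (flp_g L83982) L83972 L94730
theorem L94735 : sm gg N9886 = N11935 := rfl
theorem L94738 : sm gd N11935 = N9897 := ded_24_1 (flp_g L84025) (flp_d L83980) L94735
theorem L94740 : sm gf N11931 = N11935 := ded_29_0 (flp_g L94735) (flp_f L83977) L83982 (flp_a L94714)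
theorem L94742 : sm gf N9887 = N11936 := rfl
theorem L94744 : sm ga N11936 = N11935 := ded_11_1 (flp_f L94740) L94714 L94742
theorem L94746 : sm gc N11936 = N11936 := ded_20_1 (flp_f L94742) L83984 L94742
theorem L94747 : sm gd N11936 = N9898 := ded_23_1 (flp_f L84029) (flp_d L83985) L94742
theorem L94749 : sm gg N11936 = N11930 := ded_29_3 L94707 (flp_f L83977) L83982 L94742
theorem L94751 : sm ga N9889 = N11937 := rfl
theorem L94753 : sm gc N9889 = N11938 := rfl
theorem L94755 : sm ge N9889 = N11939 := rfl
theorem L94757 : sm gb N11939 = N9890 := ded_15_1 (flp_e L83997) L83995 L94755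
theorem L94759 : sm gf N9889 = N11940 := rfl
theorem L94761 : sm gg N9889 = N11941 := rfl
theorem L94763 : sm gd N9890 = N11942 := rfl
theorem L94765 : sm ga N11942 = N9893 := ded_9_1 (flp_d L84009) (flp_a L83999) L94763
theorem L94767 : sm gf N9890 = N11943 := rfl
theorem L94769 : sm ga N11943 = N9894 := ded_11_1 (flp_f L84013) (flp_a L83999) L94767
theorem L94771 : sm ge N11943 = N9891 := ded_25_1 (flp_f L84001) L83997 L94767
theorem L94773 : sm gg N9890 = N11944 := rfl
theorem L94775 : sm ga N11944 = N9895 := ded_12_1 (flp_g L84017) (flp_a L83999) L94773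
theorem L94777 : sm ge N11944 = N9892 := ded_26_1 (flp_g L84005) L83997 L94773
theorem L94779 : sm gb N9891 = N11945 := rfl
theorem L94781 : sm gb N9892 = N11946 := rfl
theorem L94783 : sm gc N9893 = N11947 := rfl
theorem L94785 : sm gf N9893 = N11948 := rfl
theorem L94787 : sm gd N11948 = N9894 := ded_23_1 (flp_f L84013) L84009 L94785
theorem L94789 : sm gg N9893 = N11949 := rfl
theorem L94793 : sm gb N9894 = N11950 := rfl
theorem L94795 : sm ge N11950 = N9896 := ded_15_2 (flp_b L84021) (flp_e L84015) L94793
theorem L94797 : sm gf N11950 = N9901 := ded_16_2 (flp_b L84049) (flp_f L23719) (flp_b L23711) L84013 L94793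
theorem L94799 : sm gg N9894 = N11951 := rfl
theorem L94801 : sm ge N11951 = N9897 := ded_26_1 (flp_g L84025) (flp_e L84015) L94799
theorem L94803 : sm gf N11944 = N11951 := ded_29_0 (flp_g L94799) (flp_f L84013) L84017 (flp_a L94775)
theorem L94805 : sm gf N9895 = N11952 := rfl
theorem L94807 : sm ga N11952 = N11951 := ded_11_1 (flp_f L94803) L94775 L94805
theorem L94809 : sm ge N11952 = N9898 := ded_25_1 (flp_f L84029) (flp_e L84019) L94805
theorem L94811 : sm gg N11952 = N11943 := ded_29_3 L94769 (flp_f L84013) L84017 L94805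
theorem L94813 : sm ga N9896 = N11953 := rfl
theorem L94815 : sm gf N11953 = N9903 := ded_11_2 (flp_a L84063) (flp_f L84023) L94813
theorem L94817 : sm gc N9896 = N11954 := rfl
theorem L94819 : sm gf N11954 = N9904 := ded_20_2 (flp_c L84065) (flp_f L84023) L94817
theorem L94821 : sm gg N9896 = N11955 := rfl
theorem L94823 : sm gb N9897 = N11956 := rfl
theorem L94825 : sm gb N9898 = N11957 := rfl
theorem L94827 : sm gb N9899 = N11958 := rfl
theorem L94829 : sm gd N11958 = N9939 := ded_14_2 (flp_b L84249) (flp_d L84043) L94827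
theorem L94831 : sm ge N11958 = N11167 := ded_15_2 L90736 (flp_e L84039) L94827
theorem L94833 : sm gf N9899 = N11959 := rfl
theorem L94835 : sm ga N11959 = N11173 := ded_11_1 (flp_f L90762) (flp_a L84037) L94833
theorem L94837 : sm gc N11959 = N9900 := ded_20_1 (flp_f L84045) L84035 L94833
theorem L94839 : sm gd N11959 = N9902 := ded_23_1 (flp_f L84061) (flp_d L84043) L94833
theorem L94841 : sm ge N11959 = N11173 := ded_25_1 (flp_f L90762) (flp_e L84039) L94833
theorem L94843 : sm gg N11959 = N9900 := ded_29_3 (flp_a L90714) L90716 (flp_g L84041) L94833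
theorem L94845 : sm gb N9900 = N11960 := rfl
theorem L94847 : sm gd N11960 = N9901 := ded_14_2 (flp_b L84049) (flp_d L84047) L94845
theorem L94849 : sm ga N9901 = N11961 := rfl
theorem L94851 : sm ge N11961 = N9903 := ded_10_2 (flp_a L84063) (flp_e L84051) L94849
theorem L94853 : sm gc N9901 = N11962 := rfl
theorem L94855 : sm ge N11962 = N9904 := ded_19_2 (flp_c L84065) (flp_e L84051) L94853
theorem L94857 : sm gb N11962 = N9908 := ded_13_1 (flp_c L84081) (flp_b L23737) (flp_c L23721) L84049 L94853
theorem L94859 : sm gg N9901 = N11963 := rfl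
theorem L94861 : sm ge N11963 = N9905 := ded_26_1 (flp_g L84069) (flp_e L84051) L94859
theorem L94863 : sm gb N9902 = N11964 := rfl
theorem L94865 : sm ge N11964 = N9906 := ded_15_2 (flp_b L84071) (flp_e L84059) L94863
theorem L94867 : sm gb N9903 = N11965 := rfl
theorem L94869 : sm gc N9903 = N11966 := rfl
theorem L94871 : sm ga N11966 = N9904 := ded_8_1 (flp_c L84065) L84063 L94869
theorem L94873 : sm gg N9903 = N11967 := rfl
theorem L94875 : sm ga N11967 = N9905 := ded_12_1 (flp_g L84069) L84063 L94873
theorem L94877 : sm gf N11967 = N11955 := ded_29_2 (flp_g L94821) L94813 L94815 L94873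
theorem L94879 : sm gd N9904 = N11968 := rfl
theorem L94881 : sm gb N11968 = N9913 := ded_14_1 (flp_d L84107) (flp_b L84067) L94879
theorem L94883 : sm gg N9904 = N11969 := rfl
theorem L94885 : sm gc N11969 = N9905 := ded_21_1 (flp_g L84069) L84065 L94883
theorem L94887 : sm gb N9905 = N11970 := rfl
theorem L94889 : sm gd N11970 = N11177 := ded_14_2 L90782 L90710 L94887
theorem L94891 : sm gg N11970 = N9906 := ded_17_2 (flp_b L84071) (flp_g L23727) L23725 L84069 L94887
theorem L94893 : sm gf N9905 = N11971 := rfl
theorem L94895 : sm ga N11971 = N11955 := ded_11_1 (flp_f L94877) L94875 L94893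
theorem L94897 : sm gg N11971 = N11953 := ded_29_3 (flp_a L94813) L84023 L84069 L94893
theorem L94899 : sm ga N9906 = N11972 := rfl
theorem L94901 : sm gd N11972 = N11175 := ded_9_2 (flp_a L90774) (flp_d L84073) L94899
theorem L94903 : sm gc N9906 = N11973 := rfl
theorem L94905 : sm gb N11973 = N9915 := ded_13_1 (flp_c L84113) (flp_b L23763) (flp_c L23731) L84071 L94903
theorem L94907 : sm gf N9906 = N11974 := rfl
theorem L94909 : sm gd N11974 = N11170 := ded_23_1 L90750 (flp_d L84073) L94907
theorem L94911 : sm gb N11974 = N9941 := ded_16_1 (flp_f L84257) (flp_b L24720) (flp_f L65512) L84071 L94907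
theorem L94913 : sm gc N9907 = N11975 := rfl
theorem L94915 : sm ga N11975 = N9908 := ded_8_1 (flp_c L84081) L84075 L94913
theorem L94917 : sm ge N11975 = N9912 := ded_19_2 (flp_c L84103) (flp_e L84079) L94913
theorem L94919 : sm gd N9908 = N11976 := rfl
theorem L94921 : sm gc N11976 = N11915 := ded_28_6 (flp_d L94640) (flp_a L94636) (flp_c L94634) L83921 L83169 (flp_d L23739) L84081 L94919
theorem L94923 : sm gg N9908 = N11977 := rfl
theorem L94927 : sm ge N11977 = N9914 := ded_26_1 (flp_g L84109) (flp_e L84083) L94923
theorem L94929 : sm gc N9910 = N11978 := rfl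
theorem L94931 : sm ge N11978 = N9915 := ded_19_2 (flp_c L84113) (flp_e L84095) L94929
theorem L94933 : sm gf N9910 = N11979 := rfl
theorem L94939 : sm gg N10446 = N11979 := ded_29_1 (flp_f L94933) (flp_g L86783) L86779 L86819
theorem L94943 : sm gc N9911 = N11980 := rfl
theorem L94945 : sm gf N11980 = N11184 := ded_20_2 L90818 L84101 L94943
theorem L94947 : sm gb N9912 = N11981 := rfl
theorem L94949 : sm gd N9912 = N11982 := rfl
theorem L94951 : sm ga N11982 = N9913 := ded_9_1 (flp_d L84107) (flp_a L84105) L94949
theorem L94953 : sm gc N11982 = N10434 := ded_28_6 (flp_d L86751) (flp_a L86747) (flp_c L86745) L29107 L14054 (flp_d L23755) L84103 L94949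
theorem L94955 : sm gc N9913 = N11983 := rfl
theorem L94957 : sm ga N11983 = N10434 := ded_8_1 (flp_c L94953) L94951 L94955
theorem L94959 : sm gd N11983 = N10433 := ded_28_7 L86747 (flp_c L29109) L14050 L6875 (flp_d L11426) L23757 L84107 L94955
theorem L94961 : sm gg N11924 = N11983 := ded_29_3 L94957 (flp_f L94162) L94164 L94682
theorem L94963 : sm ge N9913 = N11984 := rfl
theorem L94965 : sm gg N9913 = N11985 := rfl
theorem L94967 : sm gc N11985 = N11924 := ded_21_1 L94961 (flp_c L94955) L94965
theorem L94969 : sm gd N11985 = N9914 := ded_24_1 (flp_g L84109) L84107 L94965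
theorem L94971 : sm gf N11922 = N11985 := ded_29_0 (flp_g L94965) (flp_f L94413) L94415 (flp_a L94676)
theorem L94973 : sm gb N9914 = N11986 := rfl
theorem L94975 : sm gd N9915 = N11987 := rfl
theorem L94977 : sm gf N9915 = N11988 := rfl
theorem L94979 : sm gc N11988 = N9916 := ded_20_1 (flp_f L84115) L84113 L94977
theorem L94981 : sm gg N10444 = N11988 := ded_29_1 (flp_f L94977) (flp_g L86775) L86773 L86809
theorem L94983 : sm gd N9917 = N11989 := rfl
theorem L94985 : sm gb N11989 = N11135 := ded_14_1 (flp_d L90597) (flp_b L84127) L94983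
theorem L94996 : sm ge N9919 = N11991 := rfl
theorem L95011 : sm gf N9921 = N11994 := rfl
theorem L95015 : sm ge N11994 = N9924 := ded_25_1 (flp_f L84166) (flp_e L84150) L95011
theorem L95031 : sm gb N9925 = N11997 := rfl
theorem L95033 : sm ge N11997 = N9927 := ded_15_2 (flp_b L84187) (flp_e L84176) L95031
theorem L95035 : sm gc N11997 = N9930 := ded_13_2 (flp_b L84202) (flp_c L24450) (flp_b L24434) L84173 L95031
theorem L95037 : sm gd N9925 = N11998 := rfl
theorem L95039 : sm ga N11998 = N11998 := ded_9_1 (flp_d L95037) L84175 L95037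
theorem L95040 : sm gf N11998 = N11998 := ded_23_2 (flp_d L95037) L84178 L95037
theorem L95041 : sm gc N11998 = N11998 := ded_28_0 (flp_d L95037) (flp_c L84173) (flp_d L24432) L64941 L24432 L84173 L95037 L95039
theorem L95042 : sm gg N9925 = N11999 := rfl
theorem L95045 : sm gc N11999 = N9926 := ded_21_1 (flp_g L84179) L84173 L95042
theorem L95047 : sm ge N11999 = N9929 := ded_26_1 (flp_g L84196) (flp_e L84176) L95042
theorem L95050 : sm ga N9927 = N12000 := rfl
theorem L95052 : sm gc N12000 = N9931 := ded_8_2 (flp_a L84206) (flp_c L84189) L95050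
theorem L95054 : sm gd N9927 = N12001 := rfl
theorem L95056 : sm gb N12001 = N9928 := ded_14_1 (flp_d L84191) L84187 L95054
theorem L95058 : sm gf N9927 = N12002 := rfl
theorem L95060 : sm gc N12002 = N9932 := ded_20_1 (flp_f L84210) (flp_c L84189) L95058
theorem L95062 : sm gb N12002 = N12002 := ded_16_1 (flp_f L95058) (flp_b L84187) L71674 L84187 L95058
theorem L95063 : sm gg N9927 = N12003 := rfl
theorem L95065 : sm gc N12003 = N9933 := ded_21_1 (flp_g L84216) (flp_c L84189) L95063
theorem L95067 : sm ge N9928 = N12004 := rfl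
theorem L95069 : sm ga N12004 = N12004 := ded_10_1 (flp_e L95067) L84193 L95067
theorem L95070 : sm gc N12004 = N12004 := ded_19_1 (flp_e L95067) L84195 L95067
theorem L95071 : sm gf N12004 = N12004 := ded_25_2 (flp_e L95067) L84194 L95067
theorem L95072 : sm gg N9928 = N12005 := rfl
theorem L95074 : sm ga N12005 = N12005 := ded_12_1 (flp_g L95072) L84193 L95072
theorem L95075 : sm gc N12005 = N12005 := ded_21_1 (flp_g L95072) L84195 L95072
theorem L95076 : sm gd N12005 = N9929 := ded_24_1 (flp_g L84196) L84191 L95072
theorem L95078 : sm gf N12005 = N12005 := ded_29_0 (flp_g L95072) L84194 L95072 L95074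
theorem L95079 : sm gb N9929 = N12006 := rfl
theorem L95081 : sm ga N9930 = N12007 := rfl
theorem L95083 : sm ge N12007 = N9931 := ded_10_2 (flp_a L84206) (flp_e L84204) L95081
theorem L95085 : sm gf N9930 = N12008 := rfl
theorem L95087 : sm ge N12008 = N9932 := ded_25_1 (flp_f L84210) (flp_e L84204) L95085
theorem L95091 : sm gg N9930 = N12009 := rfl
theorem L95093 : sm ge N12009 = N9933 := ded_26_1 (flp_g L84216) (flp_e L84204) L95091
theorem L95095 : sm gb N9931 = N12010 := rfl
theorem L95097 : sm gd N12010 = N11136 := ded_14_2 (flp_b L90600) (flp_d L84208) L95095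
theorem L95099 : sm gf N9931 = N12011 := rfl
theorem L95101 : sm ga N12011 = N9932 := ded_11_1 (flp_f L84210) L84206 L95099
theorem L95103 : sm gd N12011 = N11138 := ded_23_1 (flp_f L90606) (flp_d L84208) L95099
theorem L95105 : sm gg N9931 = N12012 := rfl
theorem L95107 : sm ga N12012 = N9933 := ded_12_1 (flp_g L84216) L84206 L95105
theorem L95109 : sm gd N12012 = N11139 := ded_24_1 (flp_g L90610) (flp_d L84208) L95105
theorem L95111 : sm gg N9932 = N12013 := rfl
theorem L95113 : sm gd N12013 = N11143 := ded_24_1 (flp_g L90628) (flp_d L84212) L95111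
theorem L95115 : sm gf N12012 = N12013 := ded_29_0 (flp_g L95111) (flp_f L84210) L84216 (flp_a L95107)
theorem L95117 : sm gf N9933 = N12014 := rfl
theorem L95119 : sm ga N12014 = N12013 := ded_11_1 (flp_f L95115) L95107 L95117
theorem L95121 : sm gd N12014 = N11145 := ded_23_1 (flp_f L90636) (flp_d L84218) L95117
theorem L95123 : sm gg N12014 = N12011 := ded_29_3 L95101 (flp_f L84210) L84216 L95117
theorem L95125 : sm gb N9934 = N12015 := rfl
theorem L95127 : sm ge N12015 = N9936 := ded_15_2 (flp_b L84234) (flp_e L84223) L95125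
theorem L95129 : sm gc N12015 = N9939 := ded_13_2 (flp_b L84249) (flp_c L24690) (flp_b L24611) L84220 L95125
theorem L95131 : sm gd N9934 = N12016 := rfl
theorem L95133 : sm ga N12016 = N12016 := ded_9_1 (flp_d L95131) L84222 L95131
theorem L95134 : sm gg N12016 = N12016 := ded_24_2 (flp_d L95131) L84225 L95131
theorem L95135 : sm gc N12016 = N12016 := ded_28_0 (flp_d L95131) (flp_c L84220) (flp_d L24609) L82131 L24609 L84220 L95131 L95133
theorem L95136 : sm gf N9934 = N12017 := rfl
theorem L95139 : sm gc N12017 = N9935 := ded_20_1 (flp_f L84226) L84220 L95136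
theorem L95141 : sm ge N12017 = N9938 := ded_25_1 (flp_f L84243) (flp_e L84223) L95136
theorem L95144 : sm ga N9936 = N12018 := rfl
theorem L95146 : sm gc N12018 = N9940 := ded_8_2 (flp_a L84253) (flp_c L84236) L95144
theorem L95148 : sm gd N9936 = N12019 := rfl
theorem L95150 : sm gb N12019 = N9937 := ded_14_1 (flp_d L84238) L84234 L95148
theorem L95152 : sm gf N9936 = N12020 := rfl
theorem L95154 : sm gc N12020 = N9941 := ded_20_1 (flp_f L84257) (flp_c L84236) L95152
theorem L95156 : sm gg N9936 = N12021 := rfl
theorem L95158 : sm gc N12021 = N9942 := ded_21_1 (flp_g L84261) (flp_c L84236) L95156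
theorem L95160 : sm gb N12021 = N12021 := ded_17_1 (flp_g L95156) (flp_b L84234) L82750 L84234 L95156
theorem L95161 : sm ge N9937 = N12022 := rfl
theorem L95163 : sm ga N12022 = N12022 := ded_10_1 (flp_e L95161) L84240 L95161
theorem L95164 : sm gc N12022 = N12022 := ded_19_1 (flp_e L95161) L84242 L95161
theorem L95165 : sm gg N12022 = N12022 := ded_26_2 (flp_e L95161) L84241 L95161
theorem L95166 : sm gf N9937 = N12023 := rfl
theorem L95168 : sm ga N12023 = N12023 := ded_11_1 (flp_f L95166) L84240 L95166
theorem L95169 : sm gc N12023 = N12023 := ded_20_1 (flp_f L95166) L84242 L95166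
theorem L95170 : sm gd N12023 = N9938 := ded_23_1 (flp_f L84243) L84238 L95166
theorem L95172 : sm gg N12023 = N12023 := ded_29_3 L95168 (flp_f L95166) L84241 L95166
theorem L95173 : sm gb N9938 = N12024 := rfl
theorem L95175 : sm ga N9939 = N12025 := rfl
theorem L95177 : sm ge N12025 = N9940 := ded_10_2 (flp_a L84253) (flp_e L84251) L95175
theorem L95179 : sm gf N9939 = N12026 := rfl
theorem L95181 : sm ge N12026 = N9941 := ded_25_1 (flp_f L84257) (flp_e L84251) L95179
theorem L95183 : sm gg N9939 = N12027 := rfl
theorem L95185 : sm ge N12027 = N9942 := ded_26_1 (flp_g L84261) (flp_e L84251) L95183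
theorem L95187 : sm gb N12027 = N11934 := ded_17_1 (flp_g L94730) L83974 (flp_g L65436) L84249 L95183
theorem L95189 : sm gb N9940 = N12028 := rfl
theorem L95191 : sm gd N12028 = N11163 := ded_14_2 (flp_b L90720) (flp_d L84255) L95189
theorem L95193 : sm gf N9940 = N12029 := rfl
theorem L95195 : sm ga N12029 = N9941 := ded_11_1 (flp_f L84257) L84253 L95193
theorem L95197 : sm gd N12029 = N11165 := ded_23_1 (flp_f L90726) (flp_d L84255) L95193
theorem L95199 : sm gg N9940 = N12030 := rfl
theorem L95201 : sm ga N12030 = N9942 := ded_12_1 (flp_g L84261) L84253 L95199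
theorem L95203 : sm gd N12030 = N11166 := ded_24_1 (flp_g L90730) (flp_d L84255) L95199
theorem L95205 : sm gg N9941 = N12031 := rfl
theorem L95207 : sm gd N12031 = N11171 := ded_24_1 (flp_g L90752) (flp_d L84259) L95205
theorem L95209 : sm gf N12030 = N12031 := ded_29_0 (flp_g L95205) (flp_f L84257) L84261 (flp_a L95201)
theorem L95211 : sm gf N9942 = N12032 := rfl
theorem L95213 : sm ga N12032 = N12031 := ded_11_1 (flp_f L95209) L95201 L95211
theorem L95215 : sm gd N12032 = N11172 := ded_23_1 (flp_f L90756) (flp_d L84263) L95211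
theorem L95217 : sm gg N12032 = N12029 := ded_29_3 L95195 (flp_f L84257) L84261 L95211
theorem L95219 : sm gd N9943 = N12033 := rfl
theorem L95221 : sm ga N12033 = N9947 := ded_9_1 (flp_d L84289) (flp_a L84269) L95219
theorem L95223 : sm gb N12033 = N10633 := ded_14_1 (flp_d L90894) (flp_b L90898) L95219
theorem L95225 : sm gc N10702 = N12033 := ded_28_0 (flp_d L95219) (flp_c L84267) (flp_d L84355) (flp_c L38680) (flp_d L18393) (flp_c L17639) L36794 (flp_a L88324)
theorem L95227 : sm ge N10636 = N12033 := ded_15_0 L95223 L87943 L87959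
theorem L95229 : sm gf N9943 = N12034 := rfl
theorem L95231 : sm ga N12034 = N9948 := ded_11_1 (flp_f L84292) (flp_a L84269) L95229
theorem L95233 : sm gc N12034 = N9945 := ded_20_1 (flp_f L84277) L84267 L95229
theorem L95235 : sm ge N12034 = N10098 := ded_25_1 (flp_f L85121) (flp_e L84271) L95229
theorem L95237 : sm gg N9943 = N12035 := rfl
theorem L95239 : sm ga N12035 = N9949 := ded_12_1 (flp_g L84298) (flp_a L84269) L95237
theorem L95241 : sm gc N12035 = N9946 := ded_21_1 (flp_g L84283) L84267 L95237
theorem L95243 : sm ge N12035 = N10099 := ded_26_1 (flp_g L85127) (flp_e L84271) L95237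
theorem L95245 : sm gb N9945 = N12036 := rfl
theorem L95247 : sm ge N12036 = N10100 := ded_15_2 (flp_b L85133) (flp_e L84281) L95245
theorem L95249 : sm gb N9946 = N12037 := rfl
theorem L95251 : sm ge N12037 = N10101 := ded_15_2 (flp_b L85135) (flp_e L84287) L95249
theorem L95253 : sm ge N9947 = N12038 := rfl
theorem L95255 : sm ga N12038 = N10636 := ded_10_1 L95227 L95221 L95253
theorem L95257 : sm gb N12038 = N12038 := ded_15_1 (flp_e L95253) L84291 L95253
theorem L95258 : sm gc N12038 = N10686 := ded_19_1 L88252 L84349 L95253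
theorem L95260 : sm gd N12038 = N10103 := ded_22_1 (flp_e L85139) (flp_d L26660) (flp_e L24866) L84289 L95253
theorem L95262 : sm gf N9947 = N12039 := rfl
theorem L95264 : sm gc N12039 = N10705 := ded_20_1 (flp_f L88342) L84349 L95262
theorem L95266 : sm gd N12039 = N9948 := ded_23_1 (flp_f L84292) L84289 L95262
theorem L95268 : sm gg N9947 = N12040 := rfl
theorem L95270 : sm gc N12040 = N10706 := ded_21_1 (flp_g L88346) L84349 L95268
theorem L95272 : sm gd N12040 = N9949 := ded_24_1 (flp_g L84298) L84289 L95268
theorem L95274 : sm gb N9948 = N12041 := rfl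
theorem L95276 : sm ge N12041 = N10106 := ded_15_2 (flp_b L85150) (flp_e L84296) L95274
theorem L95278 : sm gf N12041 = N12041 := ded_16_2 (flp_b L95274) (flp_f L84292) L24868 L84292 L95274
theorem L95279 : sm gg N9948 = N12042 := rfl
theorem L95281 : sm gc N12042 = N9954 := ded_21_1 (flp_g L84320) (flp_c L84294) L95279
theorem L95283 : sm ge N12042 = N10107 := ded_26_1 (flp_g L85153) (flp_e L84296) L95279
theorem L95285 : sm gf N12035 = N12042 := ded_29_0 (flp_g L95279) (flp_f L84292) L84298 (flp_a L95239)
theorem L95287 : sm gb N9949 = N12043 := rfl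
theorem L95289 : sm ge N12043 = N10108 := ded_15_2 (flp_b L85159) (flp_e L84302) L95287
theorem L95291 : sm gg N12043 = N12043 := ded_17_2 (flp_b L95287) (flp_g L84298) L24868 L84298 L95287
theorem L95292 : sm gf N9949 = N12044 := rfl
theorem L95294 : sm ga N12044 = N12042 := ded_11_1 (flp_f L95285) L95239 L95292
theorem L95296 : sm gc N12044 = N9956 := ded_20_1 (flp_f L84332) (flp_c L84300) L95292
theorem L95298 : sm ge N12044 = N10109 := ded_25_1 (flp_f L85162) (flp_e L84302) L95292
theorem L95300 : sm gg N12044 = N12034 := ded_29_3 L95231 (flp_f L84292) L84298 L95292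
theorem L95302 : sm gb N9951 = N12045 := rfl
theorem L95304 : sm gd N12045 = N9953 := ded_14_2 (flp_b L84314) (flp_d L84308) L95302
theorem L95306 : sm gf N12045 = N9961 := ded_16_2 (flp_b L84373) (flp_f L24885) (flp_b L24871) L84306 L95302
theorem L95308 : sm gg N9951 = N12046 := rfl
theorem L95310 : sm gc N12046 = N10843 := ded_21_1 L89094 L89034 L95308
theorem L95312 : sm gd N12046 = N9954 := ded_24_1 (flp_g L84320) (flp_d L84308) L95308
theorem L95314 : sm gf N10839 = N12046 := ded_29_0 (flp_g L95308) (flp_f L84306) L84310 (flp_a L89064)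
theorem L95316 : sm gb N9952 = N12047 := rfl
theorem L95318 : sm gd N12047 = N9955 := ded_14_2 (flp_b L84326) (flp_d L84312) L95316
theorem L95320 : sm gg N12047 = N9962 := ded_17_2 (flp_b L84377) (flp_g L24891) (flp_b L24871) L84310 L95316
theorem L95322 : sm gf N9952 = N12048 := rfl
theorem L95324 : sm ga N12048 = N12046 := ded_11_1 (flp_f L95314) L89064 L95322
theorem L95326 : sm gc N12048 = N10841 := ded_20_1 (flp_f L89080) L89042 L95322
theorem L95328 : sm gd N12048 = N9956 := ded_23_1 (flp_f L84332) (flp_d L84312) L95322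
theorem L95330 : sm gg N12048 = N10838 := ded_29_3 L89056 (flp_f L84306) L84310 L95322
theorem L95332 : sm ga N9953 = N12049 := rfl
theorem L95334 : sm ge N12049 = N10110 := ded_10_2 (flp_a L85170) (flp_e L84316) L95332
theorem L95336 : sm gf N12049 = N9963 := ded_11_2 (flp_a L84381) (flp_f L84318) L95332
theorem L95338 : sm gc N9953 = N12050 := rfl
theorem L95340 : sm ge N12050 = N10111 := ded_19_2 (flp_c L85176) (flp_e L84316) L95338
theorem L95342 : sm gf N12050 = N9964 := ded_20_2 (flp_c L84385) (flp_f L84318) L95338
theorem L95344 : sm gg N9953 = N12051 := rfl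
theorem L95346 : sm ge N12051 = N10112 := ded_26_1 (flp_g L85180) (flp_e L84316) L95344
theorem L95348 : sm gb N9954 = N12052 := rfl
theorem L95350 : sm ge N12052 = N10113 := ded_15_2 (flp_b L85182) (flp_e L84322) L95348
theorem L95352 : sm ga N9955 = N12053 := rfl
theorem L95354 : sm ge N12053 = N10114 := ded_10_2 (flp_a L85184) (flp_e L84328) L95352
theorem L95356 : sm gg N12053 = N9966 := ded_12_2 (flp_a L84394) (flp_g L84330) L95352
theorem L95358 : sm gc N9955 = N12054 := rfl
theorem L95360 : sm ge N12054 = N10115 := ded_19_2 (flp_c L85188) (flp_e L84328) L95358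
theorem L95362 : sm gg N12054 = N9967 := ded_21_2 (flp_c L84398) (flp_g L84330) L95358
theorem L95364 : sm gf N9955 = N12055 := rfl
theorem L95366 : sm ge N12055 = N10116 := ded_25_1 (flp_f L85192) (flp_e L84328) L95364
theorem L95368 : sm gb N9956 = N12056 := rfl
theorem L95370 : sm ge N12056 = N10117 := ded_15_2 (flp_b L85194) (flp_e L84336) L95368
theorem L95372 : sm ga N9957 = N12057 := rfl
theorem L95374 : sm gd N9957 = N12058 := rfl
theorem L95376 : sm gb N12058 = N9958 := ded_14_1 (flp_d L84342) L84340 L95374
theorem L95378 : sm ge N12058 = N12058 := ded_22_2 (flp_d L95374) (flp_e L92471) L92470 L92471 L95374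
theorem L95379 : sm gc N12058 = N12058 := ded_28_4 (flp_d L95374) L89020 (flp_d L89016) L89010 (flp_c L89014) L89016 (flp_c L89020) L95374
theorem L95380 : sm gf N9957 = N12059 := rfl
theorem L95382 : sm gg N9957 = N12060 := rfl
theorem L95384 : sm gf N9958 = N12061 := rfl
theorem L95386 : sm ga N12061 = N9969 := ded_11_1 (flp_f L84407) (flp_a L84344) L95384
theorem L95388 : sm gc N12061 = N9969 := ded_20_1 (flp_f L84407) L84347 L95384
theorem L95390 : sm gd N12061 = N9959 := ded_23_1 (flp_f L84361) L84342 L95384
theorem L95392 : sm ge N12061 = N12061 := ded_25_1 (flp_f L95384) L84346 L95384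
theorem L95393 : sm gg N9958 = N12062 := rfl
theorem L95395 : sm ga N12062 = N9970 := ded_12_1 (flp_g L84412) (flp_a L84344) L95393
theorem L95397 : sm gc N12062 = N9970 := ded_21_1 (flp_g L84412) L84347 L95393
theorem L95399 : sm gd N12062 = N9960 := ded_24_1 (flp_g L84367) L84342 L95393
theorem L95401 : sm ge N12062 = N12062 := ded_26_1 (flp_g L95393) L84346 L95393
theorem L95402 : sm gb N9959 = N12063 := rfl
theorem L95404 : sm gb N9960 = N12064 := rfl
theorem L95406 : sm ga N9961 = N12065 := rfl
theorem L95408 : sm gd N12065 = N9963 := ded_9_2 (flp_a L84381) (flp_d L84375) L95406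
theorem L95410 : sm gc N9961 = N12066 := rfl
theorem L95412 : sm gg N9961 = N12067 := rfl
theorem L95414 : sm gd N12067 = N9965 := ded_24_1 (flp_g L84390) (flp_d L84375) L95412
theorem L95416 : sm ga N9962 = N12068 := rfl
theorem L95418 : sm gd N12068 = N9966 := ded_9_2 (flp_a L84394) (flp_d L84379) L95416
theorem L95420 : sm gc N9962 = N12069 := rfl
theorem L95422 : sm gf N9962 = N12070 := rfl
theorem L95424 : sm gd N12070 = N9968 := ded_23_1 (flp_f L84403) (flp_d L84379) L95422
theorem L95426 : sm gb N9963 = N12071 := rfl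
theorem L95428 : sm ge N12071 = N10118 := ded_15_2 (flp_b L85196) (flp_e L84383) L95426
theorem L95430 : sm gc N9963 = N12072 := rfl
theorem L95432 : sm ga N12072 = N9964 := ded_8_1 (flp_c L84385) L84381 L95430
theorem L95434 : sm ge N12072 = N10119 := ded_19_2 (flp_c L85198) (flp_e L84383) L95430
theorem L95436 : sm gg N9963 = N12073 := rfl
theorem L95438 : sm ga N12073 = N9965 := ded_12_1 (flp_g L84390) L84381 L95436
theorem L95440 : sm ge N12073 = N10120 := ded_26_1 (flp_g L85202) (flp_e L84383) L95436
theorem L95442 : sm gf N12073 = N12051 := ded_29_2 (flp_g L95344) L95332 L95336 L95436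
theorem L95444 : sm gd N9964 = N12074 := rfl
theorem L95446 : sm gb N12074 = N12074 := ded_14_1 (flp_d L95444) L84389 L95444
theorem L95447 : sm gg N9964 = N12075 := rfl
theorem L95449 : sm gc N12075 = N9965 := ded_21_1 (flp_g L84390) L84385 L95447
theorem L95451 : sm ge N12075 = N10122 := ded_26_1 (flp_g L85211) (flp_e L84387) L95447
theorem L95453 : sm gf N9965 = N12076 := rfl
theorem L95455 : sm ga N12076 = N12051 := ded_11_1 (flp_f L95442) L95438 L95453
theorem L95457 : sm ge N12076 = N10123 := ded_25_1 (flp_f L85215) (flp_e L84392) L95453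
theorem L95459 : sm gg N12076 = N12049 := ded_29_3 (flp_a L95332) L84318 L84390 L95453
theorem L95461 : sm gb N9966 = N12077 := rfl
theorem L95463 : sm ge N12077 = N10124 := ded_15_2 (flp_b L85221) (flp_e L84396) L95461
theorem L95465 : sm gc N9966 = N12078 := rfl
theorem L95467 : sm ga N12078 = N9967 := ded_8_1 (flp_c L84398) L84394 L95465
theorem L95469 : sm ge N12078 = N10125 := ded_19_2 (flp_c L85223) (flp_e L84396) L95465
theorem L95471 : sm gf N9966 = N12079 := rfl
theorem L95473 : sm ga N12079 = N9968 := ded_11_1 (flp_f L84403) L84394 L95471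
theorem L95475 : sm ge N12079 = N10126 := ded_25_1 (flp_f L85227) (flp_e L84396) L95471
theorem L95477 : sm gg N12055 = N12079 := ded_29_1 (flp_f L95471) (flp_g L95356) (flp_a L95352) L95364
theorem L95479 : sm gd N9967 = N12080 := rfl
theorem L95481 : sm gb N12080 = N12080 := ded_14_1 (flp_d L95479) L84402 L95479
theorem L95482 : sm gf N9967 = N12081 := rfl
theorem L95484 : sm gc N12081 = N9968 := ded_20_1 (flp_f L84403) L84398 L95482
theorem L95486 : sm ge N12081 = N10128 := ded_25_1 (flp_f L85236) (flp_e L84400) L95482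
theorem L95488 : sm gg N9968 = N12082 := rfl
theorem L95490 : sm ga N12082 = N12055 := ded_12_1 L95477 L95473 L95488
theorem L95492 : sm ge N12082 = N10129 := ded_26_1 (flp_g L85240) (flp_e L84405) L95488
theorem L95494 : sm gf N12053 = N12082 := ded_29_0 (flp_g L95488) (flp_f L84403) (flp_g L84330) L95352
theorem L95496 : sm gb N9969 = N12083 := rfl
theorem L95498 : sm gd N12083 = N9971 := ded_14_2 (flp_b L84417) (flp_d L84409) L95496
theorem L95500 : sm ge N12083 = N12083 := ded_15_2 (flp_b L95496) L84411 L95496
theorem L95501 : sm gf N12083 = N12083 := ded_16_2 (flp_b L95496) (flp_f L84407) L24907 L84407 L95496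
theorem L95502 : sm gg N9969 = N12084 := rfl
theorem L95504 : sm gd N12084 = N9972 := ded_24_1 (flp_g L84420) (flp_d L84409) L95502
theorem L95506 : sm ge N12084 = N12084 := ded_26_1 (flp_g L95502) L84411 L95502
theorem L95507 : sm gf N12062 = N12084 := ded_29_0 (flp_g L95502) (flp_f L84407) L84412 (flp_a L95395)
theorem L95509 : sm gb N9970 = N12085 := rfl
theorem L95511 : sm gd N12085 = N9973 := ded_14_2 (flp_b L84426) (flp_d L84414) L95509
theorem L95513 : sm ge N12085 = N12085 := ded_15_2 (flp_b L95509) L84416 L95509
theorem L95514 : sm gg N12085 = N12085 := ded_17_2 (flp_b L95509) (flp_g L84412) L24907 L84412 L95509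
theorem L95515 : sm gf N9970 = N12086 := rfl
theorem L95517 : sm ga N12086 = N12084 := ded_11_1 (flp_f L95507) L95395 L95515
theorem L95519 : sm gc N12086 = N12084 := ded_20_1 (flp_f L95507) L95397 L95515
theorem L95521 : sm gd N12086 = N9974 := ded_23_1 (flp_f L84429) (flp_d L84414) L95515
theorem L95523 : sm ge N12086 = N12086 := ded_25_1 (flp_f L95515) L84416 L95515
theorem L95524 : sm gg N12086 = N12061 := ded_29_3 L95386 (flp_f L84407) L84412 L95515
theorem L95526 : sm ga N9971 = N12087 := rfl
theorem L95529 : sm gc N9971 = N12088 := rfl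
theorem L95531 : sm gf N12088 = N12088 := ded_20_2 (flp_c L95529) L84419 L95529
theorem L95532 : sm gb N12088 = N9976 := ded_13_1 (flp_c L84443) (flp_b L24916) (flp_c L24910) L84417 L95529
theorem L95534 : sm gg N9971 = N12089 := rfl
theorem L95536 : sm gb N9972 = N12090 := rfl
theorem L95538 : sm ga N9973 = N12091 := rfl
theorem L95540 : sm gg N12091 = N12091 := ded_12_2 (flp_a L95538) L84428 L95538
theorem L95541 : sm gc N9973 = N12092 := rfl
theorem L95543 : sm gg N12092 = N12092 := ded_21_2 (flp_c L95541) L84428 L95541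
theorem L95544 : sm gb N12092 = N9980 := ded_13_1 (flp_c L84461) (flp_b L24928) (flp_c L24914) L84426 L95541
theorem L95546 : sm gf N9973 = N12093 := rfl
theorem L95548 : sm gb N9974 = N12094 := rfl
theorem L95550 : sm gb N9975 = N12095 := rfl
theorem L95552 : sm gd N12095 = N9983 := ded_14_2 (flp_b L84473) (flp_d L84439) L95550
theorem L95554 : sm gc N9975 = N12096 := rfl
theorem L95556 : sm ga N12096 = N9976 := ded_8_1 (flp_c L84443) L84437 L95554
theorem L95558 : sm gf N12096 = N10000 := ded_20_2 (flp_c L84565) (flp_f L84441) L95554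
theorem L95560 : sm gd N9976 = N12097 := rfl
theorem L95562 : sm gf N12097 = N10002 := ded_23_2 (flp_d L84577) (flp_f L84445) L95560
theorem L95564 : sm gg N9976 = N12098 := rfl
theorem L95566 : sm gc N12098 = N9977 := ded_21_1 (flp_g L84447) L84443 L95564
theorem L95568 : sm gb N9977 = N12099 := rfl
theorem L95570 : sm gd N12099 = N9987 := ded_14_2 (flp_b L84496) (flp_d L84449) L95568
theorem L95572 : sm gg N12099 = N9978 := ded_17_2 (flp_b L84451) (flp_g L24922) L24916 L84447 L95568
theorem L95574 : sm ga N9978 = N12100 := rfl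
theorem L95576 : sm gd N12100 = N9988 := ded_9_2 (flp_a L84502) (flp_d L84453) L95574
theorem L95578 : sm gc N9978 = N12101 := rfl
theorem L95580 : sm gf N9978 = N12102 := rfl
theorem L95582 : sm gd N12102 = N9990 := ded_23_1 (flp_f L84511) (flp_d L84453) L95580
theorem L95584 : sm gb N12102 = N12070 := ded_16_1 (flp_f L95422) (flp_b L84377) L24926 L84451 L95580
theorem L95586 : sm gb N9979 = N12103 := rfl
theorem L95588 : sm gd N12103 = N9991 := ded_14_2 (flp_b L84517) (flp_d L84457) L95586
theorem L95590 : sm gc N9979 = N12104 := rfl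
theorem L95592 : sm ga N12104 = N9980 := ded_8_1 (flp_c L84461) L84455 L95590
theorem L95594 : sm gg N12104 = N10010 := ded_21_2 (flp_c L84615) (flp_g L84459) L95590
theorem L95596 : sm gd N9980 = N12105 := rfl
theorem L95598 : sm gg N12105 = N10012 := ded_24_2 (flp_d L84627) (flp_g L84463) L95596
theorem L95600 : sm gf N9980 = N12106 := rfl
theorem L95602 : sm gc N12106 = N9981 := ded_20_1 (flp_f L84465) L84461 L95600
theorem L95604 : sm gb N9981 = N12107 := rfl
theorem L95606 : sm gd N12107 = N9995 := ded_14_2 (flp_b L84540) (flp_d L84467) L95604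
theorem L95608 : sm gf N12107 = N9982 := ded_16_2 (flp_b L84469) (flp_f L24934) L24928 L84465 L95604
theorem L95610 : sm ga N9982 = N12108 := rfl
theorem L95612 : sm gd N12108 = N9996 := ded_9_2 (flp_a L84546) (flp_d L84471) L95610
theorem L95614 : sm gc N9982 = N12109 := rfl
theorem L95616 : sm gg N9982 = N12110 := rfl
theorem L95618 : sm gd N12110 = N9998 := ded_24_1 (flp_g L84555) (flp_d L84471) L95616
theorem L95620 : sm gb N12110 = N12067 := ded_17_1 (flp_g L95412) (flp_b L84373) (flp_g L24940) L84469 L95616
theorem L95622 : sm gf N9983 = N12111 := rfl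
theorem L95624 : sm ge N12111 = N10132 := ded_25_1 (flp_f L85250) (flp_e L84475) L95622
theorem L95626 : sm gb N12111 = N10021 := ded_16_1 (flp_f L84677) (flp_b L25016) (flp_f L24946) L84473 L95622
theorem L95628 : sm gg N9983 = N12112 := rfl
theorem L95630 : sm ge N12112 = N10133 := ded_26_1 (flp_g L85254) (flp_e L84475) L95628
theorem L95632 : sm gb N9984 = N12113 := rfl
theorem L95634 : sm ge N12113 = N10134 := ded_15_2 (flp_b L85256) (flp_e L84481) L95632
theorem L95636 : sm gd N9984 = N12114 := rfl
theorem L95638 : sm ga N12114 = N9985 := ded_9_1 (flp_d L84485) (flp_a L84479) L95636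
theorem L95640 : sm gf N12114 = N10024 := ded_23_2 (flp_d L84689) (flp_f L84483) L95636
theorem L95642 : sm gc N9985 = N12115 := rfl
theorem L95644 : sm gf N12115 = N10027 := ded_20_2 (flp_c L84707) (flp_f L84488) L95642
theorem L95646 : sm ge N9985 = N12116 := rfl
theorem L95648 : sm gb N12116 = N12116 := ded_15_1 (flp_e L95646) L84487 L95646
theorem L95649 : sm gf N12116 = N10028 := ded_25_2 (flp_e L84709) (flp_f L84488) L95646
theorem L95651 : sm gd N12116 = N10137 := ded_22_1 (flp_e L85268) (flp_d L26711) (flp_e L24950) L84485 L95646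
theorem L95653 : sm gg N9985 = N12117 := rfl
theorem L95655 : sm gd N12117 = N9986 := ded_24_1 (flp_g L84490) L84485 L95653
theorem L95657 : sm gb N9986 = N12118 := rfl
theorem L95659 : sm ge N12118 = N10139 := ded_15_2 (flp_b L85277) (flp_e L84494) L95657
theorem L95661 : sm gg N12118 = N12118 := ded_17_2 (flp_b L95657) (flp_g L84490) L24954 L84490 L95657
theorem L95662 : sm ga N9987 = N12119 := rfl
theorem L95664 : sm ge N12119 = N10140 := ded_10_2 (flp_a L85280) (flp_e L84498) L95662
theorem L95666 : sm gg N12119 = N9988 := ded_12_2 (flp_a L84502) (flp_g L84500) L95662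
theorem L95668 : sm gc N9987 = N12120 := rfl
theorem L95670 : sm ge N12120 = N10141 := ded_19_2 (flp_c L85284) (flp_e L84498) L95668
theorem L95672 : sm gg N12120 = N9989 := ded_21_2 (flp_c L84506) (flp_g L84500) L95668
theorem L95674 : sm gf N9987 = N12121 := rfl
theorem L95676 : sm ge N12121 = N10142 := ded_25_1 (flp_f L85288) (flp_e L84498) L95674
theorem L95678 : sm gb N9988 = N12122 := rfl
theorem L95680 : sm ge N12122 = N10143 := ded_15_2 (flp_b L85290) (flp_e L84504) L95678
theorem L95682 : sm gc N9988 = N12123 := rfl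
theorem L95684 : sm ga N12123 = N9989 := ded_8_1 (flp_c L84506) L84502 L95682
theorem L95686 : sm ge N12123 = N10144 := ded_19_2 (flp_c L85292) (flp_e L84504) L95682
theorem L95688 : sm gf N9988 = N12124 := rfl
theorem L95690 : sm ga N12124 = N9990 := ded_11_1 (flp_f L84511) L84502 L95688
theorem L95692 : sm ge N12124 = N10145 := ded_25_1 (flp_f L85296) (flp_e L84504) L95688
theorem L95694 : sm gg N12121 = N12124 := ded_29_1 (flp_f L95688) (flp_g L95666) (flp_a L95662) L95674
theorem L95696 : sm gd N9989 = N12125 := rfl
theorem L95698 : sm gb N12125 = N12125 := ded_14_1 (flp_d L95696) L84510 L95696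
theorem L95699 : sm gf N9989 = N12126 := rfl
theorem L95701 : sm gc N12126 = N9990 := ded_20_1 (flp_f L84511) L84506 L95699
theorem L95703 : sm ge N12126 = N10147 := ded_25_1 (flp_f L85305) (flp_e L84508) L95699
theorem L95705 : sm gg N9990 = N12127 := rfl
theorem L95707 : sm ga N12127 = N12121 := ded_12_1 L95694 L95690 L95705
theorem L95709 : sm ge N12127 = N10148 := ded_26_1 (flp_g L85309) (flp_e L84513) L95705
theorem L95711 : sm gf N12119 = N12127 := ded_29_0 (flp_g L95705) (flp_f L84511) (flp_g L84500) L95662
theorem L95713 : sm ga N9991 = N12128 := rfl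
theorem L95715 : sm ge N12128 = N10149 := ded_10_2 (flp_a L85315) (flp_e L84519) L95713
theorem L95717 : sm gc N9991 = N12129 := rfl
theorem L95719 : sm ge N12129 = N10150 := ded_19_2 (flp_c L85317) (flp_e L84519) L95717
theorem L95721 : sm gf N9991 = N12130 := rfl
theorem L95723 : sm ge N12130 = N10151 := ded_25_1 (flp_f L85319) (flp_e L84519) L95721
theorem L95725 : sm gg N9991 = N12131 := rfl
theorem L95727 : sm ge N12131 = N10152 := ded_26_1 (flp_g L85321) (flp_e L84519) L95725
theorem L95729 : sm gb N12131 = N10045 := ded_17_1 (flp_g L84803) (flp_b L25074) (flp_g L24967) L84517 L95725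
theorem L95731 : sm gb N9992 = N12132 := rfl
theorem L95733 : sm ge N12132 = N10153 := ded_15_2 (flp_b L85325) (flp_e L84525) L95731
theorem L95735 : sm gd N9992 = N12133 := rfl
theorem L95737 : sm ga N12133 = N9993 := ded_9_1 (flp_d L84529) (flp_a L84523) L95735
theorem L95739 : sm gg N12133 = N10047 := ded_24_2 (flp_d L84811) (flp_g L84527) L95735
theorem L95741 : sm gc N9993 = N12134 := rfl
theorem L95743 : sm gg N12134 = N10050 := ded_21_2 (flp_c L84829) (flp_g L84532) L95741
theorem L95745 : sm ge N9993 = N12135 := rfl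
theorem L95747 : sm gb N12135 = N12135 := ded_15_1 (flp_e L95745) L84531 L95745
theorem L95748 : sm gg N12135 = N10051 := ded_26_2 (flp_e L84831) (flp_g L84532) L95745
theorem L95750 : sm gd N12135 = N10156 := ded_22_1 (flp_e L85337) (flp_d L26741) (flp_e L24971) L84529 L95745
theorem L95752 : sm gf N9993 = N12136 := rfl
theorem L95754 : sm gd N12136 = N9994 := ded_23_1 (flp_f L84534) L84529 L95752
theorem L95756 : sm gb N9994 = N12137 := rfl
theorem L95758 : sm ge N12137 = N10158 := ded_15_2 (flp_b L85346) (flp_e L84538) L95756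
theorem L95760 : sm gf N12137 = N12137 := ded_16_2 (flp_b L95756) (flp_f L84534) L24975 L84534 L95756
theorem L95761 : sm ga N9995 = N12138 := rfl
theorem L95763 : sm ge N12138 = N10159 := ded_10_2 (flp_a L85349) (flp_e L84542) L95761
theorem L95765 : sm gf N12138 = N9996 := ded_11_2 (flp_a L84546) (flp_f L84544) L95761
theorem L95767 : sm gc N9995 = N12139 := rfl
theorem L95769 : sm ge N12139 = N10160 := ded_19_2 (flp_c L85353) (flp_e L84542) L95767
theorem L95771 : sm gf N12139 = N9997 := ded_20_2 (flp_c L84550) (flp_f L84544) L95767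
theorem L95773 : sm gg N9995 = N12140 := rfl
theorem L95775 : sm ge N12140 = N10161 := ded_26_1 (flp_g L85357) (flp_e L84542) L95773
theorem L95777 : sm gb N9996 = N12141 := rfl
theorem L95779 : sm ge N12141 = N10162 := ded_15_2 (flp_b L85359) (flp_e L84548) L95777
theorem L95781 : sm gc N9996 = N12142 := rfl
theorem L95783 : sm ga N12142 = N9997 := ded_8_1 (flp_c L84550) L84546 L95781
theorem L95785 : sm ge N12142 = N10163 := ded_19_2 (flp_c L85361) (flp_e L84548) L95781
theorem L95787 : sm gg N9996 = N12143 := rfl
theorem L95789 : sm ga N12143 = N9998 := ded_12_1 (flp_g L84555) L84546 L95787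
theorem L95791 : sm ge N12143 = N10164 := ded_26_1 (flp_g L85365) (flp_e L84548) L95787
theorem L95793 : sm gf N12143 = N12140 := ded_29_2 (flp_g L95773) L95761 L95765 L95787
theorem L95795 : sm gd N9997 = N12144 := rfl
theorem L95797 : sm gb N12144 = N12144 := ded_14_1 (flp_d L95795) L84554 L95795
theorem L95798 : sm gg N9997 = N12145 := rfl
theorem L95800 : sm gc N12145 = N9998 := ded_21_1 (flp_g L84555) L84550 L95798
theorem L95802 : sm ge N12145 = N10166 := ded_26_1 (flp_g L85374) (flp_e L84552) L95798
theorem L95804 : sm gf N9998 = N12146 := rfl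
theorem L95806 : sm ga N12146 = N12140 := ded_11_1 (flp_f L95793) L95789 L95804
theorem L95808 : sm ge N12146 = N10167 := ded_25_1 (flp_f L85378) (flp_e L84557) L95804
theorem L95810 : sm gg N12146 = N12138 := ded_29_3 (flp_a L95761) L84544 L84555 L95804
theorem L95812 : sm ga N9999 = N12147 := rfl
theorem L95814 : sm gd N12147 = N10019 := ded_9_2 (flp_a L84669) (flp_d L84563) L95812
theorem L95816 : sm gc N9999 = N12148 := rfl
theorem L95818 : sm gf N9999 = N12149 := rfl
theorem L95820 : sm gd N12149 = N10021 := ded_23_1 (flp_f L84677) (flp_d L84563) L95818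
theorem L95822 : sm gg N9999 = N12150 := rfl
theorem L95824 : sm gd N12150 = N10022 := ded_24_1 (flp_g L84681) (flp_d L84563) L95822
theorem L95826 : sm gb N10000 = N12151 := rfl
theorem L95828 : sm gd N10000 = N12152 := rfl
theorem L95830 : sm ga N12152 = N10002 := ded_9_1 (flp_d L84577) (flp_a L84567) L95828
theorem L95832 : sm gg N10000 = N12153 := rfl
theorem L95834 : sm ga N12153 = N10003 := ded_12_1 (flp_g L84580) (flp_a L84567) L95832
theorem L95836 : sm gc N12153 = N10001 := ded_21_1 (flp_g L84569) L84565 L95832
theorem L95838 : sm gf N12153 = N12098 := ded_29_2 (flp_g L95564) (flp_a L95556) L95558 L95832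
theorem L95840 : sm gb N10001 = N12154 := rfl
theorem L95842 : sm gd N12154 = N10026 := ded_14_2 (flp_b L84703) (flp_d L84573) L95840
theorem L95844 : sm gc N10002 = N12155 := rfl
theorem L95846 : sm ge N10002 = N12156 := rfl
theorem L95848 : sm gb N12156 = N12156 := ded_15_1 (flp_e L95846) L84579 L95846
theorem L95849 : sm gg N10002 = N12157 := rfl
theorem L95851 : sm gd N12157 = N10003 := ded_24_1 (flp_g L84580) L84577 L95849
theorem L95853 : sm gb N10003 = N12158 := rfl
theorem L95855 : sm gg N12158 = N12158 := ded_17_2 (flp_b L95853) (flp_g L84580) L24990 L84580 L95853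
theorem L95856 : sm gf N10003 = N12159 := rfl
theorem L95858 : sm ga N12159 = N12098 := ded_11_1 (flp_f L95838) L95834 L95856
theorem L95860 : sm gc N12159 = N10005 := ded_20_1 (flp_f L84590) (flp_c L84582) L95856
theorem L95862 : sm gg N12159 = N12096 := ded_29_3 L95556 L84445 L84580 L95856
theorem L95864 : sm ga N10004 = N12160 := rfl
theorem L95866 : sm gd N12160 = N10032 := ded_9_2 (flp_a L84735) (flp_d L84586) L95864
theorem L95868 : sm gg N12160 = N10006 := ded_12_2 (flp_a L84598) (flp_g L84588) L95864
theorem L95870 : sm gc N10004 = N12161 := rfl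
theorem L95872 : sm gg N12161 = N10007 := ded_21_2 (flp_c L84602) (flp_g L84588) L95870
theorem L95874 : sm gf N10004 = N12162 := rfl
theorem L95876 : sm gd N12162 = N10034 := ded_23_1 (flp_f L84747) (flp_d L84586) L95874
theorem L95878 : sm gb N10005 = N12163 := rfl
theorem L95880 : sm gd N12163 = N10035 := ded_14_2 (flp_b L84751) (flp_d L84594) L95878
theorem L95882 : sm gb N10006 = N12164 := rfl
theorem L95884 : sm gd N12164 = N10036 := ded_14_2 (flp_b L84755) (flp_d L84600) L95882
theorem L95886 : sm gc N10006 = N12165 := rfl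
theorem L95888 : sm ga N12165 = N10007 := ded_8_1 (flp_c L84602) L84598 L95886
theorem L95890 : sm gf N10006 = N12166 := rfl
theorem L95892 : sm ga N12166 = N10008 := ded_11_1 (flp_f L84605) L84598 L95890
theorem L95894 : sm gd N12166 = N10038 := ded_23_1 (flp_f L84765) (flp_d L84600) L95890
theorem L95896 : sm gg N12162 = N12166 := ded_29_1 (flp_f L95890) (flp_g L95868) (flp_a L95864) L95874
theorem L95898 : sm gd N10007 = N12167 := rfl
theorem L95900 : sm gb N12167 = N12167 := ded_14_1 (flp_d L95898) L84604 L95898
theorem L95901 : sm gf N10007 = N12168 := rfl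
theorem L95903 : sm gc N12168 = N10008 := ded_20_1 (flp_f L84605) L84602 L95901
theorem L95905 : sm gg N10008 = N12169 := rfl
theorem L95907 : sm ga N12169 = N12162 := ded_12_1 L95896 L95892 L95905
theorem L95909 : sm gd N12169 = N10041 := ded_24_1 (flp_g L84783) (flp_d L84607) L95905
theorem L95911 : sm gf N12160 = N12169 := ded_29_0 (flp_g L95905) (flp_f L84605) (flp_g L84588) L95864
theorem L95913 : sm ga N10009 = N12170 := rfl
theorem L95915 : sm gd N12170 = N10042 := ded_9_2 (flp_a L84791) (flp_d L84613) L95913
theorem L95917 : sm gc N10009 = N12171 := rfl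
theorem L95919 : sm gf N10009 = N12172 := rfl
theorem L95921 : sm gd N12172 = N10044 := ded_23_1 (flp_f L84799) (flp_d L84613) L95919
theorem L95923 : sm gg N10009 = N12173 := rfl
theorem L95925 : sm gd N12173 = N10045 := ded_24_1 (flp_g L84803) (flp_d L84613) L95923
theorem L95927 : sm gb N10010 = N12174 := rfl
theorem L95929 : sm gd N10010 = N12175 := rfl
theorem L95931 : sm ga N12175 = N10012 := ded_9_1 (flp_d L84627) (flp_a L84617) L95929
theorem L95933 : sm gf N10010 = N12176 := rfl
theorem L95935 : sm ga N12176 = N10013 := ded_11_1 (flp_f L84630) (flp_a L84617) L95933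
theorem L95937 : sm gc N12176 = N10011 := ded_20_1 (flp_f L84619) L84615 L95933
theorem L95939 : sm gg N12106 = N12176 := ded_29_1 (flp_f L95933) (flp_g L95594) L95592 L95600
theorem L95941 : sm gb N10011 = N12177 := rfl
theorem L95943 : sm gd N12177 = N10049 := ded_14_2 (flp_b L84825) (flp_d L84623) L95941
theorem L95945 : sm gc N10012 = N12178 := rfl
theorem L95947 : sm ge N10012 = N12179 := rfl
theorem L95949 : sm gb N12179 = N12179 := ded_15_1 (flp_e L95947) L84629 L95947
theorem L95950 : sm gf N10012 = N12180 := rfl
theorem L95952 : sm gd N12180 = N10013 := ded_23_1 (flp_f L84630) L84627 L95950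
theorem L95954 : sm gb N10013 = N12181 := rfl
theorem L95956 : sm gf N12181 = N12181 := ded_16_2 (flp_b L95954) (flp_f L84630) L25005 L84630 L95954
theorem L95957 : sm gg N10013 = N12182 := rfl
theorem L95959 : sm ga N12182 = N12106 := ded_12_1 L95939 L95935 L95957
theorem L95961 : sm gc N12182 = N10015 := ded_21_1 (flp_g L84642) (flp_c L84632) L95957
theorem L95963 : sm gf N12104 = N12182 := ded_29_0 (flp_g L95957) (flp_f L84630) (flp_g L84463) (flp_a L95592)
theorem L95965 : sm ga N10014 = N12183 := rfl
theorem L95967 : sm gd N12183 = N10055 := ded_9_2 (flp_a L84857) (flp_d L84636) L95965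
theorem L95969 : sm ge N12183 = N12166 := ded_10_2 L95892 (flp_e L84638) L95965
theorem L95971 : sm gf N12183 = N10016 := ded_11_2 (flp_a L84650) (flp_f L84640) L95965
theorem L95973 : sm gc N10014 = N12184 := rfl
theorem L95975 : sm ge N12184 = N12168 := ded_19_2 L95903 (flp_e L84638) L95973
theorem L95977 : sm gf N12184 = N10017 := ded_20_2 (flp_c L84656) (flp_f L84640) L95973
theorem L95979 : sm gg N10014 = N12185 := rfl
theorem L95981 : sm gd N12185 = N10057 := ded_24_1 (flp_g L84869) (flp_d L84636) L95979
theorem L95983 : sm ge N12185 = N12169 := ded_26_1 (flp_g L95905) (flp_e L84638) L95979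
theorem L95985 : sm gb N10015 = N12186 := rfl
theorem L95987 : sm gd N12186 = N10058 := ded_14_2 (flp_b L84873) (flp_d L84646) L95985
theorem L95989 : sm gb N10016 = N12187 := rfl
theorem L95991 : sm gd N12187 = N10059 := ded_14_2 (flp_b L84877) (flp_d L84652) L95989
theorem L95993 : sm ge N12187 = N12164 := ded_15_2 (flp_b L95882) (flp_e L84654) L95989
theorem L95995 : sm gc N10016 = N12188 := rfl
theorem L95997 : sm ga N12188 = N10017 := ded_8_1 (flp_c L84656) L84650 L95995
theorem L95999 : sm ge N12188 = N12165 := ded_19_2 (flp_c L95886) (flp_e L84654) L95995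
theorem L96001 : sm gg N10016 = N12189 := rfl
theorem L96003 : sm ga N12189 = N10018 := ded_12_1 (flp_g L84661) L84650 L96001
theorem L96005 : sm gd N12189 = N10061 := ded_24_1 (flp_g L84887) (flp_d L84652) L96001
theorem L96007 : sm ge N12189 = N12160 := ded_26_1 L95868 (flp_e L84654) L96001
theorem L96009 : sm gf N12189 = N12185 := ded_29_2 (flp_g L95979) L95965 L95971 L96001
theorem L96011 : sm gd N10017 = N12190 := rfl
theorem L96013 : sm gb N12190 = N12190 := ded_14_1 (flp_d L96011) L84660 L96011
theorem L96014 : sm gg N10017 = N12191 := rfl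
theorem L96016 : sm gc N12191 = N10018 := ded_21_1 (flp_g L84661) L84656 L96014
theorem L96018 : sm ge N12191 = N12161 := ded_26_1 L95872 (flp_e L84658) L96014
theorem L96020 : sm gf N10018 = N12192 := rfl
theorem L96022 : sm ga N12192 = N12185 := ded_11_1 (flp_f L96009) L96003 L96020
theorem L96024 : sm gd N12192 = N10064 := ded_23_1 (flp_f L84905) (flp_d L84663) L96020
theorem L96026 : sm ge N12192 = N12162 := ded_25_1 (flp_f L95874) (flp_e L84665) L96020
theorem L96028 : sm gg N12192 = N12183 := ded_29_3 (flp_a L95965) L84640 L84661 L96020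
theorem L96030 : sm gf N10019 = N12193 := rfl
theorem L96032 : sm ga N12193 = N10021 := ded_11_1 (flp_f L84677) L84669 L96030
theorem L96034 : sm ge N12193 = N10169 := ded_25_1 (flp_f L85388) (flp_e L84671) L96030
theorem L96036 : sm gg N10019 = N12194 := rfl
theorem L96038 : sm ga N12194 = N10022 := ded_12_1 (flp_g L84681) L84669 L96036
theorem L96040 : sm ge N12194 = N10170 := ded_26_1 (flp_g L85392) (flp_e L84671) L96036
theorem L96042 : sm gb N10020 = N12195 := rfl
theorem L96044 : sm ge N12195 = N10171 := ded_15_2 (flp_b L85396) (flp_e L84675) L96042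
theorem L96046 : sm gc N12195 = N10023 := ded_13_2 (flp_b L84685) (flp_c L25020) L25016 L84673 L96042
theorem L96048 : sm gd N10020 = N12196 := rfl
theorem L96050 : sm gf N10020 = N12197 := rfl
theorem L96052 : sm gc N12197 = N10021 := ded_20_1 (flp_f L84677) L84673 L96050
theorem L96054 : sm ge N12197 = N10173 := ded_25_1 (flp_f L85402) (flp_e L84675) L96050
theorem L96056 : sm gg N10020 = N12198 := rfl
theorem L96058 : sm gc N12198 = N10022 := ded_21_1 (flp_g L84681) L84673 L96056
theorem L96060 : sm ge N12198 = N10174 := ded_26_1 (flp_g L85406) (flp_e L84675) L96056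
theorem L96062 : sm gg N10021 = N12199 := rfl
theorem L96064 : sm ge N12199 = N10175 := ded_26_1 (flp_g L85410) (flp_e L84679) L96062
theorem L96066 : sm gf N12194 = N12199 := ded_29_0 (flp_g L96062) (flp_f L84677) L84681 (flp_a L96038)
theorem L96068 : sm gb N10022 = N12200 := rfl
theorem L96070 : sm ge N12200 = N10176 := ded_15_2 (flp_b L85414) (flp_e L84683) L96068
theorem L96072 : sm gg N12200 = N10026 := ded_17_2 (flp_b L84703) (flp_g L25026) L25016 L84681 L96068
theorem L96074 : sm gf N10022 = N12201 := rfl
theorem L96076 : sm ga N12201 = N12199 := ded_11_1 (flp_f L96066) L96038 L96074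
theorem L96078 : sm ge N12201 = N10177 := ded_25_1 (flp_f L85418) (flp_e L84683) L96074
theorem L96080 : sm gg N12201 = N12193 := ded_29_3 L96032 (flp_f L84677) L84681 L96074
theorem L96082 : sm ga N10023 = N12202 := rfl
theorem L96084 : sm ge N12202 = N10178 := ded_10_2 (flp_a L85424) (flp_e L84687) L96082
theorem L96086 : sm gb N12202 = N12202 := ded_7_2 (flp_a L96082) (flp_b L84685) L25022 L12063 L50645 (flp_b L12063) (flp_a L25022) L84685 L96082
theorem L96087 : sm gd N10023 = N12203 := rfl
theorem L96089 : sm gb N12203 = N10024 := ded_14_1 (flp_d L84689) L84685 L96087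
theorem L96091 : sm gf N10023 = N12204 := rfl
theorem L96093 : sm ge N12204 = N10180 := ded_25_1 (flp_f L85431) (flp_e L84687) L96091
theorem L96095 : sm gg N10023 = N12205 := rfl
theorem L96097 : sm ge N12205 = N10181 := ded_26_1 (flp_g L85433) (flp_e L84687) L96095
theorem L96099 : sm gc N10024 = N12206 := rfl
theorem L96101 : sm ga N12206 = N10027 := ded_8_1 (flp_c L84707) (flp_a L84691) L96099
theorem L96103 : sm gd N12155 = N12206 := ded_28_1 (flp_c L96099) (flp_d L84689) (flp_c L25020) (flp_d L24986) L84565 L95828 L95830 L95844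
theorem L96105 : sm ge N10024 = N12207 := rfl
theorem L96107 : sm ga N12207 = N10028 := ded_10_1 (flp_e L84709) (flp_a L84691) L96105
theorem L96109 : sm gd N12207 = N10183 := ded_22_1 (flp_e L85441) (flp_d L26773) (flp_e L25024) L84689 L96105
theorem L96111 : sm gg N10024 = N12208 := rfl
theorem L96113 : sm ga N12208 = N10029 := ded_12_1 (flp_g L84715) (flp_a L84691) L96111
theorem L96115 : sm gd N12208 = N10025 := ded_24_1 (flp_g L84693) L84689 L96111
theorem L96117 : sm gf N12208 = N12117 := ded_29_2 (flp_g L95653) (flp_a L95638) L95640 L96111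
theorem L96119 : sm gb N10025 = N12209 := rfl
theorem L96121 : sm ge N12209 = N10185 := ded_15_2 (flp_b L85453) (flp_e L84699) L96119
theorem L96123 : sm ga N10026 = N12210 := rfl
theorem L96125 : sm ge N12210 = N10186 := ded_10_2 (flp_a L85455) (flp_e L84705) L96123
theorem L96127 : sm gc N10026 = N12211 := rfl
theorem L96129 : sm ge N12211 = N10187 := ded_19_2 (flp_c L85457) (flp_e L84705) L96127
theorem L96131 : sm gf N10026 = N12212 := rfl
theorem L96133 : sm ge N12212 = N10188 := ded_25_1 (flp_f L85459) (flp_e L84705) L96131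
theorem L96135 : sm gb N12212 = N12121 := ded_16_1 (flp_f L95674) (flp_b L84496) (flp_f L25032) L84703 L96131
theorem L96137 : sm gb N10027 = N12213 := rfl
theorem L96139 : sm gc N12213 = N10065 := ded_13_2 (flp_b L84913) (flp_c L25180) (flp_b L25036) L84707 L96137
theorem L96141 : sm gd N10027 = N12214 := rfl
theorem L96143 : sm ga N12214 = N12155 := ded_9_1 L96103 L96101 L96141
theorem L96145 : sm gc N12152 = N12214 := ded_28_0 (flp_d L96141) (flp_c L84707) (flp_d L25034) (flp_c L12059) (flp_d L12031) L24988 L84577 (flp_a L95830)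
theorem L96147 : sm gc N12196 = N10863 := ded_32_19 L89186 (flp_d L38798) (flp_c L18445) L8949 L8981 L64683 L8983 L69504 L8753 L17989 L69576 L64871 (flp_d L9285) (flp_c L4683) (flp_d L4587) L69391 (flp_b L4405) L2288 L1180 (flp_d L1359) L1358 L2641 L2643 L2709 L5215 L69605 L2853 (flp_d L1508) (flp_c L711) L319 L328 L331 L330 L737 L1552 L3020 (flp_c L3026) L65045 (flp_d L2967) (flp_c L1504) L709 (flp_c L334) (flp_b L255) (flp_d L249) (flp_c L556) (flp_d L1196) L66623 L2370 L2372 L2430 L4693 L69556 L8761 (flp_d L5215) (flp_c L2709) (flp_d L2643) L69756 L69761 (flp_e L5304) (flp_d L10509) L21809 L45381 L45629 (flp_b L93045) (flp_d L93043) (flp_c L80349) (flp_d L84915) (flp_c L96139) (flp_b L96137) L96141 (flp_c L96145) (flp_d L95828) (flp_c L84565) L84561 L84563 L84673 L96048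
theorem L96149 : N10852 = N12148 := coi_28_2 (flp_c L95816) L84563 L84673 L96048 L96147 (flp_d L89184) (flp_a L89172) (flp_c L89170) (flp_d L89138)
theorem L96150 : N12148 = N10852 := (eqc rfl L96149 rfl).symm
theorem L96151 : sm gc N10852 = N9999 := trfs L96150 (flp_c L95816) rfl
theorem L96153 : N12147 = N10853 := coi_28_0 (flp_c L89140) L38718 L38744 L89184 (flp_c L96147) (flp_d L96048) (flp_c L84673) (flp_d L84563) L95812
theorem L96154 : N12147 = N10853 := eqc rfl L96153 rfl
theorem L96155 : sm ga N10853 = N9999 := trfs L96154 (flp_a L95812) rfl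
theorem L96157 : sm gd N10853 = N10019 := trfs L96154 L95814 rfl
theorem L96159 : sm ge N10027 = N12215 := rfl
theorem L96161 : sm gc N12215 = N10028 := ded_19_1 (flp_e L84709) L84707 L96159
theorem L96163 : sm gg N10027 = N12216 := rfl
theorem L96165 : sm gc N12216 = N10029 := ded_21_1 (flp_g L84715) L84707 L96163
theorem L96167 : sm gg N10028 = N12217 := rfl
theorem L96169 : sm gd N12217 = N10192 := ded_24_1 (flp_g L85479) (flp_d L84713) L96167
theorem L96171 : sm ge N12217 = N10029 := ded_26_1 (flp_g L84715) L84709 L96167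
theorem L96173 : sm gb N10029 = N12218 := rfl
theorem L96175 : sm gd N12218 = N10030 := ded_14_2 (flp_b L84719) (flp_d L84717) L96173
theorem L96177 : sm gg N12218 = N10065 := ded_17_2 (flp_b L84913) L80347 (flp_b L25036) L84715 L96173
theorem L96179 : sm gf N10029 = N12219 := rfl
theorem L96181 : sm ga N12219 = N12117 := ded_11_1 (flp_f L96117) L96113 L96179
theorem L96183 : sm gd N12219 = N10031 := ded_23_1 (flp_f L84725) (flp_d L84717) L96179
theorem L96185 : sm gg N12219 = N12114 := ded_29_3 L95638 L84488 L84715 L96179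
theorem L96187 : sm ga N10030 = N12220 := rfl
theorem L96189 : sm ge N12220 = N10195 := ded_10_2 (flp_a L85497) (flp_e L84721) L96187
theorem L96191 : sm gg N12220 = N10067 := ded_12_2 (flp_a L84927) (flp_g L84723) L96187
theorem L96193 : sm gf N10030 = N12221 := rfl
theorem L96195 : sm ge N12221 = N10197 := ded_25_1 (flp_f L85507) (flp_e L84721) L96193
theorem L96197 : sm gb N10031 = N12222 := rfl
theorem L96199 : sm ge N12222 = N10198 := ded_15_2 (flp_b L85509) (flp_e L84731) L96197
theorem L96201 : sm gb N10032 = N12223 := rfl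
theorem L96203 : sm ge N12223 = N10199 := ded_15_2 (flp_b L85511) (flp_e L84737) L96201
theorem L96205 : sm gc N10032 = N12224 := rfl
theorem L96207 : sm ga N12224 = N10033 := ded_8_1 (flp_c L84741) L84735 L96205
theorem L96209 : sm ge N12224 = N10200 := ded_19_2 (flp_c L85513) (flp_e L84737) L96205
theorem L96211 : sm gg N12224 = N10037 := ded_21_2 (flp_c L84759) (flp_g L84739) L96205
theorem L96213 : sm gd N10033 = N12225 := rfl
theorem L96215 : sm gg N12225 = N10039 := ded_24_2 (flp_d L84773) (flp_g L84745) L96213
theorem L96217 : sm gf N10033 = N12226 := rfl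
theorem L96219 : sm gc N12226 = N10034 := ded_20_1 (flp_f L84747) L84741 L96217
theorem L96221 : sm ge N12226 = N10202 := ded_25_1 (flp_f L85523) (flp_e L84743) L96217
theorem L96223 : sm gb N10034 = N12227 := rfl
theorem L96225 : sm ge N12227 = N10203 := ded_15_2 (flp_b L85527) (flp_e L84749) L96223
theorem L96227 : sm gf N12227 = N10035 := ded_16_2 (flp_b L84751) (flp_f L25050) L25044 L84747 L96223
theorem L96229 : sm ga N10035 = N12228 := rfl
theorem L96231 : sm ge N12228 = N10204 := ded_10_2 (flp_a L85531) (flp_e L84753) L96229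
theorem L96233 : sm gc N10035 = N12229 := rfl
theorem L96235 : sm ge N12229 = N10205 := ded_19_2 (flp_c L85533) (flp_e L84753) L96233
theorem L96237 : sm gg N10035 = N12230 := rfl
theorem L96239 : sm ge N12230 = N10206 := ded_26_1 (flp_g L85535) (flp_e L84753) L96237
theorem L96241 : sm gb N12230 = N12112 := ded_17_1 (flp_g L95628) (flp_b L84473) (flp_g L25056) L84751 L96237
theorem L96243 : sm ga N10036 = N12231 := rfl
theorem L96245 : sm ge N12231 = N10207 := ded_10_2 (flp_a L85539) (flp_e L84757) L96243
theorem L96247 : sm gc N10036 = N12232 := rfl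
theorem L96249 : sm ge N12232 = N10208 := ded_19_2 (flp_c L85541) (flp_e L84757) L96247
theorem L96251 : sm gf N10036 = N12233 := rfl
theorem L96253 : sm ge N12233 = N10209 := ded_25_1 (flp_f L85543) (flp_e L84757) L96251
theorem L96255 : sm gg N10036 = N12234 := rfl
theorem L96257 : sm ge N12234 = N10210 := ded_26_1 (flp_g L85545) (flp_e L84757) L96255
theorem L96259 : sm gb N10037 = N12235 := rfl
theorem L96261 : sm ge N12235 = N10211 := ded_15_2 (flp_b L85547) (flp_e L84763) L96259
theorem L96263 : sm gd N10037 = N12236 := rfl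
theorem L96265 : sm ga N12236 = N10039 := ded_9_1 (flp_d L84773) (flp_a L84761) L96263
theorem L96267 : sm gf N10037 = N12237 := rfl
theorem L96269 : sm ga N12237 = N10040 := ded_11_1 (flp_f L84777) (flp_a L84761) L96267
theorem L96271 : sm gc N12237 = N10038 := ded_20_1 (flp_f L84765) L84759 L96267
theorem L96273 : sm ge N12237 = N10213 := ded_25_1 (flp_f L85553) (flp_e L84763) L96267
theorem L96275 : sm gg N12226 = N12237 := ded_29_1 (flp_f L96267) (flp_g L96211) L96207 L96217
theorem L96277 : sm gb N10038 = N12238 := rfl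
theorem L96279 : sm ge N12238 = N10214 := ded_15_2 (flp_b L85561) (flp_e L84769) L96277
theorem L96281 : sm gc N10039 = N12239 := rfl
theorem L96283 : sm ge N10039 = N12240 := rfl
theorem L96285 : sm gb N12240 = N10074 := ded_15_1 (flp_e L84974) (flp_b L84775) L96283
theorem L96287 : sm gd N12240 = N10216 := ded_22_1 (flp_e L85565) (flp_d L26833) (flp_e L25064) L84773 L96283
theorem L96289 : sm gf N10039 = N12241 := rfl
theorem L96291 : sm gd N12241 = N10040 := ded_23_1 (flp_f L84777) L84773 L96289
theorem L96293 : sm gg N10040 = N12242 := rfl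
theorem L96295 : sm ga N12242 = N12226 := ded_12_1 L96275 L96269 L96293
theorem L96297 : sm gc N12242 = N10041 := ded_21_1 (flp_g L84783) (flp_c L84779) L96293
theorem L96299 : sm ge N12242 = N10218 := ded_26_1 (flp_g L85573) (flp_e L84781) L96293
theorem L96301 : sm gf N12224 = N12242 := ded_29_0 (flp_g L96293) (flp_f L84777) (flp_g L84745) (flp_a L96207)
theorem L96303 : sm gb N10041 = N12243 := rfl
theorem L96305 : sm ge N12243 = N10219 := ded_15_2 (flp_b L85581) (flp_e L84787) L96303
theorem L96307 : sm gg N12243 = N11575 := ded_17_2 (flp_b L92925) (flp_g L45345) (flp_b L25072) L84783 L96303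
theorem L96309 : sm gc N10042 = N12244 := rfl
theorem L96311 : sm ga N12244 = N10043 := ded_8_1 (flp_c L84795) L84791 L96309
theorem L96313 : sm ge N12244 = N10220 := ded_19_2 (flp_c L85585) (flp_e L84793) L96309
theorem L96315 : sm gf N10042 = N12245 := rfl
theorem L96317 : sm ga N12245 = N10044 := ded_11_1 (flp_f L84799) L84791 L96315
theorem L96319 : sm ge N12245 = N10221 := ded_25_1 (flp_f L85589) (flp_e L84793) L96315
theorem L96321 : sm gg N10042 = N12246 := rfl
theorem L96323 : sm ga N12246 = N10045 := ded_12_1 (flp_g L84803) L84791 L96321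
theorem L96325 : sm ge N12246 = N10222 := ded_26_1 (flp_g L85593) (flp_e L84793) L96321
theorem L96327 : sm gb N10043 = N12247 := rfl
theorem L96329 : sm ge N12247 = N10223 := ded_15_2 (flp_b L85597) (flp_e L84797) L96327
theorem L96331 : sm gc N12247 = N10046 := ded_13_2 (flp_b L84807) (flp_c L25078) L25074 L84795 L96327
theorem L96333 : sm gd N10043 = N12248 := rfl
theorem L96335 : sm gf N10043 = N12249 := rfl
theorem L96337 : sm gc N12249 = N10044 := ded_20_1 (flp_f L84799) L84795 L96335
theorem L96339 : sm ge N12249 = N10225 := ded_25_1 (flp_f L85603) (flp_e L84797) L96335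
theorem L96341 : sm gg N10043 = N12250 := rfl
theorem L96343 : sm gc N12250 = N10045 := ded_21_1 (flp_g L84803) L84795 L96341
theorem L96345 : sm ge N12250 = N10226 := ded_26_1 (flp_g L85607) (flp_e L84797) L96341
theorem L96347 : sm gb N10044 = N12251 := rfl
theorem L96349 : sm ge N12251 = N10227 := ded_15_2 (flp_b L85611) (flp_e L84801) L96347
theorem L96351 : sm gf N12251 = N10049 := ded_16_2 (flp_b L84825) (flp_f L25084) L25074 L84799 L96347
theorem L96353 : sm gg N10044 = N12252 := rfl
theorem L96355 : sm ge N12252 = N10228 := ded_26_1 (flp_g L85615) (flp_e L84801) L96353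
theorem L96357 : sm gf N12246 = N12252 := ded_29_0 (flp_g L96353) (flp_f L84799) L84803 (flp_a L96323)
theorem L96359 : sm gf N10045 = N12253 := rfl
theorem L96361 : sm ga N12253 = N12252 := ded_11_1 (flp_f L96357) L96323 L96359
theorem L96363 : sm ge N12253 = N10229 := ded_25_1 (flp_f L85619) (flp_e L84805) L96359
theorem L96365 : sm gg N12253 = N12245 := ded_29_3 L96317 (flp_f L84799) L84803 L96359
theorem L96367 : sm ga N10046 = N12254 := rfl
theorem L96369 : sm ge N12254 = N10230 := ded_10_2 (flp_a L85625) (flp_e L84809) L96367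
theorem L96371 : sm gb N12254 = N12254 := ded_7_2 (flp_a L96367) (flp_b L84807) L25080 L12081 L76180 (flp_b L12081) (flp_a L25080) L84807 L96367
theorem L96372 : sm gd N10046 = N12255 := rfl
theorem L96374 : sm gb N12255 = N10047 := ded_14_1 (flp_d L84811) L84807 L96372
theorem L96376 : sm gf N10046 = N12256 := rfl
theorem L96378 : sm ge N12256 = N10232 := ded_25_1 (flp_f L85632) (flp_e L84809) L96376
theorem L96380 : sm gg N10046 = N12257 := rfl
theorem L96382 : sm ge N12257 = N10233 := ded_26_1 (flp_g L85634) (flp_e L84809) L96380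
theorem L96384 : sm gc N10047 = N12258 := rfl
theorem L96386 : sm ga N12258 = N10050 := ded_8_1 (flp_c L84829) (flp_a L84813) L96384
theorem L96388 : sm gd N12178 = N12258 := ded_28_1 (flp_c L96384) (flp_d L84811) (flp_c L25078) (flp_d L25001) L84615 L95929 L95931 L95945
theorem L96390 : sm ge N10047 = N12259 := rfl
theorem L96392 : sm ga N12259 = N10051 := ded_10_1 (flp_e L84831) (flp_a L84813) L96390
theorem L96394 : sm gd N12259 = N10235 := ded_22_1 (flp_e L85642) (flp_d L26857) (flp_e L25082) L84811 L96390
theorem L96396 : sm gf N10047 = N12260 := rfl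
theorem L96398 : sm ga N12260 = N10052 := ded_11_1 (flp_f L84837) (flp_a L84813) L96396
theorem L96400 : sm gd N12260 = N10048 := ded_23_1 (flp_f L84815) L84811 L96396
theorem L96402 : sm gg N12136 = N12260 := ded_29_1 (flp_f L96396) (flp_g L95739) L95737 L95752
theorem L96404 : sm gb N10048 = N12261 := rfl
theorem L96406 : sm ge N12261 = N10237 := ded_15_2 (flp_b L85654) (flp_e L84821) L96404
theorem L96408 : sm ga N10049 = N12262 := rfl
theorem L96410 : sm ge N12262 = N10238 := ded_10_2 (flp_a L85656) (flp_e L84827) L96408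
theorem L96412 : sm gc N10049 = N12263 := rfl
theorem L96414 : sm ge N12263 = N10239 := ded_19_2 (flp_c L85658) (flp_e L84827) L96412
theorem L96416 : sm gg N10049 = N12264 := rfl
theorem L96418 : sm ge N12264 = N10240 := ded_26_1 (flp_g L85660) (flp_e L84827) L96416
theorem L96420 : sm gb N12264 = N12140 := ded_17_1 (flp_g L95773) (flp_b L84540) L25090 L84825 L96416
theorem L96422 : sm gb N10050 = N12265 := rfl
theorem L96424 : sm gc N12265 = N10075 := ded_13_2 (flp_b L84978) (flp_c L25304) (flp_b L25094) L84829 L96422
theorem L96426 : sm gd N10050 = N12266 := rfl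
theorem L96428 : sm ga N12266 = N12178 := ded_9_1 L96388 L96386 L96426
theorem L96430 : sm gc N12175 = N12266 := ded_28_0 (flp_d L96426) (flp_c L84829) (flp_d L25092) (flp_c L12077) (flp_d L12042) L25003 L84627 (flp_a L95931)
theorem L96432 : sm gc N12248 = N10873 := ded_32_19 L89244 (flp_d L38864) (flp_c L18467) L8963 L8997 L60412 L8999 (flp_d L82535) L8785 L18061 L82555 L82559 (flp_d L9373) (flp_c L4723) (flp_d L4601) (flp_c L82512) (flp_b L4417) L2292 L1184 (flp_d L1364) L1363 L2654 L2656 L2721 L5243 L82593 L2879 (flp_d L1536) (flp_c L721) L323 L344 L347 L346 L767 L1572 L3052 (flp_c L3056) L82156 (flp_d L2995) (flp_c L1532) L719 L65308 (flp_b L265) (flp_d L253) (flp_c L560) (flp_d L1200) L66683 L2380 L2382 L2440 L4733 (flp_c L82581) L8793 (flp_d L5243) (flp_c L2721) (flp_d L2656) L82444 L73145 (flp_e L5318) (flp_d L10525) L21849 L45459 L45805 (flp_b L93083) (flp_d L93081) (flp_c L79741) (flp_d L84980) (flp_c L96424) (flp_b L96422) L96426 (flp_c L96430) (flp_d L95929) (flp_c L84615) L84611 L84613 L84795 L96333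
theorem L96434 : N10856 = N12171 := coi_28_2 (flp_c L95917) L84613 L84795 L96333 L96432 (flp_d L89242) (flp_a L89230) (flp_c L89228) (flp_d L89152)
theorem L96435 : N12171 = N10856 := (eqc rfl L96434 rfl).symm
theorem L96436 : sm gc N10856 = N10009 := trfs L96435 (flp_c L95917) rfl
theorem L96438 : N12170 = N10857 := coi_28_0 (flp_c L89154) L38728 L38762 L89242 (flp_c L96432) (flp_d L96333) (flp_c L84795) (flp_d L84613) L95913
theorem L96439 : N12170 = N10857 := eqc rfl L96438 rfl
theorem L96440 : sm ga N10857 = N10009 := trfs L96439 (flp_a L95913) rfl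
theorem L96442 : sm gd N10857 = N10042 := trfs L96439 L95915 rfl
theorem L96444 : sm ge N10050 = N12267 := rfl
theorem L96446 : sm gc N12267 = N10051 := ded_19_1 (flp_e L84831) L84829 L96444
theorem L96448 : sm gf N10050 = N12268 := rfl
theorem L96450 : sm gc N12268 = N10052 := ded_20_1 (flp_f L84837) L84829 L96448
theorem L96452 : sm gf N10051 = N12269 := rfl
theorem L96454 : sm gd N12269 = N10244 := ded_23_1 (flp_f L85680) (flp_d L84835) L96452
theorem L96456 : sm ge N12269 = N10052 := ded_25_1 (flp_f L84837) L84831 L96452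
theorem L96458 : sm gb N10052 = N12270 := rfl
theorem L96460 : sm gd N12270 = N10053 := ded_14_2 (flp_b L84841) (flp_d L84839) L96458
theorem L96462 : sm gf N12270 = N10075 := ded_16_2 (flp_b L84978) L79739 (flp_b L25094) L84837 L96458
theorem L96464 : sm gg N10052 = N12271 := rfl
theorem L96466 : sm ga N12271 = N12136 := ded_12_1 L96402 L96398 L96464
theorem L96468 : sm gd N12271 = N10054 := ded_24_1 (flp_g L84847) (flp_d L84839) L96464
theorem L96470 : sm gf N12133 = N12271 := ded_29_0 (flp_g L96464) (flp_f L84837) (flp_g L84532) (flp_a L95737)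
theorem L96472 : sm ga N10053 = N12272 := rfl
theorem L96474 : sm ge N12272 = N10247 := ded_10_2 (flp_a L85698) (flp_e L84843) L96472
theorem L96476 : sm gf N12272 = N10077 := ded_11_2 (flp_a L84992) (flp_f L84845) L96472
theorem L96478 : sm gg N10053 = N12273 := rfl
theorem L96480 : sm ge N12273 = N10249 := ded_26_1 (flp_g L85708) (flp_e L84843) L96478
theorem L96482 : sm gb N10054 = N12274 := rfl
theorem L96484 : sm ge N12274 = N10250 := ded_15_2 (flp_b L85710) (flp_e L84853) L96482
theorem L96486 : sm gb N10055 = N12275 := rfl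
theorem L96488 : sm ge N12275 = N10251 := ded_15_2 (flp_b L85712) (flp_e L84859) L96486
theorem L96490 : sm gc N10055 = N12276 := rfl
theorem L96492 : sm ga N12276 = N10056 := ded_8_1 (flp_c L84863) L84857 L96490
theorem L96494 : sm ge N12276 = N10252 := ded_19_2 (flp_c L85716) (flp_e L84859) L96490
theorem L96496 : sm gf N12276 = N10060 := ded_20_2 (flp_c L84881) (flp_f L84861) L96490
theorem L96498 : sm gd N10056 = N12277 := rfl
theorem L96500 : sm gf N12277 = N10062 := ded_23_2 (flp_d L84895) (flp_f L84867) L96498
theorem L96502 : sm gg N10056 = N12278 := rfl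
theorem L96504 : sm gc N12278 = N10057 := ded_21_1 (flp_g L84869) L84863 L96502
theorem L96506 : sm ge N12278 = N10254 := ded_26_1 (flp_g L85726) (flp_e L84865) L96502
theorem L96508 : sm gb N10057 = N12279 := rfl
theorem L96510 : sm ge N12279 = N10255 := ded_15_2 (flp_b L85730) (flp_e L84871) L96508
theorem L96512 : sm gg N12279 = N10058 := ded_17_2 (flp_b L84873) (flp_g L25108) L25102 L84869 L96508
theorem L96514 : sm ga N10058 = N12280 := rfl
theorem L96516 : sm ge N12280 = N10256 := ded_10_2 (flp_a L85736) (flp_e L84875) L96514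
theorem L96518 : sm gc N10058 = N12281 := rfl
theorem L96520 : sm ge N12281 = N10257 := ded_19_2 (flp_c L85738) (flp_e L84875) L96518
theorem L96522 : sm gf N10058 = N12282 := rfl
theorem L96524 : sm ge N12282 = N10258 := ded_25_1 (flp_f L85740) (flp_e L84875) L96522
theorem L96526 : sm gb N12282 = N12130 := ded_16_1 (flp_f L95721) (flp_b L84517) L25114 L84873 L96522
theorem L96528 : sm ga N10059 = N12283 := rfl
theorem L96530 : sm ge N12283 = N10259 := ded_10_2 (flp_a L85744) (flp_e L84879) L96528
theorem L96532 : sm gb N12283 = N12231 := ded_7_2 (flp_a L96243) (flp_b L84755) (flp_a L25058) (flp_b L12069) (flp_a L5986) L12087 L25116 L84877 L96528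
theorem L96534 : sm gc N10059 = N12284 := rfl
theorem L96536 : sm ge N12284 = N10260 := ded_19_2 (flp_c L85750) (flp_e L84879) L96534
theorem L96538 : sm gf N10059 = N12285 := rfl
theorem L96540 : sm ge N12285 = N10261 := ded_25_1 (flp_f L85752) (flp_e L84879) L96538
theorem L96542 : sm gg N10059 = N12286 := rfl
theorem L96544 : sm ge N12286 = N10262 := ded_26_1 (flp_g L85756) (flp_e L84879) L96542
theorem L96546 : sm gb N10060 = N12287 := rfl
theorem L96548 : sm ge N12287 = N10263 := ded_15_2 (flp_b L85760) (flp_e L84885) L96546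
theorem L96550 : sm gd N10060 = N12288 := rfl
theorem L96552 : sm ga N12288 = N10062 := ded_9_1 (flp_d L84895) (flp_a L84883) L96550
theorem L96554 : sm gg N10060 = N12289 := rfl
theorem L96556 : sm ga N12289 = N10063 := ded_12_1 (flp_g L84899) (flp_a L84883) L96554
theorem L96558 : sm gc N12289 = N10061 := ded_21_1 (flp_g L84887) L84881 L96554
theorem L96560 : sm ge N12289 = N10265 := ded_26_1 (flp_g L85766) (flp_e L84885) L96554
theorem L96562 : sm gf N12289 = N12278 := ded_29_2 (flp_g L96502) (flp_a L96492) L96496 L96554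
theorem L96564 : sm gb N10061 = N12290 := rfl
theorem L96566 : sm ge N12290 = N10266 := ded_15_2 (flp_b L85774) (flp_e L84891) L96564
theorem L96568 : sm gc N10062 = N12291 := rfl
theorem L96570 : sm ge N10062 = N12292 := rfl
theorem L96572 : sm gb N12292 = N10084 := ded_15_1 (flp_e L85041) (flp_b L84897) L96570
theorem L96574 : sm gd N12292 = N10268 := ded_22_1 (flp_e L85780) (flp_d L26925) (flp_e L25122) L84895 L96570
theorem L96576 : sm gg N10062 = N12293 := rfl
theorem L96578 : sm gd N12293 = N10063 := ded_24_1 (flp_g L84899) L84895 L96576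
theorem L96580 : sm gf N10063 = N12294 := rfl
theorem L96582 : sm ga N12294 = N12278 := ded_11_1 (flp_f L96562) L96556 L96580
theorem L96584 : sm gc N12294 = N10064 := ded_20_1 (flp_f L84905) (flp_c L84901) L96580
theorem L96586 : sm ge N12294 = N10270 := ded_25_1 (flp_f L85788) (flp_e L84903) L96580
theorem L96588 : sm gg N12294 = N12276 := ded_29_3 L96492 L84867 L84899 L96580
theorem L96590 : sm gb N10064 = N12295 := rfl
theorem L96592 : sm ge N12295 = N10271 := ded_15_2 (flp_b L85796) (flp_e L84909) L96590
theorem L96594 : sm gf N12295 = N11561 := ded_16_2 (flp_b L92853) (flp_f L45309) (flp_b L25130) L84905 L96590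
theorem L96596 : sm ga N10065 = N12296 := rfl
theorem L96598 : sm gd N12296 = N10067 := ded_9_2 (flp_a L84927) (flp_d L84915) L96596
theorem L96600 : sm ge N10065 = N12297 := rfl
theorem L96602 : sm gb N12297 = N10066 := ded_15_1 (flp_e L84917) L84913 L96600
theorem L96604 : sm gd N12297 = N10272 := ded_22_1 L85804 L27039 (flp_e L25194) (flp_d L84915) L96600
theorem L96606 : sm gf N10065 = N12298 := rfl
theorem L96608 : sm gd N12298 = N10068 := ded_23_1 (flp_f L84931) (flp_d L84915) L96606
theorem L96610 : sm gb N12298 = N12298 := ded_16_1 (flp_f L96606) (flp_b L84913) L25182 L84913 L96606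
theorem L96611 : sm gb N10067 = N12299 := rfl
theorem L96613 : sm ge N12299 = N10276 := ded_15_2 (flp_b L85818) (flp_e L84929) L96611
theorem L96615 : sm gf N10067 = N12300 := rfl
theorem L96617 : sm ga N12300 = N10068 := ded_11_1 (flp_f L84931) L84927 L96615
theorem L96619 : sm ge N12300 = N10278 := ded_25_1 (flp_f L85824) (flp_e L84929) L96615
theorem L96621 : sm gg N12221 = N12300 := ded_29_1 (flp_f L96615) (flp_g L96191) (flp_a L96187) L96193
theorem L96623 : sm gg N10068 = N12301 := rfl
theorem L96625 : sm ga N12301 = N12221 := ded_12_1 L96621 L96617 L96623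
theorem L96627 : sm ge N12301 = N10281 := ded_26_1 (flp_g L85840) (flp_e L84933) L96623
theorem L96629 : sm gf N12220 = N12301 := ded_29_0 (flp_g L96623) (flp_f L84931) (flp_g L84723) L96187
theorem L96631 : sm gc N10069 = N12302 := rfl
theorem L96633 : sm ga N12302 = N10070 := ded_8_1 (flp_c L84946) L84936 L96631
theorem L96635 : sm ge N12302 = N10283 := ded_19_2 (flp_c L85854) (flp_e L84940) L96631
theorem L96637 : sm gf N12302 = N10070 := ded_20_2 (flp_c L84946) (flp_f L84944) L96631
theorem L96639 : sm gg N12302 = N11303 := ded_21_2 (flp_c L91515) (flp_g L84942) L96631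
theorem L96641 : sm gb N10070 = N12303 := rfl
theorem L96643 : sm ge N12303 = N10284 := ded_15_2 (flp_b L85862) (flp_e L84948) L96641
theorem L96645 : sm gc N12303 = N10071 := ded_13_2 (flp_b L84952) (flp_c L25222) L25216 L84946 L96641
theorem L96647 : sm gd N10070 = N12304 := rfl
theorem L96649 : sm gg N12304 = N11304 := ded_24_2 (flp_d L91522) (flp_g L84950) L96647
theorem L96651 : sm ga N10071 = N12305 := rfl
theorem L96653 : sm ge N12305 = N10286 := ded_10_2 (flp_a L85870) (flp_e L84954) L96651
theorem L96655 : sm gd N10071 = N12306 := rfl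
theorem L96657 : sm gb N12306 = N10072 := ded_14_1 (flp_d L84956) L84952 L96655
theorem L96659 : sm gf N10071 = N12307 := rfl
theorem L96661 : sm ge N12307 = N10288 := ded_25_1 (flp_f L85876) (flp_e L84954) L96659
theorem L96663 : sm gg N10071 = N12308 := rfl
theorem L96665 : sm ge N12308 = N10289 := ded_26_1 (flp_g L85878) (flp_e L84954) L96663
theorem L96667 : sm gb N12308 = N11286 := ded_17_1 (flp_g L91413) L43392 (flp_g L81007) L84952 L96663
theorem L96669 : sm ge N10072 = N12309 := rfl
theorem L96671 : sm ga N12309 = N10074 := ded_10_1 (flp_e L84974) (flp_a L84958) L96669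
theorem L96673 : sm gc N12309 = N11582 := ded_19_1 L92962 (flp_c L84962) L96669
theorem L96675 : sm gg N12309 = N11302 := ded_26_2 (flp_e L91507) (flp_g L84960) L96669
theorem L96677 : sm gd N12309 = N10290 := ded_22_1 (flp_e L85882) (flp_d L27085) (flp_e L25226) L84956 L96669
theorem L96679 : sm gb N10073 = N12310 := rfl
theorem L96681 : sm gd N12310 = N11581 := ded_14_2 (flp_b L92954) (flp_d L84972) L96679
theorem L96683 : sm ge N10073 = N12311 := rfl
theorem L96685 : sm ga N12311 = N11582 := ded_10_1 L92962 (flp_a L84966) L96683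
theorem L96687 : sm gc N12311 = N10074 := ded_19_1 (flp_e L84974) L84964 L96683
theorem L96689 : sm gf N12311 = N12309 := ded_25_2 (flp_e L96669) (flp_f L84968) L96683
theorem L96691 : sm gg N12311 = N11580 := ded_26_2 (flp_e L92948) (flp_g L84970) L96683
theorem L96693 : sm gd N12311 = N11734 := ded_22_1 L93725 L46663 (flp_e L45391) (flp_d L84972) L96683
theorem L96695 : sm ga N10075 = N12312 := rfl
theorem L96697 : sm gd N12312 = N10077 := ded_9_2 (flp_a L84992) (flp_d L84980) L96695
theorem L96699 : sm ge N10075 = N12313 := rfl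
theorem L96701 : sm gb N12313 = N10076 := ded_15_1 (flp_e L84982) L84978 L96699
theorem L96703 : sm gd N12313 = N10293 := ded_22_1 L85896 L27229 (flp_e L25318) (flp_d L84980) L96699
theorem L96705 : sm gg N10075 = N12314 := rfl
theorem L96707 : sm gd N12314 = N10078 := ded_24_1 (flp_g L84996) (flp_d L84980) L96705
theorem L96709 : sm gb N12314 = N12314 := ded_17_1 (flp_g L96705) (flp_b L84978) L25306 L84978 L96705
theorem L96710 : sm gb N10077 = N12315 := rfl
theorem L96712 : sm ge N12315 = N10297 := ded_15_2 (flp_b L85910) (flp_e L84994) L96710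
theorem L96714 : sm gg N10077 = N12316 := rfl
theorem L96716 : sm ga N12316 = N10078 := ded_12_1 (flp_g L84996) L84992 L96714
theorem L96718 : sm ge N12316 = N10299 := ded_26_1 (flp_g L85916) (flp_e L84994) L96714
theorem L96720 : sm gf N12316 = N12273 := ded_29_2 (flp_g L96478) L96472 L96476 L96714
theorem L96722 : sm gf N10078 = N12317 := rfl
theorem L96724 : sm ga N12317 = N12273 := ded_11_1 (flp_f L96720) L96716 L96722
theorem L96726 : sm ge N12317 = N10302 := ded_25_1 (flp_f L85932) (flp_e L84998) L96722
theorem L96728 : sm gg N12317 = N12272 := ded_29_3 (flp_a L96472) L84845 L84996 L96722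
theorem L96730 : sm gc N10079 = N12318 := rfl
theorem L96732 : sm ga N12318 = N10080 := ded_8_1 (flp_c L85013) L85001 L96730
theorem L96734 : sm ge N12318 = N10304 := ded_19_2 (flp_c L85946) (flp_e L85005) L96730
theorem L96736 : sm gf N12318 = N11306 := ded_20_2 (flp_c L91533) (flp_f L85007) L96730
theorem L96738 : sm gg N12318 = N10080 := ded_21_2 (flp_c L85013) (flp_g L85009) L96730
theorem L96740 : sm gb N10080 = N12319 := rfl
theorem L96742 : sm ge N12319 = N10305 := ded_15_2 (flp_b L85954) (flp_e L85015) L96740
theorem L96744 : sm gc N12319 = N10081 := ded_13_2 (flp_b L85019) (flp_c L25346) L25340 L85013 L96740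
theorem L96746 : sm gd N10080 = N12320 := rfl
theorem L96748 : sm gf N12320 = N11307 := ded_23_2 (flp_d L91540) (flp_f L85017) L96746
theorem L96750 : sm ga N10081 = N12321 := rfl
theorem L96752 : sm ge N12321 = N10307 := ded_10_2 (flp_a L85962) (flp_e L85021) L96750
theorem L96754 : sm gd N10081 = N12322 := rfl
theorem L96756 : sm gb N12322 = N10082 := ded_14_1 (flp_d L85023) L85019 L96754
theorem L96758 : sm gf N10081 = N12323 := rfl
theorem L96760 : sm ge N12323 = N10309 := ded_25_1 (flp_f L85968) (flp_e L85021) L96758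
theorem L96762 : sm gb N12323 = N11296 := ded_16_1 (flp_f L91471) L43410 (flp_f L82330) L85019 L96758
theorem L96764 : sm gg N10081 = N12324 := rfl
theorem L96766 : sm ge N12324 = N10310 := ded_26_1 (flp_g L85972) (flp_e L85021) L96764
theorem L96768 : sm ge N10082 = N12325 := rfl
theorem L96770 : sm ga N12325 = N10084 := ded_10_1 (flp_e L85041) (flp_a L85025) L96768
theorem L96772 : sm gc N12325 = N11592 := ded_19_1 L93015 (flp_c L85029) L96768
theorem L96774 : sm gf N12325 = N11305 := ded_25_2 (flp_e L91525) (flp_f L85027) L96768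
theorem L96776 : sm gd N12325 = N10311 := ded_22_1 (flp_e L85974) (flp_d L27277) (flp_e L25350) L85023 L96768
theorem L96778 : sm gb N10083 = N12326 := rfl
theorem L96780 : sm gd N12326 = N11591 := ded_14_2 (flp_b L93007) (flp_d L85039) L96778
theorem L96782 : sm ge N10083 = N12327 := rfl
theorem L96784 : sm ga N12327 = N11592 := ded_10_1 L93015 (flp_a L85033) L96782
theorem L96786 : sm gc N12327 = N10084 := ded_19_1 (flp_e L85041) L85031 L96782
theorem L96788 : sm gf N12327 = N11590 := ded_25_2 (flp_e L93001) (flp_f L85035) L96782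
theorem L96790 : sm gg N12327 = N12325 := ded_26_2 (flp_e L96768) (flp_g L85037) L96782
theorem L96792 : sm gd N12327 = N11763 := ded_22_1 L93845 L46791 (flp_e L45469) (flp_d L85039) L96782
theorem L96794 : sm gb N10085 = N12328 := rfl
theorem L96796 : sm ge N12328 = N10089 := ded_15_2 (flp_b L85073) (flp_e L85049) L96794
theorem L96798 : sm ga N12328 = N12328 := ded_7_1 (flp_b L96794) L85047 (flp_b L81257) L43693 L20916 (flp_a L43693) L81257 (flp_a L85047) L96794
theorem L96799 : sm gd N10085 = N12329 := rfl
theorem L96801 : sm ga N12329 = N10086 := ded_9_1 (flp_d L85055) (flp_a L85047) L96799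
theorem L96803 : sm gf N12329 = N10086 := ded_23_2 (flp_d L85055) (flp_f L85051) L96799
theorem L96805 : sm gg N12329 = N11308 := ded_24_2 (flp_d L91543) (flp_g L85053) L96799
theorem L96807 : sm gc N10086 = N12330 := rfl
theorem L96809 : sm gg N12330 = N11309 := ded_21_2 (flp_c L91550) (flp_g L85057) L96807
theorem L96811 : sm ge N10086 = N12331 := rfl
theorem L96813 : sm gg N12331 = N11310 := ded_26_2 (flp_e L91553) (flp_g L85057) L96811
theorem L96817 : sm gb N10087 = N12332 := rfl
theorem L96819 : sm ge N12332 = N10093 := ded_15_2 (flp_b L85092) (flp_e L85063) L96817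
theorem L96821 : sm gc N12332 = N12328 := ded_13_2 (flp_b L96794) (flp_c L85045) (flp_b L25826) L85059 L96817
theorem L96823 : sm gf N12332 = N12328 := ded_16_2 (flp_b L96794) L85051 (flp_b L81257) (flp_f L85065) L96817
theorem L96825 : sm gg N12332 = N12328 := ded_17_2 (flp_b L96794) L85053 (flp_b L82671) (flp_g L85067) L96817
theorem L96827 : sm ga N12332 = N12332 := ded_7_1 (flp_b L96817) L85061 L82671 L43595 L20872 (flp_a L43595) (flp_b L82671) (flp_a L85061) L96817
theorem L96828 : sm gd N10087 = N12333 := rfl
theorem L96830 : sm ga N12333 = N10088 := ded_9_1 (flp_d L85069) (flp_a L85061) L96828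
theorem L96832 : sm gf N12333 = N11311 := ded_23_2 (flp_d L91559) (flp_f L85065) L96828
theorem L96834 : sm gg N12333 = N10088 := ded_24_2 (flp_d L85069) (flp_g L85067) L96828
theorem L96836 : sm gc N10088 = N12334 := rfl
theorem L96838 : sm gf N12334 = N11312 := ded_20_2 (flp_c L91566) (flp_f L85071) L96836
theorem L96840 : sm ge N10088 = N12335 := rfl
theorem L96851 : sm ge N10090 = N12337 := rfl
theorem L96857 : sm gg N12337 = N11314 := ded_26_2 (flp_e L91575) (flp_g L85082) L96851
theorem L96873 : sm gd N10093 = N12340 := rfl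
theorem L96876 : sm gb N12340 = N10094 := ded_14_1 (flp_d L85101) L85092 L96873
theorem L96884 : sm ge N10094 = N12341 := rfl
theorem L96906 : sm gc N10097 = N12344 := rfl
theorem L96908 : sm ga N12344 = N10102 := ded_8_1 (flp_c L85137) (flp_a L85119) L96906
theorem L96910 : sm gd N11231 = N12344 := ded_28_1 (flp_c L96906) (flp_d L85117) (flp_c L26648) (flp_d L22299) (flp_c L72245) L91085 L91087 (flp_c L91133)
theorem L96912 : sm ge N10097 = N12345 := rfl
theorem L96914 : sm ga N12345 = N10103 := ded_10_1 (flp_e L85139) (flp_a L85119) L96912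
theorem L96916 : sm gb N12345 = N10637 := ded_15_1 (flp_e L90924) L90922 L96912
theorem L96918 : sm gd N12345 = N10636 := ded_22_1 L95227 (flp_d L95219) L84271 L85117 L96912
theorem L96920 : sm gf N10097 = N12346 := rfl
theorem L96922 : sm ga N12346 = N10104 := ded_11_1 (flp_f L85142) (flp_a L85119) L96920
theorem L96924 : sm gd N12346 = N10098 := ded_23_1 (flp_f L85121) L85117 L96920
theorem L96926 : sm gg N10097 = N12347 := rfl
theorem L96928 : sm ga N12347 = N10105 := ded_12_1 (flp_g L85146) (flp_a L85119) L96926
theorem L96930 : sm gd N12347 = N10099 := ded_24_1 (flp_g L85127) L85117 L96926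
theorem L96932 : sm gb N10098 = N12348 := rfl
theorem L96934 : sm gb N10099 = N12349 := rfl
theorem L96936 : sm ga N10100 = N12350 := rfl
theorem L96938 : sm gc N10100 = N12351 := rfl
theorem L96940 : sm gg N10100 = N12352 := rfl
theorem L96942 : sm ga N10101 = N12353 := rfl
theorem L96944 : sm gc N10101 = N12354 := rfl
theorem L96946 : sm gf N10101 = N12355 := rfl
theorem L96948 : sm gb N10102 = N12356 := rfl
theorem L96950 : sm gc N12356 = N12356 := ded_13_2 (flp_b L96948) (flp_c L85137) L26662 L85137 L96948
theorem L96951 : sm gd N10102 = N12357 := rfl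
theorem L96953 : sm ga N12357 = N11231 := ded_9_1 L96910 L96908 L96951
theorem L96955 : sm gc N11222 = N12357 := ded_28_0 (flp_d L96951) (flp_c L85137) (flp_d L26660) (flp_c L12817) (flp_d L10735) L22303 (flp_d L72438) (flp_a L91087)
theorem L96957 : sm ge N11225 = N12357 := ded_10_0 L96953 (flp_e L91129) (flp_a L91107)
theorem L96959 : sm ge N10102 = N12358 := rfl
theorem L96961 : sm gc N12358 = N10103 := ded_19_1 (flp_e L85139) L85137 L96959
theorem L96963 : sm gf N10102 = N12359 := rfl
theorem L96965 : sm gc N12359 = N10104 := ded_20_1 (flp_f L85142) L85137 L96963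
theorem L96967 : sm gg N10102 = N12360 := rfl
theorem L96969 : sm gc N12360 = N10105 := ded_21_1 (flp_g L85146) L85137 L96967
theorem L96971 : sm gf N10103 = N12361 := rfl
theorem L96973 : sm ge N12361 = N10104 := ded_25_1 (flp_f L85142) L85139 L96971
theorem L96975 : sm gg N10103 = N12362 := rfl
theorem L96977 : sm ge N12362 = N10105 := ded_26_1 (flp_g L85146) L85139 L96975
theorem L96979 : sm gb N10104 = N12363 := rfl
theorem L96981 : sm gd N12363 = N10106 := ded_14_2 (flp_b L85150) (flp_d L85144) L96979
theorem L96983 : sm gf N12363 = N12363 := ded_16_2 (flp_b L96979) (flp_f L85142) L26662 L85142 L96979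
theorem L96984 : sm gg N10104 = N12364 := rfl
theorem L96986 : sm gd N12364 = N10107 := ded_24_1 (flp_g L85153) (flp_d L85144) L96984
theorem L96988 : sm gf N12347 = N12364 := ded_29_0 (flp_g L96984) (flp_f L85142) L85146 (flp_a L96928)
theorem L96990 : sm gb N10105 = N12365 := rfl
theorem L96992 : sm gd N12365 = N10108 := ded_14_2 (flp_b L85159) (flp_d L85148) L96990
theorem L96994 : sm gg N12365 = N12365 := ded_17_2 (flp_b L96990) (flp_g L85146) L26662 L85146 L96990
theorem L96995 : sm gf N10105 = N12366 := rfl
theorem L96997 : sm ga N12366 = N12364 := ded_11_1 (flp_f L96988) L96928 L96995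
theorem L96999 : sm gd N12366 = N10109 := ded_23_1 (flp_f L85162) (flp_d L85148) L96995
theorem L97001 : sm gg N12366 = N12346 := ded_29_3 L96922 (flp_f L85142) L85146 L96995
theorem L97003 : sm ga N10106 = N12367 := rfl
theorem L97006 : sm gc N10106 = N12368 := rfl
theorem L97008 : sm gf N12368 = N12368 := ded_20_2 (flp_c L97006) L85152 L97006
theorem L97009 : sm gb N12368 = N10111 := ded_13_1 (flp_c L85176) (flp_b L26671) (flp_c L26665) L85150 L97006
theorem L97011 : sm gg N10106 = N12369 := rfl
theorem L97013 : sm gb N10107 = N12370 := rfl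
theorem L97015 : sm ga N10108 = N12371 := rfl
theorem L97017 : sm gg N12371 = N12371 := ded_12_2 (flp_a L97015) L85161 L97015
theorem L97018 : sm gc N10108 = N12372 := rfl
theorem L97020 : sm gg N12372 = N12372 := ded_21_2 (flp_c L97018) L85161 L97018
theorem L97021 : sm gb N12372 = N10115 := ded_13_1 (flp_c L85188) (flp_b L26679) (flp_c L26669) L85159 L97018
theorem L97023 : sm gf N10108 = N12373 := rfl
theorem L97025 : sm gb N10109 = N12374 := rfl
theorem L97027 : sm gb N10110 = N12375 := rfl
theorem L97029 : sm gd N12375 = N11323 := ded_14_2 L91656 (flp_d L85172) L97027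
theorem L97031 : sm ga N11629 = N12375 := ded_9_3 L97029 L91652 (flp_d L93233)
theorem L97033 : sm gf N11627 = N12375 := ded_23_0 L97029 L91654 (flp_d L93227)
theorem L97035 : sm gb N12350 = N11665 := ded_7_8 L93399 (flp_b L93235) L97031 (flp_b L97027) (flp_a L85170) (flp_b L26671) (flp_a L26654) L85133 L96936
theorem L97037 : sm gc N10110 = N12376 := rfl
theorem L97039 : sm ga N12376 = N10111 := ded_8_1 (flp_c L85176) L85170 L97037
theorem L97041 : sm gf N12376 = N10119 := ded_20_2 (flp_c L85198) (flp_f L85174) L97037
theorem L97043 : sm gb N12376 = N10278 := ded_30_2 L85826 (flp_f L27047) L27043 L27045 L81095 L10195 (flp_c L5418) (flp_b L2803) L1434 (flp_f L823) L821 L1669 L3272 L6322 L6326 L12824 L26689 (flp_f L85174) L97037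
theorem L97045 : sm ga N12368 = N12368 := ded_7_3 L97009 (flp_a L97039) L97043 L85826 L71005 (flp_a L85826) (flp_b L97043) L97039 (flp_b L97009)
theorem L97046 : N12367 = N10106 := coi_8_0 L97006 L97045 (flp_c L97006) L97003
theorem L97047 : N12367 = N10106 := eqc rfl L97046 rfl
theorem L97048 : sm ga N10106 = N10106 := trfs L97047 (flp_a L97003) rfl
theorem L97050 : sm ga N12363 = N12363 := ded_9_3 L96981 L97048 (flp_d L96981)
theorem L97051 : sm ga N12041 = N12041 := ded_10_3 L95276 L97048 (flp_e L95276)
theorem L97052 : sm ga N12369 = N12369 := ded_12_3 (flp_g L97011) L97048 L97011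
theorem L97053 : sm gf N12369 = N12369 := ded_29_2 (flp_g L97011) L97048 L85152 L97011
theorem L97054 : sm gd N10111 = N12377 := rfl
theorem L97056 : sm gf N12377 = N10121 := ded_23_2 (flp_d L85208) (flp_f L85178) L97054
theorem L97058 : sm gc N12377 = N10121 := ded_28_6 (flp_d L85208) (flp_a L85200) (flp_c L85198) (flp_d L46385) (flp_c L72420) L46359 L85176 L97054
theorem L97060 : sm gg N10111 = N12378 := rfl
theorem L97062 : sm gc N12378 = N10112 := ded_21_1 (flp_g L85180) L85176 L97060
theorem L97064 : sm gb N10112 = N12379 := rfl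
theorem L97066 : sm gg N12379 = N10113 := ded_17_2 (flp_b L85182) (flp_g L26675) L26671 L85180 L97064
theorem L97068 : sm ga N10113 = N12380 := rfl
theorem L97070 : sm gc N10113 = N12381 := rfl
theorem L97072 : sm gf N10113 = N12382 := rfl
theorem L97074 : sm gb N12382 = N12355 := ded_16_1 (flp_f L96946) (flp_b L85135) L26677 L85182 L97072
theorem L97076 : sm gb N10114 = N12383 := rfl
theorem L97078 : sm gc N10114 = N12384 := rfl
theorem L97080 : sm ga N12384 = N10115 := ded_8_1 (flp_c L85188) L85184 L97078
theorem L97082 : sm gg N12384 = N10125 := ded_21_2 (flp_c L85223) (flp_g L85186) L97078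
theorem L97084 : sm gd N10115 = N12385 := rfl
theorem L97086 : sm gg N12385 = N10127 := ded_24_2 (flp_d L85233) (flp_g L85190) L97084
theorem L97088 : sm gf N10115 = N12386 := rfl
theorem L97090 : sm gc N12386 = N10116 := ded_20_1 (flp_f L85192) L85188 L97088
theorem L97092 : sm gb N10116 = N12387 := rfl
theorem L97094 : sm gf N12387 = N10117 := ded_16_2 (flp_b L85194) (flp_f L26683) L26679 L85192 L97092
theorem L97096 : sm ga N10117 = N12388 := rfl
theorem L97098 : sm gc N10117 = N12389 := rfl
theorem L97100 : sm gg N10117 = N12390 := rfl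
theorem L97102 : sm gb N12390 = N12352 := ded_17_1 (flp_g L96940) (flp_b L85133) (flp_g L26687) L85194 L97100
theorem L97104 : sm ga N10118 = N12391 := rfl
theorem L97106 : sm gb N12391 = N10130 := ded_7_2 (flp_a L85246) (flp_b L26703) (flp_a L12828) (flp_b L6332) (flp_a L6324) L12824 L26689 L85196 L97104
theorem L97108 : sm gf N12391 = N11618 := ded_30_4 L93173 (flp_b L93125) (flp_a L91095) (flp_f L91093) L72245 L22301 (flp_a L12815) L12820 (flp_c L26665) L85150 L97048 L85152 L97006 L97009 (flp_a L97039) L97041 (flp_c L85198) L85196 L97104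
theorem L97110 : sm gc N10118 = N12392 := rfl
theorem L97112 : sm gf N10118 = N12393 := rfl
theorem L97114 : sm ga N12393 = N11618 := ded_11_1 (flp_f L97108) (flp_a L97104) L97112
theorem L97116 : sm gd N12393 = N12391 := ded_23_1 L97108 L93171 L97112
theorem L97118 : sm gb N12393 = N11627 := ded_16_1 L97033 (flp_b L97027) L85174 L85196 L97112
theorem L97120 : sm gg N10118 = N12394 := rfl
theorem L97122 : sm gb N10119 = N12395 := rfl
theorem L97124 : sm gf N12395 = N10276 := ded_16_2 (flp_b L85818) L85824 (flp_b L97043) L97041 L97122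
theorem L97126 : sm gd N10119 = N12396 := rfl
theorem L97128 : sm ga N12396 = N10121 := ded_9_1 (flp_d L85208) (flp_a L85200) L97126
theorem L97130 : sm gg N10119 = N12397 := rfl
theorem L97132 : sm ga N12397 = N10122 := ded_12_1 (flp_g L85211) (flp_a L85200) L97130
theorem L97134 : sm gc N12397 = N10120 := ded_21_1 (flp_g L85202) L85198 L97130
theorem L97136 : sm gf N12397 = N12378 := ded_29_2 (flp_g L97060) (flp_a L97039) L97041 L97130
theorem L97138 : sm gb N10120 = N12398 := rfl
theorem L97140 : sm ge N10121 = N12399 := rfl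
theorem L97142 : sm gb N12399 = N12399 := ded_15_1 (flp_e L97140) L85210 L97140
theorem L97143 : sm gg N10121 = N12400 := rfl
theorem L97145 : sm gd N12400 = N10122 := ded_24_1 (flp_g L85211) L85208 L97143
theorem L97147 : sm gb N10122 = N12401 := rfl
theorem L97149 : sm gg N12401 = N12401 := ded_17_2 (flp_b L97147) (flp_g L85211) L26693 L85211 L97147
theorem L97150 : sm gf N10122 = N12402 := rfl
theorem L97152 : sm ga N12402 = N12378 := ded_11_1 (flp_f L97136) L97132 L97150
theorem L97154 : sm gc N12402 = N10123 := ded_20_1 (flp_f L85215) (flp_c L85213) L97150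
theorem L97156 : sm gg N12402 = N12376 := ded_29_3 L97039 L85178 L85211 L97150
theorem L97158 : sm gb N10123 = N12403 := rfl
theorem L97160 : sm ga N10124 = N12404 := rfl
theorem L97162 : sm gb N12404 = N10149 := ded_7_2 (flp_a L85315) (flp_b L26733) (flp_a L12841) (flp_b L6341) (flp_a L6329) L12826 L26696 L85221 L97160
theorem L97164 : sm gc N10124 = N12405 := rfl
theorem L97166 : sm gf N10124 = N12406 := rfl
theorem L97168 : sm gg N10124 = N12407 := rfl
theorem L97170 : sm gb N10125 = N12408 := rfl
theorem L97172 : sm gd N10125 = N12409 := rfl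
theorem L97174 : sm ga N12409 = N10127 := ded_9_1 (flp_d L85233) (flp_a L85225) L97172
theorem L97176 : sm gf N10125 = N12410 := rfl
theorem L97178 : sm ga N12410 = N10128 := ded_11_1 (flp_f L85236) (flp_a L85225) L97176
theorem L97180 : sm gc N12410 = N10126 := ded_20_1 (flp_f L85227) L85223 L97176
theorem L97182 : sm gg N12386 = N12410 := ded_29_1 (flp_f L97176) (flp_g L97082) L97080 L97088
theorem L97184 : sm gb N10126 = N12411 := rfl
theorem L97186 : sm gc N10127 = N12412 := rfl
theorem L97188 : sm ge N10127 = N12413 := rfl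
theorem L97190 : sm gb N12413 = N12413 := ded_15_1 (flp_e L97188) L85235 L97188
theorem L97191 : sm gf N10127 = N12414 := rfl
theorem L97193 : sm gd N12414 = N10128 := ded_23_1 (flp_f L85236) L85233 L97191
theorem L97195 : sm gb N10128 = N12415 := rfl
theorem L97197 : sm gf N12415 = N12415 := ded_16_2 (flp_b L97195) (flp_f L85236) L26700 L85236 L97195
theorem L97198 : sm gg N10128 = N12416 := rfl
theorem L97200 : sm ga N12416 = N12386 := ded_12_1 L97182 L97178 L97198
theorem L97202 : sm gc N12416 = N10129 := ded_21_1 (flp_g L85240) (flp_c L85238) L97198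
theorem L97204 : sm gf N12384 = N12416 := ded_29_0 (flp_g L97198) (flp_f L85236) (flp_g L85190) (flp_a L97080)
theorem L97206 : sm gb N10129 = N12417 := rfl
theorem L97208 : sm gg N10130 = N12418 := rfl
theorem L97210 : sm ga N12418 = N10133 := ded_12_1 (flp_g L85254) L85246 L97208
theorem L97212 : sm gb N11700 = N12418 := ded_31_14 (flp_g L97208) (flp_f L91654) L91656 L93185 (flp_f L93193) (flp_b L46473) (flp_g L46469) (flp_f L46461) (flp_b L46457) L22403 (flp_f L22397) L22389 L46547 L93574
theorem L97214 : sm gb N10131 = N12419 := rfl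
theorem L97216 : sm gc N12419 = N10134 := ded_13_2 (flp_b L85256) (flp_c L26705) L26703 L85248 L97214
theorem L97218 : sm gg N10131 = N12420 := rfl
theorem L97220 : sm gc N12420 = N10133 := ded_21_1 (flp_g L85254) L85248 L97218
theorem L97222 : sm gf N12420 = N11324 := ded_29_2 (flp_g L91658) L91621 L91623 L97218
theorem L97224 : sm gg N10132 = N12421 := rfl
theorem L97226 : sm gf N12418 = N12421 := ded_29_0 (flp_g L97224) (flp_f L85250) L85254 (flp_a L97210)
theorem L97228 : sm gf N10133 = N12422 := rfl
theorem L97230 : sm ga N12422 = N12421 := ded_11_1 (flp_f L97226) L97210 L97228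
theorem L97232 : sm gc N12422 = N11324 := ded_20_1 (flp_f L97222) L97220 L97228
theorem L97234 : sm gg N12422 = N11323 := ded_29_3 L91652 (flp_f L85250) L85254 L97228
theorem L97236 : sm ga N10134 = N12423 := rfl
theorem L97238 : sm gd N10134 = N12424 := rfl
theorem L97240 : sm gb N12424 = N10135 := ded_14_1 (flp_d L85258) L85256 L97238
theorem L97242 : sm gf N10134 = N12425 := rfl
theorem L97244 : sm gb N12425 = N10180 := ded_16_1 (flp_f L85431) (flp_b L26771) (flp_f L26709) L85256 L97242
theorem L97246 : sm gg N10134 = N12426 := rfl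
theorem L97248 : sm gc N10135 = N12427 := rfl
theorem L97250 : sm ga N12427 = N10136 := ded_8_1 (flp_c L85264) (flp_a L85260) L97248
theorem L97252 : sm gf N12427 = N10182 := ded_20_2 (flp_c L85435) (flp_f L85262) L97248
theorem L97254 : sm gd N11633 = N12427 := ded_28_1 (flp_c L97248) (flp_d L85258) (flp_c L26705) (flp_d L22323) L46407 L93243 L93245 L93249
theorem L97256 : sm ge N10135 = N12428 := rfl
theorem L97258 : sm ga N12428 = N10137 := ded_10_1 (flp_e L85268) (flp_a L85260) L97256
theorem L97260 : sm gf N12428 = N10183 := ded_25_2 (flp_e L85441) (flp_f L85262) L97256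
theorem L97262 : sm gb N10136 = N12429 := rfl
theorem L97264 : sm gc N12429 = N12429 := ded_13_2 (flp_b L97262) (flp_c L85264) L26713 L85264 L97262
theorem L97265 : sm gf N12429 = N12429 := ded_16_2 (flp_b L97262) L85266 L71009 (flp_f L85266) L97262
theorem L97266 : sm gd N10136 = N12430 := rfl
theorem L97268 : sm ga N12430 = N11633 := ded_9_1 L97254 L97250 L97266
theorem L97270 : sm gf N12430 = N10189 := ded_23_2 (flp_d L85463) (flp_f L85266) L97266
theorem L97272 : sm gc N11632 = N12430 := ded_28_0 (flp_d L97266) (flp_c L85264) (flp_d L26711) (flp_c L12832) (flp_d L10751) L22327 L46413 (flp_a L93245)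
theorem L97274 : sm ge N10136 = N12431 := rfl
theorem L97276 : sm gc N12431 = N10137 := ded_19_1 (flp_e L85268) L85264 L97274
theorem L97278 : sm gf N12431 = N10190 := ded_25_2 (flp_e L85470) (flp_f L85266) L97274
theorem L97280 : sm gg N10136 = N12432 := rfl
theorem L97282 : sm gc N12432 = N10138 := ded_21_1 (flp_g L85273) L85264 L97280
theorem L97284 : sm gg N10137 = N12433 := rfl
theorem L97286 : sm ge N12433 = N10138 := ded_26_1 (flp_g L85273) L85268 L97284
theorem L97288 : sm gb N10138 = N12434 := rfl
theorem L97290 : sm gd N12434 = N10139 := ded_14_2 (flp_b L85277) (flp_d L85275) L97288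
theorem L97292 : sm gg N12434 = N12434 := ded_17_2 (flp_b L97288) (flp_g L85273) L26713 L85273 L97288
theorem L97293 : sm ga N10139 = N12435 := rfl
theorem L97296 : sm gc N10139 = N12436 := rfl
theorem L97298 : sm gg N12436 = N12436 := ded_21_2 (flp_c L97296) L85279 L97296
theorem L97299 : sm gb N12436 = N10141 := ded_13_1 (flp_c L85284) (flp_b L26720) (flp_c L26718) L85277 L97296
theorem L97301 : sm gf N10139 = N12437 := rfl
theorem L97303 : sm gb N10140 = N12438 := rfl
theorem L97305 : sm gc N10140 = N12439 := rfl
theorem L97307 : sm ga N12439 = N10141 := ded_8_1 (flp_c L85284) L85280 L97305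
theorem L97309 : sm gg N12439 = N10144 := ded_21_2 (flp_c L85292) (flp_g L85282) L97305
theorem L97311 : sm gd N10141 = N12440 := rfl
theorem L97313 : sm gg N12440 = N10146 := ded_24_2 (flp_d L85302) (flp_g L85286) L97311
theorem L97315 : sm gf N10141 = N12441 := rfl
theorem L97317 : sm gc N12441 = N10142 := ded_20_1 (flp_f L85288) L85284 L97315
theorem L97319 : sm ga N10143 = N12442 := rfl
theorem L97321 : sm gg N11698 = N12442 := ded_29_3 (flp_a L97319) L93619 (flp_g L93613) (flp_f L93566)
theorem L97323 : sm gc N10143 = N12443 := rfl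
theorem L97325 : sm gg N10143 = N12444 := rfl
theorem L97327 : sm ga N12444 = N11698 := ded_12_1 L97321 (flp_a L97319) L97325
theorem L97329 : sm gf N11708 = N12444 := ded_29_0 (flp_g L97325) L93619 (flp_g L93613) L93607
theorem L97331 : sm gb N10144 = N12445 := rfl
theorem L97333 : sm gd N10144 = N12446 := rfl
theorem L97335 : sm ga N12446 = N10146 := ded_9_1 (flp_d L85302) (flp_a L85294) L97333
theorem L97337 : sm gf N10144 = N12447 := rfl
theorem L97339 : sm ga N12447 = N10147 := ded_11_1 (flp_f L85305) (flp_a L85294) L97337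
theorem L97341 : sm gc N12447 = N10145 := ded_20_1 (flp_f L85296) L85292 L97337
theorem L97343 : sm gg N12441 = N12447 := ded_29_1 (flp_f L97337) (flp_g L97309) L97307 L97315
theorem L97345 : sm gc N10146 = N12448 := rfl
theorem L97347 : sm ge N10146 = N12449 := rfl
theorem L97349 : sm gb N12449 = N12449 := ded_15_1 (flp_e L97347) L85304 L97347
theorem L97350 : sm gf N10146 = N12450 := rfl
theorem L97352 : sm gd N12450 = N10147 := ded_23_1 (flp_f L85305) L85302 L97350
theorem L97354 : sm gb N10147 = N12451 := rfl
theorem L97356 : sm gc N12451 = N12415 := ded_13_2 (flp_b L97195) L85238 (flp_b L26731) (flp_c L85307) L97354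
theorem L97358 : sm gf N12451 = N12451 := ded_16_2 (flp_b L97354) (flp_f L85305) L26728 L85305 L97354
theorem L97359 : sm gg N10147 = N12452 := rfl
theorem L97361 : sm ga N12452 = N12441 := ded_12_1 L97343 L97339 L97359
theorem L97363 : sm gc N12452 = N10148 := ded_21_1 (flp_g L85309) (flp_c L85307) L97359
theorem L97365 : sm gf N12439 = N12452 := ded_29_0 (flp_g L97359) (flp_f L85305) (flp_g L85286) (flp_a L97307)
theorem L97367 : sm gb N10148 = N12453 := rfl
theorem L97369 : sm gg N12453 = N12417 := ded_17_2 (flp_b L97206) (flp_g L85240) (flp_b L26731) L85309 L97367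
theorem L97371 : sm gc N10149 = N12454 := rfl
theorem L97373 : sm ga N12454 = N10150 := ded_8_1 (flp_c L85317) L85315 L97371
theorem L97375 : sm gf N10149 = N12455 := rfl
theorem L97377 : sm ga N12455 = N10151 := ded_11_1 (flp_f L85319) L85315 L97375
theorem L97379 : sm gg N10149 = N12456 := rfl
theorem L97381 : sm ga N12456 = N10152 := ded_12_1 (flp_g L85321) L85315 L97379
theorem L97383 : sm gb N10150 = N12457 := rfl
theorem L97385 : sm gc N12457 = N10153 := ded_13_2 (flp_b L85325) (flp_c L26735) L26733 L85317 L97383
theorem L97389 : sm gf N10150 = N12459 := rfl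
theorem L97391 : sm gc N12459 = N10151 := ded_20_1 (flp_f L85319) L85317 L97389
theorem L97393 : sm gg N10150 = N12460 := rfl
theorem L97395 : sm gc N12460 = N10152 := ded_21_1 (flp_g L85321) L85317 L97393
theorem L97397 : sm gg N10151 = N12461 := rfl
theorem L97399 : sm gf N12456 = N12461 := ded_29_0 (flp_g L97397) (flp_f L85319) L85321 (flp_a L97381)
theorem L97401 : sm gf N10152 = N12462 := rfl
theorem L97403 : sm ga N12462 = N12461 := ded_11_1 (flp_f L97399) L97381 L97401
theorem L97405 : sm gg N12462 = N12455 := ded_29_3 L97377 (flp_f L85319) L85321 L97401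
theorem L97407 : sm ga N10153 = N12463 := rfl
theorem L97409 : sm gd N10153 = N12464 := rfl
theorem L97411 : sm gb N12464 = N10154 := ded_14_1 (flp_d L85327) L85325 L97409
theorem L97413 : sm gf N10153 = N12465 := rfl
theorem L97415 : sm gg N10153 = N12466 := rfl
theorem L97417 : sm gb N12466 = N10233 := ded_17_1 (flp_g L85634) (flp_b L26855) (flp_g L26739) L85325 L97415
theorem L97419 : sm gc N10154 = N12467 := rfl
theorem L97421 : sm ga N12467 = N10155 := ded_8_1 (flp_c L85333) (flp_a L85329) L97419
theorem L97423 : sm gg N12467 = N10234 := ded_21_2 (flp_c L85636) (flp_g L85331) L97419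
theorem L97425 : sm gd N11652 = N12467 := ded_28_1 (flp_c L97419) (flp_d L85327) (flp_c L26735) (flp_d L22341) L46443 L93329 L93331 L93335
theorem L97427 : sm ge N10154 = N12468 := rfl
theorem L97429 : sm ga N12468 = N10156 := ded_10_1 (flp_e L85337) (flp_a L85329) L97427
theorem L97431 : sm gg N12468 = N10235 := ded_26_2 (flp_e L85642) (flp_g L85331) L97427
theorem L97433 : sm gb N10155 = N12469 := rfl
theorem L97435 : sm gc N12469 = N12469 := ded_13_2 (flp_b L97433) (flp_c L85333) L26743 L85333 L97433
theorem L97436 : sm gg N12469 = N12469 := ded_17_2 (flp_b L97433) L85335 L82685 (flp_g L85335) L97433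
theorem L97437 : sm gd N10155 = N12470 := rfl
theorem L97439 : sm ga N12470 = N11652 := ded_9_1 L97425 L97421 L97437
theorem L97441 : sm gg N12470 = N10241 := ded_24_2 (flp_d L85664) (flp_g L85335) L97437
theorem L97443 : sm gc N11651 = N12470 := ded_28_0 (flp_d L97437) (flp_c L85333) (flp_d L26741) (flp_c L12845) (flp_d L10763) L22345 L46449 (flp_a L93331)
theorem L97445 : sm ge N10155 = N12471 := rfl
theorem L97447 : sm gc N12471 = N10156 := ded_19_1 (flp_e L85337) L85333 L97445
theorem L97449 : sm gg N12471 = N10242 := ded_26_2 (flp_e L85671) (flp_g L85335) L97445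
theorem L97451 : sm gf N10155 = N12472 := rfl
theorem L97453 : sm gc N12472 = N10157 := ded_20_1 (flp_f L85342) L85333 L97451
theorem L97455 : sm gf N10156 = N12473 := rfl
theorem L97457 : sm ge N12473 = N10157 := ded_25_1 (flp_f L85342) L85337 L97455
theorem L97459 : sm gb N10157 = N12474 := rfl
theorem L97461 : sm gd N12474 = N10158 := ded_14_2 (flp_b L85346) (flp_d L85344) L97459
theorem L97463 : sm gf N12474 = N12474 := ded_16_2 (flp_b L97459) (flp_f L85342) L26743 L85342 L97459
theorem L97464 : sm ga N10158 = N12475 := rfl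
theorem L97466 : sm gf N12475 = N12475 := ded_11_2 (flp_a L97464) L85348 L97464
theorem L97467 : sm gc N10158 = N12476 := rfl
theorem L97469 : sm gf N12476 = N12476 := ded_20_2 (flp_c L97467) L85348 L97467
theorem L97470 : sm gb N12476 = N10160 := ded_13_1 (flp_c L85353) (flp_b L26750) (flp_c L26748) L85346 L97467
theorem L97472 : sm gg N10158 = N12477 := rfl
theorem L97474 : sm gb N10159 = N12478 := rfl
theorem L97476 : sm gc N10159 = N12479 := rfl
theorem L97478 : sm ga N12479 = N10160 := ded_8_1 (flp_c L85353) L85349 L97476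
theorem L97480 : sm gf N12479 = N10163 := ded_20_2 (flp_c L85361) (flp_f L85351) L97476
theorem L97482 : sm gd N10160 = N12480 := rfl
theorem L97484 : sm gf N12480 = N10165 := ded_23_2 (flp_d L85371) (flp_f L85355) L97482
theorem L97486 : sm gg N10160 = N12481 := rfl
theorem L97488 : sm gc N12481 = N10161 := ded_21_1 (flp_g L85357) L85353 L97486
theorem L97490 : sm ga N10162 = N12482 := rfl
theorem L97492 : sm gf N12482 = N11668 := ded_29_0 L93423 L93474 (flp_g L93480) L97490
theorem L97494 : sm gb N12482 = N12442 := ded_7_2 (flp_a L97319) (flp_b L85290) (flp_a L26724) (flp_b L12839) (flp_a L6347) L12852 L26754 L85359 L97490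
theorem L97496 : sm gc N10162 = N12483 := rfl
theorem L97498 : sm gf N10162 = N12484 := rfl
theorem L97500 : sm ga N12484 = N11668 := ded_11_1 (flp_f L97492) (flp_a L97490) L97498
theorem L97502 : sm gg N12484 = N11676 := ded_29_3 (flp_a L93468) L93474 (flp_g L93480) L97498
theorem L97504 : sm gb N10163 = N12485 := rfl
theorem L97506 : sm gd N10163 = N12486 := rfl
theorem L97508 : sm ga N12486 = N10165 := ded_9_1 (flp_d L85371) (flp_a L85363) L97506
theorem L97510 : sm gg N10163 = N12487 := rfl
theorem L97512 : sm ga N12487 = N10166 := ded_12_1 (flp_g L85374) (flp_a L85363) L97510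
theorem L97514 : sm gc N12487 = N10164 := ded_21_1 (flp_g L85365) L85361 L97510
theorem L97516 : sm gf N12487 = N12481 := ded_29_2 (flp_g L97486) (flp_a L97478) L97480 L97510
theorem L97518 : sm gc N10165 = N12488 := rfl
theorem L97520 : sm ge N10165 = N12489 := rfl
theorem L97522 : sm gb N12489 = N12489 := ded_15_1 (flp_e L97520) L85373 L97520
theorem L97523 : sm gg N10165 = N12490 := rfl
theorem L97525 : sm gd N12490 = N10166 := ded_24_1 (flp_g L85374) L85371 L97523
theorem L97527 : sm gb N10166 = N12491 := rfl
theorem L97529 : sm gc N12491 = N12401 := ded_13_2 (flp_b L97147) L85213 (flp_b L26761) (flp_c L85376) L97527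
theorem L97531 : sm gg N12491 = N12491 := ded_17_2 (flp_b L97527) (flp_g L85374) L26758 L85374 L97527
theorem L97532 : sm gf N10166 = N12492 := rfl
theorem L97534 : sm ga N12492 = N12481 := ded_11_1 (flp_f L97516) L97512 L97532
theorem L97536 : sm gc N12492 = N10167 := ded_20_1 (flp_f L85378) (flp_c L85376) L97532
theorem L97538 : sm gg N12492 = N12479 := ded_29_3 L97478 L85355 L85374 L97532
theorem L97540 : sm gb N10167 = N12493 := rfl
theorem L97542 : sm gf N12493 = N12403 := ded_16_2 (flp_b L97158) (flp_f L85215) (flp_b L26761) L85378 L97540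
theorem L97544 : sm gb N10169 = N12494 := rfl
theorem L97546 : sm gd N12494 = N12350 := ded_14_2 L97035 L93403 L97544
theorem L97548 : sm gf N12494 = N12350 := ded_16_2 L97035 (flp_f L93397) L46479 L85388 L97544
theorem L97550 : sm ga N12494 = N11606 := ded_7_1 (flp_b L93113) L46337 L46357 (flp_a L72418) (flp_b L91656) L91652 L85252 (flp_a L85390) L97544
theorem L97552 : sm gb N10170 = N12495 := rfl
theorem L97554 : sm gd N10171 = N12496 := rfl
theorem L97556 : sm gb N12496 = N10172 := ded_14_1 (flp_d L85400) L85396 L97554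
theorem L97558 : sm gf N10171 = N12497 := rfl
theorem L97560 : sm gc N12497 = N10180 := ded_20_1 (flp_f L85431) (flp_c L85398) L97558
theorem L97562 : sm gg N10171 = N12498 := rfl
theorem L97564 : sm gc N12498 = N10181 := ded_21_1 (flp_g L85433) (flp_c L85398) L97562
theorem L97566 : sm ge N10172 = N12499 := rfl
theorem L97568 : sm gc N12499 = N12499 := ded_19_1 (flp_e L97566) L91643 L97566
theorem L97569 : sm gf N10172 = N12500 := rfl
theorem L97572 : sm gd N12500 = N10173 := ded_23_1 (flp_f L85402) L85400 L97569
theorem L97574 : sm gg N10172 = N12501 := rfl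
theorem L97576 : sm gc N12501 = N12501 := ded_21_1 (flp_g L97574) L91643 L97574
theorem L97577 : sm gd N12501 = N10174 := ded_24_1 (flp_g L85406) L85400 L97574
theorem L97579 : sm gb N10173 = N12502 := rfl
theorem L97581 : sm gg N10173 = N12503 := rfl
theorem L97583 : sm gc N12503 = N10175 := ded_21_1 (flp_g L85410) (flp_c L85404) L97581
theorem L97585 : sm gf N11672 = N12503 := ded_29_0 (flp_g L97581) (flp_f L85402) L85406 (flp_a L93450)
theorem L97587 : sm gb N10174 = N12504 := rfl
theorem L97589 : sm gf N10174 = N12505 := rfl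
theorem L97591 : sm ga N12505 = N12503 := ded_11_1 (flp_f L97585) L93450 L97589
theorem L97593 : sm gc N12505 = N10177 := ded_20_1 (flp_f L85418) (flp_c L85408) L97589
theorem L97595 : sm gg N12505 = N11671 := ded_29_3 L93444 (flp_f L85402) L85406 L97589
theorem L97597 : sm gb N10175 = N12506 := rfl
theorem L97599 : sm ga N10176 = N12507 := rfl
theorem L97601 : sm gd N12507 = N12484 := ded_9_2 L97500 L93421 L97599
theorem L97603 : sm gg N12507 = N10186 := ded_12_2 (flp_a L85455) (flp_g L85416) L97599
theorem L97605 : sm gf N12507 = N11659 := ded_29_0 L93381 (flp_f L85459) (flp_g L85416) L97599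
theorem L97607 : sm gc N10176 = N12508 := rfl
theorem L97609 : sm gg N12508 = N10187 := ded_21_2 (flp_c L85457) (flp_g L85416) L97607
theorem L97611 : sm gf N10176 = N12509 := rfl
theorem L97613 : sm ga N12509 = N11659 := ded_11_1 (flp_f L97605) (flp_a L97599) L97611
theorem L97615 : sm gd N12509 = N12482 := ded_23_1 L97492 L93421 L97611
theorem L97617 : sm gb N10177 = N12510 := rfl
theorem L97619 : sm gd N10178 = N12511 := rfl
theorem L97621 : sm ga N12511 = N10179 := ded_9_1 (flp_d L85427) L85424 L97619
theorem L97623 : sm gb N12511 = N12511 := ded_14_1 (flp_d L97619) L85426 L97619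
theorem L97624 : sm gf N10178 = N12512 := rfl
theorem L97626 : sm ga N12512 = N10180 := ded_11_1 (flp_f L85431) L85424 L97624
theorem L97628 : sm gg N10178 = N12513 := rfl
theorem L97630 : sm ga N12513 = N10181 := ded_12_1 (flp_g L85433) L85424 L97628
theorem L97632 : sm gc N10179 = N12514 := rfl
theorem L97634 : sm ge N10179 = N12515 := rfl
theorem L97636 : sm gb N12515 = N10183 := ded_15_1 (flp_e L85441) (flp_b L85429) L97634
theorem L97638 : sm gf N10179 = N12516 := rfl
theorem L97640 : sm gd N12516 = N10180 := ded_23_1 (flp_f L85431) L85427 L97638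
theorem L97642 : sm gg N10179 = N12517 := rfl
theorem L97644 : sm gd N12517 = N10181 := ded_24_1 (flp_g L85433) L85427 L97642
theorem L97646 : sm gg N10180 = N12518 := rfl
theorem L97648 : sm gf N12513 = N12518 := ded_29_0 (flp_g L97646) (flp_f L85431) L85433 (flp_a L97630)
theorem L97650 : sm gb N10181 = N12519 := rfl
theorem L97652 : sm gg N12519 = N10185 := ded_17_2 (flp_b L85453) (flp_g L26777) L26771 L85433 L97650
theorem L97654 : sm gf N10181 = N12520 := rfl
theorem L97656 : sm ga N12520 = N12518 := ded_11_1 (flp_f L97648) L97630 L97654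
theorem L97658 : sm gg N12520 = N12512 := ded_29_3 L97626 (flp_f L85431) L85433 L97654
theorem L97660 : sm gb N10182 = N12521 := rfl
theorem L97662 : sm gd N12521 = N11679 := ded_14_2 (flp_b L93482) L85439 L97660
theorem L97664 : sm ge N10182 = N12522 := rfl
theorem L97666 : sm ga N12522 = N10190 := ded_10_1 (flp_e L85470) (flp_a L85437) L97664
theorem L97668 : sm gc N12522 = N10183 := ded_19_1 (flp_e L85441) L85435 L97664
theorem L97670 : sm gg N10182 = N12523 := rfl
theorem L97672 : sm ga N12523 = N10191 := ded_12_1 (flp_g L85475) (flp_a L85437) L97670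
theorem L97674 : sm gc N12523 = N10184 := ded_21_1 (flp_g L85445) L85435 L97670
theorem L97676 : sm gd N12523 = N11681 := ded_24_1 (flp_g L93490) L85439 L97670
theorem L97678 : sm gf N12523 = N12432 := ded_29_2 (flp_g L97280) (flp_a L97250) L97252 L97670
theorem L97680 : sm gg N10183 = N12524 := rfl
theorem L97682 : sm ga N12524 = N10192 := ded_12_1 (flp_g L85479) (flp_a L85443) L97680
theorem L97684 : sm ge N12524 = N10184 := ded_26_1 (flp_g L85445) L85441 L97680
theorem L97686 : sm gf N12524 = N12433 := ded_29_2 (flp_g L97284) (flp_a L97258) L97260 L97680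
theorem L97688 : sm gb N10184 = N12525 := rfl
theorem L97690 : sm gd N12525 = N10185 := ded_14_2 (flp_b L85453) (flp_d L85449) L97688
theorem L97692 : sm ga N10185 = N12526 := rfl
theorem L97694 : sm gc N10185 = N12527 := rfl
theorem L97696 : sm gb N12527 = N10187 := ded_13_1 (flp_c L85457) (flp_b L26785) (flp_c L26781) L85453 L97694
theorem L97698 : sm gf N10185 = N12528 := rfl
theorem L97700 : sm gb N12528 = N12437 := ded_16_1 (flp_f L97301) (flp_b L85277) (flp_f L26783) L85453 L97698
theorem L97702 : sm gb N10186 = N12529 := rfl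
theorem L97704 : sm gc N10186 = N12530 := rfl
theorem L97706 : sm ga N12530 = N10187 := ded_8_1 (flp_c L85457) L85455 L97704
theorem L97708 : sm gf N10186 = N12531 := rfl
theorem L97710 : sm ga N12531 = N10188 := ded_11_1 (flp_f L85459) L85455 L97708
theorem L97712 : sm gg N12531 = N12509 := ded_29_3 L97613 (flp_f L97605) L97603 L97708
theorem L97714 : sm gb N10228 = N12531 := ded_31_14 L97712 (flp_f L97611) (flp_b L85414) (flp_g L26769) L26767 (flp_b L85252) L97224 (flp_f L97226) (flp_b L97212) L93580 (flp_f L93536) L46539 L85593 L85617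
theorem L97716 : sm gd N10187 = N12532 := rfl
theorem L97718 : sm gf N10187 = N12533 := rfl
theorem L97720 : sm gc N12533 = N10188 := ded_20_1 (flp_f L85459) L85457 L97718
theorem L97722 : sm ge N10189 = N12534 := rfl
theorem L97724 : sm ga N12534 = N11680 := ded_10_1 (flp_e L93486) (flp_a L85465) L97722
theorem L97726 : sm gb N12534 = N12534 := ded_15_1 (flp_e L97722) L85467 L97722
theorem L97727 : sm gc N12534 = N11673 := ded_19_1 (flp_e L93454) L85468 L97722
theorem L97729 : sm gg N10189 = N12535 := rfl
theorem L97731 : sm ga N12535 = N11681 := ded_12_1 (flp_g L93490) (flp_a L85465) L97729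
theorem L97733 : sm gc N12535 = N11674 := ded_21_1 (flp_g L93458) L85468 L97729
theorem L97735 : sm gd N12535 = N10191 := ded_24_1 (flp_g L85475) L85463 L97729
theorem L97737 : sm gd N10190 = N12536 := rfl
theorem L97739 : sm gb N12536 = N12536 := ded_14_1 (flp_d L97737) L85472 L97737
theorem L97740 : sm gg N10190 = N12537 := rfl
theorem L97742 : sm gc N12537 = N10192 := ded_21_1 (flp_g L85479) (flp_c L85473) L97740
theorem L97744 : sm ge N12537 = N10191 := ded_26_1 (flp_g L85475) L85470 L97740
theorem L97746 : sm gb N10191 = N12538 := rfl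
theorem L97748 : sm gg N12538 = N12538 := ded_17_2 (flp_b L97746) (flp_g L85475) L71009 L85475 L97746
theorem L97749 : sm gf N10191 = N12539 := rfl
theorem L97751 : sm ga N12539 = N12432 := ded_11_1 (flp_f L97678) L97672 L97749
theorem L97753 : sm gc N12539 = N10194 := ded_20_1 (flp_f L85489) (flp_c L85477) L97749
theorem L97755 : sm gg N12539 = N12427 := ded_29_3 L97250 L85266 L85475 L97749
theorem L97757 : sm gb N10192 = N12540 := rfl
theorem L97759 : sm ge N12540 = N10193 := ded_15_2 (flp_b L85483) (flp_e L85481) L97757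
theorem L97761 : sm gg N12540 = N10272 := ded_17_2 (flp_b L85802) (flp_g L27033) (flp_b L26791) L85479 L97757
theorem L97763 : sm gf N10192 = N12541 := rfl
theorem L97765 : sm ga N12541 = N12433 := ded_11_1 (flp_f L97686) L97682 L97763
theorem L97767 : sm ge N12541 = N10194 := ded_25_1 (flp_f L85489) (flp_e L85481) L97763
theorem L97769 : sm gg N12541 = N12428 := ded_29_3 L97258 L85271 L85479 L97763
theorem L97771 : sm ga N10193 = N12542 := rfl
theorem L97773 : sm gd N12542 = N10195 := ded_9_2 (flp_a L85497) (flp_d L85485) L97771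
theorem L97775 : sm gg N12542 = N10273 := ded_12_2 (flp_a L85806) (flp_g L85487) L97771
theorem L97777 : sm gc N10193 = N12543 := rfl
theorem L97779 : sm gg N12543 = N10274 := ded_21_2 (flp_c L85810) (flp_g L85487) L97777
theorem L97781 : sm gf N10193 = N12544 := rfl
theorem L97783 : sm gd N12544 = N10197 := ded_23_1 (flp_f L85507) (flp_d L85485) L97781
theorem L97785 : sm gb N10194 = N12545 := rfl
theorem L97787 : sm gd N12545 = N10198 := ded_14_2 (flp_b L85509) (flp_d L85493) L97785
theorem L97789 : sm gb N10195 = N12546 := rfl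
theorem L97791 : sm gc N10195 = N12547 := rfl
theorem L97793 : sm ga N12547 = N10196 := ded_8_1 (flp_c L85501) L85497 L97791
theorem L97795 : sm gg N12547 = N10277 := ded_21_2 (flp_c L85820) (flp_g L85499) L97791
theorem L97797 : sm gd N10196 = N12548 := rfl
theorem L97799 : sm gb N12548 = N10201 := ded_14_1 (flp_d L85519) (flp_b L85505) L97797
theorem L97801 : sm gg N12548 = N10279 := ded_24_2 (flp_d L85830) (flp_g L85503) L97797
theorem L97803 : sm gf N10196 = N12549 := rfl
theorem L97805 : sm gc N12549 = N10197 := ded_20_1 (flp_f L85507) L85501 L97803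
theorem L97807 : sm gb N10197 = N12550 := rfl
theorem L97809 : sm gf N12550 = N10198 := ded_16_2 (flp_b L85509) (flp_f L26801) L26797 L85507 L97807
theorem L97811 : sm ga N10198 = N12551 := rfl
theorem L97813 : sm gc N10198 = N12552 := rfl
theorem L97815 : sm gb N12552 = N10205 := ded_13_1 (flp_c L85533) (flp_b L26819) (flp_c L26805) L85509 L97813
theorem L97817 : sm gg N10198 = N12553 := rfl
theorem L97819 : sm gb N12553 = N12426 := ded_17_1 (flp_g L97246) (flp_b L85256) (flp_g L26807) L85509 L97817
theorem L97821 : sm ga N10199 = N12554 := rfl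
theorem L97823 : sm gc N10199 = N12555 := rfl
theorem L97825 : sm gf N10199 = N12556 := rfl
theorem L97827 : sm gg N10199 = N12557 := rfl
theorem L97829 : sm gb N12557 = N10210 := ded_17_1 (flp_g L85545) (flp_b L26821) (flp_g L26811) L85511 L97827
theorem L97831 : sm gb N10200 = N12558 := rfl
theorem L97833 : sm gd N10200 = N12559 := rfl
theorem L97835 : sm ga N12559 = N10201 := ded_9_1 (flp_d L85519) (flp_a L85515) L97833
theorem L97837 : sm gg N12559 = N10212 := ded_24_2 (flp_d L85549) (flp_g L85517) L97833
theorem L97839 : sm gc N10201 = N12560 := rfl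
theorem L97841 : sm gg N12560 = N10215 := ded_21_2 (flp_c L85563) (flp_g L85521) L97839
theorem L97843 : sm ge N10201 = N12561 := rfl
theorem L97845 : sm gg N12561 = N10216 := ded_26_2 (flp_e L85565) (flp_g L85521) L97843
theorem L97847 : sm gf N10201 = N12562 := rfl
theorem L97849 : sm gd N12562 = N10202 := ded_23_1 (flp_f L85523) L85519 L97847
theorem L97851 : sm gb N10202 = N12563 := rfl
theorem L97853 : sm ga N10203 = N12564 := rfl
theorem L97855 : sm gf N12564 = N10204 := ded_11_2 (flp_a L85531) (flp_f L85529) L97853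
theorem L97857 : sm gc N10203 = N12565 := rfl
theorem L97859 : sm gf N12565 = N10205 := ded_20_2 (flp_c L85533) (flp_f L85529) L97857
theorem L97861 : sm gg N10203 = N12566 := rfl
theorem L97863 : sm gb N10204 = N12567 := rfl
theorem L97865 : sm gc N10204 = N12568 := rfl
theorem L97867 : sm ga N12568 = N10205 := ded_8_1 (flp_c L85533) L85531 L97865
theorem L97869 : sm gg N10204 = N12569 := rfl
theorem L97871 : sm ga N12569 = N10206 := ded_12_1 (flp_g L85535) L85531 L97869
theorem L97873 : sm gf N12569 = N12566 := ded_29_2 (flp_g L97861) L97853 L97855 L97869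
theorem L97875 : sm gb N12569 = N11645 := ded_31_2 (flp_g L93303) (flp_f L46433) (flp_b L22335) (flp_g L10755) (flp_f L5398) (flp_b L2783) L2795 L3287 L6360 (flp_g L12876) L26817 L85527 L97861 (flp_f L97873)
theorem L97877 : sm gd N12453 = N12569 := ded_14_0 L97875 L93307 L97367
theorem L97879 : N11626 = N12567 := coi_17_5 (flp_b L97863) L97869 L97875 (flp_g L93303) L46437 L93217
theorem L97880 : N12567 = N11626 := (eqc rfl L97879 rfl).symm
theorem L97881 : sm gb N11626 = N10204 := trfs L97880 (flp_b L97863) rfl
theorem L97883 : sm gb N12564 = N12461 := ded_31_5 (flp_g L97397) (flp_f L85319) (flp_b L26733) L12843 L12900 L26869 L85660 (flp_f L93295) (flp_b L93277) (flp_g L93267) L93309 (flp_b L97875) (flp_g L97869) (flp_f L97855)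
theorem L97885 : sm ga N11690 = N12453 := ded_9_3 L97877 L97871 (flp_d L93528)
theorem L97887 : N11688 = N12417 := coi_24_0 (flp_g L97369) L97877 (flp_g L97869) (flp_d L93522)
theorem L97888 : N12417 = N11688 := (eqc rfl L97887 rfl).symm
theorem L97889 : sm gb N11688 = N10129 := trfs L97888 (flp_b L97206) rfl
theorem L97891 : sm gg N11688 = N12453 := trfs L97888 (flp_g L97369) rfl
theorem L97893 : sm gb N12456 = N11614 := ded_16_5 L93223 L97881 (flp_f L97855) L97883 (flp_f L97399)
theorem L97895 : sm gd N12383 = N12456 := ded_14_0 L97893 L93153 L97076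
theorem L97897 : sm gg N11621 = N12404 := ded_17_4 L97162 L97379 L97893 L93155 L93195
theorem L97899 : sm gb N12455 = N11667 := ded_31_5 (flp_g L93413) (flp_f L46483) (flp_b L22357) L22365 L22371 L46421 L46425 L46433 L46437 L93217 (flp_f L93223) (flp_b L97893) (flp_g L97379) L97375
theorem L97901 : sm ga N11649 = N12383 := ded_9_3 L97895 L97381 (flp_d L93323)
theorem L97903 : sm gg N11646 = N12383 := ded_24_0 L97895 (flp_g L97379) (flp_d L93313)
theorem L97905 : sm ga N12407 = N11621 := ded_12_3 L97897 (flp_a L97160) L97168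
theorem L97907 : sm gd N12404 = N12407 := ded_24_1 (flp_g L97168) (flp_d L93197) L97897
theorem L97909 : sm gd N12506 = N12455 := ded_14_0 L97899 L93415 L97597
theorem L97911 : sm gb N12353 = N11693 := ded_7_8 L93544 (flp_b L93325) L97901 (flp_b L97076) (flp_a L85184) (flp_b L26679) (flp_a L26658) L85135 L96942
theorem L97913 : sm gb N12407 = N11646 := ded_17_5 L97903 (flp_b L97076) L85186 L85221 L97168
theorem L97915 : sm gf N11646 = N12506 := ded_31_1 (flp_b L97597) (flp_g L85410) (flp_f L26767) (flp_b L12854) L12860 L12864 L26720 L26722 L26729 L26731 L85240 (flp_f L85244) L97076 (flp_g L97903)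
theorem L97917 : sm ga N11648 = N12506 := ded_9_3 L97909 L97377 (flp_d L93319)
theorem L97919 : sm gf N12495 = N12407 := ded_16_0 L97913 L97915 (flp_b L97597) (flp_f L85412) L97552
theorem L97921 : sm gd N10205 = N12570 := rfl
theorem L97923 : sm gg N10205 = N12571 := rfl
theorem L97925 : sm gc N12571 = N10206 := ded_21_1 (flp_g L85535) L85533 L97923
theorem L97927 : sm gf N10206 = N12572 := rfl
theorem L97929 : sm ga N12572 = N12566 := ded_11_1 (flp_f L97873) L97871 L97927
theorem L97931 : sm gg N12572 = N12564 := ded_29_3 (flp_a L97853) L85529 L85535 L97927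
theorem L97933 : sm gc N10207 = N12573 := rfl
theorem L97935 : sm ga N12573 = N10208 := ded_8_1 (flp_c L85541) L85539 L97933
theorem L97937 : sm gf N10207 = N12574 := rfl
theorem L97939 : sm ga N12574 = N10209 := ded_11_1 (flp_f L85543) L85539 L97937
theorem L97941 : sm gg N10207 = N12575 := rfl
theorem L97943 : sm ga N12575 = N10210 := ded_12_1 (flp_g L85545) L85539 L97941
theorem L97945 : sm gb N10208 = N12576 := rfl
theorem L97947 : sm gc N12576 = N10211 := ded_13_2 (flp_b L85547) (flp_c L26823) L26821 L85541 L97945
theorem L97949 : sm gd N10208 = N12577 := rfl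
theorem L97951 : sm gf N10208 = N12578 := rfl
theorem L97953 : sm gc N12578 = N10209 := ded_20_1 (flp_f L85543) L85541 L97951
theorem L97955 : sm gg N10208 = N12579 := rfl
theorem L97957 : sm gc N12579 = N10210 := ded_21_1 (flp_g L85545) L85541 L97955
theorem L97959 : sm gb N10209 = N12580 := rfl
theorem L97961 : sm gf N12580 = N10214 := ded_16_2 (flp_b L85561) (flp_f L26827) L26821 L85543 L97959
theorem L97963 : sm gg N12387 = N12580 := ded_31_0 L97961 (flp_b L85561) (flp_g L26831) (flp_f L26817) (flp_b L12874) (flp_g L6358) (flp_f L6334) (flp_b L6332) L6336 (flp_f L6339) L12826 (flp_g L26681) L85192 L97092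
theorem L97965 : sm gg N10214 = N12388 := ded_29_3 (flp_a L97096) (flp_f L97094) L97963 L97961
theorem L97967 : sm ga N12390 = N10214 := ded_29_4 (flp_f L97961) (flp_g L97963) L97094 L97100
theorem L97969 : sm gg N10209 = N12411 := ded_17_2 (flp_b L97184) (flp_g L85231) L97092 L97963 (flp_b L97959)
theorem L97971 : sm gb N12388 = N12566 := ded_17_1 (flp_g L97861) (flp_b L85527) L26831 L85561 L97965
theorem L97973 : sm gf N12575 = N12411 := ded_29_0 (flp_g L97969) (flp_f L85543) L85545 (flp_a L97943)
theorem L97975 : sm gb N12406 = N12575 := ded_16_5 L97973 (flp_b L97184) (flp_f L85227) L85221 L97166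
theorem L97977 : sm gf N10210 = N12581 := rfl
theorem L97979 : sm ga N12581 = N12411 := ded_11_1 (flp_f L97973) L97943 L97977
theorem L97981 : sm gg N12581 = N12574 := ded_29_3 L97939 (flp_f L85543) L85545 L97977
theorem L97983 : sm gb N12581 = N11619 := ded_31_2 (flp_g L93175) L72150 (flp_b L91656) (flp_g L97234) (flp_f L97228) (flp_b L85537) (flp_g L85535) (flp_f L85529) (flp_b L85527) L26831 (flp_f L26827) L26821 L85545 L97977
theorem L97985 : sm gd N12398 = N12581 := ded_14_0 L97983 L93181 L97138
theorem L97987 : sm gf N10262 = N12398 := ded_23_0 L97985 (flp_f L97977) (flp_d L85758)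
theorem L97989 : sm ga N10211 = N12582 := rfl
theorem L97991 : sm gd N10211 = N12583 := rfl
theorem L97993 : sm gb N12583 = N10212 := ded_14_1 (flp_d L85549) L85547 L97991
theorem L97995 : sm gf N10211 = N12584 := rfl
theorem L97997 : sm gg N10211 = N12585 := rfl
theorem L97999 : sm gc N10212 = N12586 := rfl
theorem L98001 : sm ga N12586 = N10215 := ded_8_1 (flp_c L85563) (flp_a L85551) L97999
theorem L98003 : sm gd N10267 = N12586 := ded_28_1 (flp_c L97999) (flp_d L85549) (flp_c L26823) (flp_d L12928) L26913 L85762 L85764 L85778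
theorem L98005 : sm ge N10212 = N12587 := rfl
theorem L98007 : sm ga N12587 = N10216 := ded_10_1 (flp_e L85565) (flp_a L85551) L98005
theorem L98009 : sm gf N10212 = N12588 := rfl
theorem L98011 : sm ga N12588 = N10217 := ded_11_1 (flp_f L85569) (flp_a L85551) L98009
theorem L98013 : sm gd N12588 = N10213 := ded_23_1 (flp_f L85553) L85549 L98009
theorem L98015 : sm gg N12562 = N12588 := ded_29_1 (flp_f L98009) (flp_g L97837) L97835 L97847
theorem L98017 : sm gb N10213 = N12589 := rfl
theorem L98019 : sm gc N10214 = N12590 := rfl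
theorem L98021 : sm gb N10215 = N12591 := rfl
theorem L98023 : sm gc N12591 = N10291 := ded_13_2 (flp_b L85888) (flp_c L27105) (flp_b L26835) L85563 L98021
theorem L98025 : sm gd N10215 = N12592 := rfl
theorem L98027 : sm ga N12592 = N10267 := ded_9_1 L98003 L98001 L98025
theorem L98029 : sm gc N10264 = N12592 := ded_28_0 (flp_d L98025) (flp_c L85563) (flp_d L26833) (flp_c L12886) (flp_d L6372) L12930 L26925 (flp_a L85764)
theorem L98031 : sm ge N10215 = N12593 := rfl
theorem L98033 : sm gc N12593 = N10216 := ded_19_1 (flp_e L85565) L85563 L98031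
theorem L98035 : sm gf N10215 = N12594 := rfl
theorem L98037 : sm gc N12594 = N10217 := ded_20_1 (flp_f L85569) L85563 L98035
theorem L98039 : sm gf N10216 = N12595 := rfl
theorem L98041 : sm ge N12595 = N10217 := ded_25_1 (flp_f L85569) L85565 L98039
theorem L98043 : sm gg N10217 = N12596 := rfl
theorem L98045 : sm ga N12596 = N12562 := ded_12_1 L98015 L98011 L98043
theorem L98047 : sm gd N12596 = N10218 := ded_24_1 (flp_g L85573) (flp_d L85571) L98043
theorem L98049 : sm gf N12559 = N12596 := ded_29_0 (flp_g L98043) (flp_f L85569) (flp_g L85521) (flp_a L97835)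
theorem L98051 : sm gb N10218 = N12597 := rfl
theorem L98053 : sm ga N10219 = N12598 := rfl
theorem L98055 : sm gg N12598 = N11720 := ded_12_2 (flp_a L93659) (flp_g L85583) L98053
theorem L98057 : sm gc N10219 = N12599 := rfl
theorem L98059 : sm gg N12599 = N11721 := ded_21_2 (flp_c L93663) (flp_g L85583) L98057
theorem L98061 : sm gf N10219 = N12600 := rfl
theorem L98063 : sm gb N12600 = N12556 := ded_16_1 (flp_f L97825) (flp_b L85511) L26845 L85581 L98061
theorem L98065 : sm gg N12493 = N12600 := ded_31_0 (flp_f L98061) (flp_b L85581) (flp_g L26841) (flp_f L12890) (flp_b L6360) (flp_g L3283) (flp_f L1672) L1669 L3278 L6345 L12852 L26759 L85378 L97540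
theorem L98067 : N12403 = N11720 := coi_29_3 (flp_g L98055) (flp_a L98053) L98061 (flp_g L98065) L97542
theorem L98068 : N12403 = N11720 := eqc rfl L98067 rfl
theorem L98069 : sm gb N11720 = N10123 := trfs L98068 (flp_b L97158) rfl
theorem L98071 : sm gf N11720 = N12493 := trfs L98068 (flp_f L97542) rfl
theorem L98073 : sm ga N12493 = N11722 := ded_29_4 (flp_f L93665) (flp_g L85583) L98061 (flp_g L98065)
theorem L98075 : sm gg N12556 = N12478 := ded_17_2 (flp_b L97474) (flp_g L85382) L97540 L98065 L98063
theorem L98077 : sm gb N11620 = N10256 := ded_14_3 (flp_d L93661) L98069 (flp_d L93191)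
theorem L98079 : sm ga N12510 = N10240 := ded_7_7 L85662 (flp_a L85380) L97540 L98073 L93669 L97917 (flp_b L97597) (flp_a L85420) L97617
theorem L98081 : sm gg N10238 = N12510 := ded_12_0 L98079 (flp_g L85660) L85656
theorem L98085 : sm gd N10220 = N12602 := rfl
theorem L98087 : sm ga N12602 = N10224 := ded_9_1 (flp_d L85601) (flp_a L85587) L98085
theorem L98089 : sm gf N10220 = N12603 := rfl
theorem L98091 : sm ga N12603 = N10225 := ded_11_1 (flp_f L85603) (flp_a L85587) L98089
theorem L98093 : sm gc N12603 = N10221 := ded_20_1 (flp_f L85589) L85585 L98089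
theorem L98095 : sm gg N10220 = N12604 := rfl
theorem L98097 : sm ga N12604 = N10226 := ded_12_1 (flp_g L85607) (flp_a L85587) L98095
theorem L98099 : sm gc N12604 = N10222 := ded_21_1 (flp_g L85593) L85585 L98095
theorem L98101 : sm gb N10221 = N12605 := rfl
theorem L98103 : sm gb N10222 = N12606 := rfl
theorem L98105 : sm gd N12606 = N12353 := ded_14_2 L97911 L93546 L98103
theorem L98107 : sm gf N12606 = N12529 := ded_16_2 (flp_b L97702) L97708 (flp_b L97714) (flp_f L85617) L98103
theorem L98109 : sm gg N12606 = N12353 := ded_17_2 L97911 (flp_g L93542) L46539 L85593 L98103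
theorem L98111 : sm ga N12606 = N11607 := ded_7_1 (flp_b L93119) L46343 L46369 L93151 (flp_b L97893) L97381 L85323 (flp_a L85595) L98103
theorem L98113 : sm gg N12355 = N12529 := ded_29_1 (flp_f L98107) L98109 (flp_a L96942) L96946
theorem L98115 : sm gg N12605 = N12393 := ded_31_6 (flp_f L97112) (flp_b L85196) L85202 L85206 L97064 L97066 L97072 L97074 L98113 (flp_f L98107) (flp_b L98103) (flp_g L85593) L85589 L98101
theorem L98117 : sm ga N10223 = N12607 := rfl
theorem L98119 : sm gc N12607 = N10230 := ded_8_2 (flp_a L85625) (flp_c L85599) L98117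
theorem L98121 : sm gd N10223 = N12608 := rfl
theorem L98123 : sm gb N12608 = N10224 := ded_14_1 (flp_d L85601) L85597 L98121
theorem L98125 : sm gf N10223 = N12609 := rfl
theorem L98127 : sm gc N12609 = N10232 := ded_20_1 (flp_f L85632) (flp_c L85599) L98125
theorem L98129 : sm gg N10223 = N12610 := rfl
theorem L98131 : sm gc N12610 = N10233 := ded_21_1 (flp_g L85634) (flp_c L85599) L98129
theorem L98133 : sm gc N10224 = N12611 := rfl
theorem L98135 : sm ge N10224 = N12612 := rfl
theorem L98137 : sm gf N10224 = N12613 := rfl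
theorem L98139 : sm gd N12613 = N10225 := ded_23_1 (flp_f L85603) L85601 L98137
theorem L98141 : sm gg N10224 = N12614 := rfl
theorem L98143 : sm gd N12614 = N10226 := ded_24_1 (flp_g L85607) L85601 L98141
theorem L98145 : sm gb N10225 = N12615 := rfl
theorem L98147 : sm gg N10225 = N12616 := rfl
theorem L98149 : sm gc N12616 = N10228 := ded_21_1 (flp_g L85615) (flp_c L85605) L98147
theorem L98151 : sm gf N12604 = N12616 := ded_29_0 (flp_g L98147) (flp_f L85603) L85607 (flp_a L98097)
theorem L98153 : sm gb N10226 = N12617 := rfl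
theorem L98155 : sm gf N10226 = N12618 := rfl
theorem L98157 : sm ga N12618 = N12616 := ded_11_1 (flp_f L98151) L98097 L98155
theorem L98159 : sm gc N12618 = N10229 := ded_20_1 (flp_f L85619) (flp_c L85609) L98155
theorem L98161 : sm gg N12618 = N12603 := ded_29_3 L98091 (flp_f L85603) L85607 L98155
theorem L98163 : sm ga N10227 = N12619 := rfl
theorem L98165 : sm gd N12619 = N12444 := ded_9_2 L97327 L93564 L98163
theorem L98167 : sm gf N12619 = N10238 := ded_11_2 (flp_a L85656) (flp_f L85613) L98163
theorem L98169 : sm gg N11640 = N12619 := ded_29_3 (flp_a L98163) L85613 L85660 (flp_f L93295)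
theorem L98171 : sm gc N10227 = N12620 := rfl
theorem L98173 : sm gf N12620 = N10239 := ded_20_2 (flp_c L85658) (flp_f L85613) L98171
theorem L98175 : sm gg N10227 = N12621 := rfl
theorem L98177 : sm ga N12621 = N11640 := ded_12_1 L98169 (flp_a L98163) L98175
theorem L98179 : sm gd N12621 = N12442 := ded_24_1 (flp_g L97321) L93564 L98175
theorem L98181 : sm gf N12510 = N12621 := ded_29_0 (flp_g L98175) L85613 L85660 (flp_a L98079)
theorem L98183 : sm gb N12621 = N12509 := ded_17_1 (flp_g L97712) (flp_b L97714) (flp_g L85615) L85611 L98175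
theorem L98185 : sm gb N10229 = N12622 := rfl
theorem L98187 : sm gd N12622 = N12418 := ded_14_2 (flp_b L97212) L93578 L98185
theorem L98189 : sm gg N12622 = N11627 := ded_17_2 (flp_b L97118) (flp_g L98115) (flp_b L98101) (flp_g L85623) L98185
theorem L98191 : sm ga N12622 = N11630 := ded_7_1 (flp_b L93530) L97885 (flp_b L97367) L85311 (flp_b L85461) (flp_a L97710) (flp_b L97714) (flp_a L85621) L98185
theorem L98193 : sm gd N10230 = N12623 := rfl
theorem L98195 : sm ga N12623 = N10231 := ded_9_1 (flp_d L85628) L85625 L98193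
theorem L98197 : sm gb N12623 = N12623 := ded_14_1 (flp_d L98193) L85627 L98193
theorem L98198 : sm gf N10230 = N12624 := rfl
theorem L98200 : sm ga N12624 = N10232 := ded_11_1 (flp_f L85632) L85625 L98198
theorem L98202 : sm gg N10230 = N12625 := rfl
theorem L98204 : sm ga N12625 = N10233 := ded_12_1 (flp_g L85634) L85625 L98202
theorem L98206 : sm gc N10231 = N12626 := rfl
theorem L98208 : sm ge N10231 = N12627 := rfl
theorem L98210 : sm gb N12627 = N10235 := ded_15_1 (flp_e L85642) (flp_b L85630) L98208
theorem L98212 : sm gf N10231 = N12628 := rfl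
theorem L98214 : sm gd N12628 = N10232 := ded_23_1 (flp_f L85632) L85628 L98212
theorem L98216 : sm gg N10231 = N12629 := rfl
theorem L98218 : sm gd N12629 = N10233 := ded_24_1 (flp_g L85634) L85628 L98216
theorem L98220 : sm gb N10232 = N12630 := rfl
theorem L98222 : sm gf N12630 = N10237 := ded_16_2 (flp_b L85654) (flp_f L26861) L26855 L85632 L98220
theorem L98224 : sm gg N10232 = N12631 := rfl
theorem L98226 : sm gf N12625 = N12631 := ded_29_0 (flp_g L98224) (flp_f L85632) L85634 (flp_a L98204)
theorem L98228 : sm gf N10233 = N12632 := rfl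
theorem L98230 : sm ga N12632 = N12631 := ded_11_1 (flp_f L98226) L98204 L98228
theorem L98232 : sm gg N12632 = N12624 := ded_29_3 L98200 (flp_f L85632) L85634 L98228
theorem L98234 : sm gb N10234 = N12633 := rfl
theorem L98236 : sm gd N12633 = N11711 := ded_14_2 (flp_b L93621) L85640 L98234
theorem L98238 : sm ge N10234 = N12634 := rfl
theorem L98240 : sm ga N12634 = N10242 := ded_10_1 (flp_e L85671) (flp_a L85638) L98238
theorem L98242 : sm gc N12634 = N10235 := ded_19_1 (flp_e L85642) L85636 L98238
theorem L98244 : sm gf N10234 = N12635 := rfl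
theorem L98246 : sm ga N12635 = N10243 := ded_11_1 (flp_f L85676) (flp_a L85638) L98244
theorem L98248 : sm gc N12635 = N10236 := ded_20_1 (flp_f L85646) L85636 L98244
theorem L98250 : sm gd N12635 = N11713 := ded_23_1 (flp_f L93629) L85640 L98244
theorem L98252 : sm gg N12472 = N12635 := ded_29_1 (flp_f L98244) (flp_g L97423) L97421 L97451
theorem L98254 : sm gf N10235 = N12636 := rfl
theorem L98256 : sm ga N12636 = N10244 := ded_11_1 (flp_f L85680) (flp_a L85644) L98254
theorem L98258 : sm ge N12636 = N10236 := ded_25_1 (flp_f L85646) L85642 L98254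
theorem L98260 : sm gg N12473 = N12636 := ded_29_1 (flp_f L98254) (flp_g L97431) L97429 L97455
theorem L98262 : sm gb N10236 = N12637 := rfl
theorem L98264 : sm gd N12637 = N10237 := ded_14_2 (flp_b L85654) (flp_d L85650) L98262
theorem L98266 : sm ga N10237 = N12638 := rfl
theorem L98268 : sm gc N10237 = N12639 := rfl
theorem L98270 : sm gb N12639 = N10239 := ded_13_1 (flp_c L85658) (flp_b L26869) (flp_c L26865) L85654 L98268
theorem L98272 : sm gg N10237 = N12640 := rfl
theorem L98274 : sm gb N12640 = N12477 := ded_17_1 (flp_g L97472) (flp_b L85346) L26867 L85654 L98272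
theorem L98276 : sm gb N10238 = N12641 := rfl
theorem L98278 : sm gg N12641 = N12494 := ded_17_2 (flp_b L97544) (flp_g L85422) L97617 (flp_g L98081) L98276
theorem L98280 : sm gf N12352 = N12641 := ded_31_1 (flp_b L98276) L98081 L98181 L98183 (flp_g L97712) (flp_f L97708) L97702 (flp_g L98113) (flp_f L96946) (flp_b L85135) (flp_g L26656) L26652 L85133 L96940
theorem L98282 : sm gc N10238 = N12642 := rfl
theorem L98284 : sm ga N12642 = N10239 := ded_8_1 (flp_c L85658) L85656 L98282
theorem L98286 : sm gd N10239 = N12643 := rfl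
theorem L98288 : sm gg N10239 = N12644 := rfl
theorem L98290 : sm gc N12644 = N10240 := ded_21_1 (flp_g L85660) L85658 L98288
theorem L98292 : sm ge N10241 = N12645 := rfl
theorem L98294 : sm ga N12645 = N11712 := ded_10_1 (flp_e L93625) (flp_a L85666) L98292
theorem L98296 : sm gb N12645 = N12645 := ded_15_1 (flp_e L98292) L85668 L98292
theorem L98297 : sm gc N12645 = N11705 := ded_19_1 (flp_e L93593) L85669 L98292
theorem L98299 : sm gf N10241 = N12646 := rfl
theorem L98301 : sm ga N12646 = N11713 := ded_11_1 (flp_f L93629) (flp_a L85666) L98299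
theorem L98303 : sm gc N12646 = N11706 := ded_20_1 (flp_f L93597) L85669 L98299
theorem L98305 : sm gd N12646 = N10243 := ded_23_1 (flp_f L85676) L85664 L98299
theorem L98307 : sm gd N10242 = N12647 := rfl
theorem L98309 : sm gb N12647 = N12647 := ded_14_1 (flp_d L98307) L85673 L98307
theorem L98310 : sm gf N10242 = N12648 := rfl
theorem L98312 : sm gc N12648 = N10244 := ded_20_1 (flp_f L85680) (flp_c L85674) L98310
theorem L98314 : sm ge N12648 = N10243 := ded_25_1 (flp_f L85676) L85671 L98310
theorem L98316 : sm gb N10243 = N12649 := rfl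
theorem L98318 : sm gf N12649 = N12649 := ded_16_2 (flp_b L98316) (flp_f L85676) L82685 L85676 L98316
theorem L98319 : sm gg N10243 = N12650 := rfl
theorem L98321 : sm ga N12650 = N12472 := ded_12_1 L98252 L98246 L98319
theorem L98323 : sm gc N12650 = N10246 := ded_21_1 (flp_g L85690) (flp_c L85678) L98319
theorem L98325 : sm gf N12467 = N12650 := ded_29_0 (flp_g L98319) (flp_f L85676) (flp_g L85335) (flp_a L97421)
theorem L98327 : sm gb N10244 = N12651 := rfl
theorem L98329 : sm ge N12651 = N10245 := ded_15_2 (flp_b L85684) (flp_e L85682) L98327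
theorem L98331 : sm gf N12651 = N10293 := ded_16_2 (flp_b L85894) (flp_f L27223) (flp_b L26875) L85680 L98327
theorem L98333 : sm gg N10244 = N12652 := rfl
theorem L98335 : sm ga N12652 = N12473 := ded_12_1 L98260 L98256 L98333
theorem L98337 : sm ge N12652 = N10246 := ded_26_1 (flp_g L85690) (flp_e L85682) L98333
theorem L98339 : sm gf N12468 = N12652 := ded_29_0 (flp_g L98333) (flp_f L85680) (flp_g L85340) (flp_a L97429)
theorem L98341 : sm ga N10245 = N12653 := rfl
theorem L98343 : sm gd N12653 = N10247 := ded_9_2 (flp_a L85698) (flp_d L85686) L98341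
theorem L98345 : sm gf N12653 = N10294 := ded_11_2 (flp_a L85898) (flp_f L85688) L98341
theorem L98347 : sm gc N10245 = N12654 := rfl
theorem L98349 : sm gf N12654 = N10295 := ded_20_2 (flp_c L85902) (flp_f L85688) L98347
theorem L98351 : sm gg N10245 = N12655 := rfl
theorem L98353 : sm gd N12655 = N10249 := ded_24_1 (flp_g L85708) (flp_d L85686) L98351
theorem L98355 : sm gb N10246 = N12656 := rfl
theorem L98357 : sm gd N12656 = N10250 := ded_14_2 (flp_b L85710) (flp_d L85694) L98355
theorem L98359 : sm gb N10247 = N12657 := rfl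
theorem L98361 : sm gc N10247 = N12658 := rfl
theorem L98363 : sm ga N12658 = N10248 := ded_8_1 (flp_c L85702) L85698 L98361
theorem L98365 : sm gf N12658 = N10298 := ded_20_2 (flp_c L85912) (flp_f L85700) L98361
theorem L98367 : sm gd N10248 = N12659 := rfl
theorem L98369 : sm gb N12659 = N10253 := ded_14_1 (flp_d L85722) (flp_b L85706) L98367
theorem L98371 : sm gf N12659 = N10300 := ded_23_2 (flp_d L85922) (flp_f L85704) L98367
theorem L98373 : sm gg N10248 = N12660 := rfl
theorem L98375 : sm gc N12660 = N10249 := ded_21_1 (flp_g L85708) L85702 L98373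
theorem L98377 : sm gb N10249 = N12661 := rfl
theorem L98379 : sm gg N12661 = N10250 := ded_17_2 (flp_b L85710) (flp_g L26885) L26881 L85708 L98377
theorem L98381 : sm ga N10250 = N12662 := rfl
theorem L98383 : sm gc N10250 = N12663 := rfl
theorem L98385 : sm gb N12663 = N10257 := ded_13_1 (flp_c L85738) (flp_b L26907) (flp_c L26889) L85710 L98383
theorem L98387 : sm gf N10250 = N12664 := rfl
theorem L98389 : sm gb N12664 = N12465 := ded_16_1 (flp_f L97413) (flp_b L85325) L26891 L85710 L98387
theorem L98391 : sm ga N10251 = N12665 := rfl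
theorem L98393 : sm gd N12665 = N12390 := ded_9_2 L97967 (flp_d L85714) L98391
theorem L98395 : sm gg N11617 = N12665 := ded_24_0 L98393 (flp_g L97100) (flp_d L93167)
theorem L98397 : sm gc N10251 = N12666 := rfl
theorem L98399 : sm gf N10251 = N12667 := rfl
theorem L98401 : sm gd N12667 = N12580 := ded_23_1 L97961 (flp_d L85714) L98399
theorem L98403 : sm gb N12667 = N10261 := ded_16_1 (flp_f L85752) (flp_b L26909) (flp_f L26897) L85712 L98399
theorem L98405 : sm gg N10251 = N12668 := rfl
theorem L98407 : sm ga N12668 = N11617 := ded_12_1 L98395 (flp_a L98391) L98405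
theorem L98409 : sm gd N12668 = N12388 := ded_24_1 (flp_g L97965) (flp_d L85714) L98405
theorem L98411 : sm gb N10252 = N12669 := rfl
theorem L98413 : sm gd N10252 = N12670 := rfl
theorem L98415 : sm ga N12670 = N10253 := ded_9_1 (flp_d L85722) (flp_a L85718) L98413
theorem L98417 : sm gf N12670 = N10264 := ded_23_2 (flp_d L85762) (flp_f L85720) L98413
theorem L98419 : sm gc N10253 = N12671 := rfl
theorem L98421 : sm gf N12671 = N10267 := ded_20_2 (flp_c L85778) (flp_f L85724) L98419
theorem L98423 : sm ge N10253 = N12672 := rfl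
theorem L98425 : sm gf N12672 = N10268 := ded_25_2 (flp_e L85780) (flp_f L85724) L98423
theorem L98427 : sm gg N10253 = N12673 := rfl
theorem L98429 : sm gd N12673 = N10254 := ded_24_1 (flp_g L85726) L85722 L98427
theorem L98431 : sm gb N10254 = N12674 := rfl
theorem L98433 : sm ga N10255 = N12675 := rfl
theorem L98435 : sm gd N12675 = N12598 := ded_9_2 (flp_a L98053) (flp_d L85732) L98433
theorem L98437 : sm gg N12675 = N10256 := ded_12_2 (flp_a L85736) (flp_g L85734) L98433
theorem L98439 : sm gb N12422 = N12675 := ded_17_5 L98437 (flp_b L98077) (flp_g L93185) (flp_b L91656) (flp_g L97234)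
theorem L98441 : sm gc N10255 = N12676 := rfl
theorem L98443 : sm gg N12676 = N10257 := ded_21_2 (flp_c L85738) (flp_g L85734) L98441
theorem L98445 : sm gf N10255 = N12677 := rfl
theorem L98447 : sm gd N12677 = N12600 := ded_23_1 (flp_f L98061) (flp_d L85732) L98445
theorem L98449 : sm gc N10256 = N12678 := rfl
theorem L98451 : sm ga N12678 = N10257 := ded_8_1 (flp_c L85738) L85736 L98449
theorem L98453 : sm gb N12678 = N11663 := ded_13_1 L93387 L46473 (flp_c L93189) L98077 L98449
theorem L98455 : sm gf N10256 = N12679 := rfl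
theorem L98457 : sm ga N12679 = N10258 := ded_11_1 (flp_f L85740) L85736 L98455
theorem L98459 : sm gd N12679 = N12493 := ded_23_1 (flp_f L98071) L93661 L98455
theorem L98461 : sm gg N12677 = N12679 := ded_29_1 (flp_f L98455) (flp_g L98437) (flp_a L98433) L98445
theorem L98463 : sm gb N12679 = N11664 := ded_16_1 (flp_f L93389) L46473 L93193 L98077 L98455
theorem L98465 : sm gd N10257 = N12680 := rfl
theorem L98467 : sm gf N10257 = N12681 := rfl
theorem L98469 : sm gc N12681 = N10258 := ded_20_1 (flp_f L85740) L85738 L98467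
theorem L98471 : sm gg N10258 = N12682 := rfl
theorem L98473 : sm ga N12682 = N12677 := ded_12_1 L98461 L98457 L98471
theorem L98475 : sm gf N12675 = N12682 := ded_29_0 (flp_g L98471) (flp_f L85740) (flp_g L85734) L98433
theorem L98477 : sm gb N12682 = N12572 := ded_17_1 L97931 L97883 (flp_g L97397) (flp_b L85742) L98471
theorem L98479 : sm gb N12677 = N12380 := ded_7_2 (flp_a L97068) (flp_b L85182) (flp_a L26685) L85194 L97096 L97971 (flp_a L97929) (flp_b L98477) L98473
theorem L98481 : sm gd N12380 = N12556 := ded_14_2 (flp_b L98063) (flp_d L98447) L98479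
theorem L98483 : sm gf N12380 = N10266 := ded_16_2 (flp_b L85774) L26923 L85730 L98445 L98479
theorem L98485 : sm ga N12556 = N11613 := ded_9_1 L93149 L97068 L98481
theorem L98487 : sm ga N10266 = N12382 := ded_11_1 (flp_f L97072) L97068 L98483
theorem L98489 : sm gf N11613 = N12554 := ded_11_2 (flp_a L97821) L97825 L98485
theorem L98491 : sm gd N12382 = N12554 := ded_9_2 (flp_a L97821) (flp_d L85776) L98487
theorem L98493 : sm gc N10259 = N12683 := rfl
theorem L98495 : sm ga N12683 = N10260 := ded_8_1 (flp_c L85750) L85744 L98493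
theorem L98497 : sm gf N10259 = N12684 := rfl
theorem L98499 : sm ga N12684 = N10261 := ded_11_1 (flp_f L85752) L85744 L98497
theorem L98501 : sm gd N12684 = N12574 := ded_23_1 (flp_f L97937) (flp_d L85746) L98497
theorem L98503 : sm gg N12684 = N12398 := ded_29_1 (flp_f L97987) (flp_g L85756) L85744 L98497
theorem L98505 : sm gb N12394 = N12684 := ded_17_5 L98503 (flp_b L97138) (flp_g L85202) L85196 L97120
theorem L98507 : sm gg N10259 = N12685 := rfl
theorem L98509 : sm ga N12685 = N10262 := ded_12_1 (flp_g L85756) L85744 L98507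
theorem L98511 : sm gd N12685 = N12575 := ded_24_1 (flp_g L97941) (flp_d L85746) L98507
theorem L98513 : sm gb N10260 = N12686 := rfl
theorem L98515 : sm gc N12686 = N10263 := ded_13_2 (flp_b L85760) (flp_c L26913) L26909 L85750 L98513
theorem L98517 : sm gd N10260 = N12687 := rfl
theorem L98519 : sm gf N10260 = N12688 := rfl
theorem L98521 : sm gc N12688 = N10261 := ded_20_1 (flp_f L85752) L85750 L98519
theorem L98523 : sm gg N10260 = N12689 := rfl
theorem L98525 : sm gc N12689 = N10262 := ded_21_1 (flp_g L85756) L85750 L98523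
theorem L98527 : sm gg N10261 = N12690 := rfl
theorem L98529 : sm ga N12690 = N12398 := ded_12_1 (flp_g L98503) L98499 L98527
theorem L98531 : sm gd N12690 = N12411 := ded_24_1 (flp_g L97969) (flp_d L85754) L98527
theorem L98533 : sm gf N12685 = N12690 := ded_29_0 (flp_g L98527) (flp_f L85752) L85756 (flp_a L98509)
theorem L98535 : sm gb N11623 = N12690 := ded_31_14 (flp_g L98527) (flp_f L85752) (flp_b L26909) L26917 L26923 L85730 L85734 L85740 L85742 L97397 (flp_f L97399) L97893 L93155 L93203
theorem L98537 : sm gb N10262 = N12691 := rfl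
theorem L98539 : sm gd N12691 = N12557 := ded_14_2 L97829 (flp_d L85758) L98537
theorem L98541 : sm gf N12691 = N12379 := ded_16_2 (flp_b L97064) (flp_f L85206) L97138 (flp_f L97987) L98537
theorem L98543 : sm gg N12691 = N10266 := ded_17_2 (flp_b L85774) (flp_g L26917) L26909 L85756 L98537
theorem L98545 : sm ga N10263 = N12692 := rfl
theorem L98547 : sm gd N10263 = N12693 := rfl
theorem L98549 : sm gb N12693 = N10264 := ded_14_1 (flp_d L85762) L85760 L98547
theorem L98551 : sm gf N10263 = N12694 := rfl
theorem L98553 : sm gg N10263 = N12695 := rfl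
theorem L98555 : sm ge N10264 = N12696 := rfl
theorem L98557 : sm ga N12696 = N10268 := ded_10_1 (flp_e L85780) (flp_a L85764) L98555
theorem L98559 : sm gg N10264 = N12697 := rfl
theorem L98561 : sm ga N12697 = N10269 := ded_12_1 (flp_g L85784) (flp_a L85764) L98559
theorem L98563 : sm gd N12697 = N10265 := ded_24_1 (flp_g L85766) L85762 L98559
theorem L98565 : sm gf N12697 = N12673 := ded_29_2 (flp_g L98427) (flp_a L98415) L98417 L98559
theorem L98567 : sm gb N10265 = N12698 := rfl
theorem L98569 : sm gc N10266 = N12699 := rfl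
theorem L98571 : sm gb N10267 = N12700 := rfl
theorem L98573 : sm gc N12700 = N10312 := ded_13_2 (flp_b L85980) (flp_c L27297) (flp_b L26927) L85778 L98571
theorem L98575 : sm ge N10267 = N12701 := rfl
theorem L98577 : sm gc N12701 = N10268 := ded_19_1 (flp_e L85780) L85778 L98575
theorem L98579 : sm gg N10267 = N12702 := rfl
theorem L98581 : sm gc N12702 = N10269 := ded_21_1 (flp_g L85784) L85778 L98579
theorem L98583 : sm gg N10268 = N12703 := rfl
theorem L98585 : sm ge N12703 = N10269 := ded_26_1 (flp_g L85784) L85780 L98583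
theorem L98587 : sm gf N10269 = N12704 := rfl
theorem L98589 : sm ga N12704 = N12673 := ded_11_1 (flp_f L98565) L98561 L98587
theorem L98591 : sm gd N12704 = N10270 := ded_23_1 (flp_f L85788) (flp_d L85786) L98587
theorem L98593 : sm gg N12704 = N12670 := ded_29_3 L98415 L85724 L85784 L98587
theorem L98595 : sm gb N10270 = N12705 := rfl
theorem L98597 : sm ga N10271 = N12706 := rfl
theorem L98599 : sm gd N12706 = N12564 := ded_9_2 (flp_a L97853) (flp_d L85798) L98597
theorem L98601 : sm gf N12706 = N11688 := ded_11_2 (flp_a L93520) (flp_f L85800) L98597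
theorem L98603 : sm gc N10271 = N12707 := rfl
theorem L98605 : sm gf N12707 = N11689 := ded_20_2 (flp_c L93524) (flp_f L85800) L98603
theorem L98607 : sm gg N10271 = N12708 := rfl
theorem L98609 : sm gd N12708 = N12566 := ded_24_1 (flp_g L97861) (flp_d L85798) L98607
theorem L98611 : sm gf N12453 = N12708 := ded_29_0 (flp_g L98607) L85800 L93526 L97885
theorem L98613 : sm gb N12708 = N12668 := ded_17_1 (flp_g L98405) (flp_b L85712) (flp_g L26939) L85796 L98607
theorem L98615 : sm gf N12668 = N12438 := ded_16_2 (flp_b L97303) L85313 L97367 L98611 L98613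
theorem L98617 : sm ga N10272 = N12709 := rfl
theorem L98619 : sm ge N12709 = N10273 := ded_10_2 (flp_a L85806) (flp_e L85804) L98617
theorem L98621 : sm gc N10272 = N12710 := rfl
theorem L98623 : sm ge N12710 = N10274 := ded_19_2 (flp_c L85810) (flp_e L85804) L98621
theorem L98625 : sm gb N12710 = N12710 := ded_13_1 (flp_c L98621) (flp_b L85802) L71007 L85802 L98621
theorem L98626 : sm gf N10272 = N12711 := rfl
theorem L98628 : sm ge N12711 = N10275 := ded_25_1 (flp_f L85813) (flp_e L85804) L98626
theorem L98631 : sm gb N10273 = N12712 := rfl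
theorem L98633 : sm gd N12712 = N10276 := ded_14_2 (flp_b L85818) (flp_d L85808) L98631
theorem L98635 : sm gc N10273 = N12713 := rfl
theorem L98637 : sm ga N12713 = N10274 := ded_8_1 (flp_c L85810) L85806 L98635
theorem L98639 : sm gf N10273 = N12714 := rfl
theorem L98641 : sm ga N12714 = N10275 := ded_11_1 (flp_f L85813) L85806 L98639
theorem L98643 : sm gd N12714 = N10278 := ded_23_1 (flp_f L85824) (flp_d L85808) L98639
theorem L98645 : sm gg N12544 = N12714 := ded_29_1 (flp_f L98639) (flp_g L97775) (flp_a L97771) L97781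
theorem L98647 : sm gd N10274 = N12715 := rfl
theorem L98650 : sm gf N10274 = N12716 := rfl
theorem L98652 : sm gc N12716 = N10275 := ded_20_1 (flp_f L85813) L85810 L98650
theorem L98654 : sm gg N10275 = N12717 := rfl
theorem L98656 : sm ga N12717 = N12544 := ded_12_1 L98645 L98641 L98654
theorem L98658 : sm gd N12717 = N10281 := ded_24_1 (flp_g L85840) (flp_d L85815) L98654
theorem L98660 : sm gf N12542 = N12717 := ded_29_0 (flp_g L98654) (flp_f L85813) (flp_g L85487) L97771
theorem L98662 : sm ga N10276 = N12718 := rfl
theorem L98664 : sm gb N12718 = N12718 := ded_7_2 (flp_a L98662) (flp_b L85818) (flp_a L27041) (flp_b L12983) L50667 L12983 L27041 L85818 L98662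
theorem L98665 : sm gc N10276 = N12719 := rfl
theorem L98667 : sm gg N10276 = N12720 := rfl
theorem L98669 : sm gb N10277 = N12721 := rfl
theorem L98671 : sm gd N10277 = N12722 := rfl
theorem L98673 : sm ga N12722 = N10279 := ded_9_1 (flp_d L85830) (flp_a L85822) L98671
theorem L98675 : sm gf N10277 = N12723 := rfl
theorem L98677 : sm ga N12723 = N10280 := ded_11_1 (flp_f L85834) (flp_a L85822) L98675
theorem L98679 : sm gc N12723 = N10278 := ded_20_1 (flp_f L85824) L85820 L98675
theorem L98681 : sm gg N12549 = N12723 := ded_29_1 (flp_f L98675) (flp_g L97795) L97793 L97803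
theorem L98683 : sm gc N10279 = N12724 := rfl
theorem L98685 : sm ge N10279 = N12725 := rfl
theorem L98687 : sm gb N12725 = N10282 := ded_15_1 (flp_e L85846) (flp_b L85832) L98685
theorem L98689 : sm gf N10279 = N12726 := rfl
theorem L98691 : sm gd N12726 = N10280 := ded_23_1 (flp_f L85834) L85830 L98689
theorem L98693 : sm gb N12726 = N11729 := ded_16_1 (flp_f L93697) L46649 (flp_f L80540) (flp_b L85832) L98689
theorem L98695 : sm gg N10280 = N12727 := rfl
theorem L98697 : sm ga N12727 = N12549 := ded_12_1 L98681 L98677 L98695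
theorem L98699 : sm gc N12727 = N10281 := ded_21_1 (flp_g L85840) (flp_c L85836) L98695
theorem L98701 : sm gf N12547 = N12727 := ded_29_0 (flp_g L98695) (flp_f L85834) (flp_g L85503) (flp_a L97793)
theorem L98703 : sm gb N10281 = N12728 := rfl
theorem L98705 : sm gg N12728 = N12728 := ded_17_2 (flp_b L98703) (flp_g L85840) L71005 L85840 L98703
theorem L98706 : sm gb N10283 = N12729 := rfl
theorem L98708 : sm gd N10283 = N12730 := rfl
theorem L98710 : sm ga N12730 = N10285 := ded_9_1 (flp_d L85866) (flp_a L85856) L98708
theorem L98712 : sm gf N12730 = N10285 := ded_23_2 (flp_d L85866) (flp_f L85858) L98708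
theorem L98714 : sm gg N12730 = N11435 := ded_24_2 (flp_d L92118) (flp_g L85860) L98708
theorem L98716 : sm ga N10284 = N12731 := rfl
theorem L98718 : sm gc N12731 = N10286 := ded_8_2 (flp_a L85870) (flp_c L85864) L98716
theorem L98720 : sm gd N10284 = N12732 := rfl
theorem L98722 : sm gb N12732 = N10285 := ded_14_1 (flp_d L85866) L85862 L98720
theorem L98724 : sm gf N10284 = N12733 := rfl
theorem L98726 : sm gc N12733 = N10288 := ded_20_1 (flp_f L85876) (flp_c L85864) L98724
theorem L98728 : sm gg N10284 = N12734 := rfl
theorem L98730 : sm gc N12734 = N10289 := ded_21_1 (flp_g L85878) (flp_c L85864) L98728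
theorem L98732 : sm gb N12734 = N11401 := ded_17_1 L91988 L44189 (flp_g L81080) L85862 L98728
theorem L98734 : sm gc N10285 = N12735 := rfl
theorem L98736 : sm gg N12735 = N11436 := ded_21_2 (flp_c L92123) (flp_g L85868) L98734
theorem L98738 : sm ge N10285 = N12736 := rfl
theorem L98740 : sm gg N12736 = N11437 := ded_26_2 (flp_e L92126) (flp_g L85868) L98738
theorem L98742 : sm gb N10286 = N12737 := rfl
theorem L98744 : sm gd N10286 = N12738 := rfl
theorem L98746 : sm ga N12738 = N10287 := ded_9_1 (flp_d L85872) L85870 L98744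
theorem L98748 : sm gf N10286 = N12739 := rfl
theorem L98750 : sm ga N12739 = N10288 := ded_11_1 (flp_f L85876) L85870 L98748
theorem L98752 : sm gg N10286 = N12740 := rfl
theorem L98754 : sm ga N12740 = N10289 := ded_12_1 (flp_g L85878) L85870 L98752
theorem L98756 : sm gc N10287 = N12741 := rfl
theorem L98758 : sm ge N10287 = N12742 := rfl
theorem L98760 : sm gb N12742 = N10290 := ded_15_1 (flp_e L85882) (flp_b L85874) L98758
theorem L98762 : sm gf N10287 = N12743 := rfl
theorem L98764 : sm gd N12743 = N10288 := ded_23_1 (flp_f L85876) L85872 L98762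
theorem L98766 : sm gg N10287 = N12744 := rfl
theorem L98768 : sm gd N12744 = N10289 := ded_24_1 (flp_g L85878) L85872 L98766
theorem L98770 : sm gb N12744 = N11398 := ded_17_1 (flp_g L91970) L44169 (flp_g L80545) (flp_b L85874) L98766
theorem L98772 : sm gg N10288 = N12745 := rfl
theorem L98774 : sm gf N12740 = N12745 := ded_29_0 (flp_g L98772) (flp_f L85876) L85878 (flp_a L98754)
theorem L98776 : sm gf N10289 = N12746 := rfl
theorem L98778 : sm ga N12746 = N12745 := ded_11_1 (flp_f L98774) L98754 L98776
theorem L98780 : sm gg N12746 = N12739 := ded_29_3 L98750 (flp_f L85876) L85878 L98776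
theorem L98782 : sm ga N10291 = N12747 := rfl
theorem L98784 : sm ge N10291 = N12748 := rfl
theorem L98786 : sm gb N12748 = N10292 := ded_15_1 (flp_e L85890) L85888 L98784
theorem L98788 : sm gf N10291 = N12749 := rfl
theorem L98790 : sm gg N10291 = N12750 := rfl
theorem L98792 : sm gd N10292 = N12751 := rfl
theorem L98794 : sm ga N10293 = N12752 := rfl
theorem L98796 : sm ge N12752 = N10294 := ded_10_2 (flp_a L85898) (flp_e L85896) L98794
theorem L98798 : sm gc N10293 = N12753 := rfl
theorem L98800 : sm ge N12753 = N10295 := ded_19_2 (flp_c L85902) (flp_e L85896) L98798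
theorem L98802 : sm gb N12753 = N12753 := ded_13_1 (flp_c L98798) (flp_b L85894) L82687 L85894 L98798
theorem L98803 : sm gg N10293 = N12754 := rfl
theorem L98808 : sm gb N10294 = N12755 := rfl
theorem L98810 : sm gd N12755 = N10297 := ded_14_2 (flp_b L85910) (flp_d L85900) L98808
theorem L98812 : sm gc N10294 = N12756 := rfl
theorem L98814 : sm ga N12756 = N10295 := ded_8_1 (flp_c L85902) L85898 L98812
theorem L98816 : sm gg N10294 = N12757 := rfl
theorem L98818 : sm ga N12757 = N10296 := ded_12_1 (flp_g L85905) L85898 L98816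
theorem L98820 : sm gd N12757 = N10299 := ded_24_1 (flp_g L85916) (flp_d L85900) L98816
theorem L98822 : sm gf N12757 = N12655 := ded_29_2 (flp_g L98351) L98341 L98345 L98816
theorem L98824 : sm gd N10295 = N12758 := rfl
theorem L98827 : sm gg N10295 = N12759 := rfl
theorem L98831 : sm gf N10296 = N12760 := rfl
theorem L98833 : sm ga N12760 = N12655 := ded_11_1 (flp_f L98822) L98818 L98831
theorem L98835 : sm gd N12760 = N10302 := ded_23_1 (flp_f L85932) (flp_d L85907) L98831
theorem L98837 : sm gg N12760 = N12653 := ded_29_3 (flp_a L98341) L85688 L85905 L98831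
theorem L98839 : sm ga N10297 = N12761 := rfl
theorem L98841 : sm gb N12761 = N12761 := ded_7_2 (flp_a L98839) (flp_b L85910) (flp_a L27231) (flp_b L13072) L80615 L13072 L27231 L85910 L98839
theorem L98842 : sm gc N10297 = N12762 := rfl
theorem L98844 : sm gf N10297 = N12763 := rfl
theorem L98846 : sm gg N10297 = N12764 := rfl
theorem L98848 : sm gb N10298 = N12765 := rfl
theorem L98850 : sm gd N10298 = N12766 := rfl
theorem L98852 : sm ga N12766 = N10300 := ded_9_1 (flp_d L85922) (flp_a L85914) L98850
theorem L98854 : sm gg N10298 = N12767 := rfl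
theorem L98856 : sm ga N12767 = N10301 := ded_12_1 (flp_g L85926) (flp_a L85914) L98854
theorem L98858 : sm gc N12767 = N10299 := ded_21_1 (flp_g L85916) L85912 L98854
theorem L98860 : sm gf N12767 = N12660 := ded_29_2 (flp_g L98373) (flp_a L98363) L98365 L98854
theorem L98862 : sm gb N10299 = N12768 := rfl
theorem L98864 : sm gc N10300 = N12769 := rfl
theorem L98866 : sm ge N10300 = N12770 := rfl
theorem L98868 : sm gb N12770 = N10303 := ded_15_1 (flp_e L85938) (flp_b L85924) L98866
theorem L98870 : sm gg N10300 = N12771 := rfl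
theorem L98872 : sm gd N12771 = N10301 := ded_24_1 (flp_g L85926) L85922 L98870
theorem L98874 : sm gb N12771 = N11759 := ded_17_1 (flp_g L93821) L46777 (flp_g L80559) (flp_b L85924) L98870
theorem L98876 : sm gf N10301 = N12772 := rfl
theorem L98878 : sm ga N12772 = N12660 := ded_11_1 (flp_f L98860) L98856 L98876
theorem L98880 : sm gc N12772 = N10302 := ded_20_1 (flp_f L85932) (flp_c L85928) L98876
theorem L98882 : sm gg N12772 = N12658 := ded_29_3 L98363 L85704 L85926 L98876
theorem L98884 : sm gb N10302 = N12773 := rfl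
theorem L98886 : sm gf N12773 = N12773 := ded_16_2 (flp_b L98884) (flp_f L85932) L83386 L85932 L98884
theorem L98887 : sm gb N10304 = N12774 := rfl
theorem L98889 : sm gc N12774 = N12729 := ded_13_2 (flp_b L98706) (flp_c L85854) (flp_b L27261) L85946 L98887
theorem L98891 : sm gd N10304 = N12775 := rfl
theorem L98893 : sm ga N12775 = N10306 := ded_9_1 (flp_d L85958) (flp_a L85948) L98891
theorem L98895 : sm gf N12775 = N11441 := ded_23_2 (flp_d L92145) (flp_f L85950) L98891
theorem L98897 : sm gg N12775 = N10306 := ded_24_2 (flp_d L85958) (flp_g L85952) L98891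
theorem L98899 : sm ga N10305 = N12776 := rfl
theorem L98901 : sm gc N12776 = N10307 := ded_8_2 (flp_a L85962) (flp_c L85956) L98899
theorem L98903 : sm gd N10305 = N12777 := rfl
theorem L98905 : sm gb N12777 = N10306 := ded_14_1 (flp_d L85958) L85954 L98903
theorem L98907 : sm gf N10305 = N12778 := rfl
theorem L98909 : sm gc N12778 = N10309 := ded_20_1 (flp_f L85968) (flp_c L85956) L98907
theorem L98911 : sm gb N12778 = N11423 := ded_16_1 L92069 L44229 (flp_f L75022) L85954 L98907
theorem L98913 : sm gg N10305 = N12779 := rfl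
theorem L98915 : sm gc N12779 = N10310 := ded_21_1 (flp_g L85972) (flp_c L85956) L98913
theorem L98917 : sm gc N10306 = N12780 := rfl
theorem L98919 : sm gf N12780 = N11442 := ded_20_2 (flp_c L92150) (flp_f L85960) L98917
theorem L98921 : sm ge N10306 = N12781 := rfl
theorem L98923 : sm gf N12781 = N11443 := ded_25_2 (flp_e L92153) (flp_f L85960) L98921
theorem L98925 : sm gb N10307 = N12782 := rfl
theorem L98927 : sm gd N10307 = N12783 := rfl
theorem L98929 : sm ga N12783 = N10308 := ded_9_1 (flp_d L85964) L85962 L98927
theorem L98931 : sm gf N10307 = N12784 := rfl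
theorem L98933 : sm ga N12784 = N10309 := ded_11_1 (flp_f L85968) L85962 L98931
theorem L98935 : sm gg N10307 = N12785 := rfl
theorem L98937 : sm ga N12785 = N10310 := ded_12_1 (flp_g L85972) L85962 L98935
theorem L98939 : sm gc N10308 = N12786 := rfl
theorem L98941 : sm ge N10308 = N12787 := rfl
theorem L98943 : sm gb N12787 = N10311 := ded_15_1 (flp_e L85974) (flp_b L85966) L98941
theorem L98945 : sm gf N10308 = N12788 := rfl
theorem L98947 : sm gd N12788 = N10309 := ded_23_1 (flp_f L85968) L85964 L98945
theorem L98949 : sm gb N12788 = N11420 := ded_16_1 (flp_f L92051) L44209 (flp_f L80471) (flp_b L85966) L98945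
theorem L98951 : sm gg N10308 = N12789 := rfl
theorem L98953 : sm gd N12789 = N10310 := ded_24_1 (flp_g L85972) L85964 L98951
theorem L98955 : sm gg N10309 = N12790 := rfl
theorem L98957 : sm gf N12785 = N12790 := ded_29_0 (flp_g L98955) (flp_f L85968) L85972 (flp_a L98937)
theorem L98959 : sm gf N10310 = N12791 := rfl
theorem L98961 : sm ga N12791 = N12790 := ded_11_1 (flp_f L98957) L98937 L98959
theorem L98963 : sm gg N12791 = N12784 := ded_29_3 L98933 (flp_f L85968) L85972 L98959
theorem L98965 : sm ga N10312 = N12792 := rfl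
theorem L98967 : sm ge N10312 = N12793 := rfl
theorem L98969 : sm gb N12793 = N10313 := ded_15_1 (flp_e L85982) L85980 L98967
theorem L98971 : sm gf N10312 = N12794 := rfl
theorem L98973 : sm gg N10312 = N12795 := rfl
theorem L98975 : sm gd N10313 = N12796 := rfl
theorem L98977 : sm ga N10314 = N12797 := rfl
theorem L98979 : sm gc N12797 = N12797 := ded_8_2 (flp_a L98977) L85988 L98977
theorem L98980 : sm ge N10314 = N12798 := rfl
theorem L98982 : sm gb N12798 = N10315 := ded_15_1 (flp_e L85989) L85986 L98980
theorem L98985 : sm gf N10314 = N12799 := rfl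
theorem L98987 : sm gc N12799 = N12799 := ded_20_1 (flp_f L98985) L85988 L98985
theorem L98988 : sm gb N12799 = N11790 := ded_16_1 (flp_f L93968) (flp_b L46973) (flp_f L75698) L85986 L98985
theorem L98990 : sm gg N10314 = N12800 := rfl
theorem L98992 : sm gc N12800 = N12800 := ded_21_1 (flp_g L98990) L85988 L98990
theorem L98993 : sm gb N12800 = N10333 := ded_17_1 (flp_g L86105) (flp_b L27604) (flp_g L27498) L85986 L98990
theorem L98995 : sm gc N10316 = N12801 := rfl
theorem L98997 : sm ga N12801 = N10319 := ded_8_1 (flp_c L86025) (flp_a L86001) L98995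
theorem L98999 : sm gf N12801 = N10319 := ded_20_2 (flp_c L86025) (flp_f L86005) L98995
theorem L99001 : sm gg N12801 = N11453 := ded_21_2 (flp_c L92201) (flp_g L86007) L98995
theorem L99003 : sm gd N12735 = N12801 := ded_28_1 (flp_c L98995) (flp_d L85999) (flp_c L27516) (flp_d L27069) L85854 L98708 L98710 L98734
theorem L99005 : sm ge N10316 = N12802 := rfl
theorem L99007 : sm ga N12802 = N10320 := ded_10_1 (flp_e L86029) (flp_a L86001) L99005
theorem L99009 : sm gb N12802 = N11178 := ded_15_1 L90788 (flp_b L86003) L99005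
theorem L99013 : sm gg N12802 = N11454 := ded_26_2 (flp_e L92208) (flp_g L86007) L99005
theorem L99015 : sm gd N12802 = N10357 := ded_22_1 (flp_e L86238) (flp_d L28251) (flp_e L27520) L85999 L99005
theorem L99017 : sm gc N10317 = N12803 := rfl
theorem L99019 : sm ge N10317 = N12804 := rfl
theorem L99021 : sm gb N12804 = N10320 := ded_15_1 (flp_e L86029) (flp_b L86011) L99019
theorem L99025 : sm gf N10317 = N12805 := rfl
theorem L99031 : sm gg N12805 = N10342 := ded_29_3 L86158 L86172 (flp_g L86180) L99025
theorem L99033 : sm gb N12805 = N11093 := ded_16_1 L90305 (flp_b L86003) L86005 (flp_b L86011) L99025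
theorem L99035 : sm gb N10319 = N12806 := rfl
theorem L99037 : sm gd N10319 = N12807 := rfl
theorem L99039 : sm ga N12807 = N12735 := ded_9_1 L99003 L98997 L99037
theorem L99041 : sm gf N12807 = N12735 := ded_23_2 L99003 L98999 L99037
theorem L99043 : sm gg N12807 = N11456 := ded_24_2 (flp_d L92217) (flp_g L86027) L99037
theorem L99045 : sm gc N12730 = N12807 := ded_28_0 (flp_d L99037) (flp_c L86025) (flp_d L27538) (flp_c L13213) (flp_d L13001) L27071 L85866 (flp_a L98710)
theorem L99047 : sm ge N10319 = N12808 := rfl
theorem L99049 : sm gc N12808 = N10320 := ded_19_1 (flp_e L86029) L86025 L99047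
theorem L99051 : sm gg N12808 = N11457 := ded_26_2 (flp_e L92224) (flp_g L86027) L99047
theorem L99053 : sm gc N10321 = N12809 := rfl
theorem L99055 : sm ga N12809 = N10323 := ded_8_1 (flp_c L86055) (flp_a L86037) L99053
theorem L99057 : sm gg N12809 = N10412 := ded_21_2 (flp_c L86655) (flp_g L86041) L99053
theorem L99059 : sm ge N10321 = N12810 := rfl
theorem L99063 : sm gb N12810 = N10431 := ded_15_1 L86737 (flp_b L86039) L99059
theorem L99069 : sm gf N10321 = N12811 := rfl
theorem L99071 : sm ga N12811 = N10325 := ded_11_1 (flp_f L86063) (flp_a L86037) L99069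
theorem L99075 : sm gg N12811 = N10339 := ded_29_3 (flp_a L86593) L86591 (flp_g L86041) L99069
theorem L99077 : sm gb N12811 = N11063 := ded_16_1 L90131 (flp_b L83941) (flp_f L82656) (flp_b L86039) L99069
theorem L99079 : sm gb N10323 = N12812 := rfl
theorem L99081 : sm gc N12812 = N10327 := ded_13_2 (flp_b L86075) (flp_c L27572) (flp_b L27562) L86055 L99079
theorem L99083 : sm gd N10323 = N12813 := rfl
theorem L99085 : sm ge N10323 = N12814 := rfl
theorem L99087 : sm gc N12814 = N10324 := ded_19_1 (flp_e L86057) L86055 L99085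
theorem L99089 : sm gf N10323 = N12815 := rfl
theorem L99093 : sm gg N10323 = N12816 := rfl
theorem L99095 : sm ga N12816 = N10412 := ded_12_1 (flp_g L99057) L99055 L99093
theorem L99097 : sm gc N12816 = N10326 := ded_21_1 (flp_g L86067) L86055 L99093
theorem L99099 : sm gf N10324 = N12817 := rfl
theorem L99105 : sm gg N10324 = N12818 := rfl
theorem L99109 : sm gd N12818 = N10366 := ded_24_1 (flp_g L86318) (flp_d L86061) L99105
theorem L99111 : sm ge N12818 = N10326 := ded_26_1 (flp_g L86067) L86057 L99105
theorem L99115 : sm ga N10327 = N12819 := rfl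
theorem L99117 : sm gd N12819 = N12747 := ded_9_2 (flp_a L98782) (flp_d L86077) L99115
theorem L99119 : sm ge N10327 = N12820 := rfl
theorem L99121 : sm gb N12820 = N10328 := ded_15_1 (flp_e L86079) L86075 L99119
theorem L99123 : sm gf N10327 = N12821 := rfl
theorem L99125 : sm gd N12821 = N12749 := ded_23_1 (flp_f L98788) (flp_d L86077) L99123
theorem L99127 : sm gg N10327 = N12822 := rfl
theorem L99129 : sm gd N12822 = N12750 := ded_24_1 (flp_g L98790) (flp_d L86077) L99127
theorem L99131 : sm gb N12822 = N11448 := ded_17_1 (flp_g L92170) (flp_b L44412) (flp_g L75709) L86075 L99127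
theorem L99133 : sm gd N10328 = N12823 := rfl
theorem L99135 : sm ga N12823 = N10335 := ded_9_1 (flp_d L86115) (flp_a L86081) L99133
theorem L99137 : sm gg N12823 = N11450 := ded_24_2 (flp_d L92182) (flp_g L86085) L99133
theorem L99139 : sm ge N12823 = N12751 := ded_22_2 (flp_d L98792) (flp_e L85890) L27576 L86079 L99133
theorem L99141 : sm gb N10329 = N12824 := rfl
theorem L99143 : sm gd N10329 = N12825 := rfl
theorem L99145 : sm ga N12825 = N10330 := ded_9_1 (flp_d L86091) L86087 L99143
theorem L99147 : sm ge N10329 = N12826 := rfl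
theorem L99149 : sm ga N12826 = N10331 := ded_10_1 (flp_e L86095) L86087 L99147
theorem L99153 : sm gf N10329 = N12827 := rfl
theorem L99155 : sm ga N12827 = N10332 := ded_11_1 (flp_f L86101) L86087 L99153
theorem L99157 : sm gc N12827 = N10415 := ded_20_1 (flp_f L86663) (flp_c L86089) L99153
theorem L99159 : sm gg N10329 = N12828 := rfl
theorem L99161 : sm ga N12828 = N10333 := ded_12_1 (flp_g L86105) L86087 L99159
theorem L99163 : sm gc N12828 = N10416 := ded_21_1 (flp_g L86667) (flp_c L86089) L99159
theorem L99165 : sm gc N10330 = N12829 := rfl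
theorem L99167 : sm gb N12829 = N12741 := ded_13_1 (flp_c L98756) L85874 L27612 (flp_b L86093) L99165
theorem L99169 : sm ge N10330 = N12830 := rfl
theorem L99171 : sm gb N12830 = N10334 := ded_15_1 (flp_e L86109) (flp_b L86093) L99169
theorem L99173 : sm gf N10330 = N12831 := rfl
theorem L99175 : sm gd N12831 = N10332 := ded_23_1 (flp_f L86101) L86091 L99173
theorem L99177 : sm gg N10330 = N12832 := rfl
theorem L99179 : sm gd N12832 = N10333 := ded_24_1 (flp_g L86105) L86091 L99177
theorem L99181 : sm gd N10331 = N12833 := rfl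
theorem L99183 : sm gb N12833 = N10335 := ded_14_1 (flp_d L86115) (flp_b L86097) L99181
theorem L99185 : sm gf N10331 = N12834 := rfl
theorem L99187 : sm gc N12834 = N10418 := ded_20_1 (flp_f L86675) (flp_c L86099) L99185
theorem L99189 : sm ge N12834 = N10332 := ded_25_1 (flp_f L86101) L86095 L99185
theorem L99191 : sm gg N10331 = N12835 := rfl
theorem L99195 : sm ge N12835 = N10333 := ded_26_1 (flp_g L86105) L86095 L99191
theorem L99197 : sm gg N10332 = N12836 := rfl
theorem L99199 : sm gc N12836 = N10421 := ded_21_1 (flp_g L86688) (flp_c L86103) L99197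
theorem L99201 : sm gf N12828 = N12836 := ded_29_0 (flp_g L99197) (flp_f L86101) L86105 (flp_a L99161)
theorem L99203 : sm gf N10333 = N12837 := rfl
theorem L99205 : sm ga N12837 = N12836 := ded_11_1 (flp_f L99201) L99161 L99203
theorem L99209 : sm gg N12837 = N12827 := ded_29_3 L99155 (flp_f L86101) L86105 L99203
theorem L99211 : sm gd N10334 = N12838 := rfl
theorem L99213 : sm ga N12838 = N12751 := ded_9_1 (flp_d L98792) (flp_a L86111) L99211
theorem L99215 : sm ge N12838 = N10335 := ded_22_2 (flp_d L86115) (flp_e L27614) L27608 L86109 L99211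
theorem L99217 : sm ga N10336 = N12839 := rfl
theorem L99219 : sm gc N12839 = N12839 := ded_8_2 (flp_a L99217) L86119 L99217
theorem L99220 : sm ge N10336 = N12840 := rfl
theorem L99222 : sm gb N12840 = N10337 := ded_15_1 (flp_e L86120) L86117 L99220
theorem L99225 : sm gf N10336 = N12841 := rfl
theorem L99227 : sm gc N12841 = N12841 := ded_20_1 (flp_f L99225) L86119 L99225
theorem L99228 : sm gb N12841 = N10352 := ded_16_1 (flp_f L86212) (flp_b L27936) (flp_f L27832) L86117 L99225
theorem L99230 : sm gg N10336 = N12842 := rfl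
theorem L99233 : sm gb N12842 = N11834 := ded_17_1 (flp_g L94223) (flp_b L47310) (flp_g L77850) L86117 L99230
theorem L99235 : sm gc N10338 = N12843 := rfl
theorem L99237 : sm ga N12843 = N10340 := ded_8_1 (flp_c L86146) (flp_a L86132) L99235
theorem L99239 : sm gf N12843 = N11467 := ded_20_2 (flp_c L92274) (flp_f L86136) L99235
theorem L99241 : sm gg N12843 = N10340 := ded_21_2 (flp_c L86146) (flp_g L86138) L99235
theorem L99243 : sm gd N12780 = N12843 := ded_28_1 (flp_c L99235) (flp_d L86130) (flp_c L27850) (flp_d L27259) L85946 L98891 L98893 L98917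
theorem L99245 : sm ge N10338 = N12844 := rfl
theorem L99247 : sm ga N12844 = N10341 := ded_10_1 (flp_e L86150) (flp_a L86132) L99245
theorem L99249 : sm gb N12844 = N11151 := ded_15_1 L90662 (flp_b L86134) L99245
theorem L99251 : sm gf N12844 = N11468 := ded_25_2 (flp_e L92281) (flp_f L86136) L99245
theorem L99257 : sm gc N10339 = N12845 := rfl
theorem L99259 : sm gf N12845 = N12816 := ded_20_2 L99097 (flp_f L86144) L99257
theorem L99261 : sm ge N10339 = N12846 := rfl
theorem L99263 : sm gb N12846 = N10341 := ded_15_1 (flp_e L86150) (flp_b L86142) L99261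
theorem L99267 : sm gd N12846 = N10377 := ded_22_1 (flp_e L86413) (flp_d L28743) (flp_e L27868) L86140 L99261
theorem L99269 : sm gb N10340 = N12847 := rfl
theorem L99271 : sm gd N10340 = N12848 := rfl
theorem L99273 : sm ga N12848 = N12780 := ded_9_1 L99243 L99237 L99271
theorem L99275 : sm gf N12848 = N11470 := ded_23_2 (flp_d L92290) (flp_f L86148) L99271
theorem L99277 : sm gg N12848 = N12780 := ded_24_2 L99243 L99241 L99271
theorem L99279 : sm gc N12775 = N12848 := ded_28_0 (flp_d L99271) (flp_c L86146) (flp_d L27872) (flp_c L13386) (flp_d L13090) L27263 L85958 (flp_a L98893)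
theorem L99281 : sm ge N10340 = N12849 := rfl
theorem L99283 : sm gc N12849 = N10341 := ded_19_1 (flp_e L86150) L86146 L99281
theorem L99287 : sm gc N10342 = N12850 := rfl
theorem L99289 : sm ga N12850 = N10343 := ded_8_1 (flp_c L86164) (flp_a L86158) L99287
theorem L99291 : sm gf N12850 = N10459 := ded_20_2 (flp_c L86902) (flp_f L86162) L99287
theorem L99293 : sm ge N10342 = N12851 := rfl
theorem L99297 : sm gb N12851 = N10478 := ded_15_1 L86984 (flp_b L86160) L99293
theorem L99303 : sm gb N10343 = N12852 := rfl
theorem L99305 : sm gc N12852 = N10347 := ded_13_2 (flp_b L86186) (flp_c L27904) (flp_b L27894) L86164 L99303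
theorem L99307 : sm gd N10343 = N12853 := rfl
theorem L99309 : sm ge N10343 = N12854 := rfl
theorem L99311 : sm gc N12854 = N10344 := ded_19_1 (flp_e L86166) L86164 L99309
theorem L99313 : sm gf N10343 = N12855 := rfl
theorem L99315 : sm ga N12855 = N10459 := ded_11_1 (flp_f L99291) L99289 L99313
theorem L99317 : sm gc N12855 = N10345 := ded_20_1 (flp_f L86172) L86164 L99313
theorem L99319 : sm gg N12803 = N12855 := ded_21_0 L99317 (flp_g L86180) L99017
theorem L99321 : sm gg N10343 = N12856 := rfl
theorem L99323 : sm gc N12856 = N10346 := ded_21_1 (flp_g L86182) L86164 L99321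
theorem L99325 : sm gf N10344 = N12857 := rfl
theorem L99331 : sm ge N12857 = N10345 := ded_25_1 (flp_f L86172) L86166 L99325
theorem L99333 : sm gb N12857 = N10823 := ded_16_1 (flp_f L88954) L37482 (flp_f L77885) (flp_b L86168) L99325
theorem L99337 : sm gg N10344 = N12858 := rfl
theorem L99343 : sm ga N10347 = N12859 := rfl
theorem L99345 : sm gd N12859 = N12792 := ded_9_2 (flp_a L98965) (flp_d L86188) L99343
theorem L99347 : sm ge N10347 = N12860 := rfl
theorem L99349 : sm gb N12860 = N10348 := ded_15_1 (flp_e L86190) L86186 L99347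
theorem L99351 : sm gf N10347 = N12861 := rfl
theorem L99353 : sm gd N12861 = N12794 := ded_23_1 (flp_f L98971) (flp_d L86188) L99351
theorem L99355 : sm gb N12861 = N11461 := ded_16_1 (flp_f L92239) (flp_b L44573) (flp_f L77870) L86186 L99351
theorem L99357 : sm gg N10347 = N12862 := rfl
theorem L99359 : sm gd N12862 = N12795 := ded_24_1 (flp_g L98973) (flp_d L86188) L99357
theorem L99361 : sm gd N10348 = N12863 := rfl
theorem L99363 : sm ga N12863 = N10355 := ded_9_1 (flp_d L86226) (flp_a L86192) L99361
theorem L99365 : sm gf N12863 = N11464 := ded_23_2 (flp_d L92255) (flp_f L86196) L99361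
theorem L99367 : sm ge N12863 = N12796 := ded_22_2 (flp_d L98975) (flp_e L85982) L27908 L86190 L99361
theorem L99369 : sm gb N10349 = N12864 := rfl
theorem L99371 : sm gd N10349 = N12865 := rfl
theorem L99373 : sm ga N12865 = N10350 := ded_9_1 (flp_d L86202) L86198 L99371
theorem L99375 : sm ge N10349 = N12866 := rfl
theorem L99377 : sm ga N12866 = N10351 := ded_10_1 (flp_e L86206) L86198 L99375
theorem L99379 : sm gc N12866 = N10461 := ded_19_1 (flp_e L86906) (flp_c L86200) L99375
theorem L99381 : sm gf N10349 = N12867 := rfl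
theorem L99383 : sm ga N12867 = N10352 := ded_11_1 (flp_f L86212) L86198 L99381
theorem L99385 : sm gc N12867 = N10462 := ded_20_1 (flp_f L86910) (flp_c L86200) L99381
theorem L99387 : sm gg N10349 = N12868 := rfl
theorem L99389 : sm ga N12868 = N10353 := ded_12_1 (flp_g L86216) L86198 L99387
theorem L99393 : sm gc N10350 = N12869 := rfl
theorem L99395 : sm gb N12869 = N12786 := ded_13_1 (flp_c L98939) L85966 L27944 (flp_b L86204) L99393
theorem L99397 : sm ge N10350 = N12870 := rfl
theorem L99399 : sm gb N12870 = N10354 := ded_15_1 (flp_e L86220) (flp_b L86204) L99397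
theorem L99401 : sm gf N10350 = N12871 := rfl
theorem L99403 : sm gd N12871 = N10352 := ded_23_1 (flp_f L86212) L86202 L99401
theorem L99405 : sm gg N10350 = N12872 := rfl
theorem L99407 : sm gd N12872 = N10353 := ded_24_1 (flp_g L86216) L86202 L99405
theorem L99409 : sm gd N10351 = N12873 := rfl
theorem L99411 : sm gb N12873 = N10355 := ded_14_1 (flp_d L86226) (flp_b L86208) L99409
theorem L99413 : sm gf N10351 = N12874 := rfl
theorem L99419 : sm gg N10351 = N12875 := rfl
theorem L99421 : sm gc N12875 = N10466 := ded_21_1 (flp_g L86927) (flp_c L86210) L99419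
theorem L99423 : sm ge N12875 = N10353 := ded_26_1 (flp_g L86216) L86206 L99419
theorem L99431 : sm gf N10353 = N12877 := rfl
theorem L99435 : sm gc N12877 = N10469 := ded_20_1 (flp_f L86939) (flp_c L86218) L99431
theorem L99437 : sm gg N12877 = N12867 := ded_29_3 L99383 (flp_f L86212) L86216 L99431
theorem L99439 : sm gd N10354 = N12878 := rfl
theorem L99441 : sm ga N12878 = N12796 := ded_9_1 (flp_d L98975) (flp_a L86222) L99439
theorem L99443 : sm ge N12878 = N10355 := ded_22_2 (flp_d L86226) (flp_e L27946) L27940 L86220 L99439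
theorem L99445 : sm ge N10356 = N12879 := rfl
theorem L99451 : sm gf N12879 = N10361 := ded_25_2 (flp_e L86274) (flp_f L86232) L99445
theorem L99453 : sm gg N12879 = N11474 := ded_26_2 (flp_e L92318) (flp_g L86234) L99445
theorem L99467 : sm ge N10360 = N12881 := rfl
theorem L99477 : sm gd N10361 = N12882 := rfl
theorem L99479 : sm gg N12882 = N11480 := ded_24_2 (flp_d L92355) (flp_g L86278) L99477
theorem L99481 : sm gf N10362 = N12883 := rfl
theorem L99487 : sm ge N12883 = N10363 := ded_25_1 (flp_f L86290) L86280 L99481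
theorem L99489 : sm gg N12883 = N10377 := ded_29_3 (flp_a L87123) L87121 (flp_g L86288) L99481
theorem L99493 : sm gd N10367 = N12884 := rfl
theorem L99497 : sm ge N12884 = N11794 := ded_22_2 L93990 L47009 (flp_d L80800) L86326 L99493
theorem L99499 : sm gg N10367 = N12885 := rfl
theorem L99501 : sm ga N12885 = N10371 := ded_12_1 (flp_g L86354) (flp_a L86328) L99499
theorem L99537 : sm gg N10370 = N12890 := rfl
theorem L99543 : sm gf N12885 = N12890 := ded_29_0 (flp_g L99537) (flp_f L86346) L86354 (flp_a L99501)
theorem L99558 : sm gb N10374 = N12892 := rfl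
theorem L99560 : sm ge N12892 = N11793 := ded_15_2 (flp_b L93984) (flp_e L86387) L99558
theorem L99562 : sm gd N10374 = N12893 := rfl
theorem L99564 : sm ga N12893 = N11815 := ded_9_1 L94116 (flp_a L86385) L99562
theorem L99566 : sm gf N12893 = N12823 := ded_23_2 (flp_d L99133) (flp_f L86389) L99562
theorem L99568 : sm gg N12893 = N11792 := ded_24_2 (flp_d L93976) (flp_g L86391) L99562
theorem L99570 : sm gc N12823 = N12893 := ded_28_0 (flp_d L99562) (flp_c L86383) (flp_d L28435) L13690 (flp_d L13259) (flp_c L27616) L86115 (flp_a L99135)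
theorem L99582 : sm ge N10378 = N12895 := rfl
theorem L99586 : sm gb N12895 = N12881 := ded_15_1 (flp_e L99467) (flp_b L86425) L99582
theorem L99590 : sm gf N12895 = N11488 := ded_25_2 (flp_e L92408) (flp_f L86427) L99582
theorem L99600 : sm gd N10382 = N12897 := rfl
theorem L99602 : sm ga N12897 = N10384 := ded_9_1 (flp_d L86471) (flp_a L86459) L99600
theorem L99606 : sm gf N10382 = N12898 := rfl
theorem L99608 : sm ga N12898 = N10385 := ded_11_1 (flp_f L86477) (flp_a L86459) L99606
theorem L99624 : sm gc N10384 = N12900 := rfl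
theorem L99626 : sm ge N12900 = N11838 := ded_19_2 (flp_c L94247) (flp_e L86475) L99624
theorem L99653 : sm gf N10386 = N12904 := rfl
theorem L99661 : sm gg N12904 = N12898 := ded_29_3 L99608 (flp_f L86477) L86485 L99653
theorem L99665 : sm gb N10389 = N12905 := rfl
theorem L99667 : sm ge N12905 = N11836 := ded_15_2 (flp_b L94235) (flp_e L86518) L99665
theorem L99669 : sm gd N10389 = N12906 := rfl
theorem L99671 : sm ga N12906 = N11858 := ded_9_1 L94367 (flp_a L86516) L99669
theorem L99673 : sm gf N12906 = N11835 := ded_23_2 (flp_d L94227) (flp_f L86520) L99669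
theorem L99675 : sm gg N12906 = N12863 := ded_24_2 (flp_d L99361) (flp_g L86522) L99669
theorem L99677 : sm gc N12863 = N12906 := ded_28_0 (flp_d L99669) (flp_c L86514) (flp_d L28901) L13948 (flp_d L13432) (flp_c L27948) L86226 (flp_a L99363)
theorem L99679 : sm gb N10390 = N12907 := rfl
theorem L99681 : sm gc N12907 = N11925 := ded_13_2 (flp_b L94686) L83955 (flp_b L83447) L86524 L99679
theorem L99683 : sm gd N10390 = N12908 := rfl
theorem L99685 : sm ga N12908 = N10395 := ded_9_1 (flp_d L86556) (flp_a L86526) L99683
theorem L99687 : sm gf N12908 = N11926 := ded_23_2 (flp_d L94688) (flp_f L86528) L99683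
theorem L99689 : sm gc N12908 = N11926 := ded_28_6 (flp_d L94688) (flp_a L86564) L86566 L29005 L78520 L28979 L86524 L99683
theorem L99691 : sm ge N10390 = N12909 := rfl
theorem L99693 : sm ga N12909 = N10396 := ded_10_1 (flp_e L86558) (flp_a L86526) L99691
theorem L99697 : sm gf N12909 = N11917 := ded_25_2 L94650 (flp_f L86528) L99691
theorem L99713 : sm gb N10392 = N12912 := rfl
theorem L99715 : sm gd N12912 = N10393 := ded_14_2 (flp_b L86546) (flp_d L86544) L99713
theorem L99717 : sm gg N12912 = N10432 := ded_17_2 (flp_b L86741) (flp_g L83453) (flp_b L83447) L86540 L99713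
theorem L99719 : sm gc N10393 = N12913 := rfl
theorem L99721 : sm ga N12913 = N11102 := ded_8_1 L90365 L90151 L99719
theorem L99723 : sm ge N12913 = N10490 := ded_19_2 (flp_c L87062) (flp_e L86548) L99719
theorem L99727 : sm gb N12913 = N11787 := ded_13_1 L93952 (flp_b L86605) L83307 L86546 L99719
theorem L99729 : sm gf N12913 = N10393 := ded_30_0 L99719 L99727 (flp_a L93950) (flp_f L92271) L92267 (flp_b L46967) L64811 L64815 L47739 L46967 L93950 L93956 (flp_c L93952) (flp_b L99727) L99721 (flp_f L90369) (flp_c L90365) L90371 (flp_a L99721)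
theorem L99731 : sm ga N10394 = N12914 := rfl
theorem L99733 : sm gc N12914 = N10404 := ded_8_2 (flp_a L86611) (flp_c L86554) L99731
theorem L99735 : sm gd N10394 = N12915 := rfl
theorem L99745 : sm gf N10394 = N12917 := rfl
theorem L99747 : sm gc N12917 = N10406 := ded_20_1 (flp_f L86619) (flp_c L86554) L99745
theorem L99749 : sm gg N10394 = N12918 := rfl
theorem L99753 : sm gc N10395 = N12919 := rfl
theorem L99755 : sm ga N12919 = N11926 := ded_8_1 (flp_c L99689) L99685 L99753
theorem L99757 : sm gd N12919 = N10397 := ded_28_7 L86564 (flp_c L83957) L23561 L11366 L13992 L28995 L86556 L99753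
theorem L99759 : sm gf N10395 = N12919 := ded_11_0 L99755 (flp_f L99687) L99685
theorem L99763 : sm gg N10395 = N12921 := rfl
theorem L99769 : sm gf N10396 = N12923 := rfl
theorem L99771 : sm ga N12923 = N11917 := ded_11_1 (flp_f L99697) L99693 L99769
theorem L99773 : sm gc N12923 = N10399 := ded_20_1 (flp_f L86572) (flp_c L86560) L99769
theorem L99777 : sm gg N10396 = N12924 := rfl
theorem L99781 : sm ge N12924 = N10398 := ded_26_1 (flp_g L86568) L86558 L99777
theorem L99783 : sm gb N10397 = N12925 := rfl
theorem L99793 : sm gb N10398 = N12927 := rfl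
theorem L99796 : sm gb N10399 = N12928 := rfl
theorem L99802 : sm gf N12928 = N10411 := ded_16_2 (flp_b L86649) (flp_f L29053) (flp_b L28999) L86572 L99796
theorem L99806 : sm gg N12928 = N12817 := ded_31_3 (flp_f L99099) L86059 L75724 L21319 L10904 L11336 L23539 L83935 L94652 L94658 L86586 (flp_g L86580) L86572 L99796
theorem L99808 : sm gg N10399 = N12929 := rfl
theorem L99814 : sm ge N12929 = N10402 := ded_26_1 (flp_g L86597) (flp_e L86578) L99808
theorem L99818 : sm gc N10401 = N12930 := rfl
theorem L99820 : sm ga N12930 = N12845 := ded_8_1 (flp_c L99257) (flp_a L86593) L99818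
theorem L99832 : sm gb N10404 = N12932 := rfl
theorem L99834 : sm gd N12932 = N10413 := ded_14_2 (flp_b L86657) (flp_d L86613) L99832
theorem L99836 : sm ge N10404 = N12933 := rfl
theorem L99838 : sm ga N12933 = N10405 := ded_10_1 (flp_e L86615) L86611 L99836
theorem L99840 : sm gf N10404 = N12934 := rfl
theorem L99842 : sm ga N12934 = N10406 := ded_11_1 (flp_f L86619) L86611 L99840
theorem L99844 : sm gd N12934 = N10415 := ded_23_1 (flp_f L86663) (flp_d L86613) L99840
theorem L99846 : sm gg N10404 = N12935 := rfl
theorem L99848 : sm ga N12935 = N10407 := ded_12_1 (flp_g L86623) L86611 L99846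
theorem L99850 : sm gd N12935 = N10416 := ded_24_1 (flp_g L86667) (flp_d L86613) L99846
theorem L99852 : sm gd N10405 = N12936 := rfl
theorem L99854 : sm gb N12936 = N10408 := ded_14_1 (flp_d L86628) (flp_b L86617) L99852
theorem L99856 : sm ge N12936 = N10417 := ded_22_2 (flp_d L86671) (flp_e L29079) (flp_d L29034) L86615 L99852
theorem L99858 : sm gf N10405 = N12937 := rfl
theorem L99860 : sm ge N12937 = N10406 := ded_25_1 (flp_f L86619) L86615 L99858
theorem L99862 : sm gg N10405 = N12938 := rfl
theorem L99867 : sm gb N10406 = N12939 := rfl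
theorem L99869 : sm gd N12939 = N10420 := ded_14_2 (flp_b L86684) (flp_d L86621) L99867
theorem L99871 : sm gf N12939 = N10410 := ded_16_2 (flp_b L86645) (flp_f L29043) L29032 L86619 L99867
theorem L99873 : sm gg N10406 = N12940 := rfl
theorem L99875 : sm gd N12940 = N10421 := ded_24_1 (flp_g L86688) (flp_d L86621) L99873
theorem L99877 : sm gf N12935 = N12940 := ded_29_0 (flp_g L99873) (flp_f L86619) L86623 (flp_a L99848)
theorem L99879 : sm gf N10407 = N12941 := rfl
theorem L99883 : sm gd N12941 = N10422 := ded_23_1 (flp_f L86692) (flp_d L86625) L99879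
theorem L99885 : sm gg N12941 = N12934 := ded_29_3 L99842 (flp_f L86619) L86623 L99879
theorem L99887 : sm gf N10408 = N12942 := rfl
theorem L99891 : sm gd N12942 = N10409 := ded_23_1 (flp_f L86635) L86628 L99887
theorem L99897 : sm gb N10409 = N12943 := rfl
theorem L99899 : sm ge N12943 = N10410 := ded_15_2 (flp_b L86645) (flp_e L86641) L99897
theorem L99901 : sm ga N10410 = N12944 := rfl
theorem L99903 : sm gd N12944 = N10426 := ded_9_2 (flp_a L86711) (flp_d L86647) L99901
theorem L99905 : sm gc N10410 = N12945 := rfl
theorem L99907 : sm gb N12945 = N10412 := ded_13_1 (flp_c L86655) (flp_b L29063) (flp_c L29047) L86645 L99905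
theorem L99909 : sm gg N10410 = N12946 := rfl
theorem L99911 : sm gd N12946 = N10428 := ded_24_1 (flp_g L86717) (flp_d L86647) L99909
theorem L99913 : sm gb N12946 = N10428 := ded_17_1 (flp_g L86717) (flp_b L29097) (flp_g L29051) L86645 L99909
theorem L99919 : sm gd N10412 = N12948 := rfl
theorem L99921 : sm ga N10413 = N12949 := rfl
theorem L99923 : sm gc N10413 = N12950 := rfl
theorem L99925 : sm ge N10413 = N12951 := rfl
theorem L99927 : sm gb N12951 = N10414 := ded_15_1 (flp_e L86659) L86657 L99925
theorem L99929 : sm gf N10413 = N12952 := rfl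
theorem L99931 : sm gg N10413 = N12953 := rfl
theorem L99937 : sm gf N10414 = N12955 := rfl
theorem L99941 : sm ge N12955 = N10415 := ded_25_1 (flp_f L86663) L86659 L99937
theorem L99943 : sm gg N10414 = N12956 := rfl
theorem L99945 : sm ga N12956 = N10419 := ded_12_1 (flp_g L86679) (flp_a L86661) L99943
theorem L99947 : sm ge N12956 = N10416 := ded_26_1 (flp_g L86667) L86659 L99943
theorem L99949 : sm gb N10415 = N12957 := rfl
theorem L99951 : sm gb N10416 = N12958 := rfl
theorem L99953 : sm gc N10417 = N12959 := rfl
theorem L99955 : sm gf N10417 = N12960 := rfl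
theorem L99964 : sm gb N10418 = N12962 := rfl
theorem L99966 : sm ge N12962 = N10420 := ded_15_2 (flp_b L86684) (flp_e L86677) L99964
theorem L99968 : sm gf N12962 = N10425 := ded_16_2 (flp_b L86707) (flp_f L29091) (flp_b L29081) L86675 L99964
theorem L99970 : sm gg N10418 = N12963 := rfl
theorem L99974 : sm gf N12956 = N12963 := ded_29_0 (flp_g L99970) (flp_f L86675) L86679 (flp_a L99945)
theorem L99984 : sm ga N10420 = N12965 := rfl
theorem L99986 : sm gf N12965 = N10426 := ded_11_2 (flp_a L86711) (flp_f L86686) L99984
theorem L99988 : sm gc N10420 = N12966 := rfl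
theorem L99990 : sm gf N12966 = N10427 := ded_20_2 (flp_c L86713) (flp_f L86686) L99988
theorem L99992 : sm gg N10420 = N12967 := rfl
theorem L99994 : sm gb N10421 = N12968 := rfl
theorem L99996 : sm gb N10422 = N12969 := rfl
theorem L99999 : sm gb N10423 = N12970 := rfl
theorem L100001 : sm gd N12970 = N10593 := ded_14_2 (flp_b L87698) (flp_d L86701) L99999
theorem L100003 : sm gf N10423 = N12971 := rfl
theorem L100007 : sm gd N12971 = N10594 := ded_23_1 (flp_f L87702) (flp_d L86701) L100003
theorem L100013 : sm ga N10425 = N12973 := rfl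
theorem L100015 : sm ge N12973 = N10426 := ded_10_2 (flp_a L86711) (flp_e L86709) L100013
theorem L100017 : sm gc N10425 = N12974 := rfl
theorem L100019 : sm ge N12974 = N10427 := ded_19_2 (flp_c L86713) (flp_e L86709) L100017
theorem L100023 : sm gg N10425 = N12975 := rfl
theorem L100025 : sm ge N12975 = N10428 := ded_26_1 (flp_g L86717) (flp_e L86709) L100023
theorem L100027 : sm gb N10426 = N12976 := rfl
theorem L100029 : sm gc N10426 = N12977 := rfl
theorem L100031 : sm ga N12977 = N10427 := ded_8_1 (flp_c L86713) L86711 L100029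
theorem L100033 : sm gg N10426 = N12978 := rfl
theorem L100035 : sm ga N12978 = N10428 := ded_12_1 (flp_g L86717) L86711 L100033
theorem L100037 : sm gf N12978 = N12967 := ded_29_2 (flp_g L99992) L99984 L99986 L100033
theorem L100039 : sm gd N10427 = N12979 := rfl
theorem L100041 : sm gb N12979 = N10434 := ded_14_1 (flp_d L86751) (flp_b L86715) L100039
theorem L100043 : sm gg N10427 = N12980 := rfl
theorem L100045 : sm gc N12980 = N10428 := ded_21_1 (flp_g L86717) L86713 L100043
theorem L100047 : sm gf N10428 = N12981 := rfl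
theorem L100049 : sm ga N12981 = N12967 := ded_11_1 (flp_f L100037) L100035 L100047
theorem L100051 : sm gg N12981 = N12965 := ded_29_3 (flp_a L99984) L86686 L86717 L100047
theorem L100053 : sm gb N10429 = N12982 := rfl
theorem L100057 : sm ge N12982 = N10432 := ded_15_2 (flp_b L86741) (flp_e L86723) L100053
theorem L100059 : sm gc N10429 = N12983 := rfl
theorem L100061 : sm ga N12983 = N10430 := ded_8_1 (flp_c L86727) L86719 L100059
theorem L100063 : sm ge N12983 = N10433 := ded_19_2 (flp_c L86745) (flp_e L86723) L100059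
theorem L100065 : sm gg N12983 = N11916 := ded_21_2 L94644 L86725 L100059
theorem L100067 : sm gd N10430 = N12984 := rfl
theorem L100069 : sm gg N10430 = N12985 := rfl
theorem L100073 : sm gc N12985 = N10431 := ded_21_1 (flp_g L86731) L86727 L100069
theorem L100075 : sm ge N12985 = N10435 := ded_26_1 (flp_g L86753) (flp_e L86729) L100069
theorem L100079 : sm gc N10432 = N12986 := rfl
theorem L100081 : sm gb N10433 = N12987 := rfl
theorem L100083 : sm ge N10434 = N12988 := rfl
theorem L100085 : sm gg N10434 = N12989 := rfl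
theorem L100087 : sm ga N12989 = N11924 := ded_12_1 L94961 L94957 L100085
theorem L100089 : sm gd N12989 = N10435 := ded_24_1 (flp_g L86753) L86751 L100085
theorem L100091 : sm gf N11921 = N12989 := ded_29_0 (flp_g L100085) (flp_f L94162) L94164 (flp_a L94670)
theorem L100093 : sm gb N10435 = N12990 := rfl
theorem L100095 : sm gd N10436 = N12991 := rfl
theorem L100097 : sm ga N12991 = N11101 := ded_9_1 (flp_d L90357) (flp_a L86763) L100095
theorem L100099 : sm gb N12991 = N11065 := ded_14_1 L90141 (flp_b L86769) L100095
theorem L100101 : sm gf N12991 = N11066 := ded_23_2 L90145 (flp_f L86767) L100095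
theorem L100103 : sm gb N10437 = N12992 := rfl
theorem L100105 : sm gc N12992 = N11986 := ded_13_2 (flp_b L94973) L84111 (flp_b L72215) L86771 L100103
theorem L100107 : sm gd N10437 = N12993 := rfl
theorem L100109 : sm ga N12993 = N10442 := ded_9_1 (flp_d L86803) (flp_a L86773) L100107
theorem L100111 : sm gg N12993 = N11987 := ded_24_2 (flp_d L94975) (flp_g L86775) L100107
theorem L100113 : sm gc N12993 = N11987 := ded_28_6 (flp_d L94975) (flp_a L86815) L86817 L29174 (flp_c L71486) L29143 L86771 L100107
theorem L100115 : sm ge N10437 = N12994 := rfl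
theorem L100117 : sm ga N12994 = N10443 := ded_10_1 (flp_e L86805) (flp_a L86773) L100115
theorem L100121 : sm gg N12994 = N11978 := ded_26_2 L94931 (flp_g L86775) L100115
theorem L100129 : sm gf N10438 = N12996 := rfl
theorem L100131 : sm ga N12996 = N10446 := ded_11_1 (flp_f L86819) (flp_a L86779) L100129
theorem L100133 : sm gd N12996 = N10522 := ded_23_1 (flp_f L87256) (flp_d L86785) L100129
theorem L100135 : sm ge N12996 = N10439 := ded_25_1 (flp_f L86787) L86777 L100129
theorem L100137 : sm gb N10439 = N12997 := rfl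
theorem L100139 : sm gd N12997 = N10440 := ded_14_2 (flp_b L86793) (flp_d L86791) L100137
theorem L100141 : sm gf N12997 = N10479 := ded_16_2 (flp_b L86988) L82731 (flp_b L72215) L86787 L100137
theorem L100143 : sm gc N10440 = N12998 := rfl
theorem L100145 : sm ga N12998 = N11072 := ded_8_1 (flp_c L90329) L90327 L100143
theorem L100147 : sm ge N12998 = N10524 := ded_19_2 (flp_c L87268) (flp_e L86795) L100143
theorem L100153 : sm gg N10440 = N12998 := ded_12_0 L100145 L90333 L90327
theorem L100155 : sm ga N10441 = N12999 := rfl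
theorem L100157 : sm gc N12999 = N10451 := ded_8_2 (flp_a L86858) (flp_c L86801) L100155
theorem L100159 : sm gd N10441 = N13000 := rfl
theorem L100161 : sm gb N13000 = N10442 := ded_14_1 (flp_d L86803) L86799 L100159
theorem L100169 : sm gf N10441 = N13002 := rfl
theorem L100171 : sm gc N13002 = N10453 := ded_20_1 (flp_f L86866) (flp_c L86801) L100169
theorem L100173 : sm gg N10441 = N13003 := rfl
theorem L100175 : sm gc N13003 = N10454 := ded_21_1 (flp_g L86871) (flp_c L86801) L100173
theorem L100177 : sm gc N10442 = N13004 := rfl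
theorem L100179 : sm ga N13004 = N11987 := ded_8_1 (flp_c L100113) L100109 L100177
theorem L100183 : sm gg N10442 = N13004 := ded_12_0 L100179 (flp_g L100111) L100109
theorem L100185 : sm ge N10442 = N13005 := rfl
theorem L100187 : sm gf N10442 = N13006 := rfl
theorem L100193 : sm gf N10443 = N13008 := rfl
theorem L100197 : sm ge N13008 = N10444 := ded_25_1 (flp_f L86809) L86805 L100193
theorem L100199 : sm gg N10443 = N13009 := rfl
theorem L100201 : sm ga N13009 = N11978 := ded_12_1 (flp_g L100121) L100117 L100199
theorem L100203 : sm gc N13009 = N10447 := ded_21_1 (flp_g L86826) (flp_c L86807) L100199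
theorem L100205 : sm ge N13009 = N10445 := ded_26_1 (flp_g L86813) L86805 L100199
theorem L100220 : sm gb N10447 = N13013 := rfl
theorem L100222 : sm gd N13013 = N10533 := ded_14_2 (flp_b L87326) (flp_d L86830) L100220
theorem L100230 : sm gf N12858 = N13013 := ded_31_1 (flp_b L100220) (flp_g L86826) L86819 L86825 L94939 (flp_f L94933) (flp_b L84091) (flp_g L23743) (flp_f L11418) (flp_b L10976) (flp_g L21412) (flp_f L77885) (flp_b L86168) L99337
theorem L100232 : sm gf N10447 = N13014 := rfl
theorem L100240 : sm gg N13014 = N12996 := ded_29_3 L100131 (flp_f L86819) L86826 L100232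
theorem L100242 : sm gc N10448 = N13015 := rfl
theorem L100244 : sm ga N13015 = N12803 := ded_8_1 (flp_c L99017) (flp_a L86840) L100242
theorem L100246 : sm gf N13015 = N12856 := ded_20_2 L99323 L86842 L100242
theorem L100248 : sm gg N13015 = N10459 := ded_21_2 (flp_c L86902) (flp_g L86838) L100242
theorem L100250 : sm gb N10449 = N13016 := rfl
theorem L100254 : sm gf N13016 = N11839 := ded_16_2 L94255 L86842 (flp_b L86834) L86844 L100250
theorem L100256 : sm gb N10451 = N13017 := rfl
theorem L100258 : sm gd N13017 = N10460 := ded_14_2 (flp_b L86904) (flp_d L86860) L100256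
theorem L100260 : sm ge N10451 = N13018 := rfl
theorem L100262 : sm ga N13018 = N10452 := ded_10_1 (flp_e L86862) L86858 L100260
theorem L100264 : sm gf N10451 = N13019 := rfl
theorem L100266 : sm ga N13019 = N10453 := ded_11_1 (flp_f L86866) L86858 L100264
theorem L100268 : sm gd N13019 = N10462 := ded_23_1 (flp_f L86910) (flp_d L86860) L100264
theorem L100276 : sm gd N10452 = N13021 := rfl
theorem L100278 : sm gb N13021 = N10455 := ded_14_1 (flp_d L86875) (flp_b L86864) L100276
theorem L100280 : sm ge N13021 = N10464 := ded_22_2 (flp_d L86918) (flp_e L29249) (flp_d L29200) L86862 L100276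
theorem L100282 : sm gf N10452 = N13022 := rfl
theorem L100284 : sm ge N13022 = N10453 := ded_25_1 (flp_f L86866) L86862 L100282
theorem L100287 : sm gg N10452 = N13023 := rfl
theorem L100289 : sm ge N13023 = N10454 := ded_26_1 (flp_g L86871) L86862 L100287
theorem L100297 : sm gb N10454 = N13025 := rfl
theorem L100299 : sm gd N13025 = N10468 := ded_14_2 (flp_b L86935) (flp_d L86873) L100297
theorem L100301 : sm gg N13025 = N10457 := ded_17_2 (flp_b L86892) (flp_g L29209) L29198 L86871 L100297
theorem L100303 : sm gf N10454 = N13026 := rfl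
theorem L100307 : sm gd N13026 = N10469 := ded_23_1 (flp_f L86939) (flp_d L86873) L100303
theorem L100309 : sm gg N13026 = N13019 := ded_29_3 L100266 (flp_f L86866) L86871 L100303
theorem L100311 : sm gg N10455 = N13027 := rfl
theorem L100315 : sm gd N13027 = N10456 := ded_24_1 (flp_g L86882) L86875 L100311
theorem L100321 : sm gb N10456 = N13028 := rfl
theorem L100323 : sm ge N13028 = N10457 := ded_15_2 (flp_b L86892) (flp_e L86888) L100321
theorem L100325 : sm ga N10457 = N13029 := rfl
theorem L100327 : sm gd N13029 = N10473 := ded_9_2 (flp_a L86958) (flp_d L86894) L100325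
theorem L100329 : sm gc N10457 = N13030 := rfl
theorem L100331 : sm gb N13030 = N10459 := ded_13_1 (flp_c L86902) (flp_b L29229) (flp_c L29213) L86892 L100329
theorem L100333 : sm gf N10457 = N13031 := rfl
theorem L100335 : sm gd N13031 = N10475 := ded_23_1 (flp_f L86964) (flp_d L86894) L100333
theorem L100337 : sm gb N13031 = N10475 := ded_16_1 (flp_f L86964) (flp_b L29267) L29217 L86892 L100333
theorem L100339 : sm gc N10458 = N13032 := rfl
theorem L100341 : sm ge N13032 = N10459 := ded_19_2 (flp_c L86902) (flp_e L86900) L100339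
theorem L100343 : sm gd N10459 = N13033 := rfl
theorem L100345 : sm ga N10460 = N13034 := rfl
theorem L100347 : sm gc N10460 = N13035 := rfl
theorem L100349 : sm ge N10460 = N13036 := rfl
theorem L100351 : sm gb N13036 = N10461 := ded_15_1 (flp_e L86906) L86904 L100349
theorem L100353 : sm gf N10460 = N13037 := rfl
theorem L100355 : sm gg N10460 = N13038 := rfl
theorem L100357 : sm gd N10461 = N13039 := rfl
theorem L100359 : sm ga N13039 = N10464 := ded_9_1 (flp_d L86918) (flp_a L86908) L100357
theorem L100373 : sm gb N10462 = N13042 := rfl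
theorem L100375 : sm gb N10463 = N13043 := rfl
theorem L100384 : sm gg N10464 = N13046 := rfl
theorem L100394 : sm gb N10466 = N13048 := rfl
theorem L100396 : sm ge N13048 = N10468 := ded_15_2 (flp_b L86935) (flp_e L86929) L100394
theorem L100398 : sm gg N13048 = N10472 := ded_17_2 (flp_b L86954) (flp_g L29261) (flp_b L29251) L86927 L100394
theorem L100408 : sm gb N10467 = N13050 := rfl
theorem L100411 : sm ga N10468 = N13051 := rfl
theorem L100413 : sm gg N13051 = N10473 := ded_12_2 (flp_a L86958) (flp_g L86937) L100411
theorem L100415 : sm gc N10468 = N13052 := rfl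
theorem L100417 : sm gg N13052 = N10474 := ded_21_2 (flp_c L86960) (flp_g L86937) L100415
theorem L100419 : sm gf N10468 = N13053 := rfl
theorem L100421 : sm gb N10469 = N13054 := rfl
theorem L100423 : sm gb N10470 = N13055 := rfl
theorem L100425 : sm gd N13055 = N10623 := ded_14_2 (flp_b L87890) (flp_d L86948) L100423
theorem L100427 : sm gg N10470 = N13056 := rfl
theorem L100431 : sm gd N13056 = N10624 := ded_24_1 (flp_g L87894) (flp_d L86948) L100427
theorem L100437 : sm ga N10472 = N13058 := rfl
theorem L100439 : sm ge N13058 = N10473 := ded_10_2 (flp_a L86958) (flp_e L86956) L100437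
theorem L100441 : sm gc N10472 = N13059 := rfl
theorem L100443 : sm ge N13059 = N10474 := ded_19_2 (flp_c L86960) (flp_e L86956) L100441
theorem L100445 : sm gb N13059 = N10477 := ded_13_1 (flp_c L86974) (flp_b L29269) (flp_c L29263) L86954 L100441
theorem L100447 : sm gf N10472 = N13060 := rfl
theorem L100449 : sm ge N13060 = N10475 := ded_25_1 (flp_f L86964) (flp_e L86956) L100447
theorem L100451 : sm gb N10473 = N13061 := rfl
theorem L100453 : sm gc N10473 = N13062 := rfl
theorem L100455 : sm ga N13062 = N10474 := ded_8_1 (flp_c L86960) L86958 L100453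
theorem L100457 : sm gf N10473 = N13063 := rfl
theorem L100459 : sm ga N13063 = N10475 := ded_11_1 (flp_f L86964) L86958 L100457
theorem L100461 : sm gg N13053 = N13063 := ded_29_1 (flp_f L100457) (flp_g L100413) (flp_a L100411) L100419
theorem L100463 : sm gd N10474 = N13064 := rfl
theorem L100465 : sm gb N13064 = N10481 := ded_14_1 (flp_d L86998) (flp_b L86962) L100463
theorem L100467 : sm gf N10474 = N13065 := rfl
theorem L100469 : sm gc N13065 = N10475 := ded_20_1 (flp_f L86964) L86960 L100467
theorem L100471 : sm gg N10475 = N13066 := rfl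
theorem L100473 : sm ga N13066 = N13053 := ded_12_1 L100461 L100459 L100471
theorem L100475 : sm gf N13051 = N13066 := ded_29_0 (flp_g L100471) (flp_f L86964) (flp_g L86937) L100411
theorem L100477 : sm gb N10476 = N13067 := rfl
theorem L100481 : sm ge N13067 = N10479 := ded_15_2 (flp_b L86988) (flp_e L86970) L100477
theorem L100483 : sm gc N10476 = N13068 := rfl
theorem L100485 : sm ga N13068 = N10477 := ded_8_1 (flp_c L86974) L86966 L100483
theorem L100487 : sm ge N13068 = N10480 := ded_19_2 (flp_c L86992) (flp_e L86970) L100483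
theorem L100491 : sm gd N10477 = N13069 := rfl
theorem L100493 : sm gf N10477 = N13070 := rfl
theorem L100497 : sm gc N13070 = N10478 := ded_20_1 (flp_f L86978) L86974 L100493
theorem L100499 : sm ge N13070 = N10482 := ded_25_1 (flp_f L87000) (flp_e L86976) L100493
theorem L100501 : sm gg N13070 = N11975 := ded_29_3 L94915 (flp_f L94399) L94401 L100493
theorem L100503 : sm gc N10479 = N13071 := rfl
theorem L100505 : sm gb N10480 = N13072 := rfl
theorem L100507 : sm ge N10481 = N13073 := rfl
theorem L100509 : sm gf N10481 = N13074 := rfl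
theorem L100511 : sm ga N13074 = N11985 := ded_11_1 (flp_f L94971) L94676 L100509
theorem L100513 : sm gc N13074 = N12989 := ded_20_1 (flp_f L100091) L94672 L100509
theorem L100515 : sm gd N13074 = N10482 := ded_23_1 (flp_f L87000) L86998 L100509
theorem L100517 : sm gg N13074 = N11982 := ded_29_3 L94951 (flp_f L94413) L94415 L100509
theorem L100519 : sm gb N10482 = N13075 := rfl
theorem L100521 : sm gd N10483 = N13076 := rfl
theorem L100523 : sm ga N13076 = N11071 := ded_9_1 (flp_d L90177) (flp_a L87010) L100521
theorem L100527 : sm gg N13076 = N11096 := ded_24_2 L90321 (flp_g L87014) L100521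
theorem L100541 : sm ge N10485 = N13078 := rfl
theorem L100543 : sm ga N13078 = N10492 := ded_10_1 (flp_e L87080) (flp_a L87030) L100541
theorem L100547 : sm gf N13078 = N11991 := ded_25_2 (flp_e L94996) (flp_f L87032) L100541
theorem L100557 : sm gd N10486 = N13080 := rfl
theorem L100559 : sm ga N13080 = N10494 := ded_9_1 (flp_d L87086) (flp_a L87038) L100557
theorem L100561 : sm gf N13080 = N11989 := ded_23_2 (flp_d L94983) (flp_f L87042) L100557
theorem L100581 : sm gc N10489 = N13084 := rfl
theorem L100583 : sm ga N13084 = N11487 := ded_8_1 L92405 L90438 L100581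
theorem L100585 : sm gg N13084 = N10516 := ded_21_2 (flp_c L87212) (flp_g L87060) L100581
theorem L100611 : sm gg N10492 = N13088 := rfl
theorem L100621 : sm gc N10494 = N13090 := rfl
theorem L100629 : sm gg N10494 = N13092 := rfl
theorem L100631 : sm gd N13092 = N10496 := ded_24_1 (flp_g L87096) L87086 L100629
theorem L100656 : sm gf N10501 = N13096 := rfl
theorem L100658 : sm ga N13096 = N10507 := ded_11_1 (flp_f L87159) (flp_a L87137) L100656
theorem L100678 : sm gg N10504 = N13100 := rfl
theorem L100680 : sm ga N13100 = N10505 := ded_12_1 (flp_g L87372) L87374 L100678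
theorem L100688 : sm gb N10506 = N13102 := rfl
theorem L100714 : sm gf N10508 = N13107 := rfl
theorem L100720 : sm gg N13107 = N13096 := ded_29_3 L100658 (flp_f L87159) L87167 L100714
theorem L100738 : sm gd N10512 = N13111 := rfl
theorem L100740 : sm gb N13111 = N10513 := ded_14_1 (flp_d L87195) L87193 L100738
theorem L100742 : sm ge N13111 = N12970 := ded_22_2 L100001 L87700 (flp_d L87496) L87498 L100738
theorem L100749 : sm gf N10513 = N13114 := rfl
theorem L100753 : sm gc N13114 = N12942 := ded_20_1 (flp_f L99887) L87202 L100749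
theorem L100755 : sm gd N13114 = N10514 := ded_23_1 (flp_f L87204) L87195 L100749
theorem L100757 : sm ge N13114 = N12971 := ded_25_1 (flp_f L100003) (flp_e L87200) L100749
theorem L100761 : sm gb N10514 = N13115 := rfl
theorem L100763 : sm gc N10515 = N13116 := rfl
theorem L100767 : sm ge N13116 = N10516 := ded_19_2 (flp_c L87212) (flp_e L87210) L100763
theorem L100769 : sm gd N10516 = N13117 := rfl
theorem L100771 : sm ga N13117 = N11484 := ded_9_1 (flp_d L92385) (flp_a L87214) L100769
theorem L100773 : sm ge N10517 = N13118 := rfl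
theorem L100779 : sm gf N13118 = N11111 := ded_25_2 L90432 (flp_f L87222) L100773
theorem L100793 : sm ge N10519 = N13120 := rfl
theorem L100795 : sm ga N13120 = N10526 := ded_10_1 (flp_e L87288) (flp_a L87236) L100793
theorem L100809 : sm gd N10520 = N13122 := rfl
theorem L100811 : sm ga N13122 = N10528 := ded_9_1 (flp_d L87294) (flp_a L87244) L100809
theorem L100815 : sm gf N10520 = N13123 := rfl
theorem L100827 : sm gb N10522 = N13125 := rfl
theorem L100831 : sm gf N13125 = N10549 := ded_16_2 (flp_b L87427) L82707 L72219 L87256 L100827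
theorem L100833 : sm gc N10523 = N13126 := rfl
theorem L100835 : sm ga N13126 = N11477 := ded_8_1 L92337 L90522 L100833
theorem L100837 : sm gf N13126 = N10550 := ded_20_2 (flp_c L87431) (flp_f L87266) L100833
theorem L100839 : sm ge N10525 = N13127 := rfl
theorem L100847 : sm gg N13127 = N10526 := ded_26_2 (flp_e L87288) L87286 L100839
theorem L100861 : sm gd N10526 = N13129 := rfl
theorem L100863 : sm ge N13129 = N10528 := ded_22_2 (flp_d L87294) (flp_e L29584) L29582 L87288 L100861
theorem L100865 : sm gf N10526 = N13130 := rfl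
theorem L100877 : sm gf N10528 = N13133 := rfl
theorem L100881 : sm gg N10528 = N13134 := rfl
theorem L100908 : sm gc N10535 = N13137 := rfl
theorem L100910 : sm ga N13137 = N10540 := ded_8_1 (flp_c L87376) (flp_a L87348) L100908
theorem L100940 : sm ga N10538 = N13142 := rfl
theorem L100944 : sm gf N13142 = N10539 := ded_11_2 L87374 (flp_f L87366) L100940
theorem L100956 : sm gf N10540 = N13146 := rfl
theorem L100960 : sm gg N10540 = N13147 := rfl
theorem L100998 : sm ga N10546 = N13152 := rfl
theorem L101000 : sm gd N10546 = N13153 := rfl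
theorem L101004 : sm ge N13153 = N13055 := ded_22_2 L100425 L87892 (flp_d L87769) L87771 L101000
theorem L101009 : sm gg N10546 = N13155 := rfl
theorem L101011 : sm gg N10547 = N13156 := rfl
theorem L101013 : sm ga N13156 = N13056 := ded_12_1 (flp_g L100427) (flp_a L87416) L101011
theorem L101019 : sm ge N13156 = N13056 := ded_26_1 (flp_g L100427) (flp_e L87419) L101011
theorem L101023 : sm gb N10548 = N13157 := rfl
theorem L101025 : sm gc N13157 = N13115 := ded_13_2 (flp_b L100761) L87206 L83741 (flp_c L87425) L101023
theorem L101027 : sm gc N10549 = N13158 := rfl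
theorem L101029 : sm ga N13158 = N11476 := ded_8_1 L92333 L90518 L101027
theorem L101033 : sm gb N13158 = N13116 := ded_13_1 (flp_c L100763) (flp_b L87208) L83749 L87427 L101027
theorem L101035 : sm gd N10550 = N13159 := rfl
theorem L101039 : sm gb N13159 = N13117 := ded_14_1 (flp_d L100769) (flp_b L87435) L101035
theorem L101055 : sm gg N10552 = N13162 := rfl
theorem L101063 : sm gf N13162 = N10622 := ded_29_2 L87888 L87913 L87917 L101055
theorem L101073 : sm gb N10555 = N13164 := rfl
theorem L101075 : sm ge N13164 = N13102 := ded_15_2 (flp_b L100688) (flp_e L87469) L101073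
theorem L101077 : sm gc N13164 = N10559 := ded_13_2 (flp_b L87494) (flp_c L29855) (flp_b L29822) L87467 L101073
theorem L101113 : sm ga N10559 = N13170 := rfl
theorem L101115 : sm gd N13170 = N10595 := ded_9_2 (flp_a L87712) (flp_d L87496) L101113
theorem L101119 : sm gf N10559 = N13171 := rfl
theorem L101125 : sm gg N10559 = N13172 := rfl
theorem L101132 : sm gb N10560 = N13173 := rfl
theorem L101134 : sm gd N13173 = N10598 := ded_14_2 (flp_b L87719) (flp_d L87506) L101132
theorem L101136 : sm ge N13173 = N13115 := ded_15_2 (flp_b L100761) (flp_e L87508) L101132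
theorem L101144 : sm gf N10561 = N13175 := rfl
theorem L101146 : sm ge N13175 = N10562 := ded_25_1 (flp_f L87516) L87512 L101144
theorem L101148 : sm gg N10561 = N13176 := rfl
theorem L101152 : sm gg N10562 = N13177 := rfl
theorem L101156 : sm gf N10610 = N13177 := ded_29_0 (flp_g L101152) (flp_f L87516) L87520 (flp_a L87803)
theorem L101181 : sm gf N10564 = N13181 := rfl
theorem L101183 : sm gd N13181 = N10565 := ded_23_1 (flp_f L87528) L87524 L101181
theorem L101185 : sm gg N10564 = N13182 := rfl
theorem L101189 : sm gg N10565 = N13183 := rfl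
theorem L101229 : sm gd N10570 = N13188 := rfl
theorem L101231 : sm gf N10570 = N13189 := rfl
theorem L101235 : sm ge N13189 = N10579 := ded_25_1 (flp_f L87615) (flp_e L87564) L101231
theorem L101237 : sm gg N10570 = N13190 := rfl
theorem L101241 : sm ge N13190 = N10580 := ded_26_1 (flp_g L87619) (flp_e L87564) L101237
theorem L101277 : sm ga N10575 = N13195 := rfl
theorem L101281 : sm gf N13195 = N13100 := ded_11_2 L100680 (flp_f L87597) L101277
theorem L101283 : sm gg N13195 = N13142 := ded_12_2 (flp_a L100940) (flp_g L87599) L101277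
theorem L101300 : sm gf N10577 = N13199 := rfl
theorem L101304 : sm gg N10577 = N13200 := rfl
theorem L101308 : sm ge N10578 = N13201 := rfl
theorem L101310 : sm gf N10578 = N13202 := rfl
theorem L101314 : sm gg N10578 = N13203 := rfl
theorem L101318 : sm gb N10579 = N13204 := rfl
theorem L101320 : sm gg N10579 = N13205 := rfl
theorem L101324 : sm gf N10621 = N13205 := ded_29_0 (flp_g L101320) (flp_f L87615) L87619 (flp_a L87880)
theorem L101326 : sm gb N10580 = N13206 := rfl
theorem L101347 : sm gc N10581 = N13209 := rfl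
theorem L101349 : sm gf N13209 = N10600 := ded_20_2 (flp_c L87725) (flp_f L87627) L101347
theorem L101422 : sm gf N10593 = N13220 := rfl
theorem L101424 : sm ge N13220 = N10596 := ded_25_1 (flp_f L87714) (flp_e L87700) L101422
theorem L101426 : sm gg N10593 = N13221 := rfl
theorem L101431 : sm gb N10594 = N13222 := rfl
theorem L101433 : sm ge N13222 = N10598 := ded_15_2 (flp_b L87719) (flp_e L87708) L101431
theorem L101437 : sm gf N10595 = N13224 := rfl
theorem L101441 : sm gg N10595 = N13225 := rfl
theorem L101443 : sm ga N13225 = N10597 := ded_12_1 (flp_g L87716) L87712 L101441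
theorem L101445 : sm gb N10596 = N13226 := rfl
theorem L101447 : sm gf N13226 = N10598 := ded_16_2 (flp_b L87719) (flp_f L30111) L30109 L87714 L101445
theorem L101449 : sm gg N10596 = N13227 := rfl
theorem L101451 : sm gf N13225 = N13227 := ded_29_0 (flp_g L101449) (flp_f L87714) L87716 (flp_a L101443)
theorem L101459 : sm ga N10598 = N13229 := rfl
theorem L101465 : sm gg N10598 = N13231 := rfl
theorem L101505 : sm gf N10604 = N13239 := rfl
theorem L101509 : sm ge N13239 = N13146 := ded_25_1 (flp_f L100956) (flp_e L87756) L101505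
theorem L101511 : sm ga N10606 = N13240 := rfl
theorem L101513 : sm gd N13240 = N10625 := ded_9_2 (flp_a L87904) (flp_d L87769) L101511
theorem L101515 : sm ge N13240 = N13152 := ded_10_2 (flp_a L100998) (flp_e L87771) L101511
theorem L101524 : sm gg N10606 = N13242 := rfl
theorem L101526 : sm gd N13242 = N10627 := ded_24_1 (flp_g L87909) (flp_d L87769) L101524
theorem L101528 : sm ge N13242 = N13155 := ded_26_1 (flp_g L101009) (flp_e L87771) L101524
theorem L101538 : sm gd N10608 = N13244 := rfl
theorem L101542 : sm gb N13244 = N13129 := ded_14_1 (flp_d L100861) (flp_b L87789) L101538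
theorem L101544 : sm ge N13244 = N10611 := ded_22_2 (flp_d L87809) (flp_e L30474) L30470 L87785 L101538
theorem L101554 : sm gg N10608 = N13246 := rfl
theorem L101556 : sm ga N13246 = N13176 := ded_12_1 (flp_g L101148) (flp_a L87787) L101554
theorem L101582 : sm gg N10611 = N13250 := rfl
theorem L101584 : sm ga N13250 = N13182 := ded_12_1 (flp_g L101185) (flp_a L87811) L101582
theorem L101597 : sm gb N10615 = N13252 := rfl
theorem L101599 : sm ge N13252 = N10618 := ded_15_2 (flp_b L87862) (flp_e L87843) L101597
theorem L101603 : sm gd N10615 = N13253 := rfl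
theorem L101605 : sm ga N13253 = N13188 := ded_9_1 (flp_d L101229) (flp_a L87841) L101603
theorem L101623 : sm ga N10618 = N13256 := rfl
theorem L101625 : sm gc N13256 = N10625 := ded_8_2 (flp_a L87904) (flp_c L87864) L101623
theorem L101631 : sm gf N10618 = N13258 := rfl
theorem L101635 : sm gg N10618 = N13259 := rfl
theorem L101645 : sm gf N10619 = N13261 := rfl
theorem L101647 : sm ga N13261 = N13202 := ded_11_1 (flp_f L101310) (flp_a L87868) L101645
theorem L101651 : sm gd N13261 = N10620 := ded_23_1 (flp_f L87872) L87866 L101645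
theorem L101674 : sm gf N10623 = N13267 := rfl
theorem L101676 : sm ge N13267 = N10626 := ded_25_1 (flp_f L87906) (flp_e L87892) L101674
theorem L101683 : sm gb N10624 = N13269 := rfl
theorem L101685 : sm ge N13269 = N10628 := ded_15_2 (flp_b L87911) (flp_e L87900) L101683
theorem L101693 : sm gg N10625 = N13272 := rfl
theorem L101695 : sm ga N13272 = N10627 := ded_12_1 (flp_g L87909) L87904 L101693
theorem L101697 : sm gg N10626 = N13273 := rfl
theorem L101699 : sm gf N13272 = N13273 := ded_29_0 (flp_g L101697) (flp_f L87906) L87909 (flp_a L101695)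
theorem L101701 : sm gb N10627 = N13274 := rfl
theorem L101703 : sm gg N13274 = N10628 := ded_17_2 (flp_b L87911) (flp_g L30610) L30608 L87909 L101701
theorem L101745 : sm gf N10633 = N13283 := rfl
theorem L101747 : sm ga N13283 = N10634 := ded_11_1 (flp_f L87945) L87939 L101745
theorem L101749 : sm gc N13283 = N10647 := ded_20_1 (flp_f L88016) (flp_c L87941) L101745
theorem L101751 : sm ge N13283 = N10638 := ded_25_1 (flp_f L87965) (flp_e L87943) L101745
theorem L101753 : sm gg N10633 = N13284 := rfl
theorem L101755 : sm ga N13284 = N10635 := ded_12_1 (flp_g L87952) L87939 L101753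
theorem L101757 : sm gc N13284 = N10648 := ded_21_1 (flp_g L88022) (flp_c L87941) L101753
theorem L101759 : sm ge N13284 = N10639 := ded_26_1 (flp_g L87971) (flp_e L87943) L101753
theorem L101761 : sm gg N10634 = N13285 := rfl
theorem L101763 : sm gc N13285 = N10653 := ded_21_1 (flp_g L88057) (flp_c L87947) L101761
theorem L101765 : sm ge N13285 = N10643 := ded_26_1 (flp_g L87990) (flp_e L87949) L101761
theorem L101767 : sm gf N13284 = N13285 := ded_29_0 (flp_g L101761) (flp_f L87945) L87952 (flp_a L101755)
theorem L101769 : sm gf N10635 = N13286 := rfl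
theorem L101771 : sm ga N13286 = N13285 := ded_11_1 (flp_f L101767) L101755 L101769
theorem L101773 : sm gc N13286 = N10655 := ded_20_1 (flp_f L88070) (flp_c L87954) L101769
theorem L101775 : sm ge N13286 = N10644 := ded_25_1 (flp_f L87996) (flp_e L87956) L101769
theorem L101777 : sm gg N13286 = N13283 := ded_29_3 L101747 (flp_f L87945) L87952 L101769
theorem L101779 : sm gc N10636 = N13287 := rfl
theorem L101781 : sm ga N13287 = N10686 := ded_8_1 (flp_c L95258) L95255 L101779
theorem L101783 : sm ge N13287 = N10702 := ded_19_2 L95225 (flp_e L95227) L101779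
theorem L101785 : sm gb N13287 = N10663 := ded_13_1 (flp_c L88116) (flp_b L33066) (flp_c L32486) L87959 L101779
theorem L101787 : sm gd N10735 = N13287 := ded_9_0 L101781 L88250 (flp_a L88528)
theorem L101789 : sm gf N10636 = N13288 := rfl
theorem L101791 : sm gg N10636 = N13289 := rfl
theorem L101793 : sm gf N10637 = N13290 := rfl
theorem L101795 : sm ga N13290 = N10641 := ded_11_1 (flp_f L87980) (flp_a L87963) L101793
theorem L101797 : sm gd N13290 = N10638 := ded_23_1 (flp_f L87965) L87961 L101793
theorem L101799 : sm gg N10637 = N13291 := rfl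
theorem L101801 : sm ga N13291 = N10642 := ded_12_1 (flp_g L87985) (flp_a L87963) L101799
theorem L101803 : sm gd N13291 = N10639 := ded_24_1 (flp_g L87971) L87961 L101799
theorem L101805 : sm gb N10638 = N13292 := rfl
theorem L101807 : sm gb N10639 = N13293 := rfl
theorem L101809 : sm gf N10640 = N13294 := rfl
theorem L101811 : sm gc N13294 = N10641 := ded_20_1 (flp_f L87980) L87977 L101809
theorem L101813 : sm gg N10640 = N13295 := rfl
theorem L101815 : sm gc N13295 = N10642 := ded_21_1 (flp_g L87985) L87977 L101813
theorem L101817 : sm gg N10641 = N13296 := rfl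
theorem L101819 : sm gd N13296 = N10643 := ded_24_1 (flp_g L87990) (flp_d L87982) L101817
theorem L101821 : sm gf N13291 = N13296 := ded_29_0 (flp_g L101817) (flp_f L87980) L87985 (flp_a L101801)
theorem L101823 : sm gf N10642 = N13297 := rfl
theorem L101825 : sm ga N13297 = N13296 := ded_11_1 (flp_f L101821) L101801 L101823
theorem L101827 : sm gd N13297 = N10644 := ded_23_1 (flp_f L87996) (flp_d L87987) L101823
theorem L101829 : sm gg N13297 = N13290 := ded_29_3 L101795 (flp_f L87980) L87985 L101823
theorem L101831 : sm gb N10643 = N13298 := rfl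
theorem L101833 : sm gg N13298 = N13298 := ded_17_2 (flp_b L101831) (flp_g L87990) L71986 L87990 L101831
theorem L101834 : sm gb N10644 = N13299 := rfl
theorem L101836 : sm gf N13299 = N13299 := ded_16_2 (flp_b L101834) (flp_f L87996) L83336 L87996 L101834
theorem L101837 : sm ga N10645 = N13300 := rfl
theorem L101839 : sm ge N13300 = N10662 := ded_10_2 (flp_a L88110) (flp_e L88006) L101837
theorem L101841 : sm gb N13300 = N10830 := ded_7_2 (flp_a L89010) (flp_b L38660) (flp_a L18389) (flp_b L8929) (flp_a L7751) L15790 L32810 L88004 L101837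
theorem L101843 : sm gc N10701 = N13300 := ded_19_3 L101839 L88521 (flp_e L88320)
theorem L101845 : sm gc N10645 = N13301 := rfl
theorem L101847 : sm ga N13301 = N10701 := ded_8_1 L101843 (flp_a L101837) L101845
theorem L101849 : sm ge N13301 = N10663 := ded_19_2 (flp_c L88116) (flp_e L88006) L101845
theorem L101851 : sm gb N13301 = N10702 := ded_13_1 L95225 L95223 L87941 L88004 L101845
theorem L101853 : sm gd N10701 = N13301 := ded_14_0 L101851 (flp_d L88322) L88318
theorem L101855 : sm gd N10645 = N13302 := rfl
theorem L101857 : sm gb N13302 = N10646 := ded_14_1 (flp_d L88008) L88004 L101855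
theorem L101859 : sm ge N13302 = N10831 := ded_22_2 (flp_d L89016) L38662 (flp_d L33068) (flp_e L88006) L101855
theorem L101861 : sm gc N13302 = N11498 := ded_32_9 (flp_b L92468) L72264 (flp_c L45128) (flp_d L21702) (flp_c L20725) (flp_b L72398) (flp_d L9971) (flp_c L5043) (flp_d L2625) L1355 L1353 L1396 L2729 L5267 L5273 (flp_b L10469) L10471 (flp_d L5944) L3102 L5944 L11990 L11992 L24905 L84347 (flp_d L84342) (flp_c L24881) (flp_b L24871) (flp_d L24869) L24864 L84289 (flp_c L84349) L36796 (flp_d L17641) (flp_c L8587) (flp_d L4391) (flp_c L4349) L66058 L8511 L17471 (flp_d L72368) L71912 (flp_b L36475) L17475 (flp_d L10157) (flp_c L10153) (flp_d L5129) (flp_c L2669) L1368 (flp_d L673) L289 L138 (flp_c L289) (flp_b L645) L1366 L2669 L5129 L10153 L21143 L21145 L62449 (flp_d L21145) L72333 L72321 (flp_d L21091) L10139 L5396 L3274 L6320 (flp_e L11970) L24869 (flp_c L84359) (flp_d L38664) (flp_c L36790) L88318 L101853 (flp_c L101845) L101855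
theorem L101863 : sm gf N10645 = N13303 := rfl
theorem L101865 : sm ge N13303 = N10664 := ded_25_1 (flp_f L88118) (flp_e L88006) L101863
theorem L101867 : sm gg N10645 = N13304 := rfl
theorem L101869 : sm ge N13304 = N10665 := ded_26_1 (flp_g L88122) (flp_e L88006) L101867
theorem L101871 : sm gf N10646 = N13305 := rfl
theorem L101873 : sm ga N13305 = N10650 := ded_11_1 (flp_f L88038) (flp_a L88010) L101871
theorem L101875 : sm gc N13305 = N11492 := ded_20_1 (flp_f L92430) (flp_c L88014) L101871
theorem L101877 : sm gd N13305 = N10647 := ded_23_1 (flp_f L88016) L88008 L101871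
theorem L101879 : sm ge N13305 = N10834 := ded_25_1 (flp_f L89030) (flp_e L88012) L101871
theorem L101881 : sm gg N10646 = N13306 := rfl
theorem L101883 : sm ga N13306 = N10651 := ded_12_1 (flp_g L88044) (flp_a L88010) L101881
theorem L101885 : sm gc N13306 = N11493 := ded_21_1 (flp_g L92436) (flp_c L88014) L101881
theorem L101887 : sm gd N13306 = N10648 := ded_24_1 (flp_g L88022) L88008 L101881
theorem L101889 : sm ge N13306 = N10835 := ded_26_1 (flp_g L89038) (flp_e L88012) L101881
theorem L101891 : sm gb N10647 = N13307 := rfl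
theorem L101893 : sm ge N13307 = N10666 := ded_15_2 (flp_b L88126) (flp_e L88020) L101891
theorem L101895 : sm gb N10648 = N13308 := rfl
theorem L101897 : sm ge N13308 = N10667 := ded_15_2 (flp_b L88130) (flp_e L88026) L101895
theorem L101899 : sm gf N10649 = N13309 := rfl
theorem L101901 : sm ga N13309 = N11492 := ded_11_1 (flp_f L92430) (flp_a L88030) L101899
theorem L101903 : sm gc N13309 = N10650 := ded_20_1 (flp_f L88038) L88028 L101899
theorem L101905 : sm gd N13309 = N11490 := ded_23_1 (flp_f L92418) (flp_d L88036) L101899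
theorem L101907 : sm ge N13309 = N10838 := ded_25_1 (flp_f L89054) (flp_e L88032) L101899
theorem L101909 : sm gg N10649 = N13310 := rfl
theorem L101911 : sm ga N13310 = N11493 := ded_12_1 (flp_g L92436) (flp_a L88030) L101909
theorem L101913 : sm gc N13310 = N10651 := ded_21_1 (flp_g L88044) L88028 L101909
theorem L101915 : sm gd N13310 = N11491 := ded_24_1 (flp_g L92424) (flp_d L88036) L101909
theorem L101917 : sm ge N13310 = N10839 := ded_26_1 (flp_g L89062) (flp_e L88032) L101909
theorem L101919 : sm gb N10650 = N13311 := rfl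
theorem L101921 : sm gd N13311 = N10652 := ded_14_2 (flp_b L88050) (flp_d L88040) L101919
theorem L101923 : sm ge N13311 = N10840 := ded_15_2 (flp_b L89070) (flp_e L88042) L101919
theorem L101925 : sm gf N13311 = N10656 := ded_16_2 (flp_b L88078) (flp_f L32828) (flp_b L32816) L88038 L101919
theorem L101927 : sm gg N10650 = N13312 := rfl
theorem L101929 : sm gd N13312 = N10653 := ded_24_1 (flp_g L88057) (flp_d L88040) L101927
theorem L101931 : sm ge N13312 = N10841 := ded_26_1 (flp_g L89076) (flp_e L88042) L101927
theorem L101933 : sm gf N13306 = N13312 := ded_29_0 (flp_g L101927) (flp_f L88038) L88044 (flp_a L101883)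
theorem L101935 : sm gb N10651 = N13313 := rfl
theorem L101937 : sm gd N13313 = N10654 := ded_14_2 (flp_b L88063) (flp_d L88046) L101935
theorem L101939 : sm ge N13313 = N10842 := ded_15_2 (flp_b L89082) (flp_e L88048) L101935
theorem L101941 : sm gg N13313 = N10657 := ded_17_2 (flp_b L88084) (flp_g L32836) (flp_b L32816) L88044 L101935
theorem L101943 : sm gf N10651 = N13314 := rfl
theorem L101945 : sm ga N13314 = N13312 := ded_11_1 (flp_f L101933) L101883 L101943
theorem L101947 : sm gd N13314 = N10655 := ded_23_1 (flp_f L88070) (flp_d L88046) L101943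
theorem L101949 : sm ge N13314 = N10843 := ded_25_1 (flp_f L89088) (flp_e L88048) L101943
theorem L101951 : sm gg N13314 = N13305 := ded_29_3 L101873 (flp_f L88038) L88044 L101943
theorem L101953 : sm ga N10652 = N13315 := rfl
theorem L101955 : sm gc N13315 = N13315 := ded_8_2 (flp_a L101953) L88054 L101953
theorem L101956 : sm ge N13315 = N10668 := ded_10_2 (flp_a L88134) (flp_e L88052) L101953
theorem L101958 : sm gf N13315 = N10658 := ded_11_2 (flp_a L88090) (flp_f L88055) L101953
theorem L101960 : sm gg N10652 = N13316 := rfl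
theorem L101962 : sm gc N13316 = N13316 := ded_21_1 (flp_g L101960) L88054 L101960
theorem L101963 : sm ge N13316 = N10669 := ded_26_1 (flp_g L88141) (flp_e L88052) L101960
theorem L101965 : sm gb N10653 = N13317 := rfl
theorem L101967 : sm ge N13317 = N10670 := ded_15_2 (flp_b L88146) (flp_e L88059) L101965
theorem L101969 : sm ga N10654 = N13318 := rfl
theorem L101971 : sm gc N13318 = N13318 := ded_8_2 (flp_a L101969) L88067 L101969
theorem L101972 : sm ge N13318 = N10671 := ded_10_2 (flp_a L88150) (flp_e L88065) L101969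
theorem L101974 : sm gg N13318 = N10660 := ded_12_2 (flp_a L88100) (flp_g L88068) L101969
theorem L101976 : sm gf N10654 = N13319 := rfl
theorem L101978 : sm gc N13319 = N13319 := ded_20_1 (flp_f L101976) L88067 L101976
theorem L101979 : sm ge N13319 = N10672 := ded_25_1 (flp_f L88157) (flp_e L88065) L101976
theorem L101981 : sm gb N10655 = N13320 := rfl
theorem L101983 : sm ge N13320 = N10673 := ded_15_2 (flp_b L88162) (flp_e L88074) L101981
theorem L101985 : sm ga N10656 = N13321 := rfl
theorem L101987 : sm gd N13321 = N10658 := ded_9_2 (flp_a L88090) (flp_d L88080) L101985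
theorem L101989 : sm ge N13321 = N10852 := ded_10_2 (flp_a L89136) (flp_e L88082) L101985
theorem L101991 : sm gc N11537 = N13321 := ded_19_3 L101989 L96151 (flp_e L92705)
theorem L101993 : sm gc N10656 = N13322 := rfl
theorem L101995 : sm ga N13322 = N11537 := ded_8_1 L101991 (flp_a L101985) L101993
theorem L101997 : sm ge N13322 = N10853 := ded_19_2 (flp_c L89140) (flp_e L88082) L101993
theorem L101999 : sm gb N13322 = N10853 := ded_13_1 (flp_c L89140) (flp_b L38716) L65836 L88078 L101993
theorem L102001 : sm gd N13322 = N11549 := ded_28_5 (flp_c L92789) (flp_d L92703) (flp_a L101995) (flp_c L101993) L88080 L72008 (flp_d L88080) L101993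
theorem L102003 : sm gg N10656 = N13323 := rfl
theorem L102005 : sm gd N13323 = N10659 := ded_24_1 (flp_g L88095) (flp_d L88080) L102003
theorem L102007 : sm ge N13323 = N10854 := ded_26_1 (flp_g L89142) (flp_e L88082) L102003
theorem L102009 : sm ga N10657 = N13324 := rfl
theorem L102011 : sm gd N13324 = N10660 := ded_9_2 (flp_a L88100) (flp_d L88086) L102009
theorem L102013 : sm ge N13324 = N10856 := ded_10_2 (flp_a L89150) (flp_e L88088) L102009
theorem L102015 : sm gc N11543 = N13324 := ded_19_3 L102013 L96436 (flp_e L92746)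
theorem L102017 : N11562 = N11563 := coi_28_0 (flp_c L92863) (flp_d L92744) L102015 L102011 L88102 (flp_d L102011) (flp_c L102015) L92744 L92857
theorem L102018 : N11563 = N11562 := (eqc rfl L102017 rfl).symm
theorem L102019 : sm gc N11562 = N9337 := trfs L102018 (flp_c L92863) rfl
theorem L102021 : sm ge N11562 = N9588 := trfs L102018 L92865 rfl
theorem L102022 : N9588 = N9587 := eqes L102021 L92859
theorem L102023 : N9588 = N9587 := eqc rfl L102022 rfl
theorem L102024 : sm ga N9587 = N11691 := trfs L102023 (flp_a L93534) rfl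
theorem L102025 : N11691 = N4640 := eqes L102024 (flp_a L46535)
theorem L102026 : N11691 = N4640 := eqc rfl L102025 rfl
theorem L102027 : sm gb N9587 = N11694 := trfs L102023 L93548 rfl
theorem L102028 : N11694 = N5548 := eqes L102027 L46539
theorem L102029 : N11694 = N5548 := eqc rfl L102028 rfl
theorem L102035 : sm gf N9587 = N11696 := trfs L102023 L93554 rfl
theorem L102036 : N11696 = N11692 := eqes L102035 L93536
theorem L102037 : N11696 = N11692 := eqc rfl L102036 rfl
theorem L102038 : sm gg N9587 = N11697 := trfs L102023 L93558 rfl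
theorem L102039 : N11697 = N11693 := eqes L102038 L93542
theorem L102040 : N11697 = N11693 := eqc rfl L102039 rfl
theorem L102041 : sm gc N11693 = N9590 := trfs L102040 L93560 rfl
theorem L102043 : sm gc N11692 = N9589 := trfs L102037 L93556 rfl
theorem L102045 : sm gc N5548 = N9591 := trfs L102029 L93550 rfl
theorem L102046 : N9591 = N10220 := eqes L102045 L85585
theorem L102047 : N10220 = N9591 := (eqc rfl L102046 rfl).symm
theorem L102048 : sm ga N9591 = N5549 := trfs L102047 L85587 rfl
theorem L102049 : N5549 = N11701 := eqes L102048 L93582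
theorem L102050 : N11701 = N5549 := (eqc rfl L102049 rfl).symm
theorem L102054 : sm gc N9591 = N5548 := trfs L102047 (flp_c L85585) rfl
theorem L102056 : sm gd N9591 = N12602 := trfs L102047 L98085 rfl
theorem L102057 : N12602 = N11702 := eqes L102056 L93584
theorem L102058 : N12602 = N11702 := eqc rfl L102057 rfl
theorem L102059 : sm ge N9591 = N12244 := trfs L102047 (flp_e L96313) rfl
theorem L102060 : N12244 = N11566 := eqes L102059 (flp_e L92877)
theorem L102061 : N12244 = N11566 := eqc rfl L102060 rfl
theorem L102062 : sm gf N9591 = N12603 := trfs L102047 L98089 rfl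
theorem L102063 : N12603 = N11703 := eqes L102062 L93589
theorem L102064 : N12603 = N11703 := eqc rfl L102063 rfl
theorem L102065 : sm gg N9591 = N12604 := trfs L102047 L98095 rfl
theorem L102066 : N12604 = N11704 := eqes L102065 L93591
theorem L102067 : N12604 = N11704 := eqc rfl L102066 rfl
theorem L102068 : sm ga N11704 = N10226 := trfs L102067 L98097 rfl
theorem L102070 : sm gc N11704 = N10222 := trfs L102067 L98099 rfl
theorem L102072 : sm gf N11704 = N12616 := trfs L102067 L98151 rfl
theorem L102074 : sm ga N11703 = N10225 := trfs L102064 L98091 rfl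
theorem L102076 : sm gc N11703 = N10221 := trfs L102064 L98093 rfl
theorem L102078 : sm gg N11703 = N12618 := trfs L102064 (flp_g L98161) rfl
theorem L102080 : sm ga N11566 = N10043 := trfs L102061 L96311 rfl
theorem L102082 : sm gc N11566 = N10042 := trfs L102061 (flp_c L96309) rfl
theorem L102084 : sm ga N11702 = N10224 := trfs L102058 L98087 rfl
theorem L102086 : sm ga N5549 = N9591 := trfs L102050 (flp_a L93582) rfl
theorem L102088 : sm gc N4640 = N9587 := trfs L102026 (flp_c L93532) rfl
theorem L102090 : sm gc N11700 = N11699 := ded_20_3 (flp_f L93572) L102041 L93574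
theorem L102093 : sm gc N12613 = N12613 := ded_28_6 L98139 (flp_a L102074) L102076 (flp_d L93540) L102043 L46545 (flp_c L85605) (flp_d L98139)
theorem L102094 : N10224 = N12611 := coi_28_0 (flp_c L98133) (flp_d L85601) (flp_c L26849) (flp_d L22391) L102088 L46537 (flp_c L102054) L93584 L102084
theorem L102095 : N12611 = N10224 := (eqc rfl L102094 rfl).symm
theorem L102096 : sm gc N10224 = N10224 := trfs L102095 (flp_c L98133) rfl
theorem L102097 : N11752 = N12607 := coi_7_9 (flp_a L98117) (flp_b L85597) L102086 (flp_b L46551) L22395 L10793 (flp_a L10835) L22493 L46773 L93795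
theorem L102098 : N12607 = N11752 := (eqc rfl L102097 rfl).symm
theorem L102099 : sm ga N11752 = N10223 := trfs L102098 (flp_a L98117) rfl
theorem L102101 : sm gc N11752 = N10230 := trfs L102098 L98119 rfl
theorem L102103 : sm gc N12612 = N12612 := ded_19_3 (flp_e L98135) L102096 L98135
theorem L102104 : sm gc N10657 = N13325 := rfl
theorem L102106 : sm ga N13325 = N11543 := ded_8_1 L102015 (flp_a L102009) L102104
theorem L102108 : sm ge N13325 = N10857 := ded_19_2 (flp_c L89154) (flp_e L88088) L102104
theorem L102110 : sm gb N13325 = N10857 := ded_13_1 (flp_c L89154) (flp_b L38726) (flp_c L56088) L88084 L102104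
theorem L102112 : sm gd N13325 = N11562 := ded_28_5 L102019 (flp_d L92744) (flp_a L102106) (flp_c L102104) L88086 L83338 (flp_d L88086) L102104
theorem L102114 : sm gf N10657 = N13326 := rfl
theorem L102116 : sm gd N13326 = N10661 := ded_23_1 (flp_f L88105) (flp_d L88086) L102114
theorem L102118 : sm ge N13326 = N10858 := ded_25_1 (flp_f L89156) (flp_e L88088) L102114
theorem L102120 : sm gb N10658 = N13327 := rfl
theorem L102122 : sm ge N13327 = N10674 := ded_15_2 (flp_b L88166) (flp_e L88093) L102120
theorem L102124 : sm gg N10658 = N13328 := rfl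
theorem L102126 : sm ga N13328 = N10659 := ded_12_1 (flp_g L88095) L88090 L102124
theorem L102128 : sm gc N13328 = N13328 := ded_21_1 (flp_g L102124) L88092 L102124
theorem L102129 : sm ge N13328 = N10675 := ded_26_1 (flp_g L88170) (flp_e L88093) L102124
theorem L102131 : sm gf N13328 = N13316 := ded_29_2 (flp_g L101960) L101953 L101958 L102124
theorem L102133 : sm gf N10659 = N13329 := rfl
theorem L102135 : sm ga N13329 = N13316 := ded_11_1 (flp_f L102131) L102126 L102133
theorem L102137 : sm gc N13329 = N13329 := ded_20_1 (flp_f L102133) L88097 L102133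
theorem L102138 : sm ge N13329 = N10676 := ded_25_1 (flp_f L88179) (flp_e L88098) L102133
theorem L102140 : sm gg N13329 = N13315 := ded_29_3 (flp_a L101953) L88055 L88095 L102133
theorem L102142 : sm gb N10660 = N13330 := rfl
theorem L102144 : sm ge N13330 = N10677 := ded_15_2 (flp_b L88188) (flp_e L88103) L102142
theorem L102146 : sm gf N10660 = N13331 := rfl
theorem L102148 : sm ga N13331 = N10661 := ded_11_1 (flp_f L88105) L88100 L102146
theorem L102150 : sm gc N13331 = N13331 := ded_20_1 (flp_f L102146) L88102 L102146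
theorem L102151 : sm ge N13331 = N10678 := ded_25_1 (flp_f L88192) (flp_e L88103) L102146
theorem L102153 : sm gg N13319 = N13331 := ded_29_1 (flp_f L102146) (flp_g L101974) (flp_a L101969) L101976
theorem L102155 : sm gg N10661 = N13332 := rfl
theorem L102157 : sm ga N13332 = N13319 := ded_12_1 L102153 L102148 L102155
theorem L102159 : sm gc N13332 = N13332 := ded_21_1 (flp_g L102155) L88107 L102155
theorem L102160 : sm ge N13332 = N10679 := ded_26_1 (flp_g L88201) (flp_e L88108) L102155
theorem L102162 : sm gf N13318 = N13332 := ded_29_0 (flp_g L102155) (flp_f L88105) (flp_g L88068) L101969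
theorem L102164 : sm gf N10662 = N13333 := rfl
theorem L102166 : sm ga N13333 = N10664 := ded_11_1 (flp_f L88118) L88110 L102164
theorem L102168 : sm gc N13333 = N10732 := ded_20_1 (flp_f L88498) (flp_c L88521) L102164
theorem L102170 : sm gd N13333 = N10930 := ded_23_1 (flp_f L89582) (flp_d L88112) L102164
theorem L102172 : sm gg N10662 = N13334 := rfl
theorem L102174 : sm ga N13334 = N10665 := ded_12_1 (flp_g L88122) L88110 L102172
theorem L102176 : sm gc N13334 = N10733 := ded_21_1 (flp_g L88500) (flp_c L88521) L102172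
theorem L102178 : sm gd N13334 = N10931 := ded_24_1 (flp_g L89588) (flp_d L88112) L102172
theorem L102180 : sm gd N10663 = N13335 := rfl
theorem L102182 : sm ga N13335 = N10731 := ded_9_1 (flp_d L88494) (flp_a L88514) L102180
theorem L102184 : sm gb N13335 = N10735 := ded_14_1 L101787 L101785 L102180
theorem L102186 : sm ge N13335 = N10731 := ded_22_2 (flp_d L88494) (flp_e L88320) L101853 L101849 L102180
theorem L102189 : sm gf N10663 = N13336 := rfl
theorem L102191 : sm ga N13336 = N10732 := ded_11_1 (flp_f L88498) (flp_a L88514) L102189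
theorem L102193 : sm gc N13336 = N10664 := ded_20_1 (flp_f L88118) L88116 L102189
theorem L102195 : sm gg N10663 = N13337 := rfl
theorem L102197 : sm ga N13337 = N10733 := ded_12_1 (flp_g L88500) (flp_a L88514) L102195
theorem L102199 : sm gc N13337 = N10665 := ded_21_1 (flp_g L88122) L88116 L102195
theorem L102201 : sm gb N10664 = N13338 := rfl
theorem L102203 : sm gd N13338 = N10932 := ded_14_2 (flp_b L89594) (flp_d L88120) L102201
theorem L102205 : sm gf N13338 = N10666 := ded_16_2 (flp_b L88126) (flp_f L33070) L33066 L88118 L102201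
theorem L102207 : sm gg N10664 = N13339 := rfl
theorem L102209 : sm gd N13339 = N10933 := ded_24_1 (flp_g L89598) (flp_d L88120) L102207
theorem L102211 : sm gf N13334 = N13339 := ded_29_0 (flp_g L102207) (flp_f L88118) L88122 (flp_a L102174)
theorem L102213 : sm gb N10665 = N13340 := rfl
theorem L102215 : sm gd N13340 = N10934 := ded_14_2 (flp_b L89602) (flp_d L88124) L102213
theorem L102217 : sm gg N13340 = N10667 := ded_17_2 (flp_b L88130) (flp_g L33076) L33066 L88122 L102213
theorem L102219 : sm gf N10665 = N13341 := rfl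
theorem L102221 : sm ga N13341 = N13339 := ded_11_1 (flp_f L102211) L102174 L102219
theorem L102223 : sm gd N13341 = N10935 := ded_23_1 (flp_f L89606) (flp_d L88124) L102219
theorem L102225 : sm gg N13341 = N13333 := ded_29_3 L102166 (flp_f L88118) L88122 L102219
theorem L102227 : sm ga N10666 = N13342 := rfl
theorem L102229 : sm gd N13342 = N10936 := ded_9_2 (flp_a L89614) (flp_d L88128) L102227
theorem L102231 : sm gc N10666 = N13343 := rfl
theorem L102233 : sm gg N10666 = N13344 := rfl
theorem L102235 : sm gd N13344 = N10938 := ded_24_1 (flp_g L89618) (flp_d L88128) L102233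
theorem L102237 : sm ga N10667 = N13345 := rfl
theorem L102239 : sm gd N13345 = N10939 := ded_9_2 (flp_a L89620) (flp_d L88132) L102237
theorem L102241 : sm gc N10667 = N13346 := rfl
theorem L102243 : sm gf N10667 = N13347 := rfl
theorem L102245 : sm gd N13347 = N10941 := ded_23_1 (flp_f L89624) (flp_d L88132) L102243
theorem L102247 : sm gb N10668 = N13348 := rfl
theorem L102249 : sm gd N13348 = N10942 := ded_14_2 (flp_b L89626) (flp_d L88137) L102247
theorem L102251 : sm gb N10669 = N13349 := rfl
theorem L102253 : sm gd N13349 = N10946 := ded_14_2 (flp_b L89642) (flp_d L88144) L102251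
theorem L102255 : sm gg N13349 = N10670 := ded_17_2 (flp_b L88146) (flp_g L33088) L33082 L88141 L102251
theorem L102257 : sm ga N10670 = N13350 := rfl
theorem L102259 : sm gd N13350 = N10947 := ded_9_2 (flp_a L89646) (flp_d L88148) L102257
theorem L102261 : sm gc N10670 = N13351 := rfl
theorem L102263 : sm gf N10670 = N13352 := rfl
theorem L102265 : sm gd N13352 = N10949 := ded_23_1 (flp_f L89650) (flp_d L88148) L102263
theorem L102267 : sm gb N13352 = N13347 := ded_16_1 (flp_f L102243) (flp_b L88130) L33092 L88146 L102263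
theorem L102269 : sm gb N10671 = N13353 := rfl
theorem L102271 : sm gd N13353 = N10950 := ded_14_2 (flp_b L89654) (flp_d L88153) L102269
theorem L102273 : sm gb N10672 = N13354 := rfl
theorem L102275 : sm gd N13354 = N10954 := ded_14_2 (flp_b L89670) (flp_d L88160) L102273
theorem L102277 : sm gf N13354 = N10673 := ded_16_2 (flp_b L88162) (flp_f L33100) L33094 L88157 L102273
theorem L102279 : sm ga N10673 = N13355 := rfl
theorem L102281 : sm gd N13355 = N10955 := ded_9_2 (flp_a L89674) (flp_d L88164) L102279
theorem L102283 : sm gc N10673 = N13356 := rfl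
theorem L102285 : sm gg N10673 = N13357 := rfl
theorem L102287 : sm gd N13357 = N10957 := ded_24_1 (flp_g L89678) (flp_d L88164) L102285
theorem L102289 : sm gb N13357 = N13344 := ded_17_1 (flp_g L102233) (flp_b L88126) (flp_g L33106) L88162 L102285
theorem L102291 : sm ga N10674 = N13358 := rfl
theorem L102293 : sm gd N13358 = N10958 := ded_9_2 (flp_a L89682) (flp_d L88168) L102291
theorem L102295 : sm gb N13358 = N10958 := ded_7_2 (flp_a L89682) (flp_b L39611) (flp_a L18815) (flp_b L9111) (flp_a L7805) L15924 L33108 L88166 L102291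
theorem L102297 : sm gc N10674 = N13359 := rfl
theorem L102300 : sm gf N10674 = N13360 := rfl
theorem L102302 : sm gd N13360 = N10960 := ded_23_1 (flp_f L89686) (flp_d L88168) L102300
theorem L102304 : sm gg N10674 = N13361 := rfl
theorem L102306 : sm gd N13361 = N10961 := ded_24_1 (flp_g L89688) (flp_d L88168) L102304
theorem L102308 : sm gb N10675 = N13362 := rfl
theorem L102310 : sm gd N13362 = N10965 := ded_14_2 (flp_b L89706) (flp_d L88175) L102308
theorem L102312 : sm gb N10676 = N13363 := rfl
theorem L102314 : sm gd N13363 = N10973 := ded_14_2 (flp_b L89738) (flp_d L88184) L102312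
theorem L102316 : sm ga N10677 = N13364 := rfl
theorem L102318 : sm gd N13364 = N10980 := ded_9_2 (flp_a L89767) (flp_d L88190) L102316
theorem L102320 : sm gb N13364 = N10980 := ded_7_2 (flp_a L89767) (flp_b L39651) (flp_a L18825) (flp_b L9119) (flp_a L7813) L15928 L33120 L88188 L102316
theorem L102322 : sm gc N10677 = N13365 := rfl
theorem L102325 : sm gf N10677 = N13366 := rfl
theorem L102327 : sm gd N13366 = N10982 := ded_23_1 (flp_f L89771) (flp_d L88190) L102325
theorem L102329 : sm gg N10677 = N13367 := rfl
theorem L102331 : sm gd N13367 = N10983 := ded_24_1 (flp_g L89773) (flp_d L88190) L102329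
theorem L102333 : sm gb N10678 = N13368 := rfl
theorem L102335 : sm gd N13368 = N10987 := ded_14_2 (flp_b L89791) (flp_d L88197) L102333
theorem L102337 : sm gb N10679 = N13369 := rfl
theorem L102339 : sm gd N13369 = N10995 := ded_14_2 (flp_b L89827) (flp_d L88206) L102337
theorem L102341 : sm gb N10680 = N13370 := rfl
theorem L102343 : sm gd N13370 = N10682 := ded_14_2 (flp_b L88228) (flp_d L88215) L102341
theorem L102345 : sm ge N13370 = N10689 := ded_15_2 (flp_b L88272) (flp_e L88217) L102341
theorem L102347 : sm gf N13370 = N10682 := ded_16_2 (flp_b L88228) (flp_f L36484) L36475 L88210 L102341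
theorem L102349 : sm gb N10681 = N13371 := rfl
theorem L102351 : sm gd N13371 = N10683 := ded_14_2 (flp_b L88232) (flp_d L88224) L102349
theorem L102353 : sm ge N13371 = N10691 := ded_15_2 (flp_b L88281) (flp_e L88226) L102349
theorem L102355 : sm gg N13371 = N10683 := ded_17_2 (flp_b L88232) (flp_g L36492) L36475 L88219 L102349
theorem L102357 : sm ga N10682 = N13372 := rfl
theorem L102359 : sm ge N13372 = N10693 := ded_10_2 (flp_a L88292) (flp_e L88230) L102357
theorem L102361 : sm gc N10682 = N13373 := rfl
theorem L102363 : sm ge N13373 = N10694 := ded_19_2 (flp_c L88294) (flp_e L88230) L102361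
theorem L102365 : sm gb N13373 = N10684 := ded_13_1 (flp_c L88236) (flp_b L36500) (flp_c L36488) L88228 L102361
theorem L102367 : sm gg N10682 = N13374 := rfl
theorem L102369 : sm ge N13374 = N10695 := ded_26_1 (flp_g L88298) (flp_e L88230) L102367
theorem L102371 : sm ga N10683 = N13375 := rfl
theorem L102373 : sm ge N13375 = N10696 := ded_10_2 (flp_a L88300) (flp_e L88234) L102371
theorem L102375 : sm gc N10683 = N13376 := rfl
theorem L102377 : sm ge N13376 = N10697 := ded_19_2 (flp_c L88302) (flp_e L88234) L102375
theorem L102379 : sm gb N13376 = N10685 := ded_13_1 (flp_c L88242) (flp_b L36506) (flp_c L36496) L88232 L102375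
theorem L102381 : sm gf N10683 = N13377 := rfl
theorem L102383 : sm ge N13377 = N10698 := ded_25_1 (flp_f L88306) (flp_e L88234) L102381
theorem L102385 : sm gd N10684 = N13378 := rfl
theorem L102387 : sm ga N13378 = N13378 := ded_9_1 (flp_d L102385) L88238 L102385
theorem L102388 : sm gf N13378 = N13378 := ded_23_2 (flp_d L102385) L88241 L102385
theorem L102389 : sm gd N10685 = N13379 := rfl
theorem L102391 : sm ga N13379 = N13379 := ded_9_1 (flp_d L102389) L88244 L102389
theorem L102392 : sm gg N13379 = N13379 := ded_24_2 (flp_d L102389) L88247 L102389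
theorem L102393 : sm gf N10686 = N13380 := rfl
theorem L102395 : sm gd N13380 = N10744 := ded_23_1 (flp_f L88564) (flp_d L88250) L102393
theorem L102397 : sm ge N13380 = N10705 := ded_25_1 (flp_f L88342) (flp_e L88252) L102393
theorem L102399 : sm gg N10686 = N13381 := rfl
theorem L102401 : sm gd N13381 = N10745 := ded_24_1 (flp_g L88568) (flp_d L88250) L102399
theorem L102403 : sm ge N13381 = N10706 := ded_26_1 (flp_g L88346) (flp_e L88252) L102399
theorem L102405 : sm gb N10687 = N13382 := rfl
theorem L102407 : sm gd N13382 = N10758 := ded_14_2 (flp_b L88626) (flp_d L88259) L102405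
theorem L102409 : sm ge N13382 = N10711 := ded_15_2 (flp_b L88380) (flp_e L88261) L102405
theorem L102411 : sm gb N10688 = N13383 := rfl
theorem L102413 : sm gd N13383 = N10760 := ded_14_2 (flp_b L88640) (flp_d L88268) L102411
theorem L102415 : sm ge N13383 = N10713 := ded_15_2 (flp_b L88393) (flp_e L88270) L102411
theorem L102417 : sm ga N10689 = N13384 := rfl
theorem L102419 : sm gf N13384 = N10693 := ded_11_2 (flp_a L88292) (flp_f L88274) L102417
theorem L102421 : sm gc N10689 = N13385 := rfl
theorem L102423 : sm gf N13385 = N10694 := ded_20_2 (flp_c L88294) (flp_f L88274) L102421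
theorem L102425 : sm gb N13385 = N13385 := ded_13_1 (flp_c L102421) (flp_b L88272) L71915 L88272 L102421
theorem L102426 : sm gg N10689 = N13386 := rfl
theorem L102428 : sm gb N10690 = N13387 := rfl
theorem L102430 : sm ga N10691 = N13388 := rfl
theorem L102432 : sm gg N13388 = N10696 := ded_12_2 (flp_a L88300) (flp_g L88283) L102430
theorem L102434 : sm gc N10691 = N13389 := rfl
theorem L102436 : sm gg N13389 = N10697 := ded_21_2 (flp_c L88302) (flp_g L88283) L102434
theorem L102438 : sm gb N13389 = N13389 := ded_13_1 (flp_c L102434) (flp_b L88281) L71916 L88281 L102434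
theorem L102439 : sm gf N10691 = N13390 := rfl
theorem L102441 : sm gb N10692 = N13391 := rfl
theorem L102443 : sm gb N10693 = N13392 := rfl
theorem L102445 : sm gc N10693 = N13393 := rfl
theorem L102447 : sm ga N13393 = N10694 := ded_8_1 (flp_c L88294) L88292 L102445
theorem L102449 : sm gg N10693 = N13394 := rfl
theorem L102451 : sm ga N13394 = N10695 := ded_12_1 (flp_g L88298) L88292 L102449
theorem L102453 : sm gf N13394 = N13386 := ded_29_2 (flp_g L102426) L102417 L102419 L102449
theorem L102455 : sm gd N10694 = N13395 := rfl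
theorem L102457 : sm gb N13395 = N10699 := ded_14_1 (flp_d L88308) (flp_b L88296) L102455
theorem L102459 : sm gg N10694 = N13396 := rfl
theorem L102461 : sm gc N13396 = N10695 := ded_21_1 (flp_g L88298) L88294 L102459
theorem L102463 : sm gf N10695 = N13397 := rfl
theorem L102465 : sm ga N13397 = N13386 := ded_11_1 (flp_f L102453) L102451 L102463
theorem L102467 : sm gg N13397 = N13384 := ded_29_3 (flp_a L102417) L88274 L88298 L102463
theorem L102469 : sm gb N10696 = N13398 := rfl
theorem L102471 : sm gc N10696 = N13399 := rfl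
theorem L102473 : sm ga N13399 = N10697 := ded_8_1 (flp_c L88302) L88300 L102471
theorem L102475 : sm gf N10696 = N13400 := rfl
theorem L102477 : sm ga N13400 = N10698 := ded_11_1 (flp_f L88306) L88300 L102475
theorem L102479 : sm gg N13390 = N13400 := ded_29_1 (flp_f L102475) (flp_g L102432) (flp_a L102430) L102439
theorem L102481 : sm gd N10697 = N13401 := rfl
theorem L102483 : sm gb N13401 = N10700 := ded_14_1 (flp_d L88313) (flp_b L88304) L102481
theorem L102485 : sm gf N10697 = N13402 := rfl
theorem L102487 : sm gc N13402 = N10698 := ded_20_1 (flp_f L88306) L88302 L102485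
theorem L102489 : sm gg N10698 = N13403 := rfl
theorem L102491 : sm ga N13403 = N13390 := ded_12_1 L102479 L102477 L102489
theorem L102493 : sm gf N13388 = N13403 := ded_29_0 (flp_g L102489) (flp_f L88306) (flp_g L88283) L102430
theorem L102495 : sm ge N10699 = N13404 := rfl
theorem L102497 : sm ga N13404 = N13404 := ded_10_1 (flp_e L102495) L88310 L102495
theorem L102498 : sm gc N13404 = N13404 := ded_19_1 (flp_e L102495) L88312 L102495
theorem L102499 : sm gf N13404 = N13404 := ded_25_2 (flp_e L102495) L88311 L102495
theorem L102500 : sm ge N10700 = N13405 := rfl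
theorem L102502 : sm ga N13405 = N13405 := ded_10_1 (flp_e L102500) L88315 L102500
theorem L102503 : sm gc N13405 = N13405 := ded_19_1 (flp_e L102500) L88317 L102500
theorem L102504 : sm gg N13405 = N13405 := ded_26_2 (flp_e L102500) L88316 L102500
theorem L102505 : sm gf N10701 = N13406 := rfl
theorem L102507 : sm ge N13406 = N10732 := ded_25_1 (flp_f L88498) (flp_e L88320) L102505
theorem L102509 : sm gg N10701 = N13407 := rfl
theorem L102511 : sm ge N13407 = N10733 := ded_26_1 (flp_g L88500) (flp_e L88320) L102509
theorem L102513 : sm gf N10702 = N13408 := rfl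
theorem L102515 : sm ga N13408 = N10705 := ded_11_1 (flp_f L88342) (flp_a L88324) L102513
theorem L102517 : sm gd N13408 = N10703 := ded_23_1 (flp_f L88326) L88322 L102513
theorem L102519 : sm gg N10702 = N13409 := rfl
theorem L102521 : sm ga N13409 = N10706 := ded_12_1 (flp_g L88346) (flp_a L88324) L102519
theorem L102523 : sm gd N13409 = N10704 := ded_24_1 (flp_g L88334) L88322 L102519
theorem L102525 : sm gb N10703 = N13410 := rfl
theorem L102529 : sm gb N10704 = N13411 := rfl
theorem L102531 : sm ge N13411 = N10739 := ded_15_2 (flp_b L88544) (flp_e L88340) L102529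
theorem L102533 : sm gb N10705 = N13412 := rfl
theorem L102535 : sm gd N13412 = N10707 := ded_14_2 (flp_b L88350) (flp_d L88344) L102533
theorem L102537 : sm gf N13412 = N10711 := ded_16_2 (flp_b L88380) (flp_f L36815) (flp_b L36796) L88342 L102533
theorem L102539 : sm gg N10705 = N13413 := rfl
theorem L102541 : sm gd N13413 = N10708 := ded_24_1 (flp_g L88356) (flp_d L88344) L102539
theorem L102543 : sm gf N13409 = N13413 := ded_29_0 (flp_g L102539) (flp_f L88342) L88346 (flp_a L102521)
theorem L102545 : sm gb N10706 = N13414 := rfl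
theorem L102547 : sm gd N13414 = N10709 := ded_14_2 (flp_b L88364) (flp_d L88348) L102545
theorem L102549 : sm gg N13414 = N10713 := ded_17_2 (flp_b L88393) (flp_g L36820) (flp_b L36796) L88346 L102545
theorem L102551 : sm gf N10706 = N13415 := rfl
theorem L102553 : sm ga N13415 = N13413 := ded_11_1 (flp_f L102543) L102521 L102551
theorem L102555 : sm gd N13415 = N10710 := ded_23_1 (flp_f L88370) (flp_d L88348) L102551
theorem L102557 : sm gg N13415 = N13408 := ded_29_3 L102515 (flp_f L88342) L88346 L102551
theorem L102559 : sm ga N10707 = N13416 := rfl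
theorem L102561 : sm ge N13416 = N10750 := ded_10_2 (flp_a L88598) (flp_e L88352) L102559
theorem L102563 : sm gf N13416 = N10715 := ded_11_2 (flp_a L88408) (flp_f L88354) L102559
theorem L102565 : sm gc N10707 = N13417 := rfl
theorem L102567 : sm ge N13417 = N10751 := ded_19_2 (flp_c L88602) (flp_e L88352) L102565
theorem L102569 : sm gf N13417 = N10716 := ded_20_2 (flp_c L88412) (flp_f L88354) L102565
theorem L102571 : sm gb N13417 = N10845 := ded_13_1 (flp_c L89102) (flp_b L38690) (flp_c L36800) L88350 L102565
theorem L102573 : sm gg N10707 = N13418 := rfl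
theorem L102575 : sm ge N13418 = N10752 := ded_26_1 (flp_g L88608) (flp_e L88352) L102573
theorem L102577 : sm gb N10708 = N13419 := rfl
theorem L102579 : sm ge N13419 = N10753 := ded_15_2 (flp_b L88610) (flp_e L88360) L102577
theorem L102581 : sm ga N10709 = N13420 := rfl
theorem L102583 : sm ge N13420 = N10754 := ded_10_2 (flp_a L88612) (flp_e L88366) L102581
theorem L102585 : sm gg N13420 = N10719 := ded_12_2 (flp_a L88426) (flp_g L88368) L102581
theorem L102587 : sm gc N10709 = N13421 := rfl
theorem L102589 : sm ge N13421 = N10755 := ded_19_2 (flp_c L88616) (flp_e L88366) L102587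
theorem L102591 : sm gg N13421 = N10720 := ded_21_2 (flp_c L88430) (flp_g L88368) L102587
theorem L102593 : sm gb N13421 = N10849 := ded_13_1 (flp_c L89122) (flp_b L38702) (flp_c L36806) L88364 L102587
theorem L102595 : sm gf N10709 = N13422 := rfl
theorem L102597 : sm ge N13422 = N10756 := ded_25_1 (flp_f L88622) (flp_e L88366) L102595
theorem L102599 : sm gb N10710 = N13423 := rfl
theorem L102601 : sm ge N13423 = N10757 := ded_15_2 (flp_b L88624) (flp_e L88376) L102599
theorem L102603 : sm ga N10711 = N13424 := rfl
theorem L102605 : sm gd N13424 = N10715 := ded_9_2 (flp_a L88408) (flp_d L88382) L102603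
theorem L102607 : sm gc N10711 = N13425 := rfl
theorem L102609 : sm gb N13425 = N13425 := ded_13_1 (flp_c L102607) (flp_b L88380) L36817 L88380 L102607
theorem L102610 : sm gg N10711 = N13426 := rfl
theorem L102612 : sm gd N13426 = N10717 := ded_24_1 (flp_g L88418) (flp_d L88382) L102610
theorem L102614 : sm gb N10712 = N13427 := rfl
theorem L102616 : sm gd N13427 = N10718 := ded_14_2 (flp_b L88422) (flp_d L88387) L102614
theorem L102618 : sm ge N13427 = N13391 := ded_15_2 (flp_b L102441) (flp_e L88389) L102614
theorem L102620 : sm ga N10713 = N13428 := rfl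
theorem L102622 : sm gd N13428 = N10719 := ded_9_2 (flp_a L88426) (flp_d L88395) L102620
theorem L102624 : sm gc N10713 = N13429 := rfl
theorem L102626 : sm gb N13429 = N13429 := ded_13_1 (flp_c L102624) (flp_b L88393) L36822 L88393 L102624
theorem L102627 : sm gf N10713 = N13430 := rfl
theorem L102629 : sm gd N13430 = N10721 := ded_23_1 (flp_f L88436) (flp_d L88395) L102627
theorem L102631 : sm gb N10714 = N13431 := rfl
theorem L102633 : sm gd N13431 = N10722 := ded_14_2 (flp_b L88440) (flp_d L88402) L102631
theorem L102635 : sm ge N13431 = N13387 := ded_15_2 (flp_b L102428) (flp_e L88404) L102631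
theorem L102637 : sm gb N10715 = N13432 := rfl
theorem L102639 : sm ge N13432 = N10770 := ded_15_2 (flp_b L88684) (flp_e L88410) L102637
theorem L102641 : sm gc N10715 = N13433 := rfl
theorem L102643 : sm ga N13433 = N10716 := ded_8_1 (flp_c L88412) L88408 L102641
theorem L102645 : sm ge N13433 = N10771 := ded_19_2 (flp_c L88686) (flp_e L88410) L102641
theorem L102647 : sm gg N10715 = N13434 := rfl
theorem L102649 : sm ga N13434 = N10717 := ded_12_1 (flp_g L88418) L88408 L102647
theorem L102651 : sm ge N13434 = N10772 := ded_26_1 (flp_g L88690) (flp_e L88410) L102647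
theorem L102653 : sm gf N13434 = N13418 := ded_29_2 (flp_g L102573) L102559 L102563 L102647
theorem L102655 : sm gd N10716 = N13435 := rfl
theorem L102657 : sm gb N13435 = N10723 := ded_14_1 (flp_d L88444) (flp_b L88416) L102655
theorem L102659 : sm gg N10716 = N13436 := rfl
theorem L102661 : sm gc N13436 = N10717 := ded_21_1 (flp_g L88418) L88412 L102659
theorem L102663 : sm ge N13436 = N10774 := ded_26_1 (flp_g L88700) (flp_e L88414) L102659
theorem L102665 : sm gb N10717 = N13437 := rfl
theorem L102667 : sm ge N13437 = N10775 := ded_15_2 (flp_b L88704) (flp_e L88420) L102665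
theorem L102669 : sm gg N13437 = N10718 := ded_17_2 (flp_b L88422) (flp_g L36829) L36825 L88418 L102665
theorem L102671 : sm gf N10717 = N13438 := rfl
theorem L102673 : sm ga N13438 = N13418 := ded_11_1 (flp_f L102653) L102649 L102671
theorem L102675 : sm ge N13438 = N10776 := ded_25_1 (flp_f L88708) (flp_e L88420) L102671
theorem L102677 : sm gg N13438 = N13416 := ded_29_3 (flp_a L102559) L88354 L88418 L102671
theorem L102679 : sm ga N10718 = N13439 := rfl
theorem L102681 : sm ge N13439 = N10777 := ded_10_2 (flp_a L88714) (flp_e L88424) L102679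
theorem L102683 : sm gc N10718 = N13440 := rfl
theorem L102685 : sm ge N13440 = N10778 := ded_19_2 (flp_c L88716) (flp_e L88424) L102683
theorem L102687 : sm gb N13440 = N10725 := ded_13_1 (flp_c L88456) (flp_b L36871) (flp_c L36831) L88422 L102683
theorem L102689 : sm gf N10718 = N13441 := rfl
theorem L102691 : sm ge N13441 = N10779 := ded_25_1 (flp_f L88720) (flp_e L88424) L102689
theorem L102693 : sm gb N13441 = N13377 := ded_16_1 (flp_f L102381) (flp_b L88232) L36835 L88422 L102689
theorem L102695 : sm gb N10719 = N13442 := rfl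
theorem L102697 : sm ge N13442 = N10780 := ded_15_2 (flp_b L88724) (flp_e L88428) L102695
theorem L102699 : sm gc N10719 = N13443 := rfl
theorem L102701 : sm ga N13443 = N10720 := ded_8_1 (flp_c L88430) L88426 L102699
theorem L102703 : sm ge N13443 = N10781 := ded_19_2 (flp_c L88726) (flp_e L88428) L102699
theorem L102705 : sm gf N10719 = N13444 := rfl
theorem L102707 : sm ga N13444 = N10721 := ded_11_1 (flp_f L88436) L88426 L102705
theorem L102709 : sm ge N13444 = N10782 := ded_25_1 (flp_f L88730) (flp_e L88428) L102705
theorem L102711 : sm gg N13422 = N13444 := ded_29_1 (flp_f L102705) (flp_g L102585) (flp_a L102581) L102595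
theorem L102713 : sm gd N10720 = N13445 := rfl
theorem L102715 : sm gb N13445 = N10726 := ded_14_1 (flp_d L88464) (flp_b L88434) L102713
theorem L102717 : sm gf N10720 = N13446 := rfl
theorem L102719 : sm gc N13446 = N10721 := ded_20_1 (flp_f L88436) L88430 L102717
theorem L102721 : sm ge N13446 = N10784 := ded_25_1 (flp_f L88740) (flp_e L88432) L102717
theorem L102723 : sm gb N10721 = N13447 := rfl
theorem L102725 : sm ge N13447 = N10785 := ded_15_2 (flp_b L88744) (flp_e L88438) L102723
theorem L102727 : sm gf N13447 = N10722 := ded_16_2 (flp_b L88440) (flp_f L36841) L36837 L88436 L102723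
theorem L102729 : sm gg N10721 = N13448 := rfl
theorem L102731 : sm ga N13448 = N13422 := ded_12_1 L102711 L102707 L102729
theorem L102733 : sm ge N13448 = N10786 := ded_26_1 (flp_g L88748) (flp_e L88438) L102729
theorem L102735 : sm gf N13420 = N13448 := ded_29_0 (flp_g L102729) (flp_f L88436) (flp_g L88368) L102581
theorem L102737 : sm ga N10722 = N13449 := rfl
theorem L102739 : sm ge N13449 = N10787 := ded_10_2 (flp_a L88754) (flp_e L88442) L102737
theorem L102741 : sm gc N10722 = N13450 := rfl
theorem L102743 : sm ge N13450 = N10788 := ded_19_2 (flp_c L88756) (flp_e L88442) L102741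
theorem L102745 : sm gb N13450 = N10728 := ded_13_1 (flp_c L88478) (flp_b L36897) (flp_c L36845) L88440 L102741
theorem L102747 : sm gg N10722 = N13451 := rfl
theorem L102749 : sm ge N13451 = N10789 := ded_26_1 (flp_g L88760) (flp_e L88442) L102747
theorem L102751 : sm gb N13451 = N13374 := ded_17_1 (flp_g L102367) (flp_b L88228) (flp_g L36849) L88440 L102747
theorem L102753 : sm ge N10723 = N13452 := rfl
theorem L102755 : sm gc N13452 = N10883 := ded_19_1 (flp_e L89298) (flp_c L88448) L102753
theorem L102757 : sm gf N13452 = N10883 := ded_25_2 (flp_e L89298) (flp_f L88446) L102753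
theorem L102759 : sm gd N13452 = N10793 := ded_22_1 (flp_e L88777) (flp_d L37275) (flp_e L36861) L88444 L102753
theorem L102761 : sm gg N10723 = N13453 := rfl
theorem L102763 : sm gc N13453 = N10884 := ded_21_1 (flp_g L89302) (flp_c L88448) L102761
theorem L102765 : sm gd N13453 = N10724 := ded_24_1 (flp_g L88450) L88444 L102761
theorem L102767 : sm gb N10724 = N13454 := rfl
theorem L102769 : sm ge N13454 = N10795 := ded_15_2 (flp_b L88785) (flp_e L88454) L102767
theorem L102771 : sm gd N10725 = N13455 := rfl
theorem L102773 : sm ga N13455 = N10895 := ded_9_1 L89368 (flp_a L88458) L102771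
theorem L102775 : sm gf N13455 = N10893 := ded_23_2 (flp_d L89358) (flp_f L88462) L102771
theorem L102777 : sm ge N10726 = N13456 := rfl
theorem L102779 : sm gc N13456 = N10894 := ded_19_1 (flp_e L89362) (flp_c L88468) L102777
theorem L102781 : sm gg N13456 = N10894 := ded_26_2 (flp_e L89362) (flp_g L88466) L102777
theorem L102783 : sm gd N13456 = N10800 := ded_22_1 (flp_e L88806) (flp_d L37311) (flp_e L36887) L88464 L102777
theorem L102785 : sm gf N10726 = N13457 := rfl
theorem L102787 : sm gc N13457 = N10895 := ded_20_1 (flp_f L89366) (flp_c L88468) L102785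
theorem L102789 : sm gd N13457 = N10727 := ded_23_1 (flp_f L88470) L88464 L102785
theorem L102791 : sm gg N13457 = N13455 := ded_29_3 L102773 (flp_f L89366) (flp_g L88466) L102785
theorem L102793 : sm gb N10727 = N13458 := rfl
theorem L102795 : sm ge N13458 = N10802 := ded_15_2 (flp_b L88816) (flp_e L88474) L102793
theorem L102797 : sm gc N13458 = N13454 := ded_13_2 (flp_b L102767) L88452 (flp_b L82664) (flp_c L88472) L102793
theorem L102799 : sm gd N10728 = N13459 := rfl
theorem L102801 : sm ga N13459 = N10884 := ded_9_1 L89304 (flp_a L88480) L102799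
theorem L102803 : sm gf N13459 = N13453 := ded_23_2 L102765 (flp_f L88484) L102799
theorem L102805 : sm gg N13459 = N10882 := ded_24_2 (flp_d L89294) (flp_g L88486) L102799
theorem L102807 : sm gf N10731 = N13460 := rfl
theorem L102810 : sm gd N13460 = N10732 := ded_23_1 (flp_f L88498) L88494 L102807
theorem L102812 : sm gg N10731 = N13461 := rfl
theorem L102815 : sm gd N13461 = N10733 := ded_24_1 (flp_g L88500) L88494 L102812
theorem L102817 : sm gb N10732 = N13462 := rfl
theorem L102819 : sm gf N13462 = N10738 := ded_16_2 (flp_b L88542) (flp_f L37163) L37157 L88498 L102817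
theorem L102821 : sm gg N10732 = N13463 := rfl
theorem L102823 : sm gc N13463 = N13341 := ded_21_1 L102225 L102168 L102821
theorem L102825 : sm gf N13337 = N13463 := ded_29_0 (flp_g L102821) (flp_f L88498) L88500 (flp_a L102197)
theorem L102827 : sm gb N10733 = N13464 := rfl
theorem L102829 : sm gg N13464 = N10739 := ded_17_2 (flp_b L88544) (flp_g L37169) L37157 L88500 L102827
theorem L102831 : sm gf N10733 = N13465 := rfl
theorem L102833 : sm ga N13465 = N13463 := ded_11_1 (flp_f L102825) L102197 L102831
theorem L102835 : sm gc N13465 = N13339 := ded_20_1 (flp_f L102211) L102176 L102831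
theorem L102837 : sm gg N13465 = N13336 := ded_29_3 L102191 (flp_f L88498) L88500 L102831
theorem L102839 : sm ge N10734 = N13466 := rfl
theorem L102841 : sm ga N13466 = N10741 := ded_10_1 (flp_e L88552) (flp_a L88504) L102839
theorem L102843 : sm gb N13466 = N13466 := ded_15_1 (flp_e L102839) L88510 L102839
theorem L102844 : sm gc N13466 = N10735 := ded_19_1 (flp_e L88526) L88502 L102839
theorem L102846 : sm gf N10734 = N13467 := rfl
theorem L102848 : sm ga N13467 = N10742 := ded_11_1 (flp_f L88556) (flp_a L88504) L102846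
theorem L102850 : sm gc N13467 = N10736 := ded_20_1 (flp_f L88530) L88502 L102846
theorem L102852 : sm gd N13467 = N13294 := ded_23_1 (flp_f L101809) L88506 L102846
theorem L102854 : sm gg N10734 = N13468 := rfl
theorem L102856 : sm ga N13468 = N10743 := ded_12_1 (flp_g L88560) (flp_a L88504) L102854
theorem L102858 : sm gc N13468 = N10737 := ded_21_1 (flp_g L88536) L88502 L102854
theorem L102860 : sm gd N13468 = N13295 := ded_24_1 (flp_g L101813) L88506 L102854
theorem L102862 : sm gf N10735 = N13469 := rfl
theorem L102864 : sm ga N13469 = N10744 := ded_11_1 (flp_f L88564) (flp_a L88528) L102862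
theorem L102866 : sm ge N13469 = N10736 := ded_25_1 (flp_f L88530) L88526 L102862
theorem L102868 : sm gg N10735 = N13470 := rfl
theorem L102870 : sm ga N13470 = N10745 := ded_12_1 (flp_g L88568) (flp_a L88528) L102868
theorem L102872 : sm ge N13470 = N10737 := ded_26_1 (flp_g L88536) L88526 L102868
theorem L102874 : sm gb N10736 = N13471 := rfl
theorem L102876 : sm gd N13471 = N10738 := ded_14_2 (flp_b L88542) (flp_d L88534) L102874
theorem L102878 : sm gb N10737 = N13472 := rfl
theorem L102880 : sm gd N13472 = N10739 := ded_14_2 (flp_b L88544) (flp_d L88540) L102878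
theorem L102882 : sm ga N10738 = N13473 := rfl
theorem L102884 : sm gc N10738 = N13474 := rfl
theorem L102886 : sm gb N13474 = N10937 := ded_13_1 (flp_c L89616) (flp_b L39583) (flp_c L37167) L88542 L102884
theorem L102894 : sm gg N10738 = N13475 := rfl
theorem L102896 : sm ga N10739 = N13476 := rfl
theorem L102898 : sm gc N10739 = N13477 := rfl
theorem L102900 : sm gb N13477 = N10940 := ded_13_1 (flp_c L89622) (flp_b L39585) (flp_c L37173) L88544 L102898
theorem L102902 : sm gf N10739 = N13478 := rfl
theorem L102904 : sm ge N10740 = N13479 := rfl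
theorem L102906 : sm ga N13479 = N11200 := ded_10_1 L90940 (flp_a L88548) L102904
theorem L102908 : sm gc N13479 = N11197 := ded_19_1 L90924 L88550 L102904
theorem L102910 : sm gf N10740 = N13480 := rfl
theorem L102912 : sm ga N13480 = N13294 := ded_11_1 (flp_f L101809) (flp_a L88548) L102910
theorem L102914 : sm gc N13480 = N13290 := ded_20_1 (flp_f L101793) L88550 L102910
theorem L102916 : sm gd N13480 = N10742 := ded_23_1 (flp_f L88556) L88546 L102910
theorem L102918 : sm gg N10740 = N13481 := rfl
theorem L102920 : sm ga N13481 = N13295 := ded_12_1 (flp_g L101813) (flp_a L88548) L102918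
theorem L102922 : sm gc N13481 = N13291 := ded_21_1 (flp_g L101799) L88550 L102918
theorem L102924 : sm gd N13481 = N10743 := ded_24_1 (flp_g L88560) L88546 L102918
theorem L102926 : sm gd N10741 = N13482 := rfl
theorem L102928 : sm gb N13482 = N12344 := ded_14_1 (flp_d L96910) L91131 L102926
theorem L102930 : sm gf N10741 = N13483 := rfl
theorem L102932 : sm gc N13483 = N10744 := ded_20_1 (flp_f L88564) (flp_c L88554) L102930
theorem L102934 : sm ge N13483 = N10742 := ded_25_1 (flp_f L88556) L88552 L102930
theorem L102936 : sm gg N10741 = N13484 := rfl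
theorem L102938 : sm gc N13484 = N10745 := ded_21_1 (flp_g L88568) (flp_c L88554) L102936
theorem L102940 : sm ge N13484 = N10743 := ded_26_1 (flp_g L88560) L88552 L102936
theorem L102942 : sm gb N10742 = N13485 := rfl
theorem L102944 : sm gg N10742 = N13486 := rfl
theorem L102946 : sm gc N13486 = N10747 := ded_21_1 (flp_g L88578) (flp_c L88558) L102944
theorem L102948 : sm gf N13468 = N13486 := ded_29_0 (flp_g L102944) (flp_f L88556) L88560 (flp_a L102856)
theorem L102950 : sm gb N10743 = N13487 := rfl
theorem L102952 : sm gf N10743 = N13488 := rfl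
theorem L102954 : sm ga N13488 = N13486 := ded_11_1 (flp_f L102948) L102856 L102952
theorem L102956 : sm gc N13488 = N10749 := ded_20_1 (flp_f L88590) (flp_c L88562) L102952
theorem L102958 : sm gg N13488 = N13467 := ded_29_3 L102848 (flp_f L88556) L88560 L102952
theorem L102960 : sm gb N10744 = N13489 := rfl
theorem L102962 : sm ge N13489 = N10746 := ded_15_2 (flp_b L88572) (flp_e L88566) L102960
theorem L102964 : sm gf N13489 = N10758 := ded_16_2 (flp_b L88626) (flp_f L37211) (flp_b L37179) L88564 L102960
theorem L102966 : sm gg N10744 = N13490 := rfl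
theorem L102968 : sm ge N13490 = N10747 := ded_26_1 (flp_g L88578) (flp_e L88566) L102966
theorem L102970 : sm gf N13470 = N13490 := ded_29_0 (flp_g L102966) (flp_f L88564) L88568 (flp_a L102870)
theorem L102972 : sm gb N10745 = N13491 := rfl
theorem L102974 : sm ge N13491 = N10748 := ded_15_2 (flp_b L88584) (flp_e L88570) L102972
theorem L102976 : sm gg N13491 = N10760 := ded_17_2 (flp_b L88640) (flp_g L37215) (flp_b L37179) L88568 L102972
theorem L102978 : sm gf N10745 = N13492 := rfl
theorem L102980 : sm ga N13492 = N13490 := ded_11_1 (flp_f L102970) L102870 L102978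
theorem L102982 : sm ge N13492 = N10749 := ded_25_1 (flp_f L88590) (flp_e L88570) L102978
theorem L102986 : sm ga N10746 = N13493 := rfl
theorem L102988 : sm gd N13493 = N10750 := ded_9_2 (flp_a L88598) (flp_d L88574) L102986
theorem L102990 : sm gf N13493 = N10762 := ded_11_2 (flp_a L88656) (flp_f L88576) L102986
theorem L102992 : sm gc N10746 = N13494 := rfl
theorem L102994 : sm gf N13494 = N10763 := ded_20_2 (flp_c L88660) (flp_f L88576) L102992
theorem L102996 : sm gg N10746 = N13495 := rfl
theorem L102998 : sm gd N13495 = N10752 := ded_24_1 (flp_g L88608) (flp_d L88574) L102996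
theorem L103000 : sm gb N10747 = N13496 := rfl
theorem L103002 : sm gd N13496 = N10753 := ded_14_2 (flp_b L88610) (flp_d L88580) L103000
theorem L103004 : sm ga N10748 = N13497 := rfl
theorem L103006 : sm gd N13497 = N10754 := ded_9_2 (flp_a L88612) (flp_d L88586) L103004
theorem L103008 : sm gg N13497 = N10766 := ded_12_2 (flp_a L88670) (flp_g L88588) L103004
theorem L103010 : sm gc N10748 = N13498 := rfl
theorem L103012 : sm gg N13498 = N10767 := ded_21_2 (flp_c L88674) (flp_g L88588) L103010
theorem L103014 : sm gf N10748 = N13499 := rfl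
theorem L103016 : sm gd N13499 = N10756 := ded_23_1 (flp_f L88622) (flp_d L88586) L103014
theorem L103018 : sm gb N10749 = N13500 := rfl
theorem L103020 : sm gd N13500 = N10757 := ded_14_2 (flp_b L88624) (flp_d L88594) L103018
theorem L103022 : sm gb N10750 = N13501 := rfl
theorem L103024 : sm gc N10750 = N13502 := rfl
theorem L103026 : sm ga N13502 = N10751 := ded_8_1 (flp_c L88602) L88598 L103024
theorem L103028 : sm gf N13502 = N10771 := ded_20_2 (flp_c L88686) (flp_f L88600) L103024
theorem L103030 : sm gd N10751 = N13503 := rfl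
theorem L103032 : sm gb N13503 = N10944 := ded_14_1 (flp_d L89634) (flp_b L88606) L103030
theorem L103034 : sm gf N13503 = N10773 := ded_23_2 (flp_d L88696) (flp_f L88604) L103030
theorem L103036 : sm gg N10751 = N13504 := rfl
theorem L103038 : sm gc N13504 = N10752 := ded_21_1 (flp_g L88608) L88602 L103036
theorem L103040 : sm gb N10752 = N13505 := rfl
theorem L103042 : sm gg N13505 = N10753 := ded_17_2 (flp_b L88610) (flp_g L37193) L37189 L88608 L103040
theorem L103044 : sm ga N10753 = N13506 := rfl
theorem L103046 : sm gc N10753 = N13507 := rfl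
theorem L103048 : sm gb N13507 = N10948 := ded_13_1 (flp_c L89648) (flp_b L39597) (flp_c L37195) L88610 L103046
theorem L103050 : sm gf N10753 = N13508 := rfl
theorem L103052 : sm gb N13508 = N13478 := ded_16_1 (flp_f L102902) (flp_b L88544) L37197 L88610 L103050
theorem L103054 : sm gb N10754 = N13509 := rfl
theorem L103056 : sm gc N10754 = N13510 := rfl
theorem L103058 : sm ga N13510 = N10755 := ded_8_1 (flp_c L88616) L88612 L103056
theorem L103060 : sm gg N13510 = N10781 := ded_21_2 (flp_c L88726) (flp_g L88614) L103056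
theorem L103062 : sm gd N10755 = N13511 := rfl
theorem L103064 : sm gb N13511 = N10952 := ded_14_1 (flp_d L89662) (flp_b L88620) L103062
theorem L103066 : sm gg N13511 = N10783 := ded_24_2 (flp_d L88736) (flp_g L88618) L103062
theorem L103068 : sm gf N10755 = N13512 := rfl
theorem L103070 : sm gc N13512 = N10756 := ded_20_1 (flp_f L88622) L88616 L103068
theorem L103072 : sm gb N10756 = N13513 := rfl
theorem L103074 : sm gf N13513 = N10757 := ded_16_2 (flp_b L88624) (flp_f L37203) L37199 L88622 L103072
theorem L103076 : sm ga N10757 = N13514 := rfl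
theorem L103078 : sm gc N10757 = N13515 := rfl
theorem L103080 : sm gb N13515 = N10956 := ded_13_1 (flp_c L89676) (flp_b L39609) (flp_c L37207) L88624 L103078
theorem L103082 : sm gg N10757 = N13516 := rfl
theorem L103084 : sm gb N13516 = N13475 := ded_17_1 (flp_g L102894) (flp_b L88542) (flp_g L37209) L88624 L103082
theorem L103086 : sm ga N10758 = N13517 := rfl
theorem L103088 : sm ge N13517 = N10762 := ded_10_2 (flp_a L88656) (flp_e L88628) L103086
theorem L103090 : sm gc N10758 = N13518 := rfl
theorem L103092 : sm ge N13518 = N10763 := ded_19_2 (flp_c L88660) (flp_e L88628) L103090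
theorem L103094 : sm gg N10758 = N13519 := rfl
theorem L103096 : sm ge N13519 = N10764 := ded_26_1 (flp_g L88662) (flp_e L88628) L103094
theorem L103098 : sm gb N10759 = N13520 := rfl
theorem L103100 : sm gd N13520 = N13391 := ded_14_2 (flp_b L102441) (flp_d L88634) L103098
theorem L103102 : sm ge N13520 = N10765 := ded_15_2 (flp_b L88666) (flp_e L88636) L103098
theorem L103104 : sm ga N10760 = N13521 := rfl
theorem L103106 : sm ge N13521 = N10766 := ded_10_2 (flp_a L88670) (flp_e L88642) L103104
theorem L103108 : sm gc N10760 = N13522 := rfl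
theorem L103110 : sm ge N13522 = N10767 := ded_19_2 (flp_c L88674) (flp_e L88642) L103108
theorem L103112 : sm gf N10760 = N13523 := rfl
theorem L103114 : sm ge N13523 = N10768 := ded_25_1 (flp_f L88676) (flp_e L88642) L103112
theorem L103116 : sm gb N10761 = N13524 := rfl
theorem L103118 : sm gd N13524 = N13387 := ded_14_2 (flp_b L102428) (flp_d L88650) L103116
theorem L103120 : sm ge N13524 = N10769 := ded_15_2 (flp_b L88680) (flp_e L88652) L103116
theorem L103122 : sm gb N10762 = N13525 := rfl
theorem L103124 : sm gd N13525 = N10770 := ded_14_2 (flp_b L88684) (flp_d L88658) L103122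
theorem L103126 : sm gc N10762 = N13526 := rfl
theorem L103128 : sm ga N13526 = N10763 := ded_8_1 (flp_c L88660) L88656 L103126
theorem L103130 : sm gg N10762 = N13527 := rfl
theorem L103132 : sm ga N13527 = N10764 := ded_12_1 (flp_g L88662) L88656 L103130
theorem L103134 : sm gd N13527 = N10772 := ded_24_1 (flp_g L88690) (flp_d L88658) L103130
theorem L103136 : sm gf N13527 = N13495 := ded_29_2 (flp_g L102996) L102986 L102990 L103130
theorem L103138 : sm gd N10763 = N13528 := rfl
theorem L103140 : sm gg N10763 = N13529 := rfl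
theorem L103142 : sm gc N13529 = N10764 := ded_21_1 (flp_g L88662) L88660 L103140
theorem L103144 : sm gb N10764 = N13530 := rfl
theorem L103146 : sm gd N13530 = N10775 := ded_14_2 (flp_b L88704) (flp_d L88664) L103144
theorem L103148 : sm gg N13530 = N10765 := ded_17_2 (flp_b L88666) (flp_g L37223) L37219 L88662 L103144
theorem L103150 : sm gf N10764 = N13531 := rfl
theorem L103152 : sm ga N13531 = N13495 := ded_11_1 (flp_f L103136) L103132 L103150
theorem L103154 : sm gd N13531 = N10776 := ded_23_1 (flp_f L88708) (flp_d L88664) L103150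
theorem L103156 : sm gg N13531 = N13493 := ded_29_3 (flp_a L102986) L88576 L88662 L103150
theorem L103158 : sm ga N10765 = N13532 := rfl
theorem L103160 : sm gd N13532 = N10777 := ded_9_2 (flp_a L88714) (flp_d L88668) L103158
theorem L103162 : sm gc N10765 = N13533 := rfl
theorem L103164 : sm gb N13533 = N11386 := ded_13_1 (flp_c L91932) (flp_b L44151) (flp_c L37225) L88666 L103162
theorem L103166 : sm gf N10765 = N13534 := rfl
theorem L103168 : sm gd N13534 = N10779 := ded_23_1 (flp_f L88720) (flp_d L88668) L103166
theorem L103170 : sm gb N13534 = N11359 := ded_16_1 (flp_f L91806) (flp_b L44101) L37229 L88666 L103166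
theorem L103172 : sm gb N10766 = N13535 := rfl
theorem L103174 : sm gd N13535 = N10780 := ded_14_2 (flp_b L88724) (flp_d L88672) L103172
theorem L103176 : sm gc N10766 = N13536 := rfl
theorem L103178 : sm ga N13536 = N10767 := ded_8_1 (flp_c L88674) L88670 L103176
theorem L103180 : sm gf N10766 = N13537 := rfl
theorem L103182 : sm ga N13537 = N10768 := ded_11_1 (flp_f L88676) L88670 L103180
theorem L103184 : sm gd N13537 = N10782 := ded_23_1 (flp_f L88730) (flp_d L88672) L103180
theorem L103186 : sm gg N13499 = N13537 := ded_29_1 (flp_f L103180) (flp_g L103008) (flp_a L103004) L103014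
theorem L103188 : sm gd N10767 = N13538 := rfl
theorem L103190 : sm gf N10767 = N13539 := rfl
theorem L103192 : sm gc N13539 = N10768 := ded_20_1 (flp_f L88676) L88674 L103190
theorem L103194 : sm gb N10768 = N13540 := rfl
theorem L103196 : sm gd N13540 = N10785 := ded_14_2 (flp_b L88744) (flp_d L88678) L103194
theorem L103198 : sm gf N13540 = N10769 := ded_16_2 (flp_b L88680) (flp_f L37235) L37231 L88676 L103194
theorem L103200 : sm gg N10768 = N13541 := rfl
theorem L103202 : sm ga N13541 = N13499 := ded_12_1 L103186 L103182 L103200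
theorem L103204 : sm gd N13541 = N10786 := ded_24_1 (flp_g L88748) (flp_d L88678) L103200
theorem L103206 : sm gf N13497 = N13541 := ded_29_0 (flp_g L103200) (flp_f L88676) (flp_g L88588) L103004
theorem L103208 : sm ga N10769 = N13542 := rfl
theorem L103210 : sm gd N13542 = N10787 := ded_9_2 (flp_a L88754) (flp_d L88682) L103208
theorem L103212 : sm gc N10769 = N13543 := rfl
theorem L103214 : sm gb N13543 = N11376 := ded_13_1 (flp_c L91884) (flp_b L44137) (flp_c L37239) L88680 L103212
theorem L103216 : sm gg N10769 = N13544 := rfl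
theorem L103218 : sm gd N13544 = N10789 := ded_24_1 (flp_g L88760) (flp_d L88682) L103216
theorem L103220 : sm gb N13544 = N11356 := ded_17_1 (flp_g L91794) (flp_b L44097) (flp_g L37243) L88680 L103216
theorem L103222 : sm ga N10770 = N13545 := rfl
theorem L103224 : sm gc N10770 = N13546 := rfl
theorem L103226 : sm gf N10770 = N13547 := rfl
theorem L103228 : sm gg N10770 = N13548 := rfl
theorem L103230 : sm gb N10771 = N13549 := rfl
theorem L103232 : sm gd N10771 = N13550 := rfl
theorem L103234 : sm ga N13550 = N10773 := ded_9_1 (flp_d L88696) (flp_a L88688) L103232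
theorem L103236 : sm gg N10771 = N13551 := rfl
theorem L103238 : sm ga N13551 = N10774 := ded_12_1 (flp_g L88700) (flp_a L88688) L103236
theorem L103240 : sm gc N13551 = N10772 := ded_21_1 (flp_g L88690) L88686 L103236
theorem L103242 : sm gf N13551 = N13504 := ded_29_2 (flp_g L103036) (flp_a L103026) L103028 L103236
theorem L103244 : sm gb N10772 = N13552 := rfl
theorem L103246 : sm gc N10773 = N13553 := rfl
theorem L103248 : sm ge N10773 = N13554 := rfl
theorem L103250 : sm gb N13554 = N10793 := ded_15_1 (flp_e L88777) (flp_b L88698) L103248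
theorem L103252 : sm gg N10773 = N13555 := rfl
theorem L103254 : sm gd N13555 = N10774 := ded_24_1 (flp_g L88700) L88696 L103252
theorem L103256 : sm gb N10774 = N13556 := rfl
theorem L103258 : sm gg N13556 = N10795 := ded_17_2 (flp_b L88785) (flp_g L37279) (flp_b L37249) L88700 L103256
theorem L103260 : sm gf N10774 = N13557 := rfl
theorem L103262 : sm ga N13557 = N13504 := ded_11_1 (flp_f L103242) L103238 L103260
theorem L103264 : sm gc N13557 = N10776 := ded_20_1 (flp_f L88708) (flp_c L88702) L103260
theorem L103266 : sm gg N13557 = N13502 := ded_29_3 L103026 L88604 L88700 L103260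
theorem L103268 : sm ga N10775 = N13558 := rfl
theorem L103270 : sm gg N13558 = N10777 := ded_12_2 (flp_a L88714) (flp_g L88706) L103268
theorem L103272 : sm gc N10775 = N13559 := rfl
theorem L103274 : sm gg N13559 = N10778 := ded_21_2 (flp_c L88716) (flp_g L88706) L103272
theorem L103276 : sm gf N10775 = N13560 := rfl
theorem L103278 : sm gb N10776 = N13561 := rfl
theorem L103280 : sm gb N10777 = N13562 := rfl
theorem L103282 : sm gc N10777 = N13563 := rfl
theorem L103284 : sm ga N13563 = N10778 := ded_8_1 (flp_c L88716) L88714 L103282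
theorem L103286 : sm gf N10777 = N13564 := rfl
theorem L103288 : sm ga N13564 = N10779 := ded_11_1 (flp_f L88720) L88714 L103286
theorem L103290 : sm gg N13560 = N13564 := ded_29_1 (flp_f L103286) (flp_g L103270) (flp_a L103268) L103276
theorem L103292 : sm gd N10778 = N13565 := rfl
theorem L103294 : sm gb N13565 = N10796 := ded_14_1 (flp_d L88787) (flp_b L88718) L103292
theorem L103296 : sm gf N10778 = N13566 := rfl
theorem L103298 : sm gc N13566 = N10779 := ded_20_1 (flp_f L88720) L88716 L103296
theorem L103300 : sm gb N13566 = N11029 := ded_16_1 (flp_f L89967) (flp_b L39809) (flp_f L81625) (flp_b L88718) L103296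
theorem L103302 : sm gg N10779 = N13567 := rfl
theorem L103304 : sm ga N13567 = N13560 := ded_12_1 L103290 L103288 L103302
theorem L103306 : sm gf N13558 = N13567 := ded_29_0 (flp_g L103302) (flp_f L88720) (flp_g L88706) L103268
theorem L103308 : sm ga N10780 = N13568 := rfl
theorem L103310 : sm gc N10780 = N13569 := rfl
theorem L103312 : sm gf N10780 = N13570 := rfl
theorem L103314 : sm gg N10780 = N13571 := rfl
theorem L103316 : sm gb N10781 = N13572 := rfl
theorem L103318 : sm gd N10781 = N13573 := rfl
theorem L103320 : sm ga N13573 = N10783 := ded_9_1 (flp_d L88736) (flp_a L88728) L103318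
theorem L103322 : sm gf N10781 = N13574 := rfl
theorem L103324 : sm ga N13574 = N10784 := ded_11_1 (flp_f L88740) (flp_a L88728) L103322
theorem L103326 : sm gc N13574 = N10782 := ded_20_1 (flp_f L88730) L88726 L103322
theorem L103328 : sm gg N13512 = N13574 := ded_29_1 (flp_f L103322) (flp_g L103060) L103058 L103068
theorem L103330 : sm gb N10782 = N13575 := rfl
theorem L103332 : sm gc N10783 = N13576 := rfl
theorem L103334 : sm ge N10783 = N13577 := rfl
theorem L103336 : sm gb N13577 = N10800 := ded_15_1 (flp_e L88806) (flp_b L88738) L103334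
theorem L103338 : sm gf N10783 = N13578 := rfl
theorem L103340 : sm gd N13578 = N10784 := ded_23_1 (flp_f L88740) L88736 L103338
theorem L103342 : sm gb N10784 = N13579 := rfl
theorem L103344 : sm gf N13579 = N10802 := ded_16_2 (flp_b L88816) (flp_f L37315) (flp_b L37259) L88740 L103342
theorem L103346 : sm gg N10784 = N13580 := rfl
theorem L103348 : sm ga N13580 = N13512 := ded_12_1 L103328 L103324 L103346
theorem L103350 : sm gc N13580 = N10786 := ded_21_1 (flp_g L88748) (flp_c L88742) L103346
theorem L103352 : sm gf N13510 = N13580 := ded_29_0 (flp_g L103346) (flp_f L88740) (flp_g L88618) (flp_a L103058)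
theorem L103354 : sm ga N10785 = N13581 := rfl
theorem L103356 : sm gf N13581 = N10787 := ded_11_2 (flp_a L88754) (flp_f L88746) L103354
theorem L103358 : sm gc N10785 = N13582 := rfl
theorem L103360 : sm gf N13582 = N10788 := ded_20_2 (flp_c L88756) (flp_f L88746) L103358
theorem L103362 : sm gg N10785 = N13583 := rfl
theorem L103364 : sm gb N10786 = N13584 := rfl
theorem L103366 : sm gb N10787 = N13585 := rfl
theorem L103368 : sm gc N10787 = N13586 := rfl
theorem L103370 : sm ga N13586 = N10788 := ded_8_1 (flp_c L88756) L88754 L103368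
theorem L103372 : sm gg N10787 = N13587 := rfl
theorem L103374 : sm ga N13587 = N10789 := ded_12_1 (flp_g L88760) L88754 L103372
theorem L103376 : sm gf N13587 = N13583 := ded_29_2 (flp_g L103362) L103354 L103356 L103372
theorem L103378 : sm gd N10788 = N13588 := rfl
theorem L103380 : sm gb N13588 = N10803 := ded_14_1 (flp_d L88820) (flp_b L88758) L103378
theorem L103382 : sm gg N10788 = N13589 := rfl
theorem L103384 : sm gc N13589 = N10789 := ded_21_1 (flp_g L88760) L88756 L103382
theorem L103386 : sm gb N13589 = N11007 := ded_17_1 (flp_g L89881) (flp_b L39711) (flp_g L81600) (flp_b L88758) L103382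
theorem L103388 : sm gf N10789 = N13590 := rfl
theorem L103390 : sm ga N13590 = N13583 := ded_11_1 (flp_f L103376) L103374 L103388
theorem L103392 : sm gg N13590 = N13581 := ded_29_3 (flp_a L103354) L88746 L88760 L103388
theorem L103394 : sm ga N10790 = N13591 := rfl
theorem L103396 : sm gc N13591 = N13591 := ded_8_2 (flp_a L103394) L88766 L103394
theorem L103397 : sm gd N10790 = N13592 := rfl
theorem L103399 : sm gb N13592 = N10791 := ded_14_1 (flp_d L88767) L88764 L103397
theorem L103401 : sm gf N10790 = N13593 := rfl
theorem L103404 : sm gb N13593 = N11006 := ded_16_1 (flp_f L89879) (flp_b L39711) (flp_f L37273) L88764 L103401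
theorem L103406 : sm gg N10790 = N13594 := rfl
theorem L103408 : sm gc N13594 = N13594 := ded_21_1 (flp_g L103406) L88766 L103406
theorem L103409 : sm ge N10791 = N13595 := rfl
theorem L103411 : sm ga N13595 = N10793 := ded_10_1 (flp_e L88777) (flp_a L88769) L103409
theorem L103413 : sm gf N13595 = N11008 := ded_25_2 (flp_e L89883) (flp_f L88771) L103409
theorem L103415 : sm gb N10792 = N13596 := rfl
theorem L103417 : sm ge N10792 = N13597 := rfl
theorem L103419 : sm gc N13597 = N10793 := ded_19_1 (flp_e L88777) L88773 L103417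
theorem L103421 : sm gf N13597 = N11010 := ded_25_2 (flp_e L89889) (flp_f L88775) L103417
theorem L103423 : sm gg N10792 = N13598 := rfl
theorem L103425 : sm gc N13598 = N10794 := ded_21_1 (flp_g L88781) L88773 L103423
theorem L103427 : sm gd N13598 = N11060 := ded_24_1 L90105 (flp_d L88847) L103423
theorem L103429 : sm gf N11056 = N13598 := ded_29_0 (flp_g L103423) L88775 L89893 (flp_a L90083)
theorem L103431 : sm gg N10793 = N13599 := rfl
theorem L103433 : sm ge N13599 = N10794 := ded_26_1 (flp_g L88781) L88777 L103431
theorem L103435 : sm gb N10794 = N13600 := rfl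
theorem L103437 : sm gd N13600 = N10795 := ded_14_2 (flp_b L88785) (flp_d L88783) L103435
theorem L103439 : sm ga N10795 = N13601 := rfl
theorem L103441 : sm gf N10795 = N13602 := rfl
theorem L103443 : sm gc N13602 = N13579 := ded_20_1 L103344 L88818 L103441
theorem L103445 : sm gb N13602 = N13582 := ded_16_1 L103360 L88758 L81598 L88785 L103441
theorem L103447 : sm ge N10796 = N13603 := rfl
theorem L103449 : sm ga N13603 = N11035 := ded_10_1 L89989 (flp_a L88789) L103447
theorem L103451 : sm gf N13603 = N11031 := ded_25_2 (flp_e L89971) (flp_f L88791) L103447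
theorem L103453 : sm ga N10797 = N13604 := rfl
theorem L103455 : sm gc N13604 = N13604 := ded_8_2 (flp_a L103453) L88795 L103453
theorem L103456 : sm gd N10797 = N13605 := rfl
theorem L103458 : sm gb N13605 = N10798 := ded_14_1 (flp_d L88796) L88793 L103456
theorem L103460 : sm gf N10797 = N13606 := rfl
theorem L103462 : sm gc N13606 = N13606 := ded_20_1 (flp_f L103460) L88795 L103460
theorem L103463 : sm gg N10797 = N13607 := rfl
theorem L103466 : sm gb N13607 = N11030 := ded_17_1 (flp_g L89969) (flp_b L39809) (flp_g L37309) L88793 L103463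
theorem L103468 : sm ge N10798 = N13608 := rfl
theorem L103470 : sm ga N13608 = N10800 := ded_10_1 (flp_e L88806) (flp_a L88798) L103468
theorem L103472 : sm gg N13608 = N11031 := ded_26_2 (flp_e L89971) (flp_g L88800) L103468
theorem L103474 : sm gb N10799 = N13609 := rfl
theorem L103476 : sm ge N10799 = N13610 := rfl
theorem L103478 : sm gc N13610 = N10800 := ded_19_1 (flp_e L88806) L88802 L103476
theorem L103480 : sm gg N13610 = N11033 := ded_26_2 (flp_e L89977) (flp_g L88804) L103476
theorem L103482 : sm gf N10799 = N13611 := rfl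
theorem L103484 : sm gc N13611 = N10801 := ded_20_1 (flp_f L88810) L88802 L103482
theorem L103486 : sm gd N13611 = N11090 := ded_23_1 (flp_f L90281) (flp_d L88920) L103482
theorem L103488 : sm gg N13611 = N11086 := ded_29_3 L90259 (flp_f L89981) (flp_g L88804) L103482
theorem L103490 : sm gf N10800 = N13612 := rfl
theorem L103492 : sm ge N13612 = N10801 := ded_25_1 (flp_f L88810) L88806 L103490
theorem L103494 : sm gg N13612 = N13603 := ded_29_3 L103449 (flp_f L89987) (flp_g L88808) L103490
theorem L103496 : sm gb N10801 = N13613 := rfl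
theorem L103498 : sm gd N13613 = N10802 := ded_14_2 (flp_b L88816) (flp_d L88812) L103496
theorem L103500 : sm ga N10802 = N13614 := rfl
theorem L103502 : sm gc N13614 = N13601 := ded_8_2 (flp_a L103439) (flp_c L88818) L103500
theorem L103504 : sm gg N10802 = N13615 := rfl
theorem L103506 : sm gc N13615 = N13556 := ded_21_1 L103258 (flp_c L88818) L103504
theorem L103508 : sm gb N13615 = N13559 := ded_17_1 L103274 L88718 L81627 L88816 L103504
theorem L103510 : sm ge N10803 = N13616 := rfl
theorem L103512 : sm ga N13616 = N11012 := ded_10_1 L89901 (flp_a L88822) L103510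
theorem L103514 : sm gf N13616 = N13599 := ded_25_2 L103433 (flp_f L88824) L103510
theorem L103516 : sm gg N13616 = N11008 := ded_26_2 (flp_e L89883) (flp_g L88826) L103510
theorem L103518 : sm gc N10804 = N13617 := rfl
theorem L103520 : sm ga N13617 = N13617 := ded_8_1 (flp_c L103518) L88830 L103518
theorem L103521 : sm gf N13617 = N13617 := ded_20_2 (flp_c L103518) L88833 L103518
theorem L103522 : sm ge N10804 = N13618 := rfl
theorem L103525 : sm gb N13618 = N10807 := ded_15_1 (flp_e L88849) (flp_b L88831) L103522
theorem L103528 : sm gd N13618 = N10826 := ded_22_1 (flp_e L88982) (flp_d L37611) (flp_e L37361) L88828 L103522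
theorem L103530 : sm gg N10804 = N13619 := rfl
theorem L103533 : sm gd N13619 = N10805 := ded_24_1 (flp_g L88834) L88828 L103530
theorem L103536 : sm gb N10806 = N13620 := rfl
theorem L103538 : sm gd N13620 = N13596 := ded_14_2 (flp_b L103415) L88847 L103536
theorem L103540 : sm ge N10806 = N13621 := rfl
theorem L103542 : sm ga N13621 = N10810 := ded_10_1 (flp_e L88869) (flp_a L88843) L103540
theorem L103544 : sm gc N13621 = N10807 := ded_19_1 (flp_e L88849) L88841 L103540
theorem L103546 : sm gf N13621 = N11049 := ded_25_2 (flp_e L90047) (flp_f L88845) L103540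
theorem L103548 : sm ga N10808 = N13622 := rfl
theorem L103550 : sm gc N13622 = N11444 := ded_8_2 (flp_a L92156) (flp_c L88859) L103548
theorem L103552 : sm gd N10808 = N13623 := rfl
theorem L103554 : sm gb N13623 = N10809 := ded_14_1 (flp_d L88861) L88857 L103552
theorem L103556 : sm ge N10808 = N13624 := rfl
theorem L103558 : sm gb N13624 = N10810 := ded_15_1 (flp_e L88869) L88857 L103556
theorem L103562 : sm gf N10808 = N13625 := rfl
theorem L103564 : sm gc N13625 = N11447 := ded_20_1 (flp_f L92166) (flp_c L88859) L103562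
theorem L103566 : sm gb N13625 = N11053 := ded_16_1 (flp_f L90067) (flp_b L39983) (flp_f L37372) L88857 L103562
theorem L103568 : sm gg N10808 = N13626 := rfl
theorem L103570 : sm gc N13626 = N11448 := ded_21_1 (flp_g L92170) (flp_c L88859) L103568
theorem L103572 : sm ge N10809 = N13627 := rfl
theorem L103574 : sm ga N13627 = N13597 := ded_10_1 (flp_e L103417) (flp_a L88863) L103572
theorem L103576 : sm gc N13627 = N13595 := ded_19_1 (flp_e L103409) L88867 L103572
theorem L103578 : sm gf N13627 = N11055 := ded_25_2 (flp_e L90075) (flp_f L88865) L103572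
theorem L103580 : sm gg N10809 = N13628 := rfl
theorem L103582 : sm ga N13628 = N13598 := ded_12_1 (flp_g L103423) (flp_a L88863) L103580
theorem L103584 : sm gc N13628 = N11014 := ded_21_1 L89913 L88867 L103580
theorem L103586 : sm gd N13628 = N10811 := ded_24_1 (flp_g L88875) L88861 L103580
theorem L103588 : sm gf N11011 = N13628 := ded_29_0 (flp_g L103580) L88865 L90081 L90083
theorem L103590 : sm gd N10810 = N13629 := rfl
theorem L103592 : sm gf N13629 = N11057 := ded_23_2 (flp_d L90089) (flp_f L88873) L103590
theorem L103594 : sm gg N10810 = N13630 := rfl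
theorem L103598 : sm ge N13630 = N10811 := ded_26_1 (flp_g L88875) L88869 L103594
theorem L103600 : sm gb N10811 = N13631 := rfl
theorem L103602 : sm gb N10813 = N13632 := rfl
theorem L103604 : sm gc N13632 = N11455 := ded_13_2 (flp_b L92215) (flp_c L44490) (flp_b L37428) L88885 L103602
theorem L103606 : sm ge N10813 = N13633 := rfl
theorem L103608 : sm ga N13633 = N11088 := ded_10_1 L90271 (flp_a L88887) L103606
theorem L103610 : sm gc N13633 = N10814 := ded_19_1 (flp_e L88891) L88885 L103606
theorem L103612 : sm gf N13633 = N11079 := ded_25_2 (flp_e L90223) (flp_f L88889) L103606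
theorem L103614 : sm gc N10815 = N13634 := rfl
theorem L103616 : sm ga N13634 = N13634 := ded_8_1 (flp_c L103614) L88903 L103614
theorem L103617 : sm gg N13634 = N13634 := ded_21_2 (flp_c L103614) L88906 L103614
theorem L103618 : sm ge N10815 = N13635 := rfl
theorem L103621 : sm gb N13635 = N10818 := ded_15_1 (flp_e L88922) (flp_b L88904) L103618
theorem L103626 : sm gf N10815 = N13636 := rfl
theorem L103629 : sm gd N13636 = N10816 := ded_23_1 (flp_f L88907) L88901 L103626
theorem L103632 : sm gb N10817 = N13637 := rfl
theorem L103634 : sm gd N13637 = N13609 := ded_14_2 (flp_b L103474) L88920 L103632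
theorem L103636 : sm ge N10817 = N13638 := rfl
theorem L103638 : sm ga N13638 = N10821 := ded_10_1 (flp_e L88942) (flp_a L88916) L103636
theorem L103640 : sm gc N13638 = N10818 := ded_19_1 (flp_e L88922) L88914 L103636
theorem L103642 : sm gg N13638 = N11079 := ded_26_2 (flp_e L90223) (flp_g L88918) L103636
theorem L103644 : sm ga N10819 = N13639 := rfl
theorem L103646 : sm gc N13639 = N11458 := ded_8_2 (flp_a L92229) (flp_c L88932) L103644
theorem L103648 : sm gd N10819 = N13640 := rfl
theorem L103650 : sm gb N13640 = N10820 := ded_14_1 (flp_d L88934) L88930 L103648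
theorem L103652 : sm ge N10819 = N13641 := rfl
theorem L103654 : sm gb N13641 = N10821 := ded_15_1 (flp_e L88942) L88930 L103652
theorem L103656 : sm gc N13641 = N11460 := ded_19_1 (flp_e L92235) (flp_c L88932) L103652
theorem L103658 : sm gf N10819 = N13642 := rfl
theorem L103660 : sm gc N13642 = N11461 := ded_20_1 (flp_f L92239) (flp_c L88932) L103658
theorem L103662 : sm gg N10819 = N13643 := rfl
theorem L103664 : sm gc N13643 = N11462 := ded_21_1 (flp_g L92241) (flp_c L88932) L103662
theorem L103666 : sm gb N13643 = N11084 := ded_17_1 (flp_g L90247) (flp_b L40231) (flp_g L37478) L88930 L103662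
theorem L103668 : sm ge N10820 = N13644 := rfl
theorem L103670 : sm ga N13644 = N13610 := ded_10_1 (flp_e L103476) (flp_a L88936) L103668
theorem L103672 : sm gc N13644 = N13608 := ded_19_1 (flp_e L103468) L88940 L103668
theorem L103674 : sm gg N13644 = N11085 := ded_26_2 (flp_e L90251) (flp_g L88938) L103668
theorem L103676 : sm gf N10820 = N13645 := rfl
theorem L103678 : sm ga N13645 = N13611 := ded_11_1 (flp_f L103482) (flp_a L88936) L103676
theorem L103680 : sm gc N13645 = N11037 := ded_20_1 (flp_f L90001) L88940 L103676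
theorem L103682 : sm gd N13645 = N10822 := ded_23_1 (flp_f L88948) L88934 L103676
theorem L103684 : sm gg N13645 = N11034 := ded_29_3 (flp_a L90259) (flp_f L90257) (flp_g L88938) L103676
theorem L103686 : sm gd N10821 = N13646 := rfl
theorem L103688 : sm gg N13646 = N11087 := ded_24_2 (flp_d L90265) (flp_g L88946) L103686
theorem L103690 : sm gf N10821 = N13647 := rfl
theorem L103694 : sm ge N13647 = N10822 := ded_25_1 (flp_f L88948) L88942 L103690
theorem L103696 : sm gg N13647 = N13633 := ded_29_3 L103608 (flp_f L90267) (flp_g L88946) L103690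
theorem L103698 : sm gb N10822 = N13648 := rfl
theorem L103700 : sm gb N10824 = N13649 := rfl
theorem L103702 : sm gc N13649 = N11469 := ded_13_2 (flp_b L92288) (flp_c L44653) (flp_b L37546) L88962 L103700
theorem L103704 : sm ge N10824 = N13650 := rfl
theorem L103706 : sm ga N13650 = N11058 := ded_10_1 L90095 (flp_a L88964) L103704
theorem L103708 : sm gc N13650 = N10825 := ded_19_1 (flp_e L88970) L88962 L103704
theorem L103710 : sm gf N13650 = N13630 := ded_25_2 L103598 (flp_f L88966) L103704
theorem L103712 : sm gg N13650 = N11049 := ded_26_2 (flp_e L90047) (flp_g L88968) L103704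
theorem L103714 : sm gg N10826 = N13651 := rfl
theorem L103718 : sm ge N13651 = N10827 := ded_26_1 (flp_g L88989) L88982 L103714
theorem L103728 : sm gd N10830 = N13653 := rfl
theorem L103730 : sm ga N13653 = N10831 := ded_9_1 (flp_d L89016) L89010 L103728
theorem L103732 : sm gc N12057 = N13653 := ded_28_0 (flp_d L103728) (flp_c L89014) L89016 (flp_c L89020) L95374 L95379 (flp_d L95374) L95372
theorem L103734 : sm gf N10830 = N13654 := rfl
theorem L103736 : sm ga N13654 = N10832 := ded_11_1 (flp_f L89022) L89010 L103734
theorem L103738 : sm gc N13654 = N10832 := ded_20_1 (flp_f L89022) L89014 L103734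
theorem L103740 : sm ge N13654 = N10930 := ded_25_1 (flp_f L89582) (flp_e L89012) L103734
theorem L103742 : sm gg N10830 = N13655 := rfl
theorem L103744 : sm ga N13655 = N10833 := ded_12_1 (flp_g L89026) L89010 L103742
theorem L103746 : sm gc N13655 = N10833 := ded_21_1 (flp_g L89026) L89014 L103742
theorem L103748 : sm ge N13655 = N10931 := ded_26_1 (flp_g L89588) (flp_e L89012) L103742
theorem L103750 : sm gf N10831 = N13656 := rfl
theorem L103752 : sm gc N13656 = N12059 := ded_20_1 (flp_f L95380) L89020 L103750
theorem L103754 : sm gd N13656 = N10832 := ded_23_1 (flp_f L89022) L89016 L103750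
theorem L103756 : sm gg N10831 = N13657 := rfl
theorem L103758 : sm gc N13657 = N12060 := ded_21_1 (flp_g L95382) L89020 L103756
theorem L103760 : sm gd N13657 = N10833 := ded_24_1 (flp_g L89026) L89016 L103756
theorem L103762 : sm gb N10832 = N13658 := rfl
theorem L103764 : sm ge N13658 = N10932 := ded_15_2 (flp_b L89594) (flp_e L89024) L103762
theorem L103766 : sm gf N13658 = N10836 := ded_16_2 (flp_b L89046) (flp_f L38668) L38660 L89022 L103762
theorem L103768 : sm gg N10832 = N13659 := rfl
theorem L103770 : sm ge N13659 = N10933 := ded_26_1 (flp_g L89598) (flp_e L89024) L103768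
theorem L103772 : sm gf N13655 = N13659 := ded_29_0 (flp_g L103768) (flp_f L89022) L89026 (flp_a L103744)
theorem L103774 : sm gb N10833 = N13660 := rfl
theorem L103776 : sm ge N13660 = N10934 := ded_15_2 (flp_b L89602) (flp_e L89028) L103774
theorem L103778 : sm gg N13660 = N10837 := ded_17_2 (flp_b L89050) (flp_g L38674) L38660 L89026 L103774
theorem L103780 : sm gf N10833 = N13661 := rfl
theorem L103782 : sm ga N13661 = N13659 := ded_11_1 (flp_f L103772) L103744 L103780
theorem L103784 : sm gc N13661 = N13659 := ded_20_1 (flp_f L103772) L103746 L103780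
theorem L103786 : sm ge N13661 = N10935 := ded_25_1 (flp_f L89606) (flp_e L89028) L103780
theorem L103788 : sm gg N13661 = N13654 := ded_29_3 L103736 (flp_f L89022) L89026 L103780
theorem L103790 : sm gb N10834 = N13662 := rfl
theorem L103792 : sm gd N13662 = N10836 := ded_14_2 (flp_b L89046) (flp_d L89036) L103790
theorem L103794 : sm gb N10835 = N13663 := rfl
theorem L103796 : sm gd N13663 = N10837 := ded_14_2 (flp_b L89050) (flp_d L89044) L103794
theorem L103798 : sm ga N10836 = N13664 := rfl
theorem L103800 : sm ge N13664 = N10936 := ded_10_2 (flp_a L89614) (flp_e L89048) L103798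
theorem L103802 : sm gc N10836 = N13665 := rfl
theorem L103804 : sm ge N13665 = N10937 := ded_19_2 (flp_c L89616) (flp_e L89048) L103802
theorem L103806 : sm gg N10836 = N13666 := rfl
theorem L103808 : sm ge N13666 = N10938 := ded_26_1 (flp_g L89618) (flp_e L89048) L103806
theorem L103810 : sm ga N10837 = N13667 := rfl
theorem L103812 : sm ge N13667 = N10939 := ded_10_2 (flp_a L89620) (flp_e L89052) L103810
theorem L103814 : sm gc N10837 = N13668 := rfl
theorem L103816 : sm ge N13668 = N10940 := ded_19_2 (flp_c L89622) (flp_e L89052) L103814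
theorem L103818 : sm gf N10837 = N13669 := rfl
theorem L103820 : sm ge N13669 = N10941 := ded_25_1 (flp_f L89624) (flp_e L89052) L103818
theorem L103822 : sm gb N10838 = N13670 := rfl
theorem L103824 : sm gd N13670 = N12036 := ded_14_2 (flp_b L95245) (flp_d L89060) L103822
theorem L103826 : sm gb N10839 = N13671 := rfl
theorem L103828 : sm gd N13671 = N12037 := ded_14_2 (flp_b L95249) (flp_d L89068) L103826
theorem L103830 : sm ga N10840 = N13672 := rfl
theorem L103832 : sm gd N13672 = N10844 := ded_9_2 (flp_a L89096) (flp_d L89072) L103830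
theorem L103834 : sm gf N13672 = N10852 := ded_11_2 (flp_a L89136) (flp_f L89074) L103830
theorem L103836 : sm ga N12088 = N12088 := ded_30_11 L95531 (flp_c L95529) (flp_b L84417) (flp_a L84363) (flp_f L84361) (flp_c L24881) (flp_b L24871) (flp_a L84353) L89054 L89058 L89070 L103830 L103834 L96151 (flp_b L84561) (flp_a L24984) (flp_f L24920) L84443 (flp_b L95532)
theorem L103837 : sm gc N12149 = N13672 := ded_20_3 L103834 L96151 L95818
theorem L103839 : N12087 = N9971 := coi_8_0 L95529 L103836 (flp_c L95529) L95526
theorem L103840 : N12087 = N9971 := eqc rfl L103839 rfl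
theorem L103841 : sm ga N9971 = N9971 := trfs L103840 (flp_a L95526) rfl
theorem L103843 : sm ga N12083 = N12083 := ded_9_3 L95498 L103841 (flp_d L95498)
theorem L103844 : sm ga N11509 = N11509 := ded_10_3 L92536 L103841 (flp_e L92536)
theorem L103845 : sm ga N12089 = N12089 := ded_12_3 (flp_g L95534) L103841 L95534
theorem L103846 : sm gf N12089 = N12089 := ded_29_2 (flp_g L95534) L103841 L84419 L95534
theorem L103847 : sm gc N10840 = N13673 := rfl
theorem L103849 : sm ga N13673 = N12149 := ded_8_1 L103837 (flp_a L103830) L103847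
theorem L103851 : sm gf N13673 = N10853 := ded_20_2 (flp_c L89140) (flp_f L89074) L103847
theorem L103853 : sm gd N12193 = N13673 := ded_9_0 L103849 L95820 (flp_a L96032)
theorem L103855 : sm gg N10840 = N13674 := rfl
theorem L103857 : sm gd N13674 = N10846 := ded_24_1 (flp_g L89108) (flp_d L89072) L103855
theorem L103859 : sm gb N10841 = N13675 := rfl
theorem L103861 : sm gd N13675 = N10847 := ded_14_2 (flp_b L89112) (flp_d L89078) L103859
theorem L103863 : sm ga N10842 = N13676 := rfl
theorem L103865 : sm gd N13676 = N10848 := ded_9_2 (flp_a L89116) (flp_d L89084) L103863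
theorem L103867 : sm gg N13676 = N10856 := ded_12_2 (flp_a L89150) (flp_g L89086) L103863
theorem L103869 : sm gc N12173 = N13676 := ded_21_3 L103867 L96436 L95923
theorem L103871 : sm gc N10842 = N13677 := rfl
theorem L103873 : sm ga N13677 = N12173 := ded_8_1 L103869 (flp_a L103863) L103871
theorem L103875 : sm gg N13677 = N10857 := ded_21_2 (flp_c L89154) (flp_g L89086) L103871
theorem L103877 : sm gd N12246 = N13677 := ded_9_0 L103873 L95925 (flp_a L96323)
theorem L103879 : sm gf N10842 = N13678 := rfl
theorem L103881 : sm gd N13678 = N10850 := ded_23_1 (flp_f L89128) (flp_d L89084) L103879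
theorem L103883 : sm gb N10843 = N13679 := rfl
theorem L103885 : sm gd N13679 = N10851 := ded_14_2 (flp_b L89132) (flp_d L89092) L103883
theorem L103887 : sm gb N10844 = N13680 := rfl
theorem L103889 : sm ge N13680 = N10942 := ded_15_2 (flp_b L89626) (flp_e L89098) L103887
theorem L103891 : sm gc N10844 = N13681 := rfl
theorem L103893 : sm ga N13681 = N10845 := ded_8_1 (flp_c L89102) L89096 L103891
theorem L103895 : sm ge N13681 = N10943 := ded_19_2 (flp_c L89628) (flp_e L89098) L103891
theorem L103897 : sm gf N13681 = N10861 := ded_20_2 (flp_c L89170) (flp_f L89100) L103891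
theorem L103899 : sm gd N10845 = N13682 := rfl
theorem L103901 : sm gf N13682 = N10863 := ded_23_2 (flp_d L89184) (flp_f L89106) L103899
theorem L103903 : sm gg N10845 = N13683 := rfl
theorem L103905 : sm gc N13683 = N10846 := ded_21_1 (flp_g L89108) L89102 L103903
theorem L103907 : sm ge N13683 = N10945 := ded_26_1 (flp_g L89638) (flp_e L89104) L103903
theorem L103909 : sm gb N10846 = N13684 := rfl
theorem L103911 : sm ge N13684 = N10946 := ded_15_2 (flp_b L89642) (flp_e L89110) L103909
theorem L103913 : sm gg N13684 = N10847 := ded_17_2 (flp_b L89112) (flp_g L38696) L38690 L89108 L103909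
theorem L103915 : sm ga N10847 = N13685 := rfl
theorem L103917 : sm ge N13685 = N10947 := ded_10_2 (flp_a L89646) (flp_e L89114) L103915
theorem L103919 : sm gc N10847 = N13686 := rfl
theorem L103921 : sm ge N13686 = N10948 := ded_19_2 (flp_c L89648) (flp_e L89114) L103919
theorem L103923 : sm gf N10847 = N13687 := rfl
theorem L103925 : sm ge N13687 = N10949 := ded_25_1 (flp_f L89650) (flp_e L89114) L103923
theorem L103927 : sm gb N13687 = N13669 := ded_16_1 (flp_f L103818) (flp_b L89050) L38700 L89112 L103923
theorem L103929 : sm gb N10848 = N13688 := rfl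
theorem L103931 : sm ge N13688 = N10950 := ded_15_2 (flp_b L89654) (flp_e L89118) L103929
theorem L103933 : sm gc N10848 = N13689 := rfl
theorem L103935 : sm ga N13689 = N10849 := ded_8_1 (flp_c L89122) L89116 L103933
theorem L103937 : sm ge N13689 = N10951 := ded_19_2 (flp_c L89656) (flp_e L89118) L103933
theorem L103939 : sm gg N13689 = N10871 := ded_21_2 (flp_c L89228) (flp_g L89120) L103933
theorem L103941 : sm gd N10849 = N13690 := rfl
theorem L103943 : sm gg N13690 = N10873 := ded_24_2 (flp_d L89242) (flp_g L89126) L103941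
theorem L103945 : sm gf N10849 = N13691 := rfl
theorem L103947 : sm gc N13691 = N10850 := ded_20_1 (flp_f L89128) L89122 L103945
theorem L103949 : sm ge N13691 = N10953 := ded_25_1 (flp_f L89666) (flp_e L89124) L103945
theorem L103951 : sm gb N10850 = N13692 := rfl
theorem L103953 : sm ge N13692 = N10954 := ded_15_2 (flp_b L89670) (flp_e L89130) L103951
theorem L103955 : sm gf N13692 = N10851 := ded_16_2 (flp_b L89132) (flp_f L38708) L38702 L89128 L103951
theorem L103957 : sm ga N10851 = N13693 := rfl
theorem L103959 : sm ge N13693 = N10955 := ded_10_2 (flp_a L89674) (flp_e L89134) L103957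
theorem L103961 : sm gc N10851 = N13694 := rfl
theorem L103963 : sm ge N13694 = N10956 := ded_19_2 (flp_c L89676) (flp_e L89134) L103961
theorem L103965 : sm gg N10851 = N13695 := rfl
theorem L103967 : sm ge N13695 = N10957 := ded_26_1 (flp_g L89678) (flp_e L89134) L103965
theorem L103969 : sm gb N13695 = N13666 := ded_17_1 (flp_g L103806) (flp_b L89046) (flp_g L38714) L89132 L103965
theorem L103971 : sm gb N10852 = N13696 := rfl
theorem L103973 : sm gd N13696 = N10860 := ded_14_2 (flp_b L89166) (flp_d L89138) L103971
theorem L103975 : sm gc N13696 = N12151 := ded_13_2 (flp_b L95826) (flp_c L84565) L84561 (flp_c L96151) L103971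
theorem L103977 : sm gg N10852 = N13697 := rfl
theorem L103979 : sm ga N13697 = N10854 := ded_12_1 (flp_g L89142) L89136 L103977
theorem L103981 : sm gc N13697 = N12150 := ded_21_1 (flp_g L95822) (flp_c L96151) L103977
theorem L103983 : sm gd N13697 = N10862 := ded_24_1 (flp_g L89176) (flp_d L89138) L103977
theorem L103985 : sm gf N13697 = N13674 := ded_29_2 (flp_g L103855) L103830 L103834 L103977
theorem L103987 : sm gg N10853 = N13698 := rfl
theorem L103989 : sm ga N13698 = N12150 := ded_12_1 (flp_g L95822) (flp_a L96155) L103987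
theorem L103991 : sm gc N13698 = N10854 := ded_21_1 (flp_g L89142) L89140 L103987
theorem L103993 : sm gd N13698 = N12194 := ded_24_1 (flp_g L96036) (flp_d L96157) L103987
theorem L103995 : sm gb N10854 = N13699 := rfl
theorem L103997 : sm gd N13699 = N10865 := ded_14_2 (flp_b L89194) (flp_d L89144) L103995
theorem L103999 : sm gg N13699 = N10855 := ded_17_2 (flp_b L89146) (flp_g L38720) L38716 L89142 L103995
theorem L104001 : sm gf N10854 = N13700 := rfl
theorem L104003 : sm ga N13700 = N13674 := ded_11_1 (flp_f L103985) L103979 L104001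
theorem L104005 : sm gd N13700 = N10866 := ded_23_1 (flp_f L89200) (flp_d L89144) L104001
theorem L104007 : sm gg N13700 = N13672 := ded_29_3 (flp_a L103830) L89074 L89142 L104001
theorem L104009 : sm ga N10855 = N13701 := rfl
theorem L104011 : sm gd N13701 = N10867 := ded_9_2 (flp_a L89208) (flp_d L89148) L104009
theorem L104013 : sm gc N10855 = N13702 := rfl
theorem L104015 : sm gf N10855 = N13703 := rfl
theorem L104017 : sm gd N13703 = N10869 := ded_23_1 (flp_f L89218) (flp_d L89148) L104015
theorem L104019 : sm gb N13703 = N13326 := ded_16_1 (flp_f L102114) (flp_b L88084) L38724 L89146 L104015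
theorem L104021 : sm gb N10856 = N13704 := rfl
theorem L104023 : sm gd N13704 = N10870 := ded_14_2 (flp_b L89224) (flp_d L89152) L104021
theorem L104025 : sm gc N13704 = N12174 := ded_13_2 (flp_b L95927) (flp_c L84615) L84611 (flp_c L96436) L104021
theorem L104027 : sm gf N10856 = N13705 := rfl
theorem L104029 : sm ga N13705 = N10858 := ded_11_1 (flp_f L89156) L89150 L104027
theorem L104031 : sm gc N13705 = N12172 := ded_20_1 (flp_f L95919) (flp_c L96436) L104027
theorem L104033 : sm gd N13705 = N10872 := ded_23_1 (flp_f L89234) (flp_d L89152) L104027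
theorem L104035 : sm gg N13678 = N13705 := ded_29_1 (flp_f L104027) (flp_g L103867) (flp_a L103863) L103879
theorem L104037 : sm gf N10857 = N13706 := rfl
theorem L104039 : sm ga N13706 = N12172 := ded_11_1 (flp_f L95919) (flp_a L96440) L104037
theorem L104041 : sm gc N13706 = N10858 := ded_20_1 (flp_f L89156) L89154 L104037
theorem L104043 : sm gd N13706 = N12245 := ded_23_1 (flp_f L96315) (flp_d L96442) L104037
theorem L104045 : sm gb N10858 = N13707 := rfl
theorem L104047 : sm gd N13707 = N10875 := ded_14_2 (flp_b L89252) (flp_d L89158) L104045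
theorem L104049 : sm ge N13707 = N13703 := ded_15_2 L104019 L102118 L104045
theorem L104051 : sm gf N13707 = N10859 := ded_16_2 (flp_b L89160) (flp_f L38730) L38726 L89156 L104045
theorem L104053 : sm gg N10858 = N13708 := rfl
theorem L104055 : sm ga N13708 = N13678 := ded_12_1 L104035 L104029 L104053
theorem L104057 : sm gd N13708 = N10876 := ded_24_1 (flp_g L89258) (flp_d L89158) L104053
theorem L104059 : sm gf N13676 = N13708 := ded_29_0 (flp_g L104053) (flp_f L89156) (flp_g L89086) L103863
theorem L104061 : sm ga N10859 = N13709 := rfl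
theorem L104063 : sm gd N13709 = N10877 := ded_9_2 (flp_a L89266) (flp_d L89162) L104061
theorem L104065 : sm ge N13709 = N13701 := ded_10_2 (flp_a L104009) (flp_e L89164) L104061
theorem L104067 : sm gc N10859 = N13710 := rfl
theorem L104069 : sm ge N13710 = N13702 := ded_19_2 (flp_c L104013) (flp_e L89164) L104067
theorem L104071 : sm gb N13710 = N13702 := ded_13_1 (flp_c L104013) (flp_b L89146) L71640 L89160 L104067
theorem L104073 : sm gg N10859 = N13711 := rfl
theorem L104075 : sm gd N13711 = N10879 := ded_24_1 (flp_g L89276) (flp_d L89162) L104073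
theorem L104077 : sm ge N13711 = N13699 := ded_26_1 L103999 (flp_e L89164) L104073
theorem L104079 : sm gb N13711 = N13323 := ded_17_1 (flp_g L102003) (flp_b L88078) (flp_g L38738) L89160 L104073
theorem L104081 : sm ga N10860 = N13712 := rfl
theorem L104083 : sm ge N13712 = N10958 := ded_10_2 (flp_a L89682) (flp_e L89168) L104081
theorem L104085 : sm gc N10860 = N13713 := rfl
theorem L104087 : sm ge N13713 = N10959 := ded_19_2 (flp_c L89684) (flp_e L89168) L104085
theorem L104089 : sm gf N10860 = N13714 := rfl
theorem L104091 : sm ge N13714 = N10960 := ded_25_1 (flp_f L89686) (flp_e L89168) L104089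
theorem L104093 : sm gg N10860 = N13715 := rfl
theorem L104095 : sm ge N13715 = N10961 := ded_26_1 (flp_g L89688) (flp_e L89168) L104093
theorem L104097 : sm gb N10861 = N13716 := rfl
theorem L104099 : sm ge N13716 = N10962 := ded_15_2 (flp_b L89690) (flp_e L89174) L104097
theorem L104101 : sm gd N10861 = N13717 := rfl
theorem L104103 : sm ga N13717 = N10863 := ded_9_1 (flp_d L89184) (flp_a L89172) L104101
theorem L104105 : sm gg N10861 = N13718 := rfl
theorem L104107 : sm ga N13718 = N10864 := ded_12_1 (flp_g L89188) (flp_a L89172) L104105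
theorem L104109 : sm gc N13718 = N10862 := ded_21_1 (flp_g L89176) L89170 L104105
theorem L104111 : sm ge N13718 = N10964 := ded_26_1 (flp_g L89698) (flp_e L89174) L104105
theorem L104113 : sm gf N13718 = N13683 := ded_29_2 (flp_g L103903) (flp_a L103893) L103897 L104105
theorem L104115 : sm gb N10862 = N13719 := rfl
theorem L104117 : sm ge N13719 = N10965 := ded_15_2 (flp_b L89706) (flp_e L89180) L104115
theorem L104119 : sm ge N10863 = N13720 := rfl
theorem L104121 : sm gb N13720 = N10883 := ded_15_1 (flp_e L89298) (flp_b L89186) L104119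
theorem L104123 : sm gd N13720 = N10966 := ded_22_1 (flp_e L89708) (flp_d L39623) (flp_e L38746) L89184 L104119
theorem L104125 : sm gg N10863 = N13721 := rfl
theorem L104127 : sm gd N13721 = N10864 := ded_24_1 (flp_g L89188) L89184 L104125
theorem L104129 : sm gb N10864 = N13722 := rfl
theorem L104131 : sm ge N13722 = N10968 := ded_15_2 (flp_b L89716) (flp_e L89192) L104129
theorem L104133 : sm gg N13722 = N10885 := ded_17_2 (flp_b L89306) (flp_g L38800) (flp_b L38748) L89188 L104129
theorem L104135 : sm gf N10864 = N13723 := rfl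
theorem L104137 : sm ga N13723 = N13683 := ded_11_1 (flp_f L104113) L104107 L104135
theorem L104139 : sm gc N13723 = N10866 := ded_20_1 (flp_f L89200) (flp_c L89190) L104135
theorem L104141 : sm ge N13723 = N10969 := ded_25_1 (flp_f L89720) (flp_e L89192) L104135
theorem L104143 : sm gg N13723 = N13681 := ded_29_3 L103893 L89106 L89188 L104135
theorem L104145 : sm ga N10865 = N13724 := rfl
theorem L104147 : sm ge N13724 = N10970 := ded_10_2 (flp_a L89728) (flp_e L89196) L104145
theorem L104149 : sm gg N13724 = N10867 := ded_12_2 (flp_a L89208) (flp_g L89198) L104145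
theorem L104151 : sm gc N10865 = N13725 := rfl
theorem L104153 : sm ge N13725 = N10971 := ded_19_2 (flp_c L89732) (flp_e L89196) L104151
theorem L104155 : sm gg N13725 = N10868 := ded_21_2 (flp_c L89212) (flp_g L89198) L104151
theorem L104157 : sm gf N10865 = N13726 := rfl
theorem L104159 : sm ge N13726 = N10972 := ded_25_1 (flp_f L89736) (flp_e L89196) L104157
theorem L104161 : sm gb N10866 = N13727 := rfl
theorem L104163 : sm ge N13727 = N10973 := ded_15_2 (flp_b L89738) (flp_e L89204) L104161
theorem L104165 : sm gb N10867 = N13728 := rfl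
theorem L104167 : sm ge N13728 = N10974 := ded_15_2 (flp_b L89740) (flp_e L89210) L104165
theorem L104169 : sm gc N10867 = N13729 := rfl
theorem L104171 : sm ga N13729 = N10868 := ded_8_1 (flp_c L89212) L89208 L104169
theorem L104173 : sm ge N13729 = N10975 := ded_19_2 (flp_c L89742) (flp_e L89210) L104169
theorem L104175 : sm gf N10867 = N13730 := rfl
theorem L104177 : sm ga N13730 = N10869 := ded_11_1 (flp_f L89218) L89208 L104175
theorem L104179 : sm ge N13730 = N10976 := ded_25_1 (flp_f L89746) (flp_e L89210) L104175
theorem L104181 : sm gg N13726 = N13730 := ded_29_1 (flp_f L104175) (flp_g L104149) (flp_a L104145) L104157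
theorem L104183 : sm gd N10868 = N13731 := rfl
theorem L104185 : sm gb N13731 = N10890 := ded_14_1 (flp_d L89343) (flp_b L89216) L104183
theorem L104187 : sm gf N10868 = N13732 := rfl
theorem L104189 : sm gc N13732 = N10869 := ded_20_1 (flp_f L89218) L89212 L104187
theorem L104191 : sm ge N13732 = N10978 := ded_25_1 (flp_f L89756) (flp_e L89214) L104187
theorem L104193 : sm gb N13732 = N13732 := ded_16_1 (flp_f L104187) L89216 L83335 (flp_b L89216) L104187
theorem L104194 : sm gg N10869 = N13733 := rfl
theorem L104196 : sm ga N13733 = N13726 := ded_12_1 L104181 L104177 L104194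
theorem L104198 : sm ge N13733 = N10979 := ded_26_1 (flp_g L89761) (flp_e L89220) L104194
theorem L104200 : sm gf N13724 = N13733 := ded_29_0 (flp_g L104194) (flp_f L89218) (flp_g L89198) L104145
theorem L104202 : sm ga N10870 = N13734 := rfl
theorem L104204 : sm ge N13734 = N10980 := ded_10_2 (flp_a L89767) (flp_e L89226) L104202
theorem L104206 : sm gc N10870 = N13735 := rfl
theorem L104208 : sm ge N13735 = N10981 := ded_19_2 (flp_c L89769) (flp_e L89226) L104206
theorem L104210 : sm gf N10870 = N13736 := rfl
theorem L104212 : sm ge N13736 = N10982 := ded_25_1 (flp_f L89771) (flp_e L89226) L104210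
theorem L104214 : sm gg N10870 = N13737 := rfl
theorem L104216 : sm ge N13737 = N10983 := ded_26_1 (flp_g L89773) (flp_e L89226) L104214
theorem L104218 : sm gb N10871 = N13738 := rfl
theorem L104220 : sm ge N13738 = N10984 := ded_15_2 (flp_b L89775) (flp_e L89232) L104218
theorem L104222 : sm gd N10871 = N13739 := rfl
theorem L104224 : sm ga N13739 = N10873 := ded_9_1 (flp_d L89242) (flp_a L89230) L104222
theorem L104226 : sm gf N10871 = N13740 := rfl
theorem L104228 : sm ga N13740 = N10874 := ded_11_1 (flp_f L89246) (flp_a L89230) L104226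
theorem L104230 : sm gc N13740 = N10872 := ded_20_1 (flp_f L89234) L89228 L104226
theorem L104232 : sm ge N13740 = N10986 := ded_25_1 (flp_f L89783) (flp_e L89232) L104226
theorem L104234 : sm gg N13691 = N13740 := ded_29_1 (flp_f L104226) (flp_g L103939) L103935 L103945
theorem L104236 : sm gb N10872 = N13741 := rfl
theorem L104238 : sm ge N13741 = N10987 := ded_15_2 (flp_b L89791) (flp_e L89238) L104236
theorem L104240 : sm ge N10873 = N13742 := rfl
theorem L104242 : sm gb N13742 = N10894 := ded_15_1 (flp_e L89362) (flp_b L89244) L104240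
theorem L104244 : sm gd N13742 = N10988 := ded_22_1 (flp_e L89793) (flp_d L39663) (flp_e L38764) L89242 L104240
theorem L104246 : sm gf N10873 = N13743 := rfl
theorem L104248 : sm gd N13743 = N10874 := ded_23_1 (flp_f L89246) L89242 L104246
theorem L104250 : sm gb N10874 = N13744 := rfl
theorem L104252 : sm ge N13744 = N10990 := ded_15_2 (flp_b L89801) (flp_e L89250) L104250
theorem L104254 : sm gf N13744 = N10896 := ded_16_2 (flp_b L89370) (flp_f L38866) (flp_b L38766) L89246 L104250
theorem L104256 : sm gg N10874 = N13745 := rfl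
theorem L104258 : sm ga N13745 = N13691 := ded_12_1 L104234 L104228 L104256
theorem L104260 : sm gc N13745 = N10876 := ded_21_1 (flp_g L89258) (flp_c L89248) L104256
theorem L104262 : sm ge N13745 = N10991 := ded_26_1 (flp_g L89805) (flp_e L89250) L104256
theorem L104264 : sm gf N13689 = N13745 := ded_29_0 (flp_g L104256) (flp_f L89246) (flp_g L89126) (flp_a L103935)
theorem L104266 : sm ga N10875 = N13746 := rfl
theorem L104268 : sm ge N13746 = N10992 := ded_10_2 (flp_a L89813) (flp_e L89254) L104266
theorem L104270 : sm gf N13746 = N10877 := ded_11_2 (flp_a L89266) (flp_f L89256) L104266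
theorem L104272 : sm gc N10875 = N13747 := rfl
theorem L104274 : sm ge N13747 = N10993 := ded_19_2 (flp_c L89819) (flp_e L89254) L104272
theorem L104276 : sm gf N13747 = N10878 := ded_20_2 (flp_c L89270) (flp_f L89256) L104272
theorem L104278 : sm gg N10875 = N13748 := rfl
theorem L104280 : sm ge N13748 = N10994 := ded_26_1 (flp_g L89823) (flp_e L89254) L104278
theorem L104282 : sm gb N10876 = N13749 := rfl
theorem L104284 : sm ge N13749 = N10995 := ded_15_2 (flp_b L89827) (flp_e L89262) L104282
theorem L104286 : sm gb N10877 = N13750 := rfl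
theorem L104288 : sm ge N13750 = N10996 := ded_15_2 (flp_b L89829) (flp_e L89268) L104286
theorem L104290 : sm gc N10877 = N13751 := rfl
theorem L104292 : sm ga N13751 = N10878 := ded_8_1 (flp_c L89270) L89266 L104290
theorem L104294 : sm ge N13751 = N10997 := ded_19_2 (flp_c L89833) (flp_e L89268) L104290
theorem L104296 : sm gg N10877 = N13752 := rfl
theorem L104298 : sm ga N13752 = N10879 := ded_12_1 (flp_g L89276) L89266 L104296
theorem L104300 : sm ge N13752 = N10998 := ded_26_1 (flp_g L89837) (flp_e L89268) L104296
theorem L104302 : sm gf N13752 = N13748 := ded_29_2 (flp_g L104278) L104266 L104270 L104296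
theorem L104304 : sm gd N10878 = N13753 := rfl
theorem L104306 : sm gb N13753 = N10901 := ded_14_1 (flp_d L89409) (flp_b L89274) L104304
theorem L104308 : sm gg N10878 = N13754 := rfl
theorem L104310 : sm gc N13754 = N10879 := ded_21_1 (flp_g L89276) L89270 L104308
theorem L104312 : sm ge N13754 = N11000 := ded_26_1 (flp_g L89849) (flp_e L89272) L104308
theorem L104314 : sm gb N13754 = N13754 := ded_17_1 (flp_g L104308) L89274 L72006 (flp_b L89274) L104308
theorem L104315 : sm gf N10879 = N13755 := rfl
theorem L104317 : sm ga N13755 = N13748 := ded_11_1 (flp_f L104302) L104298 L104315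
theorem L104319 : sm ge N13755 = N11001 := ded_25_1 (flp_f L89854) (flp_e L89278) L104315
theorem L104321 : sm gg N13755 = N13746 := ded_29_3 (flp_a L104266) L89256 L89276 L104315
theorem L104323 : sm gb N10880 = N13756 := rfl
theorem L104325 : sm ge N13756 = N11002 := ded_15_2 (flp_b L89862) (flp_e L89285) L104323
theorem L104327 : sm gc N13756 = N10881 := ded_13_2 (flp_b L89290) (flp_c L38782) L38776 L89282 L104323
theorem L104329 : sm gd N10880 = N13757 := rfl
theorem L104331 : sm ga N13757 = N13757 := ded_9_1 (flp_d L104329) L89284 L104329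
theorem L104332 : sm gf N13757 = N13757 := ded_23_2 (flp_d L104329) L89287 L104329
theorem L104333 : sm gg N13757 = N13378 := ded_24_2 (flp_d L102385) (flp_g L89288) L104329
theorem L104335 : sm gc N13757 = N13378 := ded_28_0 (flp_d L102385) (flp_c L88236) L36502 L69421 (flp_d L38778) L89282 L104329 L104331
theorem L104337 : sm ga N10881 = N13758 := rfl
theorem L104339 : sm ge N13758 = N11004 := ded_10_2 (flp_a L89873) (flp_e L89292) L104337
theorem L104341 : sm gd N10881 = N13759 := rfl
theorem L104343 : sm gb N13759 = N10882 := ded_14_1 (flp_d L89294) L89290 L104341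
theorem L104345 : sm gf N10881 = N13760 := rfl
theorem L104347 : sm ge N13760 = N11006 := ded_25_1 (flp_f L89879) (flp_e L89292) L104345
theorem L104349 : sm gg N10881 = N13761 := rfl
theorem L104351 : sm ge N13761 = N11007 := ded_26_1 (flp_g L89881) (flp_e L89292) L104349
theorem L104353 : sm ge N10882 = N13762 := rfl
theorem L104355 : sm ga N13762 = N10883 := ded_10_1 (flp_e L89298) (flp_a L89296) L104353
theorem L104357 : sm gd N13762 = N11008 := ded_22_1 (flp_e L89883) (flp_d L39713) (flp_e L38786) L89294 L104353
theorem L104359 : sm gg N10883 = N13763 := rfl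
theorem L104361 : sm gd N13763 = N11012 := ded_24_1 (flp_g L89899) (flp_d L89300) L104359
theorem L104363 : sm ge N13763 = N10884 := ded_26_1 (flp_g L89302) L89298 L104359
theorem L104365 : sm gb N10884 = N13764 := rfl
theorem L104367 : sm gd N13764 = N10885 := ded_14_2 (flp_b L89306) (flp_d L89304) L104365
theorem L104369 : sm gf N10884 = N13765 := rfl
theorem L104371 : sm ga N13765 = N13453 := ded_11_1 (flp_f L102803) L102801 L104369
theorem L104373 : sm gc N13765 = N13459 := ded_20_1 L102803 L102763 L104369
theorem L104375 : sm gd N13765 = N10886 := ded_23_1 (flp_f L89310) (flp_d L89304) L104369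
theorem L104377 : sm gg N13765 = N10903 := ded_29_3 L89419 L88446 L89302 L104369
theorem L104379 : sm ga N10885 = N13766 := rfl
theorem L104381 : sm ge N13766 = N11015 := ded_10_2 (flp_a L89915) (flp_e L89308) L104379
theorem L104383 : sm gc N10885 = N13767 := rfl
theorem L104385 : sm ge N13767 = N11016 := ded_19_2 (flp_c L89917) (flp_e L89308) L104383
theorem L104387 : sm gb N13767 = N10888 := ded_13_1 (flp_c L89330) (flp_b L38806) (flp_c L38802) L89306 L104383
theorem L104389 : sm gf N10885 = N13768 := rfl
theorem L104391 : sm ge N13768 = N11017 := ded_25_1 (flp_f L89921) (flp_e L89308) L104389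
theorem L104393 : sm gb N10886 = N13769 := rfl
theorem L104395 : sm ge N13769 = N11018 := ded_15_2 (flp_b L89923) (flp_e L89316) L104393
theorem L104397 : sm gc N10887 = N13770 := rfl
theorem L104399 : sm ga N13770 = N10888 := ded_8_1 (flp_c L89330) L89320 L104397
theorem L104401 : sm ge N13770 = N11019 := ded_19_2 (flp_c L89925) (flp_e L89324) L104397
theorem L104403 : sm gf N13770 = N10888 := ded_20_2 (flp_c L89330) (flp_f L89328) L104397
theorem L104405 : sm gg N13770 = N10889 := ded_21_2 (flp_c L89336) (flp_g L89326) L104397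
theorem L104407 : sm gd N10888 = N13771 := rfl
theorem L104409 : sm gg N13771 = N10890 := ded_24_2 (flp_d L89343) (flp_g L89334) L104407
theorem L104411 : sm gb N10889 = N13772 := rfl
theorem L104413 : sm ge N13772 = N11021 := ded_15_2 (flp_b L89937) (flp_e L89340) L104411
theorem L104415 : sm gd N10889 = N13773 := rfl
theorem L104417 : sm ga N13773 = N10890 := ded_9_1 (flp_d L89343) (flp_a L89338) L104415
theorem L104419 : sm gf N13773 = N13773 := ded_23_2 (flp_d L104415) L89342 L104415
theorem L104420 : sm gc N10890 = N13774 := rfl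
theorem L104422 : sm gf N13774 = N13774 := ded_20_2 (flp_c L104420) L89345 L104420
theorem L104423 : sm ge N10890 = N13775 := rfl
theorem L104425 : sm gf N13775 = N13775 := ded_25_2 (flp_e L104423) L89345 L104423
theorem L104426 : sm gd N13775 = N11024 := ded_22_1 (flp_e L89947) (flp_d L39781) (flp_e L38832) L89343 L104423
theorem L104428 : sm gb N10891 = N13776 := rfl
theorem L104430 : sm ge N13776 = N11025 := ded_15_2 (flp_b L89950) (flp_e L89349) L104428
theorem L104432 : sm gc N13776 = N10892 := ded_13_2 (flp_b L89354) (flp_c L38848) L38842 L89346 L104428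
theorem L104434 : sm gd N10891 = N13777 := rfl
theorem L104436 : sm ga N13777 = N13777 := ded_9_1 (flp_d L104434) L89348 L104434
theorem L104437 : sm gf N13777 = N13379 := ded_23_2 (flp_d L102389) (flp_f L89351) L104434
theorem L104439 : sm gg N13777 = N13777 := ded_24_2 (flp_d L104434) L89353 L104434
theorem L104440 : sm gc N13777 = N13379 := ded_28_0 (flp_d L102389) (flp_c L88242) L36508 (flp_c L78804) (flp_d L38844) L89346 L104434 L104436
theorem L104442 : sm ga N10892 = N13778 := rfl
theorem L104444 : sm ge N13778 = N11027 := ded_10_2 (flp_a L89961) (flp_e L89356) L104442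
theorem L104446 : sm gd N10892 = N13779 := rfl
theorem L104448 : sm gb N13779 = N10893 := ded_14_1 (flp_d L89358) L89354 L104446
theorem L104450 : sm gf N10892 = N13780 := rfl
theorem L104452 : sm ge N13780 = N11029 := ded_25_1 (flp_f L89967) (flp_e L89356) L104450
theorem L104454 : sm gg N10892 = N13781 := rfl
theorem L104456 : sm ge N13781 = N11030 := ded_26_1 (flp_g L89969) (flp_e L89356) L104454
theorem L104458 : sm ge N10893 = N13782 := rfl
theorem L104460 : sm ga N13782 = N10894 := ded_10_1 (flp_e L89362) (flp_a L89360) L104458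
theorem L104462 : sm gd N13782 = N11031 := ded_22_1 (flp_e L89971) (flp_d L39811) (flp_e L38852) L89358 L104458
theorem L104464 : sm gf N10894 = N13783 := rfl
theorem L104466 : sm gd N13783 = N11035 := ded_23_1 (flp_f L89987) (flp_d L89364) L104464
theorem L104468 : sm ge N13783 = N10895 := ded_25_1 (flp_f L89366) L89362 L104464
theorem L104470 : sm gb N10895 = N13784 := rfl
theorem L104472 : sm gd N13784 = N10896 := ded_14_2 (flp_b L89370) (flp_d L89368) L104470
theorem L104474 : sm gg N10895 = N13785 := rfl
theorem L104476 : sm ga N13785 = N13457 := ded_12_1 L102791 L102773 L104474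
theorem L104478 : sm gc N13785 = N13455 := ded_21_1 (flp_g L102791) L102787 L104474
theorem L104480 : sm gd N13785 = N10897 := ded_24_1 (flp_g L89374) (flp_d L89368) L104474
theorem L104482 : sm gf N10910 = N13785 := ded_29_0 (flp_g L104474) (flp_f L89366) (flp_g L88466) (flp_a L89460)
theorem L104484 : sm ga N10896 = N13786 := rfl
theorem L104486 : sm ge N13786 = N11038 := ded_10_2 (flp_a L90003) (flp_e L89372) L104484
theorem L104488 : sm gc N10896 = N13787 := rfl
theorem L104490 : sm ge N13787 = N11039 := ded_19_2 (flp_c L90005) (flp_e L89372) L104488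
theorem L104492 : sm gb N13787 = N10899 := ded_13_1 (flp_c L89396) (flp_b L38872) (flp_c L38868) L89370 L104488
theorem L104494 : sm gg N10896 = N13788 := rfl
theorem L104496 : sm ge N13788 = N11040 := ded_26_1 (flp_g L90009) (flp_e L89372) L104494
theorem L104498 : sm gb N10897 = N13789 := rfl
theorem L104500 : sm ge N13789 = N11041 := ded_15_2 (flp_b L90011) (flp_e L89380) L104498
theorem L104502 : sm gc N13789 = N13772 := ded_13_2 (flp_b L104411) (flp_c L89336) (flp_b L71777) (flp_c L89378) L104498
theorem L104504 : sm gc N10898 = N13790 := rfl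
theorem L104506 : sm ga N13790 = N10899 := ded_8_1 (flp_c L89396) L89384 L104504
theorem L104508 : sm ge N13790 = N11042 := ded_19_2 (flp_c L90015) (flp_e L89388) L104504
theorem L104510 : sm gf N13790 = N10900 := ded_20_2 (flp_c L89402) (flp_f L89390) L104504
theorem L104512 : sm gg N13790 = N10899 := ded_21_2 (flp_c L89396) (flp_g L89392) L104504
theorem L104514 : sm gd N10899 = N13791 := rfl
theorem L104516 : sm gf N13791 = N10901 := ded_23_2 (flp_d L89409) (flp_f L89400) L104514
theorem L104518 : sm gb N10900 = N13792 := rfl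
theorem L104520 : sm ge N13792 = N11044 := ded_15_2 (flp_b L90027) (flp_e L89406) L104518
theorem L104522 : sm gc N13792 = N13769 := ded_13_2 (flp_b L104393) L89314 L82761 L89402 L104518
theorem L104524 : sm gd N10900 = N13793 := rfl
theorem L104526 : sm ga N13793 = N10901 := ded_9_1 (flp_d L89409) (flp_a L89404) L104524
theorem L104528 : sm gg N13793 = N13793 := ded_24_2 (flp_d L104524) L89408 L104524
theorem L104529 : sm gc N10901 = N13794 := rfl
theorem L104531 : sm gg N13794 = N13794 := ded_21_2 (flp_c L104529) L89411 L104529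
theorem L104532 : sm ge N10901 = N13795 := rfl
theorem L104534 : sm gg N13795 = N13795 := ded_26_2 (flp_e L104532) L89411 L104532
theorem L104535 : sm gd N13795 = N11047 := ded_22_1 (flp_e L90039) (flp_d L39879) (flp_e L38898) L89409 L104532
theorem L104537 : sm ga N10902 = N13796 := rfl
theorem L104539 : sm gc N13796 = N13796 := ded_8_2 (flp_a L104537) L89416 L104537
theorem L104540 : sm ge N13796 = N13591 := ded_10_2 (flp_a L103394) (flp_e L89414) L104537
theorem L104542 : sm gd N10902 = N13797 := rfl
theorem L104544 : sm gb N13797 = N10903 := ded_14_1 (flp_d L89417) L89412 L104542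
theorem L104546 : sm gf N10902 = N13798 := rfl
theorem L104549 : sm ge N13798 = N13593 := ded_25_1 (flp_f L103401) (flp_e L89414) L104546
theorem L104551 : sm gb N13798 = N13760 := ded_16_1 (flp_f L104345) (flp_b L89290) (flp_f L72128) L89412 L104546
theorem L104553 : sm gg N10902 = N13799 := rfl
theorem L104555 : sm gc N13799 = N13799 := ded_21_1 (flp_g L104553) L89416 L104553
theorem L104556 : sm ge N13799 = N13594 := ded_26_1 (flp_g L103406) (flp_e L89414) L104553
theorem L104558 : sm ge N10903 = N13800 := rfl
theorem L104560 : sm ga N13800 = N13452 := ded_10_1 (flp_e L102753) (flp_a L89419) L104558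
theorem L104562 : sm gc N13800 = N13762 := ded_19_1 (flp_e L104353) L89423 L104558
theorem L104564 : sm gf N13800 = N13762 := ded_25_2 (flp_e L104353) (flp_f L89421) L104558
theorem L104566 : sm gd N13800 = N13595 := ded_22_1 (flp_e L103409) (flp_d L88767) L72122 L89417 L104558
theorem L104568 : sm gb N10904 = N13801 := rfl
theorem L104570 : sm ge N13801 = N10916 := ded_15_2 (flp_b L89498) (flp_e L89429) L104568
theorem L104572 : sm ga N13801 = N13801 := ded_7_1 (flp_b L104568) L89427 L82759 L39112 L64285 (flp_a L39112) (flp_b L82759) (flp_a L89427) L104568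
theorem L104573 : sm gd N10904 = N13802 := rfl
theorem L104575 : sm ga N13802 = N10905 := ded_9_1 (flp_d L89435) (flp_a L89427) L104573
theorem L104577 : sm gf N13802 = N10905 := ded_23_2 (flp_d L89435) (flp_f L89431) L104573
theorem L104579 : sm gg N13802 = N10906 := ded_24_2 (flp_d L89439) (flp_g L89433) L104573
theorem L104581 : sm gc N10905 = N13803 := rfl
theorem L104583 : sm gg N13803 = N10907 := ded_21_2 (flp_c L89444) (flp_g L89437) L104581
theorem L104585 : sm ge N10905 = N13804 := rfl
theorem L104591 : sm gc N10906 = N13805 := rfl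
theorem L104593 : sm ga N13805 = N10907 := ded_8_1 (flp_c L89444) (flp_a L89441) L104591
theorem L104595 : sm gf N13805 = N13805 := ded_20_2 (flp_c L104591) L89443 L104591
theorem L104596 : sm gd N13774 = N13805 := ded_28_1 (flp_c L104591) (flp_d L89439) (flp_c L38994) (flp_d L38826) L89336 L104415 L104417 L104420
theorem L104598 : sm ge N10906 = N13806 := rfl
theorem L104600 : sm ga N13806 = N10908 := ded_10_1 (flp_e L89447) (flp_a L89441) L104598
theorem L104605 : sm gb N10907 = N13807 := rfl
theorem L104607 : sm gc N13807 = N13807 := ded_13_2 (flp_b L104605) (flp_c L89444) L71757 L89444 L104605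
theorem L104608 : sm gd N10907 = N13808 := rfl
theorem L104610 : sm ga N13808 = N13774 := ded_9_1 L104596 L104593 L104608
theorem L104612 : sm gf N13808 = N13808 := ded_23_2 (flp_d L104608) L89446 L104608
theorem L104613 : sm gc N13773 = N13808 := ded_28_0 (flp_d L104608) (flp_c L89444) (flp_d L39008) (flp_c L18527) (flp_d L18457) L38830 L89343 (flp_a L104417)
theorem L104620 : sm ga N10909 = N13810 := rfl
theorem L104622 : sm gc N13810 = N13810 := ded_8_2 (flp_a L104620) L89457 L104620
theorem L104623 : sm ge N13810 = N13604 := ded_10_2 (flp_a L103453) (flp_e L89455) L104620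
theorem L104625 : sm gd N10909 = N13811 := rfl
theorem L104627 : sm gb N13811 = N10910 := ded_14_1 (flp_d L89458) L89453 L104625
theorem L104629 : sm gf N10909 = N13812 := rfl
theorem L104631 : sm gc N13812 = N13812 := ded_20_1 (flp_f L104629) L89457 L104629
theorem L104632 : sm ge N13812 = N13606 := ded_25_1 (flp_f L103460) (flp_e L89455) L104629
theorem L104634 : sm gg N10909 = N13813 := rfl
theorem L104639 : sm gb N13813 = N13781 := ded_17_1 (flp_g L104454) (flp_b L89354) (flp_g L82693) L89453 L104634
theorem L104641 : sm ge N10910 = N13814 := rfl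
theorem L104643 : sm ga N13814 = N13456 := ded_10_1 (flp_e L102777) (flp_a L89460) L104641
theorem L104645 : sm gc N13814 = N13782 := ded_19_1 (flp_e L104458) L89464 L104641
theorem L104647 : sm gg N13814 = N13782 := ded_26_2 (flp_e L104458) (flp_g L89462) L104641
theorem L104649 : sm gd N13814 = N13608 := ded_22_1 (flp_e L103468) (flp_d L88796) (flp_e L83325) L89458 L104641
theorem L104651 : sm gb N10911 = N13815 := rfl
theorem L104653 : sm ge N13815 = N10923 := ded_15_2 (flp_b L89534) (flp_e L89470) L104651
theorem L104655 : sm gc N13815 = N13801 := ded_13_2 (flp_b L104568) (flp_c L89425) L71637 L89466 L104651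
theorem L104657 : sm gf N13815 = N13801 := ded_16_2 (flp_b L104568) L89431 L82759 (flp_f L89472) L104651
theorem L104659 : sm gg N13815 = N13801 := ded_17_2 (flp_b L104568) L89433 (flp_b L82697) (flp_g L89474) L104651
theorem L104661 : sm ga N13815 = N13815 := ded_7_1 (flp_b L104651) L89468 L82697 L38996 L58920 (flp_a L38996) (flp_b L82697) (flp_a L89468) L104651
theorem L104662 : sm gd N10911 = N13816 := rfl
theorem L104664 : sm ga N13816 = N10912 := ded_9_1 (flp_d L89476) (flp_a L89468) L104662
theorem L104666 : sm gf N13816 = N10913 := ded_23_2 (flp_d L89482) (flp_f L89472) L104662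
theorem L104668 : sm gg N13816 = N10912 := ded_24_2 (flp_d L89476) (flp_g L89474) L104662
theorem L104670 : sm gc N10912 = N13817 := rfl
theorem L104672 : sm gf N13817 = N10914 := ded_20_2 (flp_c L89489) (flp_f L89480) L104670
theorem L104674 : sm ge N10912 = N13818 := rfl
theorem L104676 : sm gb N13818 = N13806 := ded_15_1 (flp_e L104598) (flp_b L89478) L104674
theorem L104678 : sm gf N13818 = N10915 := ded_25_2 (flp_e L89492) (flp_f L89480) L104674
theorem L104682 : sm gc N10913 = N13819 := rfl
theorem L104684 : sm ga N13819 = N10914 := ded_8_1 (flp_c L89489) (flp_a L89484) L104682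
theorem L104686 : sm gg N13819 = N13819 := ded_21_2 (flp_c L104682) L89488 L104682
theorem L104687 : sm gd N13794 = N13819 := ded_28_1 (flp_c L104682) (flp_d L89482) (flp_c L39110) (flp_d L38892) L89402 L104524 L104526 L104529
theorem L104698 : sm gb N10914 = N13821 := rfl
theorem L104700 : sm gc N13821 = N13821 := ded_13_2 (flp_b L104698) (flp_c L89489) L71950 L89489 L104698
theorem L104701 : sm gd N10914 = N13822 := rfl
theorem L104703 : sm ga N13822 = N13794 := ded_9_1 L104687 L104684 L104701
theorem L104705 : sm gg N13822 = N13822 := ded_24_2 (flp_d L104701) L89491 L104701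
theorem L104706 : sm gc N13793 = N13822 := ded_28_0 (flp_d L104701) (flp_c L89489) (flp_d L39124) (flp_c L18581) (flp_d L18479) L38896 L89409 (flp_a L104526)
theorem L104708 : sm ge N10914 = N13823 := rfl
theorem L104710 : sm gc N13823 = N10915 := ded_19_1 (flp_e L89492) L89489 L104708
theorem L104713 : sm gd N10916 = N13824 := rfl
theorem L104716 : sm gb N13824 = N10917 := ded_14_1 (flp_d L89501) L89498 L104713
theorem L104718 : sm ge N10917 = N13825 := rfl
theorem L104772 : sm ge N10925 = N13833 := rfl
theorem L104774 : sm gb N13833 = N13120 := ded_15_1 (flp_e L100793) (flp_b L89555) L104772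
theorem L104805 : sm gb N10930 = N13838 := rfl
theorem L104807 : sm gb N10931 = N13839 := rfl
theorem L104809 : sm ga N10932 = N13840 := rfl
theorem L104811 : sm gf N13840 = N10936 := ded_11_2 (flp_a L89614) (flp_f L89596) L104809
theorem L104813 : sm gc N10932 = N13841 := rfl
theorem L104815 : sm gf N13841 = N10937 := ded_20_2 (flp_c L89616) (flp_f L89596) L104813
theorem L104817 : sm gg N10932 = N13842 := rfl
theorem L104819 : sm gb N10933 = N13843 := rfl
theorem L104821 : sm ga N10934 = N13844 := rfl
theorem L104823 : sm gg N13844 = N10939 := ded_12_2 (flp_a L89620) (flp_g L89604) L104821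
theorem L104825 : sm gc N10934 = N13845 := rfl
theorem L104827 : sm gg N13845 = N10940 := ded_21_2 (flp_c L89622) (flp_g L89604) L104825
theorem L104829 : sm gf N10934 = N13846 := rfl
theorem L104831 : sm gb N10935 = N13847 := rfl
theorem L104833 : sm gb N10936 = N13848 := rfl
theorem L104835 : sm gc N10936 = N13849 := rfl
theorem L104837 : sm ga N13849 = N10937 := ded_8_1 (flp_c L89616) L89614 L104835
theorem L104839 : sm gg N10936 = N13850 := rfl
theorem L104841 : sm ga N13850 = N10938 := ded_12_1 (flp_g L89618) L89614 L104839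
theorem L104843 : sm gf N13850 = N13842 := ded_29_2 (flp_g L104817) L104809 L104811 L104839
theorem L104845 : sm gd N10937 = N13851 := rfl
theorem L104847 : sm gg N10937 = N13852 := rfl
theorem L104849 : sm gc N13852 = N10938 := ded_21_1 (flp_g L89618) L89616 L104847
theorem L104851 : sm gf N10938 = N13853 := rfl
theorem L104853 : sm ga N13853 = N13842 := ded_11_1 (flp_f L104843) L104841 L104851
theorem L104855 : sm gg N13853 = N13840 := ded_29_3 (flp_a L104809) L89596 L89618 L104851
theorem L104857 : sm gb N10939 = N13854 := rfl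
theorem L104859 : sm gc N10939 = N13855 := rfl
theorem L104861 : sm ga N13855 = N10940 := ded_8_1 (flp_c L89622) L89620 L104859
theorem L104863 : sm gf N10939 = N13856 := rfl
theorem L104865 : sm ga N13856 = N10941 := ded_11_1 (flp_f L89624) L89620 L104863
theorem L104867 : sm gg N13846 = N13856 := ded_29_1 (flp_f L104863) (flp_g L104823) (flp_a L104821) L104829
theorem L104869 : sm gd N10940 = N13857 := rfl
theorem L104871 : sm gf N10940 = N13858 := rfl
theorem L104873 : sm gc N13858 = N10941 := ded_20_1 (flp_f L89624) L89622 L104871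
theorem L104875 : sm gg N10941 = N13859 := rfl
theorem L104877 : sm ga N13859 = N13846 := ded_12_1 L104867 L104865 L104875
theorem L104879 : sm gf N13844 = N13859 := ded_29_0 (flp_g L104875) (flp_f L89624) (flp_g L89604) L104821
theorem L104881 : sm ga N10942 = N13860 := rfl
theorem L104883 : sm gc N10942 = N13861 := rfl
theorem L104885 : sm gf N13860 = N13861 := ded_30_0 (flp_c L104883) (flp_b L89626) (flp_a L39587) L18799 L18817 L18819 (flp_a L18843) (flp_f L37273) (flp_c L37269) L64764 (flp_a L17848) L8685 L9135 (flp_b L18819) (flp_a L39615) (flp_f L89632) (flp_c L89628) L89626 L104881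
theorem L104887 : sm gf N10942 = N13862 := rfl
theorem L104889 : sm ga N13862 = N13861 := ded_11_1 (flp_f L104885) (flp_a L104881) L104887
theorem L104891 : sm gc N13862 = N13860 := ded_20_1 L104885 (flp_c L104883) L104887
theorem L104893 : sm gb N13862 = N10960 := ded_16_1 (flp_f L89686) (flp_b L39611) (flp_f L39589) L89626 L104887
theorem L104895 : sm gg N10942 = N13863 := rfl
theorem L104897 : sm gb N10943 = N13864 := rfl
theorem L104899 : sm gd N10943 = N13865 := rfl
theorem L104901 : sm ga N13865 = N10944 := ded_9_1 (flp_d L89634) (flp_a L89630) L104899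
theorem L104903 : sm gf N13865 = N10963 := ded_23_2 (flp_d L89692) (flp_f L89632) L104899
theorem L104905 : sm gc N10944 = N13865 := ded_28_0 (flp_d L104899) (flp_c L89628) (flp_d L88137) L88136 L88137 L89628 L104899 L104901
theorem L104907 : sm ge N10944 = N13866 := rfl
theorem L104909 : sm gf N13866 = N10966 := ded_25_2 (flp_e L89708) (flp_f L89636) L104907
theorem L104911 : sm gg N10944 = N13867 := rfl
theorem L104913 : sm gd N13867 = N10945 := ded_24_1 (flp_g L89638) L89634 L104911
theorem L104915 : sm gb N10945 = N13868 := rfl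
theorem L104917 : sm ga N10946 = N13869 := rfl
theorem L104919 : sm gg N13869 = N10947 := ded_12_2 (flp_a L89646) (flp_g L89644) L104917
theorem L104921 : sm gc N10946 = N13870 := rfl
theorem L104923 : sm gg N13870 = N10948 := ded_21_2 (flp_c L89648) (flp_g L89644) L104921
theorem L104925 : sm gf N10946 = N13871 := rfl
theorem L104927 : sm gb N10947 = N13872 := rfl
theorem L104929 : sm gc N10947 = N13873 := rfl
theorem L104931 : sm ga N13873 = N10948 := ded_8_1 (flp_c L89648) L89646 L104929
theorem L104933 : sm gf N10947 = N13874 := rfl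
theorem L104935 : sm ga N13874 = N10949 := ded_11_1 (flp_f L89650) L89646 L104933
theorem L104937 : sm gg N13871 = N13874 := ded_29_1 (flp_f L104933) (flp_g L104919) (flp_a L104917) L104925
theorem L104939 : sm gd N10948 = N13875 := rfl
theorem L104941 : sm gf N10948 = N13876 := rfl
theorem L104943 : sm gc N13876 = N10949 := ded_20_1 (flp_f L89650) L89648 L104941
theorem L104945 : sm gg N10949 = N13877 := rfl
theorem L104947 : sm ga N13877 = N13871 := ded_12_1 L104937 L104935 L104945
theorem L104949 : sm gf N13869 = N13877 := ded_29_0 (flp_g L104945) (flp_f L89650) (flp_g L89644) L104917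
theorem L104951 : sm ga N10950 = N13878 := rfl
theorem L104953 : sm gc N10950 = N13879 := rfl
theorem L104955 : sm gf N10950 = N13880 := rfl
theorem L104957 : sm gg N10950 = N13881 := rfl
theorem L104959 : sm gb N13881 = N10983 := ded_17_1 (flp_g L89773) (flp_b L39651) (flp_g L39601) L89654 L104957
theorem L104961 : sm gb N10951 = N13882 := rfl
theorem L104963 : sm gd N10951 = N13883 := rfl
theorem L104965 : sm ga N13883 = N10952 := ded_9_1 (flp_d L89662) (flp_a L89658) L104963
theorem L104967 : sm gg N13883 = N10985 := ded_24_2 (flp_d L89777) (flp_g L89660) L104963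
theorem L104969 : sm gc N10952 = N13883 := ded_28_0 (flp_d L104963) (flp_c L89656) (flp_d L88153) L88152 L88153 L89656 L104963 L104965
theorem L104971 : sm ge N10952 = N13884 := rfl
theorem L104973 : sm gg N13884 = N10988 := ded_26_2 (flp_e L89793) (flp_g L89664) L104971
theorem L104975 : sm gf N10952 = N13885 := rfl
theorem L104977 : sm gd N13885 = N10953 := ded_23_1 (flp_f L89666) L89662 L104975
theorem L104979 : sm gb N10953 = N13886 := rfl
theorem L104981 : sm ga N10954 = N13887 := rfl
theorem L104983 : sm gf N13887 = N10955 := ded_11_2 (flp_a L89674) (flp_f L89672) L104981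
theorem L104985 : sm gc N10954 = N13888 := rfl
theorem L104987 : sm gf N13888 = N10956 := ded_20_2 (flp_c L89676) (flp_f L89672) L104985
theorem L104989 : sm gg N10954 = N13889 := rfl
theorem L104991 : sm gb N10955 = N13890 := rfl
theorem L104993 : sm gc N10955 = N13891 := rfl
theorem L104995 : sm ga N13891 = N10956 := ded_8_1 (flp_c L89676) L89674 L104993
theorem L104997 : sm gg N10955 = N13892 := rfl
theorem L104999 : sm ga N13892 = N10957 := ded_12_1 (flp_g L89678) L89674 L104997
theorem L105001 : sm gf N13892 = N13889 := ded_29_2 (flp_g L104989) L104981 L104983 L104997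
theorem L105003 : sm gd N10956 = N13893 := rfl
theorem L105005 : sm gg N10956 = N13894 := rfl
theorem L105007 : sm gc N13894 = N10957 := ded_21_1 (flp_g L89678) L89676 L105005
theorem L105009 : sm gf N10957 = N13895 := rfl
theorem L105011 : sm ga N13895 = N13889 := ded_11_1 (flp_f L105001) L104999 L105009
theorem L105013 : sm gg N13895 = N13887 := ded_29_3 (flp_a L104981) L89672 L89678 L105009
theorem L105015 : sm gc N10958 = N13896 := rfl
theorem L105017 : sm ga N13896 = N10959 := ded_8_1 (flp_c L89684) L89682 L105015
theorem L105019 : sm gf N10958 = N13897 := rfl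
theorem L105021 : sm ga N13897 = N10960 := ded_11_1 (flp_f L89686) L89682 L105019
theorem L105023 : sm gg N10958 = N13898 := rfl
theorem L105025 : sm ga N13898 = N10961 := ded_12_1 (flp_g L89688) L89682 L105023
theorem L105027 : sm gb N10959 = N13899 := rfl
theorem L105029 : sm gc N13899 = N10962 := ded_13_2 (flp_b L89690) (flp_c L39613) L39611 L89684 L105027
theorem L105031 : sm gd N10959 = N13900 := rfl
theorem L105033 : sm gf N10959 = N13901 := rfl
theorem L105035 : sm gc N13901 = N10960 := ded_20_1 (flp_f L89686) L89684 L105033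
theorem L105037 : sm gg N10959 = N13902 := rfl
theorem L105039 : sm gc N13902 = N10961 := ded_21_1 (flp_g L89688) L89684 L105037
theorem L105041 : sm gg N10960 = N13903 := rfl
theorem L105043 : sm gf N13898 = N13903 := ded_29_0 (flp_g L105041) (flp_f L89686) L89688 (flp_a L105025)
theorem L105045 : sm gb N10961 = N13904 := rfl
theorem L105047 : sm gg N13904 = N10965 := ded_17_2 (flp_b L89706) (flp_g L39617) L39611 L89688 L105045
theorem L105049 : sm gf N10961 = N13905 := rfl
theorem L105051 : sm ga N13905 = N13903 := ded_11_1 (flp_f L105043) L105025 L105049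
theorem L105053 : sm gg N13905 = N13897 := ded_29_3 L105021 (flp_f L89686) L89688 L105049
theorem L105055 : sm ga N10962 = N13906 := rfl
theorem L105057 : sm gd N10962 = N13907 := rfl
theorem L105059 : sm gb N13907 = N10963 := ded_14_1 (flp_d L89692) L89690 L105057
theorem L105061 : sm gc N11009 = N13907 := ded_13_0 L105059 (flp_c L89696) L39625 L39729 L89887
theorem L105063 : N13906 = N13899 := coi_28_0 L105029 L105057 (flp_c L105061) (flp_d L90044) L90046 L90044 L105061 (flp_d L105057) L105055
theorem L105064 : N13906 = N13899 := eqc rfl L105063 rfl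
theorem L105065 : sm ga N13899 = N10962 := trfs L105064 (flp_a L105055) rfl
theorem L105067 : sm gb N11004 = N13896 := ded_7_8 L105017 L105027 L105065 (flp_b L89690) L39615 L18819 (flp_a L18843) L39711 L89873
theorem L105069 : sm gf N10962 = N13908 := rfl
theorem L105071 : sm gg N10962 = N13909 := rfl
theorem L105073 : sm ge N10963 = N13910 := rfl
theorem L105075 : sm ga N13910 = N10966 := ded_10_1 (flp_e L89708) (flp_a L89694) L105073
theorem L105077 : sm gc N13910 = N10966 := ded_19_1 (flp_e L89708) L89696 L105073
theorem L105079 : sm gg N10963 = N13911 := rfl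
theorem L105081 : sm ga N13911 = N10967 := ded_12_1 (flp_g L89712) (flp_a L89694) L105079
theorem L105083 : sm gc N13911 = N10967 := ded_21_1 (flp_g L89712) L89696 L105079
theorem L105085 : sm gd N13911 = N10964 := ded_24_1 (flp_g L89698) L89692 L105079
theorem L105087 : sm gf N13911 = N13867 := ded_29_2 (flp_g L104911) (flp_a L104901) L104903 L105079
theorem L105089 : sm gb N10964 = N13912 := rfl
theorem L105091 : sm ga N10965 = N13913 := rfl
theorem L105093 : sm gc N10965 = N13914 := rfl
theorem L105095 : sm gf N10965 = N13915 := rfl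
theorem L105097 : sm gb N13915 = N13871 := ded_16_1 (flp_f L104925) (flp_b L89642) (flp_f L39621) L89706 L105095
theorem L105099 : sm gg N10966 = N13916 := rfl
theorem L105101 : sm ge N13916 = N10967 := ded_26_1 (flp_g L89712) L89708 L105099
theorem L105103 : sm gb N10967 = N13917 := rfl
theorem L105105 : sm gd N13917 = N10968 := ded_14_2 (flp_b L89716) (flp_d L89714) L105103
theorem L105107 : sm gg N13917 = N11013 := ded_17_2 (flp_b L89903) (flp_g L39733) (flp_b L39625) L89712 L105103
theorem L105109 : sm gf N10967 = N13918 := rfl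
theorem L105111 : sm ga N13918 = N13867 := ded_11_1 (flp_f L105087) L105081 L105109
theorem L105113 : sm gc N13918 = N13867 := ded_20_1 (flp_f L105087) L105083 L105109
theorem L105115 : sm gd N13918 = N10969 := ded_23_1 (flp_f L89720) (flp_d L89714) L105109
theorem L105117 : sm gg N13918 = N13865 := ded_29_3 L104901 L89636 L89712 L105109
theorem L105119 : sm ga N10968 = N13919 := rfl
theorem L105121 : sm gg N13919 = N11015 := ded_12_2 (flp_a L89915) (flp_g L89718) L105119
theorem L105123 : sm gc N10968 = N13920 := rfl
theorem L105125 : sm gg N13920 = N11016 := ded_21_2 (flp_c L89917) (flp_g L89718) L105123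
theorem L105127 : sm gb N13920 = N10971 := ded_13_1 (flp_c L89732) (flp_b L39631) (flp_c L39629) L89716 L105123
theorem L105129 : sm gf N10968 = N13921 := rfl
theorem L105131 : sm gb N10969 = N13922 := rfl
theorem L105133 : sm gb N10970 = N13923 := rfl
theorem L105135 : sm gc N10970 = N13924 := rfl
theorem L105137 : sm ga N13924 = N10971 := ded_8_1 (flp_c L89732) L89728 L105135
theorem L105139 : sm gg N13924 = N10975 := ded_21_2 (flp_c L89742) (flp_g L89730) L105135
theorem L105141 : sm gd N10971 = N13925 := rfl
theorem L105143 : sm gg N13925 = N10977 := ded_24_2 (flp_d L89752) (flp_g L89734) L105141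
theorem L105145 : sm gf N10971 = N13926 := rfl
theorem L105147 : sm gc N13926 = N10972 := ded_20_1 (flp_f L89736) L89732 L105145
theorem L105149 : sm gb N10972 = N13927 := rfl
theorem L105151 : sm gf N13927 = N10973 := ded_16_2 (flp_b L89738) (flp_f L39635) L39631 L89736 L105149
theorem L105153 : sm ga N10973 = N13928 := rfl
theorem L105155 : sm gc N10973 = N13929 := rfl
theorem L105157 : sm gg N10973 = N13930 := rfl
theorem L105159 : sm gb N13930 = N13863 := ded_17_1 (flp_g L104895) (flp_b L89626) (flp_g L39639) L89738 L105157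
theorem L105161 : sm ga N10974 = N13931 := rfl
theorem L105163 : sm gc N10974 = N13932 := rfl
theorem L105165 : sm gf N10974 = N13933 := rfl
theorem L105167 : sm gg N10974 = N13934 := rfl
theorem L105169 : sm gb N10975 = N13935 := rfl
theorem L105171 : sm gd N10975 = N13936 := rfl
theorem L105173 : sm ga N13936 = N10977 := ded_9_1 (flp_d L89752) (flp_a L89744) L105171
theorem L105175 : sm gf N10975 = N13937 := rfl
theorem L105177 : sm ga N13937 = N10978 := ded_11_1 (flp_f L89756) (flp_a L89744) L105175
theorem L105179 : sm gc N13937 = N10976 := ded_20_1 (flp_f L89746) L89742 L105175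
theorem L105181 : sm gg N13926 = N13937 := ded_29_1 (flp_f L105175) (flp_g L105139) L105137 L105145
theorem L105183 : sm gb N10976 = N13938 := rfl
theorem L105185 : sm gc N10977 = N13939 := rfl
theorem L105187 : sm ge N10977 = N13940 := rfl
theorem L105189 : sm gb N13940 = N11024 := ded_15_1 (flp_e L89947) (flp_b L89754) L105187
theorem L105191 : sm gf N10977 = N13941 := rfl
theorem L105193 : sm gd N13941 = N10978 := ded_23_1 (flp_f L89756) L89752 L105191
theorem L105196 : sm gg N10978 = N13942 := rfl
theorem L105198 : sm ga N13942 = N13926 := ded_12_1 L105181 L105177 L105196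
theorem L105200 : sm gc N13942 = N10979 := ded_21_1 (flp_g L89761) (flp_c L89758) L105196
theorem L105202 : sm gf N13924 = N13942 := ded_29_0 (flp_g L105196) (flp_f L89756) (flp_g L89734) (flp_a L105137)
theorem L105204 : sm gb N10979 = N13943 := rfl
theorem L105206 : sm gg N13943 = N13369 := ded_17_2 (flp_b L102337) (flp_g L88201) (flp_b L39649) L89761 L105204
theorem L105208 : sm gc N10980 = N13944 := rfl
theorem L105210 : sm ga N13944 = N10981 := ded_8_1 (flp_c L89769) L89767 L105208
theorem L105212 : sm gf N10980 = N13945 := rfl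
theorem L105214 : sm ga N13945 = N10982 := ded_11_1 (flp_f L89771) L89767 L105212
theorem L105216 : sm gg N10980 = N13946 := rfl
theorem L105218 : sm ga N13946 = N10983 := ded_12_1 (flp_g L89773) L89767 L105216
theorem L105220 : sm gb N10981 = N13947 := rfl
theorem L105222 : sm gc N13947 = N10984 := ded_13_2 (flp_b L89775) (flp_c L39653) L39651 L89769 L105220
theorem L105224 : sm gd N10981 = N13948 := rfl
theorem L105226 : sm gf N10981 = N13949 := rfl
theorem L105228 : sm gc N13949 = N10982 := ded_20_1 (flp_f L89771) L89769 L105226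
theorem L105230 : sm gg N10981 = N13950 := rfl
theorem L105232 : sm gc N13950 = N10983 := ded_21_1 (flp_g L89773) L89769 L105230
theorem L105234 : sm gb N10982 = N13951 := rfl
theorem L105236 : sm gf N13951 = N10987 := ded_16_2 (flp_b L89791) (flp_f L39657) L39651 L89771 L105234
theorem L105238 : sm gg N10982 = N13952 := rfl
theorem L105240 : sm gf N13946 = N13952 := ded_29_0 (flp_g L105238) (flp_f L89771) L89773 (flp_a L105218)
theorem L105242 : sm gf N10983 = N13953 := rfl
theorem L105244 : sm ga N13953 = N13952 := ded_11_1 (flp_f L105240) L105218 L105242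
theorem L105246 : sm gg N13953 = N13945 := ded_29_3 L105214 (flp_f L89771) L89773 L105242
theorem L105248 : sm ga N10984 = N13954 := rfl
theorem L105250 : sm gd N10984 = N13955 := rfl
theorem L105252 : sm gb N13955 = N10985 := ded_14_1 (flp_d L89777) L89775 L105250
theorem L105254 : sm gc N11032 = N13955 := ded_13_0 L105252 (flp_c L89781) L39665 L39827 L89975
theorem L105256 : N13954 = N13947 := coi_28_0 L105222 L105250 (flp_c L105254) (flp_d L90220) L90222 L90220 L105254 (flp_d L105250) L105248
theorem L105257 : N13954 = N13947 := eqc rfl L105256 rfl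
theorem L105258 : sm ga N13947 = N10984 := trfs L105257 (flp_a L105248) rfl
theorem L105260 : sm gb N11027 = N13944 := ded_7_8 L105210 L105220 L105258 (flp_b L89775) L39655 L18829 (flp_a L18891) L39809 L89961
theorem L105262 : sm gf N10984 = N13956 := rfl
theorem L105264 : sm gg N10984 = N13957 := rfl
theorem L105266 : sm ge N10985 = N13958 := rfl
theorem L105268 : sm ga N13958 = N10988 := ded_10_1 (flp_e L89793) (flp_a L89779) L105266
theorem L105270 : sm gc N13958 = N10988 := ded_19_1 (flp_e L89793) L89781 L105266
theorem L105272 : sm gf N10985 = N13959 := rfl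
theorem L105274 : sm ga N13959 = N10989 := ded_11_1 (flp_f L89797) (flp_a L89779) L105272
theorem L105276 : sm gc N13959 = N10989 := ded_20_1 (flp_f L89797) L89781 L105272
theorem L105278 : sm gd N13959 = N10986 := ded_23_1 (flp_f L89783) L89777 L105272
theorem L105280 : sm gg N13885 = N13959 := ded_29_1 (flp_f L105272) (flp_g L104967) L104965 L104975
theorem L105282 : sm gb N10986 = N13960 := rfl
theorem L105284 : sm ga N10987 = N13961 := rfl
theorem L105286 : sm gc N10987 = N13962 := rfl
theorem L105288 : sm gg N10987 = N13963 := rfl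
theorem L105290 : sm gb N13963 = N13889 := ded_17_1 (flp_g L104989) (flp_b L89670) L39661 L89791 L105288
theorem L105292 : sm gf N10988 = N13964 := rfl
theorem L105294 : sm ge N13964 = N10989 := ded_25_1 (flp_f L89797) L89793 L105292
theorem L105296 : sm gb N10989 = N13965 := rfl
theorem L105298 : sm gd N13965 = N10990 := ded_14_2 (flp_b L89801) (flp_d L89799) L105296
theorem L105300 : sm gf N13965 = N11036 := ded_16_2 (flp_b L89991) (flp_f L39831) (flp_b L39665) L89797 L105296
theorem L105302 : sm gg N10989 = N13966 := rfl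
theorem L105304 : sm ga N13966 = N13885 := ded_12_1 L105280 L105274 L105302
theorem L105306 : sm gc N13966 = N13885 := ded_21_1 L105280 L105276 L105302
theorem L105308 : sm gd N13966 = N10991 := ded_24_1 (flp_g L89805) (flp_d L89799) L105302
theorem L105310 : sm gf N13883 = N13966 := ded_29_0 (flp_g L105302) (flp_f L89797) (flp_g L89664) (flp_a L104965)
theorem L105312 : sm ga N10990 = N13967 := rfl
theorem L105314 : sm gf N13967 = N11038 := ded_11_2 (flp_a L90003) (flp_f L89803) L105312
theorem L105316 : sm gc N10990 = N13968 := rfl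
theorem L105318 : sm gf N13968 = N11039 := ded_20_2 (flp_c L90005) (flp_f L89803) L105316
theorem L105320 : sm gb N13968 = N10993 := ded_13_1 (flp_c L89819) (flp_b L39671) (flp_c L39669) L89801 L105316
theorem L105322 : sm gg N10990 = N13969 := rfl
theorem L105324 : sm gb N10991 = N13970 := rfl
theorem L105326 : sm gb N10992 = N13971 := rfl
theorem L105328 : sm gd N13971 = N13938 := ded_14_2 (flp_b L105183) (flp_d L89815) L105326
theorem L105330 : sm gc N10992 = N13972 := rfl
theorem L105332 : sm ga N13972 = N10993 := ded_8_1 (flp_c L89819) L89813 L105330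
theorem L105334 : sm gf N13972 = N10997 := ded_20_2 (flp_c L89833) (flp_f L89817) L105330
theorem L105336 : sm gd N10993 = N13973 := rfl
theorem L105338 : sm gf N13973 = N10999 := ded_23_2 (flp_d L89845) (flp_f L89821) L105336
theorem L105340 : sm gg N10993 = N13974 := rfl
theorem L105342 : sm gc N13974 = N10994 := ded_21_1 (flp_g L89823) L89819 L105340
theorem L105344 : sm gb N10994 = N13975 := rfl
theorem L105346 : sm gd N13975 = N13943 := ded_14_2 (flp_b L105204) (flp_d L89825) L105344
theorem L105348 : sm gg N13975 = N10995 := ded_17_2 (flp_b L89827) (flp_g L39677) L39671 L89823 L105344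
theorem L105350 : sm ga N10995 = N13976 := rfl
theorem L105352 : sm gc N10995 = N13977 := rfl
theorem L105354 : sm gf N10995 = N13978 := rfl
theorem L105356 : sm gb N13978 = N13880 := ded_16_1 (flp_f L104955) (flp_b L89654) L39681 L89827 L105354
theorem L105358 : sm ga N10996 = N13979 := rfl
theorem L105360 : sm gd N13979 = N13931 := ded_9_2 (flp_a L105161) (flp_d L89831) L105358
theorem L105362 : sm gb N13979 = N13931 := ded_7_2 (flp_a L105161) (flp_b L89740) (flp_a L39641) (flp_b L18823) (flp_a L9123) L18833 L39683 L89829 L105358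
theorem L105364 : sm gc N10996 = N13980 := rfl
theorem L105366 : sm gf N10996 = N13981 := rfl
theorem L105368 : sm gd N13981 = N13933 := ded_23_1 (flp_f L105165) (flp_d L89831) L105366
theorem L105370 : sm gg N10996 = N13982 := rfl
theorem L105372 : sm gd N13982 = N13934 := ded_24_1 (flp_g L105167) (flp_d L89831) L105370
theorem L105374 : sm gb N10997 = N13983 := rfl
theorem L105376 : sm gd N10997 = N13984 := rfl
theorem L105378 : sm ga N13984 = N10999 := ded_9_1 (flp_d L89845) (flp_a L89835) L105376
theorem L105380 : sm gg N10997 = N13985 := rfl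
theorem L105382 : sm ga N13985 = N11000 := ded_12_1 (flp_g L89849) (flp_a L89835) L105380
theorem L105384 : sm gc N13985 = N10998 := ded_21_1 (flp_g L89837) L89833 L105380
theorem L105386 : sm gf N13985 = N13974 := ded_29_2 (flp_g L105340) (flp_a L105332) L105334 L105380
theorem L105388 : sm gb N10998 = N13986 := rfl
theorem L105390 : sm gd N13986 = N13923 := ded_14_2 (flp_b L105133) (flp_d L89841) L105388
theorem L105392 : sm gc N10999 = N13987 := rfl
theorem L105394 : sm ge N10999 = N13988 := rfl
theorem L105396 : sm gb N13988 = N11047 := ded_15_1 (flp_e L90039) (flp_b L89847) L105394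
theorem L105398 : sm gg N10999 = N13989 := rfl
theorem L105400 : sm gd N13989 = N11000 := ded_24_1 (flp_g L89849) L89845 L105398
theorem L105403 : sm gf N11000 = N13990 := rfl
theorem L105405 : sm ga N13990 = N13974 := ded_11_1 (flp_f L105386) L105382 L105403
theorem L105407 : sm gc N13990 = N11001 := ded_20_1 (flp_f L89854) (flp_c L89851) L105403
theorem L105409 : sm gg N13990 = N13972 := ded_29_3 L105332 L89821 L89849 L105403
theorem L105411 : sm gb N11001 = N13991 := rfl
theorem L105413 : sm gd N13991 = N13927 := ded_14_2 (flp_b L105149) (flp_d L89858) L105411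
theorem L105415 : sm gf N13991 = N13363 := ded_16_2 (flp_b L102312) (flp_f L88179) (flp_b L39695) L89854 L105411
theorem L105417 : sm ga N11002 = N13992 := rfl
theorem L105419 : sm gc N13992 = N11004 := ded_8_2 (flp_a L89873) (flp_c L89864) L105417
theorem L105421 : sm gd N11002 = N13993 := rfl
theorem L105423 : sm gb N13993 = N11003 := ded_14_1 (flp_d L89866) L89862 L105421
theorem L105425 : sm gf N11002 = N13994 := rfl
theorem L105427 : sm gc N13994 = N11006 := ded_20_1 (flp_f L89879) (flp_c L89864) L105425
theorem L105429 : sm gb N13994 = N13994 := ded_16_1 (flp_f L105425) (flp_b L89862) L71952 L89862 L105425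
theorem L105430 : sm gg N11002 = N13995 := rfl
theorem L105432 : sm gc N13995 = N11007 := ded_21_1 (flp_g L89881) (flp_c L89864) L105430
theorem L105434 : sm gb N13995 = N13396 := ded_17_1 (flp_g L102459) L88296 L83402 L89862 L105430
theorem L105436 : sm ge N11003 = N13996 := rfl
theorem L105438 : sm ga N13996 = N13996 := ded_10_1 (flp_e L105436) L89868 L105436
theorem L105439 : sm gc N13996 = N13996 := ded_19_1 (flp_e L105436) L89872 L105436
theorem L105440 : sm gf N13996 = N13996 := ded_25_2 (flp_e L105436) L89869 L105436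
theorem L105441 : sm gg N13996 = N13404 := ded_26_2 (flp_e L102495) (flp_g L89870) L105436
theorem L105443 : sm gd N11004 = N13997 := rfl
theorem L105445 : sm ga N13997 = N11005 := ded_9_1 (flp_d L89875) L89873 L105443
theorem L105447 : sm gf N11004 = N13998 := rfl
theorem L105449 : sm ga N13998 = N11006 := ded_11_1 (flp_f L89879) L89873 L105447
theorem L105451 : sm gg N11004 = N13999 := rfl
theorem L105453 : sm ga N13999 = N11007 := ded_12_1 (flp_g L89881) L89873 L105451
theorem L105455 : sm gc N11005 = N14000 := rfl
theorem L105457 : sm ge N11005 = N14001 := rfl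
theorem L105459 : sm gb N14001 = N11008 := ded_15_1 (flp_e L89883) (flp_b L89877) L105457
theorem L105461 : sm gf N11005 = N14002 := rfl
theorem L105463 : sm gd N14002 = N11006 := ded_23_1 (flp_f L89879) L89875 L105461
theorem L105465 : sm gg N11005 = N14003 := rfl
theorem L105467 : sm gd N14003 = N11007 := ded_24_1 (flp_g L89881) L89875 L105465
theorem L105469 : sm gg N11006 = N14004 := rfl
theorem L105471 : sm gf N13999 = N14004 := ded_29_0 (flp_g L105469) (flp_f L89879) L89881 (flp_a L105453)
theorem L105473 : sm gf N11007 = N14005 := rfl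
theorem L105475 : sm ga N14005 = N14004 := ded_11_1 (flp_f L105471) L105453 L105473
theorem L105477 : sm gg N14005 = N13998 := ded_29_3 L105449 (flp_f L89879) L89881 L105473
theorem L105479 : sm ga N11009 = N14006 := rfl
theorem L105481 : sm ge N11009 = N14007 := rfl
theorem L105483 : sm gb N14007 = N11010 := ded_15_1 (flp_e L89889) L89887 L105481
theorem L105485 : sm gf N11009 = N14008 := rfl
theorem L105487 : sm gg N11009 = N14009 := rfl
theorem L105489 : sm gd N11010 = N14010 := rfl
theorem L105491 : sm gg N11010 = N14011 := rfl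
theorem L105493 : sm gc N14011 = N11012 := ded_21_1 (flp_g L89899) (flp_c L89891) L105491
theorem L105495 : sm ge N14011 = N11011 := ded_26_1 (flp_g L89893) L89889 L105491
theorem L105497 : sm gb N11011 = N14012 := rfl
theorem L105499 : sm gd N14012 = N13649 := ded_14_2 (flp_b L103700) (flp_d L89897) L105497
theorem L105501 : sm gb N11012 = N14013 := rfl
theorem L105503 : sm ge N14013 = N11013 := ded_15_2 (flp_b L89903) (flp_e L89901) L105501
theorem L105505 : sm gf N11012 = N14014 := rfl
theorem L105507 : sm ga N14014 = N13599 := ded_11_1 (flp_f L103514) L103512 L105505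
theorem L105509 : sm ge N14014 = N11014 := ded_25_1 (flp_f L89907) (flp_e L89901) L105505
theorem L105511 : sm gg N14014 = N13595 := ded_29_3 L103411 L88779 L89899 L105505
theorem L105513 : sm ga N11013 = N14015 := rfl
theorem L105515 : sm gd N14015 = N11015 := ded_9_2 (flp_a L89915) (flp_d L89905) L105513
theorem L105517 : sm gc N11013 = N14016 := rfl
theorem L105519 : sm gf N11013 = N14017 := rfl
theorem L105521 : sm gd N14017 = N11017 := ded_23_1 (flp_f L89921) (flp_d L89905) L105519
theorem L105523 : sm gb N11014 = N14018 := rfl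
theorem L105525 : sm gd N14018 = N11018 := ded_14_2 (flp_b L89923) (flp_d L89911) L105523
theorem L105527 : sm gb N11015 = N14019 := rfl
theorem L105529 : sm gc N11015 = N14020 := rfl
theorem L105531 : sm ga N14020 = N11016 := ded_8_1 (flp_c L89917) L89915 L105529
theorem L105533 : sm gf N11015 = N14021 := rfl
theorem L105535 : sm ga N14021 = N11017 := ded_11_1 (flp_f L89921) L89915 L105533
theorem L105537 : sm gg N13921 = N14021 := ded_29_1 (flp_f L105533) (flp_g L105121) (flp_a L105119) L105129
theorem L105539 : sm gd N11016 = N14022 := rfl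
theorem L105541 : sm gb N14022 = N11020 := ded_14_1 (flp_d L89933) (flp_b L89919) L105539
theorem L105543 : sm gf N11016 = N14023 := rfl
theorem L105545 : sm gc N14023 = N11017 := ded_20_1 (flp_f L89921) L89917 L105543
theorem L105547 : sm gb N11017 = N14024 := rfl
theorem L105549 : sm gf N14024 = N11018 := ded_16_2 (flp_b L89923) (flp_f L39739) L39737 L89921 L105547
theorem L105551 : sm gg N11017 = N14025 := rfl
theorem L105553 : sm ga N14025 = N13921 := ded_12_1 L105537 L105535 L105551
theorem L105555 : sm gf N13919 = N14025 := ded_29_0 (flp_g L105551) (flp_f L89921) (flp_g L89718) L105119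
theorem L105557 : sm ga N11018 = N14026 := rfl
theorem L105559 : sm gg N11018 = N14027 := rfl
theorem L105561 : sm gb N14027 = N13594 := ded_17_1 (flp_g L103406) (flp_b L88764) (flp_g L39745) L89923 L105559
theorem L105563 : sm gb N11019 = N14028 := rfl
theorem L105565 : sm gd N11019 = N14029 := rfl
theorem L105567 : sm ga N14029 = N11020 := ded_9_1 (flp_d L89933) (flp_a L89927) L105565
theorem L105569 : sm gf N14029 = N11020 := ded_23_2 (flp_d L89933) (flp_f L89929) L105565
theorem L105571 : sm gg N14029 = N11022 := ded_24_2 (flp_d L89939) (flp_g L89931) L105565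
theorem L105573 : sm gc N11020 = N14030 := rfl
theorem L105575 : sm gg N14030 = N11023 := ded_21_2 (flp_c L89944) (flp_g L89935) L105573
theorem L105577 : sm ge N11020 = N14031 := rfl
theorem L105579 : sm gg N14031 = N11024 := ded_26_2 (flp_e L89947) (flp_g L89935) L105577
theorem L105581 : sm ga N11021 = N14032 := rfl
theorem L105583 : sm gd N11021 = N14033 := rfl
theorem L105585 : sm gb N14033 = N11022 := ded_14_1 (flp_d L89939) L89937 L105583
theorem L105587 : sm gf N11021 = N14034 := rfl
theorem L105589 : sm gb N14034 = N14034 := ded_16_1 (flp_f L105587) (flp_b L89937) L82700 L89937 L105587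
theorem L105590 : sm gg N11021 = N14035 := rfl
theorem L105592 : sm ge N11022 = N14036 := rfl
theorem L105594 : sm ga N14036 = N11024 := ded_10_1 (flp_e L89947) (flp_a L89941) L105592
theorem L105596 : sm gf N14036 = N14036 := ded_25_2 (flp_e L105592) L89943 L105592
theorem L105597 : sm gb N11023 = N14037 := rfl
theorem L105599 : sm ge N11023 = N14038 := rfl
theorem L105601 : sm gc N14038 = N11024 := ded_19_1 (flp_e L89947) L89944 L105599
theorem L105603 : sm gf N14038 = N14038 := ded_25_2 (flp_e L105599) L89946 L105599
theorem L105604 : sm ga N11025 = N14039 := rfl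
theorem L105606 : sm gc N14039 = N11027 := ded_8_2 (flp_a L89961) (flp_c L89952) L105604
theorem L105608 : sm gd N11025 = N14040 := rfl
theorem L105610 : sm gb N14040 = N11026 := ded_14_1 (flp_d L89954) L89950 L105608
theorem L105612 : sm gf N11025 = N14041 := rfl
theorem L105614 : sm gc N14041 = N11029 := ded_20_1 (flp_f L89967) (flp_c L89952) L105612
theorem L105616 : sm gb N14041 = N13402 := ded_16_1 (flp_f L102485) L88304 (flp_f L83333) L89950 L105612
theorem L105618 : sm gg N11025 = N14042 := rfl
theorem L105620 : sm gc N14042 = N11030 := ded_21_1 (flp_g L89969) (flp_c L89952) L105618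
theorem L105622 : sm gb N14042 = N14042 := ded_17_1 (flp_g L105618) (flp_b L89950) L83331 L89950 L105618
theorem L105623 : sm ge N11026 = N14043 := rfl
theorem L105625 : sm ga N14043 = N14043 := ded_10_1 (flp_e L105623) L89956 L105623
theorem L105626 : sm gc N14043 = N14043 := ded_19_1 (flp_e L105623) L89960 L105623
theorem L105627 : sm gf N14043 = N13405 := ded_25_2 (flp_e L102500) (flp_f L89957) L105623
theorem L105629 : sm gg N14043 = N14043 := ded_26_2 (flp_e L105623) L89959 L105623
theorem L105630 : sm gd N11027 = N14044 := rfl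
theorem L105632 : sm ga N14044 = N11028 := ded_9_1 (flp_d L89963) L89961 L105630
theorem L105634 : sm gf N11027 = N14045 := rfl
theorem L105636 : sm ga N14045 = N11029 := ded_11_1 (flp_f L89967) L89961 L105634
theorem L105638 : sm gg N11027 = N14046 := rfl
theorem L105640 : sm ga N14046 = N11030 := ded_12_1 (flp_g L89969) L89961 L105638
theorem L105642 : sm gc N11028 = N14047 := rfl
theorem L105644 : sm ge N11028 = N14048 := rfl
theorem L105646 : sm gb N14048 = N11031 := ded_15_1 (flp_e L89971) (flp_b L89965) L105644
theorem L105648 : sm gf N11028 = N14049 := rfl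
theorem L105650 : sm gd N14049 = N11029 := ded_23_1 (flp_f L89967) L89963 L105648
theorem L105652 : sm gg N11028 = N14050 := rfl
theorem L105654 : sm gd N14050 = N11030 := ded_24_1 (flp_g L89969) L89963 L105652
theorem L105656 : sm gg N11029 = N14051 := rfl
theorem L105658 : sm gf N14046 = N14051 := ded_29_0 (flp_g L105656) (flp_f L89967) L89969 (flp_a L105640)
theorem L105660 : sm gf N11030 = N14052 := rfl
theorem L105662 : sm ga N14052 = N14051 := ded_11_1 (flp_f L105658) L105640 L105660
theorem L105664 : sm gg N14052 = N14045 := ded_29_3 L105636 (flp_f L89967) L89969 L105660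
theorem L105666 : sm ga N11032 = N14053 := rfl
theorem L105668 : sm ge N11032 = N14054 := rfl
theorem L105670 : sm gb N14054 = N11033 := ded_15_1 (flp_e L89977) L89975 L105668
theorem L105672 : sm gf N11032 = N14055 := rfl
theorem L105674 : sm gg N11032 = N14056 := rfl
theorem L105676 : sm gd N11033 = N14057 := rfl
theorem L105678 : sm gf N11033 = N14058 := rfl
theorem L105680 : sm gc N14058 = N11035 := ded_20_1 (flp_f L89987) (flp_c L89979) L105678
theorem L105682 : sm ge N14058 = N11034 := ded_25_1 (flp_f L89981) L89977 L105678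
theorem L105684 : sm gb N11034 = N14059 := rfl
theorem L105686 : sm gd N14059 = N13632 := ded_14_2 (flp_b L103602) (flp_d L89985) L105684
theorem L105688 : sm gb N11035 = N14060 := rfl
theorem L105690 : sm ge N14060 = N11036 := ded_15_2 (flp_b L89991) (flp_e L89989) L105688
theorem L105692 : sm gg N11035 = N14061 := rfl
theorem L105694 : sm ga N14061 = N13612 := ded_12_1 L103494 L103449 L105692
theorem L105696 : sm ge N14061 = N11037 := ded_26_1 (flp_g L89995) (flp_e L89989) L105692
theorem L105698 : sm gf N13608 = N14061 := ded_29_0 (flp_g L105692) (flp_f L89987) (flp_g L88808) (flp_a L103470)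
theorem L105700 : sm ga N11036 = N14062 := rfl
theorem L105702 : sm gd N14062 = N11038 := ded_9_2 (flp_a L90003) (flp_d L89993) L105700
theorem L105704 : sm gc N11036 = N14063 := rfl
theorem L105706 : sm gg N11036 = N14064 := rfl
theorem L105708 : sm gd N14064 = N11040 := ded_24_1 (flp_g L90009) (flp_d L89993) L105706
theorem L105710 : sm gb N11037 = N14065 := rfl
theorem L105712 : sm gd N14065 = N11041 := ded_14_2 (flp_b L90011) (flp_d L89999) L105710
theorem L105714 : sm gb N11038 = N14066 := rfl
theorem L105716 : sm gc N11038 = N14067 := rfl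
theorem L105718 : sm ga N14067 = N11039 := ded_8_1 (flp_c L90005) L90003 L105716
theorem L105720 : sm gg N11038 = N14068 := rfl
theorem L105722 : sm ga N14068 = N11040 := ded_12_1 (flp_g L90009) L90003 L105720
theorem L105724 : sm gf N14068 = N13969 := ded_29_2 (flp_g L105322) L105312 L105314 L105720
theorem L105726 : sm gd N11039 = N14069 := rfl
theorem L105728 : sm gb N14069 = N11043 := ded_14_1 (flp_d L90023) (flp_b L90007) L105726
theorem L105730 : sm gg N11039 = N14070 := rfl
theorem L105732 : sm gc N14070 = N11040 := ded_21_1 (flp_g L90009) L90005 L105730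
theorem L105734 : sm gb N11040 = N14071 := rfl
theorem L105736 : sm gg N14071 = N11041 := ded_17_2 (flp_b L90011) (flp_g L39837) L39835 L90009 L105734
theorem L105738 : sm gc N14035 = N14071 := ded_21_3 L105736 L90013 L105590
theorem L105740 : sm gf N11040 = N14072 := rfl
theorem L105742 : sm ga N14072 = N13969 := ded_11_1 (flp_f L105724) L105722 L105740
theorem L105744 : sm gg N14072 = N13967 := ded_29_3 (flp_a L105312) L89803 L90009 L105740
theorem L105746 : sm ga N11041 = N14073 := rfl
theorem L105748 : sm gc N14073 = N14032 := ded_8_2 (flp_a L105581) (flp_c L90013) L105746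
theorem L105750 : sm gf N11041 = N14074 := rfl
theorem L105752 : sm gc N14074 = N14034 := ded_20_1 (flp_f L105587) (flp_c L90013) L105750
theorem L105754 : sm gb N14074 = N13606 := ded_16_1 (flp_f L103460) (flp_b L88793) L39843 L90011 L105750
theorem L105756 : sm gb N11042 = N14075 := rfl
theorem L105758 : sm gc N14075 = N14028 := ded_13_2 (flp_b L105563) (flp_c L89925) L71644 L90015 L105756
theorem L105760 : sm gd N11042 = N14076 := rfl
theorem L105762 : sm ga N14076 = N11043 := ded_9_1 (flp_d L90023) (flp_a L90017) L105760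
theorem L105764 : sm gf N14076 = N11045 := ded_23_2 (flp_d L90031) (flp_f L90019) L105760
theorem L105766 : sm gg N14076 = N11043 := ded_24_2 (flp_d L90023) (flp_g L90021) L105760
theorem L105768 : sm gc N11043 = N14077 := rfl
theorem L105770 : sm gf N14077 = N11046 := ded_20_2 (flp_c L90036) (flp_f L90025) L105768
theorem L105772 : sm ge N11043 = N14078 := rfl
theorem L105774 : sm gf N14078 = N11047 := ded_25_2 (flp_e L90039) (flp_f L90025) L105772
theorem L105776 : sm ga N11044 = N14079 := rfl
theorem L105778 : sm gc N14079 = N14026 := ded_8_2 (flp_a L105557) (flp_c L90029) L105776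
theorem L105780 : sm gd N11044 = N14080 := rfl
theorem L105782 : sm gb N14080 = N11045 := ded_14_1 (flp_d L90031) L90027 L105780
theorem L105784 : sm gf N11044 = N14081 := rfl
theorem L105786 : sm gc N14081 = N14024 := ded_20_1 L105549 (flp_c L90029) L105784
theorem L105788 : sm gg N11044 = N14082 := rfl
theorem L105790 : sm gc N14082 = N14027 := ded_21_1 (flp_g L105559) (flp_c L90029) L105788
theorem L105792 : sm gb N14082 = N14082 := ded_17_1 (flp_g L105788) (flp_b L90027) L71879 L90027 L105788
theorem L105793 : sm ge N11045 = N14083 := rfl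
theorem L105795 : sm ga N14083 = N11047 := ded_10_1 (flp_e L90039) (flp_a L90033) L105793
theorem L105797 : sm gg N14083 = N14083 := ded_26_2 (flp_e L105793) L90035 L105793
theorem L105798 : sm gb N11046 = N14084 := rfl
theorem L105800 : sm ge N11046 = N14085 := rfl
theorem L105802 : sm gc N14085 = N11047 := ded_19_1 (flp_e L90039) L90036 L105800
theorem L105804 : sm gg N14085 = N14085 := ded_26_2 (flp_e L105800) L90038 L105800
theorem L105805 : sm ga N11048 = N14086 := rfl
theorem L105807 : sm gc N14086 = N14086 := ded_8_2 (flp_a L105805) L90046 L105805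
theorem L105808 : sm gd N14086 = N14006 := ded_9_2 (flp_a L105479) (flp_d L90044) L105805
theorem L105810 : sm ge N11048 = N14087 := rfl
theorem L105812 : sm gb N14087 = N11049 := ded_15_1 (flp_e L90047) L90042 L105810
theorem L105814 : sm gc N14087 = N14087 := ded_19_1 (flp_e L105810) L90046 L105810
theorem L105815 : sm gf N11048 = N14088 := rfl
theorem L105818 : sm gd N14088 = N14008 := ded_23_1 (flp_f L105485) (flp_d L90044) L105815
theorem L105820 : sm gg N11048 = N14089 := rfl
theorem L105822 : sm gc N14089 = N14089 := ded_21_1 (flp_g L105820) L90046 L105820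
theorem L105823 : sm gd N14089 = N14009 := ded_24_1 (flp_g L105487) (flp_d L90044) L105820
theorem L105825 : sm gd N11049 = N14090 := rfl
theorem L105827 : sm ga N14090 = N11057 := ded_9_1 (flp_d L90089) (flp_a L90049) L105825
theorem L105829 : sm ge N14090 = N14010 := ded_22_2 (flp_d L105489) (flp_e L89889) L39949 L90047 L105825
theorem L105831 : sm gc N14090 = N13629 := ded_28_6 (flp_d L103590) (flp_a L103542) L103544 L88855 L69202 (flp_d L39955) (flp_c L90051) L105825
theorem L105833 : sm gb N11050 = N14091 := rfl
theorem L105835 : sm gd N11050 = N14092 := rfl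
theorem L105837 : sm ga N14092 = N11051 := ded_9_1 (flp_d L90057) L90053 L105835
theorem L105839 : sm ge N11050 = N14093 := rfl
theorem L105841 : sm ga N14093 = N11052 := ded_10_1 (flp_e L90061) L90053 L105839
theorem L105843 : sm gc N14093 = N11137 := ded_19_1 (flp_e L90602) (flp_c L90055) L105839
theorem L105845 : sm gf N11050 = N14094 := rfl
theorem L105847 : sm ga N14094 = N11053 := ded_11_1 (flp_f L90067) L90053 L105845
theorem L105849 : sm gc N14094 = N11138 := ded_20_1 (flp_f L90606) (flp_c L90055) L105845
theorem L105851 : sm gg N11050 = N14095 := rfl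
theorem L105853 : sm ga N14095 = N11054 := ded_12_1 (flp_g L90071) L90053 L105851
theorem L105855 : sm gc N14095 = N11139 := ded_21_1 (flp_g L90610) (flp_c L90055) L105851
theorem L105857 : sm gc N11051 = N14096 := rfl
theorem L105859 : sm gb N14096 = N14000 := ded_13_1 (flp_c L105455) L89877 L39991 (flp_b L90059) L105857
theorem L105861 : sm ge N11051 = N14097 := rfl
theorem L105863 : sm gb N14097 = N11055 := ded_15_1 (flp_e L90075) (flp_b L90059) L105861
theorem L105865 : sm gf N11051 = N14098 := rfl
theorem L105867 : sm gd N14098 = N11053 := ded_23_1 (flp_f L90067) L90057 L105865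
theorem L105869 : sm gg N11051 = N14099 := rfl
theorem L105871 : sm gd N14099 = N11054 := ded_24_1 (flp_g L90071) L90057 L105869
theorem L105873 : sm gd N11052 = N14100 := rfl
theorem L105875 : sm gb N14100 = N11057 := ded_14_1 (flp_d L90089) (flp_b L90063) L105873
theorem L105877 : sm gf N11052 = N14101 := rfl
theorem L105879 : sm gc N14101 = N11141 := ded_20_1 (flp_f L90618) (flp_c L90065) L105877
theorem L105883 : sm gg N11052 = N14102 := rfl
theorem L105885 : sm gc N14102 = N11142 := ded_21_1 (flp_g L90624) (flp_c L90065) L105883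
theorem L105887 : sm ge N14102 = N11054 := ded_26_1 (flp_g L90071) L90061 L105883
theorem L105889 : sm gg N11053 = N14103 := rfl
theorem L105891 : sm gc N14103 = N11143 := ded_21_1 (flp_g L90628) (flp_c L90069) L105889
theorem L105893 : sm gf N14095 = N14103 := ded_29_0 (flp_g L105889) (flp_f L90067) L90071 (flp_a L105853)
theorem L105895 : sm gb N11054 = N14104 := rfl
theorem L105897 : sm gg N14104 = N11059 := ded_17_2 (flp_b L90097) (flp_g L39997) L39983 L90071 L105895
theorem L105899 : sm gf N11054 = N14105 := rfl
theorem L105901 : sm ga N14105 = N14103 := ded_11_1 (flp_f L105893) L105853 L105899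
theorem L105903 : sm gc N14105 = N11145 := ded_20_1 (flp_f L90636) (flp_c L90073) L105899
theorem L105905 : sm gg N14105 = N14094 := ded_29_3 L105847 (flp_f L90067) L90071 L105899
theorem L105907 : sm gd N11055 = N14106 := rfl
theorem L105909 : sm ga N14106 = N14010 := ded_9_1 (flp_d L105489) (flp_a L90077) L105907
theorem L105911 : sm ge N14106 = N11057 := ded_22_2 (flp_d L90089) (flp_e L39993) L39987 L90075 L105907
theorem L105913 : sm gg N11055 = N14107 := rfl
theorem L105915 : sm ga N14107 = N14011 := ded_12_1 (flp_g L105491) (flp_a L90077) L105913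
theorem L105917 : sm gc N14107 = N13616 := ded_21_1 L103516 (flp_c L90079) L105913
theorem L105919 : sm ge N14107 = N11056 := ded_26_1 (flp_g L90081) L90075 L105913
theorem L105921 : sm gb N11056 = N14108 := rfl
theorem L105923 : sm gd N14108 = N11059 := ded_14_2 (flp_b L90097) (flp_d L90087) L105921
theorem L105925 : sm gc N11057 = N14109 := rfl
theorem L105927 : sm ga N14109 = N13629 := ded_8_1 (flp_c L105831) L105827 L105925
theorem L105929 : sm gf N14109 = N14090 := ded_20_2 L105831 L103592 L105925
theorem L105931 : sm gd N14109 = N13621 := ded_28_7 L103542 L88871 L37380 (flp_c L69199) (flp_d L18977) (flp_c L39995) L90089 L105925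
theorem L105933 : sm gg N11057 = N14110 := rfl
theorem L105935 : sm gd N14110 = N11058 := ded_24_1 (flp_g L90091) L90089 L105933
theorem L105937 : sm gb N11058 = N14111 := rfl
theorem L105939 : sm ge N14111 = N11059 := ded_15_2 (flp_b L90097) (flp_e L90095) L105937
theorem L105941 : sm gf N11058 = N14112 := rfl
theorem L105943 : sm ga N14112 = N13630 := ded_11_1 (flp_f L103710) L103706 L105941
theorem L105945 : sm gc N14112 = N11062 := ded_20_1 (flp_f L90115) (flp_c L90093) L105941
theorem L105947 : sm ge N14112 = N11060 := ded_25_1 (flp_f L90099) (flp_e L90095) L105941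
theorem L105949 : sm gg N14112 = N13621 := ded_29_3 L103542 L88873 L90091 L105941
theorem L105951 : sm ga N11059 = N14113 := rfl
theorem L105953 : sm gc N11059 = N14114 := rfl
theorem L105955 : sm gb N14114 = N11064 := ded_13_1 (flp_c L90133) (flp_b L40007) (flp_c L39999) L90097 L105953
theorem L105957 : sm gf N11059 = N14115 := rfl
theorem L105959 : sm gb N11060 = N14116 := rfl
theorem L105961 : sm ga N11061 = N14117 := rfl
theorem L105971 : sm gc N11061 = N14118 := rfl
theorem L105973 : sm ge N14118 = N11064 := ded_19_2 (flp_c L90133) (flp_e L90111) L105971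
theorem L105975 : sm gg N14118 = N11152 := ded_21_2 (flp_c L90664) (flp_g L90113) L105971
theorem L105977 : sm gf N11061 = N14119 := rfl
theorem L105983 : sm ge N14119 = N11065 := ded_25_1 (flp_f L90137) (flp_e L90111) L105977
theorem L105985 : sm gb N11062 = N14120 := rfl
theorem L105987 : sm gd N14120 = N11111 := ded_14_2 (flp_b L90430) (flp_d L90119) L105985
theorem L105993 : sm gc N11063 = N14121 := rfl
theorem L105995 : sm ga N14121 = N11064 := ded_8_1 (flp_c L90133) L90125 L105993
theorem L105997 : sm gf N14121 = N11919 := ded_20_2 (flp_c L94662) (flp_f L90131) L105993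
theorem L105999 : sm gg N14121 = N11154 := ded_21_2 (flp_c L90676) (flp_g L90129) L105993
theorem L106001 : sm gd N11064 = N14122 := rfl
theorem L106003 : sm gg N14122 = N11156 := ded_24_2 (flp_d L90688) (flp_g L90135) L106001
theorem L106005 : sm gf N11064 = N14123 := rfl
theorem L106007 : sm ga N14123 = N11919 := ded_11_1 (flp_f L105997) L105995 L106005
theorem L106009 : sm gc N14123 = N11065 := ded_20_1 (flp_f L90137) L90133 L106005
theorem L106011 : sm gc N11066 = N14124 := rfl
theorem L106013 : sm ga N14124 = N12986 := ded_8_1 (flp_c L100079) (flp_a L90147) L106011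
theorem L106023 : sm gc N11068 = N14126 := rfl
theorem L106025 : sm ga N14126 = N11069 := ded_8_1 (flp_c L90167) (flp_a L90159) L106023
theorem L106027 : sm gf N14126 = N11069 := ded_20_2 (flp_c L90167) (flp_f L90163) L106023
theorem L106029 : sm gg N14126 = N11073 := ded_21_2 (flp_c L90188) (flp_g L90165) L106023
theorem L106031 : sm gd N14030 = N14126 := ded_28_1 (flp_c L106023) (flp_d L90157) (flp_c L40043) (flp_d L39749) L89925 L105565 L105567 L105573
theorem L106045 : sm gb N11069 = N14128 := rfl
theorem L106047 : sm gd N11069 = N14129 := rfl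
theorem L106049 : sm ga N14129 = N14030 := ded_9_1 L106031 L106025 L106047
theorem L106051 : sm gf N14129 = N14030 := ded_23_2 L106031 L106027 L106047
theorem L106053 : sm gg N14129 = N11076 := ded_24_2 (flp_d L90206) (flp_g L90169) L106047
theorem L106055 : sm gc N14029 = N14129 := ded_28_0 (flp_d L106047) (flp_c L90167) (flp_d L40051) (flp_c L19005) (flp_d L18861) L39753 L89933 (flp_a L105567)
theorem L106057 : sm ge N11069 = N14130 := rfl
theorem L106061 : sm gg N14130 = N11077 := ded_26_2 (flp_e L90213) (flp_g L90169) L106057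
theorem L106063 : sm gc N11071 = N14131 := rfl
theorem L106065 : sm gg N14131 = N13071 := ded_21_2 (flp_c L100503) (flp_g L90181) L106063
theorem L106080 : sm gb N11073 = N14134 := rfl
theorem L106082 : sm gd N14134 = N14037 := ded_14_2 (flp_b L105597) L90193 L106080
theorem L106084 : sm ge N11073 = N14135 := rfl
theorem L106086 : sm ga N14135 = N11077 := ded_10_1 (flp_e L90213) (flp_a L90190) L106084
theorem L106091 : sm ga N11075 = N14136 := rfl
theorem L106093 : sm gc N14136 = N11158 := ded_8_2 (flp_a L90694) (flp_c L90204) L106091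
theorem L106095 : sm gd N11075 = N14137 := rfl
theorem L106097 : sm gb N14137 = N11076 := ded_14_1 (flp_d L90206) L90202 L106095
theorem L106099 : sm ge N11075 = N14138 := rfl
theorem L106101 : sm gb N14138 = N11077 := ded_15_1 (flp_e L90213) L90202 L106099
theorem L106103 : sm gc N14138 = N11159 := ded_19_1 (flp_e L90698) (flp_c L90204) L106099
theorem L106105 : sm gf N11075 = N14139 := rfl
theorem L106107 : sm gc N14139 = N11160 := ded_20_1 (flp_f L90702) (flp_c L90204) L106105
theorem L106109 : sm gb N14139 = N14139 := ded_16_1 (flp_f L106105) (flp_b L90202) L82745 L90202 L106105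
theorem L106110 : sm gg N11075 = N14140 := rfl
theorem L106112 : sm gc N14140 = N11161 := ded_21_1 (flp_g L90708) (flp_c L90204) L106110
theorem L106114 : sm ge N11076 = N14141 := rfl
theorem L106116 : sm ga N14141 = N14038 := ded_10_1 (flp_e L105599) (flp_a L90208) L106114
theorem L106118 : sm gc N14141 = N14036 := ded_19_1 (flp_e L105592) L90211 L106114
theorem L106120 : sm gf N14141 = N14141 := ded_25_2 (flp_e L106114) L90210 L106114
theorem L106121 : sm gd N11077 = N14142 := rfl
theorem L106124 : sm ga N11078 = N14143 := rfl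
theorem L106126 : sm gc N14143 = N14143 := ded_8_2 (flp_a L106124) L90222 L106124
theorem L106127 : sm gd N14143 = N14053 := ded_9_2 (flp_a L105666) (flp_d L90220) L106124
theorem L106129 : sm ge N11078 = N14144 := rfl
theorem L106131 : sm gb N14144 = N11079 := ded_15_1 (flp_e L90223) L90218 L106129
theorem L106133 : sm gc N14144 = N14144 := ded_19_1 (flp_e L106129) L90222 L106129
theorem L106134 : sm gf N11078 = N14145 := rfl
theorem L106136 : sm gc N14145 = N14145 := ded_20_1 (flp_f L106134) L90222 L106134
theorem L106137 : sm gd N14145 = N14055 := ded_23_1 (flp_f L105672) (flp_d L90220) L106134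
theorem L106139 : sm gg N11078 = N14146 := rfl
theorem L106142 : sm gd N14146 = N14056 := ded_24_1 (flp_g L105674) (flp_d L90220) L106139
theorem L106144 : sm gd N11079 = N14147 := rfl
theorem L106146 : sm ga N14147 = N11087 := ded_9_1 (flp_d L90265) (flp_a L90225) L106144
theorem L106148 : sm ge N14147 = N14057 := ded_22_2 (flp_d L105676) (flp_e L89977) L40207 L90223 L106144
theorem L106150 : sm gc N14147 = N13646 := ded_28_6 (flp_d L103686) (flp_a L103638) L103640 L88928 L82585 (flp_d L40213) (flp_c L90227) L106144
theorem L106152 : sm gb N11080 = N14148 := rfl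
theorem L106154 : sm gd N11080 = N14149 := rfl
theorem L106156 : sm ga N14149 = N11081 := ded_9_1 (flp_d L90233) L90229 L106154
theorem L106158 : sm ge N11080 = N14150 := rfl
theorem L106160 : sm ga N14150 = N11082 := ded_10_1 (flp_e L90237) L90229 L106158
theorem L106162 : sm gc N14150 = N11164 := ded_19_1 (flp_e L90722) (flp_c L90231) L106158
theorem L106164 : sm gf N11080 = N14151 := rfl
theorem L106166 : sm ga N14151 = N11083 := ded_11_1 (flp_f L90243) L90229 L106164
theorem L106168 : sm gc N14151 = N11165 := ded_20_1 (flp_f L90726) (flp_c L90231) L106164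
theorem L106170 : sm gg N11080 = N14152 := rfl
theorem L106172 : sm ga N14152 = N11084 := ded_12_1 (flp_g L90247) L90229 L106170
theorem L106174 : sm gc N14152 = N11166 := ded_21_1 (flp_g L90730) (flp_c L90231) L106170
theorem L106176 : sm gc N11081 = N14153 := rfl
theorem L106178 : sm gb N14153 = N14047 := ded_13_1 (flp_c L105642) L89965 L40239 (flp_b L90235) L106176
theorem L106180 : sm ge N11081 = N14154 := rfl
theorem L106182 : sm gb N14154 = N11085 := ded_15_1 (flp_e L90251) (flp_b L90235) L106180
theorem L106184 : sm gf N11081 = N14155 := rfl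
theorem L106186 : sm gd N14155 = N11083 := ded_23_1 (flp_f L90243) L90233 L106184
theorem L106188 : sm gg N11081 = N14156 := rfl
theorem L106190 : sm gd N14156 = N11084 := ded_24_1 (flp_g L90247) L90233 L106188
theorem L106192 : sm gd N11082 = N14157 := rfl
theorem L106194 : sm gb N14157 = N11087 := ded_14_1 (flp_d L90265) (flp_b L90239) L106192
theorem L106196 : sm gf N11082 = N14158 := rfl
theorem L106198 : sm gc N14158 = N11168 := ded_20_1 (flp_f L90738) (flp_c L90241) L106196
theorem L106200 : sm ge N14158 = N11083 := ded_25_1 (flp_f L90243) L90237 L106196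
theorem L106202 : sm gg N11082 = N14159 := rfl
theorem L106204 : sm gc N14159 = N11169 := ded_21_1 (flp_g L90742) (flp_c L90241) L106202
theorem L106206 : sm ge N14159 = N11084 := ded_26_1 (flp_g L90247) L90237 L106202
theorem L106208 : sm gb N11083 = N14160 := rfl
theorem L106210 : sm gf N14160 = N11089 := ded_16_2 (flp_b L90273) (flp_f L40245) L40231 L90243 L106208
theorem L106212 : sm gg N11083 = N14161 := rfl
theorem L106214 : sm gc N14161 = N11171 := ded_21_1 (flp_g L90752) (flp_c L90245) L106212
theorem L106216 : sm gf N14152 = N14161 := ded_29_0 (flp_g L106212) (flp_f L90243) L90247 (flp_a L106172)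
theorem L106218 : sm gf N11084 = N14162 := rfl
theorem L106220 : sm ga N14162 = N14161 := ded_11_1 (flp_f L106216) L106172 L106218
theorem L106222 : sm gc N14162 = N11172 := ded_20_1 (flp_f L90756) (flp_c L90249) L106218
theorem L106224 : sm gg N14162 = N14151 := ded_29_3 L106166 (flp_f L90243) L90247 L106218
theorem L106226 : sm gd N11085 = N14163 := rfl
theorem L106228 : sm ga N14163 = N14057 := ded_9_1 (flp_d L105676) (flp_a L90253) L106226
theorem L106230 : sm ge N14163 = N11087 := ded_22_2 (flp_d L90265) (flp_e L40241) L40235 L90251 L106226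
theorem L106232 : sm gf N11085 = N14164 := rfl
theorem L106234 : sm ga N14164 = N14058 := ded_11_1 (flp_f L105678) (flp_a L90253) L106232
theorem L106236 : sm gc N14164 = N13603 := ded_20_1 L103451 (flp_c L90255) L106232
theorem L106238 : sm ge N14164 = N11086 := ded_25_1 (flp_f L90257) L90251 L106232
theorem L106240 : sm gb N11086 = N14165 := rfl
theorem L106242 : sm gd N14165 = N11089 := ded_14_2 (flp_b L90273) (flp_d L90263) L106240
theorem L106244 : sm gc N11087 = N14166 := rfl
theorem L106246 : sm ga N14166 = N13646 := ded_8_1 (flp_c L106150) L106146 L106244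
theorem L106248 : sm gg N14166 = N14147 := ded_21_2 L106150 L103688 L106244
theorem L106250 : sm gd N14166 = N13638 := ded_28_7 L103638 L88944 L37486 (flp_c L82583) (flp_d L19101) (flp_c L40243) L90265 L106244
theorem L106252 : sm gf N11087 = N14167 := rfl
theorem L106254 : sm gd N14167 = N11088 := ded_23_1 (flp_f L90267) L90265 L106252
theorem L106256 : sm gb N11088 = N14168 := rfl
theorem L106258 : sm ge N14168 = N11089 := ded_15_2 (flp_b L90273) (flp_e L90271) L106256
theorem L106260 : sm gg N11088 = N14169 := rfl
theorem L106262 : sm ga N14169 = N13647 := ded_12_1 L103696 L103608 L106260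
theorem L106264 : sm gc N14169 = N11092 := ded_21_1 (flp_g L90291) (flp_c L90269) L106260
theorem L106266 : sm ge N14169 = N11090 := ded_26_1 (flp_g L90275) (flp_e L90271) L106260
theorem L106268 : sm gf N13638 = N14169 := ded_29_0 (flp_g L106260) (flp_f L90267) (flp_g L88946) (flp_a L103638)
theorem L106270 : sm ga N11089 = N14170 := rfl
theorem L106272 : sm gc N11089 = N14171 := rfl
theorem L106274 : sm gb N14171 = N11094 := ded_13_1 (flp_c L90309) (flp_b L40255) (flp_c L40247) L90273 L106272
theorem L106276 : sm gg N11089 = N14172 := rfl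
theorem L106278 : sm gb N11090 = N14173 := rfl
theorem L106290 : sm gc N11091 = N14175 := rfl
theorem L106292 : sm ge N14175 = N11094 := ded_19_2 (flp_c L90309) (flp_e L90287) L106290
theorem L106294 : sm gf N14175 = N11179 := ded_20_2 (flp_c L90790) (flp_f L90289) L106290
theorem L106296 : sm gg N11091 = N14176 := rfl
theorem L106300 : sm gd N14176 = N11123 := ded_24_1 (flp_g L90506) (flp_d L90285) L106296
theorem L106304 : sm gb N11092 = N14177 := rfl
theorem L106312 : sm gc N11093 = N14178 := rfl
theorem L106314 : sm ga N14178 = N11094 := ded_8_1 (flp_c L90309) L90301 L106312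
theorem L106316 : sm gf N14178 = N11181 := ded_20_2 (flp_c L90802) (flp_f L90305) L106312
theorem L106318 : sm gg N14178 = N11980 := ded_21_2 (flp_c L94943) L90307 L106312
theorem L106320 : sm gd N11094 = N14179 := rfl
theorem L106322 : sm gf N14179 = N11183 := ded_23_2 (flp_d L90814) (flp_f L90311) L106320
theorem L106324 : sm gg N11094 = N14180 := rfl
theorem L106326 : sm ga N14180 = N11980 := ded_12_1 (flp_g L106318) L106314 L106324
theorem L106330 : sm gc N11096 = N14181 := rfl
theorem L106332 : sm ga N14181 = N13071 := ded_8_1 (flp_c L100503) (flp_a L90323) L106330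
theorem L106334 : sm gf N11096 = N14182 := rfl
theorem L106338 : sm gd N14182 = N11097 := ded_23_1 (flp_f L90325) (flp_d L90321) L106334
theorem L106342 : sm gb N14182 = N13636 := ded_16_1 (flp_f L103626) L88904 L40267 L90319 L106334
theorem L106344 : sm gc N11098 = N14183 := rfl
theorem L106346 : sm ga N14183 = N11099 := ded_8_1 (flp_c L90347) (flp_a L90339) L106344
theorem L106348 : sm gf N14183 = N11103 := ded_20_2 (flp_c L90372) (flp_f L90343) L106344
theorem L106350 : sm gg N14183 = N11099 := ded_21_2 (flp_c L90347) (flp_g L90345) L106344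
theorem L106352 : sm gd N14077 = N14183 := ded_28_1 (flp_c L106344) (flp_d L90337) (flp_c L40289) (flp_d L39847) L90015 L105760 L105762 L105768
theorem L106354 : sm ge N11098 = N14184 := rfl
theorem L106358 : sm gb N14184 = N11820 := ded_15_1 L94138 (flp_b L90341) L106354
theorem L106360 : sm gf N14184 = N11104 := ded_25_2 (flp_e L90379) (flp_f L90343) L106354
theorem L106366 : sm gb N11099 = N14185 := rfl
theorem L106368 : sm gd N11099 = N14186 := rfl
theorem L106370 : sm ga N14186 = N14077 := ded_9_1 L106352 L106346 L106368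
theorem L106372 : sm gf N14186 = N11106 := ded_23_2 (flp_d L90390) (flp_f L90349) L106368
theorem L106374 : sm gg N14186 = N14077 := ded_24_2 L106352 L106350 L106368
theorem L106376 : sm gc N14076 = N14186 := ded_28_0 (flp_d L106368) (flp_c L90347) (flp_d L40297) (flp_c L19129) (flp_d L18909) L39851 L90023 (flp_a L105762)
theorem L106378 : sm ge N11099 = N14187 := rfl
theorem L106382 : sm gf N14187 = N11107 := ded_25_2 (flp_e L90397) (flp_f L90349) L106378
theorem L106384 : sm gc N11101 = N14188 := rfl
theorem L106386 : sm gf N14188 = N12986 := ded_20_2 (flp_c L100079) (flp_f L90361) L106384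
theorem L106403 : sm gb N11103 = N14191 := rfl
theorem L106405 : sm gd N14191 = N14084 := ded_14_2 (flp_b L105798) L90377 L106403
theorem L106407 : sm ge N11103 = N14192 := rfl
theorem L106409 : sm ga N14192 = N11107 := ded_10_1 (flp_e L90397) (flp_a L90374) L106407
theorem L106411 : sm gc N14192 = N11104 := ded_19_1 (flp_e L90379) L90372 L106407
theorem L106414 : sm ga N11105 = N14193 := rfl
theorem L106416 : sm gc N14193 = N11185 := ded_8_2 (flp_a L90820) (flp_c L90388) L106414
theorem L106418 : sm gd N11105 = N14194 := rfl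
theorem L106420 : sm gb N14194 = N11106 := ded_14_1 (flp_d L90390) L90386 L106418
theorem L106422 : sm ge N11105 = N14195 := rfl
theorem L106424 : sm gb N14195 = N11107 := ded_15_1 (flp_e L90397) L90386 L106422
theorem L106426 : sm gc N14195 = N11186 := ded_19_1 (flp_e L90824) (flp_c L90388) L106422
theorem L106428 : sm gf N11105 = N14196 := rfl
theorem L106430 : sm gc N14196 = N11187 := ded_20_1 (flp_f L90828) (flp_c L90388) L106428
theorem L106432 : sm gg N11105 = N14197 := rfl
theorem L106434 : sm gc N14197 = N11188 := ded_21_1 (flp_g L90834) (flp_c L90388) L106432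
theorem L106436 : sm gb N14197 = N14197 := ded_17_1 (flp_g L106432) (flp_b L90386) L71977 L90386 L106432
theorem L106437 : sm ge N11106 = N14198 := rfl
theorem L106439 : sm ga N14198 = N14085 := ded_10_1 (flp_e L105800) (flp_a L90392) L106437
theorem L106441 : sm gc N14198 = N14083 := ded_19_1 (flp_e L105793) L90395 L106437
theorem L106443 : sm gg N14198 = N14198 := ded_26_2 (flp_e L106437) L90394 L106437
theorem L106444 : sm gd N11107 = N14199 := rfl
theorem L106447 : sm gg N11111 = N14200 := rfl
theorem L106453 : sm gb N14200 = N13651 := ded_17_1 (flp_g L103714) L88985 (flp_g L40611) L90430 L106447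
theorem L106455 : sm ge N11114 = N14201 := rfl
theorem L106459 : sm gc N14201 = N13825 := ded_19_1 (flp_e L104718) L90462 L106455
theorem L106463 : sm gg N14201 = N11121 := ded_26_2 (flp_e L90496) (flp_g L90460) L106455
theorem L106465 : sm gd N11115 = N14202 := rfl
theorem L106467 : sm gg N14202 = N11122 := ded_24_2 (flp_d L90503) (flp_g L90468) L106465
theorem L106493 : sm gf N11117 = N14207 := rfl
theorem L106495 : sm ge N14207 = N11118 := ded_25_1 (flp_f L90480) L90474 L106493
theorem L106516 : sm gd N11121 = N14211 := rfl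
theorem L106521 : sm ge N14211 = N11122 := ded_22_2 (flp_d L90503) (flp_e L40831) L40825 L90496 L106516
theorem L106574 : sm gg N11129 = N14219 := rfl
theorem L106578 : sm gf N11487 = N14219 := ded_29_0 (flp_g L106574) L90562 (flp_g L100585) L100583
theorem L106617 : sm ga N11136 = N14226 := rfl
theorem L106619 : sm gc N11136 = N14227 := rfl
theorem L106621 : sm ge N11136 = N14228 := rfl
theorem L106623 : sm gb N14228 = N11137 := ded_15_1 (flp_e L90602) L90600 L106621
theorem L106625 : sm gf N11136 = N14229 := rfl
theorem L106627 : sm gg N11136 = N14230 := rfl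
theorem L106629 : sm gd N11137 = N14231 := rfl
theorem L106631 : sm ga N14231 = N11140 := ded_9_1 (flp_d L90614) (flp_a L90604) L106629
theorem L106633 : sm gf N11137 = N14232 := rfl
theorem L106635 : sm ga N14232 = N11141 := ded_11_1 (flp_f L90618) (flp_a L90604) L106633
theorem L106637 : sm ge N14232 = N11138 := ded_25_1 (flp_f L90606) L90602 L106633
theorem L106639 : sm gg N11137 = N14233 := rfl
theorem L106641 : sm ga N14233 = N11142 := ded_12_1 (flp_g L90624) (flp_a L90604) L106639
theorem L106643 : sm ge N14233 = N11139 := ded_26_1 (flp_g L90610) L90602 L106639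
theorem L106645 : sm gb N11138 = N14234 := rfl
theorem L106647 : sm gb N11139 = N14235 := rfl
theorem L106649 : sm gc N11140 = N14236 := rfl
theorem L106651 : sm gf N11140 = N14237 := rfl
theorem L106653 : sm gd N14237 = N11141 := ded_23_1 (flp_f L90618) L90614 L106651
theorem L106655 : sm gb N14237 = N11887 := ded_16_1 (flp_f L94506) L83855 (flp_f L41280) (flp_b L90616) L106651
theorem L106657 : sm gg N11140 = N14238 := rfl
theorem L106659 : sm gd N14238 = N11142 := ded_24_1 (flp_g L90624) L90614 L106657
theorem L106661 : sm gg N11141 = N14239 := rfl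
theorem L106663 : sm ge N14239 = N11143 := ded_26_1 (flp_g L90628) (flp_e L90620) L106661
theorem L106665 : sm gf N14233 = N14239 := ded_29_0 (flp_g L106661) (flp_f L90618) L90624 (flp_a L106641)
theorem L106667 : sm gb N11142 = N14240 := rfl
theorem L106669 : sm ge N14240 = N11144 := ded_15_2 (flp_b L90632) (flp_e L90626) L106667
theorem L106671 : sm gg N14240 = N11147 := ded_17_2 (flp_b L90646) (flp_g L41282) (flp_b L41270) L90624 L106667
theorem L106673 : sm gf N11142 = N14241 := rfl
theorem L106675 : sm ga N14241 = N14239 := ded_11_1 (flp_f L106665) L106641 L106673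
theorem L106677 : sm ge N14241 = N11145 := ded_25_1 (flp_f L90636) (flp_e L90626) L106673
theorem L106679 : sm gg N14241 = N14232 := ded_29_3 L106635 (flp_f L90618) L90624 L106673
theorem L106681 : sm gb N11143 = N14242 := rfl
theorem L106683 : sm gg N14242 = N11892 := ded_17_2 (flp_b L94534) (flp_g L83865) (flp_b L41274) L90628 L106681
theorem L106685 : sm ga N11144 = N14243 := rfl
theorem L106687 : sm gg N14243 = N11148 := ded_12_2 (flp_a L90650) (flp_g L90634) L106685
theorem L106689 : sm gc N11144 = N14244 := rfl
theorem L106691 : sm gg N14244 = N11149 := ded_21_2 (flp_c L90652) (flp_g L90634) L106689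
theorem L106693 : sm gf N11144 = N14245 := rfl
theorem L106695 : sm gb N11145 = N14246 := rfl
theorem L106697 : sm gb N11146 = N14247 := rfl
theorem L106699 : sm gd N14247 = N11147 := ded_14_2 (flp_b L90646) (flp_d L90644) L106697
theorem L106701 : sm ga N11147 = N14248 := rfl
theorem L106703 : sm ge N14248 = N11148 := ded_10_2 (flp_a L90650) (flp_e L90648) L106701
theorem L106705 : sm gc N11147 = N14249 := rfl
theorem L106707 : sm ge N14249 = N11149 := ded_19_2 (flp_c L90652) (flp_e L90648) L106705
theorem L106709 : sm gb N14249 = N11152 := ded_13_1 (flp_c L90664) (flp_b L41290) (flp_c L41284) L90646 L106705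
theorem L106711 : sm gf N11147 = N14250 := rfl
theorem L106713 : sm ge N14250 = N11150 := ded_25_1 (flp_f L90656) (flp_e L90648) L106711
theorem L106715 : sm gb N11148 = N14251 := rfl
theorem L106717 : sm gc N11148 = N14252 := rfl
theorem L106719 : sm ga N14252 = N11149 := ded_8_1 (flp_c L90652) L90650 L106717
theorem L106721 : sm gf N11148 = N14253 := rfl
theorem L106723 : sm ga N14253 = N11150 := ded_11_1 (flp_f L90656) L90650 L106721
theorem L106725 : sm gg N14245 = N14253 := ded_29_1 (flp_f L106721) (flp_g L106687) (flp_a L106685) L106693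
theorem L106727 : sm gd N11149 = N14254 := rfl
theorem L106729 : sm gb N14254 = N11156 := ded_14_1 (flp_d L90688) (flp_b L90654) L106727
theorem L106731 : sm gf N11149 = N14255 := rfl
theorem L106733 : sm gc N14255 = N11150 := ded_20_1 (flp_f L90656) L90652 L106731
theorem L106735 : sm gg N11150 = N14256 := rfl
theorem L106737 : sm ga N14256 = N14245 := ded_12_1 L106725 L106723 L106735
theorem L106739 : sm gf N14243 = N14256 := ded_29_0 (flp_g L106735) (flp_f L90656) (flp_g L90634) L106685
theorem L106741 : sm gc N11151 = N14257 := rfl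
theorem L106743 : sm ga N14257 = N11152 := ded_8_1 (flp_c L90664) L90658 L106741
theorem L106745 : sm ge N14257 = N11154 := ded_19_2 (flp_c L90676) (flp_e L90662) L106741
theorem L106759 : sm gd N11152 = N14259 := rfl
theorem L106761 : sm gf N11152 = N14260 := rfl
theorem L106763 : sm gc N14260 = N11153 := ded_20_1 (flp_f L90668) L90664 L106761
theorem L106767 : sm gb N11154 = N14261 := rfl
theorem L106769 : sm gd N11154 = N14262 := rfl
theorem L106771 : sm ga N14262 = N11156 := ded_9_1 (flp_d L90688) (flp_a L90678) L106769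
theorem L106773 : sm gc N14262 = N11183 := ded_28_6 (flp_d L90814) (flp_a L90804) (flp_c L90802) L41436 L19706 (flp_d L41298) L90676 L106769
theorem L106775 : sm gf N11154 = N14263 := rfl
theorem L106777 : sm ga N14263 = N11157 := ded_11_1 (flp_f L90690) (flp_a L90678) L106775
theorem L106781 : sm gg N14263 = N14123 := ded_29_3 L106007 (flp_f L105997) L105999 L106775
theorem L106783 : sm gc N11156 = N14264 := rfl
theorem L106785 : sm ga N14264 = N11183 := ded_8_1 (flp_c L106773) L106771 L106783
theorem L106787 : sm gd N14264 = N11181 := ded_28_7 L90804 (flp_c L41438) L19702 L9504 (flp_d L19611) L41300 L90688 L106783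
theorem L106789 : sm ge N11156 = N14265 := rfl
theorem L106791 : sm gf N11156 = N14266 := rfl
theorem L106793 : sm gd N14266 = N11157 := ded_23_1 (flp_f L90690) L90688 L106791
theorem L106795 : sm gb N11157 = N14267 := rfl
theorem L106797 : sm gc N14267 = N14185 := ded_13_2 (flp_b L106366) (flp_c L90347) (flp_b L41306) (flp_c L90692) L106795
theorem L106799 : sm gb N11158 = N14268 := rfl
theorem L106801 : sm gd N14268 = N11965 := ded_14_2 (flp_b L94867) (flp_d L90696) L106799
theorem L106803 : sm ge N11158 = N14269 := rfl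
theorem L106805 : sm ga N14269 = N11159 := ded_10_1 (flp_e L90698) L90694 L106803
theorem L106807 : sm gf N11158 = N14270 := rfl
theorem L106809 : sm ga N14270 = N11160 := ded_11_1 (flp_f L90702) L90694 L106807
theorem L106811 : sm gd N14270 = N11953 := ded_23_1 L94815 (flp_d L90696) L106807
theorem L106813 : sm gg N11158 = N14271 := rfl
theorem L106815 : sm ga N14271 = N11161 := ded_12_1 (flp_g L90708) L90694 L106813
theorem L106817 : sm gd N14271 = N11967 := ded_24_1 (flp_g L94873) (flp_d L90696) L106813
theorem L106819 : sm gd N11159 = N14272 := rfl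
theorem L106821 : sm gb N14272 = N11162 := ded_14_1 (flp_d L90712) (flp_b L90700) L106819
theorem L106823 : sm ge N14272 = N11960 := ded_22_2 L94847 L84051 (flp_d L41324) L90698 L106819
theorem L106825 : sm gf N11159 = N14273 := rfl
theorem L106827 : sm ge N14273 = N11160 := ded_25_1 (flp_f L90702) L90698 L106825
theorem L106829 : sm gb N14273 = N11933 := ded_16_1 (flp_f L94725) L83974 (flp_f L41332) (flp_b L90700) L106825
theorem L106831 : sm gg N11159 = N14274 := rfl
theorem L106833 : sm ge N14274 = N11161 := ded_26_1 (flp_g L90708) L90698 L106831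
theorem L106835 : sm gg N11160 = N14275 := rfl
theorem L106837 : sm gd N14275 = N11955 := ded_24_1 (flp_g L94821) (flp_d L90704) L106835
theorem L106839 : sm gf N14271 = N14275 := ded_29_0 (flp_g L106835) (flp_f L90702) L90708 (flp_a L106815)
theorem L106841 : sm gf N11161 = N14276 := rfl
theorem L106843 : sm ga N14276 = N14275 := ded_11_1 (flp_f L106839) L106815 L106841
theorem L106845 : sm gd N14276 = N11971 := ded_23_1 (flp_f L94893) (flp_d L90710) L106841
theorem L106847 : sm gg N14276 = N14270 := ded_29_3 L106809 (flp_f L90702) L90708 L106841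
theorem L106849 : sm ga N11163 = N14277 := rfl
theorem L106851 : sm gc N11163 = N14278 := rfl
theorem L106853 : sm ge N11163 = N14279 := rfl
theorem L106855 : sm gb N14279 = N11164 := ded_15_1 (flp_e L90722) L90720 L106853
theorem L106857 : sm gf N11163 = N14280 := rfl
theorem L106859 : sm gg N11163 = N14281 := rfl
theorem L106861 : sm gd N11164 = N14282 := rfl
theorem L106863 : sm ga N14282 = N11167 := ded_9_1 (flp_d L90734) (flp_a L90724) L106861
theorem L106865 : sm gf N11164 = N14283 := rfl
theorem L106867 : sm ga N14283 = N11168 := ded_11_1 (flp_f L90738) (flp_a L90724) L106865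
theorem L106869 : sm ge N14283 = N11165 := ded_25_1 (flp_f L90726) L90722 L106865
theorem L106871 : sm gg N11164 = N14284 := rfl
theorem L106873 : sm ga N14284 = N11169 := ded_12_1 (flp_g L90742) (flp_a L90724) L106871
theorem L106875 : sm ge N14284 = N11166 := ded_26_1 (flp_g L90730) L90722 L106871
theorem L106877 : sm gb N11165 = N14285 := rfl
theorem L106879 : sm gb N11166 = N14286 := rfl
theorem L106881 : sm gc N11167 = N14287 := rfl
theorem L106883 : sm gf N11167 = N14288 := rfl
theorem L106885 : sm gd N14288 = N11168 := ded_23_1 (flp_f L90738) L90734 L106883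
theorem L106887 : sm gg N11167 = N14289 := rfl
theorem L106889 : sm gd N14289 = N11169 := ded_24_1 (flp_g L90742) L90734 L106887
theorem L106891 : sm gb N14289 = N11949 := ded_17_1 (flp_g L94789) L84011 (flp_g L41416) (flp_b L90736) L106887
theorem L106893 : sm gb N11168 = N14290 := rfl
theorem L106895 : sm ge N14290 = N11170 := ded_15_2 (flp_b L90748) (flp_e L90740) L106893
theorem L106897 : sm gf N14290 = N11174 := ded_16_2 (flp_b L90770) (flp_f L41418) (flp_b L41406) L90738 L106893
theorem L106899 : sm gg N11168 = N14291 := rfl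
theorem L106901 : sm ge N14291 = N11171 := ded_26_1 (flp_g L90752) (flp_e L90740) L106899
theorem L106903 : sm gf N14284 = N14291 := ded_29_0 (flp_g L106899) (flp_f L90738) L90742 (flp_a L106873)
theorem L106905 : sm gf N11169 = N14292 := rfl
theorem L106907 : sm ga N14292 = N14291 := ded_11_1 (flp_f L106903) L106873 L106905
theorem L106909 : sm ge N14292 = N11172 := ded_25_1 (flp_f L90756) (flp_e L90744) L106905
theorem L106911 : sm gg N14292 = N14283 := ded_29_3 L106867 (flp_f L90738) L90742 L106905
theorem L106913 : sm ga N11170 = N14293 := rfl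
theorem L106915 : sm gf N14293 = N11175 := ded_11_2 (flp_a L90774) (flp_f L90750) L106913
theorem L106917 : sm gc N11170 = N14294 := rfl
theorem L106919 : sm gf N14294 = N11176 := ded_20_2 (flp_c L90776) (flp_f L90750) L106917
theorem L106921 : sm gg N11170 = N14295 := rfl
theorem L106923 : sm gb N11171 = N14296 := rfl
theorem L106925 : sm gb N11172 = N14297 := rfl
theorem L106927 : sm gf N14297 = N11957 := ded_16_2 (flp_b L94825) (flp_f L84029) (flp_b L41412) L90756 L106925
theorem L106929 : sm gb N11173 = N14298 := rfl
theorem L106931 : sm gd N14298 = N11174 := ded_14_2 (flp_b L90770) (flp_d L90766) L106929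
theorem L106933 : sm ga N11174 = N14299 := rfl
theorem L106935 : sm ge N14299 = N11175 := ded_10_2 (flp_a L90774) (flp_e L90772) L106933
theorem L106937 : sm gc N11174 = N14300 := rfl
theorem L106939 : sm ge N14300 = N11176 := ded_19_2 (flp_c L90776) (flp_e L90772) L106937
theorem L106941 : sm gb N14300 = N11179 := ded_13_1 (flp_c L90790) (flp_b L41428) (flp_c L41420) L90770 L106937
theorem L106943 : sm gg N11174 = N14301 := rfl
theorem L106945 : sm ge N14301 = N11177 := ded_26_1 (flp_g L90780) (flp_e L90772) L106943
theorem L106947 : sm gb N14301 = N14274 := ded_17_1 (flp_g L106831) L90700 (flp_g L41424) L90770 L106943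
theorem L106949 : sm gb N11175 = N14302 := rfl
theorem L106951 : sm gc N11175 = N14303 := rfl
theorem L106953 : sm ga N14303 = N11176 := ded_8_1 (flp_c L90776) L90774 L106951
theorem L106955 : sm gg N11175 = N14304 := rfl
theorem L106957 : sm ga N14304 = N11177 := ded_12_1 (flp_g L90780) L90774 L106955
theorem L106959 : sm gf N14304 = N14295 := ded_29_2 (flp_g L106921) L106913 L106915 L106955
theorem L106961 : sm gd N11176 = N14305 := rfl
theorem L106963 : sm gb N14305 = N11183 := ded_14_1 (flp_d L90814) (flp_b L90778) L106961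
theorem L106965 : sm gg N11176 = N14306 := rfl
theorem L106967 : sm gc N14306 = N11177 := ded_21_1 (flp_g L90780) L90776 L106965
theorem L106969 : sm gf N11177 = N14307 := rfl
theorem L106971 : sm ga N14307 = N14295 := ded_11_1 (flp_f L106959) L106957 L106969
theorem L106973 : sm gg N14307 = N14293 := ded_29_3 (flp_a L106913) L90750 L90780 L106969
theorem L106975 : sm gc N11178 = N14308 := rfl
theorem L106977 : sm ga N14308 = N11179 := ded_8_1 (flp_c L90790) L90784 L106975
theorem L106993 : sm gd N11179 = N14310 := rfl
theorem L106995 : sm gg N11179 = N14311 := rfl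
theorem L106997 : sm gc N14311 = N11180 := ded_21_1 (flp_g L90794) L90790 L106995
theorem L106999 : sm ge N14311 = N11184 := ded_26_1 (flp_g L90816) (flp_e L90792) L106995
theorem L107001 : sm gb N11181 = N14312 := rfl
theorem L107003 : sm gg N11181 = N14313 := rfl
theorem L107005 : sm ga N14313 = N11184 := ded_12_1 (flp_g L90816) (flp_a L90804) L107003
theorem L107009 : sm gf N14180 = N14313 := ded_29_0 (flp_g L107003) (flp_f L106316) L106318 (flp_a L106326)
theorem L107011 : sm ge N11183 = N14314 := rfl
theorem L107013 : sm gg N11183 = N14315 := rfl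
theorem L107015 : sm gd N14315 = N11184 := ded_24_1 (flp_g L90816) L90814 L107013
theorem L107017 : sm gb N11184 = N14316 := rfl
theorem L107019 : sm gc N14316 = N14128 := ded_13_2 (flp_b L106045) (flp_c L90167) (flp_b L41444) (flp_c L90818) L107017
theorem L107021 : sm gb N11185 = N14317 := rfl
theorem L107023 : sm gd N14317 = N11904 := ded_14_2 (flp_b L94588) (flp_d L90822) L107021
theorem L107025 : sm ge N11185 = N14318 := rfl
theorem L107027 : sm ga N14318 = N11186 := ded_10_1 (flp_e L90824) L90820 L107025
theorem L107029 : sm gf N11185 = N14319 := rfl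
theorem L107031 : sm ga N14319 = N11187 := ded_11_1 (flp_f L90828) L90820 L107029
theorem L107033 : sm gd N14319 = N11906 := ded_23_1 (flp_f L94594) (flp_d L90822) L107029
theorem L107035 : sm gg N11185 = N14320 := rfl
theorem L107037 : sm ga N14320 = N11188 := ded_12_1 (flp_g L90834) L90820 L107035
theorem L107039 : sm gd N14320 = N11893 := ded_24_1 L94538 (flp_d L90822) L107035
theorem L107041 : sm gd N11186 = N14321 := rfl
theorem L107043 : sm gb N14321 = N11189 := ded_14_1 (flp_d L90840) (flp_b L90826) L107041
theorem L107045 : sm ge N14321 = N11899 := ded_22_2 L94568 L83895 (flp_d L41472) L90824 L107041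
theorem L107047 : sm gf N11186 = N14322 := rfl
theorem L107049 : sm ge N14322 = N11187 := ded_25_1 (flp_f L90828) L90824 L107047
theorem L107051 : sm gb N14322 = N14250 := ded_16_1 (flp_f L106711) (flp_b L90646) (flp_f L41480) (flp_b L90826) L107047
theorem L107053 : sm gg N11186 = N14323 := rfl
theorem L107055 : sm ge N14323 = N11188 := ded_26_1 (flp_g L90834) L90824 L107053
theorem L107057 : sm gb N14323 = N11873 := ded_17_1 (flp_g L94451) L83818 (flp_g L41482) (flp_b L90826) L107053
theorem L107059 : sm gg N11187 = N14324 := rfl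
theorem L107061 : sm gd N14324 = N11910 := ded_24_1 (flp_g L94614) (flp_d L90830) L107059
theorem L107063 : sm gf N14320 = N14324 := ded_29_0 (flp_g L107059) (flp_f L90828) L90834 (flp_a L107037)
theorem L107065 : sm gf N11188 = N14325 := rfl
theorem L107067 : sm ga N14325 = N14324 := ded_11_1 (flp_f L107063) L107037 L107065
theorem L107069 : sm gd N14325 = N11895 := ded_23_1 (flp_f L94544) (flp_d L90836) L107065
theorem L107071 : sm gg N14325 = N14319 := ded_29_3 L107031 (flp_f L90828) L90834 L107065
theorem L107073 : sm gc N11191 = N14326 := rfl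
theorem L107075 : sm ge N14326 = N11980 := ded_19_2 (flp_c L94943) (flp_e L90868) L107073
theorem L107077 : sm gf N14326 = N14311 := ded_20_2 L106997 (flp_f L90866) L107073
theorem L107079 : sm gc N11193 = N14327 := rfl
theorem L107081 : sm ge N14327 = N11919 := ded_19_2 (flp_c L94662) (flp_e L90888) L107079
theorem L107083 : sm gg N14327 = N14260 := ded_21_2 L106763 (flp_g L90886) L107079
theorem L107085 : sm gf N11194 = N14328 := rfl
theorem L107087 : sm ga N14328 = N11195 := ded_11_1 (flp_f L90900) L90890 L107085
theorem L107089 : sm gc N14328 = N11206 := ded_20_1 (flp_f L90981) (flp_c L90892) L107085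
theorem L107091 : sm gd N14328 = N13283 := ded_23_1 (flp_f L101745) (flp_d L90894) L107085
theorem L107093 : sm ge N14328 = N11198 := ded_25_1 (flp_f L90926) (flp_e L90896) L107085
theorem L107095 : sm gg N11194 = N14329 := rfl
theorem L107097 : sm ga N14329 = N11196 := ded_12_1 (flp_g L90909) L90890 L107095
theorem L107099 : sm gc N14329 = N11207 := ded_21_1 (flp_g L90987) (flp_c L90892) L107095
theorem L107101 : sm gd N14329 = N13284 := ded_24_1 (flp_g L101753) (flp_d L90894) L107095
theorem L107103 : sm ge N14329 = N11199 := ded_26_1 (flp_g L90932) (flp_e L90896) L107095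
theorem L107105 : sm gg N11195 = N14330 := rfl
theorem L107107 : sm gc N14330 = N11211 := ded_21_1 (flp_g L91016) (flp_c L90902) L107105
theorem L107109 : sm gd N14330 = N13285 := ded_24_1 (flp_g L101761) (flp_d L90904) L107105
theorem L107111 : sm ge N14330 = N11203 := ded_26_1 (flp_g L90957) (flp_e L90906) L107105
theorem L107113 : sm gf N14329 = N14330 := ded_29_0 (flp_g L107105) (flp_f L90900) L90909 (flp_a L107097)
theorem L107115 : sm gf N11196 = N14331 := rfl
theorem L107117 : sm ga N14331 = N14330 := ded_11_1 (flp_f L107113) L107097 L107115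
theorem L107119 : sm gc N14331 = N11213 := ded_20_1 (flp_f L91029) (flp_c L90911) L107115
theorem L107121 : sm gd N14331 = N13286 := ded_23_1 (flp_f L101769) (flp_d L90913) L107115
theorem L107123 : sm ge N14331 = N11204 := ded_25_1 (flp_f L90963) (flp_e L90915) L107115
theorem L107125 : sm gg N14331 = N14328 := ded_29_3 L107087 (flp_f L90900) L90909 L107115
theorem L107127 : sm gf N11197 = N14332 := rfl
theorem L107129 : sm ga N14332 = N11201 := ded_11_1 (flp_f L90943) (flp_a L90920) L107127
theorem L107131 : sm gd N14332 = N11198 := ded_23_1 (flp_f L90926) L90918 L107127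
theorem L107133 : sm ge N14332 = N13290 := ded_25_1 (flp_f L101793) (flp_e L90924) L107127
theorem L107135 : sm gg N11197 = N14333 := rfl
theorem L107137 : sm ga N14333 = N11202 := ded_12_1 (flp_g L90950) (flp_a L90920) L107135
theorem L107139 : sm gd N14333 = N11199 := ded_24_1 (flp_g L90932) L90918 L107135
theorem L107141 : sm ge N14333 = N13291 := ded_26_1 (flp_g L101799) (flp_e L90924) L107135
theorem L107143 : sm gb N11198 = N14334 := rfl
theorem L107145 : sm gf N14334 = N12348 := ded_16_2 (flp_b L96932) (flp_f L85121) L72428 L90926 L107143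
theorem L107147 : sm gb N11199 = N14335 := rfl
theorem L107149 : sm gg N14335 = N12349 := ded_17_2 (flp_b L96934) (flp_g L85127) L72428 L90932 L107147
theorem L107151 : sm gd N11200 = N14336 := rfl
theorem L107153 : sm gb N14336 = N14336 := ded_14_1 (flp_d L107151) L90942 L107151
theorem L107154 : sm gf N11200 = N14337 := rfl
theorem L107156 : sm gc N14337 = N11201 := ded_20_1 (flp_f L90943) L90938 L107154
theorem L107158 : sm ge N14337 = N13294 := ded_25_1 (flp_f L101809) (flp_e L90940) L107154
theorem L107160 : sm gg N11200 = N14338 := rfl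
theorem L107162 : sm gc N14338 = N11202 := ded_21_1 (flp_g L90950) L90938 L107160
theorem L107164 : sm ge N14338 = N13295 := ded_26_1 (flp_g L101813) (flp_e L90940) L107160
theorem L107166 : sm gg N11201 = N14339 := rfl
theorem L107168 : sm gd N14339 = N11203 := ded_24_1 (flp_g L90957) (flp_d L90945) L107166
theorem L107170 : sm ge N14339 = N13296 := ded_26_1 (flp_g L101817) (flp_e L90947) L107166
theorem L107172 : sm gf N14333 = N14339 := ded_29_0 (flp_g L107166) (flp_f L90943) L90950 (flp_a L107137)
theorem L107174 : sm gf N11202 = N14340 := rfl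
theorem L107176 : sm ga N14340 = N14339 := ded_11_1 (flp_f L107172) L107137 L107174
theorem L107178 : sm gd N14340 = N11204 := ded_23_1 (flp_f L90963) (flp_d L90952) L107174
theorem L107180 : sm ge N14340 = N13297 := ded_25_1 (flp_f L101823) (flp_e L90954) L107174
theorem L107182 : sm gg N14340 = N14332 := ded_29_3 L107129 (flp_f L90943) L90950 L107174
theorem L107184 : sm gb N11203 = N14341 := rfl
theorem L107186 : sm gg N14341 = N14341 := ded_17_2 (flp_b L107184) (flp_g L90957) L70994 L90957 L107184
theorem L107187 : sm gb N11204 = N14342 := rfl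
theorem L107189 : sm gf N14342 = N14342 := ded_16_2 (flp_b L107187) (flp_f L90963) L83337 L90963 L107187
theorem L107190 : sm gf N11205 = N14343 := rfl
theorem L107192 : sm ga N14343 = N11208 := ded_11_1 (flp_f L90993) (flp_a L90977) L107190
theorem L107194 : sm gc N14343 = N11490 := ded_20_1 (flp_f L92418) (flp_c L90975) L107190
theorem L107196 : sm gd N14343 = N11206 := ded_23_1 (flp_f L90981) L90979 L107190
theorem L107198 : sm ge N14343 = N11223 := ded_25_1 (flp_f L91093) (flp_e L90973) L107190
theorem L107200 : sm gg N11205 = N14344 := rfl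
theorem L107202 : sm ga N14344 = N11209 := ded_12_1 (flp_g L91001) (flp_a L90977) L107200
theorem L107204 : sm gc N14344 = N11491 := ded_21_1 (flp_g L92424) (flp_c L90975) L107200
theorem L107206 : sm gd N14344 = N11207 := ded_24_1 (flp_g L90987) L90979 L107200
theorem L107208 : sm ge N14344 = N11224 := ded_26_1 (flp_g L91099) (flp_e L90973) L107200
theorem L107210 : sm gb N11206 = N14345 := rfl
theorem L107212 : sm ge N14345 = N11228 := ded_15_2 (flp_b L91121) (flp_e L90985) L107210
theorem L107214 : sm gb N11207 = N14346 := rfl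
theorem L107216 : sm ge N14346 = N11229 := ded_15_2 (flp_b L91123) (flp_e L90991) L107214
theorem L107218 : sm gb N11208 = N14347 := rfl
theorem L107220 : sm gd N14347 = N11210 := ded_14_2 (flp_b L91009) (flp_d L90997) L107218
theorem L107222 : sm ge N14347 = N11608 := ded_15_2 (flp_b L93125) (flp_e L90999) L107218
theorem L107224 : sm gf N14347 = N11216 := ded_16_2 (flp_b L91057) (flp_f L42676) (flp_b L42658) L90993 L107218
theorem L107226 : sm gg N11208 = N14348 := rfl
theorem L107228 : sm gc N14348 = N11495 := ded_21_1 (flp_g L92448) (flp_c L90995) L107226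
theorem L107230 : sm gd N14348 = N11211 := ded_24_1 (flp_g L91016) (flp_d L90997) L107226
theorem L107232 : sm ge N14348 = N11609 := ded_26_1 (flp_g L93127) (flp_e L90999) L107226
theorem L107234 : sm gf N14344 = N14348 := ded_29_0 (flp_g L107226) (flp_f L90993) L91001 (flp_a L107202)
theorem L107236 : sm gb N11209 = N14349 := rfl
theorem L107238 : sm gd N14349 = N11212 := ded_14_2 (flp_b L91022) (flp_d L91005) L107236
theorem L107240 : sm ge N14349 = N11610 := ded_15_2 (flp_b L93133) (flp_e L91007) L107236
theorem L107242 : sm gg N14349 = N11217 := ded_17_2 (flp_b L91061) (flp_g L42684) (flp_b L42658) L91001 L107236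
theorem L107244 : sm gf N11209 = N14350 := rfl
theorem L107246 : sm ga N14350 = N14348 := ded_11_1 (flp_f L107234) L107202 L107244
theorem L107248 : sm gc N14350 = N11497 := ded_20_1 (flp_f L92460) (flp_c L91003) L107244
theorem L107250 : sm gd N14350 = N11213 := ded_23_1 (flp_f L91029) (flp_d L91005) L107244
theorem L107252 : sm ge N14350 = N11611 := ded_25_1 (flp_f L93135) (flp_e L91007) L107244
theorem L107254 : sm gg N14350 = N14343 := ded_29_3 L107192 (flp_f L90993) L91001 L107244
theorem L107256 : sm ga N11210 = N14351 := rfl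
theorem L107258 : sm gc N14351 = N14351 := ded_8_2 (flp_a L107256) L91013 L107256
theorem L107259 : sm ge N14351 = N11240 := ded_10_2 (flp_a L91181) (flp_e L91011) L107256
theorem L107261 : sm gf N14351 = N11218 := ded_11_2 (flp_a L91065) (flp_f L91014) L107256
theorem L107263 : sm gg N11210 = N14352 := rfl
theorem L107265 : sm gc N14352 = N14352 := ded_21_1 (flp_g L107263) L91013 L107263
theorem L107266 : sm ge N14352 = N11241 := ded_26_1 (flp_g L91186) (flp_e L91011) L107263
theorem L107268 : sm gb N11211 = N14353 := rfl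
theorem L107270 : sm ge N14353 = N11242 := ded_15_2 (flp_b L91189) (flp_e L91018) L107268
theorem L107272 : sm ga N11212 = N14354 := rfl
theorem L107274 : sm gc N14354 = N14354 := ded_8_2 (flp_a L107272) L91026 L107272
theorem L107275 : sm ge N14354 = N11243 := ded_10_2 (flp_a L91191) (flp_e L91024) L107272
theorem L107277 : sm gg N14354 = N11220 := ded_12_2 (flp_a L91075) (flp_g L91027) L107272
theorem L107279 : sm gf N11212 = N14355 := rfl
theorem L107281 : sm gc N14355 = N14355 := ded_20_1 (flp_f L107279) L91026 L107279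
theorem L107282 : sm ge N14355 = N11244 := ded_25_1 (flp_f L91196) (flp_e L91024) L107279
theorem L107284 : sm gb N11213 = N14356 := rfl
theorem L107286 : sm ge N14356 = N11245 := ded_15_2 (flp_b L91199) (flp_e L91033) L107284
theorem L107288 : sm gb N11214 = N14357 := rfl
theorem L107290 : sm gd N14357 = N11246 := ded_14_2 (flp_b L91201) (flp_d L91043) L107288
theorem L107292 : sm ge N14357 = N11216 := ded_15_2 (flp_b L91057) (flp_e L91045) L107288
theorem L107294 : sm gc N14357 = N12391 := ded_13_2 L97106 L91635 (flp_b L91327) (flp_c L91041) L107288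
theorem L107296 : sm gf N14357 = N11608 := ded_16_2 (flp_b L93125) (flp_f L46349) (flp_b L72396) L91037 L107288
theorem L107298 : sm ga N12392 = N14357 := ded_8_3 L107294 (flp_a L97104) L97110
theorem L107300 : sm gb N11215 = N14358 := rfl
theorem L107302 : sm gd N14358 = N11247 := ded_14_2 (flp_b L91205) (flp_d L91053) L107300
theorem L107304 : sm ge N14358 = N11217 := ded_15_2 (flp_b L91061) (flp_e L91055) L107300
theorem L107306 : sm gg N14358 = N11610 := ded_17_2 (flp_b L93133) (flp_g L46353) (flp_b L72396) L91047 L107300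
theorem L107308 : sm ga N11216 = N14359 := rfl
theorem L107310 : sm gd N14359 = N11218 := ded_9_2 (flp_a L91065) (flp_d L91059) L107308
theorem L107312 : sm ge N14359 = N12392 := ded_10_2 L107298 L107292 L107308
theorem L107314 : sm gc N12071 = N14359 := ded_19_3 L107312 (flp_c L97110) (flp_e L95428)
theorem L107316 : sm gc N11216 = N14360 := rfl
theorem L107318 : sm ga N14360 = N12071 := ded_8_1 L107314 (flp_a L107308) L107316
theorem L107320 : sm ge N14360 = N12391 := ded_19_2 (flp_c L107294) L107292 L107316
theorem L107322 : sm gb N14360 = N11275 := ded_13_1 (flp_c L91367) (flp_b L43360) (flp_c L42680) L91057 L107316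
theorem L107324 : sm gg N11216 = N14361 := rfl
theorem L107326 : sm gd N14361 = N11219 := ded_24_1 (flp_g L91070) (flp_d L91059) L107324
theorem L107328 : sm ga N11217 = N14362 := rfl
theorem L107330 : sm gd N14362 = N11220 := ded_9_2 (flp_a L91075) (flp_d L91063) L107328
theorem L107332 : sm gc N11217 = N14363 := rfl
theorem L107334 : sm gb N14363 = N11279 := ded_13_1 (flp_c L91381) (flp_b L43370) (flp_c L42688) L91061 L107332
theorem L107336 : sm gf N11217 = N14364 := rfl
theorem L107338 : sm gd N14364 = N11221 := ded_23_1 (flp_f L91080) (flp_d L91063) L107336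
theorem L107340 : sm gb N11218 = N14365 := rfl
theorem L107342 : sm ge N14365 = N11254 := ded_15_2 (flp_b L91233) (flp_e L91068) L107340
theorem L107344 : sm gg N11218 = N14366 := rfl
theorem L107346 : sm ga N14366 = N11219 := ded_12_1 (flp_g L91070) L91065 L107344
theorem L107348 : sm gc N14366 = N14366 := ded_21_1 (flp_g L107344) L91067 L107344
theorem L107349 : sm ge N14366 = N11255 := ded_26_1 (flp_g L91235) (flp_e L91068) L107344
theorem L107351 : sm gf N14366 = N14352 := ded_29_2 (flp_g L107263) L107256 L107261 L107344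
theorem L107353 : sm gf N11219 = N14367 := rfl
theorem L107355 : sm ga N14367 = N14352 := ded_11_1 (flp_f L107351) L107346 L107353
theorem L107357 : sm gc N14367 = N14367 := ded_20_1 (flp_f L107353) L91072 L107353
theorem L107358 : sm ge N14367 = N11256 := ded_25_1 (flp_f L91242) (flp_e L91073) L107353
theorem L107360 : sm gg N14367 = N14351 := ded_29_3 (flp_a L107256) L91014 L91070 L107353
theorem L107362 : sm gb N11220 = N14368 := rfl
theorem L107364 : sm ge N14368 = N11257 := ded_15_2 (flp_b L91249) (flp_e L91078) L107362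
theorem L107366 : sm gf N11220 = N14369 := rfl
theorem L107368 : sm ga N14369 = N11221 := ded_11_1 (flp_f L91080) L91075 L107366
theorem L107370 : sm gc N14369 = N14369 := ded_20_1 (flp_f L107366) L91077 L107366
theorem L107371 : sm ge N14369 = N11258 := ded_25_1 (flp_f L91251) (flp_e L91078) L107366
theorem L107373 : sm gg N14355 = N14369 := ded_29_1 (flp_f L107366) (flp_g L107277) (flp_a L107272) L107279
theorem L107375 : sm gg N11221 = N14370 := rfl
theorem L107377 : sm ga N14370 = N14355 := ded_12_1 L107373 L107368 L107375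
theorem L107379 : sm gc N14370 = N14370 := ded_21_1 (flp_g L107375) L91082 L107375
theorem L107380 : sm ge N14370 = N11259 := ded_26_1 (flp_g L91258) (flp_e L91083) L107375
theorem L107382 : sm gf N14354 = N14370 := ded_29_0 (flp_g L107375) (flp_f L91080) (flp_g L91027) L107272
theorem L107384 : sm gf N11222 = N14371 := rfl
theorem L107386 : sm ga N14371 = N11234 := ded_11_1 (flp_f L91143) (flp_a L91087) L107384
theorem L107388 : sm gd N14371 = N11223 := ded_23_1 (flp_f L91093) L91085 L107384
theorem L107390 : sm ge N14371 = N11226 := ded_25_1 (flp_f L91109) (flp_e L91091) L107384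
theorem L107392 : sm gg N11222 = N14372 := rfl
theorem L107394 : sm ga N14372 = N11235 := ded_12_1 (flp_g L91149) (flp_a L91087) L107392
theorem L107396 : sm gd N14372 = N11224 := ded_24_1 (flp_g L91099) L91085 L107392
theorem L107398 : sm ge N14372 = N11227 := ded_26_1 (flp_g L91115) (flp_e L91091) L107392
theorem L107400 : sm gb N11223 = N14373 := rfl
theorem L107402 : sm gf N14373 = N11228 := ded_16_2 (flp_b L91121) (flp_f L42900) L42894 L91093 L107400
theorem L107404 : sm gb N11224 = N14374 := rfl
theorem L107406 : sm gg N14374 = N11229 := ded_17_2 (flp_b L91123) (flp_g L42904) L42894 L91099 L107404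
theorem L107408 : sm gb N11225 = N14375 := rfl
theorem L107410 : sm ga N14375 = N14375 := ded_7_1 (flp_b L107408) L91107 L42910 (flp_a L88504) L88510 L88504 (flp_b L42910) (flp_a L91107) L107408
theorem L107411 : sm gd N11225 = N14376 := rfl
theorem L107413 : sm ga N14376 = N11230 := ded_9_1 (flp_d L91125) (flp_a L91107) L107411
theorem L107415 : sm gc N14376 = N14336 := ded_28_6 (flp_d L107151) (flp_a L102906) L102908 (flp_d L90918) L42498 L42896 L91105 L107411
theorem L107417 : sm gf N11225 = N14377 := rfl
theorem L107419 : sm ga N14377 = N11232 := ded_11_1 (flp_f L91135) (flp_a L91107) L107417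
theorem L107421 : sm gc N14377 = N11226 := ded_20_1 (flp_f L91109) L91105 L107417
theorem L107423 : sm gg N11225 = N14378 := rfl
theorem L107425 : sm ga N14378 = N11233 := ded_12_1 (flp_g L91139) (flp_a L91107) L107423
theorem L107427 : sm gc N14378 = N11227 := ded_21_1 (flp_g L91115) L91105 L107423
theorem L107429 : sm gb N11226 = N14379 := rfl
theorem L107431 : sm gd N14379 = N11228 := ded_14_2 (flp_b L91121) (flp_d L91113) L107429
theorem L107433 : sm gb N11227 = N14380 := rfl
theorem L107435 : sm gd N14380 = N11229 := ded_14_2 (flp_b L91123) (flp_d L91119) L107433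
theorem L107437 : sm ga N11228 = N14381 := rfl
theorem L107439 : sm gc N11228 = N14382 := rfl
theorem L107441 : sm gg N11228 = N14383 := rfl
theorem L107443 : sm ga N11229 = N14384 := rfl
theorem L107445 : sm gc N11229 = N14385 := rfl
theorem L107447 : sm gf N11229 = N14386 := rfl
theorem L107449 : sm gc N11230 = N14387 := rfl
theorem L107451 : sm ga N14387 = N14336 := ded_8_1 (flp_c L107415) L107413 L107449
theorem L107453 : sm gd N14387 = N13479 := ded_28_7 L102906 (flp_c L90938) (flp_d L42500) L20225 L20515 L42908 L91125 L107449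
theorem L107455 : sm ge N13482 = N14387 := ded_22_0 L107453 (flp_e L102904) (flp_d L88546) L88552 L102926
theorem L107457 : sm ge N11230 = N14388 := rfl
theorem L107459 : sm gb N14388 = N13479 := ded_15_1 (flp_e L102904) (flp_b L91127) L107457
theorem L107461 : sm gc N14388 = N13482 := ded_19_1 L107455 (flp_c L107449) L107457
theorem L107463 : sm gf N11230 = N14389 := rfl
theorem L107465 : sm gd N14389 = N11232 := ded_23_1 (flp_f L91135) L91125 L107463
theorem L107467 : sm gg N11230 = N14390 := rfl
theorem L107469 : sm gd N14390 = N11233 := ded_24_1 (flp_g L91139) L91125 L107467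
theorem L107471 : sm gf N11231 = N14391 := rfl
theorem L107473 : sm gc N14391 = N11234 := ded_20_1 (flp_f L91143) (flp_c L91133) L107471
theorem L107475 : sm ge N14391 = N11232 := ded_25_1 (flp_f L91135) L91129 L107471
theorem L107477 : sm gg N11231 = N14392 := rfl
theorem L107479 : sm gc N14392 = N11235 := ded_21_1 (flp_g L91149) (flp_c L91133) L107477
theorem L107481 : sm ge N14392 = N11233 := ded_26_1 (flp_g L91139) L91129 L107477
theorem L107483 : sm gb N11232 = N14393 := rfl
theorem L107485 : sm gf N14393 = N13485 := ded_16_2 (flp_b L102942) (flp_f L88556) (flp_b L42910) L91135 L107483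
theorem L107487 : sm gg N11232 = N14394 := rfl
theorem L107489 : sm gc N14394 = N11237 := ded_21_1 (flp_g L91161) (flp_c L91137) L107487
theorem L107491 : sm gf N14378 = N14394 := ded_29_0 (flp_g L107487) (flp_f L91135) L91139 (flp_a L107425)
theorem L107493 : sm gb N11233 = N14395 := rfl
theorem L107495 : sm gg N14395 = N13487 := ded_17_2 (flp_b L102950) (flp_g L88560) (flp_b L42910) L91139 L107493
theorem L107497 : sm gf N11233 = N14396 := rfl
theorem L107499 : sm ga N14396 = N14394 := ded_11_1 (flp_f L107491) L107425 L107497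
theorem L107501 : sm gc N14396 = N11239 := ded_20_1 (flp_f L91173) (flp_c L91141) L107497
theorem L107503 : sm gg N14396 = N14377 := ded_29_3 L107419 (flp_f L91135) L91139 L107497
theorem L107505 : sm gb N11234 = N14397 := rfl
theorem L107507 : sm gd N14397 = N11608 := ded_14_2 (flp_b L93125) (flp_d L91145) L107505
theorem L107509 : sm ge N14397 = N11236 := ded_15_2 (flp_b L91155) (flp_e L91147) L107505
theorem L107511 : sm gf N14397 = N11246 := ded_16_2 (flp_b L91201) (flp_f L42942) (flp_b L42914) L91143 L107505
theorem L107513 : sm gg N11234 = N14398 := rfl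
theorem L107515 : sm gd N14398 = N11609 := ded_24_1 (flp_g L93127) (flp_d L91145) L107513
theorem L107517 : sm ge N14398 = N11237 := ded_26_1 (flp_g L91161) (flp_e L91147) L107513
theorem L107519 : sm gf N14372 = N14398 := ded_29_0 (flp_g L107513) (flp_f L91143) L91149 (flp_a L107394)
theorem L107521 : sm gb N11235 = N14399 := rfl
theorem L107523 : sm gd N14399 = N11610 := ded_14_2 (flp_b L93133) (flp_d L91151) L107521
theorem L107525 : sm ge N14399 = N11238 := ded_15_2 (flp_b L91167) (flp_e L91153) L107521
theorem L107527 : sm gg N14399 = N11247 := ded_17_2 (flp_b L91205) (flp_g L42950) (flp_b L42914) L91149 L107521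
theorem L107529 : sm gf N11235 = N14400 := rfl
theorem L107531 : sm ga N14400 = N14398 := ded_11_1 (flp_f L107519) L107394 L107529
theorem L107533 : sm gd N14400 = N11611 := ded_23_1 (flp_f L93135) (flp_d L91151) L107529
theorem L107535 : sm ge N14400 = N11239 := ded_25_1 (flp_f L91173) (flp_e L91153) L107529
theorem L107537 : sm gg N14400 = N14371 := ded_29_3 L107386 (flp_f L91143) L91149 L107529
theorem L107539 : sm ga N11236 = N14401 := rfl
theorem L107541 : sm gd N14401 = N11240 := ded_9_2 (flp_a L91181) (flp_d L91157) L107539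
theorem L107543 : sm gf N14401 = N11248 := ded_11_2 (flp_a L91209) (flp_f L91159) L107539
theorem L107545 : sm gc N11236 = N14402 := rfl
theorem L107547 : sm gf N14402 = N11249 := ded_20_2 (flp_c L91213) (flp_f L91159) L107545
theorem L107549 : sm gg N11236 = N14403 := rfl
theorem L107551 : sm gd N14403 = N11241 := ded_24_1 (flp_g L91186) (flp_d L91157) L107549
theorem L107553 : sm gb N11237 = N14404 := rfl
theorem L107555 : sm gd N14404 = N11242 := ded_14_2 (flp_b L91189) (flp_d L91163) L107553
theorem L107557 : sm ga N11238 = N14405 := rfl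
theorem L107559 : sm gd N14405 = N11243 := ded_9_2 (flp_a L91191) (flp_d L91169) L107557
theorem L107561 : sm gg N14405 = N11251 := ded_12_2 (flp_a L91221) (flp_g L91171) L107557
theorem L107563 : sm gc N11238 = N14406 := rfl
theorem L107565 : sm gg N14406 = N11252 := ded_21_2 (flp_c L91225) (flp_g L91171) L107563
theorem L107567 : sm gf N11238 = N14407 := rfl
theorem L107569 : sm gd N14407 = N11244 := ded_23_1 (flp_f L91196) (flp_d L91169) L107567
theorem L107571 : sm gb N11239 = N14408 := rfl
theorem L107573 : sm gd N14408 = N11245 := ded_14_2 (flp_b L91199) (flp_d L91177) L107571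
theorem L107575 : sm gb N11240 = N14409 := rfl
theorem L107577 : sm gb N11241 = N14410 := rfl
theorem L107579 : sm gg N14410 = N11242 := ded_17_2 (flp_b L91189) (flp_g L42928) L42924 L91186 L107577
theorem L107581 : sm ga N11242 = N14411 := rfl
theorem L107583 : sm gc N11242 = N14412 := rfl
theorem L107585 : sm gf N11242 = N14413 := rfl
theorem L107587 : sm gb N14413 = N14386 := ded_16_1 (flp_f L107447) (flp_b L91123) L42930 L91189 L107585
theorem L107589 : sm gb N11243 = N14414 := rfl
theorem L107591 : sm gb N11244 = N14415 := rfl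
theorem L107593 : sm gf N14415 = N11245 := ded_16_2 (flp_b L91199) (flp_f L42936) L42932 L91196 L107591
theorem L107595 : sm ga N11245 = N14416 := rfl
theorem L107597 : sm gc N11245 = N14417 := rfl
theorem L107599 : sm gg N11245 = N14418 := rfl
theorem L107601 : sm gb N14418 = N14383 := ded_17_1 (flp_g L107441) (flp_b L91121) (flp_g L42940) L91199 L107599
theorem L107603 : sm ga N11246 = N14419 := rfl
theorem L107605 : sm gd N14419 = N12392 := ded_9_2 L107298 L107290 L107603
theorem L107607 : sm ge N14419 = N11248 := ded_10_2 (flp_a L91209) (flp_e L91203) L107603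
theorem L107609 : sm gc N11246 = N14420 := rfl
theorem L107611 : sm ge N14420 = N11249 := ded_19_2 (flp_c L91213) (flp_e L91203) L107609
theorem L107613 : sm gb N14420 = N13518 := ded_13_1 (flp_c L103090) (flp_b L88626) (flp_c L42946) L91201 L107609
theorem L107615 : sm gg N11246 = N14421 := rfl
theorem L107617 : sm ge N14421 = N11250 := ded_26_1 (flp_g L91217) (flp_e L91203) L107615
theorem L107619 : sm ga N11247 = N14422 := rfl
theorem L107621 : sm ge N14422 = N11251 := ded_10_2 (flp_a L91221) (flp_e L91207) L107619
theorem L107623 : sm gc N11247 = N14423 := rfl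
theorem L107625 : sm ge N14423 = N11252 := ded_19_2 (flp_c L91225) (flp_e L91207) L107623
theorem L107627 : sm gb N14423 = N13522 := ded_13_1 (flp_c L103108) (flp_b L88640) (flp_c L42954) L91205 L107623
theorem L107629 : sm gf N11247 = N14424 := rfl
theorem L107631 : sm ge N14424 = N11253 := ded_25_1 (flp_f L91229) (flp_e L91207) L107629
theorem L107633 : sm gb N11248 = N14425 := rfl
theorem L107635 : sm gd N14425 = N11254 := ded_14_2 (flp_b L91233) (flp_d L91211) L107633
theorem L107637 : sm gc N11248 = N14426 := rfl
theorem L107639 : sm ga N14426 = N11249 := ded_8_1 (flp_c L91213) L91209 L107637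
theorem L107641 : sm gg N11248 = N14427 := rfl
theorem L107643 : sm ga N14427 = N11250 := ded_12_1 (flp_g L91217) L91209 L107641
theorem L107645 : sm gd N14427 = N11255 := ded_24_1 (flp_g L91235) (flp_d L91211) L107641
theorem L107647 : sm gf N14427 = N14403 := ded_29_2 (flp_g L107549) L107539 L107543 L107641
theorem L107649 : sm gd N11249 = N14428 := rfl
theorem L107651 : sm gb N14428 = N13528 := ded_14_1 (flp_d L103138) (flp_b L91215) L107649
theorem L107653 : sm gg N11249 = N14429 := rfl
theorem L107655 : sm gc N14429 = N11250 := ded_21_1 (flp_g L91217) L91213 L107653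
theorem L107657 : sm gf N11250 = N14430 := rfl
theorem L107659 : sm ga N14430 = N14403 := ded_11_1 (flp_f L107647) L107643 L107657
theorem L107661 : sm gd N14430 = N11256 := ded_23_1 (flp_f L91242) (flp_d L91219) L107657
theorem L107663 : sm gg N14430 = N14401 := ded_29_3 (flp_a L107539) L91159 L91217 L107657
theorem L107665 : sm gb N11251 = N14431 := rfl
theorem L107667 : sm gd N14431 = N11257 := ded_14_2 (flp_b L91249) (flp_d L91223) L107665
theorem L107669 : sm gc N11251 = N14432 := rfl
theorem L107671 : sm ga N14432 = N11252 := ded_8_1 (flp_c L91225) L91221 L107669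
theorem L107673 : sm gf N11251 = N14433 := rfl
theorem L107675 : sm ga N14433 = N11253 := ded_11_1 (flp_f L91229) L91221 L107673
theorem L107677 : sm gd N14433 = N11258 := ded_23_1 (flp_f L91251) (flp_d L91223) L107673
theorem L107679 : sm gg N14407 = N14433 := ded_29_1 (flp_f L107673) (flp_g L107561) (flp_a L107557) L107567
theorem L107681 : sm gd N11252 = N14434 := rfl
theorem L107683 : sm gb N14434 = N13538 := ded_14_1 (flp_d L103188) (flp_b L91227) L107681
theorem L107685 : sm gf N11252 = N14435 := rfl
theorem L107687 : sm gc N14435 = N11253 := ded_20_1 (flp_f L91229) L91225 L107685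
theorem L107689 : sm gg N11253 = N14436 := rfl
theorem L107691 : sm ga N14436 = N14407 := ded_12_1 L107679 L107675 L107689
theorem L107693 : sm gd N14436 = N11259 := ded_24_1 (flp_g L91258) (flp_d L91231) L107689
theorem L107695 : sm gf N14405 = N14436 := ded_29_0 (flp_g L107689) (flp_f L91229) (flp_g L91171) L107557
theorem L107697 : sm ga N11254 = N14437 := rfl
theorem L107699 : sm gb N14437 = N11388 := ded_7_2 (flp_a L91940) (flp_b L44155) (flp_a L21199) (flp_b L10169) (flp_a L9875) L20545 L42966 L91233 L107697
theorem L107701 : sm gc N11254 = N14438 := rfl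
theorem L107704 : sm gf N11254 = N14439 := rfl
theorem L107706 : sm gg N11254 = N14440 := rfl
theorem L107708 : sm gb N11255 = N14441 := rfl
theorem L107710 : sm gb N11256 = N14442 := rfl
theorem L107712 : sm ga N11257 = N14443 := rfl
theorem L107714 : sm gb N14443 = N11410 := ded_7_2 (flp_a L92021) (flp_b L44195) (flp_a L21209) (flp_b L10177) (flp_a L9881) L20547 L42974 L91249 L107712
theorem L107716 : sm gc N11257 = N14444 := rfl
theorem L107719 : sm gf N11257 = N14445 := rfl
theorem L107721 : sm gg N11257 = N14446 := rfl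
theorem L107723 : sm gb N11258 = N14447 := rfl
theorem L107725 : sm gb N11259 = N14448 := rfl
theorem L107727 : sm ga N11260 = N14449 := rfl
theorem L107729 : sm gd N14449 = N11262 := ded_9_2 (flp_a L91281) (flp_d L91267) L107727
theorem L107731 : sm ge N14449 = N11322 := ded_10_2 (flp_a L91621) (flp_e L91269) L107727
theorem L107733 : sm gf N14449 = N11274 := ded_11_2 (flp_a L91363) (flp_f L91271) L107727
theorem L107735 : sm gc N12111 = N14449 := ded_19_3 L107731 (flp_c L91627) (flp_e L95624)
theorem L107737 : sm gc N11260 = N14450 := rfl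
theorem L107739 : sm ga N14450 = N12111 := ded_8_1 L107735 (flp_a L107727) L107737
theorem L107741 : sm ge N14450 = N11323 := ded_19_2 (flp_c L91650) (flp_e L91269) L107737
theorem L107743 : sm gf N14450 = N11275 := ded_20_2 (flp_c L91367) (flp_f L91271) L107737
theorem L107745 : sm gb N14450 = N11504 := ded_13_1 (flp_c L92509) (flp_b L45150) (flp_c L43290) L91265 L107737
theorem L107747 : sm gg N11260 = N14451 := rfl
theorem L107749 : sm gd N14451 = N11264 := ded_24_1 (flp_g L91295) (flp_d L91267) L107747
theorem L107751 : sm ge N14451 = N11324 := ded_26_1 (flp_g L91658) (flp_e L91269) L107747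
theorem L107753 : sm ga N11261 = N14452 := rfl
theorem L107755 : sm gd N14452 = N11266 := ded_9_2 (flp_a L91303) (flp_d L91275) L107753
theorem L107757 : sm ge N14452 = N11325 := ded_10_2 (flp_a L91660) (flp_e L91277) L107753
theorem L107759 : sm gg N14452 = N11278 := ded_12_2 (flp_a L91377) (flp_g L91279) L107753
theorem L107761 : sm gc N11261 = N14453 := rfl
theorem L107763 : sm ge N14453 = N11326 := ded_19_2 (flp_c L91662) (flp_e L91277) L107761
theorem L107765 : sm gg N14453 = N11279 := ded_21_2 (flp_c L91381) (flp_g L91279) L107761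
theorem L107767 : sm gb N14453 = N11507 := ded_13_1 (flp_c L92525) (flp_b L45154) (flp_c L43298) L91273 L107761
theorem L107769 : sm gf N11261 = N14454 := rfl
theorem L107771 : sm gd N14454 = N11268 := ded_23_1 (flp_f L91317) (flp_d L91275) L107769
theorem L107773 : sm ge N14454 = N11327 := ded_25_1 (flp_f L91666) (flp_e L91277) L107769
theorem L107775 : sm gb N11262 = N14455 := rfl
theorem L107777 : sm ge N14455 = N11336 := ded_15_2 (flp_b L91706) (flp_e L91283) L107775
theorem L107779 : sm gc N11262 = N14456 := rfl
theorem L107781 : sm ga N14456 = N11263 := ded_8_1 (flp_c L91287) L91281 L107779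
theorem L107783 : sm ge N14456 = N11337 := ded_19_2 (flp_c L91708) (flp_e L91283) L107779
theorem L107785 : sm gf N14456 = N11283 := ded_20_2 (flp_c L91395) (flp_f L91285) L107779
theorem L107787 : sm gd N11263 = N14457 := rfl
theorem L107789 : sm gb N14457 = N11523 := ded_14_1 (flp_d L92629) (flp_b L91293) L107787
theorem L107791 : sm gf N14457 = N11285 := ded_23_2 (flp_d L91409) (flp_f L91291) L107787
theorem L107793 : sm gg N11263 = N14458 := rfl
theorem L107795 : sm gc N14458 = N11264 := ded_21_1 (flp_g L91295) L91287 L107793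
theorem L107797 : sm ge N14458 = N11339 := ded_26_1 (flp_g L91720) (flp_e L91289) L107793
theorem L107799 : sm gb N11264 = N14459 := rfl
theorem L107801 : sm ge N14459 = N11340 := ded_15_2 (flp_b L91724) (flp_e L91297) L107799
theorem L107803 : sm gg N14459 = N11265 := ded_17_2 (flp_b L91299) (flp_g L43324) L43318 L91295 L107799
theorem L107805 : sm ga N11265 = N14460 := rfl
theorem L107807 : sm ge N14460 = N11341 := ded_10_2 (flp_a L91728) (flp_e L91301) L107805
theorem L107809 : sm gc N11265 = N14461 := rfl
theorem L107811 : sm ge N14461 = N11342 := ded_19_2 (flp_c L91730) (flp_e L91301) L107809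
theorem L107813 : sm gb N14461 = N11527 := ded_13_1 (flp_c L92649) (flp_b L45223) (flp_c L43326) L91299 L107809
theorem L107815 : sm gf N11265 = N14462 := rfl
theorem L107817 : sm ge N14462 = N11343 := ded_25_1 (flp_f L91734) (flp_e L91301) L107815
theorem L107819 : sm gb N14462 = N14454 := ded_16_1 (flp_f L107769) (flp_b L91273) L43330 L91299 L107815
theorem L107821 : sm gb N11266 = N14463 := rfl
theorem L107823 : sm ge N14463 = N11344 := ded_15_2 (flp_b L91738) (flp_e L91305) L107821
theorem L107825 : sm gc N11266 = N14464 := rfl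
theorem L107827 : sm ga N14464 = N11267 := ded_8_1 (flp_c L91309) L91303 L107825
theorem L107829 : sm ge N14464 = N11345 := ded_19_2 (flp_c L91740) (flp_e L91305) L107825
theorem L107831 : sm gg N14464 = N11293 := ded_21_2 (flp_c L91453) (flp_g L91307) L107825
theorem L107833 : sm gd N11267 = N14465 := rfl
theorem L107835 : sm gb N14465 = N11531 := ded_14_1 (flp_d L92671) (flp_b L91315) L107833
theorem L107837 : sm gg N14465 = N11295 := ded_24_2 (flp_d L91467) (flp_g L91313) L107833
theorem L107839 : sm gf N11267 = N14466 := rfl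
theorem L107841 : sm gc N14466 = N11268 := ded_20_1 (flp_f L91317) L91309 L107839
theorem L107843 : sm ge N14466 = N11347 := ded_25_1 (flp_f L91752) (flp_e L91311) L107839
theorem L107845 : sm gb N11268 = N14467 := rfl
theorem L107847 : sm gd N14467 = N14462 := ded_14_2 L107819 L107771 L107845
theorem L107849 : sm ge N14467 = N11348 := ded_15_2 (flp_b L91756) (flp_e L91319) L107845
theorem L107851 : sm gf N14467 = N11269 := ded_16_2 (flp_b L91321) (flp_f L43338) L43332 L91317 L107845
theorem L107853 : sm ga N11269 = N14468 := rfl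
theorem L107855 : sm gd N14468 = N14460 := ded_9_2 (flp_a L107805) (flp_d L91323) L107853
theorem L107857 : sm ge N14468 = N11349 := ded_10_2 (flp_a L91760) (flp_e L91325) L107853
theorem L107859 : sm gc N11269 = N14469 := rfl
theorem L107861 : sm ge N14469 = N11350 := ded_19_2 (flp_c L91762) (flp_e L91325) L107859
theorem L107863 : sm gb N14469 = N11535 := ded_13_1 (flp_c L92691) (flp_b L45243) (flp_c L43342) L91321 L107859
theorem L107865 : sm gg N11269 = N14470 := rfl
theorem L107867 : sm gd N14470 = N14459 := ded_24_1 L107803 (flp_d L91323) L107865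
theorem L107869 : sm ge N14470 = N11351 := ded_26_1 (flp_g L91766) (flp_e L91325) L107865
theorem L107871 : sm gb N14470 = N14451 := ded_17_1 (flp_g L107747) (flp_b L91265) (flp_g L43346) L91321 L107865
theorem L107873 : sm gg N11270 = N14471 := rfl
theorem L107875 : sm ga N14471 = N12420 := ded_12_1 (flp_g L97218) (flp_a L91625) L107873
theorem L107877 : sm gc N14471 = N12418 := ded_21_1 (flp_g L97208) L91635 L107873
theorem L107879 : sm gd N14471 = N11362 := ded_24_1 (flp_g L91820) (flp_d L91329) L107873
theorem L107881 : sm ge N14471 = N11276 := ded_26_1 (flp_g L91369) (flp_e L91331) L107873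
theorem L107883 : sm gb N11271 = N14472 := rfl
theorem L107885 : sm gd N14472 = N11363 := ded_14_2 (flp_b L91824) (flp_d L91337) L107883
theorem L107887 : sm ge N14472 = N11277 := ded_15_2 (flp_b L91373) (flp_e L91339) L107883
theorem L107889 : sm ga N11272 = N14473 := rfl
theorem L107891 : sm gd N14473 = N11364 := ded_9_2 (flp_a L91828) (flp_d L91345) L107889
theorem L107893 : sm ge N14473 = N11278 := ded_10_2 (flp_a L91377) (flp_e L91347) L107889
theorem L107895 : sm gg N14473 = N11325 := ded_12_2 (flp_a L91660) (flp_g L91349) L107889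
theorem L107897 : sm gc N11272 = N14474 := rfl
theorem L107899 : sm ge N14474 = N11279 := ded_19_2 (flp_c L91381) (flp_e L91347) L107897
theorem L107903 : sm gf N11272 = N14475 := rfl
theorem L107905 : sm gd N14475 = N11366 := ded_23_1 (flp_f L91836) (flp_d L91345) L107903
theorem L107907 : sm ge N14475 = N11280 := ded_25_1 (flp_f L91383) (flp_e L91347) L107903
theorem L107909 : sm gb N11273 = N14476 := rfl
theorem L107911 : sm gd N14476 = N11367 := ded_14_2 (flp_b L91840) (flp_d L91357) L107909
theorem L107913 : sm ge N14476 = N11281 := ded_15_2 (flp_b L91387) (flp_e L91359) L107909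
theorem L107915 : sm gb N11274 = N14477 := rfl
theorem L107917 : sm gd N14477 = N11282 := ded_14_2 (flp_b L91391) (flp_d L91365) L107915
theorem L107919 : sm ge N14477 = N12419 := ded_15_2 (flp_b L97214) L91637 L107915
theorem L107921 : sm gc N14477 = N12113 := ded_13_2 (flp_b L95632) (flp_c L84477) L84473 (flp_c L91646) L107915
theorem L107923 : sm gg N11274 = N14478 := rfl
theorem L107925 : sm ga N14478 = N11276 := ded_12_1 (flp_g L91369) L91363 L107923
theorem L107927 : sm gc N14478 = N12112 := ded_21_1 (flp_g L95628) (flp_c L91646) L107923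
theorem L107929 : sm gd N14478 = N11284 := ded_24_1 (flp_g L91401) (flp_d L91365) L107923
theorem L107931 : sm ge N14478 = N12420 := ded_26_1 (flp_g L97218) L91637 L107923
theorem L107933 : sm gf N14478 = N14451 := ded_29_2 (flp_g L107747) L107727 L107733 L107923
theorem L107935 : sm gd N11275 = N14479 := rfl
theorem L107937 : sm ga N14479 = N12095 := ded_9_1 L95552 L91648 L107935
theorem L107939 : sm gg N11275 = N14480 := rfl
theorem L107941 : sm ga N14480 = N12112 := ded_12_1 (flp_g L95628) L91648 L107939
theorem L107943 : sm gc N14480 = N11276 := ded_21_1 (flp_g L91369) L91367 L107939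
theorem L107945 : sm ge N14480 = N12418 := ded_26_1 (flp_g L97208) (flp_e L91644) L107939
theorem L107947 : sm gb N11276 = N14481 := rfl
theorem L107949 : sm gd N14481 = N11287 := ded_14_2 (flp_b L91419) (flp_d L91371) L107947
theorem L107951 : sm gg N14481 = N11277 := ded_17_2 (flp_b L91373) (flp_g L43364) L43360 L91369 L107947
theorem L107953 : sm gf N11276 = N14482 := rfl
theorem L107955 : sm ga N14482 = N14451 := ded_11_1 (flp_f L107933) L107925 L107953
theorem L107957 : sm gd N14482 = N11288 := ded_23_1 (flp_f L91425) (flp_d L91371) L107953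
theorem L107959 : sm gg N14482 = N14449 := ded_29_3 (flp_a L107727) L91271 L91369 L107953
theorem L107961 : sm ga N11277 = N14483 := rfl
theorem L107963 : sm gd N14483 = N11289 := ded_9_2 (flp_a L91433) (flp_d L91375) L107961
theorem L107965 : sm gc N11277 = N14484 := rfl
theorem L107967 : sm gf N11277 = N14485 := rfl
theorem L107969 : sm gd N14485 = N11291 := ded_23_1 (flp_f L91443) (flp_d L91375) L107967
theorem L107971 : sm gb N14485 = N14364 := ded_16_1 (flp_f L107336) (flp_b L91061) L43368 L91373 L107967
theorem L107973 : sm gb N11278 = N14486 := rfl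
theorem L107975 : sm gd N14486 = N11292 := ded_14_2 (flp_b L91449) (flp_d L91379) L107973
theorem L107977 : sm gc N11278 = N14487 := rfl
theorem L107979 : sm ga N14487 = N11279 := ded_8_1 (flp_c L91381) L91377 L107977
theorem L107981 : sm gf N11278 = N14488 := rfl
theorem L107983 : sm ga N14488 = N11280 := ded_11_1 (flp_f L91383) L91377 L107981
theorem L107985 : sm gd N14488 = N11294 := ded_23_1 (flp_f L91459) (flp_d L91379) L107981
theorem L107987 : sm gg N14454 = N14488 := ded_29_1 (flp_f L107981) (flp_g L107759) (flp_a L107753) L107769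
theorem L107989 : sm gd N11279 = N14489 := rfl
theorem L107991 : sm gf N11279 = N14490 := rfl
theorem L107993 : sm gc N14490 = N11280 := ded_20_1 (flp_f L91383) L91381 L107991
theorem L107995 : sm gb N11280 = N14491 := rfl
theorem L107997 : sm gd N14491 = N11297 := ded_14_2 (flp_b L91477) (flp_d L91385) L107995
theorem L107999 : sm gf N14491 = N11281 := ded_16_2 (flp_b L91387) (flp_f L43374) L43370 L91383 L107995
theorem L108001 : sm gg N11280 = N14492 := rfl
theorem L108003 : sm ga N14492 = N14454 := ded_12_1 L107987 L107983 L108001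
theorem L108005 : sm gd N14492 = N11298 := ded_24_1 (flp_g L91483) (flp_d L91385) L108001
theorem L108007 : sm gf N14452 = N14492 := ded_29_0 (flp_g L108001) (flp_f L91383) (flp_g L91279) L107753
theorem L108009 : sm ga N11281 = N14493 := rfl
theorem L108011 : sm gd N14493 = N11299 := ded_9_2 (flp_a L91491) (flp_d L91389) L108009
theorem L108013 : sm gc N11281 = N14494 := rfl
theorem L108015 : sm gb N14494 = N14484 := ded_13_1 (flp_c L107965) (flp_b L91373) (flp_c L43378) L91387 L108013
theorem L108017 : sm gg N11281 = N14495 := rfl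
theorem L108019 : sm gd N14495 = N11301 := ded_24_1 (flp_g L91501) (flp_d L91389) L108017
theorem L108021 : sm gb N14495 = N14361 := ded_17_1 (flp_g L107324) (flp_b L91057) (flp_g L43382) L91387 L108017
theorem L108023 : sm ga N11282 = N14496 := rfl
theorem L108025 : sm ge N14496 = N11388 := ded_10_2 (flp_a L91940) (flp_e L91393) L108023
theorem L108027 : sm gc N11282 = N14497 := rfl
theorem L108029 : sm ge N14497 = N11389 := ded_19_2 (flp_c L91942) (flp_e L91393) L108027
theorem L108031 : sm gf N11282 = N14498 := rfl
theorem L108033 : sm ge N14498 = N11390 := ded_25_1 (flp_f L91944) (flp_e L91393) L108031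
theorem L108035 : sm gg N11282 = N14499 := rfl
theorem L108037 : sm ge N14499 = N11391 := ded_26_1 (flp_g L91946) (flp_e L91393) L108035
theorem L108039 : sm gb N11283 = N14500 := rfl
theorem L108041 : sm ge N14500 = N11392 := ded_15_2 (flp_b L91948) (flp_e L91399) L108039
theorem L108043 : sm gd N11283 = N14501 := rfl
theorem L108045 : sm ga N14501 = N11285 := ded_9_1 (flp_d L91409) (flp_a L91397) L108043
theorem L108047 : sm gg N11283 = N14502 := rfl

end Cfsg.Agent.Helper28.SzbA
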