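import Cfsg.Agent.Helper28.SzbB10

/-! # The Suzuki group presentation, cosets of the subgroup generated by a, b, c, d, f, g: the coset enumeration, part 11 (helper28; generated) -/

set_option autoImplicit false

noncomputable section

namespace Cfsg.Agent.Helper28.SzbA

open Cfsg.Agent.Helper28.CosetTable

theorem L108049 : sm ga N14502 = N11286 := ded_12_1 (flp_g L91413) (flp_a L91397) L108047
theorem L108051 : sm gc N14502 = N11284 := ded_21_1 (flp_g L91401) L91395 L108047
theorem L108053 : sm ge N14502 = N11394 := ded_26_1 (flp_g L91954) (flp_e L91399) L108047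
theorem L108055 : sm gf N14502 = N14458 := ded_29_2 (flp_g L107793) (flp_a L107781) L107785 L108047
theorem L108057 : sm gb N11284 = N14503 := rfl
theorem L108059 : sm ge N14503 = N11395 := ded_15_2 (flp_b L91962) (flp_e L91405) L108057
theorem L108061 : sm gc N11285 = N14504 := rfl
theorem L108063 : sm gb N14504 = N11556 := ded_13_1 (flp_c L92825) L45301 (flp_c L69695) (flp_b L91411) L108061
theorem L108065 : sm ge N11285 = N14505 := rfl
theorem L108067 : sm gb N14505 = N11302 := ded_15_1 (flp_e L91507) (flp_b L91411) L108065
theorem L108069 : sm gd N14505 = N11397 := ded_22_1 (flp_e L91966) (flp_d L44167) (flp_e L43390) L91409 L108065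
theorem L108071 : sm gg N11285 = N14506 := rfl
theorem L108073 : sm gd N14506 = N11286 := ded_24_1 (flp_g L91413) L91409 L108071
theorem L108075 : sm gf N11286 = N14507 := rfl
theorem L108077 : sm ga N14507 = N14458 := ded_11_1 (flp_f L108055) L108049 L108075
theorem L108079 : sm gc N14507 = N11288 := ded_20_1 (flp_f L91425) (flp_c L91415) L108075
theorem L108081 : sm ge N14507 = N11399 := ded_25_1 (flp_f L91974) (flp_e L91417) L108075
theorem L108083 : sm gg N14507 = N14456 := ded_29_3 L107781 L91291 L91413 L108075
theorem L108085 : sm ga N11287 = N14508 := rfl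
theorem L108087 : sm ge N14508 = N11400 := ded_10_2 (flp_a L91982) (flp_e L91421) L108085
theorem L108089 : sm gg N14508 = N11289 := ded_12_2 (flp_a L91433) (flp_g L91423) L108085
theorem L108091 : sm gc N11287 = N14509 := rfl
theorem L108093 : sm ge N14509 = N11401 := ded_19_2 (flp_c L91986) (flp_e L91421) L108091
theorem L108095 : sm gg N14509 = N11290 := ded_21_2 (flp_c L91437) (flp_g L91423) L108091
theorem L108097 : sm gf N11287 = N14510 := rfl
theorem L108099 : sm ge N14510 = N11402 := ded_25_1 (flp_f L91990) (flp_e L91421) L108097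
theorem L108101 : sm gb N11288 = N14511 := rfl
theorem L108103 : sm ge N14511 = N11403 := ded_15_2 (flp_b L91992) (flp_e L91429) L108101
theorem L108105 : sm gb N11289 = N14512 := rfl
theorem L108107 : sm ge N14512 = N11404 := ded_15_2 (flp_b L91994) (flp_e L91435) L108105
theorem L108109 : sm gc N11289 = N14513 := rfl
theorem L108111 : sm ga N14513 = N11290 := ded_8_1 (flp_c L91437) L91433 L108109
theorem L108113 : sm ge N14513 = N11405 := ded_19_2 (flp_c L91996) (flp_e L91435) L108109
theorem L108115 : sm gf N11289 = N14514 := rfl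
theorem L108117 : sm ga N14514 = N11291 := ded_11_1 (flp_f L91443) L91433 L108115
theorem L108119 : sm ge N14514 = N11406 := ded_25_1 (flp_f L92000) (flp_e L91435) L108115
theorem L108121 : sm gg N14510 = N14514 := ded_29_1 (flp_f L108115) (flp_g L108089) (flp_a L108085) L108097
theorem L108123 : sm gd N11290 = N14515 := rfl
theorem L108125 : sm gb N14515 = N11304 := ded_14_1 (flp_d L91522) (flp_b L91441) L108123
theorem L108127 : sm gf N11290 = N14516 := rfl
theorem L108129 : sm gc N14516 = N11291 := ded_20_1 (flp_f L91443) L91437 L108127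
theorem L108131 : sm ge N14516 = N11408 := ded_25_1 (flp_f L92010) (flp_e L91439) L108127
theorem L108133 : sm gb N14516 = N14516 := ded_16_1 (flp_f L108127) L91441 L83391 (flp_b L91441) L108127
theorem L108134 : sm gg N11291 = N14517 := rfl
theorem L108136 : sm ga N14517 = N14510 := ded_12_1 L108121 L108117 L108134
theorem L108138 : sm ge N14517 = N11409 := ded_26_1 (flp_g L92015) (flp_e L91445) L108134
theorem L108140 : sm gf N14508 = N14517 := ded_29_0 (flp_g L108134) (flp_f L91443) (flp_g L91423) L108085
theorem L108142 : sm ga N11292 = N14518 := rfl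
theorem L108144 : sm ge N14518 = N11410 := ded_10_2 (flp_a L92021) (flp_e L91451) L108142
theorem L108146 : sm gc N11292 = N14519 := rfl
theorem L108148 : sm ge N14519 = N11411 := ded_19_2 (flp_c L92023) (flp_e L91451) L108146
theorem L108150 : sm gf N11292 = N14520 := rfl
theorem L108152 : sm ge N14520 = N11412 := ded_25_1 (flp_f L92025) (flp_e L91451) L108150
theorem L108154 : sm gg N11292 = N14521 := rfl
theorem L108156 : sm ge N14521 = N11413 := ded_26_1 (flp_g L92027) (flp_e L91451) L108154
theorem L108158 : sm gb N11293 = N14522 := rfl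
theorem L108160 : sm ge N14522 = N11414 := ded_15_2 (flp_b L92029) (flp_e L91457) L108158
theorem L108162 : sm gd N11293 = N14523 := rfl
theorem L108164 : sm ga N14523 = N11295 := ded_9_1 (flp_d L91467) (flp_a L91455) L108162
theorem L108166 : sm gf N11293 = N14524 := rfl
theorem L108168 : sm ga N14524 = N11296 := ded_11_1 (flp_f L91471) (flp_a L91455) L108166
theorem L108170 : sm gc N14524 = N11294 := ded_20_1 (flp_f L91459) L91453 L108166
theorem L108172 : sm ge N14524 = N11416 := ded_25_1 (flp_f L92035) (flp_e L91457) L108166
theorem L108174 : sm gg N14466 = N14524 := ded_29_1 (flp_f L108166) (flp_g L107831) L107827 L107839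
theorem L108176 : sm gb N11294 = N14525 := rfl
theorem L108178 : sm ge N14525 = N11417 := ded_15_2 (flp_b L92043) (flp_e L91463) L108176
theorem L108180 : sm gc N11295 = N14526 := rfl
theorem L108182 : sm gb N14526 = N11570 := ded_13_1 (flp_c L92897) L45337 (flp_c L82459) (flp_b L91469) L108180
theorem L108184 : sm ge N11295 = N14527 := rfl
theorem L108186 : sm gb N14527 = N11305 := ded_15_1 (flp_e L91525) (flp_b L91469) L108184
theorem L108188 : sm gd N14527 = N11419 := ded_22_1 (flp_e L92047) (flp_d L44207) (flp_e L43408) L91467 L108184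
theorem L108190 : sm gf N11295 = N14528 := rfl
theorem L108192 : sm gd N14528 = N11296 := ded_23_1 (flp_f L91471) L91467 L108190
theorem L108194 : sm gg N11296 = N14529 := rfl
theorem L108196 : sm ga N14529 = N14466 := ded_12_1 L108174 L108168 L108194
theorem L108198 : sm gc N14529 = N11298 := ded_21_1 (flp_g L91483) (flp_c L91473) L108194
theorem L108200 : sm ge N14529 = N11421 := ded_26_1 (flp_g L92055) (flp_e L91475) L108194
theorem L108202 : sm gf N14464 = N14529 := ded_29_0 (flp_g L108194) (flp_f L91471) (flp_g L91313) (flp_a L107827)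
theorem L108204 : sm ga N11297 = N14530 := rfl
theorem L108206 : sm ge N14530 = N11422 := ded_10_2 (flp_a L92063) (flp_e L91479) L108204
theorem L108208 : sm gf N14530 = N11299 := ded_11_2 (flp_a L91491) (flp_f L91481) L108204
theorem L108210 : sm gc N11297 = N14531 := rfl
theorem L108212 : sm ge N14531 = N11423 := ded_19_2 (flp_c L92067) (flp_e L91479) L108210
theorem L108214 : sm gf N14531 = N11300 := ded_20_2 (flp_c L91495) (flp_f L91481) L108210
theorem L108216 : sm gg N11297 = N14532 := rfl
theorem L108218 : sm ge N14532 = N11424 := ded_26_1 (flp_g L92071) (flp_e L91479) L108216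
theorem L108220 : sm gb N11298 = N14533 := rfl
theorem L108222 : sm ge N14533 = N11425 := ded_15_2 (flp_b L92073) (flp_e L91487) L108220
theorem L108224 : sm gb N11299 = N14534 := rfl
theorem L108226 : sm ge N14534 = N11426 := ded_15_2 (flp_b L92075) (flp_e L91493) L108224
theorem L108228 : sm gc N11299 = N14535 := rfl
theorem L108230 : sm ga N14535 = N11300 := ded_8_1 (flp_c L91495) L91491 L108228
theorem L108232 : sm ge N14535 = N11427 := ded_19_2 (flp_c L92077) (flp_e L91493) L108228
theorem L108234 : sm gg N11299 = N14536 := rfl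
theorem L108236 : sm ga N14536 = N11301 := ded_12_1 (flp_g L91501) L91491 L108234
theorem L108238 : sm ge N14536 = N11428 := ded_26_1 (flp_g L92081) (flp_e L91493) L108234
theorem L108240 : sm gf N14536 = N14532 := ded_29_2 (flp_g L108216) L108204 L108208 L108234
theorem L108242 : sm gd N11300 = N14537 := rfl
theorem L108244 : sm gb N14537 = N11307 := ded_14_1 (flp_d L91540) (flp_b L91499) L108242
theorem L108246 : sm gg N11300 = N14538 := rfl
theorem L108248 : sm gc N14538 = N11301 := ded_21_1 (flp_g L91501) L91495 L108246
theorem L108250 : sm ge N14538 = N11430 := ded_26_1 (flp_g L92091) (flp_e L91497) L108246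
theorem L108252 : sm gb N14538 = N14538 := ded_17_1 (flp_g L108246) L91499 L72041 (flp_b L91499) L108246
theorem L108253 : sm gf N11301 = N14539 := rfl
theorem L108255 : sm ga N14539 = N14532 := ded_11_1 (flp_f L108240) L108236 L108253
theorem L108257 : sm ge N14539 = N11431 := ded_25_1 (flp_f L92096) (flp_e L91503) L108253
theorem L108259 : sm gg N14539 = N14530 := ded_29_3 (flp_a L108204) L91481 L91501 L108253
theorem L108261 : sm gb N11303 = N14540 := rfl
theorem L108263 : sm ge N14540 = N11434 := ded_15_2 (flp_b L92114) (flp_e L91519) L108261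
theorem L108265 : sm gc N14540 = N11591 := ded_13_2 (flp_b L93007) L45467 (flp_b L70506) L91515 L108261
theorem L108267 : sm gd N11303 = N14541 := rfl
theorem L108269 : sm ga N14541 = N11304 := ded_9_1 (flp_d L91522) (flp_a L91517) L108267
theorem L108271 : sm gf N14541 = N14541 := ded_23_2 (flp_d L108267) L91521 L108267
theorem L108272 : sm gc N11304 = N14542 := rfl
theorem L108274 : sm gf N14542 = N14542 := ded_20_2 (flp_c L108272) L91524 L108272
theorem L108275 : sm ge N11304 = N14543 := rfl
theorem L108277 : sm gf N14543 = N14543 := ded_25_2 (flp_e L108275) L91524 L108275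
theorem L108278 : sm gd N14543 = N11437 := ded_22_1 (flp_e L92126) (flp_d L44300) (flp_e L43460) L91522 L108275
theorem L108280 : sm gb N11306 = N14544 := rfl
theorem L108282 : sm ge N14544 = N11440 := ded_15_2 (flp_b L92141) (flp_e L91537) L108280
theorem L108284 : sm gc N14544 = N11581 := ded_13_2 (flp_b L92954) L45389 (flp_b L81156) L91533 L108280
theorem L108286 : sm gd N11306 = N14545 := rfl
theorem L108288 : sm ga N14545 = N11307 := ded_9_1 (flp_d L91540) (flp_a L91535) L108286
theorem L108290 : sm gg N14545 = N14545 := ded_24_2 (flp_d L108286) L91539 L108286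
theorem L108291 : sm gc N11307 = N14546 := rfl
theorem L108293 : sm gg N14546 = N14546 := ded_21_2 (flp_c L108291) L91542 L108291
theorem L108294 : sm ge N11307 = N14547 := rfl
theorem L108296 : sm gg N14547 = N14547 := ded_26_2 (flp_e L108294) L91542 L108294
theorem L108297 : sm gd N14547 = N11443 := ded_22_1 (flp_e L92153) (flp_d L44381) (flp_e L43510) L91540 L108294
theorem L108299 : sm gc N11308 = N14548 := rfl
theorem L108301 : sm ga N14548 = N11309 := ded_8_1 (flp_c L91550) (flp_a L91545) L108299
theorem L108303 : sm gf N14548 = N14548 := ded_20_2 (flp_c L108299) L91549 L108299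
theorem L108304 : sm gd N14542 = N14548 := ded_28_1 (flp_c L108299) (flp_d L91543) (flp_c L43593) (flp_d L43454) L91515 L108267 L108269 L108272
theorem L108306 : sm ge N11308 = N14549 := rfl
theorem L108313 : sm gd N14549 = N11314 := ded_22_1 (flp_e L91575) (flp_d L43807) (flp_e L43597) L91543 L108306
theorem L108315 : sm gb N11309 = N14550 := rfl
theorem L108317 : sm gc N14550 = N14550 := ded_13_2 (flp_b L108315) (flp_c L91550) L43601 L91550 L108315
theorem L108318 : sm gd N11309 = N14551 := rfl
theorem L108320 : sm ga N14551 = N14542 := ded_9_1 L108304 L108301 L108318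
theorem L108322 : sm gf N14551 = N14551 := ded_23_2 (flp_d L108318) L91552 L108318
theorem L108323 : sm gc N14541 = N14551 := ded_28_0 (flp_d L108318) (flp_c L91550) (flp_d L43599) (flp_c L20868) (flp_d L20805) L43458 L91522 (flp_a L108269)
theorem L108325 : sm ge N11309 = N14552 := rfl
theorem L108327 : sm gc N14552 = N11310 := ded_19_1 (flp_e L91553) L91550 L108325
theorem L108330 : sm gc N11311 = N14553 := rfl
theorem L108332 : sm ga N14553 = N11312 := ded_8_1 (flp_c L91566) (flp_a L91561) L108330
theorem L108334 : sm gg N14553 = N14553 := ded_21_2 (flp_c L108330) L91565 L108330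
theorem L108335 : sm gd N14546 = N14553 := ded_28_1 (flp_c L108330) (flp_d L91559) (flp_c L43691) (flp_d L43504) L91533 L108286 L108288 L108291
theorem L108337 : sm ge N11311 = N14554 := rfl
theorem L108341 : sm gb N14554 = N12331 := ded_15_1 (flp_e L96811) (flp_b L91563) L108337
theorem L108346 : sm gb N11312 = N14555 := rfl
theorem L108348 : sm gc N14555 = N14555 := ded_13_2 (flp_b L108346) (flp_c L91566) L43699 L91566 L108346
theorem L108349 : sm gd N11312 = N14556 := rfl
theorem L108351 : sm ga N14556 = N14546 := ded_9_1 L108335 L108332 L108349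
theorem L108353 : sm gg N14556 = N14556 := ded_24_2 (flp_d L108349) L91568 L108349
theorem L108354 : sm gc N14545 = N14556 := ded_28_0 (flp_d L108349) (flp_c L91566) (flp_d L43697) (flp_c L20912) (flp_d L20831) L43508 L91540 (flp_a L108288)
theorem L108356 : sm ge N11312 = N14557 := rfl
theorem L108358 : sm gc N14557 = N11313 := ded_19_1 (flp_e L91569) L91566 L108356
theorem L108361 : sm ge N11315 = N14558 := rfl
theorem L108363 : sm gb N14558 = N11316 := ded_15_1 (flp_e L91585) L91582 L108361
theorem L108378 : sm ge N11318 = N14562 := rfl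
theorem L108380 : sm ga N14562 = N14558 := ded_10_1 (flp_e L108361) (flp_a L92376) L108378
theorem L108392 : sm gg N11318 = N14564 := rfl
theorem L108401 : sm ga N11320 = N14566 := rfl
theorem L108403 : sm gd N14566 = N11322 := ded_9_2 (flp_a L91621) (flp_d L91607) L108401
theorem L108405 : sm ge N14566 = N11328 := ded_10_2 (flp_a L91668) (flp_e L91609) L108401
theorem L108407 : sm gf N14566 = N11360 := ded_11_2 (flp_a L91810) (flp_f L91611) L108401
theorem L108409 : sm gc N11320 = N14567 := rfl
theorem L108411 : sm ge N14567 = N11329 := ded_19_2 (flp_c L91674) (flp_e L91609) L108409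
theorem L108413 : sm gf N14567 = N11361 := ded_20_2 (flp_c L91816) (flp_f L91611) L108409
theorem L108415 : sm gb N14567 = N11329 := ded_13_1 (flp_c L91674) (flp_b L44002) (flp_c L43978) L91605 L108409
theorem L108417 : sm gg N11320 = N14568 := rfl
theorem L108419 : sm gd N14568 = N11324 := ded_24_1 (flp_g L91658) (flp_d L91607) L108417
theorem L108421 : sm ge N14568 = N11330 := ded_26_1 (flp_g L91678) (flp_e L91609) L108417
theorem L108423 : sm ga N11321 = N14569 := rfl
theorem L108425 : sm gd N14569 = N11325 := ded_9_2 (flp_a L91660) (flp_d L91615) L108423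
theorem L108429 : sm gg N14569 = N11364 := ded_12_2 (flp_a L91828) (flp_g L91619) L108423
theorem L108431 : sm gc N11321 = N14570 := rfl
theorem L108437 : sm gb N14570 = N11333 := ded_13_1 (flp_c L91692) (flp_b L44014) (flp_c L43986) L91613 L108431
theorem L108439 : sm gf N11321 = N14571 := rfl
theorem L108441 : sm gd N14571 = N11327 := ded_23_1 (flp_f L91666) (flp_d L91615) L108439
theorem L108443 : sm ge N14571 = N11334 := ded_25_1 (flp_f L91696) (flp_e L91617) L108439
theorem L108445 : sm gb N11322 = N14572 := rfl
theorem L108447 : sm gc N14572 = N12502 := ded_13_2 (flp_b L97579) L85404 (flp_b L85252) L91627 L108445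
theorem L108449 : sm gg N11322 = N14573 := rfl
theorem L108451 : sm ga N14573 = N11324 := ded_12_1 (flp_g L91658) L91621 L108449
theorem L108453 : sm gc N14573 = N12421 := ded_21_1 (flp_g L97224) L91627 L108449
theorem L108455 : sm ge N14573 = N14482 := ded_26_1 L107959 L107731 L108449
theorem L108457 : sm gf N14471 = N14573 := ded_29_0 (flp_g L108449) L91623 L97218 (flp_a L107875)
theorem L108459 : sm gb N11325 = N14574 := rfl
theorem L108461 : sm gc N11325 = N14575 := rfl
theorem L108463 : sm ga N14575 = N11326 := ded_8_1 (flp_c L91662) L91660 L108461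
theorem L108465 : sm gf N11325 = N14576 := rfl
theorem L108467 : sm ga N14576 = N11327 := ded_11_1 (flp_f L91666) L91660 L108465
theorem L108469 : sm ge N14576 = N14492 := ded_25_1 (flp_f L108007) L107757 L108465
theorem L108471 : sm gg N14475 = N14576 := ded_29_1 (flp_f L108465) (flp_g L107895) (flp_a L107889) L107903
theorem L108473 : sm gd N11326 = N14577 := rfl
theorem L108475 : sm gb N14577 = N11624 := ded_14_1 (flp_d L93211) (flp_b L91664) L108473
theorem L108477 : sm gf N11326 = N14578 := rfl
theorem L108479 : sm gc N14578 = N11327 := ded_20_1 (flp_f L91666) L91662 L108477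
theorem L108481 : sm gg N11327 = N14579 := rfl
theorem L108483 : sm ga N14579 = N14475 := ded_12_1 L108471 L108467 L108481
theorem L108485 : sm ge N14579 = N14488 := ded_26_1 (flp_g L107987) L107773 L108481
theorem L108487 : sm gf N14473 = N14579 := ded_29_0 (flp_g L108481) (flp_f L91666) (flp_g L91349) L107889
theorem L108489 : sm gb N11328 = N14580 := rfl
theorem L108491 : sm gd N14580 = N11336 := ded_14_2 (flp_b L91706) (flp_d L91670) L108489
theorem L108493 : sm gc N11328 = N14581 := rfl
theorem L108495 : sm ga N14581 = N11329 := ded_8_1 (flp_c L91674) L91668 L108493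
theorem L108497 : sm gf N14581 = N11369 := ded_20_2 (flp_c L91848) (flp_f L91672) L108493
theorem L108499 : sm gd N11329 = N14582 := rfl
theorem L108501 : sm gf N14582 = N11371 := ded_23_2 (flp_d L91860) (flp_f L91676) L108499
theorem L108503 : sm gg N11329 = N14583 := rfl
theorem L108505 : sm gc N14583 = N11330 := ded_21_1 (flp_g L91678) L91674 L108503
theorem L108507 : sm gb N11330 = N14584 := rfl
theorem L108509 : sm gd N14584 = N11340 := ded_14_2 (flp_b L91724) (flp_d L91680) L108507
theorem L108511 : sm gg N14584 = N11331 := ded_17_2 (flp_b L91682) (flp_g L44008) L44002 L91678 L108507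
theorem L108513 : sm ga N11331 = N14585 := rfl
theorem L108515 : sm gd N14585 = N11341 := ded_9_2 (flp_a L91728) (flp_d L91684) L108513
theorem L108517 : sm gc N11331 = N14586 := rfl
theorem L108519 : sm gf N11331 = N14587 := rfl
theorem L108521 : sm gd N14587 = N11343 := ded_23_1 (flp_f L91734) (flp_d L91684) L108519
theorem L108523 : sm gb N14587 = N14571 := ded_16_1 (flp_f L108439) (flp_b L91613) L44012 L91682 L108519
theorem L108525 : sm gb N11332 = N14588 := rfl
theorem L108527 : sm gd N14588 = N11344 := ded_14_2 (flp_b L91738) (flp_d L91688) L108525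
theorem L108529 : sm gc N11332 = N14589 := rfl
theorem L108531 : sm ga N14589 = N11333 := ded_8_1 (flp_c L91692) L91686 L108529
theorem L108533 : sm gg N14589 = N11379 := ded_21_2 (flp_c L91896) (flp_g L91690) L108529
theorem L108535 : sm gd N11333 = N14590 := rfl
theorem L108539 : sm gf N11333 = N14591 := rfl
theorem L108541 : sm gc N14591 = N11334 := ded_20_1 (flp_f L91696) L91692 L108539
theorem L108543 : sm gb N11334 = N14592 := rfl
theorem L108545 : sm gd N14592 = N11348 := ded_14_2 (flp_b L91756) (flp_d L91698) L108543
theorem L108547 : sm ge N14592 = N14587 := ded_15_2 L108523 L108443 L108543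
theorem L108549 : sm gf N14592 = N11335 := ded_16_2 (flp_b L91700) (flp_f L44020) L44014 L91696 L108543
theorem L108551 : sm ga N11335 = N14593 := rfl
theorem L108553 : sm gd N14593 = N11349 := ded_9_2 (flp_a L91760) (flp_d L91702) L108551
theorem L108555 : sm ge N14593 = N14585 := ded_10_2 (flp_a L108513) (flp_e L91704) L108551
theorem L108557 : sm gc N11335 = N14594 := rfl
theorem L108559 : sm ge N14594 = N14586 := ded_19_2 (flp_c L108517) (flp_e L91704) L108557
theorem L108561 : sm gb N14594 = N14586 := ded_13_1 (flp_c L108517) (flp_b L91682) (flp_c L44024) L91700 L108557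
theorem L108563 : sm gg N11335 = N14595 := rfl
theorem L108565 : sm gd N14595 = N11351 := ded_24_1 (flp_g L91766) (flp_d L91702) L108563
theorem L108567 : sm ge N14595 = N14584 := ded_26_1 L108511 (flp_e L91704) L108563
theorem L108569 : sm gb N14595 = N14568 := ded_17_1 (flp_g L108417) (flp_b L91605) (flp_g L44028) L91700 L108563
theorem L108571 : sm ga N11336 = N14596 := rfl
theorem L108573 : sm gc N11336 = N14597 := rfl
theorem L108577 : sm gf N11336 = N14598 := rfl
theorem L108583 : sm gb N14598 = N11390 := ded_16_1 (flp_f L91944) (flp_b L44155) (flp_f L44032) L91706 L108577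
theorem L108585 : sm gg N11336 = N14599 := rfl
theorem L108587 : sm gb N11337 = N14600 := rfl
theorem L108589 : sm gd N11337 = N14601 := rfl
theorem L108591 : sm ga N14601 = N11338 := ded_9_1 (flp_d L91714) (flp_a L91710) L108589
theorem L108593 : sm gf N14601 = N11393 := ded_23_2 (flp_d L91950) (flp_f L91712) L108589
theorem L108595 : sm gc N11338 = N14602 := rfl
theorem L108597 : sm gf N14602 = N11396 := ded_20_2 (flp_c L91964) (flp_f L91718) L108595
theorem L108599 : sm ge N11338 = N14603 := rfl
theorem L108601 : sm gb N14603 = N11634 := ded_15_1 (flp_e L93253) (flp_b L91716) L108599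
theorem L108603 : sm gf N14603 = N11397 := ded_25_2 (flp_e L91966) (flp_f L91718) L108599
theorem L108605 : sm gg N11338 = N14604 := rfl
theorem L108607 : sm gd N14604 = N11339 := ded_24_1 (flp_g L91720) L91714 L108605
theorem L108609 : sm gb N11339 = N14605 := rfl
theorem L108611 : sm gg N14605 = N11636 := ded_17_2 (flp_b L93261) (flp_g L46417) (flp_b L44038) L91720 L108609
theorem L108613 : sm ga N11340 = N14606 := rfl
theorem L108615 : sm gg N14606 = N11341 := ded_12_2 (flp_a L91728) (flp_g L91726) L108613
theorem L108617 : sm gc N11340 = N14607 := rfl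
theorem L108619 : sm gg N14607 = N11342 := ded_21_2 (flp_c L91730) (flp_g L91726) L108617
theorem L108621 : sm gf N11340 = N14608 := rfl
theorem L108623 : sm gb N11341 = N14609 := rfl
theorem L108625 : sm gc N11341 = N14610 := rfl
theorem L108627 : sm ga N14610 = N11342 := ded_8_1 (flp_c L91730) L91728 L108625
theorem L108629 : sm gf N11341 = N14611 := rfl
theorem L108631 : sm ga N14611 = N11343 := ded_11_1 (flp_f L91734) L91728 L108629
theorem L108633 : sm gg N14608 = N14611 := ded_29_1 (flp_f L108629) (flp_g L108615) (flp_a L108613) L108621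
theorem L108635 : sm gd N11342 = N14612 := rfl
theorem L108637 : sm gb N14612 = N11643 := ded_14_1 (flp_d L93297) (flp_b L91732) L108635
theorem L108639 : sm gf N11342 = N14613 := rfl
theorem L108641 : sm gc N14613 = N11343 := ded_20_1 (flp_f L91734) L91730 L108639
theorem L108643 : sm gg N11343 = N14614 := rfl
theorem L108645 : sm ga N14614 = N14608 := ded_12_1 L108633 L108631 L108643
theorem L108647 : sm gf N14606 = N14614 := ded_29_0 (flp_g L108643) (flp_f L91734) (flp_g L91726) L108613
theorem L108649 : sm ga N11344 = N14615 := rfl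
theorem L108651 : sm gc N11344 = N14616 := rfl
theorem L108653 : sm gf N11344 = N14617 := rfl
theorem L108655 : sm gg N11344 = N14618 := rfl
theorem L108657 : sm gb N14618 = N11413 := ded_17_1 (flp_g L92027) (flp_b L44195) (flp_g L44046) L91738 L108655
theorem L108659 : sm gb N11345 = N14619 := rfl
theorem L108661 : sm gd N11345 = N14620 := rfl
theorem L108663 : sm ga N14620 = N11346 := ded_9_1 (flp_d L91746) (flp_a L91742) L108661
theorem L108665 : sm gg N14620 = N11415 := ded_24_2 (flp_d L92031) (flp_g L91744) L108661
theorem L108667 : sm gc N11346 = N14621 := rfl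
theorem L108669 : sm gg N14621 = N11418 := ded_21_2 (flp_c L92045) (flp_g L91750) L108667
theorem L108671 : sm ge N11346 = N14622 := rfl
theorem L108673 : sm gb N14622 = N11653 := ded_15_1 (flp_e L93339) (flp_b L91748) L108671
theorem L108675 : sm gg N14622 = N11419 := ded_26_2 (flp_e L92047) (flp_g L91750) L108671
theorem L108677 : sm gf N11346 = N14623 := rfl
theorem L108679 : sm gd N14623 = N11347 := ded_23_1 (flp_f L91752) L91746 L108677
theorem L108681 : sm gb N11347 = N14624 := rfl
theorem L108683 : sm gf N14624 = N11655 := ded_16_2 (flp_b L93347) (flp_f L46453) (flp_b L44052) L91752 L108681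
theorem L108685 : sm ga N11348 = N14625 := rfl
theorem L108687 : sm gf N14625 = N11349 := ded_11_2 (flp_a L91760) (flp_f L91758) L108685
theorem L108689 : sm gc N11348 = N14626 := rfl
theorem L108691 : sm gf N14626 = N11350 := ded_20_2 (flp_c L91762) (flp_f L91758) L108689
theorem L108693 : sm gg N11348 = N14627 := rfl
theorem L108695 : sm gb N11349 = N14628 := rfl
theorem L108697 : sm gc N11349 = N14629 := rfl
theorem L108699 : sm ga N14629 = N11350 := ded_8_1 (flp_c L91762) L91760 L108697
theorem L108701 : sm gg N11349 = N14630 := rfl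
theorem L108703 : sm ga N14630 = N11351 := ded_12_1 (flp_g L91766) L91760 L108701
theorem L108705 : sm gf N14630 = N14627 := ded_29_2 (flp_g L108693) L108685 L108687 L108701
theorem L108707 : sm gd N11350 = N14631 := rfl
theorem L108709 : sm gb N14631 = N11662 := ded_14_1 (flp_d L93383) (flp_b L91764) L108707
theorem L108711 : sm gg N11350 = N14632 := rfl
theorem L108713 : sm gc N14632 = N11351 := ded_21_1 (flp_g L91766) L91762 L108711
theorem L108715 : sm gf N11351 = N14633 := rfl
theorem L108717 : sm ga N14633 = N14627 := ded_11_1 (flp_f L108705) L108703 L108715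
theorem L108719 : sm gg N14633 = N14625 := ded_29_3 (flp_a L108685) L91758 L91766 L108715
theorem L108721 : sm ga N11352 = N14634 := rfl
theorem L108723 : sm gd N14634 = N13384 := ded_9_2 (flp_a L102417) (flp_d L91772) L108721
theorem L108725 : sm ge N14634 = N11354 := ded_10_2 (flp_a L91786) (flp_e L91774) L108721
theorem L108727 : sm gf N14634 = N11354 := ded_11_2 (flp_a L91786) (flp_f L91776) L108721
theorem L108729 : sm gc N11352 = N14635 := rfl
theorem L108735 : sm gb N14635 = N11361 := ded_13_1 (flp_c L91816) (flp_b L44105) (flp_c L72354) L91770 L108729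
theorem L108737 : sm gg N11352 = N14636 := rfl
theorem L108739 : sm gd N14636 = N13386 := ded_24_1 (flp_g L102426) (flp_d L91772) L108737
theorem L108741 : sm ge N14636 = N11356 := ded_26_1 (flp_g L91794) (flp_e L91774) L108737
theorem L108743 : sm ga N11353 = N14637 := rfl
theorem L108745 : sm gd N14637 = N13388 := ded_9_2 (flp_a L102430) (flp_d L91780) L108743
theorem L108747 : sm ge N14637 = N11357 := ded_10_2 (flp_a L91798) (flp_e L91782) L108743
theorem L108749 : sm gg N14637 = N11357 := ded_12_2 (flp_a L91798) (flp_g L91784) L108743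
theorem L108751 : sm gc N11353 = N14638 := rfl
theorem L108753 : sm ge N14638 = N11358 := ded_19_2 (flp_c L91802) (flp_e L91782) L108751
theorem L108755 : sm gg N14638 = N11358 := ded_21_2 (flp_c L91802) (flp_g L91784) L108751
theorem L108757 : sm gb N14638 = N11365 := ded_13_1 (flp_c L91832) (flp_b L44115) (flp_c L72348) L91778 L108751
theorem L108759 : sm gf N11353 = N14639 := rfl
theorem L108761 : sm gd N14639 = N13390 := ded_23_1 (flp_f L102439) (flp_d L91780) L108759
theorem L108763 : sm ge N14639 = N11359 := ded_25_1 (flp_f L91806) (flp_e L91782) L108759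
theorem L108765 : sm gb N11354 = N14640 := rfl
theorem L108767 : sm gd N14640 = N13392 := ded_14_2 (flp_b L102443) (flp_d L91788) L108765
theorem L108769 : sm gc N11354 = N14641 := rfl
theorem L108771 : sm ga N14641 = N11355 := ded_8_1 (flp_c L91790) L91786 L108769
theorem L108773 : sm gg N11354 = N14642 := rfl
theorem L108775 : sm ga N14642 = N11356 := ded_12_1 (flp_g L91794) L91786 L108773
theorem L108777 : sm gd N14642 = N13394 := ded_24_1 (flp_g L102449) (flp_d L91788) L108773
theorem L108779 : sm gf N14642 = N14636 := ded_29_2 (flp_g L108737) L108721 L108727 L108773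
theorem L108781 : sm gd N11355 = N14643 := rfl
theorem L108783 : sm gb N14643 = N11371 := ded_14_1 (flp_d L91860) (flp_b L91792) L108781
theorem L108785 : sm gg N11355 = N14644 := rfl
theorem L108787 : sm gc N14644 = N11356 := ded_21_1 (flp_g L91794) L91790 L108785
theorem L108789 : sm gf N11356 = N14645 := rfl
theorem L108791 : sm ga N14645 = N14636 := ded_11_1 (flp_f L108779) L108775 L108789
theorem L108793 : sm gd N14645 = N13397 := ded_23_1 (flp_f L102463) (flp_d L91796) L108789
theorem L108795 : sm ge N14645 = N14642 := ded_25_1 L108779 L108741 L108789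
theorem L108797 : sm gg N14645 = N14634 := ded_29_3 (flp_a L108721) L91776 L91794 L108789
theorem L108799 : sm gb N11357 = N14646 := rfl
theorem L108801 : sm gd N14646 = N13398 := ded_14_2 (flp_b L102469) (flp_d L91800) L108799
theorem L108803 : sm gc N11357 = N14647 := rfl
theorem L108805 : sm ga N14647 = N11358 := ded_8_1 (flp_c L91802) L91798 L108803
theorem L108807 : sm gf N11357 = N14648 := rfl
theorem L108809 : sm ga N14648 = N11359 := ded_11_1 (flp_f L91806) L91798 L108807
theorem L108811 : sm gd N14648 = N13400 := ded_23_1 (flp_f L102475) (flp_d L91800) L108807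
theorem L108813 : sm gg N14639 = N14648 := ded_29_1 (flp_f L108807) (flp_g L108749) (flp_a L108743) L108759
theorem L108815 : sm gd N11358 = N14649 := rfl
theorem L108817 : sm gb N14649 = N11381 := ded_14_1 (flp_d L91908) (flp_b L91804) L108815
theorem L108819 : sm gf N11358 = N14650 := rfl
theorem L108821 : sm gc N14650 = N11359 := ded_20_1 (flp_f L91806) L91802 L108819
theorem L108823 : sm gg N11359 = N14651 := rfl
theorem L108825 : sm ga N14651 = N14639 := ded_12_1 L108813 L108809 L108823
theorem L108827 : sm gd N14651 = N13403 := ded_24_1 (flp_g L102489) (flp_d L91808) L108823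
theorem L108829 : sm ge N14651 = N14648 := ded_26_1 (flp_g L108813) L108763 L108823
theorem L108831 : sm gf N14637 = N14651 := ded_29_0 (flp_g L108823) (flp_f L91806) (flp_g L91784) L108743
theorem L108833 : sm gb N11360 = N14652 := rfl
theorem L108835 : sm gd N14652 = N12419 := ded_14_2 (flp_b L97214) (flp_d L91812) L108833
theorem L108837 : sm ge N14652 = N11368 := ded_15_2 (flp_b L91844) (flp_e L91814) L108833
theorem L108839 : sm gc N11360 = N14653 := rfl
theorem L108841 : sm ga N14653 = N11361 := ded_8_1 (flp_c L91816) L91810 L108839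
theorem L108843 : sm ge N14653 = N11369 := ded_19_2 (flp_c L91848) (flp_e L91814) L108839
theorem L108845 : sm gg N11360 = N14654 := rfl
theorem L108847 : sm ga N14654 = N11362 := ded_12_1 (flp_g L91820) L91810 L108845
theorem L108849 : sm gd N14654 = N12420 := ded_24_1 (flp_g L97218) (flp_d L91812) L108845
theorem L108851 : sm ge N14654 = N11370 := ded_26_1 (flp_g L91852) (flp_e L91814) L108845
theorem L108853 : sm gf N14654 = N14568 := ded_29_2 (flp_g L108417) L108401 L108407 L108845
theorem L108855 : sm gd N11361 = N14655 := rfl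
theorem L108857 : sm gg N11361 = N14656 := rfl
theorem L108859 : sm gc N14656 = N11362 := ded_21_1 (flp_g L91820) L91816 L108857
theorem L108861 : sm ge N14656 = N11372 := ded_26_1 (flp_g L91862) (flp_e L91818) L108857
theorem L108863 : sm gb N11362 = N14657 := rfl
theorem L108865 : sm ge N14657 = N11373 := ded_15_2 (flp_b L91866) (flp_e L91822) L108863
theorem L108867 : sm gg N14657 = N11363 := ded_17_2 (flp_b L91824) (flp_g L44109) L44105 L91820 L108863
theorem L108869 : sm gf N11362 = N14658 := rfl
theorem L108871 : sm ga N14658 = N14568 := ded_11_1 (flp_f L108853) L108847 L108869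
theorem L108873 : sm gd N14658 = N14573 := ded_23_1 (flp_f L108457) L107879 L108869
theorem L108875 : sm ge N14658 = N11374 := ded_25_1 (flp_f L91872) (flp_e L91822) L108869
theorem L108877 : sm gg N14658 = N14566 := ded_29_3 (flp_a L108401) L91611 L91820 L108869
theorem L108879 : sm ga N11363 = N14659 := rfl
theorem L108881 : sm ge N14659 = N11375 := ded_10_2 (flp_a L91880) (flp_e L91826) L108879
theorem L108883 : sm gc N11363 = N14660 := rfl
theorem L108885 : sm ge N14660 = N11376 := ded_19_2 (flp_c L91884) (flp_e L91826) L108883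
theorem L108887 : sm gf N11363 = N14661 := rfl
theorem L108889 : sm ge N14661 = N11377 := ded_25_1 (flp_f L91886) (flp_e L91826) L108887
theorem L108891 : sm gb N14661 = N14424 := ded_16_1 (flp_f L107629) (flp_b L91205) L44113 L91824 L108887
theorem L108893 : sm gb N11364 = N14662 := rfl
theorem L108895 : sm ge N14662 = N11378 := ded_15_2 (flp_b L91892) (flp_e L91830) L108893
theorem L108897 : sm gc N11364 = N14663 := rfl
theorem L108899 : sm ga N14663 = N11365 := ded_8_1 (flp_c L91832) L91828 L108897
theorem L108901 : sm ge N14663 = N11379 := ded_19_2 (flp_c L91896) (flp_e L91830) L108897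
theorem L108903 : sm gf N11364 = N14664 := rfl
theorem L108905 : sm ga N14664 = N11366 := ded_11_1 (flp_f L91836) L91828 L108903
theorem L108907 : sm gd N14664 = N14579 := ded_23_1 (flp_f L108487) L107891 L108903
theorem L108909 : sm ge N14664 = N11380 := ded_25_1 (flp_f L91900) (flp_e L91830) L108903
theorem L108911 : sm gg N14571 = N14664 := ded_29_1 (flp_f L108903) (flp_g L108429) (flp_a L108423) L108439
theorem L108913 : sm gd N11365 = N14665 := rfl
theorem L108915 : sm gf N11365 = N14666 := rfl
theorem L108917 : sm gc N14666 = N11366 := ded_20_1 (flp_f L91836) L91832 L108915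
theorem L108919 : sm ge N14666 = N11382 := ded_25_1 (flp_f L91910) (flp_e L91834) L108915
theorem L108921 : sm gb N11366 = N14667 := rfl
theorem L108923 : sm ge N14667 = N11383 := ded_15_2 (flp_b L91914) (flp_e L91838) L108921
theorem L108925 : sm gf N14667 = N11367 := ded_16_2 (flp_b L91840) (flp_f L44119) L44115 L91836 L108921
theorem L108927 : sm gg N11366 = N14668 := rfl
theorem L108929 : sm ga N14668 = N14571 := ded_12_1 L108911 L108905 L108927
theorem L108931 : sm gd N14668 = N14576 := ded_24_1 (flp_g L108471) L107905 L108927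
theorem L108933 : sm ge N14668 = N11384 := ded_26_1 (flp_g L91920) (flp_e L91838) L108927
theorem L108935 : sm gf N14569 = N14668 := ded_29_0 (flp_g L108927) (flp_f L91836) (flp_g L91619) L108423
theorem L108937 : sm ga N11367 = N14669 := rfl
theorem L108939 : sm ge N14669 = N11385 := ded_10_2 (flp_a L91928) (flp_e L91842) L108937
theorem L108941 : sm gc N11367 = N14670 := rfl
theorem L108943 : sm ge N14670 = N11386 := ded_19_2 (flp_c L91932) (flp_e L91842) L108941
theorem L108945 : sm gg N11367 = N14671 := rfl
theorem L108947 : sm ge N14671 = N11387 := ded_26_1 (flp_g L91934) (flp_e L91842) L108945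
theorem L108949 : sm gb N14671 = N14421 := ded_17_1 (flp_g L107615) (flp_b L91201) (flp_g L44125) L91840 L108945
theorem L108951 : sm ga N11368 = N14672 := rfl
theorem L108953 : sm gd N14672 = N11388 := ded_9_2 (flp_a L91940) (flp_d L91846) L108951
theorem L108955 : sm gc N11368 = N14673 := rfl
theorem L108957 : sm gf N11368 = N14674 := rfl
theorem L108959 : sm gd N14674 = N11390 := ded_23_1 (flp_f L91944) (flp_d L91846) L108957
theorem L108961 : sm gg N11368 = N14675 := rfl
theorem L108963 : sm gd N14675 = N11391 := ded_24_1 (flp_g L91946) (flp_d L91846) L108961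
theorem L108965 : sm gb N11369 = N14676 := rfl
theorem L108967 : sm gd N11369 = N14677 := rfl
theorem L108969 : sm ga N14677 = N11371 := ded_9_1 (flp_d L91860) (flp_a L91850) L108967
theorem L108971 : sm gg N11369 = N14678 := rfl
theorem L108973 : sm ga N14678 = N11372 := ded_12_1 (flp_g L91862) (flp_a L91850) L108971
theorem L108975 : sm gc N14678 = N11370 := ded_21_1 (flp_g L91852) L91848 L108971
theorem L108977 : sm gf N14678 = N14583 := ded_29_2 (flp_g L108503) (flp_a L108495) L108497 L108971
theorem L108979 : sm gb N11370 = N14679 := rfl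
theorem L108981 : sm gd N14679 = N11395 := ded_14_2 (flp_b L91962) (flp_d L91856) L108979
theorem L108983 : sm gc N11371 = N14680 := rfl
theorem L108985 : sm ge N11371 = N14681 := rfl
theorem L108987 : sm gg N11371 = N14682 := rfl
theorem L108989 : sm gd N14682 = N11372 := ded_24_1 (flp_g L91862) L91860 L108987
theorem L108991 : sm gb N11372 = N14683 := rfl
theorem L108993 : sm gf N11372 = N14684 := rfl
theorem L108995 : sm ga N14684 = N14583 := ded_11_1 (flp_f L108977) L108973 L108993
theorem L108997 : sm gc N14684 = N11374 := ded_20_1 (flp_f L91872) (flp_c L91864) L108993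
theorem L108999 : sm gg N14684 = N14581 := ded_29_3 L108495 L91676 L91862 L108993
theorem L109001 : sm ga N11373 = N14685 := rfl
theorem L109003 : sm gd N14685 = N11400 := ded_9_2 (flp_a L91982) (flp_d L91868) L109001
theorem L109005 : sm gg N14685 = N11375 := ded_12_2 (flp_a L91880) (flp_g L91870) L109001
theorem L109007 : sm gc N11373 = N14686 := rfl
theorem L109009 : sm gg N14686 = N11376 := ded_21_2 (flp_c L91884) (flp_g L91870) L109007
theorem L109011 : sm gf N11373 = N14687 := rfl
theorem L109013 : sm gd N14687 = N11402 := ded_23_1 (flp_f L91990) (flp_d L91868) L109011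
theorem L109015 : sm gb N11374 = N14688 := rfl
theorem L109017 : sm gd N14688 = N11403 := ded_14_2 (flp_b L91992) (flp_d L91876) L109015
theorem L109019 : sm gb N11375 = N14689 := rfl
theorem L109021 : sm gd N14689 = N11404 := ded_14_2 (flp_b L91994) (flp_d L91882) L109019
theorem L109023 : sm gc N11375 = N14690 := rfl
theorem L109025 : sm ga N14690 = N11376 := ded_8_1 (flp_c L91884) L91880 L109023
theorem L109027 : sm gf N11375 = N14691 := rfl
theorem L109029 : sm ga N14691 = N11377 := ded_11_1 (flp_f L91886) L91880 L109027
theorem L109031 : sm gd N14691 = N11406 := ded_23_1 (flp_f L92000) (flp_d L91882) L109027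
theorem L109033 : sm gg N14687 = N14691 := ded_29_1 (flp_f L109027) (flp_g L109005) (flp_a L109001) L109011
theorem L109035 : sm gd N11376 = N14692 := rfl
theorem L109037 : sm gf N11376 = N14693 := rfl
theorem L109039 : sm gc N14693 = N11377 := ded_20_1 (flp_f L91886) L91884 L109037
theorem L109041 : sm gg N11377 = N14694 := rfl
theorem L109043 : sm ga N14694 = N14687 := ded_12_1 L109033 L109029 L109041
theorem L109045 : sm gd N14694 = N11409 := ded_24_1 (flp_g L92015) (flp_d L91888) L109041
theorem L109047 : sm gf N14685 = N14694 := ded_29_0 (flp_g L109041) (flp_f L91886) (flp_g L91870) L109001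
theorem L109049 : sm ga N11378 = N14695 := rfl
theorem L109051 : sm gd N14695 = N11410 := ded_9_2 (flp_a L92021) (flp_d L91894) L109049
theorem L109053 : sm gc N11378 = N14696 := rfl
theorem L109055 : sm gf N11378 = N14697 := rfl
theorem L109057 : sm gd N14697 = N11412 := ded_23_1 (flp_f L92025) (flp_d L91894) L109055
theorem L109059 : sm gg N11378 = N14698 := rfl
theorem L109061 : sm gd N14698 = N11413 := ded_24_1 (flp_g L92027) (flp_d L91894) L109059
theorem L109063 : sm gb N11379 = N14699 := rfl
theorem L109065 : sm gd N11379 = N14700 := rfl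
theorem L109067 : sm ga N14700 = N11381 := ded_9_1 (flp_d L91908) (flp_a L91898) L109065
theorem L109069 : sm gf N11379 = N14701 := rfl
theorem L109071 : sm ga N14701 = N11382 := ded_11_1 (flp_f L91910) (flp_a L91898) L109069
theorem L109073 : sm gc N14701 = N11380 := ded_20_1 (flp_f L91900) L91896 L109069
theorem L109075 : sm gg N14591 = N14701 := ded_29_1 (flp_f L109069) (flp_g L108533) L108531 L108539
theorem L109077 : sm gb N11380 = N14702 := rfl
theorem L109079 : sm gd N14702 = N11417 := ded_14_2 (flp_b L92043) (flp_d L91904) L109077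
theorem L109081 : sm gc N11381 = N14703 := rfl
theorem L109083 : sm ge N11381 = N14704 := rfl
theorem L109085 : sm gf N11381 = N14705 := rfl
theorem L109087 : sm gd N14705 = N11382 := ded_23_1 (flp_f L91910) L91908 L109085
theorem L109089 : sm gb N11382 = N14706 := rfl
theorem L109091 : sm gg N11382 = N14707 := rfl
theorem L109093 : sm ga N14707 = N14591 := ded_12_1 L109075 L109071 L109091
theorem L109095 : sm gc N14707 = N11384 := ded_21_1 (flp_g L91920) (flp_c L91912) L109091
theorem L109097 : sm gf N14589 = N14707 := ded_29_0 (flp_g L109091) (flp_f L91910) (flp_g L91694) (flp_a L108531)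
theorem L109099 : sm ga N11383 = N14708 := rfl
theorem L109101 : sm gd N14708 = N11422 := ded_9_2 (flp_a L92063) (flp_d L91916) L109099
theorem L109103 : sm gf N14708 = N11385 := ded_11_2 (flp_a L91928) (flp_f L91918) L109099
theorem L109105 : sm gc N11383 = N14709 := rfl
theorem L109107 : sm gf N14709 = N11386 := ded_20_2 (flp_c L91932) (flp_f L91918) L109105
theorem L109109 : sm gg N11383 = N14710 := rfl
theorem L109111 : sm gd N14710 = N11424 := ded_24_1 (flp_g L92071) (flp_d L91916) L109109
theorem L109113 : sm gb N11384 = N14711 := rfl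
theorem L109115 : sm gd N14711 = N11425 := ded_14_2 (flp_b L92073) (flp_d L91924) L109113
theorem L109117 : sm gb N11385 = N14712 := rfl
theorem L109119 : sm gd N14712 = N11426 := ded_14_2 (flp_b L92075) (flp_d L91930) L109117
theorem L109121 : sm gc N11385 = N14713 := rfl
theorem L109123 : sm ga N14713 = N11386 := ded_8_1 (flp_c L91932) L91928 L109121
theorem L109125 : sm gg N11385 = N14714 := rfl
theorem L109127 : sm ga N14714 = N11387 := ded_12_1 (flp_g L91934) L91928 L109125
theorem L109129 : sm gd N14714 = N11428 := ded_24_1 (flp_g L92081) (flp_d L91930) L109125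
theorem L109131 : sm gf N14714 = N14710 := ded_29_2 (flp_g L109109) L109099 L109103 L109125
theorem L109133 : sm gd N11386 = N14715 := rfl
theorem L109135 : sm gg N11386 = N14716 := rfl
theorem L109137 : sm gc N14716 = N11387 := ded_21_1 (flp_g L91934) L91932 L109135
theorem L109139 : sm gf N11387 = N14717 := rfl
theorem L109141 : sm ga N14717 = N14710 := ded_11_1 (flp_f L109131) L109127 L109139
theorem L109143 : sm gd N14717 = N11431 := ded_23_1 (flp_f L92096) (flp_d L91936) L109139
theorem L109145 : sm gg N14717 = N14708 := ded_29_3 (flp_a L109099) L91918 L91934 L109139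
theorem L109147 : sm gc N11388 = N14718 := rfl
theorem L109149 : sm ga N14718 = N11389 := ded_8_1 (flp_c L91942) L91940 L109147
theorem L109151 : sm gf N11388 = N14719 := rfl
theorem L109153 : sm ga N14719 = N11390 := ded_11_1 (flp_f L91944) L91940 L109151
theorem L109155 : sm gg N11388 = N14720 := rfl
theorem L109157 : sm ga N14720 = N11391 := ded_12_1 (flp_g L91946) L91940 L109155
theorem L109159 : sm gb N11389 = N14721 := rfl
theorem L109161 : sm gc N14721 = N11392 := ded_13_2 (flp_b L91948) (flp_c L44157) L44155 L91942 L109159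
theorem L109163 : sm gd N11389 = N14722 := rfl
theorem L109165 : sm gf N11389 = N14723 := rfl
theorem L109167 : sm gc N14723 = N11390 := ded_20_1 (flp_f L91944) L91942 L109165
theorem L109169 : sm gg N11389 = N14724 := rfl
theorem L109171 : sm gc N14724 = N11391 := ded_21_1 (flp_g L91946) L91942 L109169
theorem L109173 : sm gg N11390 = N14725 := rfl
theorem L109175 : sm gf N14720 = N14725 := ded_29_0 (flp_g L109173) (flp_f L91944) L91946 (flp_a L109157)
theorem L109177 : sm gb N11391 = N14726 := rfl
theorem L109179 : sm gg N14726 = N11395 := ded_17_2 (flp_b L91962) (flp_g L44161) L44155 L91946 L109177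
theorem L109181 : sm gf N11391 = N14727 := rfl
theorem L109183 : sm ga N14727 = N14725 := ded_11_1 (flp_f L109175) L109157 L109181
theorem L109185 : sm gg N14727 = N14719 := ded_29_3 L109153 (flp_f L91944) L91946 L109181
theorem L109187 : sm ga N11392 = N14728 := rfl
theorem L109189 : sm gd N11392 = N14729 := rfl
theorem L109191 : sm gb N14729 = N11393 := ded_14_1 (flp_d L91950) L91948 L109189
theorem L109193 : sm gf N11392 = N14730 := rfl
theorem L109195 : sm gg N11392 = N14731 := rfl
theorem L109197 : sm gc N11393 = N14732 := rfl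
theorem L109199 : sm ga N14732 = N11396 := ded_8_1 (flp_c L91964) (flp_a L91952) L109197
theorem L109201 : sm gd N14680 = N14732 := ded_28_1 (flp_c L109197) (flp_d L91950) (flp_c L44157) (flp_d L44129) L91848 L108967 L108969 L108983
theorem L109203 : sm ge N11393 = N14733 := rfl
theorem L109205 : sm ga N14733 = N11397 := ded_10_1 (flp_e L91966) (flp_a L91952) L109203
theorem L109207 : sm gg N11393 = N14734 := rfl
theorem L109209 : sm ga N14734 = N11398 := ded_12_1 (flp_g L91970) (flp_a L91952) L109207
theorem L109211 : sm gd N14734 = N11394 := ded_24_1 (flp_g L91954) L91950 L109207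
theorem L109213 : sm gf N14734 = N14604 := ded_29_2 (flp_g L108605) (flp_a L108591) L108593 L109207
theorem L109215 : sm gb N11394 = N14735 := rfl
theorem L109217 : sm ga N11395 = N14736 := rfl
theorem L109219 : sm gc N11395 = N14737 := rfl
theorem L109221 : sm gf N11395 = N14738 := rfl
theorem L109223 : sm gb N14738 = N14608 := ded_16_1 (flp_f L108621) (flp_b L91724) (flp_f L44165) L91962 L109221
theorem L109225 : sm gb N11396 = N14739 := rfl
theorem L109227 : sm gc N14739 = N11432 := ded_13_2 (flp_b L92102) (flp_c L44258) (flp_b L44169) L91964 L109225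
theorem L109229 : sm gd N11396 = N14740 := rfl
theorem L109231 : sm ga N14740 = N14680 := ded_9_1 L109201 L109199 L109229
theorem L109233 : sm gc N14677 = N14740 := ded_28_0 (flp_d L109229) (flp_c L91964) (flp_d L44167) (flp_c L21201) (flp_d L21179) L44131 L91860 (flp_a L108969)
theorem L109235 : sm ge N11396 = N14741 := rfl
theorem L109237 : sm gc N14741 = N11397 := ded_19_1 (flp_e L91966) L91964 L109235
theorem L109239 : sm gg N11396 = N14742 := rfl
theorem L109241 : sm gc N14742 = N11398 := ded_21_1 (flp_g L91970) L91964 L109239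
theorem L109243 : sm gg N11397 = N14743 := rfl
theorem L109245 : sm ge N14743 = N11398 := ded_26_1 (flp_g L91970) L91966 L109243
theorem L109247 : sm gf N11398 = N14744 := rfl
theorem L109249 : sm ga N14744 = N14604 := ded_11_1 (flp_f L109213) L109209 L109247
theorem L109251 : sm gd N14744 = N11399 := ded_23_1 (flp_f L91974) (flp_d L91972) L109247
theorem L109253 : sm gg N14744 = N14601 := ded_29_3 L108591 L91718 L91970 L109247
theorem L109255 : sm gb N11399 = N14745 := rfl
theorem L109257 : sm gb N11400 = N14746 := rfl
theorem L109259 : sm gc N11400 = N14747 := rfl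
theorem L109261 : sm ga N14747 = N11401 := ded_8_1 (flp_c L91986) L91982 L109259
theorem L109263 : sm gg N14747 = N11405 := ded_21_2 (flp_c L91996) (flp_g L91984) L109259
theorem L109265 : sm gd N11401 = N14748 := rfl
theorem L109267 : sm gg N14748 = N11407 := ded_24_2 (flp_d L92006) (flp_g L91988) L109265
theorem L109269 : sm gf N11401 = N14749 := rfl
theorem L109271 : sm gc N14749 = N11402 := ded_20_1 (flp_f L91990) L91986 L109269
theorem L109273 : sm gb N11402 = N14750 := rfl
theorem L109275 : sm gf N14750 = N11403 := ded_16_2 (flp_b L91992) (flp_f L44179) L44175 L91990 L109273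
theorem L109277 : sm ga N11403 = N14751 := rfl
theorem L109279 : sm gc N11403 = N14752 := rfl
theorem L109281 : sm gg N11403 = N14753 := rfl
theorem L109283 : sm gb N14753 = N14599 := ded_17_1 (flp_g L108585) (flp_b L91706) (flp_g L44183) L91992 L109281
theorem L109285 : sm ga N11404 = N14754 := rfl
theorem L109287 : sm gc N11404 = N14755 := rfl
theorem L109289 : sm gf N11404 = N14756 := rfl
theorem L109291 : sm gg N11404 = N14757 := rfl
theorem L109293 : sm gb N11405 = N14758 := rfl
theorem L109295 : sm gd N11405 = N14759 := rfl
theorem L109297 : sm ga N14759 = N11407 := ded_9_1 (flp_d L92006) (flp_a L91998) L109295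
theorem L109299 : sm gf N11405 = N14760 := rfl
theorem L109301 : sm ga N14760 = N11408 := ded_11_1 (flp_f L92010) (flp_a L91998) L109299
theorem L109303 : sm gc N14760 = N11406 := ded_20_1 (flp_f L92000) L91996 L109299
theorem L109305 : sm gg N14749 = N14760 := ded_29_1 (flp_f L109299) (flp_g L109263) L109261 L109269
theorem L109307 : sm gb N11406 = N14761 := rfl
theorem L109309 : sm gc N12444 = N14761 := ded_30_1 (flp_b L109307) L92002 (flp_f L44191) L44187 L44189 (flp_a L44298) L83396 (flp_c L44296) L70560 L10839 (flp_f L5430) L5428 (flp_b L10793) (flp_a L22395) L46557 L46561 L46565 L93607 L97329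
theorem L109311 : sm gg N14761 = N12443 := ded_21_2 (flp_c L97323) L97325 L109309
theorem L109313 : sm gc N11407 = N14762 := rfl
theorem L109315 : sm ge N11407 = N14763 := rfl
theorem L109317 : sm gb N14763 = N11437 := ded_15_1 (flp_e L92126) (flp_b L92008) L109315
theorem L109319 : sm gf N11407 = N14764 := rfl
theorem L109321 : sm gd N14764 = N11408 := ded_23_1 (flp_f L92010) L92006 L109319
theorem L109323 : sm gb N14764 = N14764 := ded_16_1 (flp_f L109319) L92008 L83397 (flp_b L92008) L109319
theorem L109324 : sm gg N11408 = N14765 := rfl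
theorem L109326 : sm ga N14765 = N14749 := ded_12_1 L109305 L109301 L109324
theorem L109328 : sm gc N14765 = N11409 := ded_21_1 (flp_g L92015) (flp_c L92012) L109324
theorem L109330 : sm gf N14747 = N14765 := ded_29_0 (flp_g L109324) (flp_f L92010) (flp_g L91988) (flp_a L109261)
theorem L109332 : sm gb N11409 = N14766 := rfl
theorem L109334 : sm gg N14766 = N14448 := ded_17_2 (flp_b L107725) (flp_g L91258) (flp_b L44193) L92015 L109332
theorem L109336 : sm gc N11410 = N14767 := rfl
theorem L109338 : sm ga N14767 = N11411 := ded_8_1 (flp_c L92023) L92021 L109336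
theorem L109340 : sm gf N11410 = N14768 := rfl
theorem L109342 : sm ga N14768 = N11412 := ded_11_1 (flp_f L92025) L92021 L109340
theorem L109344 : sm gg N11410 = N14769 := rfl
theorem L109346 : sm ga N14769 = N11413 := ded_12_1 (flp_g L92027) L92021 L109344
theorem L109348 : sm gb N11411 = N14770 := rfl
theorem L109352 : sm gd N11411 = N14771 := rfl
theorem L109354 : sm gf N11411 = N14772 := rfl
theorem L109356 : sm gc N14772 = N11412 := ded_20_1 (flp_f L92025) L92023 L109354
theorem L109358 : sm gg N11411 = N14773 := rfl
theorem L109360 : sm gc N14773 = N11413 := ded_21_1 (flp_g L92027) L92023 L109358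
theorem L109362 : sm gb N11412 = N14774 := rfl
theorem L109364 : sm gf N14774 = N11417 := ded_16_2 (flp_b L92043) (flp_f L44201) L44195 L92025 L109362
theorem L109366 : sm gg N11412 = N14775 := rfl
theorem L109368 : sm gf N14769 = N14775 := ded_29_0 (flp_g L109366) (flp_f L92025) L92027 (flp_a L109346)
theorem L109370 : sm gf N11413 = N14776 := rfl
theorem L109372 : sm ga N14776 = N14775 := ded_11_1 (flp_f L109368) L109346 L109370
theorem L109374 : sm gg N14776 = N14768 := ded_29_3 L109342 (flp_f L92025) L92027 L109370
theorem L109376 : sm ga N11414 = N14777 := rfl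
theorem L109378 : sm gd N11414 = N14778 := rfl
theorem L109380 : sm gb N14778 = N11415 := ded_14_1 (flp_d L92031) L92029 L109378
theorem L109382 : sm gf N11414 = N14779 := rfl
theorem L109384 : sm gg N11414 = N14780 := rfl
theorem L109386 : sm gc N11415 = N14781 := rfl
theorem L109388 : sm ga N14781 = N11418 := ded_8_1 (flp_c L92045) (flp_a L92033) L109386
theorem L109390 : sm gd N14703 = N14781 := ded_28_1 (flp_c L109386) (flp_d L92031) (flp_c L44197) (flp_d L44143) L91896 L109065 L109067 L109081
theorem L109392 : sm ge N11415 = N14782 := rfl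
theorem L109394 : sm ga N14782 = N11419 := ded_10_1 (flp_e L92047) (flp_a L92033) L109392
theorem L109396 : sm gf N11415 = N14783 := rfl
theorem L109398 : sm ga N14783 = N11420 := ded_11_1 (flp_f L92051) (flp_a L92033) L109396
theorem L109400 : sm gd N14783 = N11416 := ded_23_1 (flp_f L92035) L92031 L109396
theorem L109402 : sm gg N14623 = N14783 := ded_29_1 (flp_f L109396) (flp_g L108665) L108663 L108677
theorem L109404 : sm gb N11416 = N14784 := rfl
theorem L109406 : sm ga N11417 = N14785 := rfl
theorem L109408 : sm gc N11417 = N14786 := rfl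
theorem L109410 : sm gg N11417 = N14787 := rfl
theorem L109412 : sm gb N14787 = N14627 := ded_17_1 (flp_g L108693) (flp_b L91756) L44205 L92043 L109410
theorem L109414 : sm gb N11418 = N14788 := rfl
theorem L109416 : sm gc N14788 = N11438 := ded_13_2 (flp_b L92129) (flp_c L44337) (flp_b L44209) L92045 L109414
theorem L109418 : sm gd N11418 = N14789 := rfl
theorem L109420 : sm ga N14789 = N14703 := ded_9_1 L109390 L109388 L109418
theorem L109422 : sm gc N14700 = N14789 := ded_28_0 (flp_d L109418) (flp_c L92045) (flp_d L44207) (flp_c L21211) (flp_d L21189) L44145 L91908 (flp_a L109067)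
theorem L109424 : sm ge N11418 = N14790 := rfl
theorem L109426 : sm gc N14790 = N11419 := ded_19_1 (flp_e L92047) L92045 L109424
theorem L109428 : sm gf N11418 = N14791 := rfl
theorem L109430 : sm gc N14791 = N11420 := ded_20_1 (flp_f L92051) L92045 L109428
theorem L109432 : sm gf N11419 = N14792 := rfl
theorem L109434 : sm ge N14792 = N11420 := ded_25_1 (flp_f L92051) L92047 L109432
theorem L109436 : sm gg N11420 = N14793 := rfl
theorem L109438 : sm ga N14793 = N14623 := ded_12_1 L109402 L109398 L109436
theorem L109440 : sm gd N14793 = N11421 := ded_24_1 (flp_g L92055) (flp_d L92053) L109436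
theorem L109442 : sm gf N14620 = N14793 := ded_29_0 (flp_g L109436) (flp_f L92051) (flp_g L91750) (flp_a L108663)
theorem L109444 : sm gb N11421 = N14794 := rfl
theorem L109446 : sm gb N11422 = N14795 := rfl
theorem L109448 : sm gc N11422 = N14796 := rfl
theorem L109450 : sm ga N14796 = N11423 := ded_8_1 (flp_c L92067) L92063 L109448
theorem L109452 : sm gf N14796 = N11427 := ded_20_2 (flp_c L92077) (flp_f L92065) L109448
theorem L109454 : sm gd N11423 = N14797 := rfl
theorem L109456 : sm gf N14797 = N11429 := ded_23_2 (flp_d L92087) (flp_f L92069) L109454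
theorem L109458 : sm gg N11423 = N14798 := rfl
theorem L109460 : sm gc N14798 = N11424 := ded_21_1 (flp_g L92071) L92067 L109458
theorem L109462 : sm gb N11424 = N14799 := rfl
theorem L109464 : sm gg N14799 = N11425 := ded_17_2 (flp_b L92073) (flp_g L44219) L44215 L92071 L109462
theorem L109466 : sm ga N11425 = N14800 := rfl
theorem L109468 : sm gc N11425 = N14801 := rfl
theorem L109470 : sm gf N11425 = N14802 := rfl
theorem L109472 : sm gb N14802 = N14617 := ded_16_1 (flp_f L108653) (flp_b L91738) L44223 L92073 L109470
theorem L109474 : sm ga N11426 = N14803 := rfl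
theorem L109476 : sm gb N14803 = N14754 := ded_7_2 (flp_a L109285) (flp_b L91994) (flp_a L44185) (flp_b L21207) (flp_a L10181) L21217 L44225 L92075 L109474
theorem L109478 : sm gc N11426 = N14804 := rfl
theorem L109480 : sm gf N11426 = N14805 := rfl
theorem L109482 : sm gg N11426 = N14806 := rfl
theorem L109484 : sm gb N11427 = N14807 := rfl
theorem L109486 : sm gd N11427 = N14808 := rfl
theorem L109488 : sm ga N14808 = N11429 := ded_9_1 (flp_d L92087) (flp_a L92079) L109486
theorem L109490 : sm gg N11427 = N14809 := rfl
theorem L109492 : sm ga N14809 = N11430 := ded_12_1 (flp_g L92091) (flp_a L92079) L109490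
theorem L109494 : sm gc N14809 = N11428 := ded_21_1 (flp_g L92081) L92077 L109490
theorem L109496 : sm gf N14809 = N14798 := ded_29_2 (flp_g L109458) (flp_a L109450) L109452 L109490
theorem L109498 : sm gb N11428 = N14810 := rfl
theorem L109500 : sm gc N11429 = N14811 := rfl
theorem L109502 : sm ge N11429 = N14812 := rfl
theorem L109504 : sm gb N14812 = N11443 := ded_15_1 (flp_e L92153) (flp_b L92089) L109502
theorem L109506 : sm gg N11429 = N14813 := rfl
theorem L109508 : sm gd N14813 = N11430 := ded_24_1 (flp_g L92091) L92087 L109506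
theorem L109510 : sm gb N14813 = N14813 := ded_17_1 (flp_g L109506) L92089 L72040 (flp_b L92089) L109506
theorem L109511 : sm gf N11430 = N14814 := rfl
theorem L109513 : sm ga N14814 = N14798 := ded_11_1 (flp_f L109496) L109492 L109511
theorem L109515 : sm gc N14814 = N11431 := ded_20_1 (flp_f L92096) (flp_c L92093) L109511
theorem L109517 : sm gg N14814 = N14796 := ded_29_3 L109450 L92069 L92091 L109511
theorem L109519 : sm gb N11431 = N14815 := rfl
theorem L109521 : sm gf N14815 = N14442 := ded_16_2 (flp_b L107710) (flp_f L91242) (flp_b L44233) L92096 L109519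
theorem L109523 : sm ga N11432 = N14816 := rfl
theorem L109525 : sm gd N14816 = N12797 := ded_9_2 (flp_a L98977) (flp_d L92104) L109523
theorem L109527 : sm ge N11432 = N14817 := rfl
theorem L109529 : sm gb N14817 = N11433 := ded_15_1 (flp_e L92106) L92102 L109527
theorem L109531 : sm gf N11432 = N14818 := rfl
theorem L109533 : sm gd N14818 = N12799 := ded_23_1 (flp_f L98985) (flp_d L92104) L109531
theorem L109535 : sm gb N14818 = N11740 := ded_16_1 (flp_f L93745) (flp_b L46679) (flp_f L44260) L92102 L109531
theorem L109537 : sm gg N11432 = N14819 := rfl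
theorem L109539 : sm gd N14819 = N12800 := ded_24_1 (flp_g L98990) (flp_d L92104) L109537
theorem L109541 : sm gb N14819 = N12832 := ded_17_1 (flp_g L99177) L86093 (flp_g L82675) L92102 L109537
theorem L109543 : sm gd N11433 = N14820 := rfl
theorem L109545 : sm gf N14820 = N11742 := ded_23_2 (flp_d L93749) (flp_f L92110) L109543
theorem L109547 : sm gg N14820 = N12838 := ded_24_2 (flp_d L99211) (flp_g L92112) L109543
theorem L109549 : sm ge N14820 = N11814 := ded_22_2 L94108 (flp_e L85989) L75696 L92106 L109543
theorem L109551 : sm gc N11811 = N14820 := ded_28_0 (flp_d L109543) L92108 (flp_d L91513) L91509 L45405 (flp_c L46683) L93749 (flp_a L94084)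
theorem L109553 : sm ga N11434 = N14821 := rfl
theorem L109555 : sm gc N14821 = N11765 := ded_8_2 (flp_a L93853) (flp_c L92116) L109553
theorem L109557 : sm gd N11434 = N14822 := rfl
theorem L109559 : sm gb N14822 = N11435 := ded_14_1 (flp_d L92118) L92114 L109557
theorem L109561 : sm gf N11434 = N14823 := rfl
theorem L109563 : sm gc N14823 = N11760 := ded_20_1 L93827 (flp_c L92116) L109561
theorem L109565 : sm gb N14823 = N14823 := ded_16_1 (flp_f L109561) (flp_b L92114) L83396 L92114 L109561
theorem L109566 : sm gg N11434 = N14824 := rfl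
theorem L109568 : sm gc N14824 = N11766 := ded_21_1 (flp_g L93855) (flp_c L92116) L109566
theorem L109570 : sm ge N11435 = N14825 := rfl
theorem L109572 : sm ga N14825 = N11437 := ded_10_1 (flp_e L92126) (flp_a L92120) L109570
theorem L109574 : sm gf N14825 = N14825 := ded_25_2 (flp_e L109570) L92122 L109570
theorem L109575 : sm gb N11436 = N14826 := rfl
theorem L109577 : sm ge N11436 = N14827 := rfl
theorem L109579 : sm gc N14827 = N11437 := ded_19_1 (flp_e L92126) L92123 L109577
theorem L109581 : sm gf N14827 = N14827 := ded_25_2 (flp_e L109577) L92125 L109577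
theorem L109582 : sm ga N11438 = N14828 := rfl
theorem L109586 : sm ge N11438 = N14829 := rfl
theorem L109588 : sm gb N14829 = N11439 := ded_15_1 (flp_e L92133) L92129 L109586
theorem L109590 : sm gf N11438 = N14830 := rfl
theorem L109592 : sm gd N14830 = N12841 := ded_23_1 (flp_f L99225) (flp_d L92131) L109590
theorem L109594 : sm gb N14830 = N12871 := ded_16_1 (flp_f L99401) L86204 (flp_f L82713) L92129 L109590
theorem L109596 : sm gg N11438 = N14831 := rfl
theorem L109598 : sm gd N14831 = N12842 := ded_24_1 (flp_g L99230) (flp_d L92131) L109596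
theorem L109602 : sm gd N11439 = N14832 := rfl
theorem L109604 : sm gf N14832 = N12878 := ded_23_2 (flp_d L99439) (flp_f L92137) L109602
theorem L109606 : sm gg N14832 = N11771 := ded_24_2 (flp_d L93869) (flp_g L92139) L109602
theorem L109608 : sm ge N14832 = N11857 := ded_22_2 L94359 (flp_e L86120) L77847 L92133 L109602
theorem L109610 : sm gc N11854 = N14832 := ded_28_0 (flp_d L109602) L92135 (flp_d L91531) L91527 L45483 (flp_c L46811) L93869 (flp_a L94335)
theorem L109612 : sm ga N11440 = N14833 := rfl
theorem L109614 : sm gc N14833 = N11736 := ded_8_2 (flp_a L93733) (flp_c L92143) L109612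
theorem L109616 : sm gd N11440 = N14834 := rfl
theorem L109618 : sm gb N14834 = N11441 := ded_14_1 (flp_d L92145) L92141 L109616
theorem L109620 : sm gf N11440 = N14835 := rfl
theorem L109622 : sm gc N14835 = N11737 := ded_20_1 (flp_f L93735) (flp_c L92143) L109620
theorem L109624 : sm gg N11440 = N14836 := rfl
theorem L109626 : sm gc N14836 = N11732 := ded_21_1 L93712 (flp_c L92143) L109624
theorem L109628 : sm gb N14836 = N14836 := ded_17_1 (flp_g L109624) (flp_b L92141) L72039 L92141 L109624
theorem L109629 : sm ge N11441 = N14837 := rfl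
theorem L109631 : sm ga N14837 = N11443 := ded_10_1 (flp_e L92153) (flp_a L92147) L109629
theorem L109633 : sm gg N14837 = N14837 := ded_26_2 (flp_e L109629) L92149 L109629
theorem L109634 : sm gb N11442 = N14838 := rfl
theorem L109636 : sm ge N11442 = N14839 := rfl
theorem L109638 : sm gc N14839 = N11443 := ded_19_1 (flp_e L92153) L92150 L109636
theorem L109640 : sm gg N14839 = N14839 := ded_26_2 (flp_e L109636) L92152 L109636
theorem L109641 : sm gb N11444 = N14840 := rfl
theorem L109643 : sm gd N11444 = N14841 := rfl
theorem L109645 : sm ga N14841 = N11445 := ded_9_1 (flp_d L92158) L92156 L109643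
theorem L109647 : sm ge N11444 = N14842 := rfl
theorem L109649 : sm ga N14842 = N11446 := ded_10_1 (flp_e L92162) L92156 L109647
theorem L109651 : sm gf N11444 = N14843 := rfl
theorem L109653 : sm ga N14843 = N11447 := ded_11_1 (flp_f L92166) L92156 L109651
theorem L109655 : sm gg N11444 = N14844 := rfl
theorem L109657 : sm ga N14844 = N11448 := ded_12_1 (flp_g L92170) L92156 L109655
theorem L109659 : sm gc N11445 = N14845 := rfl
theorem L109661 : sm gb N14845 = N12724 := ded_13_1 (flp_c L98683) L85832 L80537 (flp_b L92160) L109659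
theorem L109663 : sm ge N11445 = N14846 := rfl
theorem L109665 : sm gb N14846 = N11449 := ded_15_1 (flp_e L92172) (flp_b L92160) L109663
theorem L109667 : sm gf N11445 = N14847 := rfl
theorem L109669 : sm gd N14847 = N11447 := ded_23_1 (flp_f L92166) L92158 L109667
theorem L109671 : sm gb N14847 = N11803 := ded_16_1 (flp_f L94040) L47039 (flp_f L44418) (flp_b L92160) L109667
theorem L109673 : sm gg N11445 = N14848 := rfl
theorem L109675 : sm gd N14848 = N11448 := ded_24_1 (flp_g L92170) L92158 L109673
theorem L109677 : sm gb N14848 = N12750 := ded_17_1 (flp_g L98790) (flp_b L85888) (flp_g L82679) (flp_b L92160) L109673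
theorem L109679 : sm gd N11446 = N14849 := rfl
theorem L109681 : sm gb N14849 = N11450 := ded_14_1 (flp_d L92182) (flp_b L92164) L109679
theorem L109683 : sm gf N11446 = N14850 := rfl
theorem L109685 : sm ge N14850 = N11447 := ded_25_1 (flp_f L92166) L92162 L109683
theorem L109687 : sm gb N14850 = N11806 := ded_16_1 (flp_f L94052) L47043 (flp_f L44426) (flp_b L92164) L109683
theorem L109689 : sm gg N11446 = N14851 := rfl
theorem L109691 : sm ge N14851 = N11448 := ded_26_1 (flp_g L92170) L92162 L109689
theorem L109693 : sm gg N11447 = N14852 := rfl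
theorem L109695 : sm gf N14844 = N14852 := ded_29_0 (flp_g L109693) (flp_f L92166) L92170 (flp_a L109657)
theorem L109697 : sm gf N11448 = N14853 := rfl
theorem L109699 : sm ga N14853 = N14852 := ded_11_1 (flp_f L109695) L109657 L109697
theorem L109701 : sm gg N14853 = N14843 := ded_29_3 L109653 (flp_f L92166) L92170 L109697
theorem L109703 : sm gd N11449 = N14854 := rfl
theorem L109705 : sm ga N14854 = N14820 := ded_9_1 (flp_d L109543) (flp_a L92174) L109703
theorem L109707 : sm gf N14854 = N11811 := ded_23_2 (flp_d L94082) (flp_f L92178) L109703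
theorem L109709 : sm gg N14854 = N12751 := ded_24_2 (flp_d L98792) (flp_g L92180) L109703
theorem L109711 : sm ge N14854 = N11450 := ded_22_2 (flp_d L92182) (flp_e L44422) L44414 L92172 L109703
theorem L109713 : sm gc N11742 = N14854 := ded_28_0 (flp_d L109703) L92176 (flp_d L93073) L93067 L92952 (flp_c L47059) L94082 L94084
theorem L109727 : sm gf N11451 = N14857 := rfl
theorem L109729 : sm ga N14857 = N13016 := ded_11_1 L100254 L94251 L109727
theorem L109733 : sm gg N11829 = N14857 := ded_29_1 (flp_f L109727) L94245 (flp_a L94239) (flp_f L94199)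
theorem L109736 : sm gb N11453 = N14858 := rfl
theorem L109738 : sm gd N14858 = N14826 := ded_14_2 (flp_b L109575) L92206 L109736
theorem L109747 : sm ga N11455 = N14860 := rfl
theorem L109749 : sm gd N11455 = N14861 := rfl
theorem L109751 : sm gb N14861 = N11456 := ded_14_1 (flp_d L92217) L92215 L109749
theorem L109753 : sm ge N11455 = N14862 := rfl
theorem L109755 : sm gb N14862 = N11457 := ded_15_1 (flp_e L92224) L92215 L109753
theorem L109757 : sm gf N11455 = N14863 := rfl
theorem L109759 : sm gb N14863 = N14863 := ded_16_1 (flp_f L109757) (flp_b L92215) L82660 L92215 L109757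
theorem L109760 : sm gg N11455 = N14864 := rfl
theorem L109762 : sm ge N11456 = N14865 := rfl
theorem L109764 : sm ga N14865 = N14827 := ded_10_1 (flp_e L109577) (flp_a L92219) L109762
theorem L109766 : sm gc N14865 = N14825 := ded_19_1 (flp_e L109570) L92222 L109762
theorem L109768 : sm gf N14865 = N14865 := ded_25_2 (flp_e L109762) L92221 L109762
theorem L109772 : sm gb N11458 = N14867 := rfl
theorem L109774 : sm gd N11458 = N14868 := rfl
theorem L109776 : sm ga N14868 = N11459 := ded_9_1 (flp_d L92231) L92229 L109774
theorem L109778 : sm ge N11458 = N14869 := rfl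
theorem L109780 : sm ga N14869 = N11460 := ded_10_1 (flp_e L92235) L92229 L109778
theorem L109782 : sm gf N11458 = N14870 := rfl
theorem L109784 : sm ga N14870 = N11461 := ded_11_1 (flp_f L92239) L92229 L109782
theorem L109786 : sm gg N11458 = N14871 := rfl
theorem L109788 : sm ga N14871 = N11462 := ded_12_1 (flp_g L92241) L92229 L109786
theorem L109790 : sm gc N11459 = N14872 := rfl
theorem L109792 : sm gb N14872 = N12769 := ded_13_1 (flp_c L98864) L85924 L80557 (flp_b L92233) L109790
theorem L109794 : sm ge N11459 = N14873 := rfl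
theorem L109796 : sm gb N14873 = N11463 := ded_15_1 (flp_e L92245) (flp_b L92233) L109794
theorem L109798 : sm gf N11459 = N14874 := rfl
theorem L109800 : sm gd N14874 = N11461 := ded_23_1 (flp_f L92239) L92231 L109798
theorem L109802 : sm gb N14874 = N12794 := ded_16_1 (flp_f L98971) (flp_b L85980) (flp_f L82721) (flp_b L92233) L109798
theorem L109804 : sm gg N11459 = N14875 := rfl
theorem L109806 : sm gd N14875 = N11462 := ded_24_1 (flp_g L92241) L92231 L109804
theorem L109808 : sm gb N14875 = N11847 := ded_17_1 (flp_g L94295) L47378 (flp_g L44579) (flp_b L92233) L109804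
theorem L109810 : sm gd N11460 = N14876 := rfl
theorem L109814 : sm gf N11460 = N14877 := rfl
theorem L109816 : sm ge N14877 = N11461 := ded_25_1 (flp_f L92239) L92235 L109814
theorem L109818 : sm gg N11460 = N14878 := rfl
theorem L109820 : sm ge N14878 = N11462 := ded_26_1 (flp_g L92241) L92235 L109818
theorem L109822 : sm gb N14878 = N11850 := ded_17_1 (flp_g L94309) L47382 (flp_g L44587) (flp_b L92237) L109818
theorem L109824 : sm gg N11461 = N14879 := rfl
theorem L109826 : sm gf N14871 = N14879 := ded_29_0 (flp_g L109824) (flp_f L92239) L92241 (flp_a L109788)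
theorem L109828 : sm gf N11462 = N14880 := rfl
theorem L109830 : sm ga N14880 = N14879 := ded_11_1 (flp_f L109826) L109788 L109828
theorem L109832 : sm gg N14880 = N14870 := ded_29_3 L109784 (flp_f L92239) L92241 L109828
theorem L109834 : sm gd N11463 = N14881 := rfl
theorem L109836 : sm ga N14881 = N14832 := ded_9_1 (flp_d L109602) (flp_a L92247) L109834
theorem L109838 : sm gf N14881 = N12796 := ded_23_2 (flp_d L98975) (flp_f L92251) L109834
theorem L109840 : sm gg N14881 = N11854 := ded_24_2 (flp_d L94333) (flp_g L92253) L109834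
theorem L109842 : sm ge N14881 = N11464 := ded_22_2 (flp_d L92255) (flp_e L44583) L44575 L92245 L109834
theorem L109844 : sm gc N11771 = N14881 := ded_28_0 (flp_d L109834) L92249 (flp_d L93111) L93105 L93005 (flp_c L47398) L94333 L94335
theorem L109858 : sm gg N11465 = N14884 := rfl
theorem L109864 : sm gf N14884 = N11786 := ded_29_2 L93948 L93988 (flp_f L93994) L109858
theorem L109867 : sm gb N11467 = N14885 := rfl
theorem L109869 : sm gd N14885 = N14838 := ded_14_2 (flp_b L109634) L92279 L109867
theorem L109878 : sm ga N11469 = N14887 := rfl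
theorem L109880 : sm gd N11469 = N14888 := rfl
theorem L109882 : sm gb N14888 = N11470 := ded_14_1 (flp_d L92290) L92288 L109880
theorem L109884 : sm ge N11469 = N14889 := rfl
theorem L109886 : sm gb N14889 = N11471 := ded_15_1 (flp_e L92297) L92288 L109884
theorem L109888 : sm gf N11469 = N14890 := rfl
theorem L109890 : sm gg N11469 = N14891 := rfl
theorem L109892 : sm gb N14891 = N14891 := ded_17_1 (flp_g L109890) (flp_b L92288) L72037 L92288 L109890
theorem L109893 : sm ge N11470 = N14892 := rfl
theorem L109895 : sm ga N14892 = N14839 := ded_10_1 (flp_e L109636) (flp_a L92292) L109893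
theorem L109897 : sm gc N14892 = N14837 := ded_19_1 (flp_e L109629) L92295 L109893
theorem L109899 : sm gg N14892 = N14892 := ded_26_2 (flp_e L109893) L92294 L109893
theorem L109903 : sm ge N11473 = N14894 := rfl
theorem L109905 : sm gb N14894 = N11474 := ded_15_1 (flp_e L92318) L92312 L109903
theorem L109909 : sm gf N11473 = N14895 := rfl
theorem L109913 : sm gc N14895 = N13142 := ded_20_1 L100944 (flp_c L92316) L109909
theorem L109934 : sm gd N11476 = N14899 := rfl
theorem L109936 : sm gb N14899 = N11480 := ded_14_1 (flp_d L92355) (flp_b L92331) L109934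
theorem L109955 : sm gf N11478 = N14902 := rfl
theorem L109961 : sm gg N14902 = N13126 := ded_29_3 L100835 (flp_f L92335) L92340 L109955
theorem L109983 : sm gg N11482 = N14906 := rfl
theorem L109987 : sm gc N14906 = N13100 := ded_21_1 (flp_g L100678) (flp_c L92372) L109983
theorem L109989 : sm gd N14906 = N14564 := ded_24_1 (flp_g L108392) (flp_d L92370) L109983
theorem L109999 : sm ge N11484 = N14908 := rfl
theorem L110003 : sm gg N11484 = N14909 := rfl
theorem L110005 : sm gd N14909 = N11487 := ded_24_1 (flp_g L92403) L92385 L110003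
theorem L110012 : sm gf N11485 = N14911 := rfl
theorem L110016 : sm gc N14911 = N13118 := ded_20_1 L100779 (flp_c L92393) L110012
theorem L110020 : sm gb N14911 = N12879 := ded_16_1 L99451 (flp_b L86435) L86439 (flp_b L92391) L110012
theorem L110039 : sm gd N11488 = N14914 := rfl
theorem L110044 : sm ge N14914 = N11489 := ded_22_2 (flp_d L92415) (flp_e L45080) L45074 L92408 L110039
theorem L110049 : sm gb N11490 = N14916 := rfl
theorem L110051 : sm ge N14916 = N11606 := ded_15_2 (flp_b L93113) (flp_e L92422) L110049
theorem L110053 : sm gf N14916 = N12036 := ded_16_2 (flp_b L95245) (flp_f L84277) (flp_b L45108) L92418 L110049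
theorem L110055 : sm gb N11491 = N14917 := rfl
theorem L110057 : sm ge N14917 = N11607 := ded_15_2 (flp_b L93119) (flp_e L92428) L110055
theorem L110059 : sm gg N14917 = N12037 := ded_17_2 (flp_b L95249) (flp_g L84283) (flp_b L45108) L92424 L110055
theorem L110061 : sm gb N11492 = N14918 := rfl
theorem L110063 : sm gd N14918 = N11494 := ded_14_2 (flp_b L92442) (flp_d L92432) L110061
theorem L110065 : sm ge N14918 = N12045 := ded_15_2 (flp_b L95302) (flp_e L92434) L110061
theorem L110067 : sm gf N14918 = N11501 := ded_16_2 (flp_b L92491) (flp_f L45134) (flp_b L45116) L92430 L110061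
theorem L110069 : sm gg N11492 = N14919 := rfl
theorem L110071 : sm gc N14919 = N13314 := ded_21_1 L101951 L101875 L110069
theorem L110073 : sm gd N14919 = N11495 := ded_24_1 (flp_g L92448) (flp_d L92432) L110069
theorem L110075 : sm ge N14919 = N12046 := ded_26_1 (flp_g L95308) (flp_e L92434) L110069
theorem L110077 : sm gf N13310 = N14919 := ded_29_0 (flp_g L110069) (flp_f L92430) L92436 (flp_a L101911)
theorem L110079 : sm gb N11493 = N14920 := rfl
theorem L110081 : sm gd N14920 = N11496 := ded_14_2 (flp_b L92454) (flp_d L92438) L110079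
theorem L110083 : sm ge N14920 = N12047 := ded_15_2 (flp_b L95316) (flp_e L92440) L110079
theorem L110085 : sm gg N14920 = N11502 := ded_17_2 (flp_b L92497) (flp_g L45142) (flp_b L45116) L92436 L110079
theorem L110087 : sm gf N11493 = N14921 := rfl
theorem L110089 : sm ga N14921 = N14919 := ded_11_1 (flp_f L110077) L101911 L110087
theorem L110091 : sm gc N14921 = N13312 := ded_20_1 (flp_f L101933) L101885 L110087
theorem L110093 : sm gd N14921 = N11497 := ded_23_1 (flp_f L92460) (flp_d L92438) L110087
theorem L110095 : sm ge N14921 = N12048 := ded_25_1 (flp_f L95322) (flp_e L92440) L110087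
theorem L110097 : sm gg N14921 = N13309 := ded_29_3 L101901 (flp_f L92430) L92436 L110087
theorem L110099 : sm gg N11494 = N14922 := rfl
theorem L110101 : sm ge N14922 = N11612 := ded_26_1 (flp_g L93143) (flp_e L92444) L110099
theorem L110103 : sm gb N11495 = N14923 := rfl
theorem L110105 : sm ge N14923 = N11613 := ded_15_2 (flp_b L93147) (flp_e L92450) L110103
theorem L110107 : sm ga N11496 = N14924 := rfl
theorem L110109 : sm ge N14924 = N11614 := ded_10_2 (flp_a L93151) (flp_e L92456) L110107
theorem L110111 : sm gg N14924 = N11506 := ded_12_2 (flp_a L92521) (flp_g L92458) L110107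
theorem L110113 : sm gc N11496 = N14925 := rfl
theorem L110115 : sm ge N14925 = N11615 := ded_19_2 (flp_c L93157) (flp_e L92456) L110113
theorem L110117 : sm gg N14925 = N11507 := ded_21_2 (flp_c L92525) (flp_g L92458) L110113
theorem L110119 : sm gf N11496 = N14926 := rfl
theorem L110121 : sm ge N14926 = N11616 := ded_25_1 (flp_f L93161) (flp_e L92456) L110119
theorem L110123 : sm gb N11497 = N14927 := rfl
theorem L110125 : sm ge N14927 = N11617 := ded_15_2 (flp_b L93165) (flp_e L92464) L110123
theorem L110127 : sm ga N11498 = N14928 := rfl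
theorem L110129 : sm gd N14928 = N14928 := ded_9_2 (flp_a L110127) L92470 L110127
theorem L110130 : sm ge N14928 = N12057 := ded_10_2 (flp_a L95372) (flp_e L92471) L110127
theorem L110132 : sm gf N11498 = N14929 := rfl
theorem L110134 : sm gd N14929 = N14929 := ded_23_1 (flp_f L110132) L92470 L110132
theorem L110135 : sm ge N14929 = N12059 := ded_25_1 (flp_f L95380) (flp_e L92471) L110132
theorem L110137 : sm gg N11498 = N14930 := rfl
theorem L110139 : sm gd N14930 = N14930 := ded_24_1 (flp_g L110137) L92470 L110137
theorem L110140 : sm ge N14930 = N12060 := ded_26_1 (flp_g L95382) (flp_e L92471) L110137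
theorem L110142 : sm gb N11499 = N14931 := rfl
theorem L110144 : sm gd N14931 = N14931 := ded_14_2 (flp_b L110142) L92479 L110142
theorem L110145 : sm ge N14931 = N12063 := ded_15_2 (flp_b L95402) (flp_e L92480) L110142
theorem L110147 : sm gb N11500 = N14932 := rfl
theorem L110149 : sm gd N14932 = N14932 := ded_14_2 (flp_b L110147) L92488 L110147
theorem L110150 : sm ge N14932 = N12064 := ded_15_2 (flp_b L95404) (flp_e L92489) L110147
theorem L110152 : sm ga N11501 = N14933 := rfl
theorem L110154 : sm gd N14933 = N11503 := ded_9_2 (flp_a L92503) (flp_d L92493) L110152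
theorem L110156 : sm ge N14933 = N12065 := ded_10_2 (flp_a L95406) (flp_e L92495) L110152
theorem L110158 : sm gc N11501 = N14934 := rfl
theorem L110160 : sm ge N14934 = N12066 := ded_19_2 (flp_c L95410) (flp_e L92495) L110158
theorem L110162 : sm gg N11501 = N14935 := rfl
theorem L110164 : sm gd N14935 = N11505 := ded_24_1 (flp_g L92517) (flp_d L92493) L110162
theorem L110166 : sm ge N14935 = N12067 := ded_26_1 (flp_g L95412) (flp_e L92495) L110162
theorem L110168 : sm ga N11502 = N14936 := rfl
theorem L110170 : sm gd N14936 = N11506 := ded_9_2 (flp_a L92521) (flp_d L92499) L110168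
theorem L110172 : sm ge N14936 = N12068 := ded_10_2 (flp_a L95416) (flp_e L92501) L110168
theorem L110174 : sm gc N11502 = N14937 := rfl
theorem L110176 : sm ge N14937 = N12069 := ded_19_2 (flp_c L95420) (flp_e L92501) L110174
theorem L110178 : sm gf N11502 = N14938 := rfl
theorem L110180 : sm gd N14938 = N11508 := ded_23_1 (flp_f L92529) (flp_d L92499) L110178
theorem L110182 : sm ge N14938 = N12070 := ded_25_1 (flp_f L95422) (flp_e L92501) L110178
theorem L110184 : sm gb N11503 = N14939 := rfl
theorem L110186 : sm ge N14939 = N11618 := ded_15_2 (flp_b L93169) (flp_e L92505) L110184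
theorem L110188 : sm gc N14939 = N14347 := ded_13_2 (flp_b L107218) L90995 L92442 L92507 L110184
theorem L110190 : sm gf N14939 = N14360 := ded_16_2 L107322 (flp_f L107743) L107745 L92515 L110184
theorem L110192 : sm gg N11503 = N14940 := rfl
theorem L110194 : sm ga N14940 = N11505 := ded_12_1 (flp_g L92517) L92503 L110192
theorem L110196 : sm gc N14940 = N14922 := ded_21_1 (flp_g L110099) L92507 L110192
theorem L110198 : sm ge N14940 = N11619 := ded_26_1 (flp_g L93175) (flp_e L92505) L110192
theorem L110200 : sm gf N14940 = N14922 := ded_29_2 (flp_g L110099) (flp_a L92511) L92515 L110192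
theorem L110202 : sm gd N11504 = N14941 := rfl
theorem L110204 : sm ga N14941 = N14918 := ded_9_1 L110063 (flp_a L92511) L110202
theorem L110206 : sm gf N14941 = N14933 := ded_23_2 L110154 (flp_f L92515) L110202
theorem L110208 : sm gg N11504 = N14942 := rfl
theorem L110210 : sm ga N14942 = N14922 := ded_12_1 (flp_g L110099) (flp_a L92511) L110208
theorem L110212 : sm gc N14942 = N11505 := ded_21_1 (flp_g L92517) L92509 L110208
theorem L110214 : sm ge N14942 = N11620 := ded_26_1 (flp_g L93185) (flp_e L92513) L110208
theorem L110216 : sm gf N11505 = N14942 := ded_29_0 (flp_g L110208) L92515 L110192 L110194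
theorem L110218 : sm gb N12280 = N14942 := ded_15_3 L110214 L98077 (flp_e L96516)
theorem L110220 : sm gb N11506 = N14943 := rfl
theorem L110222 : sm ge N14943 = N11621 := ded_15_2 (flp_b L93195) (flp_e L92523) L110220
theorem L110224 : sm gc N11506 = N14944 := rfl
theorem L110226 : sm ga N14944 = N11507 := ded_8_1 (flp_c L92525) L92521 L110224
theorem L110230 : sm gf N11506 = N14945 := rfl
theorem L110232 : sm ga N14945 = N11508 := ded_11_1 (flp_f L92529) L92521 L110230
theorem L110234 : sm ge N14945 = N11623 := ded_25_1 (flp_f L93203) (flp_e L92523) L110230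
theorem L110236 : sm gg N14926 = N14945 := ded_29_1 (flp_f L110230) (flp_g L110111) (flp_a L110107) L110119
theorem L110238 : sm gd N11507 = N14946 := rfl
theorem L110240 : sm gf N11507 = N14947 := rfl
theorem L110242 : sm gc N14947 = N11508 := ded_20_1 (flp_f L92529) L92525 L110240
theorem L110244 : sm ge N14947 = N11625 := ded_25_1 (flp_f L93213) (flp_e L92527) L110240
theorem L110246 : sm gg N11508 = N14948 := rfl
theorem L110248 : sm ga N14948 = N14926 := ded_12_1 L110236 L110232 L110246
theorem L110250 : sm ge N14948 = N11626 := ded_26_1 (flp_g L93217) (flp_e L92531) L110246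
theorem L110252 : sm gf N14924 = N14948 := ded_29_0 (flp_g L110246) (flp_f L92529) (flp_g L92458) L110107
theorem L110254 : sm gb N12228 = N14948 := ded_15_3 L110250 L97881 (flp_e L96231)
theorem L110256 : sm gc N11509 = N14949 := rfl
theorem L110258 : sm ga N14949 = N14949 := ded_8_1 (flp_c L110256) L103844 L110256
theorem L110259 : sm ge N14949 = N12088 := ded_19_2 (flp_c L95529) (flp_e L92536) L110256
theorem L110261 : sm gf N14949 = N14949 := ded_20_2 (flp_c L110256) L92538 L110256
theorem L110262 : sm gb N14949 = N11514 := ded_13_1 (flp_c L92573) (flp_b L45173) (flp_c L45163) L92533 L110256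
theorem L110264 : sm gg N11509 = N14950 := rfl
theorem L110266 : sm ga N14950 = N14950 := ded_12_1 (flp_g L110264) L103844 L110264
theorem L110267 : sm gd N14950 = N14950 := ded_24_1 (flp_g L110264) L92535 L110264
theorem L110268 : sm ge N14950 = N12089 := ded_26_1 (flp_g L95534) (flp_e L92536) L110264
theorem L110270 : sm gf N14950 = N14950 := ded_29_0 (flp_g L110264) L92538 L110264 L110266
theorem L110271 : sm gb N11510 = N14951 := rfl
theorem L110273 : sm gd N14951 = N14951 := ded_14_2 (flp_b L110271) L92543 L110271
theorem L110274 : sm ge N14951 = N12090 := ded_15_2 (flp_b L95536) (flp_e L92544) L110271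
theorem L110276 : sm ga N11511 = N14952 := rfl
theorem L110279 : sm ge N14952 = N12091 := ded_10_2 (flp_a L95538) (flp_e L92551) L110276
theorem L110282 : sm gc N11511 = N14953 := rfl
theorem L110284 : sm ge N14953 = N12092 := ded_19_2 (flp_c L95541) (flp_e L92551) L110282
theorem L110286 : sm gg N14953 = N14953 := ded_21_2 (flp_c L110282) L92553 L110282
theorem L110287 : sm gb N14953 = N11518 := ded_13_1 (flp_c L92599) (flp_b L45189) (flp_c L45169) L92548 L110282
theorem L110289 : sm gf N11511 = N14954 := rfl
theorem L110291 : sm gd N14954 = N14954 := ded_23_1 (flp_f L110289) L92550 L110289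
theorem L110292 : sm ge N14954 = N12093 := ded_25_1 (flp_f L95546) (flp_e L92551) L110289
theorem L110294 : sm gb N11512 = N14955 := rfl
theorem L110296 : sm gd N14955 = N14955 := ded_14_2 (flp_b L110294) L92560 L110294
theorem L110297 : sm ge N14955 = N12094 := ded_15_2 (flp_b L95548) (flp_e L92561) L110294
theorem L110299 : sm gb N11513 = N14956 := rfl
theorem L110301 : sm gd N14956 = N11521 := ded_14_2 (flp_b L92617) (flp_d L92567) L110299
theorem L110303 : sm ge N14956 = N12095 := ded_15_2 (flp_b L95550) (flp_e L92569) L110299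
theorem L110305 : sm gc N11513 = N14957 := rfl
theorem L110307 : sm ga N14957 = N11514 := ded_8_1 (flp_c L92573) L92565 L110305
theorem L110309 : sm ge N14957 = N12096 := ded_19_2 (flp_c L95554) (flp_e L92569) L110305
theorem L110311 : sm gf N14957 = N11538 := ded_20_2 (flp_c L92707) (flp_f L92571) L110305
theorem L110313 : sm gd N11514 = N14958 := rfl
theorem L110315 : sm gf N14958 = N11540 := ded_23_2 (flp_d L92723) (flp_f L92577) L110313
theorem L110317 : sm gg N11514 = N14959 := rfl
theorem L110319 : sm gc N14959 = N11515 := ded_21_1 (flp_g L92579) L92573 L110317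
theorem L110321 : sm ge N14959 = N12098 := ded_26_1 (flp_g L95564) (flp_e L92575) L110317
theorem L110323 : sm gb N11515 = N14960 := rfl
theorem L110325 : sm gd N14960 = N11525 := ded_14_2 (flp_b L92639) (flp_d L92581) L110323
theorem L110327 : sm ge N14960 = N12099 := ded_15_2 (flp_b L95568) (flp_e L92583) L110323
theorem L110329 : sm gg N14960 = N11516 := ded_17_2 (flp_b L92585) (flp_g L45181) L45173 L92579 L110323
theorem L110331 : sm ga N11516 = N14961 := rfl
theorem L110333 : sm gd N14961 = N11526 := ded_9_2 (flp_a L92645) (flp_d L92587) L110331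
theorem L110335 : sm ge N14961 = N12100 := ded_10_2 (flp_a L95574) (flp_e L92589) L110331
theorem L110337 : sm gc N11516 = N14962 := rfl
theorem L110339 : sm ge N14962 = N12101 := ded_19_2 (flp_c L95578) (flp_e L92589) L110337
theorem L110341 : sm gf N11516 = N14963 := rfl
theorem L110343 : sm gd N14963 = N11528 := ded_23_1 (flp_f L92653) (flp_d L92587) L110341
theorem L110345 : sm ge N14963 = N12102 := ded_25_1 (flp_f L95580) (flp_e L92589) L110341
theorem L110347 : sm gb N14963 = N14938 := ded_16_1 (flp_f L110178) (flp_b L92497) L45187 L92585 L110341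
theorem L110349 : sm gb N11517 = N14964 := rfl
theorem L110351 : sm gd N14964 = N11529 := ded_14_2 (flp_b L92659) (flp_d L92593) L110349
theorem L110353 : sm ge N14964 = N12103 := ded_15_2 (flp_b L95586) (flp_e L92595) L110349
theorem L110355 : sm gc N11517 = N14965 := rfl
theorem L110357 : sm ga N14965 = N11518 := ded_8_1 (flp_c L92599) L92591 L110355
theorem L110359 : sm ge N14965 = N12104 := ded_19_2 (flp_c L95590) (flp_e L92595) L110355
theorem L110361 : sm gg N14965 = N11544 := ded_21_2 (flp_c L92748) (flp_g L92597) L110355
theorem L110363 : sm gd N11518 = N14966 := rfl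
theorem L110365 : sm gg N14966 = N11546 := ded_24_2 (flp_d L92764) (flp_g L92603) L110363
theorem L110367 : sm gf N11518 = N14967 := rfl
theorem L110369 : sm gc N14967 = N11519 := ded_20_1 (flp_f L92605) L92599 L110367
theorem L110371 : sm ge N14967 = N12106 := ded_25_1 (flp_f L95600) (flp_e L92601) L110367
theorem L110373 : sm gb N11519 = N14968 := rfl
theorem L110375 : sm gd N14968 = N11533 := ded_14_2 (flp_b L92681) (flp_d L92607) L110373
theorem L110377 : sm ge N14968 = N12107 := ded_15_2 (flp_b L95604) (flp_e L92609) L110373
theorem L110379 : sm gf N14968 = N11520 := ded_16_2 (flp_b L92611) (flp_f L45197) L45189 L92605 L110373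
theorem L110381 : sm ga N11520 = N14969 := rfl
theorem L110383 : sm gd N14969 = N11534 := ded_9_2 (flp_a L92687) (flp_d L92613) L110381
theorem L110385 : sm ge N14969 = N12108 := ded_10_2 (flp_a L95610) (flp_e L92615) L110381
theorem L110387 : sm gc N11520 = N14970 := rfl
theorem L110389 : sm ge N14970 = N12109 := ded_19_2 (flp_c L95614) (flp_e L92615) L110387
theorem L110391 : sm gg N11520 = N14971 := rfl
theorem L110393 : sm gd N14971 = N11536 := ded_24_1 (flp_g L92695) (flp_d L92613) L110391
theorem L110395 : sm ge N14971 = N12110 := ded_26_1 (flp_g L95616) (flp_e L92615) L110391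
theorem L110397 : sm gb N14971 = N14935 := ded_17_1 (flp_g L110162) (flp_b L92491) (flp_g L45205) L92611 L110391
theorem L110399 : sm ga N11521 = N14972 := rfl
theorem L110401 : sm ge N14972 = N11627 := ded_10_2 (flp_a L93225) (flp_e L92619) L110399
theorem L110403 : sm gc N11521 = N14973 := rfl
theorem L110405 : sm ge N14973 = N11628 := ded_19_2 (flp_c L93229) (flp_e L92619) L110403
theorem L110407 : sm gf N11521 = N14974 := rfl
theorem L110409 : sm ge N14974 = N11629 := ded_25_1 (flp_f L93231) (flp_e L92619) L110407
theorem L110411 : sm gb N14974 = N11550 := ded_16_1 (flp_f L92791) (flp_b L45281) (flp_f L45211) L92617 L110407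
theorem L110413 : sm gg N11521 = N14975 := rfl
theorem L110415 : sm ge N14975 = N11630 := ded_26_1 (flp_g L93237) (flp_e L92619) L110413
theorem L110417 : sm gb N11522 = N14976 := rfl
theorem L110419 : sm ge N14976 = N11631 := ded_15_2 (flp_b L93241) (flp_e L92625) L110417
theorem L110421 : sm gd N11522 = N14977 := rfl
theorem L110423 : sm ga N14977 = N11523 := ded_9_1 (flp_d L92629) (flp_a L92623) L110421
theorem L110425 : sm gf N14977 = N11553 := ded_23_2 (flp_d L92807) (flp_f L92627) L110421
theorem L110427 : sm gc N11523 = N14978 := rfl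
theorem L110429 : sm gf N14978 = N11556 := ded_20_2 (flp_c L92825) (flp_f L92631) L110427
theorem L110431 : sm ge N11523 = N14979 := rfl
theorem L110433 : sm gf N14979 = N11557 := ded_25_2 (flp_e L92827) (flp_f L92631) L110431
theorem L110435 : sm gd N14979 = N11634 := ded_22_1 (flp_e L93253) (flp_d L46413) (flp_e L45215) L92629 L110431
theorem L110437 : sm gg N11523 = N14980 := rfl
theorem L110439 : sm gd N14980 = N11524 := ded_24_1 (flp_g L92633) L92629 L110437
theorem L110441 : sm gb N11524 = N14981 := rfl
theorem L110443 : sm ge N14981 = N11636 := ded_15_2 (flp_b L93261) (flp_e L92637) L110441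
theorem L110445 : sm ga N11525 = N14982 := rfl
theorem L110447 : sm ge N14982 = N11637 := ded_10_2 (flp_a L93263) (flp_e L92641) L110445
theorem L110449 : sm gg N14982 = N11526 := ded_12_2 (flp_a L92645) (flp_g L92643) L110445
theorem L110451 : sm gc N11525 = N14983 := rfl
theorem L110453 : sm ge N14983 = N11638 := ded_19_2 (flp_c L93269) (flp_e L92641) L110451
theorem L110455 : sm gg N14983 = N11527 := ded_21_2 (flp_c L92649) (flp_g L92643) L110451
theorem L110457 : sm gf N11525 = N14984 := rfl
theorem L110459 : sm ge N14984 = N11639 := ded_25_1 (flp_f L93273) (flp_e L92641) L110457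
theorem L110461 : sm gb N11526 = N14985 := rfl
theorem L110463 : sm ge N14985 = N11640 := ded_15_2 (flp_b L93277) (flp_e L92647) L110461
theorem L110465 : sm gf N12264 = N14985 := ded_25_0 L110463 L93295 (flp_e L96418)
theorem L110467 : sm gc N11526 = N14986 := rfl
theorem L110469 : sm ga N14986 = N11527 := ded_8_1 (flp_c L92649) L92645 L110467
theorem L110471 : sm ge N14986 = N11641 := ded_19_2 (flp_c L93281) (flp_e L92647) L110467
theorem L110473 : sm gf N11526 = N14987 := rfl
theorem L110475 : sm ga N14987 = N11528 := ded_11_1 (flp_f L92653) L92645 L110473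
theorem L110477 : sm ge N14987 = N11642 := ded_25_1 (flp_f L93285) (flp_e L92647) L110473
theorem L110479 : sm gg N14984 = N14987 := ded_29_1 (flp_f L110473) (flp_g L110449) (flp_a L110445) L110457
theorem L110481 : sm gb N14987 = N12143 := ded_16_1 L95793 (flp_b L96420) L110465 (flp_b L110461) L110473
theorem L110483 : sm gd N11527 = N14988 := rfl
theorem L110485 : sm gf N11527 = N14989 := rfl
theorem L110487 : sm gc N14989 = N11528 := ded_20_1 (flp_f L92653) L92649 L110485
theorem L110489 : sm ge N14989 = N11644 := ded_25_1 (flp_f L93299) (flp_e L92651) L110485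
theorem L110491 : sm gg N11528 = N14990 := rfl
theorem L110493 : sm ga N14990 = N14984 := ded_12_1 L110479 L110475 L110491
theorem L110495 : sm ge N14990 = N11645 := ded_26_1 (flp_g L93303) (flp_e L92655) L110491
theorem L110497 : sm gf N14982 = N14990 := ded_29_0 (flp_g L110491) (flp_f L92653) (flp_g L92643) L110445
theorem L110499 : sm ga N11529 = N14991 := rfl
theorem L110501 : sm ge N14991 = N11646 := ded_10_2 (flp_a L93311) (flp_e L92661) L110499
theorem L110503 : sm gc N11529 = N14992 := rfl
theorem L110505 : sm ge N14992 = N11647 := ded_19_2 (flp_c L93315) (flp_e L92661) L110503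
theorem L110507 : sm gf N11529 = N14993 := rfl
theorem L110509 : sm ge N14993 = N11648 := ded_25_1 (flp_f L93317) (flp_e L92661) L110507
theorem L110511 : sm gg N11529 = N14994 := rfl
theorem L110513 : sm ge N14994 = N11649 := ded_26_1 (flp_g L93321) (flp_e L92661) L110511
theorem L110515 : sm gb N14994 = N11565 := ded_17_1 (flp_g L92871) (flp_b L45317) (flp_g L45231) L92659 L110511
theorem L110517 : sm gb N11530 = N14995 := rfl
theorem L110519 : sm ge N14995 = N11650 := ded_15_2 (flp_b L93327) (flp_e L92667) L110517
theorem L110521 : sm gd N11530 = N14996 := rfl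
theorem L110523 : sm ga N14996 = N11531 := ded_9_1 (flp_d L92671) (flp_a L92665) L110521
theorem L110525 : sm gg N14996 = N11567 := ded_24_2 (flp_d L92879) (flp_g L92669) L110521
theorem L110527 : sm gc N11531 = N14997 := rfl
theorem L110529 : sm gg N14997 = N11570 := ded_21_2 (flp_c L92897) (flp_g L92673) L110527
theorem L110531 : sm ge N11531 = N14998 := rfl
theorem L110533 : sm gg N14998 = N11571 := ded_26_2 (flp_e L92899) (flp_g L92673) L110531
theorem L110535 : sm gd N14998 = N11653 := ded_22_1 (flp_e L93339) (flp_d L46449) (flp_e L45235) L92671 L110531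
theorem L110537 : sm gf N11531 = N14999 := rfl
theorem L110539 : sm gd N14999 = N11532 := ded_23_1 (flp_f L92675) L92671 L110537
theorem L110541 : sm gb N11532 = N15000 := rfl
theorem L110543 : sm ge N15000 = N11655 := ded_15_2 (flp_b L93347) (flp_e L92679) L110541
theorem L110545 : sm ga N11533 = N15001 := rfl
theorem L110547 : sm ge N15001 = N11656 := ded_10_2 (flp_a L93349) (flp_e L92683) L110545
theorem L110549 : sm gf N15001 = N11534 := ded_11_2 (flp_a L92687) (flp_f L92685) L110545
theorem L110551 : sm gc N11533 = N15002 := rfl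
theorem L110553 : sm ge N15002 = N11657 := ded_19_2 (flp_c L93355) (flp_e L92683) L110551
theorem L110555 : sm gf N15002 = N11535 := ded_20_2 (flp_c L92691) (flp_f L92685) L110551
theorem L110557 : sm gg N11533 = N15003 := rfl
theorem L110559 : sm ge N15003 = N11658 := ded_26_1 (flp_g L93359) (flp_e L92683) L110557
theorem L110561 : sm gb N11534 = N15004 := rfl
theorem L110563 : sm ge N15004 = N11659 := ded_15_2 (flp_b L93363) (flp_e L92689) L110561
theorem L110565 : sm gg N12212 = N15004 := ded_26_0 L110563 L93381 (flp_e L96133)
theorem L110567 : sm gc N11534 = N15005 := rfl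
theorem L110569 : sm ga N15005 = N11535 := ded_8_1 (flp_c L92691) L92687 L110567
theorem L110571 : sm ge N15005 = N11660 := ded_19_2 (flp_c L93367) (flp_e L92689) L110567
theorem L110573 : sm gg N11534 = N15006 := rfl
theorem L110575 : sm ga N15006 = N11536 := ded_12_1 (flp_g L92695) L92687 L110573
theorem L110577 : sm ge N15006 = N11661 := ded_26_1 (flp_g L93371) (flp_e L92689) L110573
theorem L110579 : sm gf N15006 = N15003 := ded_29_2 (flp_g L110557) L110545 L110549 L110573
theorem L110581 : sm gb N15006 = N12124 := ded_17_1 (flp_g L95694) (flp_b L96135) L110565 (flp_b L110561) L110573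
theorem L110583 : sm gd N11535 = N15007 := rfl
theorem L110585 : sm gg N11535 = N15008 := rfl
theorem L110587 : sm gc N15008 = N11536 := ded_21_1 (flp_g L92695) L92691 L110585
theorem L110589 : sm ge N15008 = N11663 := ded_26_1 (flp_g L93385) (flp_e L92693) L110585
theorem L110591 : sm gf N11536 = N15009 := rfl
theorem L110593 : sm ga N15009 = N15003 := ded_11_1 (flp_f L110579) L110575 L110591
theorem L110595 : sm ge N15009 = N11664 := ded_25_1 (flp_f L93389) (flp_e L92697) L110591
theorem L110597 : sm gg N15009 = N15001 := ded_29_3 (flp_a L110545) L92685 L92695 L110591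
theorem L110599 : sm gf N11537 = N15010 := rfl
theorem L110601 : sm gd N15010 = N11550 := ded_23_1 (flp_f L92791) (flp_d L92703) L110599
theorem L110603 : sm ge N15010 = N12149 := ded_25_1 (flp_f L95818) (flp_e L92705) L110599
theorem L110605 : sm gg N11537 = N15011 := rfl
theorem L110607 : sm gd N15011 = N11551 := ded_24_1 (flp_g L92795) (flp_d L92703) L110605
theorem L110609 : sm ge N15011 = N12150 := ded_26_1 (flp_g L95822) (flp_e L92705) L110605
theorem L110611 : sm gb N11538 = N15012 := rfl
theorem L110613 : sm ge N15012 = N12151 := ded_15_2 (flp_b L95826) (flp_e L92711) L110611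
theorem L110615 : sm gd N11538 = N15013 := rfl
theorem L110617 : sm ga N15013 = N11540 := ded_9_1 (flp_d L92723) (flp_a L92709) L110615
theorem L110619 : sm gg N11538 = N15014 := rfl
theorem L110621 : sm ga N15014 = N11541 := ded_12_1 (flp_g L92726) (flp_a L92709) L110619
theorem L110623 : sm gc N15014 = N11539 := ded_21_1 (flp_g L92713) L92707 L110619
theorem L110625 : sm ge N15014 = N12153 := ded_26_1 (flp_g L95832) (flp_e L92711) L110619
theorem L110627 : sm gf N15014 = N14959 := ded_29_2 (flp_g L110317) (flp_a L110307) L110311 L110619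
theorem L110629 : sm gb N11539 = N15015 := rfl
theorem L110631 : sm gd N15015 = N11555 := ded_14_2 (flp_b L92821) (flp_d L92717) L110629
theorem L110633 : sm ge N15015 = N12154 := ded_15_2 (flp_b L95840) (flp_e L92719) L110629
theorem L110635 : sm gc N11540 = N15016 := rfl
theorem L110637 : sm ge N11540 = N15017 := rfl
theorem L110639 : sm gb N15017 = N15017 := ded_15_1 (flp_e L110637) L92725 L110637
theorem L110640 : sm gd N15017 = N12156 := ded_22_1 (flp_e L95846) (flp_d L84577) (flp_e L45255) L92723 L110637
theorem L110642 : sm gg N11540 = N15018 := rfl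
theorem L110644 : sm gd N15018 = N11541 := ded_24_1 (flp_g L92726) L92723 L110642
theorem L110646 : sm gb N11541 = N15019 := rfl
theorem L110648 : sm ge N15019 = N12158 := ded_15_2 (flp_b L95853) (flp_e L92730) L110646
theorem L110650 : sm gg N15019 = N15019 := ded_17_2 (flp_b L110646) (flp_g L92726) L45257 L92726 L110646
theorem L110651 : sm gf N11541 = N15020 := rfl
theorem L110653 : sm ga N15020 = N14959 := ded_11_1 (flp_f L110627) L110621 L110651
theorem L110655 : sm gc N15020 = N11542 := ded_20_1 (flp_f L92732) (flp_c L92728) L110651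
theorem L110657 : sm ge N15020 = N12159 := ded_25_1 (flp_f L95856) (flp_e L92730) L110651
theorem L110659 : sm gg N15020 = N14957 := ded_29_3 L110307 L92577 L92726 L110651
theorem L110661 : sm gb N11542 = N15021 := rfl
theorem L110663 : sm gd N15021 = N11561 := ded_14_2 (flp_b L92853) (flp_d L92736) L110661
theorem L110665 : sm ge N15021 = N12163 := ded_15_2 (flp_b L95878) (flp_e L92738) L110661
theorem L110667 : sm gf N11543 = N15022 := rfl
theorem L110669 : sm gd N15022 = N11564 := ded_23_1 (flp_f L92867) (flp_d L92744) L110667
theorem L110671 : sm ge N15022 = N12172 := ded_25_1 (flp_f L95919) (flp_e L92746) L110667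
theorem L110673 : sm gg N11543 = N15023 := rfl
theorem L110675 : sm gd N15023 = N11565 := ded_24_1 (flp_g L92871) (flp_d L92744) L110673
theorem L110677 : sm ge N15023 = N12173 := ded_26_1 (flp_g L95923) (flp_e L92746) L110673
theorem L110679 : sm gb N11544 = N15024 := rfl
theorem L110681 : sm ge N15024 = N12174 := ded_15_2 (flp_b L95927) (flp_e L92752) L110679
theorem L110683 : sm gd N11544 = N15025 := rfl
theorem L110685 : sm ga N15025 = N11546 := ded_9_1 (flp_d L92764) (flp_a L92750) L110683
theorem L110687 : sm gf N11544 = N15026 := rfl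
theorem L110689 : sm ga N15026 = N11547 := ded_11_1 (flp_f L92767) (flp_a L92750) L110687
theorem L110691 : sm gc N15026 = N11545 := ded_20_1 (flp_f L92754) L92748 L110687
theorem L110693 : sm ge N15026 = N12176 := ded_25_1 (flp_f L95933) (flp_e L92752) L110687
theorem L110695 : sm gg N14967 = N15026 := ded_29_1 (flp_f L110687) (flp_g L110361) L110357 L110367
theorem L110697 : sm gb N11545 = N15027 := rfl
theorem L110699 : sm gd N15027 = N11569 := ded_14_2 (flp_b L92893) (flp_d L92758) L110697
theorem L110701 : sm ge N15027 = N12177 := ded_15_2 (flp_b L95941) (flp_e L92760) L110697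
theorem L110703 : sm gc N11546 = N15028 := rfl
theorem L110705 : sm ge N11546 = N15029 := rfl
theorem L110707 : sm gb N15029 = N15029 := ded_15_1 (flp_e L110705) L92766 L110705
theorem L110708 : sm gd N15029 = N12179 := ded_22_1 (flp_e L95947) (flp_d L84627) (flp_e L45272) L92764 L110705
theorem L110710 : sm gf N11546 = N15030 := rfl
theorem L110712 : sm gd N15030 = N11547 := ded_23_1 (flp_f L92767) L92764 L110710
theorem L110714 : sm gb N11547 = N15031 := rfl
theorem L110716 : sm ge N15031 = N12181 := ded_15_2 (flp_b L95954) (flp_e L92771) L110714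
theorem L110718 : sm gf N15031 = N15031 := ded_16_2 (flp_b L110714) (flp_f L92767) L45274 L92767 L110714
theorem L110719 : sm gg N11547 = N15032 := rfl
theorem L110721 : sm ga N15032 = N14967 := ded_12_1 L110695 L110689 L110719
theorem L110723 : sm gc N15032 = N11548 := ded_21_1 (flp_g L92773) (flp_c L92769) L110719
theorem L110725 : sm ge N15032 = N12182 := ded_26_1 (flp_g L95957) (flp_e L92771) L110719
theorem L110727 : sm gf N14965 = N15032 := ded_29_0 (flp_g L110719) (flp_f L92767) (flp_g L92603) (flp_a L110357)
theorem L110729 : sm gb N11548 = N15033 := rfl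
theorem L110731 : sm gd N15033 = N11575 := ded_14_2 (flp_b L92925) (flp_d L92777) L110729
theorem L110733 : sm ge N15033 = N12186 := ded_15_2 (flp_b L95985) (flp_e L92779) L110729
theorem L110735 : sm gf N11549 = N15034 := rfl
theorem L110737 : sm ga N15034 = N11550 := ded_11_1 (flp_f L92791) L92783 L110735
theorem L110739 : sm gc N15034 = N11550 := ded_20_1 (flp_f L92791) L92789 L110735
theorem L110741 : sm ge N15034 = N11665 := ded_25_1 (flp_f L93397) (flp_e L92785) L110735
theorem L110743 : sm gg N11549 = N15035 := rfl
theorem L110745 : sm ga N15035 = N11551 := ded_12_1 (flp_g L92795) L92783 L110743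
theorem L110747 : sm gc N15035 = N11551 := ded_21_1 (flp_g L92795) L92789 L110743
theorem L110749 : sm ge N15035 = N11666 := ded_26_1 (flp_g L93405) (flp_e L92785) L110743
theorem L110751 : sm gg N11550 = N15036 := rfl
theorem L110753 : sm ge N15036 = N11667 := ded_26_1 (flp_g L93413) (flp_e L92793) L110751
theorem L110755 : sm gf N15035 = N15036 := ded_29_0 (flp_g L110751) (flp_f L92791) L92795 (flp_a L110745)
theorem L110757 : sm gb N11551 = N15037 := rfl
theorem L110759 : sm ge N15037 = N11668 := ded_15_2 (flp_b L93419) (flp_e L92797) L110757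
theorem L110761 : sm gg N15037 = N11555 := ded_17_2 (flp_b L92821) (flp_g L45291) L45281 L92795 L110757
theorem L110763 : sm gf N11551 = N15038 := rfl
theorem L110765 : sm ga N15038 = N15036 := ded_11_1 (flp_f L110755) L110745 L110763
theorem L110767 : sm gc N15038 = N15036 := ded_20_1 (flp_f L110755) L110747 L110763
theorem L110769 : sm ge N15038 = N11669 := ded_25_1 (flp_f L93425) (flp_e L92797) L110763
theorem L110771 : sm gg N15038 = N15034 := ded_29_3 L110737 (flp_f L92791) L92795 L110763
theorem L110773 : sm gd N11552 = N15039 := rfl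
theorem L110775 : sm ga N15039 = N12196 := ded_9_1 (flp_d L96048) L92805 L110773
theorem L110777 : sm gb N15039 = N11553 := ded_14_1 (flp_d L92807) L92799 L110773
theorem L110779 : sm gc N13717 = N15039 := ded_28_0 (flp_d L110773) L92803 (flp_d L96157) (flp_c L89140) L38718 L38744 L89184 (flp_a L104103)
theorem L110781 : sm gf N11552 = N15040 := rfl
theorem L110783 : sm ga N15040 = N12197 := ded_11_1 (flp_f L96050) L92805 L110781
theorem L110785 : sm gc N15040 = N12193 := ded_20_1 (flp_f L96030) (flp_c L92803) L110781
theorem L110787 : sm ge N15040 = N11671 := ded_25_1 (flp_f L93442) (flp_e L92801) L110781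
theorem L110789 : sm gg N11552 = N15041 := rfl
theorem L110791 : sm ga N15041 = N12198 := ded_12_1 (flp_g L96056) L92805 L110789
theorem L110793 : sm gc N15041 = N12194 := ded_21_1 (flp_g L96036) (flp_c L92803) L110789
theorem L110795 : sm ge N15041 = N11672 := ded_26_1 (flp_g L93448) (flp_e L92801) L110789
theorem L110797 : sm gc N11553 = N15042 := rfl
theorem L110799 : sm ga N15042 = N11556 := ded_8_1 (flp_c L92825) (flp_a L92809) L110797
theorem L110801 : sm gd N15016 = N15042 := ded_28_1 (flp_c L110797) (flp_d L92807) (flp_c L45285) (flp_d L45249) L92707 L110615 L110617 L110635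
theorem L110803 : sm ge N11553 = N15043 := rfl
theorem L110805 : sm ga N15043 = N11557 := ded_10_1 (flp_e L92827) (flp_a L92809) L110803
theorem L110807 : sm gd N15043 = N11673 := ded_22_1 (flp_e L93454) (flp_d L46493) (flp_e L45289) L92807 L110803
theorem L110809 : sm gg N11553 = N15044 := rfl
theorem L110811 : sm ga N15044 = N11558 := ded_12_1 (flp_g L92833) (flp_a L92809) L110809
theorem L110813 : sm gd N15044 = N11554 := ded_24_1 (flp_g L92811) L92807 L110809
theorem L110815 : sm gf N15044 = N14980 := ded_29_2 (flp_g L110437) (flp_a L110423) L110425 L110809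
theorem L110817 : sm gb N11554 = N15045 := rfl
theorem L110819 : sm ge N15045 = N11675 := ded_15_2 (flp_b L93466) (flp_e L92817) L110817
theorem L110821 : sm ga N11555 = N15046 := rfl
theorem L110823 : sm ge N15046 = N11676 := ded_10_2 (flp_a L93468) (flp_e L92823) L110821
theorem L110825 : sm gc N11555 = N15047 := rfl
theorem L110827 : sm ge N15047 = N11677 := ded_19_2 (flp_c L93472) (flp_e L92823) L110825
theorem L110829 : sm gf N11555 = N15048 := rfl
theorem L110831 : sm ge N15048 = N11678 := ded_25_1 (flp_f L93474) (flp_e L92823) L110829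
theorem L110833 : sm gb N15048 = N14984 := ded_16_1 (flp_f L110457) (flp_b L92639) (flp_f L45297) L92821 L110829
theorem L110835 : sm gg N12141 = N15048 := ded_26_0 L110831 (flp_g L93480) (flp_e L95779)
theorem L110837 : sm gd N11556 = N15049 := rfl
theorem L110839 : sm ga N15049 = N15016 := ded_9_1 L110801 L110799 L110837
theorem L110841 : sm gc N15013 = N15049 := ded_28_0 (flp_d L110837) (flp_c L92825) (flp_d L45299) (flp_c L21779) (flp_d L21765) L45253 L92723 (flp_a L110617)
theorem L110843 : sm ge N11556 = N15050 := rfl
theorem L110845 : sm gc N15050 = N11557 := ded_19_1 (flp_e L92827) L92825 L110843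
theorem L110847 : sm gg N11556 = N15051 := rfl
theorem L110849 : sm gc N15051 = N11558 := ded_21_1 (flp_g L92833) L92825 L110847
theorem L110851 : sm gg N11557 = N15052 := rfl
theorem L110853 : sm gd N15052 = N11682 := ded_24_1 (flp_g L93494) (flp_d L92831) L110851
theorem L110855 : sm ge N15052 = N11558 := ded_26_1 (flp_g L92833) L92827 L110851
theorem L110857 : sm gb N11558 = N15053 := rfl
theorem L110859 : sm gd N15053 = N11559 := ded_14_2 (flp_b L92837) (flp_d L92835) L110857
theorem L110861 : sm gg N15053 = N11583 := ded_17_2 (flp_b L92966) (flp_g L45407) (flp_b L45301) L92833 L110857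
theorem L110863 : sm gf N11558 = N15054 := rfl
theorem L110865 : sm ga N15054 = N14980 := ded_11_1 (flp_f L110815) L110811 L110863
theorem L110867 : sm gd N15054 = N11560 := ded_23_1 (flp_f L92843) (flp_d L92835) L110863
theorem L110869 : sm gg N15054 = N14977 := ded_29_3 L110423 L92631 L92833 L110863
theorem L110871 : sm ga N11559 = N15055 := rfl
theorem L110873 : sm ge N15055 = N11685 := ded_10_2 (flp_a L93512) (flp_e L92839) L110871
theorem L110875 : sm gg N15055 = N11584 := ded_12_2 (flp_a L92970) (flp_g L92841) L110871
theorem L110877 : sm gf N11559 = N15056 := rfl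
theorem L110879 : sm ge N15056 = N11686 := ded_25_1 (flp_f L93516) (flp_e L92839) L110877
theorem L110881 : sm gb N11560 = N15057 := rfl
theorem L110883 : sm ge N15057 = N11687 := ded_15_2 (flp_b L93518) (flp_e L92849) L110881
theorem L110885 : sm ga N11561 = N15058 := rfl
theorem L110887 : sm ge N15058 = N11688 := ded_10_2 (flp_a L93520) (flp_e L92855) L110885
theorem L110889 : sm gb N12082 = N15058 := ded_15_3 L110887 L97889 (flp_e L95492)
theorem L110891 : sm gc N11561 = N15059 := rfl
theorem L110893 : sm ge N15059 = N11689 := ded_19_2 (flp_c L93524) (flp_e L92855) L110891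
theorem L110895 : sm gg N11561 = N15060 := rfl
theorem L110897 : sm ge N15060 = N11690 := ded_26_1 (flp_g L93526) (flp_e L92855) L110895
theorem L110899 : sm gb N15060 = N14975 := ded_17_1 (flp_g L110413) (flp_b L92617) (flp_g L45315) L92853 L110895
theorem L110901 : sm gf N11562 = N15061 := rfl
theorem L110903 : sm ga N15061 = N11564 := ded_11_1 (flp_f L92867) L92857 L110901
theorem L110905 : sm gc N15061 = N11564 := ded_20_1 (flp_f L92867) (flp_c L102019) L110901
theorem L110907 : sm ge N15061 = N11692 := ded_25_1 (flp_f L93536) (flp_e L92859) L110901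
theorem L110909 : sm gg N11562 = N15062 := rfl
theorem L110911 : sm ga N15062 = N11565 := ded_12_1 (flp_g L92871) L92857 L110909
theorem L110913 : sm gc N15062 = N11565 := ded_21_1 (flp_g L92871) (flp_c L102019) L110909
theorem L110915 : sm ge N15062 = N11693 := ded_26_1 (flp_g L93542) (flp_e L92859) L110909
theorem L110917 : sm gb N11564 = N15063 := rfl
theorem L110919 : sm ge N15063 = N11698 := ded_15_2 (flp_b L93562) (flp_e L92869) L110917
theorem L110921 : sm gf N15063 = N11569 := ded_16_2 (flp_b L92893) (flp_f L45327) L45317 L92867 L110917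
theorem L110923 : sm gg N11564 = N15064 := rfl
theorem L110925 : sm ge N15064 = N11699 := ded_26_1 (flp_g L93568) (flp_e L92869) L110923
theorem L110927 : sm gf N15062 = N15064 := ded_29_0 (flp_g L110923) (flp_f L92867) L92871 (flp_a L110911)
theorem L110929 : sm gf N11565 = N15065 := rfl
theorem L110931 : sm ga N15065 = N15064 := ded_11_1 (flp_f L110927) L110911 L110929
theorem L110933 : sm gc N15065 = N15064 := ded_20_1 (flp_f L110927) L110913 L110929
theorem L110935 : sm ge N15065 = N11700 := ded_25_1 (flp_f L93574) (flp_e L92873) L110929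
theorem L110937 : sm gg N15065 = N15061 := ded_29_3 L110903 (flp_f L92867) L92871 L110929
theorem L110939 : sm gb N15065 = N14480 := ded_31_2 (flp_g L107939) (flp_f L107743) L107745 L110208 (flp_f L110216) (flp_b L92699) (flp_g L92695) (flp_f L92685) (flp_b L92681) L45333 (flp_f L45327) L45317 L92871 L110929
theorem L110941 : sm gd N11566 = N15066 := rfl
theorem L110943 : sm ga N15066 = N12248 := ded_9_1 (flp_d L96333) (flp_a L102080) L110941
theorem L110945 : sm gb N15066 = N11567 := ded_14_1 (flp_d L92879) L92875 L110941
theorem L110947 : sm gc N13739 = N15066 := ded_28_0 (flp_d L110941) L102082 (flp_d L96442) (flp_c L89154) L38728 L38762 L89242 (flp_a L104224)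
theorem L110949 : sm gf N11566 = N15067 := rfl
theorem L110951 : sm ga N15067 = N12249 := ded_11_1 (flp_f L96335) (flp_a L102080) L110949
theorem L110953 : sm gc N15067 = N12245 := ded_20_1 (flp_f L96315) (flp_c L102082) L110949
theorem L110955 : sm ge N15067 = N11703 := ded_25_1 (flp_f L93589) (flp_e L92877) L110949
theorem L110957 : sm gg N11566 = N15068 := rfl
theorem L110959 : sm ga N15068 = N12250 := ded_12_1 (flp_g L96341) (flp_a L102080) L110957
theorem L110961 : sm gc N15068 = N12246 := ded_21_1 (flp_g L96321) (flp_c L102082) L110957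
theorem L110963 : sm ge N15068 = N11704 := ded_26_1 (flp_g L93591) (flp_e L92877) L110957
theorem L110965 : sm gc N11567 = N15069 := rfl
theorem L110967 : sm ga N15069 = N11570 := ded_8_1 (flp_c L92897) (flp_a L92881) L110965
theorem L110969 : sm gd N15028 = N15069 := ded_28_1 (flp_c L110965) (flp_d L92879) (flp_c L45321) (flp_d L45266) L92748 L110683 L110685 L110703
theorem L110971 : sm ge N11567 = N15070 := rfl
theorem L110973 : sm ga N15070 = N11571 := ded_10_1 (flp_e L92899) (flp_a L92881) L110971
theorem L110975 : sm gd N15070 = N11705 := ded_22_1 (flp_e L93593) (flp_d L46553) (flp_e L45325) L92879 L110971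
theorem L110977 : sm gf N11567 = N15071 := rfl
theorem L110979 : sm ga N15071 = N11572 := ded_11_1 (flp_f L92905) (flp_a L92881) L110977
theorem L110981 : sm gd N15071 = N11568 := ded_23_1 (flp_f L92883) L92879 L110977
theorem L110983 : sm gg N14999 = N15071 := ded_29_1 (flp_f L110977) (flp_g L110525) L110523 L110537
theorem L110985 : sm gb N11568 = N15072 := rfl
theorem L110987 : sm ge N15072 = N11707 := ded_15_2 (flp_b L93605) (flp_e L92889) L110985
theorem L110989 : sm ga N11569 = N15073 := rfl
theorem L110991 : sm ge N15073 = N11708 := ded_10_2 (flp_a L93607) (flp_e L92895) L110989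
theorem L110993 : sm gc N11569 = N15074 := rfl
theorem L110995 : sm ge N15074 = N11709 := ded_19_2 (flp_c L93611) (flp_e L92895) L110993
theorem L110997 : sm gg N11569 = N15075 := rfl
theorem L110999 : sm ge N15075 = N11710 := ded_26_1 (flp_g L93613) (flp_e L92895) L110997
theorem L111001 : sm gb N15075 = N15003 := ded_17_1 (flp_g L110557) (flp_b L92681) L45333 L92893 L110997
theorem L111003 : sm gf N12122 = N15075 := ded_25_0 L110999 (flp_f L93619) (flp_e L95680)
theorem L111005 : sm gd N11570 = N15076 := rfl
theorem L111007 : sm ga N15076 = N15028 := ded_9_1 L110969 L110967 L111005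
theorem L111009 : sm gc N15025 = N15076 := ded_28_0 (flp_d L111005) (flp_c L92897) (flp_d L45335) (flp_c L21793) (flp_d L21771) L45270 L92764 (flp_a L110685)
theorem L111011 : sm ge N11570 = N15077 := rfl
theorem L111013 : sm gc N15077 = N11571 := ded_19_1 (flp_e L92899) L92897 L111011
theorem L111015 : sm gf N11570 = N15078 := rfl
theorem L111017 : sm gc N15078 = N11572 := ded_20_1 (flp_f L92905) L92897 L111015
theorem L111019 : sm gf N11571 = N15079 := rfl
theorem L111021 : sm gd N15079 = N11714 := ded_23_1 (flp_f L93633) (flp_d L92903) L111019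
theorem L111023 : sm ge N15079 = N11572 := ded_25_1 (flp_f L92905) L92899 L111019
theorem L111025 : sm gb N11572 = N15080 := rfl
theorem L111027 : sm gd N15080 = N11573 := ded_14_2 (flp_b L92909) (flp_d L92907) L111025
theorem L111029 : sm gf N15080 = N11593 := ded_16_2 (flp_b L93019) (flp_f L45485) (flp_b L45337) L92905 L111025
theorem L111031 : sm gg N11572 = N15081 := rfl
theorem L111033 : sm ga N15081 = N14999 := ded_12_1 L110983 L110979 L111031
theorem L111035 : sm gd N15081 = N11574 := ded_24_1 (flp_g L92915) (flp_d L92907) L111031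
theorem L111037 : sm gf N14996 = N15081 := ded_29_0 (flp_g L111031) (flp_f L92905) (flp_g L92673) (flp_a L110523)
theorem L111039 : sm ga N11573 = N15082 := rfl
theorem L111041 : sm ge N15082 = N11717 := ded_10_2 (flp_a L93651) (flp_e L92911) L111039
theorem L111043 : sm gf N15082 = N11594 := ded_11_2 (flp_a L93023) (flp_f L92913) L111039
theorem L111045 : sm gg N11573 = N15083 := rfl
theorem L111047 : sm ge N15083 = N11718 := ded_26_1 (flp_g L93655) (flp_e L92911) L111045
theorem L111049 : sm gb N11574 = N15084 := rfl
theorem L111051 : sm ge N15084 = N11719 := ded_15_2 (flp_b L93657) (flp_e L92921) L111049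
theorem L111053 : sm ga N11575 = N15085 := rfl
theorem L111055 : sm ge N15085 = N11720 := ded_10_2 (flp_a L93659) (flp_e L92927) L111053
theorem L111057 : sm gb N12076 = N15085 := ded_15_3 L111055 L98069 (flp_e L95457)
theorem L111059 : sm gc N11575 = N15086 := rfl
theorem L111061 : sm ge N15086 = N11721 := ded_19_2 (flp_c L93663) (flp_e L92927) L111059
theorem L111063 : sm gf N11575 = N15087 := rfl
theorem L111065 : sm ge N15087 = N11722 := ded_25_1 (flp_f L93665) (flp_e L92927) L111063
theorem L111067 : sm gb N15087 = N14993 := ded_16_1 (flp_f L110507) (flp_b L92659) L45351 L92925 L111063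
theorem L111069 : sm gb N11576 = N15088 := rfl
theorem L111071 : sm ge N15088 = N11723 := ded_15_2 (flp_b L93671) (flp_e L92932) L111069
theorem L111073 : sm ga N15088 = N12195 := ded_7_1 (flp_b L96042) L92805 (flp_b L92799) L45287 L21783 (flp_a L21811) L45377 L92929 L111069
theorem L111075 : sm gc N12202 = N15088 := ded_19_3 L111071 (flp_c L93675) (flp_e L96084)
theorem L111077 : sm gd N11576 = N15089 := rfl
theorem L111079 : sm ga N15089 = N11577 := ded_9_1 (flp_d L92934) L92929 L111077
theorem L111081 : sm gf N11576 = N15090 := rfl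
theorem L111083 : sm ga N15090 = N11578 := ded_11_1 (flp_f L92938) L92929 L111081
theorem L111085 : sm gc N15090 = N15090 := ded_20_1 (flp_f L111081) L92931 L111081
theorem L111086 : sm ge N15090 = N11725 := ded_25_1 (flp_f L93681) (flp_e L92932) L111081
theorem L111088 : sm gg N11576 = N15091 := rfl
theorem L111090 : sm ga N15091 = N11579 := ded_12_1 (flp_g L92943) L92929 L111088
theorem L111092 : sm gc N15091 = N15091 := ded_21_1 (flp_g L111088) L92931 L111088
theorem L111093 : sm ge N15091 = N11726 := ded_26_1 (flp_g L93686) (flp_e L92932) L111088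
theorem L111095 : sm gc N11577 = N15092 := rfl
theorem L111097 : sm ge N11577 = N15093 := rfl
theorem L111099 : sm gb N15093 = N11580 := ded_15_1 (flp_e L92948) (flp_b L92936) L111097
theorem L111101 : sm gd N15093 = N11728 := ded_22_1 (flp_e L93693) (flp_d L46647) (flp_e L45379) L92934 L111097
theorem L111103 : sm gf N11577 = N15094 := rfl
theorem L111105 : sm gd N15094 = N11578 := ded_23_1 (flp_f L92938) L92934 L111103
theorem L111107 : sm gg N11577 = N15095 := rfl
theorem L111109 : sm gd N15095 = N11579 := ded_24_1 (flp_g L92943) L92934 L111107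
theorem L111111 : sm gg N11578 = N15096 := rfl
theorem L111113 : sm gc N15096 = N15096 := ded_21_1 (flp_g L111111) L92940 L111111
theorem L111114 : sm ge N15096 = N11731 := ded_26_1 (flp_g L93705) (flp_e L92941) L111111
theorem L111116 : sm gf N15091 = N15096 := ded_29_0 (flp_g L111111) (flp_f L92938) L92943 (flp_a L111090)
theorem L111118 : sm gb N11579 = N15097 := rfl
theorem L111120 : sm ge N15097 = N11732 := ded_15_2 (flp_b L93710) (flp_e L92946) L111118
theorem L111122 : sm gg N15097 = N11581 := ded_17_2 (flp_b L92954) (flp_g L45385) L45377 L92943 L111118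
theorem L111124 : sm gf N11579 = N15098 := rfl
theorem L111126 : sm ga N15098 = N15096 := ded_11_1 (flp_f L111116) L111090 L111124
theorem L111128 : sm gc N15098 = N15098 := ded_20_1 (flp_f L111124) L92945 L111124
theorem L111129 : sm ge N15098 = N11733 := ded_25_1 (flp_f L93714) (flp_e L92946) L111124
theorem L111131 : sm gg N15098 = N15090 := ded_29_3 L111083 (flp_f L92938) L92943 L111124
theorem L111133 : sm ga N11581 = N15099 := rfl
theorem L111135 : sm ge N15099 = N11736 := ded_10_2 (flp_a L93733) (flp_e L92956) L111133
theorem L111137 : sm gf N11581 = N15100 := rfl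
theorem L111139 : sm ge N15100 = N11737 := ded_25_1 (flp_f L93735) (flp_e L92956) L111137
theorem L111141 : sm gb N15100 = N12307 := ded_16_1 (flp_f L96659) (flp_b L84952) L81005 L92954 L111137
theorem L111143 : sm gb N11582 = N15101 := rfl
theorem L111145 : sm gd N15101 = N11745 := ded_14_2 (flp_b L93761) (flp_d L92960) L111143
theorem L111147 : sm ge N15101 = N11583 := ded_15_2 (flp_b L92966) (flp_e L92962) L111143
theorem L111149 : sm ga N11583 = N15102 := rfl
theorem L111151 : sm gd N15102 = N11584 := ded_9_2 (flp_a L92970) (flp_d L92968) L111149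
theorem L111153 : sm gc N11583 = N15103 := rfl
theorem L111155 : sm gf N11583 = N15104 := rfl
theorem L111157 : sm gd N15104 = N11585 := ded_23_1 (flp_f L92974) (flp_d L92968) L111155
theorem L111159 : sm gb N15104 = N12241 := ded_16_1 (flp_f L96289) L84775 L83400 L92966 L111155
theorem L111161 : sm gb N11584 = N15105 := rfl
theorem L111163 : sm ge N15105 = N11749 := ded_15_2 (flp_b L93777) (flp_e L92972) L111161
theorem L111165 : sm gf N11584 = N15106 := rfl
theorem L111167 : sm ga N15106 = N11585 := ded_11_1 (flp_f L92974) L92970 L111165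
theorem L111169 : sm gc N15106 = N15082 := ded_20_1 L111043 L93025 L111165
theorem L111171 : sm ge N15106 = N11750 := ded_25_1 (flp_f L93779) (flp_e L92972) L111165
theorem L111173 : sm gg N15056 = N15106 := ded_29_1 (flp_f L111165) (flp_g L110875) (flp_a L110871) L110877
theorem L111175 : sm gg N11585 = N15107 := rfl
theorem L111177 : sm ga N15107 = N15056 := ded_12_1 L111173 L111167 L111175
theorem L111179 : sm gc N15107 = N15083 := ded_21_1 (flp_g L111045) (flp_c L92976) L111175
theorem L111181 : sm ge N15107 = N11751 := ded_26_1 (flp_g L93787) (flp_e L92978) L111175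
theorem L111183 : sm gf N15055 = N15107 := ded_29_0 (flp_g L111175) (flp_f L92974) (flp_g L92841) L110871
theorem L111185 : sm gb N11586 = N15108 := rfl
theorem L111187 : sm ge N15108 = N11752 := ded_15_2 (flp_b L93795) (flp_e L92985) L111185
theorem L111189 : sm ga N15108 = N12247 := ded_7_1 (flp_b L96327) (flp_a L102080) (flp_b L92875) L45323 L21797 (flp_a L21851) L45455 L92982 L111185
theorem L111191 : sm gc N12254 = N15108 := ded_19_3 L111187 L102101 (flp_e L96369)
theorem L111193 : sm gd N11586 = N15109 := rfl
theorem L111195 : sm ga N15109 = N11587 := ded_9_1 (flp_d L92987) L92982 L111193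
theorem L111197 : sm gf N11586 = N15110 := rfl
theorem L111199 : sm ga N15110 = N11588 := ded_11_1 (flp_f L92991) L92982 L111197
theorem L111201 : sm gc N15110 = N15110 := ded_20_1 (flp_f L111197) L92984 L111197
theorem L111202 : sm ge N15110 = N11754 := ded_25_1 (flp_f L93801) (flp_e L92985) L111197
theorem L111204 : sm gg N11586 = N15111 := rfl
theorem L111206 : sm ga N15111 = N11589 := ded_12_1 (flp_g L92996) L92982 L111204
theorem L111208 : sm gc N15111 = N15111 := ded_21_1 (flp_g L111204) L92984 L111204
theorem L111209 : sm ge N15111 = N11755 := ded_26_1 (flp_g L93806) (flp_e L92985) L111204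
theorem L111211 : sm gc N11587 = N15112 := rfl
theorem L111213 : sm ge N11587 = N15113 := rfl
theorem L111215 : sm gb N15113 = N11590 := ded_15_1 (flp_e L93001) (flp_b L92989) L111213
theorem L111217 : sm gd N15113 = N11757 := ded_22_1 (flp_e L93813) (flp_d L46775) (flp_e L45457) L92987 L111213
theorem L111219 : sm gf N11587 = N15114 := rfl
theorem L111221 : sm gd N15114 = N11588 := ded_23_1 (flp_f L92991) L92987 L111219
theorem L111223 : sm gg N11587 = N15115 := rfl
theorem L111225 : sm gd N15115 = N11589 := ded_24_1 (flp_g L92996) L92987 L111223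
theorem L111227 : sm gb N11588 = N15116 := rfl
theorem L111229 : sm ge N15116 = N11760 := ded_15_2 (flp_b L93825) (flp_e L92994) L111227
theorem L111231 : sm gf N15116 = N11591 := ded_16_2 (flp_b L93007) (flp_f L45463) L45455 L92991 L111227
theorem L111233 : sm gg N11588 = N15117 := rfl
theorem L111235 : sm gc N15117 = N15117 := ded_21_1 (flp_g L111233) L92993 L111233
theorem L111236 : sm ge N15117 = N11761 := ded_26_1 (flp_g L93829) (flp_e L92994) L111233
theorem L111238 : sm gf N15111 = N15117 := ded_29_0 (flp_g L111233) (flp_f L92991) L92996 (flp_a L111206)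
theorem L111240 : sm gf N11589 = N15118 := rfl
theorem L111242 : sm ga N15118 = N15117 := ded_11_1 (flp_f L111238) L111206 L111240
theorem L111244 : sm gc N15118 = N15118 := ded_20_1 (flp_f L111240) L92998 L111240
theorem L111245 : sm ge N15118 = N11762 := ded_25_1 (flp_f L93834) (flp_e L92999) L111240
theorem L111247 : sm gg N15118 = N15110 := ded_29_3 L111199 (flp_f L92991) L92996 L111240
theorem L111249 : sm ga N11591 = N15119 := rfl
theorem L111251 : sm ge N15119 = N11765 := ded_10_2 (flp_a L93853) (flp_e L93009) L111249
theorem L111253 : sm gg N11591 = N15120 := rfl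
theorem L111255 : sm ge N15120 = N11766 := ded_26_1 (flp_g L93855) (flp_e L93009) L111253
theorem L111257 : sm gb N15120 = N12324 := ded_17_1 (flp_g L96764) (flp_b L85019) L82332 L93007 L111253
theorem L111259 : sm gb N11592 = N15121 := rfl
theorem L111261 : sm gd N15121 = N11774 := ded_14_2 (flp_b L93881) (flp_d L93013) L111259
theorem L111263 : sm ge N15121 = N11593 := ded_15_2 (flp_b L93019) (flp_e L93015) L111259
theorem L111265 : sm ga N11593 = N15122 := rfl
theorem L111267 : sm gd N15122 = N11594 := ded_9_2 (flp_a L93023) (flp_d L93021) L111265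
theorem L111269 : sm gc N11593 = N15123 := rfl
theorem L111271 : sm gg N11593 = N15124 := rfl
theorem L111273 : sm gd N15124 = N11595 := ded_24_1 (flp_g L93029) (flp_d L93021) L111271
theorem L111275 : sm gb N15124 = N12293 := ded_17_1 (flp_g L96576) L84897 (flp_g L83368) L93019 L111271
theorem L111277 : sm gb N11594 = N15125 := rfl
theorem L111279 : sm ge N15125 = N11778 := ded_15_2 (flp_b L93897) (flp_e L93027) L111277
theorem L111281 : sm gg N11594 = N15126 := rfl
theorem L111283 : sm ga N15126 = N11595 := ded_12_1 (flp_g L93029) L93023 L111281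
theorem L111285 : sm gc N15126 = N15055 := ded_21_1 L110875 (flp_c L93025) L111281
theorem L111287 : sm ge N15126 = N11779 := ded_26_1 (flp_g L93899) (flp_e L93027) L111281
theorem L111289 : sm gf N15126 = N15083 := ded_29_2 (flp_g L111045) L111039 L111043 L111281
theorem L111291 : sm gf N11595 = N15127 := rfl
theorem L111293 : sm ga N15127 = N15083 := ded_11_1 (flp_f L111289) L111283 L111291
theorem L111295 : sm gc N15127 = N15056 := ded_20_1 (flp_f L110877) (flp_c L93031) L111291
theorem L111297 : sm ge N15127 = N11780 := ded_25_1 (flp_f L93907) (flp_e L93033) L111291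
theorem L111299 : sm gg N15127 = N15082 := ded_29_3 (flp_a L111039) L92913 L93029 L111291
theorem L111301 : sm gb N11596 = N15128 := rfl
theorem L111303 : sm ge N15128 = N12721 := ded_15_2 (flp_b L98669) (flp_e L93041) L111301
theorem L111305 : sm gd N11596 = N15129 := rfl
theorem L111307 : sm ga N15129 = N11597 := ded_9_1 (flp_d L93043) L93037 L111305
theorem L111309 : sm gf N11596 = N15130 := rfl
theorem L111311 : sm ga N15130 = N11598 := ded_11_1 (flp_f L93047) L93037 L111309
theorem L111313 : sm gc N15130 = N12300 := ded_20_1 (flp_f L96615) (flp_c L93039) L111309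
theorem L111315 : sm ge N15130 = N12723 := ded_25_1 (flp_f L98675) (flp_e L93041) L111309
theorem L111317 : sm gg N11596 = N15131 := rfl
theorem L111319 : sm ga N15131 = N11599 := ded_12_1 (flp_g L93055) L93037 L111317
theorem L111321 : sm gc N15131 = N12220 := ded_21_1 L96191 (flp_c L93039) L111317
theorem L111323 : sm ge N15131 = N12547 := ded_26_1 L97795 (flp_e L93041) L111317
theorem L111325 : sm gc N11597 = N15132 := rfl
theorem L111327 : sm gb N15132 = N15092 := ded_13_1 (flp_c L111095) L92936 L45629 (flp_b L93045) L111325
theorem L111329 : sm ge N11597 = N15133 := rfl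
theorem L111331 : sm gb N15133 = N11600 := ded_15_1 (flp_e L93063) (flp_b L93045) L111329
theorem L111333 : sm gd N15133 = N12725 := ded_22_1 (flp_e L98685) (flp_d L85830) L81104 L93043 L111329
theorem L111335 : sm gf N11597 = N15134 := rfl
theorem L111337 : sm gd N15134 = N11598 := ded_23_1 (flp_f L93047) L93043 L111335
theorem L111339 : sm gb N15134 = N15094 := ded_16_1 (flp_f L111103) L92936 L72136 (flp_b L93045) L111335
theorem L111341 : sm gg N11597 = N15135 := rfl
theorem L111343 : sm gd N15135 = N11599 := ded_24_1 (flp_g L93055) L93043 L111341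
theorem L111345 : sm gb N15135 = N12225 := ded_17_1 L96215 L84775 (flp_g L83398) (flp_b L93045) L111341
theorem L111347 : sm gg N11598 = N15136 := rfl
theorem L111349 : sm gc N15136 = N12301 := ded_21_1 (flp_g L96623) (flp_c L93049) L111347
theorem L111351 : sm ge N15136 = N12727 := ded_26_1 (flp_g L98695) (flp_e L93051) L111347
theorem L111353 : sm gf N15131 = N15136 := ded_29_0 (flp_g L111347) (flp_f L93047) L93055 (flp_a L111319)
theorem L111355 : sm gf N11599 = N15137 := rfl
theorem L111357 : sm ga N15137 = N15136 := ded_11_1 (flp_f L111353) L111319 L111355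
theorem L111359 : sm gc N15137 = N12221 := ded_20_1 (flp_f L96193) (flp_c L93057) L111355
theorem L111361 : sm ge N15137 = N12549 := ded_25_1 (flp_f L97803) (flp_e L93059) L111355
theorem L111363 : sm gg N15137 = N15130 := ded_29_3 L111311 (flp_f L93047) L93055 L111355
theorem L111365 : sm gb N11601 = N15138 := rfl
theorem L111367 : sm ge N15138 = N12765 := ded_15_2 (flp_b L98848) (flp_e L93079) L111365
theorem L111369 : sm gd N11601 = N15139 := rfl
theorem L111371 : sm ga N15139 = N11602 := ded_9_1 (flp_d L93081) L93075 L111369
theorem L111373 : sm gf N11601 = N15140 := rfl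
theorem L111375 : sm ga N15140 = N11603 := ded_11_1 (flp_f L93085) L93075 L111373
theorem L111377 : sm gc N15140 = N12272 := ded_20_1 L96476 (flp_c L93077) L111373
theorem L111379 : sm ge N15140 = N12658 := ded_25_1 L98365 (flp_e L93079) L111373
theorem L111381 : sm gg N11601 = N15141 := rfl
theorem L111383 : sm ga N15141 = N11604 := ded_12_1 (flp_g L93093) L93075 L111381
theorem L111385 : sm gc N15141 = N12316 := ded_21_1 (flp_g L96714) (flp_c L93077) L111381
theorem L111387 : sm ge N15141 = N12767 := ded_26_1 (flp_g L98854) (flp_e L93079) L111381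
theorem L111389 : sm gc N11602 = N15142 := rfl
theorem L111391 : sm gb N15142 = N15112 := ded_13_1 (flp_c L111211) L92989 L45805 (flp_b L93083) L111389
theorem L111393 : sm ge N11602 = N15143 := rfl
theorem L111395 : sm gb N15143 = N11605 := ded_15_1 (flp_e L93101) (flp_b L93083) L111393
theorem L111397 : sm gd N15143 = N12770 := ded_22_1 (flp_e L98866) (flp_d L85922) (flp_e L83362) L93081 L111393
theorem L111399 : sm gf N11602 = N15144 := rfl
theorem L111401 : sm gd N15144 = N11603 := ded_23_1 (flp_f L93085) L93081 L111399
theorem L111403 : sm gb N15144 = N12277 := ded_16_1 L96500 L84897 (flp_f L83387) (flp_b L93083) L111399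
theorem L111405 : sm gg N11602 = N15145 := rfl
theorem L111407 : sm gd N15145 = N11604 := ded_24_1 (flp_g L93093) L93081 L111405
theorem L111409 : sm gb N15145 = N15115 := ded_17_1 (flp_g L111223) L92989 (flp_g L83461) (flp_b L93083) L111405
theorem L111411 : sm gg N11603 = N15146 := rfl
theorem L111413 : sm gc N15146 = N12273 := ded_21_1 (flp_g L96478) (flp_c L93087) L111411
theorem L111415 : sm ge N15146 = N12660 := ded_26_1 (flp_g L98373) (flp_e L93089) L111411
theorem L111417 : sm gf N15141 = N15146 := ded_29_0 (flp_g L111411) (flp_f L93085) L93093 (flp_a L111383)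
theorem L111419 : sm gf N11604 = N15147 := rfl
theorem L111421 : sm ga N15147 = N15146 := ded_11_1 (flp_f L111417) L111383 L111419
theorem L111423 : sm gc N15147 = N12317 := ded_20_1 (flp_f L96722) (flp_c L93095) L111419
theorem L111425 : sm ge N15147 = N12772 := ded_25_1 (flp_f L98876) (flp_e L93097) L111419
theorem L111427 : sm gg N15147 = N15140 := ded_29_3 L111375 (flp_f L93085) L93093 L111419
theorem L111429 : sm gc N11606 = N15148 := rfl
theorem L111431 : sm gf N15148 = N12351 := ded_20_2 (flp_c L96938) (flp_f L93117) L111429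
theorem L111433 : sm gg N11606 = N15149 := rfl
theorem L111435 : sm ga N15149 = N12641 := ded_12_1 L98278 L97550 L111433
theorem L111437 : sm gd N15149 = N12352 := ded_24_1 (flp_g L96940) (flp_d L93115) L111433
theorem L111439 : sm gb N15149 = N12665 := ded_17_1 (flp_g L98395) (flp_b L93165) L46381 L93113 L111433
theorem L111441 : sm gc N11607 = N15150 := rfl
theorem L111443 : sm gg N15150 = N12354 := ded_21_2 (flp_c L96944) (flp_g L93123) L111441
theorem L111445 : sm gf N11607 = N15151 := rfl
theorem L111447 : sm ga N15151 = N12529 := ded_11_1 (flp_f L98107) L98111 L111445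
theorem L111449 : sm gd N15151 = N12355 := ded_23_1 (flp_f L96946) (flp_d L93121) L111445
theorem L111451 : sm gb N15151 = N12554 := ded_16_1 (flp_f L98489) (flp_b L93147) (flp_f L46367) L93119 L111445
theorem L111453 : sm ga N11608 = N15152 := rfl
theorem L111455 : sm gc N15152 = N12393 := ded_8_2 L97114 L93173 L111453
theorem L111457 : sm gf N15152 = N12392 := ded_11_2 L107298 L107296 L111453
theorem L111459 : sm gg N11608 = N15153 := rfl
theorem L111461 : sm gb N11609 = N15154 := rfl
theorem L111463 : sm ga N11610 = N15155 := rfl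
theorem L111465 : sm gc N11610 = N15156 := rfl
theorem L111467 : sm gb N15156 = N11615 := ded_13_1 (flp_c L93157) (flp_b L46369) (flp_c L46355) L93133 L111465
theorem L111469 : sm gf N11610 = N15157 := rfl
theorem L111471 : sm gb N11611 = N15158 := rfl
theorem L111473 : sm gb N11612 = N15159 := rfl
theorem L111475 : sm gd N15159 = N12379 := ded_14_2 (flp_b L97064) (flp_d L93145) L111473
theorem L111477 : sm gf N15159 = N12557 := ded_16_2 L97829 L97977 L97983 L93183 L111473
theorem L111479 : sm gg N15159 = N11613 := ded_17_2 (flp_b L93147) (flp_g L46363) L46357 L93143 L111473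
theorem L111481 : sm ga N15159 = N12478 := ded_7_1 (flp_b L97474) (flp_a L85349) (flp_b L26750) (flp_a L12922) L26907 L85736 (flp_b L98077) L93187 L111473
theorem L111483 : sm gc N11613 = N15160 := rfl
theorem L111485 : sm gc N11614 = N15161 := rfl
theorem L111487 : sm ga N15161 = N11615 := ded_8_1 (flp_c L93157) L93151 L111485
theorem L111489 : sm gg N15161 = N11622 := ded_21_2 (flp_c L93199) (flp_g L93155) L111485
theorem L111495 : sm gf N11615 = N15163 := rfl
theorem L111497 : sm gc N15163 = N11616 := ded_20_1 (flp_f L93161) L93157 L111495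
theorem L111499 : sm gb N11616 = N15164 := rfl
theorem L111501 : sm gd N15164 = N12387 := ded_14_2 (flp_b L97092) (flp_d L93163) L111499
theorem L111503 : sm gf N15164 = N11617 := ded_16_2 (flp_b L93165) (flp_f L46375) L46369 L93161 L111499
theorem L111505 : sm gg N15164 = N12667 := ded_17_2 L98403 L98527 (flp_b L98535) (flp_g L93209) L111499
theorem L111507 : sm ga N15164 = N12438 := ded_7_1 (flp_b L97303) (flp_a L85280) (flp_b L26720) (flp_a L12880) L26819 L85531 (flp_b L97881) L93219 L111499
theorem L111509 : sm gc N11617 = N15165 := rfl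
theorem L111511 : sm gg N11618 = N15166 := rfl
theorem L111513 : sm ga N15166 = N12605 := ded_12_1 L98115 L97114 L111511
theorem L111515 : sm gc N15166 = N15153 := ded_21_1 (flp_g L111459) (flp_c L93173) L111511
theorem L111517 : sm gd N15166 = N12394 := ded_24_1 (flp_g L97120) (flp_d L93171) L111511
theorem L111519 : sm gf N15166 = N12394 := ded_29_2 (flp_g L97120) L97104 L97108 L111511
theorem L111521 : sm gb N15166 = N12574 := ded_17_1 (flp_g L97981) L97983 (flp_g L93175) L93169 L111511
theorem L111523 : sm gc N11621 = N15167 := rfl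
theorem L111525 : sm gf N11621 = N15168 := rfl
theorem L111527 : sm ga N15168 = N12495 := ded_11_1 L97919 L97905 L111525
theorem L111529 : sm gd N15168 = N12406 := ded_23_1 (flp_f L97166) (flp_d L93197) L111525
theorem L111531 : sm gg N12406 = N15168 := ded_29_1 (flp_f L111525) L97897 (flp_a L97160) L97166
theorem L111533 : sm gb N15168 = N12685 := ded_16_1 L98533 (flp_b L98535) (flp_f L93203) L93195 L111525
theorem L111537 : sm gd N11622 = N15170 := rfl
theorem L111539 : sm ga N15170 = N11624 := ded_9_1 (flp_d L93211) (flp_a L93201) L111537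
theorem L111541 : sm gf N11622 = N15171 := rfl
theorem L111543 : sm ga N15171 = N11625 := ded_11_1 (flp_f L93213) (flp_a L93201) L111541
theorem L111545 : sm gc N15171 = N11623 := ded_20_1 (flp_f L93203) L93199 L111541
theorem L111547 : sm gg N15163 = N15171 := ded_29_1 (flp_f L111541) (flp_g L111489) L111487 L111495
theorem L111549 : sm gc N11624 = N15172 := rfl
theorem L111553 : sm gf N11624 = N15174 := rfl
theorem L111555 : sm gd N15174 = N11625 := ded_23_1 (flp_f L93213) L93211 L111553
theorem L111557 : sm gb N11625 = N15175 := rfl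
theorem L111559 : sm gg N11625 = N15176 := rfl
theorem L111561 : sm ga N15176 = N15163 := ded_12_1 L111547 L111543 L111559
theorem L111567 : sm gc N11627 = N15177 := rfl
theorem L111569 : sm ga N15177 = N11628 := ded_8_1 (flp_c L93229) L93225 L111567
theorem L111571 : sm gb N11628 = N15178 := rfl
theorem L111573 : sm gc N15178 = N11631 := ded_13_2 (flp_b L93241) (flp_c L46407) L46403 L93229 L111571
theorem L111575 : sm gd N11628 = N15179 := rfl
theorem L111577 : sm gc N15179 = N14655 := ded_28_6 (flp_d L108855) (flp_a L108841) (flp_c L108839) L91812 (flp_c L85248) (flp_d L46405) L93229 L111575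
theorem L111579 : sm gf N11628 = N15180 := rfl
theorem L111581 : sm gc N15180 = N11629 := ded_20_1 (flp_f L93231) L93229 L111579
theorem L111583 : sm gg N11628 = N15181 := rfl
theorem L111585 : sm gc N15181 = N11630 := ded_21_1 (flp_g L93237) L93229 L111583
theorem L111587 : sm gg N11629 = N15182 := rfl
theorem L111589 : sm gd N15182 = N12421 := ded_24_1 (flp_g L97224) (flp_d L93233) L111587
theorem L111591 : sm gf N12622 = N15182 := ded_29_0 (flp_g L111587) (flp_f L93231) L93237 (flp_a L98191)
theorem L111593 : sm gb N15182 = N12462 := ded_17_1 L97405 L97899 (flp_g L93413) (flp_b L93235) L111587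
theorem L111595 : sm gf N11630 = N15183 := rfl
theorem L111597 : sm ga N15183 = N15182 := ded_11_1 (flp_f L111591) L98191 L111595
theorem L111599 : sm gd N15183 = N12422 := ded_23_1 (flp_f L97228) (flp_d L93239) L111595
theorem L111601 : sm gg N15183 = N12375 := ded_29_3 (flp_a L97031) (flp_f L93231) L93237 L111595
theorem L111603 : sm gb N15183 = N12598 := ded_31_2 L98055 L98071 (flp_b L97540) L85382 L85351 L85359 L93480 (flp_f L93474) (flp_b L46505) (flp_g L22365) (flp_f L22325) L46403 L93237 L111595
theorem L111605 : sm ga N11631 = N15184 := rfl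
theorem L111607 : sm gf N15184 = N15178 := ded_30_4 L111573 (flp_b L93241) L46409 L22329 (flp_c L10779) (flp_b L5406) L2789 (flp_f L1672) (flp_c L821) L364 (flp_a L675) L1432 (flp_c L2791) L5406 L10775 (flp_f L22325) L46407 L93241 L111605
theorem L111609 : sm gd N11631 = N15185 := rfl
theorem L111611 : sm gb N15185 = N11632 := ded_14_1 (flp_d L93243) L93241 L111609
theorem L111613 : sm gf N11631 = N15186 := rfl
theorem L111615 : sm ga N15186 = N15178 := ded_11_1 (flp_f L111607) (flp_a L111605) L111613
theorem L111617 : sm gc N15186 = N15184 := ded_20_1 L111607 L111573 L111613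
theorem L111619 : sm gb N15186 = N11671 := ded_16_1 (flp_f L93442) (flp_b L46491) (flp_f L46411) L93241 L111613
theorem L111621 : sm gg N11631 = N15187 := rfl
theorem L111623 : sm ge N11632 = N15188 := rfl
theorem L111625 : sm ga N15188 = N11634 := ded_10_1 (flp_e L93253) (flp_a L93245) L111623
theorem L111627 : sm gf N15188 = N11673 := ded_25_2 (flp_e L93454) (flp_f L93247) L111623
theorem L111629 : sm gb N11633 = N15189 := rfl
theorem L111631 : sm ge N11633 = N15190 := rfl
theorem L111633 : sm gc N15190 = N11634 := ded_19_1 (flp_e L93253) L93249 L111631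
theorem L111635 : sm gf N15190 = N11680 := ded_25_2 (flp_e L93486) (flp_f L93251) L111631
theorem L111637 : sm gg N11633 = N15191 := rfl
theorem L111639 : sm gc N15191 = N11635 := ded_21_1 (flp_g L93257) L93249 L111637
theorem L111641 : sm gd N15191 = N12539 := ded_24_1 L97755 (flp_d L97254) L111637
theorem L111643 : sm gf N12535 = N15191 := ded_29_0 (flp_g L111637) L93251 L93490 (flp_a L97731)
theorem L111645 : sm gg N11634 = N15192 := rfl
theorem L111647 : sm ge N15192 = N11635 := ded_26_1 (flp_g L93257) L93253 L111645
theorem L111649 : sm gb N11635 = N15193 := rfl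
theorem L111651 : sm gd N15193 = N11636 := ded_14_2 (flp_b L93261) (flp_d L93259) L111649
theorem L111653 : sm ga N11636 = N15194 := rfl
theorem L111655 : sm gc N11636 = N15195 := rfl
theorem L111657 : sm gb N15195 = N11638 := ded_13_1 (flp_c L93269) (flp_b L46421) (flp_c L46419) L93261 L111655
theorem L111659 : sm gf N11636 = N15196 := rfl
theorem L111661 : sm gb N11637 = N15197 := rfl
theorem L111663 : sm gd N15197 = N12438 := ded_14_2 (flp_b L97303) (flp_d L93265) L111661
theorem L111665 : sm gf N15197 = N12388 := ded_16_2 L97971 (flp_f L97873) L97875 (flp_f L93309) L111661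
theorem L111667 : sm ga N15197 = N12387 := ded_7_1 (flp_b L97092) (flp_a L85242) (flp_b L97889) (flp_a L93520) (flp_b L46531) L22383 L46421 L93263 L111661
theorem L111669 : sm gc N11637 = N15198 := rfl
theorem L111671 : sm ga N15198 = N11638 := ded_8_1 (flp_c L93269) L93263 L111669
theorem L111673 : sm gg N15198 = N11641 := ded_21_2 (flp_c L93281) (flp_g L93267) L111669
theorem L111675 : sm gd N11638 = N15199 := rfl
theorem L111677 : sm gg N15199 = N11643 := ded_24_2 (flp_d L93297) (flp_g L93271) L111675
theorem L111679 : sm gf N11638 = N15200 := rfl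
theorem L111681 : sm gc N15200 = N11639 := ded_20_1 (flp_f L93273) L93269 L111679
theorem L111683 : sm gc N11640 = N15201 := rfl
theorem L111685 : sm gf N15201 = N12644 := ded_20_2 L98290 (flp_f L93295) L111683
theorem L111687 : sm gb N11641 = N15202 := rfl
theorem L111689 : sm gd N11641 = N15203 := rfl
theorem L111691 : sm ga N15203 = N11643 := ded_9_1 (flp_d L93297) (flp_a L93283) L111689
theorem L111693 : sm gf N11641 = N15204 := rfl
theorem L111695 : sm ga N15204 = N11644 := ded_11_1 (flp_f L93299) (flp_a L93283) L111693
theorem L111697 : sm gc N15204 = N11642 := ded_20_1 (flp_f L93285) L93281 L111693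
theorem L111699 : sm gg N15200 = N15204 := ded_29_1 (flp_f L111693) (flp_g L111673) L111671 L111679
theorem L111701 : sm gc N11643 = N15205 := rfl
theorem L111703 : sm ge N11643 = N15206 := rfl
theorem L111705 : sm gf N11643 = N15207 := rfl
theorem L111707 : sm gd N15207 = N11644 := ded_23_1 (flp_f L93299) L93297 L111705
theorem L111709 : sm gb N11644 = N15208 := rfl
theorem L111711 : sm gc N15208 = N15175 := ded_13_2 (flp_b L111557) L93215 (flp_b L46437) (flp_c L93301) L111709
theorem L111713 : sm gg N11644 = N15209 := rfl
theorem L111715 : sm ga N15209 = N15200 := ded_12_1 L111699 L111695 L111713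
theorem L111717 : sm gc N15209 = N11645 := ded_21_1 (flp_g L93303) (flp_c L93301) L111713
theorem L111719 : sm gf N15198 = N15209 := ded_29_0 (flp_g L111713) (flp_f L93299) (flp_g L93271) (flp_a L111671)
theorem L111721 : sm gc N11646 = N15210 := rfl
theorem L111723 : sm ga N15210 = N11647 := ded_8_1 (flp_c L93315) L93311 L111721
theorem L111725 : sm gb N11647 = N15211 := rfl
theorem L111727 : sm gc N15211 = N11650 := ded_13_2 (flp_b L93327) (flp_c L46443) L46439 L93315 L111725
theorem L111729 : sm gd N11647 = N15212 := rfl
theorem L111731 : sm gf N11647 = N15213 := rfl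
theorem L111733 : sm gc N15213 = N11648 := ded_20_1 (flp_f L93317) L93315 L111731
theorem L111735 : sm gg N11647 = N15214 := rfl
theorem L111737 : sm gc N15214 = N11649 := ded_21_1 (flp_g L93321) L93315 L111735
theorem L111739 : sm gg N11648 = N15215 := rfl
theorem L111741 : sm gd N15215 = N12461 := ded_24_1 (flp_g L97397) (flp_d L93319) L111739
theorem L111743 : sm gf N12383 = N15215 := ded_29_0 (flp_g L111739) (flp_f L93317) L93321 L97901
theorem L111745 : sm gb N12706 = N15215 := ded_31_14 (flp_g L111739) (flp_f L93317) (flp_b L46439) L22343 L22397 L46565 L93613 (flp_f L93619) (flp_b L85290) (flp_g L85282) L85313 L97367 (flp_g L97891) (flp_f L98601)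
theorem L111747 : sm gf N11649 = N15216 := rfl
theorem L111749 : sm ga N15216 = N15215 := ded_11_1 (flp_f L111743) (flp_a L97901) L111747
theorem L111751 : sm gd N15216 = N12462 := ded_23_1 (flp_f L97401) (flp_d L93323) L111747
theorem L111753 : sm gg N15216 = N12506 := ded_29_3 (flp_a L97917) (flp_f L93317) L93321 L111747
theorem L111755 : sm gb N15216 = N12421 := ded_16_1 (flp_f L97226) (flp_b L97212) (flp_f L93574) (flp_b L93325) L111747
theorem L111757 : sm ga N11650 = N15217 := rfl
theorem L111759 : sm gd N11650 = N15218 := rfl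
theorem L111761 : sm gb N15218 = N11651 := ded_14_1 (flp_d L93329) L93327 L111759
theorem L111763 : sm gf N11650 = N15219 := rfl
theorem L111765 : sm gg N11650 = N15220 := rfl
theorem L111767 : sm gb N15220 = N11704 := ded_17_1 (flp_g L93591) (flp_b L46551) (flp_g L46447) L93327 L111765
theorem L111769 : sm ge N11651 = N15221 := rfl
theorem L111771 : sm ga N15221 = N11653 := ded_10_1 (flp_e L93339) (flp_a L93331) L111769
theorem L111773 : sm gg N15221 = N11705 := ded_26_2 (flp_e L93593) (flp_g L93333) L111769
theorem L111775 : sm gb N11652 = N15222 := rfl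
theorem L111777 : sm ge N11652 = N15223 := rfl
theorem L111779 : sm gc N15223 = N11653 := ded_19_1 (flp_e L93339) L93335 L111777
theorem L111781 : sm gg N15223 = N11712 := ded_26_2 (flp_e L93625) (flp_g L93337) L111777
theorem L111783 : sm gf N11652 = N15224 := rfl
theorem L111785 : sm gc N15224 = N11654 := ded_20_1 (flp_f L93343) L93335 L111783
theorem L111787 : sm gd N15224 = N12650 := ded_23_1 (flp_f L98325) (flp_d L97425) L111783
theorem L111789 : sm gg N15224 = N12646 := ded_29_3 L98301 (flp_f L93629) (flp_g L93337) L111783
theorem L111791 : sm gf N11653 = N15225 := rfl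
theorem L111793 : sm ge N15225 = N11654 := ded_25_1 (flp_f L93343) L93339 L111791
theorem L111795 : sm gb N11654 = N15226 := rfl
theorem L111797 : sm gd N15226 = N11655 := ded_14_2 (flp_b L93347) (flp_d L93345) L111795
theorem L111799 : sm ga N11655 = N15227 := rfl
theorem L111801 : sm gc N11655 = N15228 := rfl
theorem L111803 : sm gb N15228 = N11657 := ded_13_1 (flp_c L93355) (flp_b L46457) (flp_c L46455) L93347 L111801
theorem L111805 : sm gg N11655 = N15229 := rfl
theorem L111807 : sm gb N11656 = N15230 := rfl
theorem L111809 : sm gd N15230 = N12478 := ded_14_2 (flp_b L97474) (flp_d L93351) L111807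
theorem L111811 : sm gg N15230 = N12380 := ded_17_2 (flp_b L98479) L98461 L98463 L93395 L111807
theorem L111813 : sm ga N15230 = N12379 := ded_7_1 (flp_b L97064) (flp_a L85217) (flp_b L98069) (flp_a L93659) (flp_b L46591) L22415 L46457 L93349 L111807
theorem L111815 : sm gc N11656 = N15231 := rfl
theorem L111817 : sm ga N15231 = N11657 := ded_8_1 (flp_c L93355) L93349 L111815
theorem L111819 : sm gf N15231 = N11660 := ded_20_2 (flp_c L93367) (flp_f L93353) L111815
theorem L111821 : sm gd N11657 = N15232 := rfl
theorem L111823 : sm gf N15232 = N11662 := ded_23_2 (flp_d L93383) (flp_f L93357) L111821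
theorem L111825 : sm gg N11657 = N15233 := rfl
theorem L111827 : sm gc N15233 = N11658 := ded_21_1 (flp_g L93359) L93355 L111825
theorem L111829 : sm gc N11659 = N15234 := rfl
theorem L111831 : sm gg N15234 = N12533 := ded_21_2 L97720 (flp_g L93381) L111829
theorem L111833 : sm gb N11660 = N15235 := rfl
theorem L111835 : sm gd N11660 = N15236 := rfl
theorem L111837 : sm ga N15236 = N11662 := ded_9_1 (flp_d L93383) (flp_a L93369) L111835
theorem L111839 : sm gg N11660 = N15237 := rfl
theorem L111841 : sm ga N15237 = N11663 := ded_12_1 (flp_g L93385) (flp_a L93369) L111839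
theorem L111843 : sm gc N15237 = N11661 := ded_21_1 (flp_g L93371) L93367 L111839
theorem L111845 : sm gf N15237 = N15233 := ded_29_2 (flp_g L111825) (flp_a L111817) L111819 L111839
theorem L111847 : sm gc N11662 = N15238 := rfl
theorem L111849 : sm ge N11662 = N15239 := rfl
theorem L111851 : sm gg N11662 = N15240 := rfl
theorem L111853 : sm gd N15240 = N11663 := ded_24_1 (flp_g L93385) L93383 L111851
theorem L111855 : sm gf N11663 = N15241 := rfl
theorem L111857 : sm ga N15241 = N15233 := ded_11_1 (flp_f L111845) L111841 L111855
theorem L111859 : sm gc N15241 = N11664 := ded_20_1 (flp_f L93389) (flp_c L93387) L111855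
theorem L111861 : sm gg N15241 = N15231 := ded_29_3 L111817 L93357 L93385 L111855
theorem L111863 : sm gb N11666 = N15242 := rfl
theorem L111865 : sm gd N15242 = N12495 := ded_14_2 (flp_b L97552) (flp_d L93411) L111863
theorem L111867 : sm gf N15242 = N12404 := ded_16_2 L97162 L97375 L97899 (flp_f L93417) L111863
theorem L111869 : sm gg N15242 = N12495 := ded_17_2 (flp_b L97552) (flp_g L85392) (flp_b L46479) L93405 L111863
theorem L111871 : sm ga N12406 = N15242 := ded_9_3 L111865 (flp_a L111527) L111529
theorem L111873 : sm gc N11668 = N15243 := rfl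
theorem L111875 : sm gg N15243 = N11677 := ded_21_2 (flp_c L93472) (flp_g L93423) L111873
theorem L111877 : sm gb N11669 = N15244 := rfl
theorem L111879 : sm gd N15244 = N12510 := ded_14_2 (flp_b L97617) (flp_d L93431) L111877
theorem L111881 : sm gf N15244 = N12442 := ded_16_2 (flp_b L97494) L97492 (flp_b L93419) L93425 L111877
theorem L111883 : sm ga N15244 = N11710 := ded_7_1 L93617 (flp_a L93391) (flp_b L98463) L98457 L85742 (flp_a L97377) L97899 (flp_a L93427) L111877
theorem L111885 : sm gg N11708 = N15244 := ded_24_0 L111879 (flp_g L98081) (flp_d L93609)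
theorem L111887 : sm ge N11670 = N15245 := rfl
theorem L111889 : sm ga N15245 = N12499 := ded_10_1 (flp_e L97566) (flp_a L93437) L111887
theorem L111891 : sm gb N15245 = N11673 := ded_15_1 (flp_e L93454) (flp_b L93439) L111887
theorem L111893 : sm gc N15245 = N15245 := ded_19_1 (flp_e L111887) L93441 L111887
theorem L111894 : sm gf N11670 = N15246 := rfl
theorem L111896 : sm ga N15246 = N12500 := ded_11_1 (flp_f L97569) (flp_a L93437) L111894
theorem L111899 : sm gd N15246 = N11671 := ded_23_1 (flp_f L93442) L93435 L111894
theorem L111901 : sm gg N11670 = N15247 := rfl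
theorem L111903 : sm ga N15247 = N12501 := ded_12_1 (flp_g L97574) (flp_a L93437) L111901
theorem L111905 : sm gc N15247 = N15247 := ded_21_1 (flp_g L111901) L93441 L111901
theorem L111906 : sm gd N15247 = N11672 := ded_24_1 (flp_g L93448) L93435 L111901
theorem L111908 : sm gb N11672 = N15248 := rfl
theorem L111910 : sm gg N15248 = N11675 := ded_17_2 (flp_b L93466) (flp_g L46497) L46491 L93448 L111908
theorem L111912 : sm gg N11673 = N15249 := rfl
theorem L111914 : sm ga N15249 = N11682 := ded_12_1 (flp_g L93494) (flp_a L93456) L111912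
theorem L111916 : sm ge N15249 = N11674 := ded_26_1 (flp_g L93458) L93454 L111912
theorem L111918 : sm gf N15249 = N15192 := ded_29_2 (flp_g L111645) (flp_a L111625) L111627 L111912
theorem L111920 : sm gb N11674 = N15250 := rfl
theorem L111922 : sm gd N15250 = N11675 := ded_14_2 (flp_b L93466) (flp_d L93462) L111920
theorem L111924 : sm ga N11675 = N15251 := rfl
theorem L111926 : sm gc N11675 = N15252 := rfl
theorem L111928 : sm gb N15252 = N11677 := ded_13_1 (flp_c L93472) (flp_b L46505) (flp_c L46501) L93466 L111926
theorem L111930 : sm gf N11675 = N15253 := rfl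
theorem L111932 : sm gb N15253 = N15196 := ded_16_1 (flp_f L111659) (flp_b L93261) (flp_f L46503) L93466 L111930
theorem L111934 : sm gb N11676 = N15254 := rfl
theorem L111936 : sm gd N15254 = N12529 := ded_14_2 (flp_b L97702) (flp_d L93470) L111934
theorem L111938 : sm ga N15254 = N12355 := ded_7_1 (flp_b L97074) (flp_a L98487) (flp_b L85774) L26919 L12938 (flp_a L22367) L46505 L93468 L111934
theorem L111940 : sm gf N12353 = N15254 := ded_31_1 (flp_b L111934) (flp_g L97502) (flp_f L97498) (flp_b L85359) L85365 L85369 (flp_b L85662) (flp_g L85660) (flp_f L85613) (flp_b L85611) L85615 (flp_f L85617) L98103 L98109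
theorem L111942 : sm gg N15151 = N15254 := ded_24_0 L111936 (flp_g L98113) (flp_d L111449)
theorem L111944 : sm gc N11676 = N15255 := rfl
theorem L111946 : sm ga N15255 = N11677 := ded_8_1 (flp_c L93472) L93468 L111944
theorem L111948 : sm gf N11676 = N15256 := rfl
theorem L111950 : sm ga N15256 = N11678 := ded_11_1 (flp_f L93474) L93468 L111948
theorem L111952 : sm gd N15256 = N12531 := ded_23_1 (flp_f L97708) (flp_d L93470) L111948
theorem L111954 : sm gg N15256 = N12482 := ded_29_3 (flp_a L97490) L97498 L97502 L111948
theorem L111956 : sm gb N15256 = N11699 := ded_16_1 (flp_f L93572) (flp_b L97911) L111940 (flp_b L111934) L111948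
theorem L111958 : sm gd N11677 = N15257 := rfl
theorem L111960 : sm gf N11677 = N15258 := rfl
theorem L111962 : sm gc N15258 = N11678 := ded_20_1 (flp_f L93474) L93472 L111960
theorem L111964 : sm gg N12483 = N15258 := ded_21_0 L111962 (flp_g L93480) L97496
theorem L111966 : sm ga N11679 = N15259 := rfl
theorem L111968 : sm gc N15259 = N11738 := ded_8_2 (flp_a L93739) (flp_c L93484) L111966
theorem L111970 : sm ge N11679 = N15260 := rfl
theorem L111972 : sm gb N15260 = N11680 := ded_15_1 (flp_e L93486) L93482 L111970
theorem L111974 : sm gc N15260 = N11739 := ded_19_1 (flp_e L93741) (flp_c L93484) L111970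
theorem L111976 : sm gf N11679 = N15261 := rfl
theorem L111980 : sm gg N11679 = N15262 := rfl
theorem L111982 : sm gc N15262 = N11741 := ded_21_1 (flp_g L93747) (flp_c L93484) L111980
theorem L111984 : sm gd N11680 = N15263 := rfl
theorem L111986 : sm gg N11680 = N15264 := rfl
theorem L111988 : sm gc N15264 = N11682 := ded_21_1 (flp_g L93494) (flp_c L93488) L111986
theorem L111990 : sm ge N15264 = N11681 := ded_26_1 (flp_g L93490) L93486 L111986
theorem L111992 : sm gb N11681 = N15265 := rfl
theorem L111994 : sm gf N11681 = N15266 := rfl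
theorem L111996 : sm ga N15266 = N15191 := ded_11_1 (flp_f L111643) L97731 L111994
theorem L111998 : sm gc N15266 = N11684 := ded_20_1 (flp_f L93504) (flp_c L93492) L111994
theorem L112000 : sm gd N15266 = N12432 := ded_23_1 (flp_f L97678) L97676 L111994
theorem L112002 : sm gg N15266 = N12430 := ded_29_3 L97268 L93251 L93490 L111994
theorem L112004 : sm gb N11682 = N15267 := rfl
theorem L112006 : sm ge N15267 = N11683 := ded_15_2 (flp_b L93498) (flp_e L93496) L112004
theorem L112008 : sm gg N15267 = N11745 := ded_17_2 (flp_b L93761) (flp_g L46689) (flp_b L46513) L93494 L112004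
theorem L112010 : sm gf N11682 = N15268 := rfl
theorem L112012 : sm ga N15268 = N15192 := ded_11_1 (flp_f L111918) L111914 L112010
theorem L112014 : sm ge N15268 = N11684 := ded_25_1 (flp_f L93504) (flp_e L93496) L112010
theorem L112016 : sm gg N15268 = N15188 := ded_29_3 L111625 L93255 L93494 L112010
theorem L112018 : sm ga N11683 = N15269 := rfl
theorem L112020 : sm gd N15269 = N11685 := ded_9_2 (flp_a L93512) (flp_d L93500) L112018
theorem L112022 : sm gg N15269 = N11746 := ded_12_2 (flp_a L93765) (flp_g L93502) L112018
theorem L112024 : sm gc N11683 = N15270 := rfl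
theorem L112026 : sm gg N15270 = N11747 := ded_21_2 (flp_c L93769) (flp_g L93502) L112024
theorem L112028 : sm gf N11683 = N15271 := rfl
theorem L112030 : sm gd N15271 = N11686 := ded_23_1 (flp_f L93516) (flp_d L93500) L112028
theorem L112032 : sm gb N11684 = N15272 := rfl
theorem L112034 : sm gd N15272 = N11687 := ded_14_2 (flp_b L93518) (flp_d L93508) L112032
theorem L112036 : sm gb N11685 = N15273 := rfl
theorem L112038 : sm gb N11686 = N15274 := rfl
theorem L112040 : sm gf N15274 = N11687 := ded_16_2 (flp_b L93518) (flp_f L46523) L46519 L93516 L112038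
theorem L112042 : sm ga N11687 = N15275 := rfl
theorem L112044 : sm gc N11687 = N15276 := rfl
theorem L112046 : sm gb N15276 = N11689 := ded_13_1 (flp_c L93524) (flp_b L46531) (flp_c L46527) L93518 L112044
theorem L112048 : sm gg N11687 = N15277 := rfl
theorem L112050 : sm gb N15277 = N15187 := ded_17_1 (flp_g L111621) (flp_b L93241) (flp_g L46529) L93518 L112048
theorem L112052 : sm gc N11688 = N15278 := rfl
theorem L112054 : sm ga N15278 = N11689 := ded_8_1 (flp_c L93524) L93520 L112052
theorem L112056 : sm gd N11689 = N15279 := rfl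
theorem L112058 : sm gg N11689 = N15280 := rfl
theorem L112060 : sm gc N15280 = N11690 := ded_21_1 (flp_g L93526) L93524 L112058
theorem L112062 : sm gf N11690 = N15281 := rfl
theorem L112064 : sm ga N15281 = N12708 := ded_11_1 (flp_f L98611) (flp_a L97885) L112062
theorem L112066 : sm gd N15281 = N12572 := ded_23_1 (flp_f L97927) (flp_d L93528) L112062
theorem L112068 : sm gg N15281 = N12706 := ded_29_3 (flp_a L98597) L85800 L93526 L112062
theorem L112070 : sm gb N11692 = N15282 := rfl
theorem L112072 : sm gd N15282 = N12605 := ded_14_2 (flp_b L98101) (flp_d L93540) L112070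
theorem L112074 : sm gf N15282 = N12605 := ded_16_2 (flp_b L98101) (flp_f L85589) (flp_b L46539) L93536 L112070
theorem L112076 : sm gg N15282 = N12391 := ded_17_2 L97106 L97208 (flp_b L97212) L93580 L112070
theorem L112078 : sm ga N12394 = N15282 := ded_9_3 L112072 (flp_a L111513) L111517
theorem L112080 : sm gc N11698 = N15283 := rfl
theorem L112082 : sm ga N15283 = N14761 := ded_8_1 (flp_c L109309) L97327 L112080
theorem L112084 : sm gf N15283 = N11709 := ded_20_2 (flp_c L93611) (flp_f L93566) L112080
theorem L112086 : sm ge N11702 = N15284 := rfl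
theorem L112088 : sm ga N15284 = N12612 := ded_10_1 (flp_e L98135) (flp_a L102084) L112086
theorem L112090 : sm gb N15284 = N11705 := ded_15_1 (flp_e L93593) (flp_b L93586) L112086
theorem L112092 : sm gc N15284 = N15284 := ded_19_1 (flp_e L112086) L93588 L112086
theorem L112093 : sm gf N11702 = N15285 := rfl
theorem L112095 : sm ga N15285 = N12613 := ded_11_1 (flp_f L98137) (flp_a L102084) L112093
theorem L112097 : sm gc N15285 = N15285 := ded_20_1 (flp_f L112093) L93588 L112093
theorem L112098 : sm gd N15285 = N11703 := ded_23_1 (flp_f L93589) L93584 L112093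
theorem L112100 : sm gg N11702 = N15286 := rfl
theorem L112102 : sm ga N15286 = N12614 := ded_12_1 (flp_g L98141) (flp_a L102084) L112100
theorem L112105 : sm gd N15286 = N11704 := ded_24_1 (flp_g L93591) L93584 L112100
theorem L112107 : sm gb N11703 = N15287 := rfl
theorem L112109 : sm gf N15287 = N11707 := ded_16_2 (flp_b L93605) (flp_f L46557) L46551 L93589 L112107
theorem L112111 : sm gf N11705 = N15288 := rfl
theorem L112113 : sm ga N15288 = N11714 := ded_11_1 (flp_f L93633) (flp_a L93595) L112111
theorem L112115 : sm ge N15288 = N11706 := ded_25_1 (flp_f L93597) L93593 L112111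
theorem L112117 : sm gg N15225 = N15288 := ded_29_1 (flp_f L112111) (flp_g L111773) L111771 L111791
theorem L112119 : sm gb N11706 = N15289 := rfl
theorem L112121 : sm gd N15289 = N11707 := ded_14_2 (flp_b L93605) (flp_d L93601) L112119
theorem L112123 : sm ga N11707 = N15290 := rfl
theorem L112125 : sm gf N15290 = N14786 := ded_30_4 (flp_c L109408) (flp_b L92043) L44203 (flp_f L21215) L21211 L21213 L80565 L13082 (flp_c L6450) (flp_b L3329) L1698 (flp_f L1689) (flp_c L2799) L5410 L10787 L22397 (flp_c L46561) L93605 L112123
theorem L112127 : sm ga N15287 = N14786 := ded_11_3 (flp_f L112125) (flp_a L112123) (flp_f L112109)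
theorem L112129 : sm gc N14774 = N15290 := ded_20_3 L112125 (flp_c L109408) (flp_f L109364)
theorem L112131 : N14767 = N12765 := coi_30_6 (flp_b L98848) L85914 (flp_f L85704) (flp_c L85702) (flp_b L26881) (flp_a L26863) (flp_f L26861) (flp_c L12896) L12894 L26847 L85589 (flp_c L102076) L112107 L112127 (flp_f L112125) (flp_c L112129) (flp_b L109362) (flp_a L109342) (flp_f L109340) L109336
theorem L112132 : N14767 = N12765 := eqc rfl L112131 rfl
theorem L112133 : sm ga N12765 = N11411 := trfs L112132 L109338 rfl
theorem L112135 : sm gc N12765 = N11410 := trfs L112132 (flp_c L109336) rfl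
theorem L112137 : sm gc N14785 = N15287 := ded_8_0 L112127 (flp_c L109408) L109406
theorem L112139 : sm ga N14519 = N15138 := ded_10_3 L111367 L112133 (flp_e L108148)
theorem L112141 : N14770 = N14777 := coi_7_3 (flp_a L109376) (flp_b L92029) L44199 L21213 L80565 (flp_b L27235) (flp_a L85914) L98848 L112133 L109348
theorem L112142 : N14777 = N14770 := (eqc rfl L112141 rfl).symm
theorem L112143 : sm ga N14770 = N11414 := trfs L112142 (flp_a L109376) rfl
theorem L112145 : sm gc N14518 = N15138 := ded_19_3 L111367 L112135 (flp_e L108144)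
theorem L112147 : N14443 = N12762 := coi_13_2 (flp_c L98842) (flp_b L85910) L85912 L98848 L112135 (flp_b L107714)
theorem L112148 : N14443 = N12762 := eqc rfl L112147 rfl
theorem L112149 : sm ga N12762 = N11257 := trfs L112148 (flp_a L107712) rfl
theorem L112151 : sm gb N12762 = N11410 := trfs L112148 L107714 rfl
theorem L112153 : N14444 = N12761 := coi_8_3 (flp_a L98839) L98842 L112149 L107716
theorem L112154 : N14444 = N12761 := eqc rfl L112153 rfl
theorem L112156 : sm gc N12761 = N11257 := trfs L112154 (flp_c L107716) rfl
theorem L112158 : sm gc N11707 = N15291 := rfl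
theorem L112160 : sm ga N15291 = N14774 := ded_8_1 L112129 (flp_a L112123) L112158
theorem L112162 : sm gf N15291 = N14785 := ded_20_2 L112137 L112109 L112158
theorem L112164 : sm gb N15291 = N11709 := ded_13_1 (flp_c L93611) (flp_b L46565) (flp_c L46561) L93605 L112158
theorem L112166 : sm gg N11707 = N15292 := rfl
theorem L112168 : sm gb N15292 = N15229 := ded_17_1 (flp_g L111805) (flp_b L93347) L46563 L93605 L112166
theorem L112170 : sm gb N11708 = N15293 := rfl
theorem L112172 : sm gd N15293 = N12641 := ded_14_2 (flp_b L98276) (flp_d L93609) L112170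
theorem L112174 : sm gg N15293 = N12350 := ded_17_2 L97035 (flp_g L93433) L111877 (flp_g L111885) L112170
theorem L112176 : sm ga N15293 = N12352 := ded_7_1 (flp_b L97102) L97967 (flp_b L85561) L26829 L12892 (flp_a L22399) L46565 L93607 L112170
theorem L112178 : sm gf N15149 = N15293 := ded_31_1 (flp_b L112170) L111885 L111881 (flp_b L97494) (flp_g L111954) (flp_f L111948) L111934 (flp_g L111942) (flp_f L111445) (flp_b L93119) (flp_g L46341) L46335 L93113 L111433
theorem L112180 : sm gc N11708 = N15294 := rfl
theorem L112182 : sm ga N15294 = N11709 := ded_8_1 (flp_c L93611) L93607 L112180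
theorem L112184 : sm gf N15294 = N14761 := ded_20_2 (flp_c L109309) (flp_f L97329) L112180
theorem L112186 : sm gb N14756 = N15294 := ded_16_5 L112184 (flp_b L109307) (flp_f L92000) L91994 L109289
theorem L112188 : sm gd N11709 = N15295 := rfl
theorem L112190 : sm gg N11709 = N15296 := rfl
theorem L112192 : sm gc N15296 = N11710 := ded_21_1 (flp_g L93613) L93611 L112190
theorem L112194 : sm gf N15296 = N12443 := ded_29_2 (flp_g L109311) (flp_a L112082) L112084 L112190
theorem L112196 : sm ga N11711 = N15297 := rfl
theorem L112198 : sm gc N15297 = N11767 := ded_8_2 (flp_a L93859) (flp_c L93623) L112196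
theorem L112200 : sm ge N11711 = N15298 := rfl
theorem L112202 : sm gb N15298 = N11712 := ded_15_1 (flp_e L93625) L93621 L112200
theorem L112204 : sm gc N15298 = N11768 := ded_19_1 (flp_e L93861) (flp_c L93623) L112200
theorem L112206 : sm gf N11711 = N15299 := rfl
theorem L112208 : sm gc N15299 = N11769 := ded_20_1 (flp_f L93865) (flp_c L93623) L112206
theorem L112210 : sm gg N11711 = N15300 := rfl
theorem L112214 : sm gd N11712 = N15301 := rfl
theorem L112216 : sm gf N11712 = N15302 := rfl
theorem L112218 : sm gc N15302 = N11714 := ded_20_1 (flp_f L93633) (flp_c L93627) L112216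
theorem L112220 : sm ge N15302 = N11713 := ded_25_1 (flp_f L93629) L93625 L112216
theorem L112222 : sm gb N11713 = N15303 := rfl
theorem L112224 : sm gg N11713 = N15304 := rfl
theorem L112226 : sm ga N15304 = N15224 := ded_12_1 L111789 L98301 L112224
theorem L112228 : sm gc N15304 = N11716 := ded_21_1 (flp_g L93643) (flp_c L93631) L112224
theorem L112230 : sm gd N15304 = N12472 := ded_24_1 L98252 L98250 L112224
theorem L112232 : sm gf N12470 = N15304 := ded_29_0 (flp_g L112224) (flp_f L93629) (flp_g L93337) (flp_a L97439)
theorem L112234 : sm gb N11714 = N15305 := rfl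
theorem L112236 : sm ge N15305 = N11715 := ded_15_2 (flp_b L93637) (flp_e L93635) L112234
theorem L112238 : sm gf N15305 = N11774 := ded_16_2 (flp_b L93881) (flp_f L46817) (flp_b L46573) L93633 L112234
theorem L112240 : sm gg N11714 = N15306 := rfl
theorem L112242 : sm ga N15306 = N15225 := ded_12_1 L112117 L112113 L112240
theorem L112244 : sm ge N15306 = N11716 := ded_26_1 (flp_g L93643) (flp_e L93635) L112240
theorem L112246 : sm gf N15221 = N15306 := ded_29_0 (flp_g L112240) (flp_f L93633) (flp_g L93341) (flp_a L111771)
theorem L112248 : sm ga N11715 = N15307 := rfl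
theorem L112250 : sm gd N15307 = N11717 := ded_9_2 (flp_a L93651) (flp_d L93639) L112248
theorem L112252 : sm gf N15307 = N11775 := ded_11_2 (flp_a L93885) (flp_f L93641) L112248
theorem L112254 : sm gc N11715 = N15308 := rfl
theorem L112256 : sm gf N15308 = N11776 := ded_20_2 (flp_c L93889) (flp_f L93641) L112254
theorem L112258 : sm gg N11715 = N15309 := rfl
theorem L112260 : sm gd N15309 = N11718 := ded_24_1 (flp_g L93655) (flp_d L93639) L112258
theorem L112262 : sm gb N11716 = N15310 := rfl
theorem L112264 : sm gd N15310 = N11719 := ded_14_2 (flp_b L93657) (flp_d L93647) L112262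
theorem L112266 : sm gb N11717 = N15311 := rfl
theorem L112268 : sm gb N11718 = N15312 := rfl
theorem L112270 : sm gg N15312 = N11719 := ded_17_2 (flp_b L93657) (flp_g L46583) L46579 L93655 L112268
theorem L112272 : sm ga N11719 = N15313 := rfl
theorem L112274 : sm gc N11719 = N15314 := rfl
theorem L112276 : sm gb N15314 = N11721 := ded_13_1 (flp_c L93663) (flp_b L46591) (flp_c L46587) L93657 L112274
theorem L112278 : sm gf N11719 = N15315 := rfl
theorem L112280 : sm gb N15315 = N15219 := ded_16_1 (flp_f L111763) (flp_b L93327) L46589 L93657 L112278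
theorem L112282 : sm gc N11720 = N15316 := rfl
theorem L112284 : sm ga N15316 = N11721 := ded_8_1 (flp_c L93663) L93659 L112282
theorem L112286 : sm gd N11721 = N15317 := rfl
theorem L112288 : sm gf N11721 = N15318 := rfl
theorem L112290 : sm gc N15318 = N11722 := ded_20_1 (flp_f L93665) L93663 L112288
theorem L112292 : sm gg N11722 = N15319 := rfl
theorem L112294 : sm ga N15319 = N12600 := ded_12_1 (flp_g L98065) L98073 L112292
theorem L112296 : sm gd N15319 = N12682 := ded_24_1 (flp_g L98471) (flp_d L93667) L112292
theorem L112298 : sm gf N12598 = N15319 := ded_29_0 (flp_g L112292) (flp_f L93665) (flp_g L85583) L98053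
theorem L112300 : sm gb N15319 = N15281 := ded_17_1 L112068 L111745 (flp_g L111739) (flp_b L93669) L112292
theorem L112302 : sm gd N11723 = N15320 := rfl
theorem L112304 : sm ga N15320 = N12496 := ded_9_1 (flp_d L97554) (flp_a L93673) L112302
theorem L112306 : sm gb N15320 = N11724 := ded_14_1 (flp_d L93677) L93671 L112302
theorem L112308 : sm gf N11723 = N15321 := rfl
theorem L112310 : sm ga N15321 = N12497 := ded_11_1 (flp_f L97558) (flp_a L93673) L112308
theorem L112312 : sm gc N15321 = N12512 := ded_20_1 (flp_f L97624) L93675 L112308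
theorem L112314 : sm gg N11723 = N15322 := rfl
theorem L112316 : sm ga N15322 = N12498 := ded_12_1 (flp_g L97562) (flp_a L93673) L112314
theorem L112318 : sm gc N15322 = N12513 := ded_21_1 (flp_g L97628) L93675 L112314
theorem L112320 : sm gc N11724 = N15323 := rfl
theorem L112322 : sm ga N15323 = N11727 := ded_8_1 (flp_c L93691) (flp_a L93679) L112320
theorem L112324 : sm ge N11724 = N15324 := rfl
theorem L112326 : sm ga N15324 = N11728 := ded_10_1 (flp_e L93693) (flp_a L93679) L112324
theorem L112328 : sm gf N11724 = N15325 := rfl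
theorem L112330 : sm ga N15325 = N11729 := ded_11_1 (flp_f L93697) (flp_a L93679) L112328
theorem L112332 : sm gd N15325 = N11725 := ded_23_1 (flp_f L93681) L93677 L112328
theorem L112334 : sm gg N11724 = N15326 := rfl
theorem L112336 : sm ga N15326 = N11730 := ded_12_1 (flp_g L93701) (flp_a L93679) L112334
theorem L112338 : sm gd N15326 = N11726 := ded_24_1 (flp_g L93686) L93677 L112334
theorem L112340 : sm gb N11725 = N15327 := rfl
theorem L112342 : sm gb N11726 = N15328 := rfl
theorem L112344 : sm ge N11727 = N15329 := rfl
theorem L112346 : sm gc N15329 = N11728 := ded_19_1 (flp_e L93693) L93691 L112344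
theorem L112348 : sm gf N11727 = N15330 := rfl
theorem L112350 : sm gc N15330 = N11729 := ded_20_1 (flp_f L93697) L93691 L112348
theorem L112352 : sm gg N11727 = N15331 := rfl
theorem L112354 : sm gc N15331 = N11730 := ded_21_1 (flp_g L93701) L93691 L112352
theorem L112356 : sm gf N11728 = N15332 := rfl
theorem L112358 : sm ge N15332 = N11729 := ded_25_1 (flp_f L93697) L93693 L112356
theorem L112360 : sm gg N11728 = N15333 := rfl
theorem L112362 : sm ge N15333 = N11730 := ded_26_1 (flp_g L93701) L93693 L112360
theorem L112364 : sm gg N11729 = N15334 := rfl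
theorem L112366 : sm gd N15334 = N11731 := ded_24_1 (flp_g L93705) (flp_d L93699) L112364
theorem L112368 : sm gf N15326 = N15334 := ded_29_0 (flp_g L112364) (flp_f L93697) L93701 (flp_a L112336)
theorem L112370 : sm gb N11730 = N15335 := rfl
theorem L112372 : sm gd N15335 = N11732 := ded_14_2 (flp_b L93710) (flp_d L93703) L112370
theorem L112374 : sm gg N15335 = N11735 := ded_17_2 (flp_b L93729) (flp_g L46659) (flp_b L46649) L93701 L112370
theorem L112376 : sm gf N11730 = N15336 := rfl
theorem L112378 : sm ga N15336 = N15334 := ded_11_1 (flp_f L112368) L112336 L112376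
theorem L112380 : sm gd N15336 = N11733 := ded_23_1 (flp_f L93714) (flp_d L93703) L112376
theorem L112382 : sm gg N15336 = N15325 := ded_29_3 L112330 (flp_f L93697) L93701 L112376
theorem L112384 : sm gb N11731 = N15337 := rfl
theorem L112386 : sm ga N11732 = N15338 := rfl
theorem L112388 : sm gg N15338 = N11736 := ded_12_2 (flp_a L93733) (flp_g L93712) L112386
theorem L112390 : sm gf N11732 = N15339 := rfl
theorem L112392 : sm gb N11733 = N15340 := rfl
theorem L112394 : sm gb N11734 = N15341 := rfl
theorem L112396 : sm ge N15341 = N11735 := ded_15_2 (flp_b L93729) (flp_e L93725) L112394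
theorem L112398 : sm ga N11735 = N15342 := rfl
theorem L112400 : sm gd N15342 = N11736 := ded_9_2 (flp_a L93733) (flp_d L93731) L112398
theorem L112402 : sm gc N11735 = N15343 := rfl
theorem L112404 : sm gf N11735 = N15344 := rfl
theorem L112406 : sm gd N15344 = N11737 := ded_23_1 (flp_f L93735) (flp_d L93731) L112404
theorem L112408 : sm gb N15344 = N12743 := ded_16_1 (flp_f L98762) L85874 L80543 L93729 L112404
theorem L112410 : sm gb N11736 = N15345 := rfl
theorem L112412 : sm gf N11736 = N15346 := rfl
theorem L112414 : sm ga N15346 = N11737 := ded_11_1 (flp_f L93735) L93733 L112412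
theorem L112416 : sm gg N15339 = N15346 := ded_29_1 (flp_f L112412) (flp_g L112388) (flp_a L112386) L112390
theorem L112418 : sm gg N11737 = N15347 := rfl
theorem L112420 : sm ga N15347 = N15339 := ded_12_1 L112416 L112414 L112418
theorem L112422 : sm gf N15338 = N15347 := ded_29_0 (flp_g L112418) (flp_f L93735) (flp_g L93712) L112386
theorem L112424 : sm gb N11738 = N15348 := rfl
theorem L112426 : sm ge N11738 = N15349 := rfl
theorem L112428 : sm ga N15349 = N11739 := ded_10_1 (flp_e L93741) L93739 L112426
theorem L112430 : sm gf N11738 = N15350 := rfl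
theorem L112432 : sm ga N15350 = N11740 := ded_11_1 (flp_f L93745) L93739 L112430
theorem L112434 : sm gg N11738 = N15351 := rfl
theorem L112436 : sm ga N15351 = N11741 := ded_12_1 (flp_g L93747) L93739 L112434
theorem L112438 : sm gd N11739 = N15352 := rfl
theorem L112440 : sm gb N15352 = N11742 := ded_14_1 (flp_d L93749) (flp_b L93743) L112438
theorem L112442 : sm gf N11739 = N15353 := rfl
theorem L112446 : sm gg N11739 = N15354 := rfl
theorem L112448 : sm ge N15354 = N11741 := ded_26_1 (flp_g L93747) L93741 L112446
theorem L112450 : sm gg N11740 = N15355 := rfl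
theorem L112452 : sm gf N15351 = N15355 := ded_29_0 (flp_g L112450) (flp_f L93745) L93747 (flp_a L112436)
theorem L112454 : sm gb N11741 = N15356 := rfl
theorem L112456 : sm gg N15356 = N11744 := ded_17_2 (flp_b L93759) (flp_g L46685) L46679 L93747 L112454
theorem L112458 : sm gf N11741 = N15357 := rfl
theorem L112460 : sm ga N15357 = N15355 := ded_11_1 (flp_f L112452) L112436 L112458
theorem L112462 : sm gg N15357 = N15350 := ded_29_3 L112432 (flp_f L93745) L93747 L112458
theorem L112464 : sm gg N11742 = N15358 := rfl
theorem L112466 : sm gc N15358 = N12751 := ded_21_1 (flp_g L109709) (flp_c L109713) L112464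
theorem L112468 : sm gd N15358 = N11743 := ded_24_1 (flp_g L93751) L93749 L112464
theorem L112470 : sm ge N15358 = N12893 := ded_26_1 L99568 L93980 L112464
theorem L112472 : sm gf N12751 = N15358 := ded_29_0 (flp_g L112464) (flp_f L109545) L109547 L99213
theorem L112474 : sm gb N11743 = N15359 := rfl
theorem L112476 : sm ge N15359 = N11744 := ded_15_2 (flp_b L93759) (flp_e L93755) L112474
theorem L112478 : sm ga N11744 = N15360 := rfl
theorem L112480 : sm gc N11744 = N15361 := rfl
theorem L112482 : sm gb N15361 = N11747 := ded_13_1 (flp_c L93769) (flp_b L46693) (flp_c L46687) L93759 L112480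
theorem L112484 : sm gf N11744 = N15362 := rfl
theorem L112486 : sm gb N15362 = N12749 := ded_16_1 (flp_f L98788) (flp_b L85888) (flp_f L82677) L93759 L112484
theorem L112488 : sm ga N11745 = N15363 := rfl
theorem L112490 : sm ge N15363 = N11746 := ded_10_2 (flp_a L93765) (flp_e L93763) L112488
theorem L112492 : sm gc N11745 = N15364 := rfl
theorem L112494 : sm ge N15364 = N11747 := ded_19_2 (flp_c L93769) (flp_e L93763) L112492
theorem L112496 : sm gf N11745 = N15365 := rfl
theorem L112498 : sm ge N15365 = N11748 := ded_25_1 (flp_f L93771) (flp_e L93763) L112496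
theorem L112500 : sm gb N15365 = N12595 := ded_16_1 (flp_f L98039) L85567 L83382 L93761 L112496
theorem L112502 : sm gb N11746 = N15366 := rfl
theorem L112504 : sm gd N15366 = N11749 := ded_14_2 (flp_b L93777) (flp_d L93767) L112502
theorem L112506 : sm gc N11746 = N15367 := rfl
theorem L112508 : sm ga N15367 = N11747 := ded_8_1 (flp_c L93769) L93765 L112506
theorem L112510 : sm gf N11746 = N15368 := rfl
theorem L112512 : sm ga N15368 = N11748 := ded_11_1 (flp_f L93771) L93765 L112510
theorem L112514 : sm gd N15368 = N11750 := ded_23_1 (flp_f L93779) (flp_d L93767) L112510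
theorem L112516 : sm gg N15271 = N15368 := ded_29_1 (flp_f L112510) (flp_g L112022) (flp_a L112018) L112028
theorem L112518 : sm gd N11747 = N15369 := rfl
theorem L112520 : sm gf N11747 = N15370 := rfl
theorem L112522 : sm gc N15370 = N11748 := ded_20_1 (flp_f L93771) L93769 L112520
theorem L112524 : sm gg N11748 = N15371 := rfl
theorem L112526 : sm ga N15371 = N15271 := ded_12_1 L112516 L112512 L112524
theorem L112528 : sm gd N15371 = N11751 := ded_24_1 (flp_g L93787) (flp_d L93773) L112524
theorem L112530 : sm gf N15269 = N15371 := ded_29_0 (flp_g L112524) (flp_f L93771) (flp_g L93502) L112018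
theorem L112532 : sm ga N11749 = N15372 := rfl
theorem L112534 : sm gc N11749 = N15373 := rfl
theorem L112536 : sm gf N11749 = N15374 := rfl
theorem L112538 : sm gg N11749 = N15375 := rfl
theorem L112540 : sm gb N11750 = N15376 := rfl
theorem L112542 : sm gb N11751 = N15377 := rfl
theorem L112544 : sm gg N15377 = N12597 := ded_17_2 (flp_b L98051) (flp_g L85573) (flp_b L83380) L93787 L112542
theorem L112546 : sm gd N11752 = N15378 := rfl
theorem L112548 : sm ga N15378 = N12608 := ded_9_1 (flp_d L98121) (flp_a L102099) L112546
theorem L112550 : sm gb N15378 = N11753 := ded_14_1 (flp_d L93797) L93795 L112546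
theorem L112552 : sm gf N11752 = N15379 := rfl
theorem L112554 : sm ga N15379 = N12609 := ded_11_1 (flp_f L98125) (flp_a L102099) L112552
theorem L112556 : sm gc N15379 = N12624 := ded_20_1 (flp_f L98198) (flp_c L102101) L112552
theorem L112558 : sm gg N11752 = N15380 := rfl
theorem L112560 : sm ga N15380 = N12610 := ded_12_1 (flp_g L98129) (flp_a L102099) L112558
theorem L112562 : sm gc N15380 = N12625 := ded_21_1 (flp_g L98202) (flp_c L102101) L112558
theorem L112564 : sm gc N11753 = N15381 := rfl
theorem L112566 : sm ga N15381 = N11756 := ded_8_1 (flp_c L93811) (flp_a L93799) L112564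
theorem L112568 : sm ge N11753 = N15382 := rfl
theorem L112570 : sm ga N15382 = N11757 := ded_10_1 (flp_e L93813) (flp_a L93799) L112568
theorem L112572 : sm gf N11753 = N15383 := rfl
theorem L112574 : sm ga N15383 = N11758 := ded_11_1 (flp_f L93817) (flp_a L93799) L112572
theorem L112576 : sm gd N15383 = N11754 := ded_23_1 (flp_f L93801) L93797 L112572
theorem L112578 : sm gg N11753 = N15384 := rfl
theorem L112580 : sm ga N15384 = N11759 := ded_12_1 (flp_g L93821) (flp_a L93799) L112578
theorem L112582 : sm gd N15384 = N11755 := ded_24_1 (flp_g L93806) L93797 L112578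
theorem L112584 : sm gb N11754 = N15385 := rfl
theorem L112586 : sm gb N11755 = N15386 := rfl
theorem L112588 : sm ge N11756 = N15387 := rfl
theorem L112590 : sm gc N15387 = N11757 := ded_19_1 (flp_e L93813) L93811 L112588
theorem L112592 : sm gf N11756 = N15388 := rfl
theorem L112594 : sm gc N15388 = N11758 := ded_20_1 (flp_f L93817) L93811 L112592
theorem L112596 : sm gg N11756 = N15389 := rfl
theorem L112598 : sm gc N15389 = N11759 := ded_21_1 (flp_g L93821) L93811 L112596
theorem L112600 : sm gf N11757 = N15390 := rfl
theorem L112602 : sm ge N15390 = N11758 := ded_25_1 (flp_f L93817) L93813 L112600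
theorem L112604 : sm gg N11757 = N15391 := rfl
theorem L112606 : sm ge N15391 = N11759 := ded_26_1 (flp_g L93821) L93813 L112604
theorem L112608 : sm gb N11758 = N15392 := rfl
theorem L112610 : sm gd N15392 = N11760 := ded_14_2 (flp_b L93825) (flp_d L93819) L112608
theorem L112612 : sm gf N15392 = N11764 := ded_16_2 (flp_b L93849) (flp_f L46787) (flp_b L46777) L93817 L112608
theorem L112614 : sm gg N11758 = N15393 := rfl
theorem L112616 : sm gd N15393 = N11761 := ded_24_1 (flp_g L93829) (flp_d L93819) L112614
theorem L112618 : sm gf N15384 = N15393 := ded_29_0 (flp_g L112614) (flp_f L93817) L93821 (flp_a L112580)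
theorem L112620 : sm gf N11759 = N15394 := rfl
theorem L112622 : sm ga N15394 = N15393 := ded_11_1 (flp_f L112618) L112580 L112620
theorem L112624 : sm gd N15394 = N11762 := ded_23_1 (flp_f L93834) (flp_d L93823) L112620
theorem L112626 : sm gg N15394 = N15383 := ded_29_3 L112574 (flp_f L93817) L93821 L112620
theorem L112628 : sm ga N11760 = N15395 := rfl
theorem L112630 : sm gf N15395 = N11765 := ded_11_2 (flp_a L93853) (flp_f L93827) L112628
theorem L112632 : sm gg N11760 = N15396 := rfl
theorem L112634 : sm gb N11761 = N15397 := rfl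
theorem L112636 : sm gb N11762 = N15398 := rfl
theorem L112638 : sm gb N11763 = N15399 := rfl
theorem L112640 : sm ge N15399 = N11764 := ded_15_2 (flp_b L93849) (flp_e L93845) L112638
theorem L112642 : sm ga N11764 = N15400 := rfl
theorem L112644 : sm gd N15400 = N11765 := ded_9_2 (flp_a L93853) (flp_d L93851) L112642
theorem L112646 : sm gc N11764 = N15401 := rfl
theorem L112648 : sm gg N11764 = N15402 := rfl
theorem L112650 : sm gd N15402 = N11766 := ded_24_1 (flp_g L93855) (flp_d L93851) L112648
theorem L112652 : sm gb N15402 = N12789 := ded_17_1 (flp_g L98951) L85966 L80473 L93849 L112648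
theorem L112654 : sm gb N11765 = N15403 := rfl
theorem L112656 : sm gg N11765 = N15404 := rfl
theorem L112658 : sm ga N15404 = N11766 := ded_12_1 (flp_g L93855) L93853 L112656
theorem L112660 : sm gf N15404 = N15396 := ded_29_2 (flp_g L112632) L112628 L112630 L112656
theorem L112662 : sm gf N11766 = N15405 := rfl
theorem L112664 : sm ga N15405 = N15396 := ded_11_1 (flp_f L112660) L112658 L112662
theorem L112666 : sm gg N15405 = N15395 := ded_29_3 (flp_a L112628) L93827 L93855 L112662
theorem L112668 : sm gb N11767 = N15406 := rfl
theorem L112670 : sm ge N11767 = N15407 := rfl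
theorem L112672 : sm ga N15407 = N11768 := ded_10_1 (flp_e L93861) L93859 L112670
theorem L112674 : sm gf N11767 = N15408 := rfl
theorem L112676 : sm ga N15408 = N11769 := ded_11_1 (flp_f L93865) L93859 L112674
theorem L112678 : sm gg N11767 = N15409 := rfl
theorem L112680 : sm ga N15409 = N11770 := ded_12_1 (flp_g L93867) L93859 L112678
theorem L112682 : sm gd N11768 = N15410 := rfl
theorem L112684 : sm gb N15410 = N11771 := ded_14_1 (flp_d L93869) (flp_b L93863) L112682
theorem L112686 : sm gf N11768 = N15411 := rfl
theorem L112688 : sm ge N15411 = N11769 := ded_25_1 (flp_f L93865) L93861 L112686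
theorem L112690 : sm gg N11768 = N15412 := rfl
theorem L112694 : sm gb N11769 = N15413 := rfl
theorem L112696 : sm gf N15413 = N11773 := ded_16_2 (flp_b L93879) (flp_f L46813) L46807 L93865 L112694
theorem L112698 : sm gg N11769 = N15414 := rfl
theorem L112700 : sm gf N15409 = N15414 := ded_29_0 (flp_g L112698) (flp_f L93865) L93867 (flp_a L112680)
theorem L112708 : sm gf N11771 = N15416 := rfl
theorem L112710 : sm gc N15416 = N12796 := ded_20_1 (flp_f L109838) (flp_c L109844) L112708
theorem L112712 : sm gd N15416 = N11772 := ded_23_1 (flp_f L93871) L93869 L112708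
theorem L112714 : sm ge N15416 = N12906 := ded_25_1 L99673 L94231 L112708
theorem L112716 : sm gg N15416 = N12796 := ded_29_3 (flp_a L99441) (flp_f L109604) L109606 L112708
theorem L112718 : sm gb N11772 = N15417 := rfl
theorem L112720 : sm ge N15417 = N11773 := ded_15_2 (flp_b L93879) (flp_e L93875) L112718
theorem L112722 : sm ga N11773 = N15418 := rfl
theorem L112724 : sm gc N11773 = N15419 := rfl
theorem L112726 : sm gb N15419 = N11776 := ded_13_1 (flp_c L93889) (flp_b L46821) (flp_c L46815) L93879 L112724
theorem L112728 : sm gg N11773 = N15420 := rfl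
theorem L112730 : sm gb N15420 = N12795 := ded_17_1 (flp_g L98973) (flp_b L85980) (flp_g L82723) L93879 L112728
theorem L112732 : sm ga N11774 = N15421 := rfl
theorem L112734 : sm ge N15421 = N11775 := ded_10_2 (flp_a L93885) (flp_e L93883) L112732
theorem L112736 : sm gc N11774 = N15422 := rfl
theorem L112738 : sm ge N15422 = N11776 := ded_19_2 (flp_c L93889) (flp_e L93883) L112736
theorem L112740 : sm gg N11774 = N15423 := rfl
theorem L112742 : sm ge N15423 = N11777 := ded_26_1 (flp_g L93891) (flp_e L93883) L112740
theorem L112744 : sm gb N15423 = N12703 := ded_17_1 (flp_g L98583) L85782 (flp_g L83370) L93881 L112740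
theorem L112746 : sm gb N11775 = N15424 := rfl
theorem L112748 : sm gd N15424 = N11778 := ded_14_2 (flp_b L93897) (flp_d L93887) L112746
theorem L112750 : sm gc N11775 = N15425 := rfl
theorem L112752 : sm ga N15425 = N11776 := ded_8_1 (flp_c L93889) L93885 L112750
theorem L112754 : sm gg N11775 = N15426 := rfl
theorem L112756 : sm ga N15426 = N11777 := ded_12_1 (flp_g L93891) L93885 L112754
theorem L112758 : sm gd N15426 = N11779 := ded_24_1 (flp_g L93899) (flp_d L93887) L112754
theorem L112760 : sm gf N15426 = N15309 := ded_29_2 (flp_g L112258) L112248 L112252 L112754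
theorem L112762 : sm gd N11776 = N15427 := rfl
theorem L112764 : sm gg N11776 = N15428 := rfl
theorem L112766 : sm gc N15428 = N11777 := ded_21_1 (flp_g L93891) L93889 L112764
theorem L112768 : sm gf N11777 = N15429 := rfl
theorem L112770 : sm ga N15429 = N15309 := ded_11_1 (flp_f L112760) L112756 L112768
theorem L112772 : sm gd N15429 = N11780 := ded_23_1 (flp_f L93907) (flp_d L93893) L112768
theorem L112774 : sm gg N15429 = N15307 := ded_29_3 (flp_a L112248) L93641 L93891 L112768
theorem L112776 : sm ga N11778 = N15430 := rfl
theorem L112778 : sm gc N11778 = N15431 := rfl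
theorem L112780 : sm gb N15431 = N15373 := ded_13_1 (flp_c L112534) (flp_b L93777) (flp_c L83372) L93897 L112778
theorem L112782 : sm gf N11778 = N15432 := rfl
theorem L112784 : sm gg N11778 = N15433 := rfl
theorem L112786 : sm gb N11779 = N15434 := rfl
theorem L112788 : sm gb N11780 = N15435 := rfl
theorem L112790 : sm gf N15435 = N12705 := ded_16_2 (flp_b L98595) (flp_f L85788) (flp_b L83384) L93907 L112788
theorem L112792 : sm ga N11781 = N15436 := rfl
theorem L112794 : sm gc N15436 = N11788 := ded_8_2 (flp_a L93960) (flp_c L93917) L112792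
theorem L112796 : sm gd N11781 = N15437 := rfl
theorem L112798 : sm gb N15437 = N11782 := ded_14_1 (flp_d L93919) L93915 L112796
theorem L112800 : sm ge N11781 = N15438 := rfl
theorem L112802 : sm gb N15438 = N11783 := ded_15_1 (flp_e L93924) L93915 L112800
theorem L112804 : sm gc N15438 = N11789 := ded_19_1 (flp_e L93964) (flp_c L93917) L112800
theorem L112806 : sm gf N11781 = N15439 := rfl
theorem L112808 : sm gc N15439 = N11790 := ded_20_1 (flp_f L93968) (flp_c L93917) L112806
theorem L112811 : sm gg N11781 = N15440 := rfl
theorem L112813 : sm gc N15440 = N11791 := ded_21_1 (flp_g L93972) (flp_c L93917) L112811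
theorem L112815 : sm ge N11782 = N15441 := rfl
theorem L112817 : sm ga N15441 = N15441 := ded_10_1 (flp_e L112815) L93921 L112815
theorem L112818 : sm gc N15441 = N15441 := ded_19_1 (flp_e L112815) L93923 L112815
theorem L112819 : sm gf N15441 = N15441 := ded_25_2 (flp_e L112815) L93922 L112815
theorem L112827 : sm gd N11783 = N15443 := rfl
theorem L112832 : sm gg N11783 = N15444 := rfl
theorem L112835 : sm gc N15444 = N11785 := ded_21_1 (flp_g L93936) (flp_c L93927) L112832
theorem L112837 : sm ge N15444 = N11784 := ded_26_1 (flp_g L93930) L93924 L112832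
theorem L112850 : sm gc N11786 = N15447 := rfl
theorem L112852 : sm gg N15447 = N11795 := ded_21_2 (flp_c L93996) (flp_g L93948) L112850
theorem L112854 : sm gb N11788 = N15448 := rfl
theorem L112856 : sm gd N15448 = N15348 := ded_14_2 (flp_b L112424) (flp_d L93962) L112854
theorem L112858 : sm ge N11788 = N15449 := rfl
theorem L112860 : sm ga N15449 = N11789 := ded_10_1 (flp_e L93964) L93960 L112858
theorem L112868 : sm gg N11788 = N15451 := rfl
theorem L112870 : sm ga N15451 = N11791 := ded_12_1 (flp_g L93972) L93960 L112868
theorem L112872 : sm gd N15451 = N15351 := ded_24_1 (flp_g L112434) (flp_d L93962) L112868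
theorem L112874 : sm gd N11789 = N15452 := rfl
theorem L112876 : sm gb N15452 = N11792 := ded_14_1 (flp_d L93976) (flp_b L93966) L112874
theorem L112878 : sm ge N15452 = N15352 := ded_22_2 (flp_d L112438) (flp_e L93741) (flp_d L46975) L93964 L112874
theorem L112888 : sm gg N11790 = N15455 := rfl
theorem L112892 : sm gf N15451 = N15455 := ded_29_0 (flp_g L112888) (flp_f L93968) L93972 (flp_a L112870)
theorem L112894 : sm gb N11791 = N15456 := rfl
theorem L112896 : sm gd N15456 = N15356 := ded_14_2 (flp_b L112454) (flp_d L93974) L112894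
theorem L112898 : sm gg N15456 = N11793 := ded_17_2 (flp_b L93984) (flp_g L46983) L46973 L93972 L112894
theorem L112900 : sm gf N11791 = N15457 := rfl
theorem L112902 : sm ga N15457 = N15455 := ded_11_1 (flp_f L112892) L112870 L112900
theorem L112908 : sm ga N11793 = N15458 := rfl
theorem L112910 : sm gd N15458 = N15360 := ded_9_2 (flp_a L112478) (flp_d L93986) L112908
theorem L112912 : sm gc N11793 = N15459 := rfl
theorem L112914 : sm gb N15459 = N11795 := ded_13_1 (flp_c L93996) (flp_b L47003) (flp_c L46987) L93984 L112912
theorem L112916 : sm gf N11793 = N15460 := rfl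
theorem L112918 : sm gd N15460 = N15362 := ded_23_1 (flp_f L112484) (flp_d L93986) L112916
theorem L112920 : sm gb N15460 = N12821 := ded_16_1 (flp_f L99123) (flp_b L86075) L75707 L93984 L112916
theorem L112936 : sm ga N11797 = N15464 := rfl
theorem L112938 : sm gd N15464 = N15323 := ded_9_2 L112322 L94016 L112936
theorem L112940 : sm gc N15464 = N11797 := ded_28_0 (flp_d L94016) (flp_c L93691) (flp_d L46647) L48164 L46647 L93691 L94016 L112936
theorem L112942 : sm gb N11877 = N15464 := ded_13_5 L112940 (flp_b L94006) L47035 L83839 L94474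
theorem L112944 : sm ga N15448 = N11877 := ded_7_9 L112942 (flp_a L112936) (flp_b L94006) (flp_a L47033) (flp_b L22645) (flp_a L22611) L46973 L93960 L112854
theorem L112946 : sm gc N11876 = N15448 := ded_8_0 L112944 (flp_c L94474) L94472
theorem L112948 : sm ge N11797 = N15465 := rfl
theorem L112950 : sm gb N15465 = N11799 := ded_15_1 (flp_e L94018) L94006 L112948
theorem L112952 : sm gf N11797 = N15466 := rfl
theorem L112954 : sm gd N15466 = N15330 := ded_23_1 (flp_f L112348) L94016 L112952
theorem L112956 : sm gg N11797 = N15467 := rfl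
theorem L112958 : sm gd N15467 = N15331 := ded_24_1 (flp_g L112352) L94016 L112956
theorem L112960 : sm ge N11798 = N15468 := rfl
theorem L112962 : sm ga N15468 = N11802 := ded_10_1 (flp_e L94036) (flp_a L94010) L112960
theorem L112964 : sm gb N15468 = N15329 := ded_15_1 (flp_e L112344) (flp_b L94014) L112960
theorem L112966 : sm gc N15468 = N11802 := ded_19_1 (flp_e L94036) L94012 L112960
theorem L112968 : sm gf N11798 = N15469 := rfl
theorem L112970 : sm ga N15469 = N11803 := ded_11_1 (flp_f L94040) (flp_a L94010) L112968
theorem L112972 : sm gc N15469 = N11803 := ded_20_1 (flp_f L94040) L94012 L112968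
theorem L112974 : sm gd N15469 = N11800 := ded_23_1 (flp_f L94024) L94008 L112968
theorem L112976 : sm gg N11798 = N15470 := rfl
theorem L112978 : sm ga N15470 = N11804 := ded_12_1 (flp_g L94044) (flp_a L94010) L112976
theorem L112980 : sm gc N15470 = N11804 := ded_21_1 (flp_g L94044) L94012 L112976
theorem L112982 : sm gd N15470 = N11801 := ded_24_1 (flp_g L94030) L94008 L112976
theorem L112984 : sm gd N11799 = N15471 := rfl
theorem L112986 : sm ga N15471 = N11805 := ded_9_1 (flp_d L94048) (flp_a L94020) L112984
theorem L112988 : sm gf N11799 = N15472 := rfl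
theorem L112990 : sm ga N15472 = N11806 := ded_11_1 (flp_f L94052) (flp_a L94020) L112988
theorem L112996 : sm gg N11799 = N15473 := rfl
theorem L112998 : sm ga N15473 = N11807 := ded_12_1 (flp_g L94058) (flp_a L94020) L112996
theorem L113000 : sm gc N15473 = N11883 := ded_21_1 (flp_g L94494) (flp_c L94022) L112996
theorem L113002 : sm ge N15473 = N11801 := ded_26_1 (flp_g L94030) L94018 L112996
theorem L113004 : sm gb N11800 = N15474 := rfl
theorem L113006 : sm gb N11801 = N15475 := rfl
theorem L113008 : sm gd N11802 = N15476 := rfl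
theorem L113010 : sm gb N15476 = N11811 := ded_14_1 (flp_d L94082) (flp_b L94038) L113008
theorem L113012 : sm ge N15476 = N11805 := ded_22_2 (flp_d L94048) (flp_e L47041) L47037 L94036 L113008
theorem L113014 : sm gf N11802 = N15477 := rfl
theorem L113016 : sm ge N15477 = N11803 := ded_25_1 (flp_f L94040) L94036 L113014
theorem L113018 : sm gg N11802 = N15478 := rfl
theorem L113020 : sm ge N15478 = N11804 := ded_26_1 (flp_g L94044) L94036 L113018
theorem L113022 : sm gg N11803 = N15479 := rfl
theorem L113024 : sm gd N15479 = N11808 := ded_24_1 (flp_g L94064) (flp_d L94042) L113022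
theorem L113026 : sm gf N15470 = N15479 := ded_29_0 (flp_g L113022) (flp_f L94040) L94044 (flp_a L112978)
theorem L113028 : sm gb N11804 = N15480 := rfl
theorem L113030 : sm gd N15480 = N11809 := ded_14_2 (flp_b L94070) (flp_d L94046) L113028
theorem L113032 : sm gg N15480 = N11813 := ded_17_2 (flp_b L94098) (flp_g L47061) (flp_b L47039) L94044 L113028
theorem L113034 : sm gf N11804 = N15481 := rfl
theorem L113036 : sm ga N15481 = N15479 := ded_11_1 (flp_f L113026) L112978 L113034
theorem L113038 : sm gc N15481 = N15479 := ded_20_1 (flp_f L113026) L112980 L113034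
theorem L113040 : sm gd N15481 = N11810 := ded_23_1 (flp_f L94074) (flp_d L94046) L113034
theorem L113042 : sm gg N15481 = N15469 := ded_29_3 L112970 (flp_f L94040) L94044 L113034
theorem L113044 : sm gc N11805 = N15482 := rfl
theorem L113046 : sm gf N11805 = N15483 := rfl
theorem L113048 : sm gd N15483 = N11806 := ded_23_1 (flp_f L94052) L94048 L113046
theorem L113050 : sm gg N11805 = N15484 := rfl
theorem L113052 : sm gd N15484 = N11807 := ded_24_1 (flp_g L94058) L94048 L113050
theorem L113054 : sm gg N11806 = N15485 := rfl
theorem L113056 : sm gc N15485 = N11889 := ded_21_1 (flp_g L94514) (flp_c L94054) L113054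
theorem L113058 : sm ge N15485 = N11808 := ded_26_1 (flp_g L94064) (flp_e L94056) L113054
theorem L113060 : sm gf N15473 = N15485 := ded_29_0 (flp_g L113054) (flp_f L94052) L94058 (flp_a L112998)
theorem L113062 : sm gb N11807 = N15486 := rfl
theorem L113064 : sm ge N15486 = N11809 := ded_15_2 (flp_b L94070) (flp_e L94062) L113062
theorem L113066 : sm gg N15486 = N11816 := ded_17_2 (flp_b L94120) (flp_g L47071) (flp_b L47043) L94058 L113062
theorem L113068 : sm gf N11807 = N15487 := rfl
theorem L113070 : sm ga N15487 = N15485 := ded_11_1 (flp_f L113060) L112998 L113068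
theorem L113072 : sm gc N15487 = N11891 := ded_20_1 (flp_f L94526) (flp_c L94060) L113068
theorem L113074 : sm ge N15487 = N11810 := ded_25_1 (flp_f L94074) (flp_e L94062) L113068
theorem L113076 : sm gg N15487 = N15472 := ded_29_3 L112990 (flp_f L94052) L94058 L113068
theorem L113078 : sm gb N11808 = N15488 := rfl
theorem L113080 : sm ga N11809 = N15489 := rfl
theorem L113082 : sm gg N15489 = N11817 := ded_12_2 (flp_a L94124) (flp_g L94072) L113080
theorem L113084 : sm gc N11809 = N15490 := rfl
theorem L113086 : sm gg N15490 = N11818 := ded_21_2 (flp_c L94126) (flp_g L94072) L113084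
theorem L113088 : sm gb N15490 = N11894 := ded_13_1 (flp_c L94540) (flp_b L83869) (flp_c L47053) L94070 L113084
theorem L113090 : sm gf N11809 = N15491 := rfl
theorem L113092 : sm gb N11810 = N15492 := rfl
theorem L113094 : sm gg N11811 = N15493 := rfl
theorem L113096 : sm ga N15493 = N15358 := ded_12_1 (flp_g L112464) (flp_a L94084) L113094
theorem L113098 : sm gc N15493 = N12838 := ded_21_1 (flp_g L109547) (flp_c L109551) L113094
theorem L113100 : sm gd N15493 = N11812 := ded_24_1 (flp_g L94088) L94082 L113094
theorem L113102 : sm ge N15493 = N11815 := ded_26_1 (flp_g L94112) (flp_e L94086) L113094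
theorem L113104 : sm gf N12838 = N15493 := ded_29_0 (flp_g L113094) (flp_f L109707) L109709 (flp_a L99213)
theorem L113106 : sm gb N11812 = N15494 := rfl
theorem L113108 : sm ge N15494 = N11813 := ded_15_2 (flp_b L94098) (flp_e L94094) L113106
theorem L113110 : sm ga N11813 = N15495 := rfl
theorem L113112 : sm gd N15495 = N11817 := ded_9_2 (flp_a L94124) (flp_d L94100) L113110
theorem L113114 : sm gc N11813 = N15496 := rfl
theorem L113116 : sm gb N15496 = N15343 := ded_13_1 (flp_c L112402) (flp_b L93729) (flp_c L47065) L94098 L113114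
theorem L113118 : sm gf N11813 = N15497 := rfl
theorem L113120 : sm gd N15497 = N11819 := ded_23_1 (flp_f L94130) (flp_d L94100) L113118
theorem L113122 : sm gb N15497 = N12831 := ded_16_1 (flp_f L99173) L86093 L82681 L94098 L113118
theorem L113124 : sm gb N11814 = N15498 := rfl
theorem L113126 : sm gd N15498 = N12798 := ded_14_2 L98982 (flp_d L94108) L113124
theorem L113128 : sm gb N11815 = N15499 := rfl
theorem L113130 : sm gd N15499 = N11816 := ded_14_2 (flp_b L94120) (flp_d L94116) L113128
theorem L113132 : sm ga N11816 = N15500 := rfl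
theorem L113134 : sm ge N15500 = N11817 := ded_10_2 (flp_a L94124) (flp_e L94122) L113132
theorem L113136 : sm gc N11816 = N15501 := rfl
theorem L113138 : sm ge N15501 = N11818 := ded_19_2 (flp_c L94126) (flp_e L94122) L113136
theorem L113140 : sm gb N15501 = N11821 := ded_13_1 (flp_c L94144) (flp_b L47087) (flp_c L47073) L94120 L113136
theorem L113142 : sm gf N11816 = N15502 := rfl
theorem L113144 : sm ge N15502 = N11819 := ded_25_1 (flp_f L94130) (flp_e L94122) L113142
theorem L113146 : sm gb N15502 = N12834 := ded_16_1 (flp_f L99185) L86097 L82683 L94120 L113142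
theorem L113148 : sm gb N11817 = N15503 := rfl
theorem L113150 : sm gc N11817 = N15504 := rfl
theorem L113152 : sm ga N15504 = N11818 := ded_8_1 (flp_c L94126) L94124 L113150
theorem L113154 : sm gf N11817 = N15505 := rfl
theorem L113156 : sm ga N15505 = N11819 := ded_11_1 (flp_f L94130) L94124 L113154
theorem L113158 : sm gg N15491 = N15505 := ded_29_1 (flp_f L113154) (flp_g L113082) (flp_a L113080) L113090
theorem L113160 : sm gd N11818 = N15506 := rfl
theorem L113162 : sm gb N15506 = N11823 := ded_14_1 (flp_d L94160) (flp_b L94128) L113160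
theorem L113164 : sm gf N11818 = N15507 := rfl
theorem L113166 : sm gc N15507 = N11819 := ded_20_1 (flp_f L94130) L94126 L113164
theorem L113168 : sm gb N15507 = N12966 := ded_16_1 L99990 L86715 (flp_f L83451) (flp_b L94128) L113164
theorem L113170 : sm gg N11819 = N15508 := rfl
theorem L113172 : sm ga N15508 = N15491 := ded_12_1 L113158 L113156 L113170
theorem L113174 : sm gf N15489 = N15508 := ded_29_0 (flp_g L113170) (flp_f L94130) (flp_g L94072) L113080
theorem L113176 : sm gc N11820 = N15509 := rfl
theorem L113178 : sm ga N15509 = N11821 := ded_8_1 (flp_c L94144) L94134 L113176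
theorem L113180 : sm ge N15509 = N11822 := ded_19_2 (flp_c L94152) (flp_e L94138) L113176
theorem L113184 : sm gg N15509 = N11914 := ded_21_2 (flp_c L94634) (flp_g L94142) L113176
theorem L113186 : sm gd N11821 = N15510 := rfl
theorem L113188 : sm gf N15510 = N12984 := ded_23_2 (flp_d L100067) (flp_f L94148) L113186
theorem L113190 : sm gg N15510 = N11915 := ded_24_2 (flp_d L94640) (flp_g L94150) L113186
theorem L113192 : sm gb N11822 = N15511 := rfl
theorem L113194 : sm gd N11822 = N15512 := rfl
theorem L113196 : sm ga N15512 = N11823 := ded_9_1 (flp_d L94160) (flp_a L94154) L113194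
theorem L113198 : sm gf N15512 = N11983 := ded_23_2 L94959 (flp_f L94156) L113194
theorem L113200 : sm gg N15512 = N11921 := ded_24_2 (flp_d L94668) (flp_g L94158) L113194
theorem L113202 : sm gc N15512 = N11866 := ded_28_6 (flp_d L94411) (flp_a L94405) (flp_c L94403) L47446 L82030 (flp_d L47107) L94152 L113194
theorem L113204 : sm gc N11823 = N15513 := rfl
theorem L113206 : sm ga N15513 = N11866 := ded_8_1 (flp_c L113202) L113196 L113204
theorem L113208 : sm gf N15513 = N11982 := ded_20_2 L94953 (flp_f L94162) L113204
theorem L113210 : sm gg N15513 = N11922 := ded_21_2 (flp_c L94674) (flp_g L94164) L113204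
theorem L113212 : sm gd N15513 = N11865 := ded_28_7 L94405 (flp_c L47450) L22848 (flp_c L82061) (flp_d L22671) L47111 L94160 L113204
theorem L113214 : sm ge N11823 = N15514 := rfl
theorem L113216 : sm gf N15514 = N12988 := ded_25_2 (flp_e L100083) (flp_f L94162) L113214
theorem L113218 : sm gg N15514 = N11923 := ded_26_2 (flp_e L94680) (flp_g L94164) L113214
theorem L113220 : sm ga N11824 = N15515 := rfl
theorem L113224 : sm gd N11824 = N15516 := rfl
theorem L113226 : sm gb N15516 = N11825 := ded_14_1 (flp_d L94170) L94166 L113224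
theorem L113228 : sm ge N11824 = N15517 := rfl
theorem L113234 : sm gf N11824 = N15518 := rfl
theorem L113236 : sm gc N15518 = N11833 := ded_20_1 (flp_f L94219) (flp_c L94168) L113234
theorem L113238 : sm gg N11824 = N15519 := rfl
theorem L113240 : sm gc N15519 = N11834 := ded_21_1 (flp_g L94223) (flp_c L94168) L113238
theorem L113243 : sm ge N11825 = N15520 := rfl
theorem L113245 : sm ga N15520 = N15520 := ded_10_1 (flp_e L113243) L94172 L113243
theorem L113246 : sm gc N15520 = N15520 := ded_19_1 (flp_e L113243) L94174 L113243
theorem L113247 : sm gg N15520 = N15520 := ded_26_2 (flp_e L113243) L94173 L113243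
theorem L113282 : sm gb N11831 = N15527 := rfl
theorem L113284 : sm gd N15527 = N15406 := ded_14_2 (flp_b L112668) (flp_d L94213) L113282
theorem L113302 : sm gd N11832 = N15531 := rfl
theorem L113304 : sm gb N15531 = N11835 := ded_14_1 (flp_d L94227) (flp_b L94217) L113302
theorem L113306 : sm ge N15531 = N15410 := ded_22_2 (flp_d L112682) (flp_e L93861) (flp_d L47312) L94215 L113302
theorem L113312 : sm gg N11832 = N15533 := rfl
theorem L113314 : sm ge N15533 = N11834 := ded_26_1 (flp_g L94223) L94215 L113312
theorem L113316 : sm gb N11833 = N15534 := rfl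
theorem L113318 : sm gd N15534 = N15413 := ded_14_2 (flp_b L112694) (flp_d L94221) L113316
theorem L113320 : sm gf N15534 = N11836 := ded_16_2 (flp_b L94235) (flp_f L47320) L47310 L94219 L113316
theorem L113322 : sm gg N11833 = N15535 := rfl
theorem L113324 : sm gd N15535 = N15414 := ded_24_1 (flp_g L112698) (flp_d L94221) L113322
theorem L113336 : sm ga N11836 = N15537 := rfl
theorem L113338 : sm gd N15537 = N15418 := ded_9_2 (flp_a L112722) (flp_d L94237) L113336
theorem L113340 : sm gc N11836 = N15538 := rfl
theorem L113342 : sm gb N15538 = N11838 := ded_13_1 (flp_c L94247) (flp_b L47340) (flp_c L47324) L94235 L113340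
theorem L113344 : sm gg N11836 = N15539 := rfl
theorem L113346 : sm gd N15539 = N15420 := ded_24_1 (flp_g L112728) (flp_d L94237) L113344
theorem L113348 : sm gb N15539 = N12862 := ded_17_1 (flp_g L99357) (flp_b L86186) L77872 L94235 L113344
theorem L113358 : sm gg N11838 = N15542 := rfl
theorem L113362 : sm gc N15542 = N11839 := ded_21_1 (flp_g L94249) L94247 L113358
theorem L113364 : sm ga N11840 = N15543 := rfl
theorem L113366 : sm gd N15543 = N15381 := ded_9_2 L112566 L94267 L113364
theorem L113368 : sm gc N15543 = N11840 := ded_28_0 (flp_d L94267) (flp_c L93811) (flp_d L46775) L80429 L46775 L93811 L94267 L113364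
theorem L113370 : sm gb N11938 = N15543 := ded_13_5 L113368 (flp_b L94257) L47374 L83995 L94753
theorem L113372 : sm ga N15527 = N11938 := ded_7_9 L113370 (flp_a L113364) (flp_b L94257) (flp_a L47372) (flp_b L22822) (flp_a L22788) L47310 L94211 L113282
theorem L113374 : sm gc N11937 = N15527 := ded_8_0 L113372 (flp_c L94753) L94751
theorem L113376 : sm ge N11840 = N15544 := rfl
theorem L113378 : sm gb N15544 = N11842 := ded_15_1 (flp_e L94269) L94257 L113376
theorem L113380 : sm gf N11840 = N15545 := rfl
theorem L113382 : sm gd N15545 = N15388 := ded_23_1 (flp_f L112592) L94267 L113380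
theorem L113384 : sm gg N11840 = N15546 := rfl
theorem L113386 : sm gd N15546 = N15389 := ded_24_1 (flp_g L112596) L94267 L113384
theorem L113388 : sm ge N11841 = N15547 := rfl
theorem L113390 : sm ga N15547 = N11845 := ded_10_1 (flp_e L94287) (flp_a L94261) L113388
theorem L113392 : sm gb N15547 = N15387 := ded_15_1 (flp_e L112588) (flp_b L94265) L113388
theorem L113394 : sm gc N15547 = N11845 := ded_19_1 (flp_e L94287) L94263 L113388
theorem L113396 : sm gf N11841 = N15548 := rfl
theorem L113398 : sm ga N15548 = N11846 := ded_11_1 (flp_f L94291) (flp_a L94261) L113396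
theorem L113400 : sm gc N15548 = N11846 := ded_20_1 (flp_f L94291) L94263 L113396
theorem L113402 : sm gd N15548 = N11843 := ded_23_1 (flp_f L94275) L94259 L113396
theorem L113404 : sm gg N11841 = N15549 := rfl
theorem L113406 : sm ga N15549 = N11847 := ded_12_1 (flp_g L94295) (flp_a L94261) L113404
theorem L113408 : sm gc N15549 = N11847 := ded_21_1 (flp_g L94295) L94263 L113404
theorem L113412 : sm gd N11842 = N15550 := rfl
theorem L113414 : sm ga N15550 = N11848 := ded_9_1 (flp_d L94299) (flp_a L94271) L113412
theorem L113416 : sm gf N11842 = N15551 := rfl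
theorem L113418 : sm ga N15551 = N11849 := ded_11_1 (flp_f L94303) (flp_a L94271) L113416
theorem L113420 : sm gc N15551 = N11943 := ded_20_1 (flp_f L94767) (flp_c L94273) L113416
theorem L113422 : sm ge N15551 = N11843 := ded_25_1 (flp_f L94275) L94269 L113416
theorem L113424 : sm gg N11842 = N15552 := rfl
theorem L113426 : sm ga N15552 = N11850 := ded_12_1 (flp_g L94309) (flp_a L94271) L113424
theorem L113430 : sm ge N15552 = N11844 := ded_26_1 (flp_g L94281) L94269 L113424
theorem L113432 : sm gb N11843 = N15553 := rfl
theorem L113434 : sm gb N11844 = N15554 := rfl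
theorem L113436 : sm gd N11845 = N15555 := rfl
theorem L113438 : sm gb N15555 = N11854 := ded_14_1 (flp_d L94333) (flp_b L94289) L113436
theorem L113440 : sm ge N15555 = N11848 := ded_22_2 (flp_d L94299) (flp_e L47380) L47376 L94287 L113436
theorem L113442 : sm gf N11845 = N15556 := rfl
theorem L113444 : sm ge N15556 = N11846 := ded_25_1 (flp_f L94291) L94287 L113442
theorem L113446 : sm gg N11845 = N15557 := rfl
theorem L113448 : sm ge N15557 = N11847 := ded_26_1 (flp_g L94295) L94287 L113446
theorem L113450 : sm gb N11846 = N15558 := rfl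
theorem L113452 : sm gd N15558 = N11851 := ded_14_2 (flp_b L94315) (flp_d L94293) L113450
theorem L113454 : sm gf N15558 = N11856 := ded_16_2 (flp_b L94349) (flp_f L47400) (flp_b L47378) L94291 L113450
theorem L113456 : sm gg N11846 = N15559 := rfl
theorem L113458 : sm gd N15559 = N11852 := ded_24_1 (flp_g L94319) (flp_d L94293) L113456
theorem L113462 : sm gf N11847 = N15560 := rfl
theorem L113468 : sm gd N15560 = N11853 := ded_23_1 (flp_f L94325) (flp_d L94297) L113462
theorem L113470 : sm gg N15560 = N15548 := ded_29_3 L113398 (flp_f L94291) L94295 L113462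
theorem L113472 : sm gc N11848 = N15561 := rfl
theorem L113474 : sm gf N11848 = N15562 := rfl
theorem L113476 : sm gd N15562 = N11849 := ded_23_1 (flp_f L94303) L94299 L113474
theorem L113478 : sm gg N11848 = N15563 := rfl
theorem L113480 : sm gd N15563 = N11850 := ded_24_1 (flp_g L94309) L94299 L113478
theorem L113482 : sm gb N11849 = N15564 := rfl
theorem L113484 : sm ge N15564 = N11851 := ded_15_2 (flp_b L94315) (flp_e L94307) L113482
theorem L113486 : sm gf N15564 = N11859 := ded_16_2 (flp_b L94371) (flp_f L47410) (flp_b L47382) L94303 L113482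
theorem L113488 : sm gg N11849 = N15565 := rfl
theorem L113490 : sm gc N15565 = N11951 := ded_21_1 (flp_g L94799) (flp_c L94305) L113488
theorem L113492 : sm ge N15565 = N11852 := ded_26_1 (flp_g L94319) (flp_e L94307) L113488
theorem L113494 : sm gf N15552 = N15565 := ded_29_0 (flp_g L113488) (flp_f L94303) L94309 (flp_a L113426)
theorem L113496 : sm gf N11850 = N15566 := rfl
theorem L113498 : sm ga N15566 = N15565 := ded_11_1 (flp_f L113494) L113426 L113496
theorem L113500 : sm gc N15566 = N11952 := ded_20_1 (flp_f L94805) (flp_c L94311) L113496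
theorem L113502 : sm ge N15566 = N11853 := ded_25_1 (flp_f L94325) (flp_e L94313) L113496
theorem L113504 : sm gg N15566 = N15551 := ded_29_3 L113418 (flp_f L94303) L94309 L113496
theorem L113506 : sm ga N11851 = N15567 := rfl
theorem L113508 : sm gf N15567 = N11860 := ded_11_2 (flp_a L94375) (flp_f L94317) L113506
theorem L113510 : sm gc N11851 = N15568 := rfl
theorem L113512 : sm gf N15568 = N11861 := ded_20_2 (flp_c L94377) (flp_f L94317) L113510
theorem L113514 : sm gb N15568 = N11954 := ded_13_1 (flp_c L94817) (flp_b L84021) (flp_c L47388) L94315 L113510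
theorem L113516 : sm gg N11851 = N15569 := rfl
theorem L113518 : sm gb N11852 = N15570 := rfl
theorem L113520 : sm gb N11853 = N15571 := rfl
theorem L113522 : sm gf N11854 = N15572 := rfl
theorem L113524 : sm ga N15572 = N15416 := ded_11_1 (flp_f L112708) (flp_a L94335) L113522
theorem L113526 : sm gc N15572 = N12878 := ded_20_1 (flp_f L109604) (flp_c L109610) L113522
theorem L113528 : sm gd N15572 = N11855 := ded_23_1 (flp_f L94339) L94333 L113522
theorem L113530 : sm ge N15572 = N11858 := ded_25_1 (flp_f L94363) (flp_e L94337) L113522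
theorem L113532 : sm gg N15572 = N12878 := ded_29_3 L99441 (flp_f L109838) L109840 L113522
theorem L113534 : sm gb N11855 = N15573 := rfl
theorem L113536 : sm ge N15573 = N11856 := ded_15_2 (flp_b L94349) (flp_e L94345) L113534
theorem L113538 : sm ga N11856 = N15574 := rfl
theorem L113540 : sm gd N15574 = N11860 := ded_9_2 (flp_a L94375) (flp_d L94351) L113538
theorem L113542 : sm gc N11856 = N15575 := rfl
theorem L113544 : sm gb N15575 = N15401 := ded_13_1 (flp_c L112646) (flp_b L93849) (flp_c L47404) L94349 L113542
theorem L113546 : sm gg N11856 = N15576 := rfl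
theorem L113548 : sm gd N15576 = N11862 := ded_24_1 (flp_g L94381) (flp_d L94351) L113546
theorem L113550 : sm gb N15576 = N12872 := ded_17_1 (flp_g L99405) L86204 (flp_g L82717) L94349 L113546
theorem L113552 : sm gb N11857 = N15577 := rfl
theorem L113556 : sm gb N11858 = N15578 := rfl
theorem L113558 : sm gd N15578 = N11859 := ded_14_2 (flp_b L94371) (flp_d L94367) L113556
theorem L113560 : sm ga N11859 = N15579 := rfl
theorem L113562 : sm ge N15579 = N11860 := ded_10_2 (flp_a L94375) (flp_e L94373) L113560
theorem L113564 : sm gc N11859 = N15580 := rfl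
theorem L113566 : sm ge N15580 = N11861 := ded_19_2 (flp_c L94377) (flp_e L94373) L113564
theorem L113568 : sm gb N15580 = N11864 := ded_13_1 (flp_c L94395) (flp_b L47426) (flp_c L47412) L94371 L113564
theorem L113570 : sm gg N11859 = N15581 := rfl
theorem L113572 : sm ge N15581 = N11862 := ded_26_1 (flp_g L94381) (flp_e L94373) L113570
theorem L113574 : sm gb N15581 = N12875 := ded_17_1 (flp_g L99419) L86208 (flp_g L82719) L94371 L113570
theorem L113576 : sm gb N11860 = N15582 := rfl
theorem L113578 : sm gc N11860 = N15583 := rfl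
theorem L113580 : sm ga N15583 = N11861 := ded_8_1 (flp_c L94377) L94375 L113578
theorem L113582 : sm gg N11860 = N15584 := rfl
theorem L113584 : sm ga N15584 = N11862 := ded_12_1 (flp_g L94381) L94375 L113582
theorem L113586 : sm gf N15584 = N15569 := ded_29_2 (flp_g L113516) L113506 L113508 L113582
theorem L113588 : sm gd N11861 = N15585 := rfl
theorem L113590 : sm gb N15585 = N11866 := ded_14_1 (flp_d L94411) (flp_b L94379) L113588
theorem L113592 : sm gg N11861 = N15586 := rfl
theorem L113594 : sm gc N15586 = N11862 := ded_21_1 (flp_g L94381) L94377 L113592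
theorem L113596 : sm gb N15586 = N13052 := ded_17_1 L100417 L86962 L82727 (flp_b L94379) L113592
theorem L113598 : sm gf N11862 = N15587 := rfl
theorem L113600 : sm ga N15587 = N15569 := ded_11_1 (flp_f L113586) L113584 L113598
theorem L113602 : sm gg N15587 = N15567 := ded_29_3 (flp_a L113506) L94317 L94381 L113598
theorem L113604 : sm gc N11863 = N15588 := rfl
theorem L113606 : sm ga N15588 = N11864 := ded_8_1 (flp_c L94395) L94385 L113604
theorem L113608 : sm ge N15588 = N11865 := ded_19_2 (flp_c L94403) (flp_e L94389) L113604
theorem L113614 : sm gd N11864 = N15589 := rfl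
theorem L113616 : sm gf N15589 = N11976 := ded_23_2 (flp_d L94919) (flp_f L94399) L113614
theorem L113618 : sm gg N15589 = N13069 := ded_24_2 (flp_d L100491) (flp_g L94401) L113614
theorem L113620 : sm gb N11865 = N15590 := rfl
theorem L113622 : sm ge N11866 = N15591 := rfl
theorem L113624 : sm gf N15591 = N11984 := ded_25_2 (flp_e L94963) (flp_f L94413) L113622
theorem L113626 : sm gg N15591 = N13073 := ded_26_2 (flp_e L100507) (flp_g L94415) L113622
theorem L113628 : sm ga N11867 = N15592 := rfl
theorem L113630 : sm gd N15592 = N11876 := ded_9_2 (flp_a L94472) (flp_d L94419) L113628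
theorem L113632 : sm gb N15592 = N11876 := ded_7_2 (flp_a L94472) (flp_b L83839) (flp_a L23503) (flp_b L11326) (flp_a L11316) L23493 L83811 L94417 L113628
theorem L113634 : sm gc N11867 = N15593 := rfl
theorem L113636 : sm gb N15593 = N15593 := ded_13_1 (flp_c L113634) (flp_b L94417) L83813 L94417 L113634
theorem L113641 : sm gf N11867 = N15595 := rfl
theorem L113643 : sm gd N15595 = N11879 := ded_23_1 (flp_f L94480) (flp_d L94419) L113641
theorem L113645 : sm gg N11867 = N15596 := rfl
theorem L113647 : sm gd N15596 = N11880 := ded_24_1 (flp_g L94482) (flp_d L94419) L113645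
theorem L113662 : sm gg N11868 = N15599 := rfl
theorem L113667 : sm ge N15599 = N11870 := ded_26_1 (flp_g L94433) L94421 L113662
theorem L113673 : sm gb N11870 = N15601 := rfl
theorem L113675 : sm gd N15601 = N11885 := ded_14_2 (flp_b L94502) (flp_d L94438) L113673
theorem L113677 : sm gc N11871 = N15602 := rfl
theorem L113679 : sm ge N15602 = N11886 := ded_19_2 (flp_c L94504) (flp_e L94444) L113677
theorem L113681 : sm gb N15602 = N14236 := ded_13_1 (flp_c L106649) L90616 (flp_c L83837) (flp_b L94442) L113677
theorem L113689 : sm gg N11871 = N15604 := rfl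
theorem L113691 : sm gd N15604 = N11873 := ded_24_1 (flp_g L94451) L94440 L113689
theorem L113693 : sm ge N15604 = N11888 := ded_26_1 (flp_g L94510) (flp_e L94444) L113689
theorem L113695 : sm gg N11872 = N15605 := rfl
theorem L113698 : sm ge N15605 = N11874 := ded_26_1 (flp_g L94456) (flp_e L94449) L113695
theorem L113711 : sm gb N11874 = N15607 := rfl
theorem L113713 : sm gd N15607 = N11892 := ded_14_2 (flp_b L94534) (flp_d L94459) L113711
theorem L113715 : sm gb N11875 = N15608 := rfl
theorem L113717 : sm gd N15608 = N11896 := ded_14_2 (flp_b L94546) (flp_d L94468) L113715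
theorem L113719 : sm ge N11876 = N15609 := rfl
theorem L113721 : sm ga N15609 = N11878 := ded_10_1 (flp_e L94476) L94472 L113719
theorem L113723 : sm gf N11876 = N15610 := rfl
theorem L113725 : sm ga N15610 = N11879 := ded_11_1 (flp_f L94480) L94472 L113723
theorem L113727 : sm gg N11876 = N15611 := rfl
theorem L113729 : sm ga N15611 = N11880 := ded_12_1 (flp_g L94482) L94472 L113727
theorem L113731 : sm gd N11877 = N15612 := rfl
theorem L113733 : sm ga N15612 = N15348 := ded_9_1 (flp_d L112856) L112944 L113731
theorem L113735 : sm gb N15612 = N15323 := ded_14_1 (flp_d L112938) (flp_b L112942) L113731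
theorem L113737 : sm ge N11877 = N15613 := rfl
theorem L113739 : sm gc N15613 = N11878 := ded_19_1 (flp_e L94476) L94474 L113737
theorem L113741 : sm gf N11877 = N15614 := rfl
theorem L113743 : sm gc N15614 = N11879 := ded_20_1 (flp_f L94480) L94474 L113741
theorem L113745 : sm gg N11877 = N15615 := rfl
theorem L113747 : sm gc N15615 = N11880 := ded_21_1 (flp_g L94482) L94474 L113745
theorem L113749 : sm gd N11878 = N15616 := rfl
theorem L113751 : sm gb N15616 = N11881 := ded_14_1 (flp_d L94484) (flp_b L94478) L113749
theorem L113753 : sm gf N11878 = N15617 := rfl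
theorem L113755 : sm ge N15617 = N11879 := ded_25_1 (flp_f L94480) L94476 L113753
theorem L113757 : sm gg N11878 = N15618 := rfl
theorem L113759 : sm ge N15618 = N11880 := ded_26_1 (flp_g L94482) L94476 L113757
theorem L113761 : sm gb N11879 = N15619 := rfl
theorem L113765 : sm gg N11879 = N15620 := rfl
theorem L113767 : sm gf N15611 = N15620 := ded_29_0 (flp_g L113765) (flp_f L94480) L94482 (flp_a L113729)
theorem L113769 : sm gb N11880 = N15621 := rfl
theorem L113771 : sm gg N15621 = N11885 := ded_17_2 (flp_b L94502) (flp_g L83849) L83839 L94482 L113769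
theorem L113773 : sm gf N11880 = N15622 := rfl
theorem L113775 : sm ga N15622 = N15620 := ded_11_1 (flp_f L113767) L113729 L113773
theorem L113777 : sm gg N15622 = N15610 := ded_29_3 L113725 (flp_f L94480) L94482 L113773
theorem L113779 : sm gc N11881 = N15623 := rfl
theorem L113781 : sm ga N15623 = N11886 := ded_8_1 (flp_c L94504) (flp_a L94486) L113779
theorem L113789 : sm gg N11881 = N15625 := rfl
theorem L113791 : sm ga N15625 = N11888 := ded_12_1 (flp_g L94510) (flp_a L94486) L113789
theorem L113793 : sm gd N15625 = N11883 := ded_24_1 (flp_g L94494) L94484 L113789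
theorem L113799 : sm gb N11883 = N15627 := rfl
theorem L113801 : sm ge N15627 = N11885 := ded_15_2 (flp_b L94502) (flp_e L94498) L113799
theorem L113813 : sm gg N11884 = N15630 := rfl
theorem L113815 : sm ga N11885 = N15631 := rfl
theorem L113817 : sm gc N11885 = N15632 := rfl
theorem L113819 : sm gf N11885 = N15633 := rfl
theorem L113821 : sm gb N11886 = N15634 := rfl
theorem L113823 : sm ge N15634 = N14236 := ded_15_2 (flp_b L113681) L113679 L113821
theorem L113825 : sm gc N15634 = N11897 := ded_13_2 (flp_b L94548) (flp_c L83879) (flp_b L83855) L94504 L113821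
theorem L113827 : sm gd N11886 = N15635 := rfl
theorem L113829 : sm gf N11886 = N15636 := rfl
theorem L113833 : sm gg N11886 = N15637 := rfl
theorem L113835 : sm gc N15637 = N11888 := ded_21_1 (flp_g L94510) L94504 L113833
theorem L113837 : sm gg N11887 = N15638 := rfl
theorem L113839 : sm gd N15638 = N11889 := ded_24_1 (flp_g L94514) (flp_d L94508) L113837
theorem L113843 : sm gb N11888 = N15639 := rfl
theorem L113845 : sm gd N15639 = N11890 := ded_14_2 (flp_b L94520) (flp_d L94512) L113843
theorem L113847 : sm gg N15639 = N11899 := ded_17_2 (flp_b L94566) (flp_g L83889) (flp_b L83855) L94510 L113843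
theorem L113857 : sm gb N11889 = N15641 := rfl
theorem L113859 : sm ge N15641 = N11892 := ded_15_2 (flp_b L94534) (flp_e L94516) L113857
theorem L113861 : sm ga N11890 = N15642 := rfl
theorem L113863 : sm ge N15642 = N11893 := ded_10_2 (flp_a L94536) (flp_e L94522) L113861
theorem L113865 : sm gg N15642 = N11900 := ded_12_2 (flp_a L94570) (flp_g L94524) L113861
theorem L113867 : sm gc N11890 = N15643 := rfl
theorem L113869 : sm ge N15643 = N11894 := ded_19_2 (flp_c L94540) (flp_e L94522) L113867
theorem L113871 : sm gg N15643 = N11901 := ded_21_2 (flp_c L94574) (flp_g L94524) L113867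
theorem L113873 : sm gf N11890 = N15644 := rfl
theorem L113875 : sm ge N15644 = N11895 := ded_25_1 (flp_f L94544) (flp_e L94522) L113873
theorem L113877 : sm gb N11891 = N15645 := rfl
theorem L113879 : sm ge N15645 = N11896 := ded_15_2 (flp_b L94546) (flp_e L94530) L113877
theorem L113881 : sm ga N11892 = N15646 := rfl
theorem L113883 : sm gc N11892 = N15647 := rfl
theorem L113885 : sm gf N11892 = N15648 := rfl
theorem L113887 : sm gb N15648 = N15633 := ded_16_1 (flp_f L113819) (flp_b L94502) L83867 L94534 L113885
theorem L113889 : sm gb N11893 = N15649 := rfl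
theorem L113891 : sm gc N11893 = N15650 := rfl
theorem L113893 : sm ga N15650 = N11894 := ded_8_1 (flp_c L94540) L94536 L113891
theorem L113895 : sm gg N15650 = N11905 := ded_21_2 (flp_c L94590) (flp_g L94538) L113891
theorem L113897 : sm gd N11894 = N15651 := rfl
theorem L113899 : sm gg N15651 = N11907 := ded_24_2 (flp_d L94600) (flp_g L94542) L113897
theorem L113901 : sm gf N11894 = N15652 := rfl
theorem L113903 : sm gc N15652 = N11895 := ded_20_1 (flp_f L94544) L94540 L113901
theorem L113905 : sm gb N11895 = N15653 := rfl
theorem L113907 : sm gf N15653 = N11896 := ded_16_2 (flp_b L94546) (flp_f L83873) L83869 L94544 L113905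
theorem L113909 : sm ga N11896 = N15654 := rfl
theorem L113911 : sm gc N11896 = N15655 := rfl
theorem L113913 : sm gg N11896 = N15656 := rfl
theorem L113915 : sm gb N15656 = N15630 := ded_17_1 (flp_g L113813) (flp_b L94500) (flp_g L83877) L94546 L113913
theorem L113917 : sm ga N11897 = N15657 := rfl
theorem L113919 : sm gd N15657 = N12007 := ded_9_2 (flp_a L95081) (flp_d L94550) L113917
theorem L113923 : sm gf N11897 = N15658 := rfl
theorem L113925 : sm gd N15658 = N12008 := ded_23_1 (flp_f L95085) (flp_d L94550) L113923
theorem L113927 : sm ge N15658 = N14237 := ded_25_1 (flp_f L106651) (flp_e L94552) L113923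
theorem L113931 : sm gg N11897 = N15659 := rfl
theorem L113933 : sm gd N15659 = N12009 := ded_24_1 (flp_g L95091) (flp_d L94550) L113931
theorem L113935 : sm ge N15659 = N14238 := ded_26_1 (flp_g L106657) (flp_e L94552) L113931
theorem L113937 : sm gb N11898 = N15660 := rfl
theorem L113939 : sm gd N15660 = N11903 := ded_14_2 (flp_b L94584) (flp_d L94560) L113937
theorem L113941 : sm ge N15660 = N14247 := ded_15_2 (flp_b L106697) (flp_e L94562) L113937
theorem L113943 : sm ga N11899 = N15661 := rfl
theorem L113945 : sm gd N15661 = N11900 := ded_9_2 (flp_a L94570) (flp_d L94568) L113943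
theorem L113947 : sm gc N11899 = N15662 := rfl
theorem L113949 : sm gf N11899 = N15663 := rfl
theorem L113951 : sm gd N15663 = N11902 := ded_23_1 (flp_f L94580) (flp_d L94568) L113949
theorem L113953 : sm gb N11900 = N15664 := rfl
theorem L113955 : sm ge N15664 = N11904 := ded_15_2 (flp_b L94588) (flp_e L94572) L113953
theorem L113957 : sm gc N11900 = N15665 := rfl
theorem L113959 : sm ga N15665 = N11901 := ded_8_1 (flp_c L94574) L94570 L113957
theorem L113961 : sm ge N15665 = N11905 := ded_19_2 (flp_c L94590) (flp_e L94572) L113957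
theorem L113963 : sm gf N11900 = N15666 := rfl
theorem L113965 : sm ga N15666 = N11902 := ded_11_1 (flp_f L94580) L94570 L113963
theorem L113967 : sm ge N15666 = N11906 := ded_25_1 (flp_f L94594) (flp_e L94572) L113963
theorem L113969 : sm gg N15644 = N15666 := ded_29_1 (flp_f L113963) (flp_g L113865) (flp_a L113861) L113873
theorem L113971 : sm gd N11901 = N15667 := rfl
theorem L113973 : sm gb N15667 = N11915 := ded_14_1 (flp_d L94640) (flp_b L94578) L113971
theorem L113975 : sm gf N11901 = N15668 := rfl
theorem L113977 : sm gc N15668 = N11902 := ded_20_1 (flp_f L94580) L94574 L113975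
theorem L113979 : sm ge N15668 = N11908 := ded_25_1 (flp_f L94604) (flp_e L94576) L113975
theorem L113981 : sm gb N11902 = N15669 := rfl
theorem L113983 : sm ge N15669 = N11909 := ded_15_2 (flp_b L94608) (flp_e L94582) L113981
theorem L113985 : sm gf N15669 = N11903 := ded_16_2 (flp_b L94584) (flp_f L83897) L83893 L94580 L113981
theorem L113987 : sm gg N11902 = N15670 := rfl
theorem L113989 : sm ga N15670 = N15644 := ded_12_1 L113969 L113965 L113987
theorem L113991 : sm ge N15670 = N11910 := ded_26_1 (flp_g L94614) (flp_e L94582) L113987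
theorem L113993 : sm gf N15642 = N15670 := ded_29_0 (flp_g L113987) (flp_f L94580) (flp_g L94524) L113861
theorem L113995 : sm ga N11903 = N15671 := rfl
theorem L113997 : sm ge N15671 = N11911 := ded_10_2 (flp_a L94620) (flp_e L94586) L113995
theorem L113999 : sm gc N11903 = N15672 := rfl
theorem L114001 : sm ge N15672 = N11912 := ded_19_2 (flp_c L94624) (flp_e L94586) L113999
theorem L114005 : sm gg N11903 = N15673 := rfl
theorem L114007 : sm ge N15673 = N11913 := ded_26_1 (flp_g L94628) (flp_e L94586) L114005
theorem L114009 : sm gb N15673 = N12009 := ded_17_1 (flp_g L95091) (flp_b L84202) (flp_g L83905) L94584 L114005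
theorem L114011 : sm ga N11904 = N15674 := rfl
theorem L114013 : sm gc N11904 = N15675 := rfl
theorem L114015 : sm gf N11904 = N15676 := rfl
theorem L114017 : sm gg N11904 = N15677 := rfl
theorem L114019 : sm gb N11905 = N15678 := rfl
theorem L114021 : sm gd N11905 = N15679 := rfl
theorem L114023 : sm ga N15679 = N11907 := ded_9_1 (flp_d L94600) (flp_a L94592) L114021
theorem L114025 : sm gf N11905 = N15680 := rfl
theorem L114027 : sm ga N15680 = N11908 := ded_11_1 (flp_f L94604) (flp_a L94592) L114025
theorem L114029 : sm gc N15680 = N11906 := ded_20_1 (flp_f L94594) L94590 L114025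
theorem L114031 : sm gg N15652 = N15680 := ded_29_1 (flp_f L114025) (flp_g L113895) L113893 L113901
theorem L114033 : sm gb N11906 = N15681 := rfl
theorem L114035 : sm gc N11907 = N15682 := rfl
theorem L114037 : sm ge N11907 = N15683 := rfl
theorem L114039 : sm gb N15683 = N11923 := ded_15_1 (flp_e L94680) (flp_b L94602) L114037
theorem L114041 : sm gf N11907 = N15684 := rfl
theorem L114043 : sm gd N15684 = N11908 := ded_23_1 (flp_f L94604) L94600 L114041
theorem L114045 : sm gb N11908 = N15685 := rfl
theorem L114047 : sm gf N15685 = N11925 := ded_16_2 (flp_b L94686) (flp_f L83953) (flp_b L83911) L94604 L114045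
theorem L114049 : sm gg N11908 = N15686 := rfl
theorem L114051 : sm ga N15686 = N15652 := ded_12_1 L114031 L114027 L114049
theorem L114053 : sm gc N15686 = N11910 := ded_21_1 (flp_g L94614) (flp_c L94606) L114049
theorem L114055 : sm gf N15650 = N15686 := ded_29_0 (flp_g L114049) (flp_f L94604) (flp_g L94542) (flp_a L113893)
theorem L114057 : sm ga N11909 = N15687 := rfl
theorem L114059 : sm gd N15687 = N14253 := ded_9_2 L106723 (flp_d L94610) L114057
theorem L114061 : sm gf N15687 = N11911 := ded_11_2 (flp_a L94620) (flp_f L94612) L114057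
theorem L114063 : sm gc N11909 = N15688 := rfl
theorem L114065 : sm gf N15688 = N11912 := ded_20_2 (flp_c L94624) (flp_f L94612) L114063
theorem L114067 : sm gg N11909 = N15689 := rfl
theorem L114069 : sm gd N15689 = N14256 := ded_24_1 (flp_g L106735) (flp_d L94610) L114067
theorem L114071 : sm gb N11910 = N15690 := rfl
theorem L114073 : sm gb N11911 = N15691 := rfl
theorem L114075 : sm gd N15691 = N14251 := ded_14_2 (flp_b L106715) (flp_d L94622) L114073
theorem L114077 : sm gc N11911 = N15692 := rfl
theorem L114079 : sm ga N15692 = N11912 := ded_8_1 (flp_c L94624) L94620 L114077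
theorem L114081 : sm gg N11911 = N15693 := rfl
theorem L114083 : sm ga N15693 = N11913 := ded_12_1 (flp_g L94628) L94620 L114081
theorem L114085 : sm gd N15693 = N14243 := ded_24_1 L106687 (flp_d L94622) L114081
theorem L114087 : sm gf N15693 = N15689 := ded_29_2 (flp_g L114067) L114057 L114061 L114081
theorem L114089 : sm gd N11912 = N15694 := rfl
theorem L114093 : sm gg N11912 = N15695 := rfl
theorem L114095 : sm gc N15695 = N11913 := ded_21_1 (flp_g L94628) L94624 L114093
theorem L114097 : sm gf N11913 = N15696 := rfl
theorem L114099 : sm ga N15696 = N15689 := ded_11_1 (flp_f L114087) L114083 L114097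
theorem L114101 : sm gd N15696 = N14245 := ded_23_1 (flp_f L106693) (flp_d L94630) L114097
theorem L114103 : sm gg N15696 = N15687 := ded_29_3 (flp_a L114057) L94612 L94628 L114097
theorem L114105 : sm gb N11914 = N15697 := rfl
theorem L114107 : sm ge N15697 = N11920 := ded_15_2 (flp_b L94666) (flp_e L94638) L114105
theorem L114109 : sm gd N11914 = N15698 := rfl
theorem L114111 : sm ga N15698 = N11915 := ded_9_1 (flp_d L94640) (flp_a L94636) L114109
theorem L114113 : sm ge N11915 = N15699 := rfl
theorem L114115 : sm gd N15699 = N11923 := ded_22_1 (flp_e L94680) (flp_d L83951) (flp_e L83927) L94640 L114113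
theorem L114117 : sm gf N11915 = N15700 := rfl
theorem L114119 : sm gc N15700 = N15589 := ded_20_1 L113616 L94921 L114117
theorem L114121 : sm gd N15700 = N11916 := ded_23_1 (flp_f L94642) L94640 L114117
theorem L114137 : sm gb N11919 = N15704 := rfl
theorem L114139 : sm gc N15704 = N11920 := ded_13_2 (flp_b L94666) (flp_c L83947) L83941 L94662 L114137
theorem L114141 : sm gd N11919 = N15705 := rfl
theorem L114143 : sm gg N15705 = N14266 := ded_24_2 L106793 (flp_g L94664) L114141
theorem L114145 : sm ga N11920 = N15706 := rfl
theorem L114147 : sm gd N11920 = N15707 := rfl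
theorem L114149 : sm gb N15707 = N11921 := ded_14_1 (flp_d L94668) L94666 L114147
theorem L114151 : sm gf N11920 = N15708 := rfl
theorem L114153 : sm gg N11920 = N15709 := rfl
theorem L114155 : sm ge N11921 = N15710 := rfl
theorem L114157 : sm ga N15710 = N11923 := ded_10_1 (flp_e L94680) (flp_a L94670) L114155
theorem L114159 : sm gc N15710 = N13073 := ded_19_1 (flp_e L100507) (flp_c L94672) L114155
theorem L114161 : sm gb N11922 = N15711 := rfl
theorem L114163 : sm gd N15711 = N13072 := ded_14_2 (flp_b L100505) (flp_d L94678) L114161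
theorem L114165 : sm ge N11922 = N15712 := rfl
theorem L114167 : sm ga N15712 = N13073 := ded_10_1 (flp_e L100507) (flp_a L94676) L114165
theorem L114169 : sm gc N15712 = N11923 := ded_19_1 (flp_e L94680) L94674 L114165
theorem L114171 : sm gf N11923 = N15713 := rfl
theorem L114173 : sm ge N15713 = N11924 := ded_25_1 (flp_f L94682) L94680 L114171
theorem L114175 : sm gb N11924 = N15714 := rfl
theorem L114177 : sm gd N15714 = N11925 := ded_14_2 (flp_b L94686) (flp_d L94684) L114175
theorem L114179 : sm ga N11925 = N15715 := rfl
theorem L114181 : sm gg N11925 = N15716 := rfl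
theorem L114191 : sm gb N11927 = N15719 := rfl
theorem L114193 : sm gc N15719 = N12006 := ded_13_2 (flp_b L95079) L84199 (flp_b L83965) (flp_c L94692) L114191
theorem L114195 : sm ga N11928 = N15720 := rfl
theorem L114197 : sm gd N15720 = N11937 := ded_9_2 (flp_a L94751) (flp_d L94698) L114195
theorem L114199 : sm gb N15720 = N11937 := ded_7_2 (flp_a L94751) (flp_b L83995) (flp_a L23707) (flp_b L11408) (flp_a L11398) L23697 L83967 L94696 L114195
theorem L114201 : sm gc N11928 = N15721 := rfl
theorem L114203 : sm gb N15721 = N15721 := ded_13_1 (flp_c L114201) (flp_b L94696) L83969 L94696 L114201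
theorem L114208 : sm gf N11928 = N15723 := rfl
theorem L114210 : sm gd N15723 = N11940 := ded_23_1 (flp_f L94759) (flp_d L94698) L114208
theorem L114212 : sm gg N11928 = N15724 := rfl
theorem L114214 : sm gd N15724 = N11941 := ded_24_1 (flp_g L94761) (flp_d L94698) L114212
theorem L114222 : sm gf N11929 = N15726 := rfl
theorem L114224 : sm ga N15726 = N11933 := ded_11_1 (flp_f L94725) (flp_a L94702) L114222
theorem L114236 : sm gb N11930 = N15728 := rfl
theorem L114238 : sm gd N15728 = N11945 := ded_14_2 (flp_b L94779) (flp_d L94710) L114236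
theorem L114240 : sm gb N11931 = N15729 := rfl
theorem L114242 : sm gd N15729 = N11946 := ded_14_2 (flp_b L94781) (flp_d L94717) L114240
theorem L114244 : sm gc N11932 = N15730 := rfl
theorem L114246 : sm ge N15730 = N11947 := ded_19_2 (flp_c L94783) (flp_e L94723) L114244
theorem L114248 : sm gb N15730 = N14287 := ded_13_1 (flp_c L106881) L90736 (flp_c L83993) (flp_b L94721) L114244
theorem L114250 : sm gf N11932 = N15731 := rfl
theorem L114252 : sm gd N15731 = N11933 := ded_23_1 (flp_f L94725) L94719 L114250
theorem L114254 : sm ge N15731 = N11948 := ded_25_1 (flp_f L94785) (flp_e L94723) L114250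
theorem L114256 : sm gg N11932 = N15732 := rfl
theorem L114258 : sm gd N15732 = N11934 := ded_24_1 (flp_g L94730) L94719 L114256
theorem L114260 : sm ge N15732 = N11949 := ded_26_1 (flp_g L94789) (flp_e L94723) L114256
theorem L114262 : sm gg N11933 = N15733 := rfl
theorem L114265 : sm ge N15733 = N11935 := ded_26_1 (flp_g L94735) (flp_e L94728) L114262
theorem L114269 : sm gf N11934 = N15734 := rfl
theorem L114274 : sm ge N15734 = N11936 := ded_25_1 (flp_f L94742) (flp_e L94733) L114269
theorem L114278 : sm gb N11935 = N15735 := rfl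
theorem L114280 : sm gd N15735 = N11956 := ded_14_2 (flp_b L94823) (flp_d L94738) L114278
theorem L114282 : sm gb N11936 = N15736 := rfl
theorem L114284 : sm gd N15736 = N11957 := ded_14_2 (flp_b L94825) (flp_d L94747) L114282
theorem L114286 : sm ge N11937 = N15737 := rfl
theorem L114290 : sm gf N11937 = N15738 := rfl
theorem L114292 : sm ga N15738 = N11940 := ded_11_1 (flp_f L94759) L94751 L114290
theorem L114294 : sm gg N11937 = N15739 := rfl
theorem L114296 : sm ga N15739 = N11941 := ded_12_1 (flp_g L94761) L94751 L114294
theorem L114298 : sm gd N11938 = N15740 := rfl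
theorem L114300 : sm ga N15740 = N15406 := ded_9_1 (flp_d L113284) L113372 L114298
theorem L114302 : sm gb N15740 = N15381 := ded_14_1 (flp_d L113366) (flp_b L113370) L114298
theorem L114304 : sm ge N11938 = N15741 := rfl
theorem L114308 : sm gf N11938 = N15742 := rfl
theorem L114310 : sm gc N15742 = N11940 := ded_20_1 (flp_f L94759) L94753 L114308
theorem L114312 : sm gg N11938 = N15743 := rfl
theorem L114314 : sm gc N15743 = N11941 := ded_21_1 (flp_g L94761) L94753 L114312
theorem L114316 : sm gd N11939 = N15744 := rfl
theorem L114320 : sm gf N11939 = N15745 := rfl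
theorem L114322 : sm ge N15745 = N11940 := ded_25_1 (flp_f L94759) L94755 L114320
theorem L114324 : sm gg N11939 = N15746 := rfl
theorem L114326 : sm ge N15746 = N11941 := ded_26_1 (flp_g L94761) L94755 L114324
theorem L114328 : sm gb N11940 = N15747 := rfl
theorem L114330 : sm gf N15747 = N11945 := ded_16_2 (flp_b L94779) (flp_f L84001) L83995 L94759 L114328
theorem L114332 : sm gg N11940 = N15748 := rfl
theorem L114334 : sm gf N15739 = N15748 := ded_29_0 (flp_g L114332) (flp_f L94759) L94761 (flp_a L114296)
theorem L114336 : sm gb N11941 = N15749 := rfl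
theorem L114338 : sm gg N15749 = N11946 := ded_17_2 (flp_b L94781) (flp_g L84005) L83995 L94761 L114336
theorem L114340 : sm gf N11941 = N15750 := rfl
theorem L114342 : sm ga N15750 = N15748 := ded_11_1 (flp_f L114334) L114296 L114340
theorem L114344 : sm gg N15750 = N15738 := ded_29_3 L114292 (flp_f L94759) L94761 L114340
theorem L114346 : sm gc N11942 = N15751 := rfl
theorem L114348 : sm ga N15751 = N11947 := ded_8_1 (flp_c L94783) (flp_a L94765) L114346
theorem L114350 : sm gf N11942 = N15752 := rfl
theorem L114352 : sm ga N15752 = N11948 := ded_11_1 (flp_f L94785) (flp_a L94765) L114350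
theorem L114354 : sm gd N15752 = N11943 := ded_23_1 (flp_f L94767) L94763 L114350
theorem L114362 : sm gb N11943 = N15754 := rfl
theorem L114364 : sm ge N15754 = N11945 := ded_15_2 (flp_b L94779) (flp_e L94771) L114362
theorem L114370 : sm ga N11945 = N15756 := rfl
theorem L114372 : sm gc N11945 = N15757 := rfl
theorem L114374 : sm gg N11945 = N15758 := rfl
theorem L114380 : sm gf N11946 = N15761 := rfl
theorem L114382 : sm gb N11947 = N15762 := rfl
theorem L114384 : sm ge N15762 = N14287 := ded_15_2 (flp_b L114248) L114246 L114382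
theorem L114386 : sm gc N15762 = N11958 := ded_13_2 (flp_b L94827) (flp_c L84035) (flp_b L84011) L94783 L114382
theorem L114388 : sm gd N11947 = N15763 := rfl
theorem L114390 : sm gf N11947 = N15764 := rfl
theorem L114392 : sm gc N15764 = N11948 := ded_20_1 (flp_f L94785) L94783 L114390
theorem L114398 : sm gb N11948 = N15766 := rfl
theorem L114400 : sm gd N15766 = N11950 := ded_14_2 (flp_b L94793) (flp_d L94787) L114398
theorem L114402 : sm gf N15766 = N11960 := ded_16_2 (flp_b L94845) (flp_f L84045) (flp_b L84011) L94785 L114398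
theorem L114404 : sm gg N11948 = N15767 := rfl
theorem L114406 : sm gd N15767 = N11951 := ded_24_1 (flp_g L94799) (flp_d L94787) L114404
theorem L114418 : sm ga N11950 = N15769 := rfl
theorem L114420 : sm ge N15769 = N11953 := ded_10_2 (flp_a L94813) (flp_e L94795) L114418
theorem L114422 : sm gf N15769 = N11961 := ded_11_2 (flp_a L94849) (flp_f L94797) L114418
theorem L114424 : sm gc N11950 = N15770 := rfl
theorem L114426 : sm ge N15770 = N11954 := ded_19_2 (flp_c L94817) (flp_e L94795) L114424
theorem L114428 : sm gf N15770 = N11962 := ded_20_2 (flp_c L94853) (flp_f L94797) L114424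
theorem L114430 : sm gg N11950 = N15771 := rfl
theorem L114432 : sm ge N15771 = N11955 := ded_26_1 (flp_g L94821) (flp_e L94795) L114430
theorem L114434 : sm gb N11951 = N15772 := rfl
theorem L114436 : sm ge N15772 = N11956 := ded_15_2 (flp_b L94823) (flp_e L94801) L114434
theorem L114438 : sm gb N11952 = N15773 := rfl
theorem L114440 : sm ge N15773 = N11957 := ded_15_2 (flp_b L94825) (flp_e L94809) L114438
theorem L114442 : sm gb N11953 = N15774 := rfl
theorem L114444 : sm gc N11953 = N15775 := rfl
theorem L114446 : sm ga N15775 = N11954 := ded_8_1 (flp_c L94817) L94813 L114444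
theorem L114448 : sm gf N15775 = N11966 := ded_20_2 (flp_c L94869) (flp_f L94815) L114444
theorem L114450 : sm gd N11954 = N15776 := rfl
theorem L114452 : sm gf N15776 = N11968 := ded_23_2 (flp_d L94879) (flp_f L94819) L114450
theorem L114454 : sm gg N11954 = N15777 := rfl
theorem L114456 : sm gc N15777 = N11955 := ded_21_1 (flp_g L94821) L94817 L114454
theorem L114458 : sm gb N11955 = N15778 := rfl
theorem L114460 : sm gg N15778 = N11956 := ded_17_2 (flp_b L94823) (flp_g L84025) L84021 L94821 L114458
theorem L114462 : sm ga N11956 = N15779 := rfl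
theorem L114464 : sm gc N11956 = N15780 := rfl
theorem L114466 : sm gf N11956 = N15781 := rfl
theorem L114468 : sm gb N15781 = N15761 := ded_16_1 (flp_f L114380) (flp_b L94781) L84027 L94823 L114466
theorem L114470 : sm ga N11957 = N15782 := rfl
theorem L114472 : sm gc N11957 = N15783 := rfl
theorem L114474 : sm gg N11957 = N15784 := rfl
theorem L114476 : sm gb N15784 = N15758 := ded_17_1 (flp_g L114374) (flp_b L94779) (flp_g L84033) L94825 L114474
theorem L114478 : sm ga N11958 = N15785 := rfl
theorem L114480 : sm gd N15785 = N12025 := ded_9_2 (flp_a L95175) (flp_d L94829) L114478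
theorem L114482 : sm ge N15785 = N14282 := ded_10_2 L106863 (flp_e L94831) L114478
theorem L114484 : sm gf N11958 = N15786 := rfl
theorem L114486 : sm gd N15786 = N12026 := ded_23_1 (flp_f L95179) (flp_d L94829) L114484
theorem L114488 : sm ge N15786 = N14288 := ded_25_1 (flp_f L106883) (flp_e L94831) L114484
theorem L114490 : sm gg N11958 = N15787 := rfl
theorem L114492 : sm gd N15787 = N12027 := ded_24_1 (flp_g L95183) (flp_d L94829) L114490
theorem L114494 : sm ge N15787 = N14289 := ded_26_1 (flp_g L106887) (flp_e L94831) L114490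
theorem L114498 : sm gb N11959 = N15788 := rfl
theorem L114500 : sm gd N15788 = N11964 := ded_14_2 (flp_b L94863) (flp_d L94839) L114498
theorem L114502 : sm ge N15788 = N14298 := ded_15_2 (flp_b L106929) (flp_e L94841) L114498
theorem L114504 : sm ga N11960 = N15789 := rfl
theorem L114506 : sm gd N15789 = N11961 := ded_9_2 (flp_a L94849) (flp_d L94847) L114504
theorem L114508 : sm gc N11960 = N15790 := rfl
theorem L114510 : sm gg N11960 = N15791 := rfl
theorem L114512 : sm gd N15791 = N11963 := ded_24_1 (flp_g L94859) (flp_d L94847) L114510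
theorem L114514 : sm gb N11961 = N15792 := rfl
theorem L114516 : sm ge N15792 = N11965 := ded_15_2 (flp_b L94867) (flp_e L94851) L114514
theorem L114518 : sm gc N11961 = N15793 := rfl
theorem L114520 : sm ga N15793 = N11962 := ded_8_1 (flp_c L94853) L94849 L114518
theorem L114522 : sm ge N15793 = N11966 := ded_19_2 (flp_c L94869) (flp_e L94851) L114518
theorem L114524 : sm gg N11961 = N15794 := rfl
theorem L114526 : sm ga N15794 = N11963 := ded_12_1 (flp_g L94859) L94849 L114524
theorem L114528 : sm ge N15794 = N11967 := ded_26_1 (flp_g L94873) (flp_e L94851) L114524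
theorem L114530 : sm gf N15794 = N15771 := ded_29_2 (flp_g L114430) L114418 L114422 L114524
theorem L114532 : sm gd N11962 = N15795 := rfl
theorem L114534 : sm gb N15795 = N11976 := ded_14_1 (flp_d L94919) (flp_b L94857) L114532
theorem L114536 : sm gg N11962 = N15796 := rfl
theorem L114538 : sm gc N15796 = N11963 := ded_21_1 (flp_g L94859) L94853 L114536
theorem L114540 : sm ge N15796 = N11969 := ded_26_1 (flp_g L94883) (flp_e L94855) L114536
theorem L114542 : sm gb N11963 = N15797 := rfl
theorem L114544 : sm ge N15797 = N11970 := ded_15_2 (flp_b L94887) (flp_e L94861) L114542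
theorem L114546 : sm gg N15797 = N11964 := ded_17_2 (flp_b L94863) (flp_g L84053) L84049 L94859 L114542
theorem L114548 : sm gf N11963 = N15798 := rfl
theorem L114550 : sm ga N15798 = N15771 := ded_11_1 (flp_f L114530) L114526 L114548
theorem L114552 : sm ge N15798 = N11971 := ded_25_1 (flp_f L94893) (flp_e L94861) L114548
theorem L114554 : sm gg N15798 = N15769 := ded_29_3 (flp_a L114418) L94797 L94859 L114548
theorem L114556 : sm ga N11964 = N15799 := rfl
theorem L114558 : sm ge N15799 = N11972 := ded_10_2 (flp_a L94899) (flp_e L94865) L114556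
theorem L114560 : sm gc N11964 = N15800 := rfl
theorem L114562 : sm ge N15800 = N11973 := ded_19_2 (flp_c L94903) (flp_e L94865) L114560
theorem L114566 : sm gf N11964 = N15801 := rfl
theorem L114568 : sm ge N15801 = N11974 := ded_25_1 (flp_f L94907) (flp_e L94865) L114566
theorem L114570 : sm gb N15801 = N12026 := ded_16_1 (flp_f L95179) (flp_b L84249) L84061 L94863 L114566
theorem L114572 : sm ga N11965 = N15802 := rfl
theorem L114574 : sm gc N11965 = N15803 := rfl
theorem L114576 : sm gf N11965 = N15804 := rfl
theorem L114578 : sm gg N11965 = N15805 := rfl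
theorem L114580 : sm gb N11966 = N15806 := rfl
theorem L114582 : sm gd N11966 = N15807 := rfl
theorem L114584 : sm ga N15807 = N11968 := ded_9_1 (flp_d L94879) (flp_a L94871) L114582
theorem L114586 : sm gg N11966 = N15808 := rfl
theorem L114588 : sm ga N15808 = N11969 := ded_12_1 (flp_g L94883) (flp_a L94871) L114586
theorem L114590 : sm gc N15808 = N11967 := ded_21_1 (flp_g L94873) L94869 L114586
theorem L114592 : sm gf N15808 = N15777 := ded_29_2 (flp_g L114454) (flp_a L114446) L114448 L114586
theorem L114594 : sm gb N11967 = N15809 := rfl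
theorem L114596 : sm gc N11968 = N15810 := rfl
theorem L114598 : sm ge N11968 = N15811 := rfl
theorem L114600 : sm gb N15811 = N11984 := ded_15_1 (flp_e L94963) (flp_b L94881) L114598
theorem L114602 : sm gg N11968 = N15812 := rfl
theorem L114604 : sm gd N15812 = N11969 := ded_24_1 (flp_g L94883) L94879 L114602
theorem L114606 : sm gb N11969 = N15813 := rfl
theorem L114608 : sm gg N15813 = N11986 := ded_17_2 (flp_b L94973) (flp_g L84109) (flp_b L84067) L94883 L114606
theorem L114610 : sm gf N11969 = N15814 := rfl
theorem L114612 : sm ga N15814 = N15777 := ded_11_1 (flp_f L114592) L114588 L114610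
theorem L114614 : sm gc N15814 = N11971 := ded_20_1 (flp_f L94893) (flp_c L94885) L114610
theorem L114616 : sm gg N15814 = N15775 := ded_29_3 L114446 L94819 L94883 L114610
theorem L114618 : sm ga N11970 = N15815 := rfl
theorem L114620 : sm gd N15815 = N14304 := ded_9_2 L106957 (flp_d L94889) L114618
theorem L114622 : sm gg N15815 = N11972 := ded_12_2 (flp_a L94899) (flp_g L94891) L114618
theorem L114624 : sm gc N11970 = N15816 := rfl
theorem L114626 : sm gg N15816 = N11973 := ded_21_2 (flp_c L94903) (flp_g L94891) L114624
theorem L114628 : sm gf N11970 = N15817 := rfl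
theorem L114630 : sm gd N15817 = N14307 := ded_23_1 (flp_f L106969) (flp_d L94889) L114628
theorem L114632 : sm gb N11971 = N15818 := rfl
theorem L114634 : sm gb N11972 = N15819 := rfl
theorem L114636 : sm gd N15819 = N14302 := ded_14_2 (flp_b L106949) (flp_d L94901) L114634
theorem L114638 : sm gc N11972 = N15820 := rfl
theorem L114640 : sm ga N15820 = N11973 := ded_8_1 (flp_c L94903) L94899 L114638
theorem L114642 : sm gf N11972 = N15821 := rfl
theorem L114644 : sm ga N15821 = N11974 := ded_11_1 (flp_f L94907) L94899 L114642
theorem L114646 : sm gd N15821 = N14293 := ded_23_1 L106915 (flp_d L94901) L114642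
theorem L114648 : sm gg N15817 = N15821 := ded_29_1 (flp_f L114642) (flp_g L114622) (flp_a L114618) L114628
theorem L114650 : sm gd N11973 = N15822 := rfl
theorem L114652 : sm gb N15822 = N11987 := ded_14_1 (flp_d L94975) (flp_b L94905) L114650
theorem L114654 : sm gf N11973 = N15823 := rfl
theorem L114656 : sm gc N15823 = N11974 := ded_20_1 (flp_f L94907) L94903 L114654
theorem L114658 : sm gg N11974 = N15824 := rfl
theorem L114660 : sm ga N15824 = N15817 := ded_12_1 L114648 L114644 L114658
theorem L114662 : sm gd N15824 = N14295 := ded_24_1 (flp_g L106921) (flp_d L94909) L114658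
theorem L114664 : sm gf N15815 = N15824 := ded_29_0 (flp_g L114658) (flp_f L94907) (flp_g L94891) L114618
theorem L114666 : sm gb N11975 = N15825 := rfl
theorem L114668 : sm ge N15825 = N11981 := ded_15_2 (flp_b L94947) (flp_e L94917) L114666
theorem L114670 : sm gd N11975 = N15826 := rfl
theorem L114672 : sm ga N15826 = N11976 := ded_9_1 (flp_d L94919) (flp_a L94915) L114670
theorem L114674 : sm gc N15698 = N15826 := ded_28_0 (flp_d L114670) (flp_c L94913) L84077 (flp_c L23982) (flp_d L23535) L83925 L94640 (flp_a L114111)
theorem L114676 : sm ge N11976 = N15827 := rfl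
theorem L114678 : sm gc N15827 = N15699 := ded_19_1 (flp_e L114113) (flp_c L94921) L114676
theorem L114680 : sm gd N15827 = N11984 := ded_22_1 (flp_e L94963) (flp_d L84107) (flp_e L84083) L94919 L114676
theorem L114682 : sm gg N11976 = N15828 := rfl
theorem L114684 : sm gc N15828 = N15510 := ded_21_1 L113190 (flp_c L94921) L114682
theorem L114688 : sm gb N11977 = N15829 := rfl
theorem L114690 : sm ge N15829 = N11986 := ded_15_2 (flp_b L94973) (flp_e L94927) L114688
theorem L114702 : sm gb N11980 = N15832 := rfl
theorem L114704 : sm gc N15832 = N11981 := ded_13_2 (flp_b L94947) (flp_c L84103) L84097 L94943 L114702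
theorem L114706 : sm gd N11980 = N15833 := rfl
theorem L114708 : sm gf N15833 = N14315 := ded_23_2 L107015 (flp_f L94945) L114706
theorem L114710 : sm gc N15833 = N15705 := ded_28_6 (flp_d L114141) (flp_a L106007) L106009 L90141 (flp_c L71381) (flp_d L84099) L94943 L114706
theorem L114712 : sm ga N11981 = N15834 := rfl
theorem L114714 : sm gd N11981 = N15835 := rfl
theorem L114716 : sm gb N15835 = N11982 := ded_14_1 (flp_d L94949) L94947 L114714
theorem L114718 : sm gf N11981 = N15836 := rfl
theorem L114720 : sm gg N11981 = N15837 := rfl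
theorem L114722 : sm ge N11982 = N15838 := rfl
theorem L114724 : sm ga N15838 = N11984 := ded_10_1 (flp_e L94963) (flp_a L94951) L114722
theorem L114726 : sm gc N15838 = N12988 := ded_19_1 (flp_e L100083) (flp_c L94953) L114722
theorem L114728 : sm gb N11983 = N15839 := rfl
theorem L114730 : sm gd N15839 = N12987 := ded_14_2 (flp_b L100081) (flp_d L94959) L114728
theorem L114732 : sm ge N11983 = N15840 := rfl
theorem L114734 : sm ga N15840 = N12988 := ded_10_1 (flp_e L100083) (flp_a L94957) L114732
theorem L114736 : sm gc N15840 = N11984 := ded_19_1 (flp_e L94963) L94955 L114732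
theorem L114738 : sm gg N15840 = N15713 := ded_26_2 L114173 L94961 L114732
theorem L114740 : sm gg N11984 = N15841 := rfl
theorem L114742 : sm gc N15841 = N15713 := ded_21_1 (flp_g L114738) L114736 L114740
theorem L114744 : sm ge N15841 = N11985 := ded_26_1 (flp_g L94965) L94963 L114740
theorem L114746 : sm gf N15712 = N15841 := ded_29_0 (flp_g L114740) (flp_f L113624) L113626 (flp_a L114167)
theorem L114748 : sm gb N11985 = N15842 := rfl
theorem L114750 : sm gd N15842 = N11986 := ded_14_2 (flp_b L94973) (flp_d L94969) L114748
theorem L114752 : sm ga N11986 = N15843 := rfl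
theorem L114754 : sm gf N11986 = N15844 := rfl
theorem L114758 : sm gf N11987 = N15846 := rfl
theorem L114760 : sm gd N15846 = N11988 := ded_23_1 (flp_f L94977) L94975 L114758
theorem L114764 : sm gb N11988 = N15847 := rfl
theorem L114766 : sm gc N15847 = N12024 := ded_13_2 (flp_b L95173) L84246 (flp_b L84121) (flp_c L94979) L114764
theorem L114768 : sm gc N11989 = N15848 := rfl
theorem L114783 : sm gg N11991 = N15851 := rfl
theorem L114787 : sm gf N15851 = N13088 := ded_29_2 (flp_g L100611) (flp_a L100543) L100547 L114783
theorem L114812 : sm ga N11997 = N15856 := rfl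
theorem L114814 : sm gc N15856 = N12007 := ded_8_2 (flp_a L95081) (flp_c L95035) L114812
theorem L114816 : sm ge N15856 = N12000 := ded_10_2 (flp_a L95050) (flp_e L95033) L114812
theorem L114818 : sm gd N11997 = N15857 := rfl
theorem L114820 : sm gb N15857 = N11998 := ded_14_1 (flp_d L95037) L95031 L114818
theorem L114822 : sm gf N11997 = N15858 := rfl
theorem L114824 : sm gc N15858 = N12008 := ded_20_1 (flp_f L95085) (flp_c L95035) L114822
theorem L114826 : sm ge N15858 = N12002 := ded_25_1 (flp_f L95058) (flp_e L95033) L114822
theorem L114829 : sm gg N11997 = N15859 := rfl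
theorem L114831 : sm gc N15859 = N12009 := ded_21_1 (flp_g L95091) (flp_c L95035) L114829
theorem L114833 : sm ge N15859 = N12003 := ded_26_1 (flp_g L95063) (flp_e L95033) L114829
theorem L114835 : sm ge N11998 = N15860 := rfl
theorem L114837 : sm ga N15860 = N15860 := ded_10_1 (flp_e L114835) L95039 L114835
theorem L114838 : sm gc N15860 = N15860 := ded_19_1 (flp_e L114835) L95041 L114835
theorem L114839 : sm gf N15860 = N15860 := ded_25_2 (flp_e L114835) L95040 L114835
theorem L114840 : sm gd N15860 = N12004 := ded_22_1 (flp_e L95067) (flp_d L84191) (flp_e L84176) L95037 L114835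
theorem L114842 : sm gg N11998 = N15861 := rfl
theorem L114846 : sm gd N15861 = N11999 := ded_24_1 (flp_g L95042) L95037 L114842
theorem L114849 : sm gb N11999 = N15862 := rfl
theorem L114851 : sm ge N15862 = N12006 := ded_15_2 (flp_b L95079) (flp_e L95047) L114849
theorem L114853 : sm gb N12000 = N15863 := rfl
theorem L114855 : sm gd N12000 = N15864 := rfl
theorem L114857 : sm ga N15864 = N12001 := ded_9_1 (flp_d L95054) L95050 L114855
theorem L114859 : sm gf N12000 = N15865 := rfl
theorem L114861 : sm ga N15865 = N12002 := ded_11_1 (flp_f L95058) L95050 L114859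
theorem L114863 : sm gc N15865 = N12011 := ded_20_1 (flp_f L95099) (flp_c L95052) L114859
theorem L114865 : sm gg N12000 = N15866 := rfl
theorem L114867 : sm ga N15866 = N12003 := ded_12_1 (flp_g L95063) L95050 L114865
theorem L114869 : sm gc N15866 = N12012 := ded_21_1 (flp_g L95105) (flp_c L95052) L114865
theorem L114871 : sm gc N12001 = N15867 := rfl
theorem L114873 : sm gb N15867 = N15867 := ded_13_1 (flp_c L114871) L95056 L84195 (flp_b L95056) L114871
theorem L114874 : sm ge N12001 = N15868 := rfl
theorem L114876 : sm gb N15868 = N12004 := ded_15_1 (flp_e L95067) (flp_b L95056) L114874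
theorem L114878 : sm gf N12001 = N15869 := rfl
theorem L114880 : sm gd N15869 = N12002 := ded_23_1 (flp_f L95058) L95054 L114878
theorem L114882 : sm gb N15869 = N15869 := ded_16_1 (flp_f L114878) L95056 L84194 (flp_b L95056) L114878
theorem L114883 : sm gg N12001 = N15870 := rfl
theorem L114885 : sm gd N15870 = N12003 := ded_24_1 (flp_g L95063) L95054 L114883
theorem L114887 : sm gg N12002 = N15871 := rfl
theorem L114889 : sm gc N15871 = N12013 := ded_21_1 (flp_g L95111) (flp_c L95060) L114887
theorem L114891 : sm gf N15866 = N15871 := ded_29_0 (flp_g L114887) (flp_f L95058) L95063 (flp_a L114867)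
theorem L114893 : sm gb N12003 = N15872 := rfl
theorem L114895 : sm gg N15872 = N12006 := ded_17_2 (flp_b L95079) (flp_g L84196) L84187 L95063 L114893
theorem L114897 : sm gf N12003 = N15873 := rfl
theorem L114899 : sm ga N15873 = N15871 := ded_11_1 (flp_f L114891) L114867 L114897
theorem L114901 : sm gc N15873 = N12014 := ded_20_1 (flp_f L95117) (flp_c L95065) L114897
theorem L114903 : sm gg N15873 = N15865 := ded_29_3 L114861 (flp_f L95058) L95063 L114897
theorem L114905 : sm gg N12004 = N15874 := rfl
theorem L114907 : sm ga N15874 = N15874 := ded_12_1 (flp_g L114905) L95069 L114905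
theorem L114908 : sm gc N15874 = N15874 := ded_21_1 (flp_g L114905) L95070 L114905
theorem L114909 : sm ge N15874 = N12005 := ded_26_1 (flp_g L95072) L95067 L114905
theorem L114911 : sm gf N15874 = N15874 := ded_29_0 (flp_g L114905) L95071 L114905 L114907
theorem L114912 : sm gb N12005 = N15875 := rfl
theorem L114914 : sm gd N15875 = N12006 := ded_14_2 (flp_b L95079) (flp_d L95076) L114912
theorem L114916 : sm ga N12006 = N15876 := rfl
theorem L114918 : sm gf N12006 = N15877 := rfl
theorem L114921 : sm gb N12007 = N15878 := rfl
theorem L114923 : sm ge N15878 = N12010 := ded_15_2 (flp_b L95095) (flp_e L95083) L114921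
theorem L114925 : sm gf N12007 = N15879 := rfl
theorem L114927 : sm ga N15879 = N12008 := ded_11_1 (flp_f L95085) L95081 L114925
theorem L114929 : sm ge N15879 = N12011 := ded_25_1 (flp_f L95099) (flp_e L95083) L114925
theorem L114931 : sm gg N12007 = N15880 := rfl
theorem L114933 : sm ga N15880 = N12009 := ded_12_1 (flp_g L95091) L95081 L114931
theorem L114935 : sm ge N15880 = N12012 := ded_26_1 (flp_g L95105) (flp_e L95083) L114931
theorem L114937 : sm gg N12008 = N15881 := rfl
theorem L114939 : sm ge N15881 = N12013 := ded_26_1 (flp_g L95111) (flp_e L95087) L114937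
theorem L114941 : sm gf N15880 = N15881 := ded_29_0 (flp_g L114937) (flp_f L95085) L95091 (flp_a L114933)
theorem L114943 : sm gf N12009 = N15882 := rfl
theorem L114945 : sm ga N15882 = N15881 := ded_11_1 (flp_f L114941) L114933 L114943
theorem L114947 : sm ge N15882 = N12014 := ded_25_1 (flp_f L95117) (flp_e L95093) L114943
theorem L114949 : sm gg N15882 = N15879 := ded_29_3 L114927 (flp_f L95085) L95091 L114943
theorem L114951 : sm ga N12010 = N15883 := rfl
theorem L114953 : sm gd N15883 = N14226 := ded_9_2 (flp_a L106617) (flp_d L95097) L114951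
theorem L114955 : sm gb N15883 = N14226 := ded_7_2 (flp_a L106617) (flp_b L90600) (flp_a L41266) (flp_b L19591) (flp_a L11772) L24458 L84206 L95095 L114951
theorem L114957 : sm gc N12010 = N15884 := rfl
theorem L114959 : sm gf N12010 = N15885 := rfl
theorem L114961 : sm gd N15885 = N14229 := ded_23_1 (flp_f L106625) (flp_d L95097) L114959
theorem L114963 : sm gg N12010 = N15886 := rfl
theorem L114965 : sm gd N15886 = N14230 := ded_24_1 (flp_g L106627) (flp_d L95097) L114963
theorem L114967 : sm gb N12011 = N15887 := rfl
theorem L114969 : sm gd N15887 = N14234 := ded_14_2 (flp_b L106645) (flp_d L95103) L114967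
theorem L114971 : sm gb N12012 = N15888 := rfl
theorem L114973 : sm gd N15888 = N14235 := ded_14_2 (flp_b L106647) (flp_d L95109) L114971
theorem L114975 : sm gb N12013 = N15889 := rfl
theorem L114977 : sm gd N15889 = N14242 := ded_14_2 (flp_b L106681) (flp_d L95113) L114975
theorem L114979 : sm gg N15889 = N15607 := ded_17_2 (flp_b L113711) (flp_g L94456) (flp_b L84214) L95111 L114975
theorem L114981 : sm gb N12014 = N15890 := rfl
theorem L114983 : sm gd N15890 = N14246 := ded_14_2 (flp_b L106695) (flp_d L95121) L114981
theorem L114985 : sm ga N12015 = N15891 := rfl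
theorem L114987 : sm gc N15891 = N12025 := ded_8_2 (flp_a L95175) (flp_c L95129) L114985
theorem L114989 : sm ge N15891 = N12018 := ded_10_2 (flp_a L95144) (flp_e L95127) L114985
theorem L114991 : sm gd N12015 = N15892 := rfl
theorem L114993 : sm gb N15892 = N12016 := ded_14_1 (flp_d L95131) L95125 L114991
theorem L114995 : sm gf N12015 = N15893 := rfl
theorem L114997 : sm gc N15893 = N12026 := ded_20_1 (flp_f L95179) (flp_c L95129) L114995
theorem L114999 : sm ge N15893 = N12020 := ded_25_1 (flp_f L95152) (flp_e L95127) L114995
theorem L115001 : sm gg N12015 = N15894 := rfl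
theorem L115003 : sm gc N15894 = N12027 := ded_21_1 (flp_g L95183) (flp_c L95129) L115001
theorem L115005 : sm ge N15894 = N12021 := ded_26_1 (flp_g L95156) (flp_e L95127) L115001
theorem L115008 : sm ge N12016 = N15895 := rfl
theorem L115010 : sm ga N15895 = N15895 := ded_10_1 (flp_e L115008) L95133 L115008
theorem L115011 : sm gc N15895 = N15895 := ded_19_1 (flp_e L115008) L95135 L115008
theorem L115012 : sm gg N15895 = N15895 := ded_26_2 (flp_e L115008) L95134 L115008
theorem L115013 : sm gd N15895 = N12022 := ded_22_1 (flp_e L95161) (flp_d L84238) (flp_e L84223) L95131 L115008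
theorem L115015 : sm gf N12016 = N15896 := rfl
theorem L115019 : sm gd N15896 = N12017 := ded_23_1 (flp_f L95136) L95131 L115015
theorem L115022 : sm gb N12017 = N15897 := rfl
theorem L115024 : sm ge N15897 = N12024 := ded_15_2 (flp_b L95173) (flp_e L95141) L115022
theorem L115026 : sm gb N12018 = N15898 := rfl
theorem L115028 : sm gd N12018 = N15899 := rfl
theorem L115030 : sm ga N15899 = N12019 := ded_9_1 (flp_d L95148) L95144 L115028
theorem L115032 : sm gf N12018 = N15900 := rfl
theorem L115034 : sm ga N15900 = N12020 := ded_11_1 (flp_f L95152) L95144 L115032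
theorem L115036 : sm gc N15900 = N12029 := ded_20_1 (flp_f L95193) (flp_c L95146) L115032
theorem L115038 : sm gg N12018 = N15901 := rfl
theorem L115040 : sm ga N15901 = N12021 := ded_12_1 (flp_g L95156) L95144 L115038
theorem L115042 : sm gc N15901 = N12030 := ded_21_1 (flp_g L95199) (flp_c L95146) L115038
theorem L115044 : sm gc N12019 = N15902 := rfl
theorem L115046 : sm gb N15902 = N15902 := ded_13_1 (flp_c L115044) L95150 L84242 (flp_b L95150) L115044
theorem L115047 : sm ge N12019 = N15903 := rfl
theorem L115049 : sm gb N15903 = N12022 := ded_15_1 (flp_e L95161) (flp_b L95150) L115047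
theorem L115051 : sm gf N12019 = N15904 := rfl
theorem L115053 : sm gd N15904 = N12020 := ded_23_1 (flp_f L95152) L95148 L115051
theorem L115055 : sm gg N12019 = N15905 := rfl
theorem L115057 : sm gd N15905 = N12021 := ded_24_1 (flp_g L95156) L95148 L115055
theorem L115059 : sm gb N15905 = N15905 := ded_17_1 (flp_g L115055) L95150 L84241 (flp_b L95150) L115055
theorem L115060 : sm gb N12020 = N15906 := rfl
theorem L115062 : sm gf N15906 = N12024 := ded_16_2 (flp_b L95173) (flp_f L84243) L84234 L95152 L115060
theorem L115064 : sm gg N12020 = N15907 := rfl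
theorem L115066 : sm gc N15907 = N12031 := ded_21_1 (flp_g L95205) (flp_c L95154) L115064
theorem L115068 : sm gf N15901 = N15907 := ded_29_0 (flp_g L115064) (flp_f L95152) L95156 (flp_a L115040)
theorem L115070 : sm gf N12021 = N15908 := rfl
theorem L115072 : sm ga N15908 = N15907 := ded_11_1 (flp_f L115068) L115040 L115070
theorem L115074 : sm gc N15908 = N12032 := ded_20_1 (flp_f L95211) (flp_c L95158) L115070
theorem L115076 : sm gg N15908 = N15900 := ded_29_3 L115034 (flp_f L95152) L95156 L115070
theorem L115078 : sm gf N12022 = N15909 := rfl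
theorem L115080 : sm ga N15909 = N15909 := ded_11_1 (flp_f L115078) L95163 L115078
theorem L115081 : sm gc N15909 = N15909 := ded_20_1 (flp_f L115078) L95164 L115078
theorem L115082 : sm ge N15909 = N12023 := ded_25_1 (flp_f L95166) L95161 L115078
theorem L115084 : sm gg N15909 = N15909 := ded_29_3 L115080 (flp_f L115078) L95165 L115078
theorem L115085 : sm gb N12023 = N15910 := rfl
theorem L115087 : sm gd N15910 = N12024 := ded_14_2 (flp_b L95173) (flp_d L95170) L115085
theorem L115094 : sm gb N12025 = N15913 := rfl
theorem L115096 : sm ge N15913 = N12028 := ded_15_2 (flp_b L95189) (flp_e L95177) L115094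
theorem L115098 : sm gf N12025 = N15914 := rfl
theorem L115100 : sm ga N15914 = N12026 := ded_11_1 (flp_f L95179) L95175 L115098
theorem L115102 : sm ge N15914 = N12029 := ded_25_1 (flp_f L95193) (flp_e L95177) L115098
theorem L115104 : sm gg N12025 = N15915 := rfl
theorem L115106 : sm ga N15915 = N12027 := ded_12_1 (flp_g L95183) L95175 L115104
theorem L115108 : sm ge N15915 = N12030 := ded_26_1 (flp_g L95199) (flp_e L95177) L115104
theorem L115110 : sm gg N12026 = N15916 := rfl
theorem L115112 : sm ge N15916 = N12031 := ded_26_1 (flp_g L95205) (flp_e L95181) L115110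
theorem L115114 : sm gf N15915 = N15916 := ded_29_0 (flp_g L115110) (flp_f L95179) L95183 (flp_a L115106)
theorem L115116 : sm gf N12027 = N15917 := rfl
theorem L115118 : sm ga N15917 = N15916 := ded_11_1 (flp_f L115114) L115106 L115116
theorem L115120 : sm ge N15917 = N12032 := ded_25_1 (flp_f L95211) (flp_e L95185) L115116
theorem L115122 : sm gg N15917 = N15914 := ded_29_3 L115100 (flp_f L95179) L95183 L115116
theorem L115124 : sm ga N12028 = N15918 := rfl
theorem L115126 : sm gd N15918 = N14277 := ded_9_2 (flp_a L106849) (flp_d L95191) L115124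
theorem L115128 : sm gb N15918 = N14277 := ded_7_2 (flp_a L106849) (flp_b L90720) (flp_a L41402) (flp_b L19678) L65499 L24720 L84253 L95189 L115124
theorem L115130 : sm gc N12028 = N15919 := rfl
theorem L115132 : sm gf N12028 = N15920 := rfl
theorem L115134 : sm gd N15920 = N14280 := ded_23_1 (flp_f L106857) (flp_d L95191) L115132
theorem L115136 : sm gg N12028 = N15921 := rfl
theorem L115138 : sm gd N15921 = N14281 := ded_24_1 (flp_g L106859) (flp_d L95191) L115136
theorem L115140 : sm gb N12029 = N15922 := rfl
theorem L115142 : sm gd N15922 = N14285 := ded_14_2 (flp_b L106877) (flp_d L95197) L115140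
theorem L115144 : sm gb N12030 = N15923 := rfl
theorem L115146 : sm gd N15923 = N14286 := ded_14_2 (flp_b L106879) (flp_d L95203) L115144
theorem L115148 : sm gb N12031 = N15924 := rfl
theorem L115150 : sm gd N15924 = N14296 := ded_14_2 (flp_b L106923) (flp_d L95207) L115148
theorem L115152 : sm gb N12032 = N15925 := rfl
theorem L115154 : sm gd N15925 = N14297 := ded_14_2 (flp_b L106925) (flp_d L95215) L115152
theorem L115156 : sm gf N15925 = N15736 := ded_16_2 (flp_b L114282) (flp_f L94742) (flp_b L84265) L95211 L115152
theorem L115158 : sm gf N12033 = N15926 := rfl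
theorem L115160 : sm ga N15926 = N12039 := ded_11_1 (flp_f L95262) (flp_a L95221) L115158
theorem L115162 : sm gc N15926 = N13408 := ded_20_1 (flp_f L102513) L95225 L115158
theorem L115164 : sm gd N15926 = N12034 := ded_23_1 (flp_f L95229) L95219 L115158
theorem L115166 : sm ge N15926 = N13288 := ded_25_1 (flp_f L101789) L95227 L115158
theorem L115168 : sm gg N12033 = N15927 := rfl
theorem L115170 : sm ga N15927 = N12040 := ded_12_1 (flp_g L95268) (flp_a L95221) L115168
theorem L115172 : sm gc N15927 = N13409 := ded_21_1 (flp_g L102519) L95225 L115168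
theorem L115174 : sm gd N15927 = N12035 := ded_24_1 (flp_g L95237) L95219 L115168
theorem L115176 : sm ge N15927 = N13289 := ded_26_1 (flp_g L101791) L95227 L115168
theorem L115178 : sm gb N12034 = N15928 := rfl
theorem L115180 : sm ge N15928 = N12348 := ded_15_2 (flp_b L96932) (flp_e L95235) L115178
theorem L115182 : sm gb N12035 = N15929 := rfl
theorem L115184 : sm ge N15929 = N12349 := ded_15_2 (flp_b L96934) (flp_e L95243) L115182
theorem L115186 : sm ga N12036 = N15930 := rfl
theorem L115188 : sm ge N15930 = N12350 := ded_10_2 (flp_a L96936) (flp_e L95247) L115186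
theorem L115190 : sm gb N15034 = N15930 := ded_15_3 L115188 L97035 (flp_e L110741)
theorem L115192 : sm gc N12036 = N15931 := rfl
theorem L115194 : sm ge N15931 = N12351 := ded_19_2 (flp_c L96938) (flp_e L95247) L115192
theorem L115196 : sm gg N12036 = N15932 := rfl
theorem L115198 : sm ge N15932 = N12352 := ded_26_1 (flp_g L96940) (flp_e L95247) L115196
theorem L115200 : sm ga N12037 = N15933 := rfl
theorem L115202 : sm ge N15933 = N12353 := ded_10_2 (flp_a L96942) (flp_e L95251) L115200
theorem L115204 : sm gb N15062 = N15933 := ded_15_3 L115202 L97911 (flp_e L110915)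
theorem L115206 : sm gc N12037 = N15934 := rfl
theorem L115208 : sm ge N15934 = N12354 := ded_19_2 (flp_c L96944) (flp_e L95251) L115206
theorem L115210 : sm gf N12037 = N15935 := rfl
theorem L115212 : sm ge N15935 = N12355 := ded_25_1 (flp_f L96946) (flp_e L95251) L115210
theorem L115214 : sm gf N12038 = N15936 := rfl
theorem L115216 : sm ga N15936 = N13288 := ded_11_1 (flp_f L101789) (flp_a L95255) L115214
theorem L115220 : sm gd N15936 = N12361 := ded_23_1 (flp_f L96971) (flp_d L95260) L115214
theorem L115222 : sm ge N15936 = N12039 := ded_25_1 (flp_f L95262) L95253 L115214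
theorem L115224 : sm gg N12038 = N15937 := rfl
theorem L115226 : sm ga N15937 = N13289 := ded_12_1 (flp_g L101791) (flp_a L95255) L115224
theorem L115228 : sm gc N15937 = N13381 := ded_21_1 (flp_g L102399) (flp_c L95258) L115224
theorem L115230 : sm gd N15937 = N12362 := ded_24_1 (flp_g L96975) (flp_d L95260) L115224
theorem L115232 : sm ge N15937 = N12040 := ded_26_1 (flp_g L95268) L95253 L115224
theorem L115234 : sm gb N12039 = N15938 := rfl
theorem L115236 : sm gd N15938 = N12041 := ded_14_2 (flp_b L95274) (flp_d L95266) L115234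
theorem L115238 : sm gf N15938 = N15938 := ded_16_2 (flp_b L115234) (flp_f L95262) L84291 L95262 L115234
theorem L115239 : sm ga N15938 = N15938 := ded_9_3 L115236 L97051 (flp_d L115236)
theorem L115240 : sm gg N12039 = N15939 := rfl
theorem L115242 : sm gc N15939 = N13413 := ded_21_1 (flp_g L102539) (flp_c L95264) L115240
theorem L115244 : sm gd N15939 = N12042 := ded_24_1 (flp_g L95279) (flp_d L95266) L115240
theorem L115246 : sm gf N15927 = N15939 := ded_29_0 (flp_g L115240) (flp_f L95262) L95268 (flp_a L115170)
theorem L115248 : sm gb N12040 = N15940 := rfl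
theorem L115250 : sm gd N15940 = N12043 := ded_14_2 (flp_b L95287) (flp_d L95272) L115248
theorem L115252 : sm gg N15940 = N15940 := ded_17_2 (flp_b L115248) (flp_g L95268) L84291 L95268 L115248
theorem L115253 : sm gf N12040 = N15941 := rfl
theorem L115255 : sm ga N15941 = N15939 := ded_11_1 (flp_f L115246) L115170 L115253
theorem L115257 : sm gc N15941 = N13415 := ded_20_1 (flp_f L102551) (flp_c L95270) L115253
theorem L115259 : sm gd N15941 = N12044 := ded_23_1 (flp_f L95292) (flp_d L95272) L115253
theorem L115261 : sm gg N15941 = N15926 := ded_29_3 L115160 (flp_f L95262) L95268 L115253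
theorem L115263 : sm gc N12041 = N15942 := rfl
theorem L115265 : sm ga N15942 = N15942 := ded_8_1 (flp_c L115263) L97051 L115263
theorem L115266 : sm ge N15942 = N12368 := ded_19_2 (flp_c L97006) (flp_e L95276) L115263
theorem L115268 : sm gf N15942 = N15942 := ded_20_2 (flp_c L115263) L95278 L115263
theorem L115269 : sm gb N15942 = N12050 := ded_13_1 (flp_c L95338) (flp_b L84314) (flp_c L84294) L95274 L115263
theorem L115271 : sm gg N12041 = N15943 := rfl
theorem L115273 : sm ga N15943 = N15943 := ded_12_1 (flp_g L115271) L97051 L115271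
theorem L115274 : sm ge N15943 = N12369 := ded_26_1 (flp_g L97011) (flp_e L95276) L115271
theorem L115276 : sm gf N15943 = N15943 := ded_29_0 (flp_g L115271) L95278 L115271 L115273
theorem L115277 : sm gb N12042 = N15944 := rfl
theorem L115279 : sm ge N15944 = N12370 := ded_15_2 (flp_b L97013) (flp_e L95283) L115277
theorem L115281 : sm ga N12043 = N15945 := rfl
theorem L115283 : sm ge N15945 = N12371 := ded_10_2 (flp_a L97015) (flp_e L95289) L115281
theorem L115286 : sm gc N12043 = N15946 := rfl
theorem L115288 : sm ge N15946 = N12372 := ded_19_2 (flp_c L97018) (flp_e L95289) L115286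
theorem L115290 : sm gg N15946 = N15946 := ded_21_2 (flp_c L115286) L95291 L115286
theorem L115291 : sm gb N15946 = N12054 := ded_13_1 (flp_c L95358) (flp_b L84326) (flp_c L84300) L95287 L115286
theorem L115293 : sm gf N12043 = N15947 := rfl
theorem L115295 : sm ge N15947 = N12373 := ded_25_1 (flp_f L97023) (flp_e L95289) L115293
theorem L115297 : sm gb N12044 = N15948 := rfl
theorem L115299 : sm ge N15948 = N12374 := ded_15_2 (flp_b L97025) (flp_e L95298) L115297
theorem L115301 : sm ga N12045 = N15949 := rfl
theorem L115303 : sm gd N15949 = N12049 := ded_9_2 (flp_a L95332) (flp_d L95304) L115301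
theorem L115305 : sm ge N15949 = N14941 := ded_10_2 L110204 L110065 L115301
theorem L115307 : sm gf N15949 = N12065 := ded_11_2 (flp_a L95406) (flp_f L95306) L115301
theorem L115309 : sm gc N12045 = N15950 := rfl
theorem L115311 : sm gf N15950 = N12066 := ded_20_2 (flp_c L95410) (flp_f L95306) L115309
theorem L115313 : sm gg N12045 = N15951 := rfl
theorem L115315 : sm gd N15951 = N12051 := ded_24_1 (flp_g L95344) (flp_d L95304) L115313
theorem L115317 : sm gb N12046 = N15952 := rfl
theorem L115319 : sm gd N15952 = N12052 := ded_14_2 (flp_b L95348) (flp_d L95312) L115317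
theorem L115321 : sm ga N12047 = N15953 := rfl
theorem L115323 : sm gd N15953 = N12053 := ded_9_2 (flp_a L95352) (flp_d L95318) L115321
theorem L115325 : sm gg N15953 = N12068 := ded_12_2 (flp_a L95416) (flp_g L95320) L115321
theorem L115327 : sm gc N12047 = N15954 := rfl
theorem L115329 : sm gg N15954 = N12069 := ded_21_2 (flp_c L95420) (flp_g L95320) L115327
theorem L115331 : sm gf N12047 = N15955 := rfl
theorem L115333 : sm gd N15955 = N12055 := ded_23_1 (flp_f L95364) (flp_d L95318) L115331
theorem L115335 : sm gb N12048 = N15956 := rfl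
theorem L115337 : sm gd N15956 = N12056 := ded_14_2 (flp_b L95368) (flp_d L95328) L115335
theorem L115339 : sm gb N12049 = N15957 := rfl
theorem L115341 : sm ge N15957 = N12375 := ded_15_2 (flp_b L97027) (flp_e L95334) L115339
theorem L115343 : sm ga N15957 = N14974 := ded_7_1 L110411 (flp_a L110737) L115190 (flp_a L115186) (flp_b L95245) L84279 L84314 L95332 L115339
theorem L115345 : sm gf N14972 = N15957 := ded_25_0 L115341 (flp_f L97033) (flp_e L110401)
theorem L115347 : sm gc N12049 = N15958 := rfl
theorem L115349 : sm ga N15958 = N12050 := ded_8_1 (flp_c L95338) L95332 L115347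
theorem L115351 : sm ge N15958 = N12376 := ded_19_2 (flp_c L97037) (flp_e L95334) L115347
theorem L115353 : sm gf N15958 = N12072 := ded_20_2 (flp_c L95430) (flp_f L95336) L115347
theorem L115355 : sm gb N15958 = N12300 := ded_30_2 L96617 (flp_f L84931) L80349 (flp_b L45621) (flp_a L69687) L20795 (flp_c L10513) (flp_b L5290) L2737 (flp_f L1599) L1595 L3098 L5939 L11976 L11980 L24897 L84381 (flp_f L95336) L115347
theorem L115357 : sm gd N12050 = N15959 := rfl
theorem L115359 : sm gf N15959 = N12074 := ded_23_2 (flp_d L95444) (flp_f L95342) L115357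
theorem L115361 : sm gg N12050 = N15960 := rfl
theorem L115363 : sm gc N15960 = N12051 := ded_21_1 (flp_g L95344) L95338 L115361
theorem L115365 : sm ge N15960 = N12378 := ded_26_1 (flp_g L97060) (flp_e L95340) L115361
theorem L115367 : sm gb N12051 = N15961 := rfl
theorem L115369 : sm ge N15961 = N12379 := ded_15_2 (flp_b L97064) (flp_e L95346) L115367
theorem L115371 : sm gg N15961 = N12052 := ded_17_2 (flp_b L95348) (flp_g L84320) L84314 L95344 L115367
theorem L115373 : sm ga N12052 = N15962 := rfl
theorem L115375 : sm ge N15962 = N12380 := ded_10_2 (flp_a L97068) (flp_e L95350) L115373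
theorem L115377 : sm gf N12290 = N15962 := ded_25_0 L115375 L98483 (flp_e L96566)
theorem L115379 : sm gc N12052 = N15963 := rfl
theorem L115381 : sm ge N15963 = N12381 := ded_19_2 (flp_c L97070) (flp_e L95350) L115379
theorem L115383 : sm gf N12052 = N15964 := rfl
theorem L115385 : sm ga N15964 = N12290 := ded_11_1 L115377 (flp_a L115373) L115383
theorem L115387 : sm ge N15964 = N12382 := ded_25_1 (flp_f L97072) (flp_e L95350) L115383
theorem L115389 : sm gb N15964 = N15935 := ded_16_1 (flp_f L115210) (flp_b L95249) L84324 L95348 L115383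
theorem L115391 : sm gb N12053 = N15965 := rfl
theorem L115393 : sm ge N15965 = N12383 := ded_15_2 (flp_b L97076) (flp_e L95354) L115391
theorem L115395 : sm ga N15965 = N14994 := ded_7_1 L110515 (flp_a L110911) L115204 (flp_a L115200) (flp_b L95249) L84285 L84326 L95352 L115391
theorem L115397 : sm gg N14991 = N15965 := ded_26_0 L115393 (flp_g L97903) (flp_e L110501)
theorem L115399 : sm gc N12053 = N15966 := rfl
theorem L115401 : sm ga N15966 = N12054 := ded_8_1 (flp_c L95358) L95352 L115399
theorem L115403 : sm ge N15966 = N12384 := ded_19_2 (flp_c L97078) (flp_e L95354) L115399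
theorem L115405 : sm gg N15966 = N12078 := ded_21_2 (flp_c L95465) (flp_g L95356) L115399
theorem L115407 : sm gd N12054 = N15967 := rfl
theorem L115409 : sm gg N15967 = N12080 := ded_24_2 (flp_d L95479) (flp_g L95362) L115407
theorem L115411 : sm gf N12054 = N15968 := rfl
theorem L115413 : sm gc N15968 = N12055 := ded_20_1 (flp_f L95364) L95358 L115411
theorem L115415 : sm ge N15968 = N12386 := ded_25_1 (flp_f L97088) (flp_e L95360) L115411
theorem L115417 : sm gb N12055 = N15969 := rfl
theorem L115419 : sm ge N15969 = N12387 := ded_15_2 (flp_b L97092) (flp_e L95366) L115417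
theorem L115421 : sm gf N15969 = N12056 := ded_16_2 (flp_b L95368) (flp_f L84332) L84326 L95364 L115417
theorem L115423 : sm ga N12056 = N15970 := rfl
theorem L115425 : sm ge N15970 = N12388 := ded_10_2 (flp_a L97096) (flp_e L95370) L115423
theorem L115427 : sm gg N12238 = N15970 := ded_26_0 L115425 (flp_g L97965) (flp_e L96279)
theorem L115429 : sm gc N12056 = N15971 := rfl
theorem L115431 : sm ge N15971 = N12389 := ded_19_2 (flp_c L97098) (flp_e L95370) L115429
theorem L115433 : sm gg N12056 = N15972 := rfl
theorem L115435 : sm ga N15972 = N12238 := ded_12_1 L115427 (flp_a L115423) L115433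
theorem L115437 : sm ge N15972 = N12390 := ded_26_1 (flp_g L97100) (flp_e L95370) L115433
theorem L115439 : sm gb N15972 = N15932 := ded_17_1 (flp_g L115196) (flp_b L95245) (flp_g L84338) L95368 L115433
theorem L115441 : sm gb N12057 = N15973 := rfl
theorem L115443 : sm ga N15973 = N15973 := ded_7_1 (flp_b L115441) (flp_a L95372) (flp_b L84340) L24883 L11992 (flp_a L24883) L84340 L95372 L115441
theorem L115444 : sm gd N12057 = N15974 := rfl
theorem L115446 : sm ga N15974 = N12058 := ded_9_1 (flp_d L95374) L95372 L115444
theorem L115448 : sm ge N15974 = N15974 := ded_22_2 (flp_d L115444) (flp_e L110130) L110129 L110130 L115444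
theorem L115449 : sm gc N15974 = N15974 := ded_28_0 (flp_d L115444) L103732 (flp_d L103728) (flp_c L89014) L89016 (flp_c L89020) L95374 (flp_a L115446)
theorem L115450 : sm gf N12057 = N15975 := rfl
theorem L115452 : sm ga N15975 = N12059 := ded_11_1 (flp_f L95380) L95372 L115450
theorem L115454 : sm gg N12057 = N15976 := rfl
theorem L115456 : sm ga N15976 = N12060 := ded_12_1 (flp_g L95382) L95372 L115454
theorem L115458 : sm gf N12058 = N15977 := rfl
theorem L115460 : sm gc N15977 = N15977 := ded_20_1 (flp_f L115458) L95379 L115458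
theorem L115461 : sm gd N15977 = N12059 := ded_23_1 (flp_f L95380) L95374 L115458
theorem L115463 : sm ge N15977 = N15977 := ded_25_1 (flp_f L115458) L95378 L115458
theorem L115464 : sm gg N12058 = N15978 := rfl
theorem L115466 : sm gc N15978 = N15978 := ded_21_1 (flp_g L115464) L95379 L115464
theorem L115467 : sm gd N15978 = N12060 := ded_24_1 (flp_g L95382) L95374 L115464
theorem L115469 : sm ge N15978 = N15978 := ded_26_1 (flp_g L115464) L95378 L115464
theorem L115470 : sm gb N12059 = N15979 := rfl
theorem L115472 : sm gf N15979 = N12063 := ded_16_2 (flp_b L95402) (flp_f L84361) L84340 L95380 L115470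
theorem L115474 : sm gg N12059 = N15980 := rfl
theorem L115476 : sm gf N15976 = N15980 := ded_29_0 (flp_g L115474) (flp_f L95380) L95382 (flp_a L115456)
theorem L115478 : sm gb N12060 = N15981 := rfl
theorem L115480 : sm gg N15981 = N12064 := ded_17_2 (flp_b L95404) (flp_g L84367) L84340 L95382 L115478
theorem L115482 : sm gf N12060 = N15982 := rfl
theorem L115484 : sm ga N15982 = N15980 := ded_11_1 (flp_f L115476) L115456 L115482
theorem L115486 : sm gg N15982 = N15975 := ded_29_3 L115452 (flp_f L95380) L95382 L115482
theorem L115488 : sm gb N12061 = N15983 := rfl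
theorem L115490 : sm gd N15983 = N12063 := ded_14_2 (flp_b L95402) (flp_d L95390) L115488
theorem L115492 : sm ge N15983 = N15983 := ded_15_2 (flp_b L115488) L95392 L115488
theorem L115493 : sm gb N12062 = N15984 := rfl
theorem L115495 : sm gd N15984 = N12064 := ded_14_2 (flp_b L95404) (flp_d L95399) L115493
theorem L115497 : sm ge N15984 = N15984 := ded_15_2 (flp_b L115493) L95401 L115493
theorem L115498 : sm ga N12063 = N15985 := rfl
theorem L115500 : sm gb N15985 = N15985 := ded_7_2 (flp_a L115498) (flp_b L95402) L84363 L84417 L103841 (flp_b L84417) (flp_a L84363) L95402 L115498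
theorem L115501 : sm gc N12063 = N15986 := rfl
theorem L115503 : sm gb N15986 = N12066 := ded_13_1 (flp_c L95410) (flp_b L84373) (flp_c L84365) L95402 L115501
theorem L115505 : sm gg N12063 = N15987 := rfl
theorem L115507 : sm ga N12064 = N15988 := rfl
theorem L115509 : sm gc N12064 = N15989 := rfl
theorem L115511 : sm gb N15989 = N12069 := ded_13_1 (flp_c L95420) (flp_b L84377) (flp_c L84371) L95404 L115509
theorem L115513 : sm gf N12064 = N15990 := rfl
theorem L115515 : sm gb N12065 = N15991 := rfl
theorem L115517 : sm gd N15991 = N12071 := ded_14_2 (flp_b L95426) (flp_d L95408) L115515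
theorem L115519 : sm gc N12065 = N15992 := rfl
theorem L115521 : sm ga N15992 = N12066 := ded_8_1 (flp_c L95410) L95406 L115519
theorem L115523 : sm gg N12065 = N15993 := rfl
theorem L115525 : sm ga N15993 = N12067 := ded_12_1 (flp_g L95412) L95406 L115523
theorem L115527 : sm gd N15993 = N12073 := ded_24_1 (flp_g L95436) (flp_d L95408) L115523
theorem L115529 : sm gf N15993 = N15951 := ded_29_2 (flp_g L115313) L115301 L115307 L115523
theorem L115531 : sm gd N12066 = N15994 := rfl
theorem L115533 : sm gg N12066 = N15995 := rfl
theorem L115535 : sm gc N15995 = N12067 := ded_21_1 (flp_g L95412) L95410 L115533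
theorem L115537 : sm gf N12067 = N15996 := rfl
theorem L115539 : sm ga N15996 = N15951 := ded_11_1 (flp_f L115529) L115525 L115537
theorem L115541 : sm gd N15996 = N12076 := ded_23_1 (flp_f L95453) (flp_d L95414) L115537
theorem L115543 : sm gg N15996 = N15949 := ded_29_3 (flp_a L115301) L95306 L95412 L115537
theorem L115545 : sm gb N12068 = N15997 := rfl
theorem L115547 : sm gd N15997 = N12077 := ded_14_2 (flp_b L95461) (flp_d L95418) L115545
theorem L115549 : sm gc N12068 = N15998 := rfl
theorem L115551 : sm ga N15998 = N12069 := ded_8_1 (flp_c L95420) L95416 L115549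
theorem L115553 : sm gf N12068 = N15999 := rfl
theorem L115555 : sm ga N15999 = N12070 := ded_11_1 (flp_f L95422) L95416 L115553
theorem L115557 : sm gd N15999 = N12079 := ded_23_1 (flp_f L95471) (flp_d L95418) L115553
theorem L115559 : sm gg N15955 = N15999 := ded_29_1 (flp_f L115553) (flp_g L115325) (flp_a L115321) L115331
theorem L115561 : sm gd N12069 = N16000 := rfl
theorem L115563 : sm gf N12069 = N16001 := rfl
theorem L115565 : sm gc N16001 = N12070 := ded_20_1 (flp_f L95422) L95420 L115563
theorem L115567 : sm gg N12070 = N16002 := rfl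
theorem L115569 : sm ga N16002 = N15955 := ded_12_1 L115559 L115555 L115567
theorem L115571 : sm gd N16002 = N12082 := ded_24_1 (flp_g L95488) (flp_d L95424) L115567
theorem L115573 : sm gf N15953 = N16002 := ded_29_0 (flp_g L115567) (flp_f L95422) (flp_g L95320) L115321
theorem L115575 : sm gf N12071 = N16003 := rfl
theorem L115577 : sm ga N16003 = N14939 := ded_11_1 L110190 L107318 L115575
theorem L115579 : sm ge N16003 = N12393 := ded_25_1 (flp_f L97112) (flp_e L95428) L115575
theorem L115581 : sm gb N16003 = N14972 := ded_16_1 L115345 (flp_b L115339) L95336 L95426 L115575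
theorem L115583 : sm gg N12071 = N16004 := rfl
theorem L115585 : sm ge N16004 = N12394 := ded_26_1 (flp_g L97120) (flp_e L95428) L115583
theorem L115587 : sm gb N12072 = N16005 := rfl
theorem L115589 : sm ge N16005 = N12395 := ded_15_2 (flp_b L97122) (flp_e L95434) L115587
theorem L115591 : sm gf N16005 = N12299 := ded_16_2 (flp_b L96611) L96615 (flp_b L115355) L115353 L115587
theorem L115593 : sm gd N12072 = N16006 := rfl
theorem L115595 : sm ga N16006 = N12074 := ded_9_1 (flp_d L95444) (flp_a L95432) L115593
theorem L115597 : sm gg N12072 = N16007 := rfl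
theorem L115599 : sm ga N16007 = N12075 := ded_12_1 (flp_g L95447) (flp_a L95432) L115597
theorem L115601 : sm gc N16007 = N12073 := ded_21_1 (flp_g L95436) L95430 L115597
theorem L115603 : sm ge N16007 = N12397 := ded_26_1 (flp_g L97130) (flp_e L95434) L115597
theorem L115605 : sm gf N16007 = N15960 := ded_29_2 (flp_g L115361) (flp_a L115349) L115353 L115597
theorem L115607 : sm gb N12073 = N16008 := rfl
theorem L115609 : sm ge N16008 = N12398 := ded_15_2 (flp_b L97138) (flp_e L95440) L115607
theorem L115611 : sm gf N12286 = N16008 := ded_25_0 L115609 (flp_f L97987) (flp_e L96544)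
theorem L115613 : sm gc N12074 = N16009 := rfl
theorem L115615 : sm ge N12074 = N16010 := rfl
theorem L115617 : sm gb N16010 = N16010 := ded_15_1 (flp_e L115615) L95446 L115615
theorem L115618 : sm gd N16010 = N12399 := ded_22_1 (flp_e L97140) (flp_d L85208) (flp_e L84387) L95444 L115615
theorem L115620 : sm gg N12074 = N16011 := rfl
theorem L115622 : sm gd N16011 = N12075 := ded_24_1 (flp_g L95447) L95444 L115620
theorem L115624 : sm gb N12075 = N16012 := rfl
theorem L115626 : sm ge N16012 = N12401 := ded_15_2 (flp_b L97147) (flp_e L95451) L115624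
theorem L115628 : sm gg N16012 = N16012 := ded_17_2 (flp_b L115624) (flp_g L95447) L84389 L95447 L115624
theorem L115629 : sm gf N12075 = N16013 := rfl
theorem L115631 : sm ga N16013 = N15960 := ded_11_1 (flp_f L115605) L115599 L115629
theorem L115633 : sm gc N16013 = N12076 := ded_20_1 (flp_f L95453) (flp_c L95449) L115629
theorem L115635 : sm ge N16013 = N12402 := ded_25_1 (flp_f L97150) (flp_e L95451) L115629
theorem L115637 : sm gg N16013 = N15958 := ded_29_3 L115349 L95342 L95447 L115629
theorem L115639 : sm ga N12077 = N16014 := rfl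
theorem L115641 : sm ge N16014 = N12404 := ded_10_2 (flp_a L97160) (flp_e L95463) L115639
theorem L115643 : sm gb N16014 = N12128 := ded_7_2 (flp_a L95713) (flp_b L84517) (flp_a L24963) (flp_b L12014) (flp_a L11985) L24901 L84394 L95461 L115639
theorem L115645 : sm gg N14943 = N16014 := ded_26_0 L115641 (flp_g L97897) (flp_e L110222)
theorem L115647 : sm gc N12077 = N16015 := rfl
theorem L115649 : sm ge N16015 = N12405 := ded_19_2 (flp_c L97164) (flp_e L95463) L115647
theorem L115651 : sm gf N12077 = N16016 := rfl
theorem L115653 : sm ge N16016 = N12406 := ded_25_1 (flp_f L97166) (flp_e L95463) L115651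
theorem L115655 : sm gg N12077 = N16017 := rfl
theorem L115657 : sm ga N16017 = N14943 := ded_12_1 L115645 (flp_a L115639) L115655
theorem L115659 : sm ge N16017 = N12407 := ded_26_1 (flp_g L97168) (flp_e L95463) L115655
theorem L115661 : sm gb N16017 = N14991 := ded_17_1 L115397 (flp_b L115391) L95356 L95461 L115655
theorem L115663 : sm gb N12078 = N16018 := rfl
theorem L115665 : sm ge N16018 = N12408 := ded_15_2 (flp_b L97170) (flp_e L95469) L115663
theorem L115667 : sm gd N12078 = N16019 := rfl
theorem L115669 : sm ga N16019 = N12080 := ded_9_1 (flp_d L95479) (flp_a L95467) L115667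
theorem L115671 : sm gf N12078 = N16020 := rfl
theorem L115673 : sm ga N16020 = N12081 := ded_11_1 (flp_f L95482) (flp_a L95467) L115671
theorem L115675 : sm gc N16020 = N12079 := ded_20_1 (flp_f L95471) L95465 L115671
theorem L115677 : sm ge N16020 = N12410 := ded_25_1 (flp_f L97176) (flp_e L95469) L115671
theorem L115679 : sm gg N15968 = N16020 := ded_29_1 (flp_f L115671) (flp_g L115405) L115401 L115411
theorem L115681 : sm gb N12079 = N16021 := rfl
theorem L115683 : sm ge N16021 = N12411 := ded_15_2 (flp_b L97184) (flp_e L95475) L115681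
theorem L115685 : sm gg N12233 = N16021 := ded_26_0 L115683 (flp_g L97969) (flp_e L96253)
theorem L115687 : sm gc N12080 = N16022 := rfl
theorem L115689 : sm ge N12080 = N16023 := rfl
theorem L115691 : sm gb N16023 = N16023 := ded_15_1 (flp_e L115689) L95481 L115689
theorem L115692 : sm gd N16023 = N12413 := ded_22_1 (flp_e L97188) (flp_d L85233) (flp_e L84400) L95479 L115689
theorem L115694 : sm gf N12080 = N16024 := rfl
theorem L115696 : sm gd N16024 = N12081 := ded_23_1 (flp_f L95482) L95479 L115694
theorem L115698 : sm gb N12081 = N16025 := rfl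
theorem L115700 : sm ge N16025 = N12415 := ded_15_2 (flp_b L97195) (flp_e L95486) L115698
theorem L115702 : sm gf N16025 = N16025 := ded_16_2 (flp_b L115698) (flp_f L95482) L84402 L95482 L115698
theorem L115703 : sm gg N12081 = N16026 := rfl
theorem L115705 : sm ga N16026 = N15968 := ded_12_1 L115679 L115673 L115703
theorem L115707 : sm gc N16026 = N12082 := ded_21_1 (flp_g L95488) (flp_c L95484) L115703
theorem L115709 : sm ge N16026 = N12416 := ded_26_1 (flp_g L97198) (flp_e L95486) L115703
theorem L115711 : sm gf N15966 = N16026 := ded_29_0 (flp_g L115703) (flp_f L95482) (flp_g L95362) (flp_a L115401)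
theorem L115713 : sm gc N12083 = N16027 := rfl
theorem L115715 : sm ga N16027 = N16027 := ded_8_1 (flp_c L115713) L103843 L115713
theorem L115716 : sm ge N16027 = N16027 := ded_19_2 (flp_c L115713) L95500 L115713
theorem L115717 : sm gf N16027 = N16027 := ded_20_2 (flp_c L115713) L95501 L115713
theorem L115718 : sm gg N12083 = N16028 := rfl
theorem L115721 : sm gd N16028 = N12089 := ded_24_1 (flp_g L95534) (flp_d L95498) L115718
theorem L115725 : sm gb N12084 = N16029 := rfl
theorem L115727 : sm gd N16029 = N12090 := ded_14_2 (flp_b L95536) (flp_d L95504) L115725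
theorem L115729 : sm ge N16029 = N16029 := ded_15_2 (flp_b L115725) L95506 L115725
theorem L115730 : sm ga N12085 = N16030 := rfl
theorem L115732 : sm gd N16030 = N12091 := ded_9_2 (flp_a L95538) (flp_d L95511) L115730
theorem L115736 : sm gc N12085 = N16031 := rfl
theorem L115738 : sm ge N16031 = N16031 := ded_19_2 (flp_c L115736) L95513 L115736
theorem L115739 : sm gg N16031 = N16031 := ded_21_2 (flp_c L115736) L95514 L115736
theorem L115740 : sm gf N12085 = N16032 := rfl
theorem L115742 : sm gd N16032 = N12093 := ded_23_1 (flp_f L95546) (flp_d L95511) L115740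
theorem L115745 : sm gb N12086 = N16033 := rfl
theorem L115747 : sm gd N16033 = N12094 := ded_14_2 (flp_b L95548) (flp_d L95521) L115745
theorem L115749 : sm ge N16033 = N16033 := ded_15_2 (flp_b L115745) L95523 L115745
theorem L115750 : sm gd N12088 = N16034 := rfl
theorem L115752 : sm ga N16034 = N16034 := ded_9_1 (flp_d L115750) L103836 L115750
theorem L115753 : sm gb N16034 = N12097 := ded_14_1 (flp_d L95560) (flp_b L95532) L115750
theorem L115755 : sm gf N16034 = N16034 := ded_23_2 (flp_d L115750) L95531 L115750
theorem L115756 : sm gg N12088 = N16035 := rfl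
theorem L115758 : sm ga N16035 = N16035 := ded_12_1 (flp_g L115756) L103836 L115756
theorem L115759 : sm gc N16035 = N12089 := ded_21_1 (flp_g L95534) L95529 L115756
theorem L115761 : sm gf N16035 = N16035 := ded_29_0 (flp_g L115756) L95531 L115756 L115758
theorem L115762 : sm gb N12089 = N16036 := rfl
theorem L115764 : sm gg N16036 = N12090 := ded_17_2 (flp_b L95536) (flp_g L84420) L84417 L95534 L115762
theorem L115766 : sm ga N12090 = N16037 := rfl
theorem L115768 : sm gc N12090 = N16038 := rfl
theorem L115770 : sm gb N16038 = N12101 := ded_13_1 (flp_c L95578) (flp_b L84451) (flp_c L84422) L95536 L115768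
theorem L115772 : sm gf N12090 = N16039 := rfl
theorem L115774 : sm gb N16039 = N15990 := ded_16_1 (flp_f L115513) (flp_b L95404) L84424 L95536 L115772
theorem L115778 : sm gc N12091 = N16041 := rfl
theorem L115780 : sm ga N16041 = N12092 := ded_8_1 (flp_c L95541) L95538 L115778
theorem L115783 : sm gf N12091 = N16042 := rfl
theorem L115785 : sm ga N16042 = N12093 := ded_11_1 (flp_f L95546) L95538 L115783
theorem L115787 : sm gg N16042 = N12093 := ded_29_3 (flp_a L115785) (flp_f L115783) L95540 L115783
theorem L115789 : sm gd N12092 = N16043 := rfl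
theorem L115791 : sm gb N16043 = N12105 := ded_14_1 (flp_d L95596) (flp_b L95544) L115789
theorem L115793 : sm gg N16043 = N16043 := ded_24_2 (flp_d L115789) L95543 L115789
theorem L115794 : sm gf N12092 = N16044 := rfl
theorem L115796 : sm gc N16044 = N12093 := ded_20_1 (flp_f L95546) L95541 L115794
theorem L115798 : sm gb N12093 = N16045 := rfl
theorem L115800 : sm gf N16045 = N12094 := ded_16_2 (flp_b L95548) (flp_f L84429) L84426 L95546 L115798
theorem L115802 : sm ga N12094 = N16046 := rfl
theorem L115804 : sm gc N12094 = N16047 := rfl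
theorem L115806 : sm gb N16047 = N12109 := ded_13_1 (flp_c L95614) (flp_b L84469) (flp_c L84433) L95548 L115804
theorem L115808 : sm gg N12094 = N16048 := rfl
theorem L115810 : sm gb N16048 = N15987 := ded_17_1 (flp_g L115505) (flp_b L95402) (flp_g L84435) L95548 L115808
theorem L115812 : sm gc N12095 = N16049 := rfl
theorem L115814 : sm gd N14504 = N16049 := ded_28_1 (flp_c L115812) L95552 (flp_c L91646) L91365 L91395 L108043 L108045 L108061
theorem L115816 : sm gb N16049 = N15049 := ded_14_1 (flp_d L110837) (flp_b L108063) L115814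
theorem L115818 : sm gb N15013 = N12096 := ded_13_3 (flp_c L95554) L95550 L115812 L115816 (flp_c L110841)
theorem L115820 : sm gd N12096 = N15012 := ded_14_2 (flp_b L110611) L110615 L115818
theorem L115822 : sm ga N15012 = N12097 := ded_9_1 (flp_d L95560) (flp_a L95556) L115820
theorem L115824 : sm gf N15012 = N12152 := ded_23_2 (flp_d L95828) (flp_f L95558) L115820
theorem L115826 : sm gf N12095 = N16050 := rfl
theorem L115828 : sm gd N16050 = N12111 := ded_23_1 (flp_f L95622) (flp_d L95552) L115826
theorem L115830 : sm gb N16050 = N12149 := ded_16_1 (flp_f L95818) (flp_b L84561) (flp_f L84441) L95550 L115826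
theorem L115832 : sm gg N12095 = N16051 := rfl
theorem L115834 : sm gd N16051 = N12112 := ded_24_1 (flp_g L95628) (flp_d L95552) L115832
theorem L115836 : sm gc N12097 = N16052 := rfl
theorem L115838 : sm gf N16052 = N12155 := ded_20_2 (flp_c L95844) (flp_f L95562) L115836
theorem L115840 : sm ge N12097 = N16053 := rfl
theorem L115842 : sm ga N16053 = N12151 := ded_10_1 (flp_e L110613) L115822 L115840
theorem L115844 : sm gf N16053 = N12156 := ded_25_2 (flp_e L95846) (flp_f L95562) L115840
theorem L115846 : sm gg N12097 = N16054 := rfl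
theorem L115848 : sm gd N16054 = N12098 := ded_24_1 (flp_g L95564) L95560 L115846
theorem L115850 : sm gb N12098 = N16055 := rfl
theorem L115852 : sm ga N12099 = N16056 := rfl
theorem L115854 : sm gd N16056 = N12119 := ded_9_2 (flp_a L95662) (flp_d L95570) L115852
theorem L115856 : sm gg N16056 = N12100 := ded_12_2 (flp_a L95574) (flp_g L95572) L115852
theorem L115858 : sm gc N12099 = N16057 := rfl
theorem L115860 : sm gg N16057 = N12101 := ded_21_2 (flp_c L95578) (flp_g L95572) L115858
theorem L115862 : sm gf N12099 = N16058 := rfl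
theorem L115864 : sm gd N16058 = N12121 := ded_23_1 (flp_f L95674) (flp_d L95570) L115862
theorem L115866 : sm gb N12100 = N16059 := rfl
theorem L115868 : sm gd N16059 = N12122 := ded_14_2 (flp_b L95678) (flp_d L95576) L115866
theorem L115870 : sm gc N12100 = N16060 := rfl
theorem L115872 : sm ga N16060 = N12101 := ded_8_1 (flp_c L95578) L95574 L115870
theorem L115874 : sm gf N12100 = N16061 := rfl
theorem L115876 : sm ga N16061 = N12102 := ded_11_1 (flp_f L95580) L95574 L115874
theorem L115878 : sm gd N16061 = N12124 := ded_23_1 (flp_f L95688) (flp_d L95576) L115874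
theorem L115880 : sm gg N16058 = N16061 := ded_29_1 (flp_f L115874) (flp_g L115856) (flp_a L115852) L115862
theorem L115882 : sm gd N12101 = N16062 := rfl
theorem L115884 : sm gf N12101 = N16063 := rfl
theorem L115886 : sm gc N16063 = N12102 := ded_20_1 (flp_f L95580) L95578 L115884
theorem L115888 : sm gg N12102 = N16064 := rfl
theorem L115890 : sm ga N16064 = N16058 := ded_12_1 L115880 L115876 L115888
theorem L115892 : sm gd N16064 = N12127 := ded_24_1 (flp_g L95705) (flp_d L95582) L115888
theorem L115894 : sm gf N16056 = N16064 := ded_29_0 (flp_g L115888) (flp_f L95580) (flp_g L95572) L115852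
theorem L115896 : sm ga N12103 = N16065 := rfl
theorem L115898 : sm gd N16065 = N12128 := ded_9_2 (flp_a L95713) (flp_d L95588) L115896
theorem L115900 : sm gc N12103 = N16066 := rfl
theorem L115902 : sm gf N12103 = N16067 := rfl
theorem L115904 : sm gd N16067 = N12130 := ded_23_1 (flp_f L95721) (flp_d L95588) L115902
theorem L115906 : sm gg N12103 = N16068 := rfl
theorem L115908 : sm gd N16068 = N12131 := ded_24_1 (flp_g L95725) (flp_d L95588) L115906
theorem L115910 : sm gb N16068 = N12173 := ded_17_1 (flp_g L95923) (flp_b L84611) (flp_g L84459) L95586 L115906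
theorem L115912 : sm gb N12104 = N16069 := rfl
theorem L115914 : sm gd N12104 = N16070 := rfl
theorem L115916 : sm ga N16070 = N12105 := ded_9_1 (flp_d L95596) (flp_a L95592) L115914
theorem L115918 : sm gg N16070 = N12175 := ded_24_2 (flp_d L95929) (flp_g L95594) L115914
theorem L115920 : sm gc N12105 = N16071 := rfl
theorem L115922 : sm gg N16071 = N12178 := ded_21_2 (flp_c L95945) (flp_g L95598) L115920
theorem L115924 : sm ge N12105 = N16072 := rfl
theorem L115926 : sm gg N16072 = N12179 := ded_26_2 (flp_e L95947) (flp_g L95598) L115924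
theorem L115928 : sm gf N12105 = N16073 := rfl
theorem L115930 : sm gd N16073 = N12106 := ded_23_1 (flp_f L95600) L95596 L115928
theorem L115932 : sm gb N12106 = N16074 := rfl
theorem L115934 : sm ga N12107 = N16075 := rfl
theorem L115936 : sm gd N16075 = N12138 := ded_9_2 (flp_a L95761) (flp_d L95606) L115934
theorem L115938 : sm gf N16075 = N12108 := ded_11_2 (flp_a L95610) (flp_f L95608) L115934
theorem L115940 : sm gc N12107 = N16076 := rfl
theorem L115942 : sm gf N16076 = N12109 := ded_20_2 (flp_c L95614) (flp_f L95608) L115940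
theorem L115944 : sm gg N12107 = N16077 := rfl
theorem L115946 : sm gd N16077 = N12140 := ded_24_1 (flp_g L95773) (flp_d L95606) L115944
theorem L115948 : sm gb N12108 = N16078 := rfl
theorem L115950 : sm gd N16078 = N12141 := ded_14_2 (flp_b L95777) (flp_d L95612) L115948
theorem L115952 : sm gc N12108 = N16079 := rfl
theorem L115954 : sm ga N16079 = N12109 := ded_8_1 (flp_c L95614) L95610 L115952
theorem L115956 : sm gg N12108 = N16080 := rfl
theorem L115958 : sm ga N16080 = N12110 := ded_12_1 (flp_g L95616) L95610 L115956
theorem L115960 : sm gd N16080 = N12143 := ded_24_1 (flp_g L95787) (flp_d L95612) L115956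
theorem L115962 : sm gf N16080 = N16077 := ded_29_2 (flp_g L115944) L115934 L115938 L115956
theorem L115964 : sm gd N12109 = N16081 := rfl
theorem L115966 : sm gg N12109 = N16082 := rfl
theorem L115968 : sm gc N16082 = N12110 := ded_21_1 (flp_g L95616) L95614 L115966
theorem L115970 : sm gf N12110 = N16083 := rfl
theorem L115972 : sm ga N16083 = N16077 := ded_11_1 (flp_f L115962) L115958 L115970
theorem L115974 : sm gd N16083 = N12146 := ded_23_1 (flp_f L95804) (flp_d L95618) L115970
theorem L115976 : sm gg N16083 = N16075 := ded_29_3 (flp_a L115934) L95608 L95616 L115970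
theorem L115978 : sm gg N12111 = N16084 := rfl
theorem L115980 : sm gc N16084 = N14482 := ded_21_1 L107959 (flp_c L107735) L115978
theorem L115982 : sm ge N16084 = N12421 := ded_26_1 (flp_g L97224) (flp_e L95624) L115978
theorem L115984 : sm gf N14480 = N16084 := ded_29_0 (flp_g L115978) (flp_f L95622) L95628 (flp_a L107941)
theorem L115986 : sm gf N12112 = N16085 := rfl
theorem L115988 : sm ga N16085 = N16084 := ded_11_1 (flp_f L115984) L107941 L115986
theorem L115990 : sm gc N16085 = N14451 := ded_20_1 (flp_f L107933) L107927 L115986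
theorem L115992 : sm ge N16085 = N12422 := ded_25_1 (flp_f L97228) (flp_e L95630) L115986
theorem L115994 : sm gg N16085 = N14450 := ded_29_3 L107739 (flp_f L95622) L95628 L115986
theorem L115996 : sm ga N12113 = N16086 := rfl
theorem L115998 : sm ge N16086 = N12423 := ded_10_2 (flp_a L97236) (flp_e L95634) L115996
theorem L116000 : sm gd N12113 = N16087 := rfl
theorem L116002 : sm gb N16087 = N12114 := ded_14_1 (flp_d L95636) L95632 L116000
theorem L116004 : sm gf N12113 = N16088 := rfl
theorem L116006 : sm ge N16088 = N12425 := ded_25_1 (flp_f L97242) (flp_e L95634) L116004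
theorem L116008 : sm gb N16088 = N12204 := ded_16_1 (flp_f L96091) (flp_b L84685) (flp_f L84483) L95632 L116004
theorem L116010 : sm gg N12113 = N16089 := rfl
theorem L116012 : sm ge N16089 = N12426 := ded_26_1 (flp_g L97246) (flp_e L95634) L116010
theorem L116014 : sm gc N12114 = N16090 := rfl
theorem L116016 : sm ga N16090 = N12115 := ded_8_1 (flp_c L95642) (flp_a L95638) L116014
theorem L116018 : sm gf N16090 = N12206 := ded_20_2 (flp_c L96099) (flp_f L95640) L116014
theorem L116020 : sm gd N16052 = N16090 := ded_28_1 (flp_c L116014) (flp_d L95636) (flp_c L84477) (flp_d L84439) L95554 L115820 L115822 L115836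
theorem L116022 : sm ge N12114 = N16091 := rfl
theorem L116024 : sm ga N16091 = N12116 := ded_10_1 (flp_e L95646) (flp_a L95638) L116022
theorem L116026 : sm gf N16091 = N12207 := ded_25_2 (flp_e L96105) (flp_f L95640) L116022
theorem L116028 : sm gd N16091 = N12428 := ded_22_1 (flp_e L97256) (flp_d L85258) (flp_e L84481) L95636 L116022
theorem L116030 : sm gb N12115 = N16092 := rfl
theorem L116033 : sm gd N12115 = N16093 := rfl
theorem L116035 : sm ga N16093 = N16052 := ded_9_1 L116020 L116016 L116033
theorem L116037 : sm gf N16093 = N12214 := ded_23_2 (flp_d L96141) (flp_f L95644) L116033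
theorem L116039 : sm gc N15012 = N16093 := ded_28_0 (flp_d L116033) (flp_c L95642) (flp_d L84485) (flp_c L24948) (flp_d L24918) L84443 L95560 (flp_a L115822)
theorem L116041 : sm ge N16093 = N13696 := ded_19_2 L103975 (flp_e L110613) L116039
theorem L116043 : sm gb N16093 = N13321 := ded_13_1 (flp_c L101991) (flp_b L92701) L92707 L110611 L116039
theorem L116045 : N13327 = N12115 := coi_22_5 L116033 L116041 L103973 L89168 (flp_d L88168) (flp_e L102122)
theorem L116046 : N13327 = N12115 := eqc rfl L116045 rfl
theorem L116047 : sm gb N12115 = N10658 := trfs L116046 (flp_b L102120) rfl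
theorem L116048 : N10658 = N16092 := eqes L116047 L116030
theorem L116049 : N16092 = N10658 := (eqc rfl L116048 rfl).symm
theorem L116050 : sm ge N12115 = N10674 := trfs L116046 L102122 rfl
theorem L116052 : sm gb N10658 = N12115 := trfs L116049 (flp_b L116030) rfl
theorem L116055 : sm ge N13358 = N16090 := ded_10_2 L116016 L116050 L102291
theorem L116057 : N13359 = N12116 := coi_19_2 (flp_e L95646) L95642 L116050 L102297
theorem L116058 : N13359 = N12116 := eqc rfl L116057 rfl
theorem L116060 : sm gc N12116 = N10674 := trfs L116058 (flp_c L102297) rfl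
theorem L116062 : N13360 = N12215 := coi_25_3 (flp_e L96159) (flp_f L95644) L116050 L102300
theorem L116063 : N13360 = N12215 := eqc rfl L116062 rfl
theorem L116064 : sm gd N12215 = N10960 := trfs L116063 L102302 rfl
theorem L116066 : sm gf N12215 = N10674 := trfs L116063 (flp_f L102300) rfl
theorem L116068 : sm gb N16090 = N13712 := ded_7_2 (flp_a L104081) (flp_b L89166) (flp_a L38740) (flp_b L18413) (flp_a L15802) L32844 L88090 L116052 (flp_a L116016)
theorem L116070 : sm gc N16091 = N13358 := ded_19_3 L116055 (flp_c L116014) L116022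
theorem L116072 : sm gb N13992 = N16091 := ded_13_5 L116070 L102295 L105015 (flp_b L105067) (flp_c L105419)
theorem L116074 : sm ge N16087 = N13992 := ded_15_0 L116072 (flp_e L116022) (flp_b L116002)
theorem L116076 : sm ga N13756 = N16087 := ded_10_3 L116074 (flp_a L105417) (flp_e L104325)
theorem L116078 : sm gc N13758 = N16087 := ded_19_3 L116074 L105419 (flp_e L104339)
theorem L116080 : sm gd N16086 = N13756 := ded_9_0 L116076 (flp_d L116000) L115996
theorem L116082 : sm gb N13757 = N16086 := ded_14_3 L116080 (flp_b L104323) L104329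
theorem L116084 : sm gg N12115 = N16094 := rfl
theorem L116086 : sm gc N16094 = N12117 := ded_21_1 (flp_g L95653) L95642 L116084
theorem L116088 : sm ge N16094 = N13361 := ded_26_1 (flp_g L102304) (flp_e L116050) L116084
theorem L116090 : sm gg N12116 = N16095 := rfl
theorem L116092 : sm gc N16095 = N13361 := ded_21_1 (flp_g L102304) (flp_c L116060) L116090
theorem L116094 : sm gd N16095 = N12433 := ded_24_1 (flp_g L97284) (flp_d L95651) L116090
theorem L116096 : sm ge N16095 = N12117 := ded_26_1 (flp_g L95653) L95646 L116090
theorem L116098 : sm gb N12117 = N16096 := rfl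
theorem L116100 : sm gd N16096 = N12118 := ded_14_2 (flp_b L95657) (flp_d L95655) L116098
theorem L116102 : sm gg N16096 = N16096 := ded_17_2 (flp_b L116098) (flp_g L95653) L84487 L95653 L116098
theorem L116103 : sm ga N12118 = N16097 := rfl
theorem L116105 : sm ge N16097 = N12435 := ded_10_2 (flp_a L97293) (flp_e L95659) L116103
theorem L116108 : sm gc N12118 = N16098 := rfl
theorem L116110 : sm ge N16098 = N12436 := ded_19_2 (flp_c L97296) (flp_e L95659) L116108
theorem L116112 : sm gg N16098 = N16098 := ded_21_2 (flp_c L116108) L95661 L116108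
theorem L116113 : sm gb N16098 = N12120 := ded_13_1 (flp_c L95668) (flp_b L84496) (flp_c L84492) L95657 L116108
theorem L116115 : sm gf N12118 = N16099 := rfl
theorem L116117 : sm ge N16099 = N12437 := ded_25_1 (flp_f L97301) (flp_e L95659) L116115
theorem L116119 : sm gb N12119 = N16100 := rfl
theorem L116121 : sm ge N16100 = N12438 := ded_15_2 (flp_b L97303) (flp_e L95664) L116119
theorem L116123 : sm gc N12119 = N16101 := rfl
theorem L116125 : sm ga N16101 = N12120 := ded_8_1 (flp_c L95668) L95662 L116123
theorem L116127 : sm ge N16101 = N12439 := ded_19_2 (flp_c L97305) (flp_e L95664) L116123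
theorem L116129 : sm gg N16101 = N12123 := ded_21_2 (flp_c L95682) (flp_g L95666) L116123
theorem L116131 : sm gd N12120 = N16102 := rfl
theorem L116133 : sm gg N16102 = N12125 := ded_24_2 (flp_d L95696) (flp_g L95672) L116131
theorem L116135 : sm gf N12120 = N16103 := rfl
theorem L116137 : sm gc N16103 = N12121 := ded_20_1 (flp_f L95674) L95668 L116135
theorem L116139 : sm ge N16103 = N12441 := ded_25_1 (flp_f L97315) (flp_e L95670) L116135
theorem L116141 : sm ga N12122 = N16104 := rfl
theorem L116143 : sm ge N16104 = N12442 := ded_10_2 (flp_a L97319) (flp_e L95680) L116141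
theorem L116145 : sm gg N15063 = N16104 := ded_29_3 (flp_a L116141) L111003 (flp_g L110997) (flp_f L110921)
theorem L116147 : sm gc N12122 = N16105 := rfl
theorem L116149 : sm ge N16105 = N12443 := ded_19_2 (flp_c L97323) (flp_e L95680) L116147
theorem L116151 : sm gg N12122 = N16106 := rfl
theorem L116153 : sm ga N16106 = N15063 := ded_12_1 L116145 (flp_a L116141) L116151
theorem L116155 : sm ge N16106 = N12444 := ded_26_1 (flp_g L97325) (flp_e L95680) L116151
theorem L116157 : sm gf N15073 = N16106 := ded_29_0 (flp_g L116151) L111003 (flp_g L110997) L110989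
theorem L116159 : sm gb N12123 = N16107 := rfl
theorem L116161 : sm ge N16107 = N12445 := ded_15_2 (flp_b L97331) (flp_e L95686) L116159
theorem L116163 : sm gd N12123 = N16108 := rfl
theorem L116165 : sm ga N16108 = N12125 := ded_9_1 (flp_d L95696) (flp_a L95684) L116163
theorem L116167 : sm gf N12123 = N16109 := rfl
theorem L116169 : sm ga N16109 = N12126 := ded_11_1 (flp_f L95699) (flp_a L95684) L116167
theorem L116171 : sm gc N16109 = N12124 := ded_20_1 (flp_f L95688) L95682 L116167
theorem L116173 : sm ge N16109 = N12447 := ded_25_1 (flp_f L97337) (flp_e L95686) L116167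
theorem L116175 : sm gg N16103 = N16109 := ded_29_1 (flp_f L116167) (flp_g L116129) L116125 L116135
theorem L116177 : sm gc N12125 = N16110 := rfl
theorem L116179 : sm ge N12125 = N16111 := rfl
theorem L116181 : sm gb N16111 = N16111 := ded_15_1 (flp_e L116179) L95698 L116179
theorem L116182 : sm gd N16111 = N12449 := ded_22_1 (flp_e L97347) (flp_d L85302) (flp_e L84508) L95696 L116179
theorem L116184 : sm gf N12125 = N16112 := rfl
theorem L116186 : sm gd N16112 = N12126 := ded_23_1 (flp_f L95699) L95696 L116184
theorem L116188 : sm gb N12126 = N16113 := rfl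
theorem L116190 : sm ge N16113 = N12451 := ded_15_2 (flp_b L97354) (flp_e L95703) L116188
theorem L116192 : sm gc N16113 = N16025 := ded_13_2 (flp_b L115698) L95484 (flp_b L84515) (flp_c L95701) L116188
theorem L116194 : sm gf N16113 = N16113 := ded_16_2 (flp_b L116188) (flp_f L95699) L84510 L95699 L116188
theorem L116195 : sm gg N12126 = N16114 := rfl
theorem L116197 : sm ga N16114 = N16103 := ded_12_1 L116175 L116169 L116195
theorem L116199 : sm gc N16114 = N12127 := ded_21_1 (flp_g L95705) (flp_c L95701) L116195
theorem L116201 : sm ge N16114 = N12452 := ded_26_1 (flp_g L97359) (flp_e L95703) L116195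
theorem L116203 : sm gf N16101 = N16114 := ded_29_0 (flp_g L116195) (flp_f L95699) (flp_g L95672) (flp_a L116125)
theorem L116205 : sm gb N12127 = N16115 := rfl
theorem L116207 : sm ge N16115 = N12453 := ded_15_2 (flp_b L97367) (flp_e L95709) L116205
theorem L116209 : sm gg N16115 = N15058 := ded_17_2 (flp_b L110889) (flp_g L95488) (flp_b L84515) L95705 L116205
theorem L116211 : sm ga N15060 = N16115 := ded_10_3 L116207 (flp_a L97885) (flp_e L110897)
theorem L116213 : sm gc N12128 = N16116 := rfl
theorem L116215 : sm ga N16116 = N12129 := ded_8_1 (flp_c L95717) L95713 L116213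
theorem L116217 : sm ge N16116 = N12454 := ded_19_2 (flp_c L97371) (flp_e L95715) L116213
theorem L116219 : sm gf N12128 = N16117 := rfl
theorem L116221 : sm ga N16117 = N12130 := ded_11_1 (flp_f L95721) L95713 L116219
theorem L116223 : sm ge N16117 = N12455 := ded_25_1 (flp_f L97375) (flp_e L95715) L116219
theorem L116225 : sm gb N15036 = N16117 := ded_15_3 L116223 L97899 (flp_e L110753)
theorem L116227 : sm gg N12128 = N16118 := rfl
theorem L116229 : sm ga N16118 = N12131 := ded_12_1 (flp_g L95725) L95713 L116227
theorem L116233 : sm gb N16118 = N14924 := ded_17_1 L110111 L110220 L115645 L115643 L116227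
theorem L116235 : sm gb N12129 = N16119 := rfl
theorem L116237 : sm ge N16119 = N12457 := ded_15_2 (flp_b L97383) (flp_e L95719) L116235
theorem L116239 : sm gc N16119 = N12132 := ded_13_2 (flp_b L95731) (flp_c L84521) L84517 L95717 L116235
theorem L116243 : sm gf N12129 = N16121 := rfl
theorem L116245 : sm gc N16121 = N12130 := ded_20_1 (flp_f L95721) L95717 L116243
theorem L116249 : sm gg N12129 = N16122 := rfl
theorem L116251 : sm gc N16122 = N12131 := ded_21_1 (flp_g L95725) L95717 L116249
theorem L116253 : sm ge N16122 = N12460 := ded_26_1 (flp_g L97393) (flp_e L95719) L116249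
theorem L116255 : sm gg N12130 = N16123 := rfl
theorem L116257 : sm ge N16123 = N12461 := ded_26_1 (flp_g L97397) (flp_e L95723) L116255
theorem L116259 : sm gf N16118 = N16123 := ded_29_0 (flp_g L116255) (flp_f L95721) L95725 (flp_a L116229)
theorem L116261 : sm gf N12131 = N16124 := rfl
theorem L116263 : sm ga N16124 = N16123 := ded_11_1 (flp_f L116259) L116229 L116261
theorem L116265 : sm ge N16124 = N12462 := ded_25_1 (flp_f L97401) (flp_e L95727) L116261
theorem L116267 : sm gg N16124 = N16117 := ded_29_3 L116221 (flp_f L95721) L95725 L116261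
theorem L116269 : sm ga N12132 = N16125 := rfl
theorem L116271 : sm ge N16125 = N12463 := ded_10_2 (flp_a L97407) (flp_e L95733) L116269
theorem L116273 : sm gd N12132 = N16126 := rfl
theorem L116275 : sm gb N16126 = N12133 := ded_14_1 (flp_d L95735) L95731 L116273
theorem L116277 : sm gf N12132 = N16127 := rfl
theorem L116279 : sm ge N16127 = N12465 := ded_25_1 (flp_f L97413) (flp_e L95733) L116277
theorem L116281 : sm gg N12132 = N16128 := rfl
theorem L116283 : sm ge N16128 = N12466 := ded_26_1 (flp_g L97415) (flp_e L95733) L116281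
theorem L116285 : sm gb N16128 = N12257 := ded_17_1 (flp_g L96380) (flp_b L84807) (flp_g L84527) L95731 L116281
theorem L116287 : sm gc N12133 = N16129 := rfl
theorem L116289 : sm ga N16129 = N12134 := ded_8_1 (flp_c L95741) (flp_a L95737) L116287
theorem L116291 : sm gg N16129 = N12258 := ded_21_2 (flp_c L96384) (flp_g L95739) L116287
theorem L116293 : sm gd N16071 = N16129 := ded_28_1 (flp_c L116287) (flp_d L95735) (flp_c L84521) (flp_d L84457) L95590 L115914 L115916 L115920
theorem L116295 : sm ge N12133 = N16130 := rfl
theorem L116297 : sm ga N16130 = N12135 := ded_10_1 (flp_e L95745) (flp_a L95737) L116295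
theorem L116299 : sm gg N16130 = N12259 := ded_26_2 (flp_e L96390) (flp_g L95739) L116295
theorem L116301 : sm gd N16130 = N12468 := ded_22_1 (flp_e L97427) (flp_d L85327) (flp_e L84525) L95735 L116295
theorem L116303 : sm gb N12134 = N16131 := rfl
theorem L116306 : sm gd N12134 = N16132 := rfl
theorem L116308 : sm ga N16132 = N16071 := ded_9_1 L116293 L116289 L116306
theorem L116310 : sm gg N16132 = N12266 := ded_24_2 (flp_d L96426) (flp_g L95743) L116306
theorem L116312 : sm gc N16070 = N16132 := ded_28_0 (flp_d L116306) (flp_c L95741) (flp_d L84529) (flp_c L24969) (flp_d L24930) L84461 L95596 (flp_a L115916)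
theorem L116314 : sm ge N12134 = N16133 := rfl
theorem L116316 : sm gc N16133 = N12135 := ded_19_1 (flp_e L95745) L95741 L116314
theorem L116318 : sm gg N16133 = N12267 := ded_26_2 (flp_e L96444) (flp_g L95743) L116314
theorem L116320 : sm gf N12134 = N16134 := rfl
theorem L116322 : sm gc N16134 = N12136 := ded_20_1 (flp_f L95752) L95741 L116320
theorem L116324 : sm gf N12135 = N16135 := rfl
theorem L116326 : sm gd N16135 = N12473 := ded_23_1 (flp_f L97455) (flp_d L95750) L116324
theorem L116328 : sm ge N16135 = N12136 := ded_25_1 (flp_f L95752) L95745 L116324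
theorem L116330 : sm gb N12136 = N16136 := rfl
theorem L116332 : sm gd N16136 = N12137 := ded_14_2 (flp_b L95756) (flp_d L95754) L116330
theorem L116334 : sm gf N16136 = N16136 := ded_16_2 (flp_b L116330) (flp_f L95752) L84531 L95752 L116330
theorem L116335 : sm ga N12137 = N16137 := rfl
theorem L116337 : sm ge N16137 = N12475 := ded_10_2 (flp_a L97464) (flp_e L95758) L116335
theorem L116340 : sm gc N12137 = N16138 := rfl
theorem L116342 : sm ge N16138 = N12476 := ded_19_2 (flp_c L97467) (flp_e L95758) L116340
theorem L116344 : sm gf N16138 = N16138 := ded_20_2 (flp_c L116340) L95760 L116340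
theorem L116345 : sm gb N16138 = N12139 := ded_13_1 (flp_c L95767) (flp_b L84540) (flp_c L84536) L95756 L116340
theorem L116347 : sm gg N12137 = N16139 := rfl
theorem L116349 : sm ge N16139 = N12477 := ded_26_1 (flp_g L97472) (flp_e L95758) L116347
theorem L116351 : sm gb N12138 = N16140 := rfl
theorem L116353 : sm ge N16140 = N12478 := ded_15_2 (flp_b L97474) (flp_e L95763) L116351
theorem L116355 : sm gc N12138 = N16141 := rfl
theorem L116357 : sm ga N16141 = N12139 := ded_8_1 (flp_c L95767) L95761 L116355
theorem L116359 : sm ge N16141 = N12479 := ded_19_2 (flp_c L97476) (flp_e L95763) L116355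
theorem L116361 : sm gf N16141 = N12142 := ded_20_2 (flp_c L95781) (flp_f L95765) L116355
theorem L116363 : sm gd N12139 = N16142 := rfl
theorem L116365 : sm gf N16142 = N12144 := ded_23_2 (flp_d L95795) (flp_f L95771) L116363
theorem L116367 : sm gg N12139 = N16143 := rfl
theorem L116369 : sm gc N16143 = N12140 := ded_21_1 (flp_g L95773) L95767 L116367
theorem L116371 : sm ge N16143 = N12481 := ded_26_1 (flp_g L97486) (flp_e L95769) L116367
theorem L116373 : sm ga N12141 = N16144 := rfl
theorem L116375 : sm ge N16144 = N12482 := ded_10_2 (flp_a L97490) (flp_e L95779) L116373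
theorem L116377 : sm gf N16144 = N15037 := ded_29_0 L110761 L110829 (flp_g L110835) L116373
theorem L116379 : sm gb N16144 = N16104 := ded_7_2 (flp_a L116141) (flp_b L95678) (flp_a L84502) (flp_b L24959) (flp_a L12022) L24980 L84546 L95777 L116373
theorem L116381 : sm gc N12141 = N16145 := rfl
theorem L116383 : sm ge N16145 = N12483 := ded_19_2 (flp_c L97496) (flp_e L95779) L116381
theorem L116385 : sm gf N12141 = N16146 := rfl
theorem L116387 : sm ga N16146 = N15037 := ded_11_1 (flp_f L116377) (flp_a L116373) L116385
theorem L116389 : sm ge N16146 = N12484 := ded_25_1 (flp_f L97498) (flp_e L95779) L116385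
theorem L116391 : sm gg N16146 = N15046 := ded_29_3 (flp_a L110821) L110829 (flp_g L110835) L116385
theorem L116393 : sm gb N12142 = N16147 := rfl
theorem L116395 : sm ge N16147 = N12485 := ded_15_2 (flp_b L97504) (flp_e L95785) L116393
theorem L116397 : sm gd N12142 = N16148 := rfl
theorem L116399 : sm ga N16148 = N12144 := ded_9_1 (flp_d L95795) (flp_a L95783) L116397
theorem L116401 : sm gg N12142 = N16149 := rfl
theorem L116403 : sm ga N16149 = N12145 := ded_12_1 (flp_g L95798) (flp_a L95783) L116401
theorem L116405 : sm gc N16149 = N12143 := ded_21_1 (flp_g L95787) L95781 L116401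
theorem L116407 : sm ge N16149 = N12487 := ded_26_1 (flp_g L97510) (flp_e L95785) L116401
theorem L116409 : sm gf N16149 = N16143 := ded_29_2 (flp_g L116367) (flp_a L116357) L116361 L116401
theorem L116411 : sm gc N12144 = N16150 := rfl
theorem L116413 : sm ge N12144 = N16151 := rfl
theorem L116415 : sm gb N16151 = N16151 := ded_15_1 (flp_e L116413) L95797 L116413
theorem L116416 : sm gd N16151 = N12489 := ded_22_1 (flp_e L97520) (flp_d L85371) (flp_e L84552) L95795 L116413
theorem L116418 : sm gg N12144 = N16152 := rfl
theorem L116420 : sm gd N16152 = N12145 := ded_24_1 (flp_g L95798) L95795 L116418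
theorem L116422 : sm gb N12145 = N16153 := rfl
theorem L116424 : sm ge N16153 = N12491 := ded_15_2 (flp_b L97527) (flp_e L95802) L116422
theorem L116426 : sm gc N16153 = N16012 := ded_13_2 (flp_b L115624) L95449 (flp_b L84559) (flp_c L95800) L116422
theorem L116428 : sm gg N16153 = N16153 := ded_17_2 (flp_b L116422) (flp_g L95798) L84554 L95798 L116422
theorem L116429 : sm gf N12145 = N16154 := rfl
theorem L116431 : sm ga N16154 = N16143 := ded_11_1 (flp_f L116409) L116403 L116429
theorem L116433 : sm gc N16154 = N12146 := ded_20_1 (flp_f L95804) (flp_c L95800) L116429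
theorem L116435 : sm ge N16154 = N12492 := ded_25_1 (flp_f L97532) (flp_e L95802) L116429
theorem L116437 : sm gg N16154 = N16141 := ded_29_3 L116357 L95771 L95798 L116429
theorem L116439 : sm gb N12146 = N16155 := rfl
theorem L116441 : sm ge N16155 = N12493 := ded_15_2 (flp_b L97540) (flp_e L95808) L116439
theorem L116443 : sm gf N16155 = N15085 := ded_16_2 (flp_b L111057) (flp_f L95453) (flp_b L84559) L95804 L116439
theorem L116445 : sm ga N15087 = N16155 := ded_10_3 L116441 L98073 (flp_e L111065)
theorem L116447 : sm gg N12149 = N16156 := rfl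
theorem L116449 : sm gc N16156 = N13700 := ded_21_1 L104007 (flp_c L103837) L116447
theorem L116451 : sm gd N16156 = N12199 := ded_24_1 (flp_g L96062) (flp_d L95820) L116447
theorem L116453 : sm gf N13698 = N16156 := ded_29_0 (flp_g L116447) (flp_f L95818) L95822 (flp_a L103989)
theorem L116455 : sm gb N12150 = N16157 := rfl
theorem L116457 : sm gd N16157 = N12200 := ded_14_2 (flp_b L96068) (flp_d L95824) L116455
theorem L116459 : sm gg N16157 = N12154 := ded_17_2 (flp_b L95840) (flp_g L84569) L84561 L95822 L116455
theorem L116461 : sm gf N12150 = N16158 := rfl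
theorem L116463 : sm ga N16158 = N16156 := ded_11_1 (flp_f L116453) L103989 L116461
theorem L116465 : sm gc N16158 = N13674 := ded_20_1 (flp_f L103985) L103981 L116461
theorem L116467 : sm gd N16158 = N12201 := ded_23_1 (flp_f L96074) (flp_d L95824) L116461
theorem L116469 : sm gg N16158 = N13673 := ded_29_3 L103849 (flp_f L95818) L95822 L116461
theorem L116471 : sm gd N12151 = N16159 := rfl
theorem L116473 : sm gb N16159 = N12152 := ded_14_1 (flp_d L95828) L95826 L116471
theorem L116475 : sm gf N12151 = N16160 := rfl
theorem L116477 : sm ga N16160 = N12156 := ded_11_1 (flp_f L115844) L115842 L116475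
theorem L116479 : sm ge N16160 = N12152 := ded_25_1 (flp_f L115824) L110613 L116475
theorem L116481 : sm gg N12151 = N16161 := rfl
theorem L116483 : sm gg N12152 = N16162 := rfl
theorem L116485 : sm ga N16162 = N12157 := ded_12_1 (flp_g L95849) (flp_a L95830) L116483
theorem L116487 : sm gd N16162 = N12153 := ded_24_1 (flp_g L95832) L95828 L116483
theorem L116489 : sm gf N16162 = N16054 := ded_29_2 (flp_g L115846) (flp_a L115822) L115824 L116483
theorem L116491 : sm gb N12153 = N16163 := rfl
theorem L116493 : sm ga N12154 = N16164 := rfl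
theorem L116495 : sm gd N16164 = N12210 := ded_9_2 (flp_a L96123) (flp_d L95842) L116493
theorem L116497 : sm gc N12154 = N16165 := rfl
theorem L116499 : sm gf N12154 = N16166 := rfl
theorem L116501 : sm gd N16166 = N12212 := ded_23_1 (flp_f L96131) (flp_d L95842) L116499
theorem L116503 : sm gb N16166 = N16058 := ded_16_1 (flp_f L115862) (flp_b L95568) (flp_f L84575) L95840 L116499
theorem L116505 : sm gb N12155 = N16167 := rfl
theorem L116507 : sm gc N16167 = N16167 := ded_13_2 (flp_b L116505) (flp_c L95844) L84579 L95844 L116505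
theorem L116508 : sm ge N12155 = N16168 := rfl
theorem L116510 : sm gc N16168 = N12156 := ded_19_1 (flp_e L95846) L95844 L116508
theorem L116512 : sm gg N12155 = N16169 := rfl
theorem L116514 : sm gc N16169 = N12157 := ded_21_1 (flp_g L95849) L95844 L116512
theorem L116516 : sm gg N12156 = N16170 := rfl
theorem L116518 : sm ge N16170 = N12157 := ded_26_1 (flp_g L95849) L95846 L116516
theorem L116520 : sm gf N16170 = N16161 := ded_29_2 (flp_g L116481) (flp_a L115842) L115844 L116516
theorem L116522 : sm gb N12157 = N16171 := rfl
theorem L116524 : sm gd N16171 = N12158 := ded_14_2 (flp_b L95853) (flp_d L95851) L116522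
theorem L116526 : sm gg N16171 = N16171 := ded_17_2 (flp_b L116522) (flp_g L95849) L84579 L95849 L116522
theorem L116527 : sm gf N12157 = N16172 := rfl
theorem L116529 : sm ga N16172 = N16054 := ded_11_1 (flp_f L116489) L116485 L116527
theorem L116531 : sm gd N16172 = N12159 := ded_23_1 (flp_f L95856) (flp_d L95851) L116527
theorem L116533 : sm ge N16172 = N16161 := ded_25_1 (flp_f L116520) L116518 L116527
theorem L116535 : sm gg N16172 = N15012 := ded_29_3 L115822 L95562 L95849 L116527
theorem L116537 : sm ga N12158 = N16173 := rfl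
theorem L116539 : sm gg N16173 = N16173 := ded_12_2 (flp_a L116537) L95855 L116537
theorem L116540 : sm gc N12158 = N16174 := rfl
theorem L116542 : sm gg N16174 = N16174 := ded_21_2 (flp_c L116540) L95855 L116540
theorem L116543 : sm gb N16174 = N12161 := ded_13_1 (flp_c L95870) (flp_b L84584) (flp_c L84582) L95853 L116540
theorem L116545 : sm gf N12158 = N16175 := rfl
theorem L116547 : sm gb N12159 = N16176 := rfl
theorem L116549 : sm gb N12160 = N16177 := rfl
theorem L116551 : sm gd N16177 = N12223 := ded_14_2 (flp_b L96201) (flp_d L95866) L116549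
theorem L116553 : sm gc N12160 = N16178 := rfl
theorem L116555 : sm ga N16178 = N12161 := ded_8_1 (flp_c L95870) L95864 L116553
theorem L116557 : sm gg N16178 = N12165 := ded_21_2 (flp_c L95886) (flp_g L95868) L116553
theorem L116559 : sm gd N12161 = N16179 := rfl
theorem L116561 : sm gg N16179 = N12167 := ded_24_2 (flp_d L95898) (flp_g L95872) L116559
theorem L116563 : sm gf N12161 = N16180 := rfl
theorem L116565 : sm gc N16180 = N12162 := ded_20_1 (flp_f L95874) L95870 L116563
theorem L116567 : sm gb N12162 = N16181 := rfl
theorem L116569 : sm gd N16181 = N12227 := ded_14_2 (flp_b L96223) (flp_d L95876) L116567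
theorem L116571 : sm gf N16181 = N12163 := ded_16_2 (flp_b L95878) (flp_f L84590) L84584 L95874 L116567
theorem L116573 : sm ga N12163 = N16182 := rfl
theorem L116575 : sm gd N16182 = N12228 := ded_9_2 (flp_a L96229) (flp_d L95880) L116573
theorem L116577 : sm gc N12163 = N16183 := rfl
theorem L116579 : sm gg N12163 = N16184 := rfl
theorem L116581 : sm gd N16184 = N12230 := ded_24_1 (flp_g L96237) (flp_d L95880) L116579
theorem L116583 : sm gb N16184 = N16051 := ded_17_1 (flp_g L115832) (flp_b L95550) (flp_g L84596) L95878 L116579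
theorem L116585 : sm ga N12164 = N16185 := rfl
theorem L116587 : sm gd N16185 = N12231 := ded_9_2 (flp_a L96243) (flp_d L95884) L116585
theorem L116589 : sm gc N12164 = N16186 := rfl
theorem L116591 : sm gf N12164 = N16187 := rfl
theorem L116593 : sm gd N16187 = N12233 := ded_23_1 (flp_f L96251) (flp_d L95884) L116591
theorem L116595 : sm gg N12164 = N16188 := rfl
theorem L116597 : sm gd N16188 = N12234 := ded_24_1 (flp_g L96255) (flp_d L95884) L116595
theorem L116599 : sm gb N12165 = N16189 := rfl
theorem L116601 : sm gd N12165 = N16190 := rfl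
theorem L116603 : sm ga N16190 = N12167 := ded_9_1 (flp_d L95898) (flp_a L95888) L116601
theorem L116605 : sm gf N12165 = N16191 := rfl
theorem L116607 : sm ga N16191 = N12168 := ded_11_1 (flp_f L95901) (flp_a L95888) L116605
theorem L116609 : sm gc N16191 = N12166 := ded_20_1 (flp_f L95890) L95886 L116605
theorem L116611 : sm gg N16180 = N16191 := ded_29_1 (flp_f L116605) (flp_g L116557) L116555 L116563
theorem L116613 : sm gb N12166 = N16192 := rfl
theorem L116615 : sm gd N16192 = N12238 := ded_14_2 (flp_b L96277) (flp_d L95894) L116613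
theorem L116617 : sm gc N12167 = N16193 := rfl
theorem L116619 : sm ge N12167 = N16194 := rfl
theorem L116621 : sm gb N16194 = N16194 := ded_15_1 (flp_e L116619) L95900 L116619
theorem L116622 : sm gf N12167 = N16195 := rfl
theorem L116624 : sm gd N16195 = N12168 := ded_23_1 (flp_f L95901) L95898 L116622
theorem L116626 : sm gb N12168 = N16196 := rfl
theorem L116628 : sm gc N16196 = N15031 := ded_13_2 (flp_b L110714) L92769 (flp_b L84609) (flp_c L95903) L116626
theorem L116630 : sm gf N16196 = N16196 := ded_16_2 (flp_b L116626) (flp_f L95901) L84604 L95901 L116626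
theorem L116631 : sm gg N12168 = N16197 := rfl
theorem L116633 : sm ga N16197 = N16180 := ded_12_1 L116611 L116607 L116631
theorem L116635 : sm gc N16197 = N12169 := ded_21_1 (flp_g L95905) (flp_c L95903) L116631
theorem L116637 : sm gf N16178 = N16197 := ded_29_0 (flp_g L116631) (flp_f L95901) (flp_g L95872) (flp_a L116555)
theorem L116639 : sm gb N12169 = N16198 := rfl
theorem L116641 : sm gd N16198 = N12243 := ded_14_2 (flp_b L96303) (flp_d L95909) L116639
theorem L116643 : sm gg N16198 = N15033 := ded_17_2 (flp_b L110729) (flp_g L92773) (flp_b L84609) L95905 L116639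
theorem L116645 : sm gb N12172 = N16199 := rfl
theorem L116647 : sm gd N16199 = N12251 := ded_14_2 (flp_b L96347) (flp_d L95921) L116645
theorem L116649 : sm gf N16199 = N12177 := ded_16_2 (flp_b L95941) (flp_f L84619) L84611 L95919 L116645
theorem L116651 : sm gg N12172 = N16200 := rfl
theorem L116653 : sm gc N16200 = N13678 := ded_21_1 L104035 L104031 L116651
theorem L116655 : sm gd N16200 = N12252 := ded_24_1 (flp_g L96353) (flp_d L95921) L116651
theorem L116657 : sm gf N13677 = N16200 := ded_29_0 (flp_g L116651) (flp_f L95919) L95923 (flp_a L103873)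
theorem L116659 : sm gf N12173 = N16201 := rfl
theorem L116661 : sm ga N16201 = N16200 := ded_11_1 (flp_f L116657) L103873 L116659
theorem L116663 : sm gc N16201 = N13708 := ded_20_1 (flp_f L104059) (flp_c L103869) L116659
theorem L116665 : sm gd N16201 = N12253 := ded_23_1 (flp_f L96359) (flp_d L95925) L116659
theorem L116667 : sm gg N16201 = N13706 := ded_29_3 L104039 (flp_f L95919) L95923 L116659
theorem L116669 : sm ga N12174 = N16202 := rfl
theorem L116671 : sm gd N12174 = N16203 := rfl
theorem L116673 : sm gb N16203 = N12175 := ded_14_1 (flp_d L95929) L95927 L116671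
theorem L116675 : sm gf N12174 = N16204 := rfl
theorem L116677 : sm gg N12174 = N16205 := rfl
theorem L116679 : sm ge N12175 = N16206 := rfl
theorem L116681 : sm ga N16206 = N12179 := ded_10_1 (flp_e L95947) (flp_a L95931) L116679
theorem L116683 : sm gf N12175 = N16207 := rfl
theorem L116685 : sm ga N16207 = N12180 := ded_11_1 (flp_f L95950) (flp_a L95931) L116683
theorem L116687 : sm gd N16207 = N12176 := ded_23_1 (flp_f L95933) L95929 L116683
theorem L116689 : sm gg N16073 = N16207 := ded_29_1 (flp_f L116683) (flp_g L115918) L115916 L115928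
theorem L116691 : sm gb N12176 = N16208 := rfl
theorem L116693 : sm ga N12177 = N16209 := rfl
theorem L116695 : sm gd N16209 = N12262 := ded_9_2 (flp_a L96408) (flp_d L95943) L116693
theorem L116697 : sm gc N12177 = N16210 := rfl
theorem L116699 : sm gg N12177 = N16211 := rfl
theorem L116701 : sm gd N16211 = N12264 := ded_24_1 (flp_g L96416) (flp_d L95943) L116699
theorem L116703 : sm gb N16211 = N16077 := ded_17_1 (flp_g L115944) (flp_b L95604) L84625 L95941 L116699
theorem L116705 : sm gb N12178 = N16212 := rfl
theorem L116707 : sm gc N16212 = N16212 := ded_13_2 (flp_b L116705) (flp_c L95945) L84629 L95945 L116705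
theorem L116708 : sm ge N12178 = N16213 := rfl
theorem L116710 : sm gc N16213 = N12179 := ded_19_1 (flp_e L95947) L95945 L116708
theorem L116712 : sm gf N12178 = N16214 := rfl
theorem L116714 : sm gc N16214 = N12180 := ded_20_1 (flp_f L95950) L95945 L116712
theorem L116716 : sm gf N12179 = N16215 := rfl
theorem L116718 : sm ge N16215 = N12180 := ded_25_1 (flp_f L95950) L95947 L116716
theorem L116720 : sm gb N12180 = N16216 := rfl
theorem L116722 : sm gd N16216 = N12181 := ded_14_2 (flp_b L95954) (flp_d L95952) L116720
theorem L116724 : sm gf N16216 = N16216 := ded_16_2 (flp_b L116720) (flp_f L95950) L84629 L95950 L116720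
theorem L116725 : sm gg N12180 = N16217 := rfl
theorem L116727 : sm ga N16217 = N16073 := ded_12_1 L116689 L116685 L116725
theorem L116729 : sm gd N16217 = N12182 := ded_24_1 (flp_g L95957) (flp_d L95952) L116725
theorem L116731 : sm gf N16070 = N16217 := ded_29_0 (flp_g L116725) (flp_f L95950) (flp_g L95598) (flp_a L115916)
theorem L116733 : sm ga N12181 = N16218 := rfl
theorem L116736 : sm gc N12181 = N16219 := rfl
theorem L116738 : sm ge N16219 = N16196 := ded_19_2 L116628 L110716 L116736
theorem L116740 : sm gf N16219 = N16219 := ded_20_2 (flp_c L116736) L95956 L116736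
theorem L116741 : sm gb N16219 = N12184 := ded_13_1 (flp_c L95973) (flp_b L84634) (flp_c L84632) L95954 L116736
theorem L116743 : sm gg N12181 = N16220 := rfl
theorem L116745 : sm gb N12182 = N16221 := rfl
theorem L116747 : sm gb N12183 = N16222 := rfl
theorem L116749 : sm gd N16222 = N12275 := ded_14_2 (flp_b L96486) (flp_d L95967) L116747
theorem L116751 : sm ge N16222 = N16192 := ded_15_2 (flp_b L116613) (flp_e L95969) L116747
theorem L116753 : sm gc N12183 = N16223 := rfl
theorem L116755 : sm ga N16223 = N12184 := ded_8_1 (flp_c L95973) L95965 L116753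
theorem L116757 : sm ge N16223 = N16191 := ded_19_2 L116609 (flp_e L95969) L116753
theorem L116759 : sm gf N16223 = N12188 := ded_20_2 (flp_c L95995) (flp_f L95971) L116753
theorem L116761 : sm gd N12184 = N16224 := rfl
theorem L116763 : sm gf N16224 = N12190 := ded_23_2 (flp_d L96011) (flp_f L95977) L116761
theorem L116765 : sm gg N12184 = N16225 := rfl
theorem L116767 : sm gc N16225 = N12185 := ded_21_1 (flp_g L95979) L95973 L116765
theorem L116769 : sm ge N16225 = N16197 := ded_26_1 (flp_g L116631) (flp_e L95975) L116765
theorem L116771 : sm gb N12185 = N16226 := rfl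
theorem L116773 : sm gd N16226 = N12279 := ded_14_2 (flp_b L96508) (flp_d L95981) L116771
theorem L116775 : sm ge N16226 = N16198 := ded_15_2 (flp_b L116639) (flp_e L95983) L116771
theorem L116777 : sm gg N16226 = N12186 := ded_17_2 (flp_b L95985) (flp_g L84642) L84634 L95979 L116771
theorem L116779 : sm ga N12186 = N16227 := rfl
theorem L116781 : sm gd N16227 = N12280 := ded_9_2 (flp_a L96514) (flp_d L95987) L116779
theorem L116783 : sm gc N12186 = N16228 := rfl
theorem L116785 : sm gf N12186 = N16229 := rfl
theorem L116787 : sm gd N16229 = N12282 := ded_23_1 (flp_f L96522) (flp_d L95987) L116785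
theorem L116789 : sm gb N16229 = N16067 := ded_16_1 (flp_f L115902) (flp_b L95586) L84648 L95985 L116785
theorem L116791 : sm ga N12187 = N16230 := rfl
theorem L116793 : sm gd N16230 = N12283 := ded_9_2 (flp_a L96528) (flp_d L95991) L116791
theorem L116799 : sm gc N12187 = N16231 := rfl
theorem L116803 : sm gf N12187 = N16232 := rfl
theorem L116805 : sm gd N16232 = N12285 := ded_23_1 (flp_f L96538) (flp_d L95991) L116803
theorem L116807 : sm ge N16232 = N16187 := ded_25_1 (flp_f L116591) (flp_e L95993) L116803
theorem L116809 : sm gg N12187 = N16233 := rfl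
theorem L116811 : sm gd N16233 = N12286 := ded_24_1 (flp_g L96542) (flp_d L95991) L116809
theorem L116813 : sm ge N16233 = N16188 := ded_26_1 (flp_g L116595) (flp_e L95993) L116809
theorem L116815 : sm gb N12188 = N16234 := rfl
theorem L116817 : sm ge N16234 = N16189 := ded_15_2 (flp_b L116599) (flp_e L95999) L116815
theorem L116819 : sm gd N12188 = N16235 := rfl
theorem L116821 : sm ga N16235 = N12190 := ded_9_1 (flp_d L96011) (flp_a L95997) L116819
theorem L116823 : sm gg N12188 = N16236 := rfl
theorem L116825 : sm ga N16236 = N12191 := ded_12_1 (flp_g L96014) (flp_a L95997) L116823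
theorem L116827 : sm gc N16236 = N12189 := ded_21_1 (flp_g L96001) L95995 L116823
theorem L116829 : sm ge N16236 = N16178 := ded_26_1 L116557 (flp_e L95999) L116823
theorem L116831 : sm gf N16236 = N16225 := ded_29_2 (flp_g L116765) (flp_a L116755) L116759 L116823
theorem L116833 : sm gb N12189 = N16237 := rfl
theorem L116835 : sm gd N16237 = N12290 := ded_14_2 (flp_b L96564) (flp_d L96005) L116833
theorem L116837 : sm ge N16237 = N16177 := ded_15_2 (flp_b L116549) (flp_e L96007) L116833
theorem L116839 : sm gc N12190 = N16238 := rfl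
theorem L116841 : sm ge N12190 = N16239 := rfl
theorem L116843 : sm gb N16239 = N16239 := ded_15_1 (flp_e L116841) L96013 L116841
theorem L116844 : sm gd N16239 = N16194 := ded_22_1 (flp_e L116619) (flp_d L95898) (flp_e L84658) L96011 L116841
theorem L116846 : sm gg N12190 = N16240 := rfl
theorem L116848 : sm gd N16240 = N12191 := ded_24_1 (flp_g L96014) L96011 L116846
theorem L116850 : sm gb N12191 = N16241 := rfl
theorem L116852 : sm ge N16241 = N16174 := ded_15_2 L116543 (flp_e L96018) L116850
theorem L116854 : sm gc N16241 = N15019 := ded_13_2 (flp_b L110646) L92728 (flp_b L84667) (flp_c L96016) L116850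
theorem L116856 : sm gg N16241 = N16241 := ded_17_2 (flp_b L116850) (flp_g L96014) L84660 L96014 L116850
theorem L116857 : sm gf N12191 = N16242 := rfl
theorem L116859 : sm ga N16242 = N16225 := ded_11_1 (flp_f L116831) L116825 L116857
theorem L116861 : sm gc N16242 = N12192 := ded_20_1 (flp_f L96020) (flp_c L96016) L116857
theorem L116863 : sm ge N16242 = N16180 := ded_25_1 (flp_f L116563) (flp_e L96018) L116857
theorem L116865 : sm gg N16242 = N16223 := ded_29_3 L116755 L95977 L96014 L116857
theorem L116867 : sm gb N12192 = N16243 := rfl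
theorem L116869 : sm gd N16243 = N12295 := ded_14_2 (flp_b L96590) (flp_d L96024) L116867
theorem L116871 : sm ge N16243 = N16181 := ded_15_2 (flp_b L116567) (flp_e L96026) L116867
theorem L116873 : sm gf N16243 = N15021 := ded_16_2 (flp_b L110661) (flp_f L92732) (flp_b L84667) L96020 L116867
theorem L116875 : sm gb N12193 = N16244 := rfl
theorem L116877 : sm ge N16244 = N12494 := ded_15_2 (flp_b L97544) (flp_e L96034) L116875
theorem L116879 : sm gf N16244 = N15930 := ded_16_2 (flp_b L115190) (flp_f L110735) L92787 L96030 L116875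
theorem L116881 : sm ga N16244 = N14916 := ded_7_1 (flp_b L110049) L92420 L92442 (flp_a L92511) (flp_b L107745) L107739 L95626 (flp_a L96032) L116875
theorem L116883 : sm gb N12194 = N16245 := rfl
theorem L116885 : sm ge N16245 = N12495 := ded_15_2 (flp_b L97552) (flp_e L96040) L116883
theorem L116887 : sm gf N16017 = N16245 := ded_25_0 L116885 L97919 (flp_e L115659)
theorem L116889 : sm gd N12195 = N16246 := rfl
theorem L116891 : sm gb N16246 = N12196 := ded_14_1 (flp_d L96048) L96042 L116889
theorem L116893 : sm gc N16246 = N13435 := ded_32_19 L102657 (flp_d L88444) (flp_c L36859) L17658 (flp_c L69451) L18483 L18485 L9011 L64622 (flp_d L9011) (flp_c L69429) (flp_b L8533) L4357 L2274 (flp_d L2596) L2595 L70309 L2596 (flp_c L2274) (flp_d L4357) L4355 L4405 L4407 L4477 L8759 (flp_c L69556) L4695 (flp_d L2502) (flp_c L1264) L574 L334 L727 L729 (flp_d L1498) L53588 L1498 L65176 (flp_b L497) (flp_d L489) (flp_c L1039) (flp_d L2069) L66699 L67069 L2069 L1039 L489 (flp_c L65199) L255 (flp_d L574) L1264 L2502 L2506 (flp_b L2853) (flp_d L2851) (flp_c L1454) (flp_d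 L1420) L2763 L2765 (flp_e L3157) (flp_d L81121) (flp_c L12119) (flp_d L80344) (flp_c L25180) (flp_b L25036) (flp_d L25034) (flp_c L12059) (flp_d L12031) L24988 L24990 L84577 L95844 L96103 (flp_c L96099) (flp_b L96089) (flp_d L96087) (flp_c L96046) L116889
theorem L116895 : sm gd N12202 = N13425 := ded_28_1 (flp_c L102607) L88382 L88412 L102655 (flp_c L116893) (flp_d L116889) (flp_a L111073) (flp_c L111075)
theorem L116897 : sm ga N12203 = N13425 := ded_28_8 (flp_c L102607) L88382 L88412 L102655 (flp_c L116893) (flp_d L116889) L96046 L96087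
theorem L116899 : sm gc N13424 = N12203 := ded_28_0 (flp_d L96087) (flp_c L96046) L116889 L116893 (flp_d L102655) (flp_c L88412) (flp_d L88382) L102603
theorem L116901 : sm gf N12195 = N16247 := rfl
theorem L116903 : sm gc N16247 = N12204 := ded_20_1 (flp_f L96091) (flp_c L96046) L116901
theorem L116905 : sm ge N16247 = N12497 := ded_25_1 (flp_f L97558) (flp_e L96044) L116901
theorem L116907 : sm gg N12195 = N16248 := rfl
theorem L116909 : sm gc N16248 = N12205 := ded_21_1 (flp_g L96095) (flp_c L96046) L116907
theorem L116911 : sm ge N16248 = N12498 := ded_26_1 (flp_g L97562) (flp_e L96044) L116907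
theorem L116913 : sm ge N12196 = N16249 := rfl
theorem L116915 : sm gc N16249 = N13720 := ded_19_1 (flp_e L104119) (flp_c L96147) L116913
theorem L116917 : sm gd N16249 = N12499 := ded_22_1 (flp_e L97566) (flp_d L85400) (flp_e L84675) L96048 L116913
theorem L116919 : sm gf N12196 = N16250 := rfl
theorem L116921 : sm gc N16250 = N13682 := ded_20_1 L103901 (flp_c L96147) L116919
theorem L116923 : sm gd N16250 = N12197 := ded_23_1 (flp_f L96050) L96048 L116919
theorem L116925 : sm gg N12196 = N16251 := rfl
theorem L116927 : sm gc N16251 = N13721 := ded_21_1 (flp_g L104125) (flp_c L96147) L116925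
theorem L116929 : sm gd N16251 = N12198 := ded_24_1 (flp_g L96056) L96048 L116925
theorem L116931 : sm gb N12197 = N16252 := rfl
theorem L116933 : sm ge N16252 = N12502 := ded_15_2 (flp_b L97579) (flp_e L96054) L116931
theorem L116935 : sm gg N12197 = N16253 := rfl
theorem L116937 : sm gc N16253 = N12199 := ded_21_1 (flp_g L96062) (flp_c L96052) L116935
theorem L116939 : sm ge N16253 = N12503 := ded_26_1 (flp_g L97581) (flp_e L96054) L116935
theorem L116941 : sm gf N15041 = N16253 := ded_29_0 (flp_g L116935) (flp_f L96050) L96056 (flp_a L110791)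
theorem L116943 : sm gb N12198 = N16254 := rfl
theorem L116945 : sm ge N16254 = N12504 := ded_15_2 (flp_b L97587) (flp_e L96060) L116943
theorem L116947 : sm gf N12198 = N16255 := rfl
theorem L116949 : sm ga N16255 = N16253 := ded_11_1 (flp_f L116941) L110791 L116947
theorem L116951 : sm gc N16255 = N12201 := ded_20_1 (flp_f L96074) (flp_c L96058) L116947
theorem L116953 : sm ge N16255 = N12505 := ded_25_1 (flp_f L97589) (flp_e L96060) L116947
theorem L116955 : sm gg N16255 = N15040 := ded_29_3 L110783 (flp_f L96050) L96056 L116947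
theorem L116957 : sm gb N12199 = N16256 := rfl
theorem L116959 : sm ge N16256 = N12506 := ded_15_2 (flp_b L97597) (flp_e L96064) L116957
theorem L116961 : sm gf N16256 = N14991 := ded_16_2 (flp_b L115661) L116887 (flp_b L116883) L96066 L116957
theorem L116963 : sm ga N14993 = N16256 := ded_10_3 L116959 (flp_a L97917) (flp_e L110509)
theorem L116965 : sm ga N12200 = N16257 := rfl
theorem L116967 : sm ge N16257 = N12507 := ded_10_2 (flp_a L97599) (flp_e L96070) L116965
theorem L116969 : sm gg N16257 = N12210 := ded_12_2 (flp_a L96123) (flp_g L96072) L116965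
theorem L116971 : sm gf N16257 = N15004 := ded_29_0 (flp_g L110565) (flp_f L96131) (flp_g L96072) L116965
theorem L116973 : sm gc N12200 = N16258 := rfl
theorem L116975 : sm ge N16258 = N12508 := ded_19_2 (flp_c L97607) (flp_e L96070) L116973
theorem L116977 : sm gg N16258 = N12211 := ded_21_2 (flp_c L96127) (flp_g L96072) L116973
theorem L116979 : sm gf N12200 = N16259 := rfl
theorem L116981 : sm ga N16259 = N15004 := ded_11_1 (flp_f L116971) (flp_a L116965) L116979
theorem L116983 : sm ge N16259 = N12509 := ded_25_1 (flp_f L97611) (flp_e L96070) L116979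
theorem L116985 : sm gb N12201 = N16260 := rfl
theorem L116987 : sm ge N16260 = N12510 := ded_15_2 (flp_b L97617) (flp_e L96078) L116985
theorem L116989 : sm ga N16260 = N12264 := ded_7_1 L96420 (flp_a L95806) L116439 (flp_a L116445) L111067 L116963 (flp_b L116957) (flp_a L96076) L116985
theorem L116991 : sm gg N12262 = N16260 := ded_26_0 L116987 (flp_g L98081) (flp_e L96410)
theorem L116993 : sm gf N12202 = N16261 := rfl
theorem L116995 : sm ga N16261 = N12204 := ded_11_1 (flp_f L96091) L96082 L116993
theorem L116997 : sm ge N16261 = N12512 := ded_25_1 (flp_f L97624) (flp_e L96084) L116993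
theorem L116999 : sm gg N12202 = N16262 := rfl
theorem L117001 : sm ga N16262 = N12205 := ded_12_1 (flp_g L96095) L96082 L116999
theorem L117003 : sm ge N16262 = N12513 := ded_26_1 (flp_g L97628) (flp_e L96084) L116999
theorem L117005 : sm ge N12203 = N16263 := rfl
theorem L117007 : sm gb N16263 = N12207 := ded_15_1 (flp_e L96105) (flp_b L96089) L117005
theorem L117009 : sm gd N16263 = N12515 := ded_22_1 (flp_e L97634) (flp_d L85427) (flp_e L84687) L96087 L117005
theorem L117011 : sm gf N12203 = N16264 := rfl
theorem L117013 : sm gd N16264 = N12204 := ded_23_1 (flp_f L96091) L96087 L117011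
theorem L117015 : sm gg N12203 = N16265 := rfl
theorem L117017 : sm gd N16265 = N12205 := ded_24_1 (flp_g L96095) L96087 L117015
theorem L117019 : sm gg N12204 = N16266 := rfl
theorem L117021 : sm ge N16266 = N12518 := ded_26_1 (flp_g L97646) (flp_e L96093) L117019
theorem L117023 : sm gf N16262 = N16266 := ded_29_0 (flp_g L117019) (flp_f L96091) L96095 (flp_a L117001)
theorem L117025 : sm gb N12205 = N16267 := rfl
theorem L117027 : sm ge N16267 = N12519 := ded_15_2 (flp_b L97650) (flp_e L96097) L117025
theorem L117029 : sm gg N16267 = N12209 := ded_17_2 (flp_b L96119) (flp_g L84693) L84685 L96095 L117025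
theorem L117031 : sm gf N12205 = N16268 := rfl
theorem L117033 : sm ga N16268 = N16266 := ded_11_1 (flp_f L117023) L117001 L117031
theorem L117035 : sm ge N16268 = N12520 := ded_25_1 (flp_f L97654) (flp_e L96097) L117031
theorem L117037 : sm gg N16268 = N16261 := ded_29_3 L116995 (flp_f L96091) L96095 L117031
theorem L117039 : sm gb N12206 = N16269 := rfl
theorem L117041 : sm gd N16269 = N16167 := ded_14_2 (flp_b L116505) L96103 L117039
theorem L117043 : sm ge N12206 = N16270 := rfl
theorem L117045 : sm ga N16270 = N12215 := ded_10_1 (flp_e L96159) (flp_a L96101) L117043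
theorem L117047 : sm gc N16270 = N12207 := ded_19_1 (flp_e L96105) L96099 L117043
theorem L117049 : sm gf N16270 = N13358 := ded_25_2 L116055 L116018 L117043
theorem L117051 : sm gd N13897 = N16270 := ded_9_0 L117045 L116064 (flp_a L105021)
theorem L117053 : sm gg N12206 = N16271 := rfl
theorem L117055 : sm ga N16271 = N12216 := ded_12_1 (flp_g L96163) (flp_a L96101) L117053
theorem L117057 : sm gc N16271 = N12208 := ded_21_1 (flp_g L96111) L96099 L117053
theorem L117059 : sm gd N16271 = N16169 := ded_24_1 (flp_g L116512) L96103 L117053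
theorem L117061 : sm gf N16271 = N16094 := ded_29_2 (flp_g L116084) (flp_a L116016) L116018 L117053
theorem L117063 : sm gg N12207 = N16272 := rfl
theorem L117065 : sm ga N16272 = N12217 := ded_12_1 (flp_g L96167) (flp_a L96107) L117063
theorem L117067 : sm gd N16272 = N12524 := ded_24_1 (flp_g L97680) (flp_d L96109) L117063
theorem L117069 : sm ge N16272 = N12208 := ded_26_1 (flp_g L96111) L96105 L117063
theorem L117071 : sm gf N16272 = N16095 := ded_29_2 (flp_g L116090) (flp_a L116024) L116026 L117063
theorem L117073 : sm gb N12208 = N16273 := rfl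
theorem L117075 : sm gd N16273 = N12209 := ded_14_2 (flp_b L96119) (flp_d L96115) L117073
theorem L117077 : sm ga N12209 = N16274 := rfl
theorem L117079 : sm ge N16274 = N12526 := ded_10_2 (flp_a L97692) (flp_e L96121) L117077
theorem L117081 : sm gc N12209 = N16275 := rfl
theorem L117083 : sm ge N16275 = N12527 := ded_19_2 (flp_c L97694) (flp_e L96121) L117081
theorem L117085 : sm gb N16275 = N12211 := ded_13_1 (flp_c L96127) (flp_b L84703) (flp_c L84697) L96119 L117081
theorem L117087 : sm gf N12209 = N16276 := rfl
theorem L117089 : sm ge N16276 = N12528 := ded_25_1 (flp_f L97698) (flp_e L96121) L117087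
theorem L117091 : sm gb N16276 = N16099 := ded_16_1 (flp_f L116115) (flp_b L95657) (flp_f L84701) L96119 L117087
theorem L117093 : sm gb N12210 = N16277 := rfl
theorem L117095 : sm ge N16277 = N12529 := ded_15_2 (flp_b L97702) (flp_e L96125) L117093
theorem L117097 : sm gg N15935 = N16277 := ded_26_0 L117095 (flp_g L98113) (flp_e L115212)
theorem L117099 : sm gc N12210 = N16278 := rfl
theorem L117101 : sm ga N16278 = N12211 := ded_8_1 (flp_c L96127) L96123 L117099
theorem L117103 : sm ge N16278 = N12530 := ded_19_2 (flp_c L97704) (flp_e L96125) L117099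
theorem L117105 : sm gf N12210 = N16279 := rfl
theorem L117107 : sm ga N16279 = N12212 := ded_11_1 (flp_f L96131) L96123 L117105
theorem L117109 : sm ge N16279 = N12531 := ded_25_1 (flp_f L97708) (flp_e L96125) L117105
theorem L117111 : sm gg N16279 = N16259 := ded_29_3 L116981 (flp_f L116971) L116969 L117105
theorem L117113 : sm gb N12252 = N16279 := ded_15_3 L117109 (flp_b L97714) (flp_e L96355)
theorem L117115 : sm gd N12211 = N16280 := rfl
theorem L117117 : sm gf N12211 = N16281 := rfl
theorem L117119 : sm gc N16281 = N12212 := ded_20_1 (flp_f L96131) L96127 L117117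
theorem L117121 : sm ge N16281 = N12533 := ded_25_1 (flp_f L97718) (flp_e L96129) L117117
theorem L117123 : sm ga N12213 = N16282 := rfl
theorem L117125 : sm gc N16282 = N12296 := ded_8_2 (flp_a L96596) (flp_c L96139) L117123
theorem L117127 : sm gd N12213 = N16283 := rfl
theorem L117129 : sm gb N16283 = N12214 := ded_14_1 (flp_d L96141) L96137 L117127
theorem L117131 : sm ge N12213 = N16284 := rfl
theorem L117133 : sm gb N16284 = N12215 := ded_15_1 (flp_e L96159) L96137 L117131
theorem L117135 : sm gc N16284 = N12297 := ded_19_1 (flp_e L96600) (flp_c L96139) L117131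
theorem L117137 : sm gd N13862 = N16284 := ded_14_0 L117133 L116064 (flp_b L104893)
theorem L117139 : sm gf N13348 = N16284 := ded_16_0 L117133 L116066 (flp_b L88166) (flp_f L88139) L102247
theorem L117141 : sm gf N12213 = N16285 := rfl
theorem L117143 : sm gc N16285 = N12298 := ded_20_1 (flp_f L96606) (flp_c L96139) L117141
theorem L117145 : sm ge N16285 = N13348 := ded_25_1 L117139 (flp_e L117131) L117141
theorem L117147 : sm gb N16285 = N13315 := ded_16_1 L101958 L116052 L95644 L96137 L117141
theorem L117149 : sm gg N12213 = N16286 := rfl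
theorem L117151 : sm gc N16286 = N12218 := ded_21_1 L96177 (flp_c L96139) L117149
theorem L117153 : sm ge N12214 = N16287 := rfl
theorem L117155 : sm ga N16287 = N16168 := ded_10_1 (flp_e L116508) (flp_a L96143) L117153
theorem L117157 : sm gc N16287 = N16160 := ded_19_1 L116479 L96145 L117153
theorem L117159 : sm gf N16287 = N13696 := ded_25_2 (flp_e L116041) L116037 L117153
theorem L117161 : sm gd N16287 = N13714 := ded_22_1 L104091 (flp_d L116064) (flp_e L96159) L96141 L117153
theorem L117163 : sm gg N12214 = N16288 := rfl
theorem L117165 : sm ga N16288 = N16169 := ded_12_1 (flp_g L116512) (flp_a L96143) L117163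
theorem L117167 : sm gc N16288 = N16162 := ded_21_1 (flp_g L116483) L96145 L117163
theorem L117169 : sm gd N16288 = N12216 := ded_24_1 (flp_g L96163) L96141 L117163
theorem L117171 : sm gg N12215 = N16289 := rfl
theorem L117173 : sm gc N16289 = N12217 := ded_21_1 (flp_g L96167) (flp_c L96161) L117171
theorem L117175 : sm gd N16289 = N13903 := ded_24_1 (flp_g L105041) (flp_d L116064) L117171
theorem L117177 : sm ge N16289 = N12216 := ded_26_1 (flp_g L96163) L96159 L117171
theorem L117179 : sm gb N12216 = N16290 := rfl
theorem L117181 : sm gf N12216 = N16291 := rfl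
theorem L117183 : sm ga N16291 = N16094 := ded_11_1 (flp_f L117061) L117055 L117181
theorem L117185 : sm gc N16291 = N12219 := ded_20_1 (flp_f L96179) (flp_c L96165) L117181
theorem L117187 : sm gg N16291 = N16090 := ded_29_3 L116016 L95644 L96163 L117181
theorem L117189 : sm gb N12217 = N16292 := rfl
theorem L117191 : sm gd N16292 = N12540 := ded_14_2 (flp_b L97757) (flp_d L96169) L117189
theorem L117193 : sm ge N16292 = N12218 := ded_15_2 (flp_b L96173) (flp_e L96171) L117189
theorem L117195 : sm gg N16292 = N12297 := ded_17_2 L96602 L84923 (flp_b L84711) L96167 L117189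
theorem L117197 : sm gf N12217 = N16293 := rfl
theorem L117199 : sm ga N16293 = N16095 := ded_11_1 (flp_f L117071) L117065 L117197
theorem L117201 : sm gd N16293 = N12541 := ded_23_1 (flp_f L97763) (flp_d L96169) L117197
theorem L117203 : sm ge N16293 = N12219 := ded_25_1 (flp_f L96179) (flp_e L96171) L117197
theorem L117205 : sm gg N16293 = N16091 := ded_29_3 L116024 L95649 L96167 L117197
theorem L117207 : sm ga N12218 = N16294 := rfl
theorem L117209 : sm gd N16294 = N12220 := ded_9_2 (flp_a L96187) (flp_d L96175) L117207
theorem L117211 : sm gg N16294 = N12296 := ded_12_2 (flp_a L96596) (flp_g L96177) L117207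
theorem L117213 : sm gf N12218 = N16295 := rfl
theorem L117215 : sm gd N16295 = N12221 := ded_23_1 (flp_f L96193) (flp_d L96175) L117213
theorem L117217 : sm gb N12219 = N16296 := rfl
theorem L117219 : sm gd N16296 = N12222 := ded_14_2 (flp_b L96197) (flp_d L96183) L117217
theorem L117221 : sm gb N12220 = N16297 := rfl
theorem L117223 : sm ge N16297 = N12546 := ded_15_2 (flp_b L97789) (flp_e L96189) L117221
theorem L117225 : sm gb N12221 = N16298 := rfl
theorem L117227 : sm ge N16298 = N12550 := ded_15_2 (flp_b L97807) (flp_e L96195) L117225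
theorem L117229 : sm gf N16298 = N12222 := ded_16_2 (flp_b L96197) (flp_f L84725) L84719 L96193 L117225
theorem L117231 : sm ga N12222 = N16299 := rfl
theorem L117233 : sm ge N16299 = N12551 := ded_10_2 (flp_a L97811) (flp_e L96199) L117231
theorem L117235 : sm gc N12222 = N16300 := rfl
theorem L117237 : sm ge N16300 = N12552 := ded_19_2 (flp_c L97813) (flp_e L96199) L117235
theorem L117239 : sm gb N16300 = N12229 := ded_13_1 (flp_c L96233) (flp_b L84751) (flp_c L84729) L96197 L117235
theorem L117241 : sm gg N12222 = N16301 := rfl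
theorem L117243 : sm ge N16301 = N12553 := ded_26_1 (flp_g L97817) (flp_e L96199) L117241
theorem L117245 : sm gb N16301 = N16089 := ded_17_1 (flp_g L116010) (flp_b L95632) (flp_g L84733) L96197 L117241
theorem L117247 : sm ga N12223 = N16302 := rfl
theorem L117249 : sm ge N16302 = N12554 := ded_10_2 (flp_a L97821) (flp_e L96203) L117247
theorem L117251 : sm gf N14923 = N16302 := ded_25_0 L117249 (flp_f L98489) (flp_e L110105)
theorem L117253 : sm gc N12223 = N16303 := rfl
theorem L117255 : sm ge N16303 = N12555 := ded_19_2 (flp_c L97823) (flp_e L96203) L117253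
theorem L117257 : sm gf N12223 = N16304 := rfl
theorem L117259 : sm ga N16304 = N14923 := ded_11_1 L117251 (flp_a L117247) L117257
theorem L117261 : sm ge N16304 = N12556 := ded_25_1 (flp_f L97825) (flp_e L96203) L117257
theorem L117263 : sm gg N16140 = N16304 := ded_26_0 L117261 L98075 (flp_e L116353)
theorem L117265 : sm gg N12223 = N16305 := rfl
theorem L117267 : sm ge N16305 = N12557 := ded_26_1 (flp_g L97827) (flp_e L96203) L117265
theorem L117269 : sm gb N16305 = N12234 := ded_17_1 (flp_g L96255) (flp_b L84755) (flp_g L84739) L96201 L117265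
theorem L117271 : sm gb N12224 = N16306 := rfl
theorem L117273 : sm ge N16306 = N12558 := ded_15_2 (flp_b L97831) (flp_e L96209) L117271
theorem L117275 : sm gd N12224 = N16307 := rfl
theorem L117277 : sm ga N16307 = N12225 := ded_9_1 (flp_d L96213) (flp_a L96207) L117275
theorem L117279 : sm gg N16307 = N12236 := ded_24_2 (flp_d L96263) (flp_g L96211) L117275
theorem L117281 : sm gc N12225 = N16308 := rfl
theorem L117283 : sm gg N16308 = N12239 := ded_21_2 (flp_c L96281) (flp_g L96215) L117281
theorem L117285 : sm ge N12225 = N16309 := rfl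
theorem L117287 : sm gg N16309 = N12240 := ded_26_2 (flp_e L96283) (flp_g L96215) L117285
theorem L117289 : sm gd N16309 = N12561 := ded_22_1 (flp_e L97843) (flp_d L85519) (flp_e L84743) L96213 L117285
theorem L117291 : sm gf N12225 = N16310 := rfl
theorem L117293 : sm gd N16310 = N12226 := ded_23_1 (flp_f L96217) L96213 L117291
theorem L117295 : sm gb N12226 = N16311 := rfl
theorem L117297 : sm ge N16311 = N12563 := ded_15_2 (flp_b L97851) (flp_e L96221) L117295
theorem L117299 : sm ga N12227 = N16312 := rfl
theorem L117301 : sm ge N16312 = N12564 := ded_10_2 (flp_a L97853) (flp_e L96225) L117299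
theorem L117303 : sm gf N16312 = N12228 := ded_11_2 (flp_a L96229) (flp_f L96227) L117299
theorem L117305 : sm gb N16123 = N16312 := ded_15_3 L117301 L97883 (flp_e L116257)
theorem L117307 : sm gc N12227 = N16313 := rfl
theorem L117309 : sm ge N16313 = N12565 := ded_19_2 (flp_c L97857) (flp_e L96225) L117307
theorem L117311 : sm gf N16313 = N12229 := ded_20_2 (flp_c L96233) (flp_f L96227) L117307
theorem L117313 : sm gg N12227 = N16314 := rfl
theorem L117315 : sm ge N16314 = N12566 := ded_26_1 (flp_g L97861) (flp_e L96225) L117313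
theorem L117317 : sm gb N16314 = N15970 := ded_17_1 (flp_g L115427) (flp_b L96277) (flp_g L84771) L96223 L117313
theorem L117319 : sm gc N12228 = N16315 := rfl
theorem L117321 : sm ga N16315 = N12229 := ded_8_1 (flp_c L96233) L96229 L117319
theorem L117323 : sm ge N16315 = N12568 := ded_19_2 (flp_c L97865) (flp_e L96231) L117319
theorem L117325 : sm gg N12228 = N16316 := rfl
theorem L117327 : sm ga N16316 = N12230 := ded_12_1 (flp_g L96237) L96229 L117325
theorem L117329 : sm ge N16316 = N12569 := ded_26_1 (flp_g L97869) (flp_e L96231) L117325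
theorem L117331 : sm gf N16316 = N16314 := ded_29_2 (flp_g L117313) L117299 L117303 L117325
theorem L117333 : sm gb N16316 = N14990 := ded_17_1 (flp_g L110491) L92657 L110246 (flp_b L110254) L117325
theorem L117335 : sm gd N12229 = N16317 := rfl
theorem L117337 : sm gg N12229 = N16318 := rfl
theorem L117339 : sm gc N16318 = N12230 := ded_21_1 (flp_g L96237) L96233 L117337
theorem L117341 : sm ge N16318 = N12571 := ded_26_1 (flp_g L97923) (flp_e L96235) L117337
theorem L117343 : sm gf N12230 = N16319 := rfl
theorem L117345 : sm ga N16319 = N16314 := ded_11_1 (flp_f L117331) L117327 L117343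
theorem L117347 : sm ge N16319 = N12572 := ded_25_1 (flp_f L97927) (flp_e L96239) L117343
theorem L117349 : sm gg N16319 = N16312 := ded_29_3 (flp_a L117299) L96227 L96237 L117343
theorem L117351 : sm gc N12231 = N16320 := rfl
theorem L117353 : sm ga N16320 = N12232 := ded_8_1 (flp_c L96247) L96243 L117351
theorem L117355 : sm ge N16320 = N12573 := ded_19_2 (flp_c L97933) (flp_e L96245) L117351
theorem L117357 : sm gf N12231 = N16321 := rfl
theorem L117359 : sm ga N16321 = N12233 := ded_11_1 (flp_f L96251) L96243 L117357
theorem L117361 : sm ge N16321 = N12574 := ded_25_1 (flp_f L97937) (flp_e L96245) L117357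
theorem L117363 : sm gg N12231 = N16322 := rfl
theorem L117365 : sm ga N16322 = N12234 := ded_12_1 (flp_g L96255) L96243 L117363
theorem L117367 : sm ge N16322 = N12575 := ded_26_1 (flp_g L97941) (flp_e L96245) L117363
theorem L117369 : sm gf N16322 = N16021 := ded_29_2 (flp_g L115685) (flp_a L117359) (flp_f L117357) L117363
theorem L117371 : sm gb N16016 = N16322 := ded_15_3 L117367 (flp_b L97975) (flp_e L115653)
theorem L117373 : sm gb N12232 = N16323 := rfl
theorem L117375 : sm ge N16323 = N12576 := ded_15_2 (flp_b L97945) (flp_e L96249) L117373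
theorem L117377 : sm gc N16323 = N12235 := ded_13_2 (flp_b L96259) (flp_c L84759) L84755 L96247 L117373
theorem L117379 : sm gd N12232 = N16324 := rfl
theorem L117381 : sm gf N12232 = N16325 := rfl
theorem L117383 : sm gc N16325 = N12233 := ded_20_1 (flp_f L96251) L96247 L117381
theorem L117385 : sm ge N16325 = N12578 := ded_25_1 (flp_f L97951) (flp_e L96249) L117381
theorem L117387 : sm gg N12232 = N16326 := rfl
theorem L117389 : sm gc N16326 = N12234 := ded_21_1 (flp_g L96255) L96247 L117387
theorem L117391 : sm ge N16326 = N12579 := ded_26_1 (flp_g L97955) (flp_e L96249) L117387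
theorem L117393 : sm gb N12233 = N16327 := rfl
theorem L117395 : sm ge N16327 = N12580 := ded_15_2 (flp_b L97959) (flp_e L96253) L117393
theorem L117397 : sm gf N16327 = N12238 := ded_16_2 (flp_b L96277) (flp_f L84765) L84755 L96251 L117393
theorem L117399 : sm gg N16327 = N15969 := ded_17_2 (flp_b L115417) L95477 L115681 (flp_g L115685) L117393
theorem L117401 : sm gf N12234 = N16328 := rfl
theorem L117403 : sm ga N16328 = N16021 := ded_11_1 (flp_f L117369) L117365 L117401
theorem L117405 : sm ge N16328 = N12581 := ded_25_1 (flp_f L97977) (flp_e L96257) L117401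
theorem L117407 : sm gg N16328 = N16321 := ded_29_3 L117359 (flp_f L96251) L96255 L117401
theorem L117409 : sm gb N16328 = N14940 := ded_31_2 (flp_g L110192) (flp_f L92515) (flp_b L107745) (flp_g L115994) (flp_f L115986) (flp_b L96241) (flp_g L96237) (flp_f L96227) (flp_b L96223) L84771 (flp_f L84765) L84755 L96255 L117401
theorem L117411 : sm ga N12235 = N16329 := rfl
theorem L117413 : sm ge N16329 = N12582 := ded_10_2 (flp_a L97989) (flp_e L96261) L117411
theorem L117415 : sm gd N12235 = N16330 := rfl
theorem L117417 : sm gb N16330 = N12236 := ded_14_1 (flp_d L96263) L96259 L117415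
theorem L117419 : sm gf N12235 = N16331 := rfl
theorem L117421 : sm ge N16331 = N12584 := ded_25_1 (flp_f L97995) (flp_e L96261) L117419
theorem L117423 : sm gg N12235 = N16332 := rfl
theorem L117425 : sm ge N16332 = N12585 := ded_26_1 (flp_g L97997) (flp_e L96261) L117423
theorem L117427 : sm gc N12236 = N16333 := rfl
theorem L117429 : sm ga N16333 = N12239 := ded_8_1 (flp_c L96281) (flp_a L96265) L117427
theorem L117431 : sm gd N16193 = N16333 := ded_28_1 (flp_c L117427) (flp_d L96263) (flp_c L84759) (flp_d L84600) L95886 L116601 L116603 L116617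
theorem L117433 : sm ge N12236 = N16334 := rfl
theorem L117435 : sm ga N16334 = N12240 := ded_10_1 (flp_e L96283) (flp_a L96265) L117433
theorem L117437 : sm gd N16334 = N12587 := ded_22_1 (flp_e L98005) (flp_d L85549) (flp_e L84763) L96263 L117433
theorem L117439 : sm gf N12236 = N16335 := rfl
theorem L117441 : sm ga N16335 = N12241 := ded_11_1 (flp_f L96289) (flp_a L96265) L117439
theorem L117443 : sm gd N16335 = N12237 := ded_23_1 (flp_f L96267) L96263 L117439
theorem L117445 : sm gg N16310 = N16335 := ded_29_1 (flp_f L117439) (flp_g L117279) L117277 L117291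
theorem L117447 : sm gb N12237 = N16336 := rfl
theorem L117449 : sm ge N16336 = N12589 := ded_15_2 (flp_b L98017) (flp_e L96273) L117447
theorem L117451 : sm gc N12238 = N16337 := rfl
theorem L117453 : sm ge N16337 = N12590 := ded_19_2 (flp_c L98019) (flp_e L96279) L117451
theorem L117455 : sm gb N12239 = N16338 := rfl
theorem L117457 : sm gc N16338 = N12310 := ded_13_2 (flp_b L96679) (flp_c L84964) (flp_b L84775) L96281 L117455
theorem L117459 : sm gd N12239 = N16339 := rfl
theorem L117461 : sm ga N16339 = N16193 := ded_9_1 L117431 L117429 L117459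
theorem L117463 : sm gc N16190 = N16339 := ded_28_0 (flp_d L117459) (flp_c L96281) (flp_d L84773) (flp_c L25062) (flp_d L24997) L84602 L95898 (flp_a L116603)
theorem L117465 : sm ge N12239 = N16340 := rfl
theorem L117467 : sm gc N16340 = N12240 := ded_19_1 (flp_e L96283) L96281 L117465
theorem L117469 : sm gf N12239 = N16341 := rfl
theorem L117471 : sm gc N16341 = N12241 := ded_20_1 (flp_f L96289) L96281 L117469
theorem L117473 : sm gf N12240 = N16342 := rfl
theorem L117475 : sm gd N16342 = N12595 := ded_23_1 (flp_f L98039) (flp_d L96287) L117473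
theorem L117477 : sm ge N16342 = N12241 := ded_25_1 (flp_f L96289) L96283 L117473
theorem L117479 : sm gg N12241 = N16343 := rfl
theorem L117481 : sm ga N16343 = N16310 := ded_12_1 L117445 L117441 L117479
theorem L117483 : sm gd N16343 = N12242 := ded_24_1 (flp_g L96293) (flp_d L96291) L117479
theorem L117485 : sm gf N16307 = N16343 := ded_29_0 (flp_g L117479) (flp_f L96289) (flp_g L96215) (flp_a L117277)
theorem L117487 : sm gb N12242 = N16344 := rfl
theorem L117489 : sm ge N16344 = N12597 := ded_15_2 (flp_b L98051) (flp_e L96299) L117487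
theorem L117491 : sm ga N12243 = N16345 := rfl
theorem L117493 : sm ge N16345 = N12598 := ded_10_2 (flp_a L98053) (flp_e L96305) L117491
theorem L117495 : sm gg N16345 = N15085 := ded_12_2 (flp_a L111053) (flp_g L96307) L117491
theorem L117497 : sm gc N12243 = N16346 := rfl
theorem L117499 : sm ge N16346 = N12599 := ded_19_2 (flp_c L98057) (flp_e L96305) L117497
theorem L117501 : sm gg N16346 = N15086 := ded_21_2 (flp_c L111059) (flp_g L96307) L117497
theorem L117503 : sm gf N12243 = N16347 := rfl
theorem L117505 : sm ge N16347 = N12600 := ded_25_1 (flp_f L98061) (flp_e L96305) L117503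
theorem L117507 : sm gg N16347 = N16155 := ded_29_3 (flp_a L116445) (flp_f L111063) (flp_g L96307) L117503
theorem L117509 : sm gb N16347 = N16304 := ded_16_1 (flp_f L117257) (flp_b L96201) L84789 L96303 L117503
theorem L117511 : sm gb N12245 = N16348 := rfl
theorem L117513 : sm ge N16348 = N12605 := ded_15_2 (flp_b L98101) (flp_e L96319) L117511
theorem L117515 : sm gg N16003 = N16348 := ded_26_0 L117513 L98115 (flp_e L115579)
theorem L117517 : sm gb N12246 = N16349 := rfl
theorem L117519 : sm ge N16349 = N12606 := ded_15_2 (flp_b L98103) (flp_e L96325) L117517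
theorem L117521 : sm gf N16349 = N16277 := ded_16_2 (flp_b L117093) L117105 (flp_b L117113) (flp_f L96357) L117517
theorem L117523 : sm gg N16349 = N15933 := ded_17_2 (flp_b L115204) (flp_g L110909) L92861 L96321 L117517
theorem L117525 : sm ga N16349 = N14917 := ded_7_1 (flp_b L110055) L92426 L92454 L110107 (flp_b L116233) L116229 L95729 (flp_a L96323) L117517
theorem L117527 : sm gd N12247 = N16350 := rfl
theorem L117529 : sm gb N16350 = N12248 := ded_14_1 (flp_d L96333) L96327 L117527
theorem L117531 : sm gc N16350 = N13445 := ded_32_19 L102715 (flp_d L88464) (flp_c L36885) L17674 (flp_c L78637) L18537 L18539 L9059 L78716 (flp_d L9059) (flp_c L78774) (flp_b L8537) L4365 L2280 (flp_d L2603) L2602 L81354 L2603 (flp_c L2280) (flp_d L4365) L4363 L4417 L4419 L4491 L8791 L82581 L4735 (flp_d L2524) (flp_c L1287) L586 (flp_c L65308) L753 L755 (flp_d L1526) L77127 L1526 (flp_c L979) (flp_b L502) (flp_d L495) (flp_c L1045) (flp_d L2075) L66615 L78925 L2075 L1045 L495 L65195 L265 (flp_d L586) L1287 L2524 (flp_c L65398) (flp_b L2879) (flp_d L2877) (flp_c L1462) (flp_d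 L1424) L2775 L2777 (flp_e L3175) L80048 (flp_c L12177) L79744 (flp_c L25304) (flp_b L25094) (flp_d L25092) (flp_c L12077) (flp_d L12042) L25003 L25005 L84627 L95945 L96388 (flp_c L96384) (flp_b L96374) (flp_d L96372) (flp_c L96331) L117527
theorem L117533 : sm gd N12254 = N13429 := ded_28_1 (flp_c L102624) L88395 L88430 L102713 (flp_c L117531) (flp_d L117527) (flp_a L111189) (flp_c L111191)
theorem L117535 : sm ga N12255 = N13429 := ded_28_8 (flp_c L102624) L88395 L88430 L102713 (flp_c L117531) (flp_d L117527) L96331 L96372
theorem L117537 : sm gc N13428 = N12255 := ded_28_0 (flp_d L96372) (flp_c L96331) L117527 L117531 (flp_d L102713) (flp_c L88430) (flp_d L88395) L102620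
theorem L117539 : sm gf N12247 = N16351 := rfl
theorem L117541 : sm gc N16351 = N12256 := ded_20_1 (flp_f L96376) (flp_c L96331) L117539
theorem L117543 : sm ge N16351 = N12609 := ded_25_1 (flp_f L98125) (flp_e L96329) L117539
theorem L117545 : sm gg N12247 = N16352 := rfl
theorem L117547 : sm gc N16352 = N12257 := ded_21_1 (flp_g L96380) (flp_c L96331) L117545
theorem L117549 : sm ge N16352 = N12610 := ded_26_1 (flp_g L98129) (flp_e L96329) L117545
theorem L117551 : sm ge N12248 = N16353 := rfl
theorem L117553 : sm gc N16353 = N13742 := ded_19_1 (flp_e L104240) (flp_c L96432) L117551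
theorem L117555 : sm gd N16353 = N12612 := ded_22_1 (flp_e L98135) (flp_d L85601) (flp_e L84797) L96333 L117551
theorem L117557 : sm gf N12248 = N16354 := rfl
theorem L117559 : sm gc N16354 = N13743 := ded_20_1 (flp_f L104246) (flp_c L96432) L117557
theorem L117561 : sm gd N16354 = N12249 := ded_23_1 (flp_f L96335) L96333 L117557
theorem L117563 : sm gg N12248 = N16355 := rfl
theorem L117565 : sm gc N16355 = N13690 := ded_21_1 L103943 (flp_c L96432) L117563
theorem L117567 : sm gd N16355 = N12250 := ded_24_1 (flp_g L96341) L96333 L117563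
theorem L117569 : sm gb N12249 = N16356 := rfl
theorem L117571 : sm ge N16356 = N12615 := ded_15_2 (flp_b L98145) (flp_e L96339) L117569
theorem L117573 : sm gg N12249 = N16357 := rfl
theorem L117575 : sm gc N16357 = N12252 := ded_21_1 (flp_g L96353) (flp_c L96337) L117573
theorem L117577 : sm ge N16357 = N12616 := ded_26_1 (flp_g L98147) (flp_e L96339) L117573
theorem L117579 : sm gf N15068 = N16357 := ded_29_0 (flp_g L117573) (flp_f L96335) L96341 (flp_a L110959)
theorem L117581 : sm gb N12250 = N16358 := rfl
theorem L117585 : sm gf N12250 = N16359 := rfl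
theorem L117587 : sm ga N16359 = N16357 := ded_11_1 (flp_f L117579) L110959 L117585
theorem L117589 : sm gc N16359 = N12253 := ded_20_1 (flp_f L96359) (flp_c L96343) L117585
theorem L117591 : sm ge N16359 = N12618 := ded_25_1 (flp_f L98155) (flp_e L96345) L117585
theorem L117593 : sm gg N16359 = N15067 := ded_29_3 L110951 (flp_f L96335) L96341 L117585
theorem L117595 : sm ga N12251 = N16360 := rfl
theorem L117597 : sm ge N16360 = N12619 := ded_10_2 (flp_a L98163) (flp_e L96349) L117595
theorem L117599 : sm gf N16360 = N12262 := ded_11_2 (flp_a L96408) (flp_f L96351) L117595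
theorem L117601 : sm gg N14985 = N16360 := ded_29_3 (flp_a L117595) L96351 L96416 L110465
theorem L117603 : sm gc N12251 = N16361 := rfl
theorem L117605 : sm ge N16361 = N12620 := ded_19_2 (flp_c L98171) (flp_e L96349) L117603
theorem L117607 : sm gf N16361 = N12263 := ded_20_2 (flp_c L96412) (flp_f L96351) L117603
theorem L117609 : sm gg N12251 = N16362 := rfl
theorem L117611 : sm ga N16362 = N14985 := ded_12_1 L117601 (flp_a L117595) L117609
theorem L117613 : sm ge N16362 = N12621 := ded_26_1 (flp_g L98175) (flp_e L96349) L117609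
theorem L117615 : sm gf N16260 = N16362 := ded_29_0 (flp_g L117609) L96351 L96416 (flp_a L116989)
theorem L117617 : sm gb N16362 = N16259 := ded_17_1 (flp_g L117111) (flp_b L117113) (flp_g L96353) L96347 L117609
theorem L117619 : sm gb N12253 = N16363 := rfl
theorem L117621 : sm ge N16363 = N12622 := ded_15_2 (flp_b L98185) (flp_e L96363) L117619
theorem L117623 : sm gg N16363 = N14972 := ded_17_2 (flp_b L115581) L117515 (flp_b L117511) (flp_g L96365) L117619
theorem L117625 : sm ga N16363 = N14975 := ded_7_1 (flp_b L110899) L116211 (flp_b L116205) L95707 (flp_b L96135) (flp_a L117107) (flp_b L117113) (flp_a L96361) L117619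
theorem L117627 : sm gf N12254 = N16364 := rfl
theorem L117629 : sm ga N16364 = N12256 := ded_11_1 (flp_f L96376) L96367 L117627
theorem L117631 : sm ge N16364 = N12624 := ded_25_1 (flp_f L98198) (flp_e L96369) L117627
theorem L117633 : sm gg N12254 = N16365 := rfl
theorem L117635 : sm ga N16365 = N12257 := ded_12_1 (flp_g L96380) L96367 L117633
theorem L117637 : sm ge N16365 = N12625 := ded_26_1 (flp_g L98202) (flp_e L96369) L117633
theorem L117639 : sm ge N12255 = N16366 := rfl
theorem L117641 : sm gb N16366 = N12259 := ded_15_1 (flp_e L96390) (flp_b L96374) L117639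
theorem L117643 : sm gd N16366 = N12627 := ded_22_1 (flp_e L98208) (flp_d L85628) (flp_e L84809) L96372 L117639
theorem L117645 : sm gf N12255 = N16367 := rfl
theorem L117647 : sm gd N16367 = N12256 := ded_23_1 (flp_f L96376) L96372 L117645
theorem L117649 : sm gg N12255 = N16368 := rfl
theorem L117651 : sm gd N16368 = N12257 := ded_24_1 (flp_g L96380) L96372 L117649
theorem L117653 : sm gb N12256 = N16369 := rfl
theorem L117655 : sm ge N16369 = N12630 := ded_15_2 (flp_b L98220) (flp_e L96378) L117653
theorem L117657 : sm gf N16369 = N12261 := ded_16_2 (flp_b L96404) (flp_f L84815) L84807 L96376 L117653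
theorem L117659 : sm gg N12256 = N16370 := rfl
theorem L117661 : sm ge N16370 = N12631 := ded_26_1 (flp_g L98224) (flp_e L96378) L117659
theorem L117663 : sm gf N16365 = N16370 := ded_29_0 (flp_g L117659) (flp_f L96376) L96380 (flp_a L117635)
theorem L117665 : sm gf N12257 = N16371 := rfl
theorem L117667 : sm ga N16371 = N16370 := ded_11_1 (flp_f L117663) L117635 L117665
theorem L117669 : sm ge N16371 = N12632 := ded_25_1 (flp_f L98228) (flp_e L96382) L117665
theorem L117671 : sm gg N16371 = N16364 := ded_29_3 L117629 (flp_f L96376) L96380 L117665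
theorem L117673 : sm gb N12258 = N16372 := rfl
theorem L117675 : sm gd N16372 = N16212 := ded_14_2 (flp_b L116705) L96388 L117673
theorem L117677 : sm ge N12258 = N16373 := rfl
theorem L117679 : sm ga N16373 = N12267 := ded_10_1 (flp_e L96444) (flp_a L96386) L117677
theorem L117681 : sm gc N16373 = N12259 := ded_19_1 (flp_e L96390) L96384 L117677
theorem L117683 : sm gf N12258 = N16374 := rfl
theorem L117685 : sm ga N16374 = N12268 := ded_11_1 (flp_f L96448) (flp_a L96386) L117683
theorem L117687 : sm gc N16374 = N12260 := ded_20_1 (flp_f L96396) L96384 L117683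
theorem L117689 : sm gd N16374 = N16214 := ded_23_1 (flp_f L116712) L96388 L117683
theorem L117691 : sm gg N16134 = N16374 := ded_29_1 (flp_f L117683) (flp_g L116291) L116289 L116320
theorem L117693 : sm gf N12259 = N16375 := rfl
theorem L117695 : sm ga N16375 = N12269 := ded_11_1 (flp_f L96452) (flp_a L96392) L117693
theorem L117697 : sm gd N16375 = N12636 := ded_23_1 (flp_f L98254) (flp_d L96394) L117693
theorem L117699 : sm ge N16375 = N12260 := ded_25_1 (flp_f L96396) L96390 L117693
theorem L117701 : sm gg N16135 = N16375 := ded_29_1 (flp_f L117693) (flp_g L116299) L116297 L116324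
theorem L117703 : sm gb N12260 = N16376 := rfl
theorem L117705 : sm gd N16376 = N12261 := ded_14_2 (flp_b L96404) (flp_d L96400) L117703
theorem L117707 : sm ga N12261 = N16377 := rfl
theorem L117709 : sm ge N16377 = N12638 := ded_10_2 (flp_a L98266) (flp_e L96406) L117707
theorem L117711 : sm gc N12261 = N16378 := rfl
theorem L117713 : sm ge N16378 = N12639 := ded_19_2 (flp_c L98268) (flp_e L96406) L117711
theorem L117715 : sm gb N16378 = N12263 := ded_13_1 (flp_c L96412) (flp_b L84825) (flp_c L84819) L96404 L117711
theorem L117717 : sm gg N12261 = N16379 := rfl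
theorem L117719 : sm ge N16379 = N12640 := ded_26_1 (flp_g L98272) (flp_e L96406) L117717
theorem L117721 : sm gb N16379 = N16139 := ded_17_1 (flp_g L116347) (flp_b L95756) L84823 L96404 L117717
theorem L117723 : sm gb N12262 = N16380 := rfl
theorem L117725 : sm ge N16380 = N12641 := ded_15_2 (flp_b L98276) (flp_e L96410) L117723
theorem L117727 : sm gg N16380 = N16244 := ded_17_2 (flp_b L116875) (flp_g L96080) L116985 (flp_g L116991) L117723
theorem L117729 : sm gf N15932 = N16380 := ded_31_1 (flp_b L117723) L116991 L117615 L117617 (flp_g L117111) (flp_f L117105) L117093 (flp_g L117097) (flp_f L115210) (flp_b L95249) (flp_g L84283) L84277 L95245 L115196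
theorem L117731 : sm gc N12262 = N16381 := rfl
theorem L117733 : sm ga N16381 = N12263 := ded_8_1 (flp_c L96412) L96408 L117731
theorem L117735 : sm ge N16381 = N12642 := ded_19_2 (flp_c L98282) (flp_e L96410) L117731
theorem L117737 : sm gd N12263 = N16382 := rfl
theorem L117739 : sm gg N12263 = N16383 := rfl
theorem L117741 : sm gc N16383 = N12264 := ded_21_1 (flp_g L96416) L96412 L117739
theorem L117743 : sm ge N16383 = N12644 := ded_26_1 (flp_g L98288) (flp_e L96414) L117739
theorem L117745 : sm ga N12265 = N16384 := rfl
theorem L117747 : sm gc N16384 = N12312 := ded_8_2 (flp_a L96695) (flp_c L96424) L117745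
theorem L117749 : sm gd N12265 = N16385 := rfl
theorem L117751 : sm gb N16385 = N12266 := ded_14_1 (flp_d L96426) L96422 L117749
theorem L117753 : sm ge N12265 = N16386 := rfl
theorem L117755 : sm gb N16386 = N12267 := ded_15_1 (flp_e L96444) L96422 L117753
theorem L117757 : sm gc N16386 = N12313 := ded_19_1 (flp_e L96699) (flp_c L96424) L117753
theorem L117759 : sm gf N12265 = N16387 := rfl
theorem L117761 : sm gc N16387 = N12270 := ded_20_1 L96462 (flp_c L96424) L117759
theorem L117763 : sm gg N12265 = N16388 := rfl
theorem L117765 : sm gc N16388 = N12314 := ded_21_1 (flp_g L96705) (flp_c L96424) L117763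
theorem L117767 : sm ge N12266 = N16389 := rfl
theorem L117769 : sm ga N16389 = N16213 := ded_10_1 (flp_e L116708) (flp_a L96428) L117767
theorem L117771 : sm gc N16389 = N16206 := ded_19_1 (flp_e L116679) L96430 L117767
theorem L117773 : sm gf N12266 = N16390 := rfl
theorem L117775 : sm ga N16390 = N16214 := ded_11_1 (flp_f L116712) (flp_a L96428) L117773
theorem L117777 : sm gc N16390 = N16207 := ded_20_1 (flp_f L116683) L96430 L117773
theorem L117779 : sm gd N16390 = N12268 := ded_23_1 (flp_f L96448) L96426 L117773
theorem L117781 : sm gd N12267 = N16391 := rfl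
theorem L117783 : sm gf N12267 = N16392 := rfl
theorem L117785 : sm gc N16392 = N12269 := ded_20_1 (flp_f L96452) (flp_c L96446) L117783
theorem L117787 : sm ge N16392 = N12268 := ded_25_1 (flp_f L96448) L96444 L117783
theorem L117789 : sm gb N12268 = N16393 := rfl
theorem L117791 : sm gg N12268 = N16394 := rfl
theorem L117793 : sm ga N16394 = N16134 := ded_12_1 L117691 L117685 L117791
theorem L117795 : sm gc N16394 = N12271 := ded_21_1 (flp_g L96464) (flp_c L96450) L117791
theorem L117797 : sm gf N16129 = N16394 := ded_29_0 (flp_g L117791) (flp_f L96448) (flp_g L95743) (flp_a L116289)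
theorem L117799 : sm gb N12269 = N16395 := rfl
theorem L117801 : sm gd N16395 = N12651 := ded_14_2 (flp_b L98327) (flp_d L96454) L117799
theorem L117803 : sm ge N16395 = N12270 := ded_15_2 (flp_b L96458) (flp_e L96456) L117799
theorem L117805 : sm gf N16395 = N12313 := ded_16_2 L96701 L84987 (flp_b L84833) L96452 L117799
theorem L117807 : sm gg N12269 = N16396 := rfl
theorem L117809 : sm ga N16396 = N16135 := ded_12_1 L117701 L117695 L117807
theorem L117811 : sm gd N16396 = N12652 := ded_24_1 (flp_g L98333) (flp_d L96454) L117807
theorem L117813 : sm ge N16396 = N12271 := ded_26_1 (flp_g L96464) (flp_e L96456) L117807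
theorem L117815 : sm gf N16130 = N16396 := ded_29_0 (flp_g L117807) (flp_f L96452) (flp_g L95748) (flp_a L116297)
theorem L117817 : sm ga N12270 = N16397 := rfl
theorem L117819 : sm gd N16397 = N12272 := ded_9_2 (flp_a L96472) (flp_d L96460) L117817
theorem L117821 : sm gf N16397 = N12312 := ded_11_2 (flp_a L96695) (flp_f L96462) L117817
theorem L117823 : sm gg N12270 = N16398 := rfl
theorem L117825 : sm gd N16398 = N12273 := ded_24_1 (flp_g L96478) (flp_d L96460) L117823
theorem L117827 : sm gb N12271 = N16399 := rfl
theorem L117829 : sm gd N16399 = N12274 := ded_14_2 (flp_b L96482) (flp_d L96468) L117827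
theorem L117831 : sm gb N12272 = N16400 := rfl
theorem L117833 : sm ge N16400 = N12657 := ded_15_2 (flp_b L98359) (flp_e L96474) L117831
theorem L117835 : sm gb N12273 = N16401 := rfl
theorem L117837 : sm ge N16401 = N12661 := ded_15_2 (flp_b L98377) (flp_e L96480) L117835
theorem L117839 : sm gg N16401 = N12274 := ded_17_2 (flp_b L96482) (flp_g L84847) L84841 L96478 L117835
theorem L117841 : sm ga N12274 = N16402 := rfl
theorem L117843 : sm ge N16402 = N12662 := ded_10_2 (flp_a L98381) (flp_e L96484) L117841
theorem L117845 : sm gc N12274 = N16403 := rfl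
theorem L117847 : sm ge N16403 = N12663 := ded_19_2 (flp_c L98383) (flp_e L96484) L117845
theorem L117849 : sm gb N16403 = N12281 := ded_13_1 (flp_c L96518) (flp_b L84873) (flp_c L84851) L96482 L117845
theorem L117851 : sm gf N12274 = N16404 := rfl
theorem L117853 : sm ge N16404 = N12664 := ded_25_1 (flp_f L98387) (flp_e L96484) L117851
theorem L117855 : sm gb N16404 = N16127 := ded_16_1 (flp_f L116277) (flp_b L95731) L84855 L96482 L117851
theorem L117857 : sm ga N12275 = N16405 := rfl
theorem L117859 : sm ge N16405 = N12665 := ded_10_2 (flp_a L98391) (flp_e L96488) L117857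
theorem L117861 : sm gg N14927 = N16405 := ded_26_0 L117859 (flp_g L98395) (flp_e L110125)
theorem L117863 : sm gc N12275 = N16406 := rfl
theorem L117865 : sm ge N16406 = N12666 := ded_19_2 (flp_c L98397) (flp_e L96488) L117863
theorem L117867 : sm gf N12275 = N16407 := rfl
theorem L117869 : sm ge N16407 = N12667 := ded_25_1 (flp_f L98399) (flp_e L96488) L117867
theorem L117871 : sm gb N16407 = N12285 := ded_16_1 (flp_f L96538) (flp_b L84877) (flp_f L84861) L96486 L117867
theorem L117873 : sm gg N12275 = N16408 := rfl
theorem L117875 : sm ga N16408 = N14927 := ded_12_1 L117861 (flp_a L117857) L117873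
theorem L117877 : sm ge N16408 = N12668 := ded_26_1 (flp_g L98405) (flp_e L96488) L117873
theorem L117879 : sm gf N16100 = N16408 := ded_25_0 L117877 L98615 (flp_e L116121)
theorem L117881 : sm gb N12276 = N16409 := rfl
theorem L117883 : sm ge N16409 = N12669 := ded_15_2 (flp_b L98411) (flp_e L96494) L117881
theorem L117885 : sm gd N12276 = N16410 := rfl
theorem L117887 : sm ga N16410 = N12277 := ded_9_1 (flp_d L96498) (flp_a L96492) L117885
theorem L117889 : sm gf N16410 = N12288 := ded_23_2 (flp_d L96550) (flp_f L96496) L117885
theorem L117891 : sm gc N12277 = N16411 := rfl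
theorem L117893 : sm gf N16411 = N12291 := ded_20_2 (flp_c L96568) (flp_f L96500) L117891
theorem L117895 : sm ge N12277 = N16412 := rfl
theorem L117897 : sm gf N16412 = N12292 := ded_25_2 (flp_e L96570) (flp_f L96500) L117895
theorem L117899 : sm gd N16412 = N12672 := ded_22_1 (flp_e L98423) (flp_d L85722) (flp_e L84865) L96498 L117895
theorem L117901 : sm gg N12277 = N16413 := rfl
theorem L117903 : sm gd N16413 = N12278 := ded_24_1 (flp_g L96502) L96498 L117901
theorem L117905 : sm gb N12278 = N16414 := rfl
theorem L117907 : sm ge N16414 = N12674 := ded_15_2 (flp_b L98431) (flp_e L96506) L117905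
theorem L117909 : sm ga N12279 = N16415 := rfl
theorem L117911 : sm ge N16415 = N12675 := ded_10_2 (flp_a L98433) (flp_e L96510) L117909
theorem L117913 : sm gg N16415 = N12280 := ded_12_2 (flp_a L96514) (flp_g L96512) L117909
theorem L117915 : sm gb N16085 = N16415 := ded_15_3 L117911 (flp_b L98439) (flp_e L115992)
theorem L117917 : sm gc N12279 = N16416 := rfl
theorem L117919 : sm ge N16416 = N12676 := ded_19_2 (flp_c L98441) (flp_e L96510) L117917
theorem L117921 : sm gg N16416 = N12281 := ded_21_2 (flp_c L96518) (flp_g L96512) L117917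
theorem L117923 : sm gf N12279 = N16417 := rfl
theorem L117925 : sm ge N16417 = N12677 := ded_25_1 (flp_f L98445) (flp_e L96510) L117923
theorem L117927 : sm gb N16417 = N15962 := ded_16_1 (flp_f L115377) (flp_b L96564) L84893 L96508 L117923
theorem L117929 : sm gc N12280 = N16418 := rfl
theorem L117931 : sm ga N16418 = N12281 := ded_8_1 (flp_c L96518) L96514 L117929
theorem L117933 : sm ge N16418 = N12678 := ded_19_2 (flp_c L98449) (flp_e L96516) L117929
theorem L117935 : sm gb N16418 = N15008 := ded_13_1 L110587 L92699 (flp_c L110212) (flp_b L110218) L117929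
theorem L117937 : sm gf N12280 = N16419 := rfl
theorem L117939 : sm ga N16419 = N12282 := ded_11_1 (flp_f L96522) L96514 L117937
theorem L117941 : sm ge N16419 = N12679 := ded_25_1 (flp_f L98455) (flp_e L96516) L117937
theorem L117943 : sm gg N16417 = N16419 := ded_29_1 (flp_f L117937) (flp_g L117913) (flp_a L117909) L117923
theorem L117945 : sm gb N16419 = N15009 := ded_16_1 (flp_f L110591) L92699 L110216 (flp_b L110218) L117937
theorem L117947 : sm gd N12281 = N16420 := rfl
theorem L117949 : sm gf N12281 = N16421 := rfl
theorem L117951 : sm gc N16421 = N12282 := ded_20_1 (flp_f L96522) L96518 L117949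
theorem L117953 : sm ge N16421 = N12681 := ded_25_1 (flp_f L98467) (flp_e L96520) L117949
theorem L117955 : sm gg N12282 = N16422 := rfl
theorem L117957 : sm ga N16422 = N16417 := ded_12_1 L117943 L117939 L117955
theorem L117959 : sm ge N16422 = N12682 := ded_26_1 (flp_g L98471) (flp_e L96524) L117955
theorem L117961 : sm gf N16415 = N16422 := ded_29_0 (flp_g L117955) (flp_f L96522) (flp_g L96512) L117909
theorem L117963 : sm gb N16422 = N16319 := ded_17_1 L117349 (flp_b L117305) (flp_g L116255) (flp_b L96526) L117955
theorem L117965 : sm gc N12283 = N16423 := rfl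
theorem L117967 : sm ga N16423 = N12284 := ded_8_1 (flp_c L96534) L96528 L117965
theorem L117969 : sm ge N16423 = N12683 := ded_19_2 (flp_c L98493) (flp_e L96530) L117965
theorem L117971 : sm gf N12283 = N16424 := rfl
theorem L117973 : sm ga N16424 = N12285 := ded_11_1 (flp_f L96538) L96528 L117971
theorem L117975 : sm ge N16424 = N12684 := ded_25_1 (flp_f L98497) (flp_e L96530) L117971
theorem L117977 : sm gg N16424 = N16008 := ded_29_1 (flp_f L115611) (flp_g L96542) L96528 L117971
theorem L117979 : sm gb N16004 = N16424 := ded_15_3 L117975 (flp_b L98505) (flp_e L115585)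
theorem L117981 : sm gg N12283 = N16425 := rfl
theorem L117983 : sm ga N16425 = N12286 := ded_12_1 (flp_g L96542) L96528 L117981
theorem L117985 : sm ge N16425 = N12685 := ded_26_1 (flp_g L98507) (flp_e L96530) L117981
theorem L117987 : sm gb N12284 = N16426 := rfl
theorem L117989 : sm ge N16426 = N12686 := ded_15_2 (flp_b L98513) (flp_e L96536) L117987
theorem L117991 : sm gc N16426 = N12287 := ded_13_2 (flp_b L96546) (flp_c L84881) L84877 L96534 L117987
theorem L117993 : sm gd N12284 = N16427 := rfl
theorem L117995 : sm gf N12284 = N16428 := rfl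
theorem L117997 : sm gc N16428 = N12285 := ded_20_1 (flp_f L96538) L96534 L117995
theorem L117999 : sm ge N16428 = N12688 := ded_25_1 (flp_f L98519) (flp_e L96536) L117995
theorem L118001 : sm gg N12284 = N16429 := rfl
theorem L118003 : sm gc N16429 = N12286 := ded_21_1 (flp_g L96542) L96534 L118001
theorem L118005 : sm ge N16429 = N12689 := ded_26_1 (flp_g L98523) (flp_e L96536) L118001
theorem L118007 : sm gg N12285 = N16430 := rfl
theorem L118009 : sm ga N16430 = N16008 := ded_12_1 (flp_g L117977) L117973 L118007
theorem L118011 : sm ge N16430 = N12690 := ded_26_1 (flp_g L98527) (flp_e L96540) L118007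
theorem L118013 : sm gf N16425 = N16430 := ded_29_0 (flp_g L118007) (flp_f L96538) L96542 (flp_a L117983)
theorem L118015 : sm gb N14945 = N16430 := ded_31_14 (flp_g L118007) (flp_f L96538) (flp_b L84877) L84887 L84893 L96508 L96512 L96522 L96526 L116255 (flp_f L116259) L116233 L110111 L110230
theorem L118017 : sm gb N12286 = N16431 := rfl
theorem L118019 : sm ge N16431 = N12691 := ded_15_2 (flp_b L98537) (flp_e L96544) L118017
theorem L118021 : sm gf N16431 = N15961 := ded_16_2 (flp_b L115367) (flp_f L95442) L115607 (flp_f L115611) L118017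
theorem L118023 : sm gg N16431 = N12290 := ded_17_2 (flp_b L96564) (flp_g L84887) L84877 L96542 L118017
theorem L118025 : sm ga N12287 = N16432 := rfl
theorem L118027 : sm ge N16432 = N12692 := ded_10_2 (flp_a L98545) (flp_e L96548) L118025
theorem L118029 : sm gd N12287 = N16433 := rfl
theorem L118031 : sm gb N16433 = N12288 := ded_14_1 (flp_d L96550) L96546 L118029
theorem L118033 : sm gf N12287 = N16434 := rfl
theorem L118035 : sm ge N16434 = N12694 := ded_25_1 (flp_f L98551) (flp_e L96548) L118033
theorem L118037 : sm gg N12287 = N16435 := rfl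
theorem L118039 : sm ge N16435 = N12695 := ded_26_1 (flp_g L98553) (flp_e L96548) L118037
theorem L118041 : sm gc N12288 = N16436 := rfl
theorem L118043 : sm ga N16436 = N12291 := ded_8_1 (flp_c L96568) (flp_a L96552) L118041
theorem L118045 : sm gd N16238 = N16436 := ded_28_1 (flp_c L118041) (flp_d L96550) (flp_c L84881) (flp_d L84652) L95995 L116819 L116821 L116839
theorem L118047 : sm ge N12288 = N16437 := rfl
theorem L118049 : sm ga N16437 = N12292 := ded_10_1 (flp_e L96570) (flp_a L96552) L118047
theorem L118051 : sm gd N16437 = N12696 := ded_22_1 (flp_e L98555) (flp_d L85762) (flp_e L84885) L96550 L118047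
theorem L118053 : sm gg N12288 = N16438 := rfl
theorem L118055 : sm ga N16438 = N12293 := ded_12_1 (flp_g L96576) (flp_a L96552) L118053
theorem L118057 : sm gd N16438 = N12289 := ded_24_1 (flp_g L96554) L96550 L118053
theorem L118059 : sm gf N16438 = N16413 := ded_29_2 (flp_g L117901) (flp_a L117887) L117889 L118053
theorem L118061 : sm gb N12289 = N16439 := rfl
theorem L118063 : sm ge N16439 = N12698 := ded_15_2 (flp_b L98567) (flp_e L96560) L118061
theorem L118065 : sm gc N12290 = N16440 := rfl
theorem L118067 : sm ge N16440 = N12699 := ded_19_2 (flp_c L98569) (flp_e L96566) L118065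
theorem L118069 : sm gb N12291 = N16441 := rfl
theorem L118071 : sm gc N16441 = N12326 := ded_13_2 (flp_b L96778) (flp_c L85031) (flp_b L84897) L96568 L118069
theorem L118073 : sm gd N12291 = N16442 := rfl
theorem L118075 : sm ga N16442 = N16238 := ded_9_1 L118045 L118043 L118073
theorem L118077 : sm gc N16235 = N16442 := ded_28_0 (flp_d L118073) (flp_c L96568) (flp_d L84895) (flp_c L25120) (flp_d L25012) L84656 L96011 (flp_a L116821)
theorem L118079 : sm ge N12291 = N16443 := rfl
theorem L118081 : sm gc N16443 = N12292 := ded_19_1 (flp_e L96570) L96568 L118079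
theorem L118083 : sm gg N12291 = N16444 := rfl
theorem L118085 : sm gc N16444 = N12293 := ded_21_1 (flp_g L96576) L96568 L118083
theorem L118087 : sm gg N12292 = N16445 := rfl
theorem L118089 : sm gd N16445 = N12703 := ded_24_1 (flp_g L98583) (flp_d L96574) L118087
theorem L118091 : sm ge N16445 = N12293 := ded_26_1 (flp_g L96576) L96570 L118087
theorem L118093 : sm gf N12293 = N16446 := rfl
theorem L118095 : sm ga N16446 = N16413 := ded_11_1 (flp_f L118059) L118055 L118093
theorem L118097 : sm gd N16446 = N12294 := ded_23_1 (flp_f L96580) (flp_d L96578) L118093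
theorem L118099 : sm gg N16446 = N16410 := ded_29_3 L117887 L96500 L96576 L118093
theorem L118101 : sm gb N12294 = N16447 := rfl
theorem L118103 : sm ge N16447 = N12705 := ded_15_2 (flp_b L98595) (flp_e L96586) L118101
theorem L118105 : sm ga N12295 = N16448 := rfl
theorem L118107 : sm ge N16448 = N12706 := ded_10_2 (flp_a L98597) (flp_e L96592) L118105
theorem L118109 : sm gf N16448 = N15058 := ded_11_2 (flp_a L110885) (flp_f L96594) L118105
theorem L118111 : sm gc N12295 = N16449 := rfl
theorem L118113 : sm ge N16449 = N12707 := ded_19_2 (flp_c L98603) (flp_e L96592) L118111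
theorem L118115 : sm gf N16449 = N15059 := ded_20_2 (flp_c L110891) (flp_f L96594) L118111
theorem L118117 : sm gg N12295 = N16450 := rfl
theorem L118119 : sm ge N16450 = N12708 := ded_26_1 (flp_g L98607) (flp_e L96592) L118117
theorem L118121 : sm gf N16115 = N16450 := ded_29_0 (flp_g L118117) L96594 L110895 L116211
theorem L118123 : sm gb N16450 = N16408 := ded_17_1 (flp_g L117873) (flp_b L96486) (flp_g L84911) L96590 L118117
theorem L118125 : sm gb N12296 = N16451 := rfl
theorem L118127 : sm gd N16451 = N12299 := ded_14_2 (flp_b L96611) (flp_d L96598) L118125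
theorem L118129 : sm ge N12296 = N16452 := rfl
theorem L118131 : sm ga N16452 = N12297 := ded_10_1 (flp_e L96600) L96596 L118129
theorem L118133 : sm gd N16452 = N12709 := ded_22_1 L98619 L85808 (flp_e L84929) (flp_d L96598) L118129
theorem L118135 : sm gf N12296 = N16453 := rfl
theorem L118137 : sm ga N16453 = N12298 := ded_11_1 (flp_f L96606) L96596 L118135
theorem L118139 : sm gd N16453 = N12300 := ded_23_1 (flp_f L96615) (flp_d L96598) L118135
theorem L118141 : sm gg N16295 = N16453 := ded_29_1 (flp_f L118135) (flp_g L117211) (flp_a L117207) L117213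
theorem L118143 : sm gf N12297 = N16454 := rfl
theorem L118145 : sm gc N16454 = N13348 := ded_20_1 L117139 L117135 L118143
theorem L118147 : sm gd N16454 = N12711 := ded_23_1 (flp_f L98626) (flp_d L96604) L118143
theorem L118149 : sm ge N16454 = N12298 := ded_25_1 (flp_f L96606) L96600 L118143
theorem L118151 : sm gb N16454 = N16454 := ded_16_1 (flp_f L118143) L96602 L84922 (flp_b L96602) L118143
theorem L118152 : N12710 = N12711 := coi_28_5 (flp_d L118147) L118145 L102249 L104881 (flp_c L104891) L117137 L117135 L96604 L98621
theorem L118153 : N12711 = N12710 := (eqc rfl L118152 rfl).symm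
theorem L118155 : sm gd N12710 = N16454 := trfs L118153 (flp_d L118147) rfl
theorem L118157 : sm ge N12710 = N10275 := trfs L118153 L98628 rfl
theorem L118158 : N10275 = N10274 := eqes L118157 L98623
theorem L118159 : N10275 = N10274 := eqc rfl L118158 rfl
theorem L118160 : sm gf N12710 = N10272 := trfs L118153 (flp_f L98626) rfl
theorem L118162 : sm ga N10274 = N12714 := trfs L118159 (flp_a L98641) rfl
theorem L118163 : N12714 = N12713 := eqes L118162 (flp_a L98637)
theorem L118164 : N12714 = N12713 := eqc rfl L118163 rfl
theorem L118166 : sm gc N10274 = N12716 := trfs L118159 (flp_c L98652) rfl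
theorem L118167 : N12716 = N5592 := eqes L118166 (flp_c L85810)
theorem L118168 : N12716 = N5592 := eqc rfl L118167 rfl
theorem L118169 : sm gd N10274 = N5595 := trfs L118159 L85815 rfl
theorem L118170 : N5595 = N12715 := eqes L118169 L98647
theorem L118171 : N12715 = N5595 := (eqc rfl L118170 rfl).symm
theorem L118174 : sm gg N10274 = N12717 := trfs L118159 L98654 rfl
theorem L118175 : N12717 = N12543 := eqes L118174 (flp_g L97779)
theorem L118176 : N12717 = N12543 := eqc rfl L118175 rfl
theorem L118177 : sm ga N12543 = N12544 := trfs L118176 L98656 rfl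
theorem L118179 : sm gd N12543 = N10281 := trfs L118176 L98658 rfl
theorem L118181 : sm gf N12543 = N12542 := trfs L118176 (flp_f L98660) rfl
theorem L118184 : sm gd N5595 = N10274 := trfs L118171 (flp_d L98647) rfl
theorem L118186 : sm gf N5592 = N10274 := trfs L118168 (flp_f L98650) rfl
theorem L118188 : sm gd N12713 = N10278 := trfs L118164 L98643 rfl
theorem L118190 : sm gf N12713 = N10273 := trfs L118164 (flp_f L98639) rfl
theorem L118192 : sm gg N12713 = N12544 := trfs L118164 (flp_g L98645) rfl
theorem L118194 : sm gc N12544 = N12542 := ded_8_2 (flp_a L97771) L97777 L118177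
theorem L118196 : sm gc N12722 = N12726 := ded_28_4 L98691 L85836 L118184 (flp_a L98637) (flp_c L98635) L85808 L85820 L98671
theorem L118198 : sm ga N12726 = N12724 := ded_28_8 (flp_c L98683) (flp_d L85830) (flp_c L27043) (flp_d L27039) L85810 (flp_d L118184) (flp_c L85836) (flp_d L98691)
theorem L118200 : sm gd N12724 = N12723 := ded_28_7 L98677 L85836 L118184 (flp_c L85810) L27039 L27043 L85830 L98683
theorem L118202 : sm gf N12724 = N12722 := ded_20_0 L118196 (flp_f L98689) L98683
theorem L118204 : sm gg N12298 = N16455 := rfl
theorem L118206 : sm ga N16455 = N16295 := ded_12_1 L118141 L118137 L118204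
theorem L118208 : sm gd N16455 = N12301 := ded_24_1 (flp_g L96623) (flp_d L96608) L118204
theorem L118210 : sm gf N16294 = N16455 := ded_29_0 (flp_g L118204) (flp_f L96606) (flp_g L96177) L117207
theorem L118212 : sm ga N12299 = N16456 := rfl
theorem L118214 : sm ge N16456 = N12718 := ded_10_2 (flp_a L98662) (flp_e L96613) L118212
theorem L118216 : sm gb N16456 = N16456 := ded_7_2 (flp_a L118212) (flp_b L96611) (flp_a L84927) (flp_b L25192) L50659 L25192 L84927 L96611 L118212
theorem L118217 : sm gc N12299 = N16457 := rfl
theorem L118219 : sm ge N16457 = N12719 := ded_19_2 (flp_c L98665) (flp_e L96613) L118217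
theorem L118221 : sm gg N12299 = N16458 := rfl
theorem L118223 : sm ge N16458 = N12720 := ded_26_1 (flp_g L98667) (flp_e L96613) L118221
theorem L118225 : sm gb N12301 = N16459 := rfl
theorem L118227 : sm ge N16459 = N12728 := ded_15_2 (flp_b L98703) (flp_e L96627) L118225
theorem L118229 : sm gg N16459 = N16459 := ded_17_2 (flp_b L118225) (flp_g L96623) L84935 L96623 L118225
theorem L118230 : sm gb N12302 = N16460 := rfl
theorem L118232 : sm ge N16460 = N12729 := ded_15_2 (flp_b L98706) (flp_e L96635) L118230
theorem L118234 : sm gd N12302 = N16461 := rfl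
theorem L118236 : sm ga N16461 = N12304 := ded_9_1 (flp_d L96647) (flp_a L96633) L118234
theorem L118238 : sm gf N16461 = N12304 := ded_23_2 (flp_d L96647) (flp_f L96637) L118234
theorem L118240 : sm gg N16461 = N14541 := ded_24_2 (flp_d L108267) (flp_g L96639) L118234
theorem L118242 : sm ga N12303 = N16462 := rfl
theorem L118244 : sm gc N16462 = N12305 := ded_8_2 (flp_a L96651) (flp_c L96645) L118242
theorem L118246 : sm ge N16462 = N12731 := ded_10_2 (flp_a L98716) (flp_e L96643) L118242
theorem L118248 : sm gd N12303 = N16463 := rfl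
theorem L118250 : sm gb N16463 = N12304 := ded_14_1 (flp_d L96647) L96641 L118248
theorem L118252 : sm gf N12303 = N16464 := rfl
theorem L118254 : sm gc N16464 = N12307 := ded_20_1 (flp_f L96659) (flp_c L96645) L118252
theorem L118256 : sm ge N16464 = N12733 := ded_25_1 (flp_f L98724) (flp_e L96643) L118252
theorem L118258 : sm gg N12303 = N16465 := rfl
theorem L118260 : sm gc N16465 = N12308 := ded_21_1 (flp_g L96663) (flp_c L96645) L118258
theorem L118262 : sm ge N16465 = N12734 := ded_26_1 (flp_g L98728) (flp_e L96643) L118258
theorem L118264 : sm gb N16465 = N14509 := ded_17_1 L108095 L91441 (flp_g L84950) L96641 L118258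
theorem L118266 : sm gc N12304 = N16466 := rfl
theorem L118268 : sm gg N16466 = N14542 := ded_21_2 (flp_c L108272) (flp_g L96649) L118266
theorem L118270 : sm ge N12304 = N16467 := rfl
theorem L118272 : sm gg N16467 = N14543 := ded_26_2 (flp_e L108275) (flp_g L96649) L118270
theorem L118274 : sm gd N16467 = N12736 := ded_22_1 (flp_e L98738) (flp_d L85866) (flp_e L84948) L96647 L118270
theorem L118276 : sm gb N12305 = N16468 := rfl
theorem L118278 : sm ge N16468 = N12737 := ded_15_2 (flp_b L98742) (flp_e L96653) L118276
theorem L118280 : sm gd N12305 = N16469 := rfl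
theorem L118282 : sm ga N16469 = N12306 := ded_9_1 (flp_d L96655) L96651 L118280
theorem L118284 : sm gf N12305 = N16470 := rfl
theorem L118286 : sm ga N16470 = N12307 := ded_11_1 (flp_f L96659) L96651 L118284
theorem L118288 : sm ge N16470 = N12739 := ded_25_1 (flp_f L98748) (flp_e L96653) L118284
theorem L118290 : sm gg N12305 = N16471 := rfl
theorem L118292 : sm ga N16471 = N12308 := ded_12_1 (flp_g L96663) L96651 L118290
theorem L118294 : sm ge N16471 = N12740 := ded_26_1 (flp_g L98752) (flp_e L96653) L118290
theorem L118296 : sm gc N12306 = N16472 := rfl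
theorem L118298 : sm gb N16472 = N15103 := ded_13_1 (flp_c L111153) (flp_b L92966) (flp_c L84962) (flp_b L96657) L118296
theorem L118300 : sm ge N12306 = N16473 := rfl
theorem L118302 : sm gb N16473 = N12309 := ded_15_1 (flp_e L96669) (flp_b L96657) L118300
theorem L118304 : sm gd N16473 = N12742 := ded_22_1 (flp_e L98758) (flp_d L85872) (flp_e L84954) L96655 L118300
theorem L118306 : sm gf N12306 = N16474 := rfl
theorem L118308 : sm gd N16474 = N12307 := ded_23_1 (flp_f L96659) L96655 L118306
theorem L118310 : sm gg N12306 = N16475 := rfl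
theorem L118312 : sm gd N16475 = N12308 := ded_24_1 (flp_g L96663) L96655 L118310
theorem L118314 : sm gb N16475 = N14506 := ded_17_1 (flp_g L108071) L91411 (flp_g L84960) (flp_b L96657) L118310
theorem L118316 : sm gg N12307 = N16476 := rfl
theorem L118318 : sm ge N16476 = N12745 := ded_26_1 (flp_g L98772) (flp_e L96661) L118316
theorem L118320 : sm gf N16471 = N16476 := ded_29_0 (flp_g L118316) (flp_f L96659) L96663 (flp_a L118292)
theorem L118322 : sm gf N12308 = N16477 := rfl
theorem L118324 : sm ga N16477 = N16476 := ded_11_1 (flp_f L118320) L118292 L118322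
theorem L118326 : sm ge N16477 = N12746 := ded_25_1 (flp_f L98776) (flp_e L96665) L118322
theorem L118328 : sm gg N16477 = N16470 := ded_29_3 L118286 (flp_f L96659) L96663 L118322
theorem L118330 : sm ga N12310 = N16478 := rfl
theorem L118332 : sm gd N16478 = N15099 := ded_9_2 (flp_a L111133) (flp_d L96681) L118330
theorem L118334 : sm ge N12310 = N16479 := rfl
theorem L118336 : sm gb N16479 = N12311 := ded_15_1 (flp_e L96683) L96679 L118334
theorem L118338 : sm gd N16479 = N15341 := ded_22_1 L112396 L93731 (flp_e L92956) (flp_d L96681) L118334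
theorem L118340 : sm gf N12310 = N16480 := rfl
theorem L118342 : sm gd N16480 = N15100 := ded_23_1 (flp_f L111137) (flp_d L96681) L118340
theorem L118344 : sm gb N16480 = N16474 := ded_16_1 (flp_f L118306) L96657 (flp_f L84968) L96679 L118340
theorem L118346 : sm gg N12310 = N16481 := rfl
theorem L118348 : sm gd N16481 = N15097 := ded_24_1 L111122 (flp_d L96681) L118346
theorem L118350 : sm gb N16481 = N15095 := ded_17_1 (flp_g L111107) L92936 (flp_g L84970) L96679 L118346
theorem L118352 : sm gb N12312 = N16482 := rfl
theorem L118354 : sm gd N16482 = N12315 := ded_14_2 (flp_b L96710) (flp_d L96697) L118352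
theorem L118356 : sm ge N12312 = N16483 := rfl
theorem L118358 : sm ga N16483 = N12313 := ded_10_1 (flp_e L96699) L96695 L118356
theorem L118360 : sm gd N16483 = N12752 := ded_22_1 L98796 L85900 (flp_e L84994) (flp_d L96697) L118356
theorem L118362 : sm gg N12312 = N16484 := rfl
theorem L118364 : sm ga N16484 = N12314 := ded_12_1 (flp_g L96705) L96695 L118362
theorem L118366 : sm gd N16484 = N12316 := ded_24_1 (flp_g L96714) (flp_d L96697) L118362
theorem L118368 : sm gf N16484 = N16398 := ded_29_2 (flp_g L117823) L117817 L117821 L118362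
theorem L118370 : sm gg N12313 = N16485 := rfl
theorem L118372 : sm gd N16485 = N12754 := ded_24_1 (flp_g L98803) (flp_d L96703) L118370
theorem L118374 : sm ge N16485 = N12314 := ded_26_1 (flp_g L96705) L96699 L118370
theorem L118376 : sm gb N16485 = N16485 := ded_17_1 (flp_g L118370) L96701 L84989 (flp_b L96701) L118370
theorem L118377 : sm gf N12314 = N16486 := rfl
theorem L118379 : sm ga N16486 = N16398 := ded_11_1 (flp_f L118368) L118364 L118377
theorem L118381 : sm gd N16486 = N12317 := ded_23_1 (flp_f L96722) (flp_d L96707) L118377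
theorem L118383 : sm gg N16486 = N16397 := ded_29_3 (flp_a L117817) L96462 L96705 L118377
theorem L118385 : sm ga N12315 = N16487 := rfl
theorem L118387 : sm ge N16487 = N12761 := ded_10_2 (flp_a L98839) (flp_e L96712) L118385
theorem L118389 : sm gb N16487 = N16487 := ded_7_2 (flp_a L118385) (flp_b L96710) (flp_a L84992) (flp_b L25316) L76172 L25316 L84992 L96710 L118385
theorem L118390 : sm gc N14368 = N16487 := ded_19_3 L118387 L112156 (flp_e L107364)
theorem L118392 : sm gc N12315 = N16488 := rfl
theorem L118394 : sm ga N16488 = N14368 := ded_8_1 L118390 (flp_a L118385) L118392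
theorem L118396 : sm ge N16488 = N12762 := ded_19_2 (flp_c L98842) (flp_e L96712) L118392
theorem L118398 : sm gb N16488 = N14518 := ded_13_1 L112145 (flp_b L111365) L93077 L96710 L118392
theorem L118400 : sm gf N12315 = N16489 := rfl
theorem L118402 : sm ge N16489 = N12763 := ded_25_1 (flp_f L98844) (flp_e L96712) L118400
theorem L118404 : sm gg N12315 = N16490 := rfl
theorem L118406 : sm ge N16490 = N12764 := ded_26_1 (flp_g L98846) (flp_e L96712) L118404
theorem L118408 : sm gb N12316 = N16491 := rfl
theorem L118410 : sm ge N16491 = N12768 := ded_15_2 (flp_b L98862) (flp_e L96718) L118408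
theorem L118412 : sm gb N12317 = N16492 := rfl
theorem L118414 : sm ge N16492 = N12773 := ded_15_2 (flp_b L98884) (flp_e L96726) L118412
theorem L118416 : sm gf N16492 = N16492 := ded_16_2 (flp_b L118412) (flp_f L96722) L85000 L96722 L118412
theorem L118417 : sm gb N12318 = N16493 := rfl
theorem L118419 : sm ge N16493 = N12774 := ded_15_2 (flp_b L98887) (flp_e L96734) L118417
theorem L118421 : sm gc N16493 = N16460 := ded_13_2 (flp_b L118230) (flp_c L96631) (flp_b L85011) L96730 L118417
theorem L118423 : sm gd N12318 = N16494 := rfl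
theorem L118425 : sm ga N16494 = N12320 := ded_9_1 (flp_d L96746) (flp_a L96732) L118423
theorem L118427 : sm gf N16494 = N14545 := ded_23_2 (flp_d L108286) (flp_f L96736) L118423
theorem L118429 : sm gg N16494 = N12320 := ded_24_2 (flp_d L96746) (flp_g L96738) L118423
theorem L118431 : sm ga N12319 = N16495 := rfl
theorem L118433 : sm gc N16495 = N12321 := ded_8_2 (flp_a L96750) (flp_c L96744) L118431
theorem L118435 : sm ge N16495 = N12776 := ded_10_2 (flp_a L98899) (flp_e L96742) L118431
theorem L118437 : sm gd N12319 = N16496 := rfl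
theorem L118439 : sm gb N16496 = N12320 := ded_14_1 (flp_d L96746) L96740 L118437
theorem L118441 : sm gf N12319 = N16497 := rfl
theorem L118443 : sm gc N16497 = N12323 := ded_20_1 (flp_f L96758) (flp_c L96744) L118441
theorem L118445 : sm ge N16497 = N12778 := ded_25_1 (flp_f L98907) (flp_e L96742) L118441
theorem L118447 : sm gb N16497 = N14531 := ded_16_1 L108214 L91499 (flp_f L85017) L96740 L118441
theorem L118449 : sm gg N12319 = N16498 := rfl
theorem L118451 : sm gc N16498 = N12324 := ded_21_1 (flp_g L96764) (flp_c L96744) L118449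
theorem L118453 : sm ge N16498 = N12779 := ded_26_1 (flp_g L98913) (flp_e L96742) L118449
theorem L118455 : sm gc N12320 = N16499 := rfl
theorem L118457 : sm gf N16499 = N14546 := ded_20_2 (flp_c L108291) (flp_f L96748) L118455
theorem L118459 : sm ge N12320 = N16500 := rfl
theorem L118461 : sm gf N16500 = N14547 := ded_25_2 (flp_e L108294) (flp_f L96748) L118459
theorem L118463 : sm gd N16500 = N12781 := ded_22_1 (flp_e L98921) (flp_d L85958) (flp_e L85015) L96746 L118459
theorem L118465 : sm gb N12321 = N16501 := rfl
theorem L118467 : sm ge N16501 = N12782 := ded_15_2 (flp_b L98925) (flp_e L96752) L118465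
theorem L118469 : sm gd N12321 = N16502 := rfl
theorem L118471 : sm ga N16502 = N12322 := ded_9_1 (flp_d L96754) L96750 L118469
theorem L118473 : sm gf N12321 = N16503 := rfl
theorem L118475 : sm ga N16503 = N12323 := ded_11_1 (flp_f L96758) L96750 L118473
theorem L118477 : sm ge N16503 = N12784 := ded_25_1 (flp_f L98931) (flp_e L96752) L118473
theorem L118479 : sm gg N12321 = N16504 := rfl
theorem L118481 : sm ga N16504 = N12324 := ded_12_1 (flp_g L96764) L96750 L118479
theorem L118483 : sm ge N16504 = N12785 := ded_26_1 (flp_g L98935) (flp_e L96752) L118479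
theorem L118485 : sm gc N12322 = N16505 := rfl
theorem L118487 : sm gb N16505 = N15123 := ded_13_1 (flp_c L111269) (flp_b L93019) (flp_c L85029) (flp_b L96756) L118485
theorem L118489 : sm ge N12322 = N16506 := rfl
theorem L118491 : sm gb N16506 = N12325 := ded_15_1 (flp_e L96768) (flp_b L96756) L118489
theorem L118493 : sm gd N16506 = N12787 := ded_22_1 (flp_e L98941) (flp_d L85964) (flp_e L85021) L96754 L118489
theorem L118495 : sm gf N12322 = N16507 := rfl
theorem L118497 : sm gd N16507 = N12323 := ded_23_1 (flp_f L96758) L96754 L118495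
theorem L118499 : sm gb N16507 = N14528 := ded_16_1 (flp_f L108190) L91469 (flp_f L85027) (flp_b L96756) L118495
theorem L118501 : sm gg N12322 = N16508 := rfl
theorem L118503 : sm gd N16508 = N12324 := ded_24_1 (flp_g L96764) L96754 L118501
theorem L118505 : sm gg N12323 = N16509 := rfl
theorem L118507 : sm ge N16509 = N12790 := ded_26_1 (flp_g L98955) (flp_e L96760) L118505
theorem L118509 : sm gf N16504 = N16509 := ded_29_0 (flp_g L118505) (flp_f L96758) L96764 (flp_a L118481)
theorem L118511 : sm gf N12324 = N16510 := rfl
theorem L118513 : sm ga N16510 = N16509 := ded_11_1 (flp_f L118509) L118481 L118511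
theorem L118515 : sm ge N16510 = N12791 := ded_25_1 (flp_f L98959) (flp_e L96766) L118511
theorem L118517 : sm gg N16510 = N16503 := ded_29_3 L118475 (flp_f L96758) L96764 L118511
theorem L118519 : sm ga N12326 = N16511 := rfl
theorem L118521 : sm gd N16511 = N15119 := ded_9_2 (flp_a L111249) (flp_d L96780) L118519
theorem L118523 : sm ge N12326 = N16512 := rfl
theorem L118525 : sm gb N16512 = N12327 := ded_15_1 (flp_e L96782) L96778 L118523
theorem L118527 : sm gd N16512 = N15399 := ded_22_1 L112640 L93851 (flp_e L93009) (flp_d L96780) L118523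
theorem L118529 : sm gf N12326 = N16513 := rfl
theorem L118531 : sm gd N16513 = N15116 := ded_23_1 L111231 (flp_d L96780) L118529
theorem L118533 : sm gb N16513 = N15114 := ded_16_1 (flp_f L111219) L92989 (flp_f L85035) L96778 L118529
theorem L118535 : sm gg N12326 = N16514 := rfl
theorem L118537 : sm gd N16514 = N15120 := ded_24_1 (flp_g L111253) (flp_d L96780) L118535
theorem L118539 : sm gb N16514 = N16508 := ded_17_1 (flp_g L118501) L96756 (flp_g L85037) L96778 L118535
theorem L118541 : sm gd N12328 = N16515 := rfl
theorem L118543 : sm ga N16515 = N16515 := ded_9_1 (flp_d L118541) L96798 L118541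
theorem L118544 : sm gb N16515 = N12329 := ded_14_1 (flp_d L96799) L96794 L118541
theorem L118546 : sm gc N12329 = N16516 := rfl
theorem L118548 : sm ga N16516 = N12330 := ded_8_1 (flp_c L96807) (flp_a L96801) L118546
theorem L118550 : sm gf N16516 = N12330 := ded_20_2 (flp_c L96807) (flp_f L96803) L118546
theorem L118552 : sm gg N16516 = N14548 := ded_21_2 (flp_c L108299) (flp_g L96805) L118546
theorem L118554 : sm gd N16466 = N16516 := ded_28_1 (flp_c L118546) (flp_d L96799) (flp_c L85045) (flp_d L84938) L96631 L118234 L118236 L118266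
theorem L118556 : sm ge N12329 = N16517 := rfl
theorem L118558 : sm ga N16517 = N12331 := ded_10_1 (flp_e L96811) (flp_a L96801) L118556
theorem L118564 : sm gd N16517 = N12337 := ded_22_1 (flp_e L96851) (flp_d L85076) (flp_e L85049) L96799 L118556
theorem L118566 : sm gb N12330 = N16518 := rfl
theorem L118568 : sm gd N12330 = N16519 := rfl
theorem L118570 : sm ga N16519 = N16466 := ded_9_1 L118554 L118548 L118568
theorem L118572 : sm gf N16519 = N16466 := ded_23_2 L118554 L118550 L118568
theorem L118574 : sm gg N16519 = N14551 := ded_24_2 (flp_d L108318) (flp_g L96809) L118568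
theorem L118576 : sm gc N16461 = N16519 := ded_28_0 (flp_d L118568) (flp_c L96807) (flp_d L85055) (flp_c L25569) (flp_d L25218) L84946 L96647 (flp_a L118236)
theorem L118578 : sm ge N12330 = N16520 := rfl
theorem L118580 : sm gc N16520 = N12331 := ded_19_1 (flp_e L96811) L96807 L118578
theorem L118584 : sm gd N12332 = N16521 := rfl
theorem L118586 : sm ga N16521 = N16521 := ded_9_1 (flp_d L118584) L96827 L118584
theorem L118587 : sm gb N16521 = N12333 := ded_14_1 (flp_d L96828) L96817 L118584
theorem L118589 : sm gf N16521 = N16515 := ded_23_2 (flp_d L118541) (flp_f L96823) L118584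
theorem L118591 : sm gg N16521 = N16515 := ded_24_2 (flp_d L118541) (flp_g L96825) L118584
theorem L118593 : sm gc N12333 = N16522 := rfl
theorem L118595 : sm ga N16522 = N12334 := ded_8_1 (flp_c L96836) (flp_a L96830) L118593
theorem L118597 : sm gf N16522 = N14553 := ded_20_2 (flp_c L108330) (flp_f L96832) L118593
theorem L118599 : sm gg N16522 = N12334 := ded_21_2 (flp_c L96836) (flp_g L96834) L118593
theorem L118601 : sm gd N16499 = N16522 := ded_28_1 (flp_c L118593) (flp_d L96828) (flp_c L85059) (flp_d L85003) L96730 L118423 L118425 L118455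
theorem L118603 : sm ge N12333 = N16523 := rfl
theorem L118611 : sm gd N16523 = N12341 := ded_22_1 (flp_e L96884) (flp_d L85101) (flp_e L85063) L96828 L118603
theorem L118613 : sm gb N12334 = N16524 := rfl
theorem L118615 : sm gd N12334 = N16525 := rfl
theorem L118617 : sm ga N16525 = N16499 := ded_9_1 L118601 L118595 L118615
theorem L118619 : sm gf N16525 = N14556 := ded_23_2 (flp_d L108349) (flp_f L96838) L118615
theorem L118621 : sm gg N16525 = N16499 := ded_24_2 L118601 L118599 L118615
theorem L118623 : sm gc N16494 = N16525 := ded_28_0 (flp_d L118615) (flp_c L96836) (flp_d L85069) (flp_c L25828) (flp_d L25342) L85013 L96746 (flp_a L118425)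
theorem L118625 : sm ge N12334 = N16526 := rfl
theorem L118629 : sm gf N16526 = N14557 := ded_25_2 (flp_e L108356) (flp_f L96838) L118625
theorem L118687 : sm ge N12344 = N16535 := rfl
theorem L118689 : sm ga N16535 = N12358 := ded_10_1 (flp_e L96959) (flp_a L96908) L118687
theorem L118691 : sm gb N16535 = N14387 := ded_15_1 (flp_e L107455) L102928 L118687
theorem L118693 : sm gc N16535 = N12345 := ded_19_1 (flp_e L96912) L96906 L118687
theorem L118695 : sm gd N16535 = N14388 := ded_22_1 (flp_e L107457) (flp_d L91125) L91129 L96910 L118687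
theorem L118697 : sm gf N12344 = N16536 := rfl
theorem L118699 : sm ga N16536 = N12359 := ded_11_1 (flp_f L96963) (flp_a L96908) L118697
theorem L118701 : sm gc N16536 = N12346 := ded_20_1 (flp_f L96920) L96906 L118697
theorem L118703 : sm gd N16536 = N14391 := ded_23_1 (flp_f L107471) L96910 L118697
theorem L118705 : sm gg N12344 = N16537 := rfl
theorem L118707 : sm ga N16537 = N12360 := ded_12_1 (flp_g L96967) (flp_a L96908) L118705
theorem L118709 : sm gc N16537 = N12347 := ded_21_1 (flp_g L96926) L96906 L118705
theorem L118711 : sm gd N16537 = N14392 := ded_24_1 (flp_g L107477) L96910 L118705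
theorem L118713 : sm gf N12345 = N16538 := rfl
theorem L118715 : sm ga N16538 = N12361 := ded_11_1 (flp_f L96971) (flp_a L96914) L118713
theorem L118717 : sm gd N16538 = N13288 := ded_23_1 (flp_f L101789) (flp_d L96918) L118713
theorem L118719 : sm ge N16538 = N12346 := ded_25_1 (flp_f L96920) L96912 L118713
theorem L118721 : sm gg N12345 = N16539 := rfl
theorem L118723 : sm ga N16539 = N12362 := ded_12_1 (flp_g L96975) (flp_a L96914) L118721
theorem L118725 : sm gd N16539 = N13289 := ded_24_1 (flp_g L101791) (flp_d L96918) L118721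
theorem L118727 : sm ge N16539 = N12347 := ded_26_1 (flp_g L96926) L96912 L118721
theorem L118729 : sm gb N12346 = N16540 := rfl
theorem L118731 : sm gd N16540 = N12348 := ded_14_2 (flp_b L96932) (flp_d L96924) L118729
theorem L118733 : sm gb N12347 = N16541 := rfl
theorem L118735 : sm gd N16541 = N12349 := ded_14_2 (flp_b L96934) (flp_d L96930) L118733
theorem L118737 : sm ga N12348 = N16542 := rfl
theorem L118740 : sm gc N12348 = N16543 := rfl
theorem L118742 : sm gb N16543 = N12351 := ded_13_1 (flp_c L96938) (flp_b L85133) (flp_c L85125) L96932 L118740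
theorem L118744 : sm gg N12348 = N16544 := rfl
theorem L118746 : sm ga N12349 = N16545 := rfl
theorem L118748 : sm gc N12349 = N16546 := rfl
theorem L118750 : sm gb N16546 = N12354 := ded_13_1 (flp_c L96944) (flp_b L85135) (flp_c L85131) L96934 L118748
theorem L118752 : sm gf N12349 = N16547 := rfl
theorem L118754 : sm gb N16547 = N16544 := ded_31_2 (flp_g L118744) (flp_f L107145) (flp_b L107143) (flp_g L90969) (flp_f L90963) L83337 (flp_g L42508) L42504 L70994 L90957 (flp_f L90961) L107147 L107149 L118752
theorem L118756 : sm gf N12370 = N16544 := ded_16_4 (flp_b L118754) (flp_f L118752) (flp_b L96934) L85157 L97013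
theorem L118758 : sm gg N12374 = N16547 := ded_31_0 (flp_f L118752) (flp_b L96934) (flp_g L85127) L85121 L96932 L118744 (flp_f L118756) (flp_b L97013) (flp_g L85153) (flp_f L26663) L12819 L26667 L85162 L97025
theorem L118760 : sm gc N12350 = N16548 := rfl
theorem L118762 : sm ga N16548 = N12351 := ded_8_1 (flp_c L96938) L96936 L118760
theorem L118764 : sm gb N16548 = N15180 := ded_13_1 L111581 L93235 (flp_c L93401) (flp_b L97035) L118760
theorem L118766 : sm gd N12351 = N16549 := rfl
theorem L118768 : sm gg N12351 = N16550 := rfl
theorem L118770 : sm gc N16550 = N12352 := ded_21_1 (flp_g L96940) L96938 L118768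
theorem L118772 : sm gc N12353 = N16551 := rfl
theorem L118774 : sm ga N16551 = N12354 := ded_8_1 (flp_c L96944) L96942 L118772
theorem L118776 : sm gb N16551 = N15214 := ded_13_1 L111737 L93325 (flp_c L102041) (flp_b L97911) L118772
theorem L118778 : sm gd N12354 = N16552 := rfl
theorem L118780 : sm gf N12354 = N16553 := rfl
theorem L118782 : sm gc N16553 = N12355 := ded_20_1 (flp_f L96946) L96944 L118780
theorem L118784 : sm ga N12356 = N16554 := rfl
theorem L118787 : sm gd N12356 = N16555 := rfl
theorem L118789 : sm gb N16555 = N12357 := ded_14_1 (flp_d L96951) L96948 L118787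
theorem L118791 : sm ge N14375 = N16555 := ded_15_0 L118789 (flp_e L96957) L107408
theorem L118793 : sm gc N14375 = N16555 := ded_13_0 L118789 (flp_c L96955) L91089 L91105 L107408
theorem L118795 : sm ga N16555 = N16555 := ded_7_9 L118789 L96953 L91131 (flp_a L102841) L102843 L102841 (flp_b L91131) (flp_a L96953) (flp_b L118789)
theorem L118796 : N16554 = N12356 := coi_9_0 L118787 L118795 (flp_d L118787) L118784
theorem L118797 : N16554 = N12356 := eqc rfl L118796 rfl
theorem L118798 : sm ga N12356 = N12356 := trfs L118797 (flp_a L118784) rfl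
theorem L118800 : sm ge N12356 = N16556 := rfl
theorem L118802 : sm ga N16556 = N16556 := ded_10_1 (flp_e L118800) L118798 L118800
theorem L118803 : sm gb N16556 = N12358 := ded_15_1 (flp_e L96959) L96948 L118800
theorem L118805 : sm gc N16556 = N16556 := ded_19_1 (flp_e L118800) L96950 L118800
theorem L118806 : sm gf N12356 = N16557 := rfl
theorem L118810 : sm gg N12356 = N16558 := rfl
theorem L118814 : sm gf N12357 = N16559 := rfl
theorem L118816 : sm ga N16559 = N14391 := ded_11_1 (flp_f L107471) (flp_a L96953) L118814
theorem L118818 : sm gc N16559 = N14371 := ded_20_1 (flp_f L107384) L96955 L118814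
theorem L118820 : sm gd N16559 = N12359 := ded_23_1 (flp_f L96963) L96951 L118814
theorem L118822 : sm ge N16559 = N14377 := ded_25_1 (flp_f L107417) L96957 L118814
theorem L118824 : sm gg N12357 = N16560 := rfl
theorem L118826 : sm ga N16560 = N14392 := ded_12_1 (flp_g L107477) (flp_a L96953) L118824
theorem L118828 : sm gc N16560 = N14372 := ded_21_1 (flp_g L107392) L96955 L118824
theorem L118830 : sm gd N16560 = N12360 := ded_24_1 (flp_g L96967) L96951 L118824
theorem L118832 : sm ge N16560 = N14378 := ded_26_1 (flp_g L107423) L96957 L118824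
theorem L118834 : sm gd N12358 = N16561 := rfl
theorem L118836 : sm ga N16561 = N14388 := ded_9_1 (flp_d L118695) L118689 L118834
theorem L118838 : sm ge N16561 = N14376 := ded_22_2 (flp_d L107411) L96957 (flp_d L96951) L96959 L118834
theorem L118840 : sm gf N12358 = N16562 := rfl
theorem L118842 : sm gc N16562 = N12361 := ded_20_1 (flp_f L96971) (flp_c L96961) L118840
theorem L118844 : sm ge N16562 = N12359 := ded_25_1 (flp_f L96963) L96959 L118840
theorem L118846 : sm gg N12358 = N16563 := rfl
theorem L118848 : sm gc N16563 = N12362 := ded_21_1 (flp_g L96975) (flp_c L96961) L118846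
theorem L118850 : sm ge N16563 = N12360 := ded_26_1 (flp_g L96967) L96959 L118846
theorem L118852 : sm gb N12359 = N16564 := rfl
theorem L118854 : sm gg N12359 = N16565 := rfl
theorem L118856 : sm gc N16565 = N12364 := ded_21_1 (flp_g L96984) (flp_c L96965) L118854
theorem L118858 : sm gf N16537 = N16565 := ded_29_0 (flp_g L118854) (flp_f L96963) L96967 (flp_a L118707)
theorem L118860 : sm gb N12360 = N16566 := rfl
theorem L118862 : sm gf N12360 = N16567 := rfl
theorem L118864 : sm ga N16567 = N16565 := ded_11_1 (flp_f L118858) L118707 L118862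
theorem L118866 : sm gc N16567 = N12366 := ded_20_1 (flp_f L96995) (flp_c L96969) L118862
theorem L118868 : sm gg N16567 = N16536 := ded_29_3 L118699 (flp_f L96963) L96967 L118862
theorem L118870 : sm gb N12361 = N16568 := rfl
theorem L118872 : sm ge N16568 = N12363 := ded_15_2 (flp_b L96979) (flp_e L96973) L118870
theorem L118874 : sm gf N16568 = N16568 := ded_16_2 (flp_b L118870) (flp_f L96971) L85141 L96971 L118870
theorem L118875 : sm ga N16568 = N16568 := ded_10_3 L118872 L97050 (flp_e L118872)
theorem L118876 : sm gg N12361 = N16569 := rfl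
theorem L118878 : sm ge N16569 = N12364 := ded_26_1 (flp_g L96984) (flp_e L96973) L118876
theorem L118880 : sm gf N16539 = N16569 := ded_29_0 (flp_g L118876) (flp_f L96971) L96975 (flp_a L118723)
theorem L118882 : sm gb N12362 = N16570 := rfl
theorem L118884 : sm ge N16570 = N12365 := ded_15_2 (flp_b L96990) (flp_e L96977) L118882
theorem L118886 : sm gg N16570 = N16570 := ded_17_2 (flp_b L118882) (flp_g L96975) L85141 L96975 L118882
theorem L118887 : sm gf N12362 = N16571 := rfl
theorem L118889 : sm ga N16571 = N16569 := ded_11_1 (flp_f L118880) L118723 L118887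
theorem L118891 : sm ge N16571 = N12366 := ded_25_1 (flp_f L96995) (flp_e L96977) L118887
theorem L118893 : sm gg N16571 = N16538 := ded_29_3 L118715 (flp_f L96971) L96975 L118887
theorem L118895 : sm gc N12363 = N16572 := rfl
theorem L118899 : sm gg N12363 = N16573 := rfl
theorem L118901 : sm ga N16573 = N16573 := ded_12_1 (flp_g L118899) L97050 L118899
theorem L118902 : sm gd N16573 = N12369 := ded_24_1 (flp_g L97011) (flp_d L96981) L118899
theorem L118904 : sm gf N16573 = N16573 := ded_29_0 (flp_g L118899) L96983 L118899 L118901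
theorem L118905 : sm gb N12364 = N16574 := rfl
theorem L118907 : sm gd N16574 = N12370 := ded_14_2 (flp_b L97013) (flp_d L96986) L118905
theorem L118909 : sm ga N12365 = N16575 := rfl
theorem L118911 : sm gd N16575 = N12371 := ded_9_2 (flp_a L97015) (flp_d L96992) L118909
theorem L118914 : sm gc N12365 = N16576 := rfl
theorem L118917 : sm gf N12365 = N16577 := rfl
theorem L118919 : sm gd N16577 = N12373 := ded_23_1 (flp_f L97023) (flp_d L96992) L118917
theorem L118921 : sm gb N12366 = N16578 := rfl
theorem L118923 : sm gd N16578 = N12374 := ded_14_2 (flp_b L97025) (flp_d L96999) L118921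
theorem L118925 : sm gd N12368 = N16579 := rfl
theorem L118927 : sm ga N16579 = N16579 := ded_9_1 (flp_d L118925) L97045 L118925
theorem L118928 : sm gb N16579 = N12377 := ded_14_1 (flp_d L97054) (flp_b L97009) L118925
theorem L118930 : sm gf N16579 = N16579 := ded_23_2 (flp_d L118925) L97008 L118925
theorem L118931 : sm gc N16579 = N16579 := ded_13_0 L118928 L97058 L85210 (flp_c L97058) (flp_b L118928)
theorem L118932 : N12363 = N16572 := coi_28_4 (flp_c L118895) L96981 L97006 L118925 L118927 L118931 (flp_d L118925) (flp_c L97006) (flp_d L96981)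
theorem L118933 : N16572 = N12363 := (eqc rfl L118932 rfl).symm
theorem L118935 : sm gc N12363 = N12363 := trfs L118933 (flp_c L118895) rfl
theorem L118937 : sm gc N16568 = N16568 := ded_19_3 L118872 L118935 (flp_e L118872)
theorem L118938 : sm gc N16573 = N16573 := ded_21_3 (flp_g L118899) L118935 L118899
theorem L118939 : N16564 = N12359 := coi_13_4 L96965 L96979 L118935 (flp_b L96979) (flp_c L96965) L118852
theorem L118940 : N16564 = N12359 := eqc rfl L118939 rfl
theorem L118941 : sm gb N12359 = N12359 := trfs L118940 (flp_b L118852) rfl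
theorem L118942 : sm gb N16562 = N16562 := ded_13_3 L118842 L118870 L118937 (flp_b L118870) (flp_c L118842)
theorem L118943 : sm gb N16559 = N16559 := ded_14_3 L118820 L118941 (flp_d L118820)
theorem L118944 : N16557 = N12356 := coi_16_5 (flp_b L96948) L96963 L118941 (flp_f L96963) L96948 L118806
theorem L118945 : N16557 = N12356 := eqc rfl L118944 rfl
theorem L118948 : sm gf N12356 = N12356 := trfs L118945 (flp_f L118806) rfl
theorem L118949 : sm gf N16556 = N16556 := ded_16_4 L118803 L118840 L118942 (flp_f L118840) (flp_b L118803)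
theorem L118950 : sm gb N14377 = N14377 := ded_15_3 (flp_e L118822) L118943 L118822
theorem L118951 : sm gf N16555 = N16555 := ded_16_4 L118789 L118814 L118943 (flp_f L118814) (flp_b L118789)
theorem L118952 : N14641 = N11352 := coi_30_14 (flp_b L91770) L72352 (flp_f L37211) (flp_c L20527) (flp_b L42914) (flp_a L91087) L107384 (flp_c L118818) L118943 L118816 (flp_f L107471) L91133 L42914 L20525 L21169 (flp_c L72354) L91770 L108721 L108727 L108769
theorem L118953 : N14641 = N11352 := eqc rfl L118952 rfl
theorem L118954 : sm ga N11352 = N11355 := trfs L118953 L108771 rfl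
theorem L118955 : N11355 = N14634 := eqes L118954 L108721
theorem L118956 : N14634 = N11355 := (eqc rfl L118955 rfl).symm
theorem L118957 : sm gc N11352 = N11354 := trfs L118953 (flp_c L108769) rfl
theorem L118958 : N11354 = N14635 := eqes L118957 L108729
theorem L118959 : N14635 = N11354 := (eqc rfl L118958 rfl).symm
theorem L118960 : sm gb N11354 = N11361 := trfs L118959 L108735 rfl
theorem L118961 : N11361 = N14640 := eqes L118960 L108765
theorem L118962 : N14640 = N11361 := (eqc rfl L118961 rfl).symm
theorem L118963 : sm gc N11354 = N11352 := trfs L118959 (flp_c L108729) rfl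
theorem L118969 : sm gb N11361 = N11354 := trfs L118962 (flp_b L108765) rfl
theorem L118971 : sm gd N11361 = N13392 := trfs L118962 L108767 rfl
theorem L118972 : N13392 = N14655 := eqes L118971 L108855
theorem L118973 : N14655 = N13392 := (eqc rfl L118972 rfl).symm
theorem L118974 : sm gc N13392 = N15179 := trfs L118973 (flp_c L111577) rfl
theorem L118976 : sm gd N13392 = N11361 := trfs L118973 (flp_d L108855) rfl
theorem L118978 : sm ga N11355 = N11352 := trfs L118956 (flp_a L108721) rfl
theorem L118980 : sm gd N11355 = N13384 := trfs L118956 L108723 rfl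
theorem L118981 : N13384 = N14643 := eqes L118980 L108781
theorem L118982 : N14643 = N13384 := (eqc rfl L118981 rfl).symm
theorem L118983 : sm ge N11355 = N11354 := trfs L118956 L108725 rfl
theorem L118985 : sm gf N11355 = N11354 := trfs L118956 L108727 rfl
theorem L118987 : sm gg N11355 = N14645 := trfs L118956 (flp_g L108797) rfl
theorem L118988 : N14645 = N14644 := eqes L118987 L108785
theorem L118989 : N14645 = N14644 := eqc rfl L118988 rfl
theorem L118990 : sm ga N14644 = N14636 := trfs L118989 L108791 rfl
theorem L118992 : sm gd N14644 = N13397 := trfs L118989 L108793 rfl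
theorem L118994 : sm ge N14644 = N14642 := trfs L118989 L108795 rfl
theorem L118996 : sm gf N14644 = N11356 := trfs L118989 (flp_f L108789) rfl
theorem L118998 : sm gb N13384 = N11371 := trfs L118982 L108783 rfl
theorem L119000 : sm gd N13384 = N11355 := trfs L118982 (flp_d L108781) rfl
theorem L119004 : sm gf N14375 = N14375 := ded_16_4 (flp_b L107408) L107417 L118950 (flp_f L107417) L107408
theorem L119005 : sm gc N14636 = N14642 := ded_21_3 (flp_g L108773) L118963 L108737
theorem L119007 : N13840 = N14680 := coi_30_1 (flp_c L108983) (flp_b L118998) (flp_a L102417) L88274 L88294 L88296 L71682 L71679 (flp_c L36618) (flp_b L17539) L8547 (flp_f L4435) L4433 L8667 L17804 L37163 L37167 L39583 L89614 (flp_f L104811)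
theorem L119008 : N14680 = N13840 := (eqc rfl L119007 rfl).symm
theorem L119009 : sm ga N13840 = N14740 := trfs L119008 (flp_a L109231) rfl
theorem L119010 : N14740 = N10932 := eqes L119009 (flp_a L104809)
theorem L119011 : N14740 = N10932 := eqc rfl L119010 rfl
theorem L119012 : sm gc N13840 = N11371 := trfs L119008 (flp_c L108983) rfl
theorem L119014 : sm gd N13840 = N14732 := trfs L119008 L109201 rfl
theorem L119016 : sm gc N10932 = N14677 := trfs L119011 (flp_c L109233) rfl
theorem L119017 : N14677 = N13841 := eqes L119016 L104813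
theorem L119018 : N14677 = N13841 := eqc rfl L119017 rfl
theorem L119019 : sm gd N10932 = N11396 := trfs L119011 (flp_d L109229) rfl
theorem L119020 : N11396 = N13338 := eqes L119019 (flp_d L102203)
theorem L119021 : N13338 = N11396 := (eqc rfl L119020 rfl).symm
theorem L119022 : sm gb N11396 = N10664 := trfs L119021 (flp_b L102201) rfl
theorem L119023 : N10664 = N14739 := eqes L119022 L109225
theorem L119024 : N14739 = N10664 := (eqc rfl L119023 rfl).symm
theorem L119025 : sm gd N11396 = N10932 := trfs L119021 L102203 rfl
theorem L119027 : sm gf N11396 = N10666 := trfs L119021 L102205 rfl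
theorem L119028 : N10666 = N14602 := eqes L119027 (flp_f L108597)
theorem L119029 : N14602 = N10666 := (eqc rfl L119028 rfl).symm
theorem L119030 : sm gc N10666 = N11338 := trfs L119029 (flp_c L108595) rfl
theorem L119031 : N11338 = N13343 := eqes L119030 L102231
theorem L119032 : N13343 = N11338 := (eqc rfl L119031 rfl).symm
theorem L119033 : sm gf N10666 = N11396 := trfs L119029 L108597 rfl
theorem L119035 : sm gc N11338 = N10666 := trfs L119032 (flp_c L102231) rfl
theorem L119037 : sm gb N10664 = N11396 := trfs L119024 (flp_b L109225) rfl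
theorem L119039 : sm gc N10664 = N11432 := trfs L119024 L109227 rfl
theorem L119040 : N11432 = N13336 := eqes L119039 (flp_c L102193)
theorem L119041 : N13336 = N11432 := (eqc rfl L119040 rfl).symm
theorem L119042 : sm ga N11432 = N10732 := trfs L119041 L102191 rfl
theorem L119043 : N10732 = N14816 := eqes L119042 L109523
theorem L119044 : N14816 = N10732 := (eqc rfl L119043 rfl).symm
theorem L119045 : sm gc N11432 = N10664 := trfs L119041 L102193 rfl
theorem L119047 : sm gf N11432 = N10663 := trfs L119041 (flp_f L102189) rfl
theorem L119048 : N10663 = N14818 := eqes L119047 L109531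
theorem L119049 : N14818 = N10663 := (eqc rfl L119048 rfl).symm
theorem L119050 : sm gg N11432 = N13465 := trfs L119041 (flp_g L102837) rfl
theorem L119051 : N13465 = N14819 := eqes L119050 L109537
theorem L119052 : N14819 = N13465 := (eqc rfl L119051 rfl).symm
theorem L119053 : sm gb N13465 = N12832 := trfs L119052 L109541 rfl
theorem L119055 : sm gd N13465 = N12800 := trfs L119052 L109539 rfl
theorem L119057 : sm gg N13465 = N11432 := trfs L119052 (flp_g L109537) rfl
theorem L119059 : sm gb N10663 = N11740 := trfs L119049 L109535 rfl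
theorem L119060 : N11740 = N13287 := eqes L119059 (flp_b L101785)
theorem L119061 : N13287 = N11740 := (eqc rfl L119060 rfl).symm
theorem L119062 : sm gd N10663 = N12799 := trfs L119049 L109533 rfl
theorem L119063 : N12799 = N13335 := eqes L119062 L102180
theorem L119064 : N13335 = N12799 := (eqc rfl L119063 rfl).symm
theorem L119065 : sm gf N10663 = N11432 := trfs L119049 (flp_f L109531) rfl
theorem L119067 : sm ga N12799 = N10731 := trfs L119064 L102182 rfl
theorem L119069 : sm gb N12799 = N10735 := trfs L119064 L102184 rfl
theorem L119070 : N10735 = N11790 := eqes L119069 L98988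
theorem L119071 : N11790 = N10735 := (eqc rfl L119070 rfl).symm
theorem L119073 : sm gd N12799 = N10663 := trfs L119064 (flp_d L102180) rfl
theorem L119075 : sm ge N12799 = N10731 := trfs L119064 L102186 rfl
theorem L119080 : sm gb N10735 = N12799 := trfs L119071 (flp_b L98988) rfl
theorem L119082 : sm gc N10735 = N15439 := trfs L119071 (flp_c L112808) rfl
theorem L119083 : N15439 = N13466 := eqes L119082 (flp_c L102844)
theorem L119084 : N15439 = N13466 := eqc rfl L119083 rfl
theorem L119090 : sm gf N10735 = N9680 := trfs L119071 (flp_f L93968) rfl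
theorem L119091 : N9680 = N13469 := eqes L119090 L102862
theorem L119092 : N13469 = N9680 := (eqc rfl L119091 rfl).symm
theorem L119093 : sm gg N10735 = N15455 := trfs L119071 L112888 rfl
theorem L119094 : N15455 = N13470 := eqes L119093 L102868
theorem L119095 : N15455 = N13470 := eqc rfl L119094 rfl
theorem L119096 : sm ga N13470 = N15457 := trfs L119095 (flp_a L112902) rfl
theorem L119097 : N15457 = N10745 := eqes L119096 L102870
theorem L119098 : N15457 = N10745 := eqc rfl L119097 rfl
theorem L119101 : sm gf N13470 = N15451 := trfs L119095 (flp_f L112892) rfl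
theorem L119102 : N15451 = N13490 := eqes L119101 L102970
theorem L119103 : N15451 = N13490 := eqc rfl L119102 rfl
theorem L119104 : sm ga N13490 = N11791 := trfs L119103 L112870 rfl
theorem L119105 : N11791 = N13492 := eqes L119104 (flp_a L102980)
theorem L119106 : N13492 = N11791 := (eqc rfl L119105 rfl).symm
theorem L119107 : sm gd N13490 = N15351 := trfs L119103 L112872 rfl
theorem L119109 : sm gg N13490 = N11788 := trfs L119103 (flp_g L112868) rfl
theorem L119110 : N11788 = N10744 := eqes L119109 (flp_g L102966)
theorem L119111 : N11788 = N10744 := eqc rfl L119110 rfl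
theorem L119114 : sm gb N10744 = N15448 := trfs L119111 L112854 rfl
theorem L119115 : N15448 = N13489 := eqes L119114 L102960
theorem L119116 : N15448 = N13489 := eqc rfl L119115 rfl
theorem L119117 : sm gc N10744 = N15436 := trfs L119111 (flp_c L112794) rfl
theorem L119118 : N15436 = N13483 := eqes L119117 (flp_c L102932)
theorem L119119 : N15436 = N13483 := eqc rfl L119118 rfl
theorem L119120 : sm gd N10744 = N11738 := trfs L119111 L93962 rfl
theorem L119121 : N11738 = N13380 := eqes L119120 (flp_d L102395)
theorem L119122 : N13380 = N11738 := (eqc rfl L119121 rfl).symm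
theorem L119123 : sm ge N10744 = N15449 := trfs L119111 L112858 rfl
theorem L119124 : N15449 = N7739 := eqes L119123 L88566
theorem L119125 : N15449 = N7739 := eqc rfl L119124 rfl
theorem L119127 : sm ga N7739 = N11789 := trfs L119125 L112860 rfl
theorem L119128 : N11789 = N10736 := eqes L119127 (flp_a L88532)
theorem L119129 : N11789 = N10736 := eqc rfl L119128 rfl
theorem L119130 : sm gb N10736 = N9681 := trfs L119129 L93966 rfl
theorem L119131 : N9681 = N13471 := eqes L119130 L102874
theorem L119132 : N13471 = N9681 := (eqc rfl L119131 rfl).symm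
theorem L119133 : sm gc N10736 = N15438 := trfs L119129 (flp_c L112804) rfl
theorem L119134 : N15438 = N13467 := eqes L119133 (flp_c L102850)
theorem L119135 : N15438 = N13467 := eqc rfl L119134 rfl
theorem L119136 : sm gd N10736 = N15452 := trfs L119129 L112874 rfl
theorem L119137 : N15452 = N7735 := eqes L119136 L88534
theorem L119138 : N15452 = N7735 := eqc rfl L119137 rfl
theorem L119147 : sm gb N7735 = N11792 := trfs L119138 L112876 rfl
theorem L119148 : N11792 = N10738 := eqes L119147 L88542
theorem L119149 : N11792 = N10738 := eqc rfl L119148 rfl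
theorem L119150 : sm ge N7735 = N15352 := trfs L119138 L112878 rfl
theorem L119151 : N15352 = N10703 := eqes L119150 (flp_e L88332)
theorem L119152 : N15352 = N10703 := eqc rfl L119151 rfl
theorem L119153 : sm gb N10703 = N11742 := trfs L119152 L112440 rfl
theorem L119154 : N11742 = N13410 := eqes L119153 L102525
theorem L119155 : N13410 = N11742 := (eqc rfl L119154 rfl).symm
theorem L119156 : sm gd N10703 = N11739 := trfs L119152 (flp_d L112438) rfl
theorem L119157 : N11739 = N13408 := eqes L119156 (flp_d L102517)
theorem L119158 : N13408 = N11739 := (eqc rfl L119157 rfl).symm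
theorem L119159 : sm ga N11739 = N10705 := trfs L119158 L102515 rfl
theorem L119160 : N10705 = N15349 := eqes L119159 (flp_a L112428)
theorem L119161 : N15349 = N10705 := (eqc rfl L119160 rfl).symm
theorem L119162 : sm gc N11739 = N15926 := trfs L119158 (flp_c L115162) rfl
theorem L119163 : N15926 = N15260 := eqes L119162 (flp_c L111974)
theorem L119164 : N15926 = N15260 := eqc rfl L119163 rfl
theorem L119165 : sm gd N11739 = N10703 := trfs L119158 L102517 rfl
theorem L119167 : sm gf N11739 = N10702 := trfs L119158 (flp_f L102513) rfl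
theorem L119168 : N10702 = N15353 := eqes L119167 L112442
theorem L119169 : N15353 = N10702 := (eqc rfl L119168 rfl).symm
theorem L119170 : sm gg N11739 = N13415 := trfs L119158 (flp_g L102557) rfl
theorem L119171 : N13415 = N15354 := eqes L119170 L112446
theorem L119172 : N15354 = N13415 := (eqc rfl L119171 rfl).symm
theorem L119173 : sm ge N13415 = N11741 := trfs L119172 L112448 rfl
theorem L119175 : sm gg N13415 = N11739 := trfs L119172 (flp_g L112446) rfl
theorem L119179 : sm gf N10702 = N11739 := trfs L119169 (flp_f L112442) rfl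
theorem L119181 : sm ga N15260 = N12039 := trfs L119164 L115160 rfl
theorem L119183 : sm gd N15260 = N12034 := trfs L119164 L115164 rfl
theorem L119185 : sm ge N15260 = N13288 := trfs L119164 L115166 rfl
theorem L119186 : N13288 = N11679 := eqes L119185 (flp_e L111970)
theorem L119187 : N13288 = N11679 := eqc rfl L119186 rfl
theorem L119188 : sm gf N15260 = N12033 := trfs L119164 (flp_f L115158) rfl
theorem L119190 : sm gg N15260 = N15941 := trfs L119164 (flp_g L115261) rfl
theorem L119192 : sm ga N11679 = N15936 := trfs L119187 (flp_a L115216) rfl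
theorem L119193 : N15936 = N15259 := eqes L119192 L111966
theorem L119194 : N15936 = N15259 := eqc rfl L119193 rfl
theorem L119195 : sm gd N11679 = N16538 := trfs L119187 (flp_d L118717) rfl
theorem L119196 : N16538 = N12521 := eqes L119195 (flp_d L97662)
theorem L119197 : N16538 = N12521 := eqc rfl L119196 rfl
theorem L119198 : sm gf N11679 = N10636 := trfs L119187 (flp_f L101789) rfl
theorem L119199 : N10636 = N15261 := eqes L119198 L111976
theorem L119200 : N15261 = N10636 := (eqc rfl L119199 rfl).symm
theorem L119203 : sm gf N10636 = N11679 := trfs L119200 (flp_f L111976) rfl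
theorem L119205 : sm ga N12521 = N12361 := trfs L119197 L118715 rfl
theorem L119207 : sm ge N12521 = N12346 := trfs L119197 L118719 rfl
theorem L119209 : sm gf N12521 = N12345 := trfs L119197 (flp_f L118713) rfl
theorem L119211 : sm gg N12521 = N16571 := trfs L119197 (flp_g L118893) rfl
theorem L119214 : sm gd N15259 = N12361 := trfs L119194 L115220 rfl
theorem L119216 : sm ge N15259 = N12039 := trfs L119194 L115222 rfl
theorem L119218 : sm gf N15259 = N12038 := trfs L119194 (flp_f L115214) rfl
theorem L119220 : sm ga N10705 = N11739 := trfs L119161 L112428 rfl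
theorem L119224 : sm gb N11742 = N10703 := trfs L119155 (flp_b L102525) rfl
theorem L119228 : sm ga N10738 = N9697 := trfs L119149 L93978 rfl
theorem L119229 : N9697 = N13473 := eqes L119228 L102882
theorem L119230 : N13473 = N9697 := (eqc rfl L119229 rfl).symm
theorem L119231 : sm gc N10738 = N11450 := trfs L119149 L93982 rfl
theorem L119232 : N11450 = N13474 := eqes L119231 L102884
theorem L119233 : N13474 = N11450 := (eqc rfl L119232 rfl).symm
theorem L119236 : sm ge N10738 = N11742 := trfs L119149 L93980 rfl
theorem L119238 : sm gf N10738 = N11814 := trfs L119149 (flp_f L94106) rfl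
theorem L119239 : N11814 = N13462 := eqes L119238 (flp_f L102819)
theorem L119240 : N13462 = N11814 := (eqc rfl L119239 rfl).symm
theorem L119241 : sm gg N10738 = N12893 := trfs L119149 (flp_g L99568) rfl
theorem L119242 : N12893 = N13475 := eqes L119241 L102894
theorem L119243 : N13475 = N12893 := (eqc rfl L119242 rfl).symm
theorem L119244 : sm gb N12893 = N13516 := trfs L119243 (flp_b L103084) rfl
theorem L119246 : sm gg N12893 = N10738 := trfs L119243 (flp_g L102894) rfl
theorem L119249 : sm gb N11814 = N10732 := trfs L119240 (flp_b L102817) rfl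
theorem L119250 : N10732 = N15498 := eqes L119249 L113124
theorem L119251 : N15498 = N10732 := (eqc rfl L119250 rfl).symm
theorem L119253 : sm gf N11814 = N10738 := trfs L119240 L102819 rfl
theorem L119255 : sm gb N10732 = N11814 := trfs L119251 (flp_b L113124) rfl
theorem L119257 : sm gd N10732 = N12798 := trfs L119251 L113126 rfl
theorem L119258 : N12798 = N13460 := eqes L119257 (flp_d L102810)
theorem L119259 : N13460 = N12798 := (eqc rfl L119258 rfl).symm
theorem L119261 : sm gd N12798 = N10732 := trfs L119259 L102810 rfl
theorem L119263 : sm gf N12798 = N10731 := trfs L119259 (flp_f L102807) rfl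
theorem L119265 : sm gb N11450 = N10937 := trfs L119233 L102886 rfl
theorem L119266 : N10937 = N14849 := eqes L119265 (flp_b L109681)
theorem L119267 : N14849 = N10937 := (eqc rfl L119266 rfl).symm
theorem L119268 : sm gc N11450 = N10738 := trfs L119233 (flp_c L102884) rfl
theorem L119271 : sm gb N10937 = N11450 := trfs L119267 L109681 rfl
theorem L119273 : sm gd N10937 = N11446 := trfs L119267 (flp_d L109679) rfl
theorem L119274 : N11446 = N13851 := eqes L119273 L104845
theorem L119275 : N13851 = N11446 := (eqc rfl L119274 rfl).symm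
theorem L119276 : sm gd N11446 = N10937 := trfs L119275 (flp_d L104845) rfl
theorem L119278 : sm ga N9697 = N10738 := trfs L119230 (flp_a L102882) rfl
theorem L119280 : sm gb N13467 = N11783 := trfs L119135 L112802 rfl
theorem L119282 : sm ge N13467 = N11781 := trfs L119135 (flp_e L112800) rfl
theorem L119284 : sm gb N9681 = N10736 := trfs L119132 (flp_b L102874) rfl
theorem L119286 : sm gd N9681 = N10738 := trfs L119132 L102876 rfl
theorem L119288 : sm gd N11738 = N10744 := trfs L119122 L102395 rfl
theorem L119290 : sm ge N11738 = N10705 := trfs L119122 L102397 rfl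
theorem L119292 : sm gf N11738 = N10686 := trfs L119122 (flp_f L102393) rfl
theorem L119293 : N10686 = N15350 := eqes L119292 L112430
theorem L119294 : N15350 = N10686 := (eqc rfl L119293 rfl).symm
theorem L119298 : sm gf N10686 = N11738 := trfs L119294 (flp_f L112430) rfl
theorem L119300 : sm gg N10686 = N15357 := trfs L119294 (flp_g L112462) rfl
theorem L119301 : N15357 = N13381 := eqes L119300 L102399
theorem L119302 : N15357 = N13381 := eqc rfl L119301 rfl
theorem L119303 : sm ga N13381 = N15355 := trfs L119302 L112460 rfl
theorem L119306 : sm gf N13381 = N11741 := trfs L119302 (flp_f L112458) rfl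
theorem L119308 : sm ga N13483 = N11781 := trfs L119119 (flp_a L112792) rfl
theorem L119310 : sm ga N13489 = N11877 := trfs L119116 L112944 rfl
theorem L119312 : sm gc N13489 = N11876 := trfs L119116 (flp_c L112946) rfl
theorem L119314 : sm gd N13489 = N15348 := trfs L119116 L112856 rfl
theorem L119316 : sm ga N11791 = N13490 := trfs L119106 L102980 rfl
theorem L119318 : sm ge N11791 = N10749 := trfs L119106 L102982 rfl
theorem L119323 : sm gf N10745 = N11791 := trfs L119098 (flp_f L112900) rfl
theorem L119326 : sm ga N9680 = N10744 := trfs L119092 L102864 rfl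
theorem L119328 : sm ge N9680 = N10736 := trfs L119092 L102866 rfl
theorem L119330 : sm gf N9680 = N10735 := trfs L119092 (flp_f L102862) rfl
theorem L119333 : sm gf N13466 = N11781 := trfs L119084 (flp_f L112806) rfl
theorem L119335 : sm ga N11740 = N10686 := trfs L119061 L101781 rfl
theorem L119337 : sm gb N11740 = N10663 := trfs L119061 L101785 rfl
theorem L119339 : sm gc N11740 = N10636 := trfs L119061 (flp_c L101779) rfl
theorem L119341 : sm gd N11740 = N10735 := trfs L119061 (flp_d L101787) rfl
theorem L119343 : sm ge N11740 = N10702 := trfs L119061 L101783 rfl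
theorem L119345 : sm ga N10732 = N11432 := trfs L119044 (flp_a L109523) rfl
theorem L119347 : sm gd N10732 = N12797 := trfs L119044 L109525 rfl
theorem L119348 : N12797 = N12798 := eqes L119347 (flp_d L119261)
theorem L119349 : N12798 = N12797 := (eqc rfl L119348 rfl).symm
theorem L119350 : sm gb N12797 = N10315 := trfs L119349 L98982 rfl
theorem L119353 : sm gd N12797 = N10732 := trfs L119349 L119261 rfl
theorem L119355 : sm ge N12797 = N10314 := trfs L119349 (flp_e L98980) rfl
theorem L119357 : sm gf N12797 = N10731 := trfs L119349 L119263 rfl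
theorem L119359 : sm ga N13841 = N11371 := trfs L119018 L108969 rfl
theorem L119361 : sm gd N13841 = N11369 := trfs L119018 (flp_d L108967) rfl
theorem L119363 : N10944 = N14721 := coi_32_14 L109161 (flp_b L91948) L91950 L109197 (flp_d L119014) L119012 (flp_b L118998) L119000 (flp_c L91790) L44099 L88294 L88296 (flp_e L88239) L102385 (flp_c L104335) (flp_d L104329) (flp_c L89282) (flp_b L38776) L18441 L69451 (flp_d L17658) L36859 (flp_b L88416) L102655 (flp_c L116893) (flp_d L116889) L96046 (flp_b L84685) L84689 L96099 (flp_d L96103) (flp_c L95844) L84579 (flp_d L84577) (flp_c L24988) L12031 L12059 L12063 L6003 L6391 L50689 (flp_d L6391) (flp_c L3306) (flp_b L1680) L825 L367 L175 (flp_c L367) L831 (flp_d L1682) L3306 L6391 L50689 (flp_b L12868) (flp_d L12866) (flp_c L6354) (flp_d L5408) L10779 L10781 L10815 L22455 L22613 (flp_c L22609) (flp_b L22602) L46956 L46961 L71669 (flp_d L46961) (flp_c L93927) (flp_b L119280) L102852 L101811 L87982 L32494 L33082 L33084 L39591 L89634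
theorem L119364 : N14721 = N10944 := (eqc rfl L119363 rfl).symm
theorem L119365 : sm gb N10944 = N11389 := trfs L119364 (flp_b L109159) rfl
theorem L119366 : N11389 = N13503 := eqes L119365 (flp_b L103032)
theorem L119367 : N13503 = N11389 := (eqc rfl L119366 rfl).symm
theorem L119368 : sm gc N10944 = N11392 := trfs L119364 L109161 rfl
theorem L119369 : N11392 = N13865 := eqes L119368 L104905
theorem L119370 : N13865 = N11392 := (eqc rfl L119369 rfl).symm
theorem L119371 : sm ga N11392 = N10944 := trfs L119370 L104901 rfl
theorem L119372 : N10944 = N14728 := eqes L119371 L109187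
theorem L119373 : N14728 = N10944 := (eqc rfl L119372 rfl).symm
theorem L119374 : sm gc N11392 = N10944 := trfs L119370 (flp_c L104905) rfl
theorem L119376 : sm gd N11392 = N10943 := trfs L119370 (flp_d L104899) rfl
theorem L119377 : N10943 = N14729 := eqes L119376 L109189
theorem L119378 : N14729 = N10943 := (eqc rfl L119377 rfl).symm
theorem L119379 : sm gf N11392 = N10963 := trfs L119370 L104903 rfl
theorem L119380 : N10963 = N14730 := eqes L119379 L109193
theorem L119381 : N14730 = N10963 := (eqc rfl L119380 rfl).symm
theorem L119382 : sm gg N11392 = N13918 := trfs L119370 (flp_g L105117) rfl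
theorem L119383 : N13918 = N14731 := eqes L119382 L109195
theorem L119384 : N14731 = N13918 := (eqc rfl L119383 rfl).symm
theorem L119385 : sm gg N13918 = N11392 := trfs L119384 (flp_g L109195) rfl
theorem L119387 : sm gf N10963 = N11392 := trfs L119381 (flp_f L109193) rfl
theorem L119389 : sm gb N10943 = N11393 := trfs L119378 L109191 rfl
theorem L119390 : N11393 = N13864 := eqes L119389 L104897
theorem L119391 : N13864 = N11393 := (eqc rfl L119390 rfl).symm
theorem L119392 : sm gd N10943 = N11392 := trfs L119378 (flp_d L109189) rfl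
theorem L119394 : sm gb N11393 = N10943 := trfs L119391 (flp_b L104897) rfl
theorem L119396 : sm ga N10944 = N11392 := trfs L119373 (flp_a L109187) rfl
theorem L119398 : sm gb N11389 = N10944 := trfs L119367 L103032 rfl
theorem L119400 : sm gd N11389 = N10751 := trfs L119367 (flp_d L103030) rfl
theorem L119401 : N10751 = N14722 := eqes L119400 L109163
theorem L119402 : N14722 = N10751 := (eqc rfl L119401 rfl).symm
theorem L119403 : sm gf N11389 = N10773 := trfs L119367 L103034 rfl
theorem L119404 : N10773 = N14723 := eqes L119403 L109165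
theorem L119405 : N14723 = N10773 := (eqc rfl L119404 rfl).symm
theorem L119406 : sm gc N10773 = N11390 := trfs L119405 L109167 rfl
theorem L119407 : N11390 = N13553 := eqes L119406 L103246
theorem L119408 : N13553 = N11390 := (eqc rfl L119407 rfl).symm
theorem L119409 : sm gf N10773 = N11389 := trfs L119405 (flp_f L109165) rfl
theorem L119411 : sm gc N11390 = N10773 := trfs L119408 (flp_c L103246) rfl
theorem L119413 : sm gd N10751 = N11389 := trfs L119402 (flp_d L109163) rfl
theorem L119415 : N14582 = N13849 := coi_20_3 (flp_c L104835) (flp_f L104811) L119012 (flp_f L108501)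
theorem L119416 : N14582 = N13849 := eqc rfl L119415 rfl
theorem L119417 : sm gd N13849 = N11329 := trfs L119416 (flp_d L108499) rfl
theorem L119419 : sm gf N13849 = N11371 := trfs L119416 L108501 rfl
theorem L119421 : sm gc N14682 = N13853 := ded_21_3 L104855 L119012 L108987
theorem L119423 : sm gf N14732 = N13342 := ded_23_2 L102229 (flp_f L104811) L119014
theorem L119425 : sm gd N13842 = N14742 := ded_24_3 (flp_g L109239) L119025 L104817
theorem L119427 : sm gf N14741 = N13307 := ded_25_2 L101893 L119033 L109235
theorem L119429 : sm gc N13342 = N14601 := ded_8_2 L108591 L119035 L102227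
theorem L119431 : sm gc N13307 = N14603 := ded_19_3 (flp_e L108599) L119035 (flp_e L101893)
theorem L119433 : sm gc N13344 = N14604 := ded_21_3 (flp_g L108605) L119035 L102233
theorem L119435 : N13292 = N11633 := coi_13_4 (flp_c L93249) (flp_b L91716) L119035 (flp_b L88126) (flp_c L87969) L101805
theorem L119436 : N13292 = N11633 := eqc rfl L119435 rfl
theorem L119437 : sm gb N11633 = N10638 := trfs L119436 (flp_b L101805) rfl
theorem L119438 : N10638 = N15189 := eqes L119437 L111629
theorem L119439 : N15189 = N10638 := (eqc rfl L119438 rfl).symm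
theorem L119440 : sm gb N10638 = N11633 := trfs L119439 (flp_b L111629) rfl
theorem L119442 : N14842 = N11329 := coi_28_0 (flp_c L91674) L44004 L44034 L91714 L119035 L88128 L89616 (flp_d L119276) (flp_a L109649)
theorem L119443 : N14842 = N11329 := eqc rfl L119442 rfl
theorem L119444 : sm ga N11329 = N11446 := trfs L119443 L109649 rfl
theorem L119445 : N11446 = N14581 := eqes L119444 (flp_a L108495)
theorem L119446 : N14581 = N11446 := (eqc rfl L119445 rfl).symm
theorem L119447 : sm ge N11329 = N11444 := trfs L119443 (flp_e L109647) rfl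
theorem L119448 : N11444 = N14567 := eqes L119447 (flp_e L108411)
theorem L119449 : N14567 = N11444 := (eqc rfl L119448 rfl).symm
theorem L119450 : sm gb N11444 = N11329 := trfs L119449 L108415 rfl
theorem L119451 : N11329 = N14840 := eqes L119450 L109641
theorem L119452 : N14840 = N11329 := (eqc rfl L119451 rfl).symm
theorem L119453 : sm gc N11444 = N11320 := trfs L119449 (flp_c L108409) rfl
theorem L119454 : N11320 = N13622 := eqes L119453 (flp_c L103550)
theorem L119455 : N13622 = N11320 := (eqc rfl L119454 rfl).symm
theorem L119456 : sm ge N11444 = N11329 := trfs L119449 L108411 rfl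
theorem L119458 : sm gf N11444 = N11361 := trfs L119449 L108413 rfl
theorem L119459 : N11361 = N14843 := eqes L119458 L109651
theorem L119460 : N14843 = N11361 := (eqc rfl L119459 rfl).symm
theorem L119461 : sm ga N11361 = N11447 := trfs L119460 L109653 rfl
theorem L119462 : N11447 = N14653 := eqes L119461 (flp_a L108841)
theorem L119463 : N14653 = N11447 := (eqc rfl L119462 rfl).symm
theorem L119464 : sm gf N11361 = N11444 := trfs L119460 (flp_f L109651) rfl
theorem L119466 : sm gg N11361 = N14853 := trfs L119460 (flp_g L109701) rfl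
theorem L119467 : N14853 = N14656 := eqes L119466 L108857
theorem L119468 : N14853 = N14656 := eqc rfl L119467 rfl
theorem L119469 : sm ga N14656 = N14852 := trfs L119468 L109699 rfl
theorem L119471 : sm gf N14656 = N11448 := trfs L119468 (flp_f L109697) rfl
theorem L119473 : sm ga N11447 = N11361 := trfs L119463 L108841 rfl
theorem L119475 : sm gc N11447 = N11360 := trfs L119463 (flp_c L108839) rfl
theorem L119476 : N11360 = N13625 := eqes L119475 (flp_c L103564)
theorem L119477 : N13625 = N11360 := (eqc rfl L119476 rfl).symm
theorem L119478 : sm ge N11447 = N11369 := trfs L119463 L108843 rfl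
theorem L119479 : N11369 = N14850 := eqes L119478 (flp_e L109685)
theorem L119480 : N14850 = N11369 := (eqc rfl L119479 rfl).symm
theorem L119481 : sm gb N11369 = N11806 := trfs L119480 L109687 rfl
theorem L119482 : N11806 = N14676 := eqes L119481 L108965
theorem L119483 : N14676 = N11806 := (eqc rfl L119482 rfl).symm
theorem L119484 : sm ge N11369 = N11447 := trfs L119480 L109685 rfl
theorem L119488 : sm gb N11806 = N11369 := trfs L119483 (flp_b L108965) rfl
theorem L119490 : sm gb N11360 = N11053 := trfs L119477 L103566 rfl
theorem L119491 : N11053 = N14652 := eqes L119490 L108833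
theorem L119492 : N14652 = N11053 := (eqc rfl L119491 rfl).symm
theorem L119493 : sm gc N11360 = N11447 := trfs L119477 L103564 rfl
theorem L119495 : sm gf N11360 = N10808 := trfs L119477 (flp_f L103562) rfl
theorem L119496 : N10808 = N14566 := eqes L119495 (flp_f L108407)
theorem L119497 : N14566 = N10808 := (eqc rfl L119496 rfl).symm
theorem L119500 : sm gd N10808 = N11322 := trfs L119497 L108403 rfl
theorem L119501 : N11322 = N13623 := eqes L119500 L103552
theorem L119502 : N13623 = N11322 := (eqc rfl L119501 rfl).symm
theorem L119503 : sm ge N10808 = N11328 := trfs L119497 L108405 rfl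
theorem L119504 : N11328 = N13624 := eqes L119503 L103556
theorem L119505 : N13624 = N11328 := (eqc rfl L119504 rfl).symm
theorem L119506 : sm gf N10808 = N11360 := trfs L119497 L108407 rfl
theorem L119508 : sm gg N10808 = N14658 := trfs L119497 (flp_g L108877) rfl
theorem L119509 : N14658 = N13626 := eqes L119508 L103568
theorem L119510 : N14658 = N13626 := eqc rfl L119509 rfl
theorem L119511 : sm ga N13626 = N14568 := trfs L119510 L108871 rfl
theorem L119513 : sm gd N13626 = N14573 := trfs L119510 L108873 rfl
theorem L119515 : sm ge N13626 = N11374 := trfs L119510 L108875 rfl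
theorem L119517 : sm gf N13626 = N11362 := trfs L119510 (flp_f L108869) rfl
theorem L119519 : sm gb N11328 = N10810 := trfs L119505 L103558 rfl
theorem L119520 : N10810 = N14580 := eqes L119519 L108489
theorem L119521 : N14580 = N10810 := (eqc rfl L119520 rfl).symm
theorem L119524 : sm ge N11328 = N10808 := trfs L119505 (flp_e L103556) rfl
theorem L119526 : sm gb N10810 = N11328 := trfs L119521 (flp_b L108489) rfl
theorem L119528 : sm gd N10810 = N11336 := trfs L119521 L108491 rfl
theorem L119529 : N11336 = N13629 := eqes L119528 L103590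
theorem L119530 : N13629 = N11336 := (eqc rfl L119529 rfl).symm
theorem L119531 : sm ga N11336 = N14109 := trfs L119530 (flp_a L105927) rfl
theorem L119532 : N14109 = N14596 := eqes L119531 L108571
theorem L119533 : N14596 = N14109 := (eqc rfl L119532 rfl).symm
theorem L119534 : sm gc N11336 = N14090 := trfs L119530 (flp_c L105831) rfl
theorem L119535 : N14090 = N14597 := eqes L119534 L108573
theorem L119536 : N14597 = N14090 := (eqc rfl L119535 rfl).symm
theorem L119537 : sm gd N11336 = N10810 := trfs L119530 (flp_d L103590) rfl
theorem L119539 : sm gf N11336 = N11057 := trfs L119530 L103592 rfl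
theorem L119540 : N11057 = N14598 := eqes L119539 L108577
theorem L119541 : N14598 = N11057 := (eqc rfl L119540 rfl).symm
theorem L119543 : sm gb N11057 = N11390 := trfs L119541 L108583 rfl
theorem L119544 : N11390 = N14100 := eqes L119543 (flp_b L105875)
theorem L119545 : N14100 = N11390 := (eqc rfl L119544 rfl).symm
theorem L119547 : sm gf N11057 = N11336 := trfs L119541 (flp_f L108577) rfl
theorem L119549 : sm gb N11390 = N11057 := trfs L119545 L105875 rfl
theorem L119551 : sm gd N11390 = N11052 := trfs L119545 (flp_d L105873) rfl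
theorem L119552 : N11052 = N14674 := eqes L119551 (flp_d L108959)
theorem L119553 : N14674 = N11052 := (eqc rfl L119552 rfl).symm
theorem L119554 : sm gd N11052 = N11390 := trfs L119553 L108959 rfl
theorem L119556 : sm gf N11052 = N11368 := trfs L119553 (flp_f L108957) rfl
theorem L119557 : N11368 = N14101 := eqes L119556 L105877
theorem L119558 : N14101 = N11368 := (eqc rfl L119557 rfl).symm
theorem L119559 : sm gc N11368 = N11141 := trfs L119558 L105879 rfl
theorem L119560 : N11141 = N14673 := eqes L119559 L108955
theorem L119561 : N14673 = N11141 := (eqc rfl L119560 rfl).symm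
theorem L119564 : sm gf N11368 = N11052 := trfs L119558 (flp_f L105877) rfl
theorem L119566 : sm gc N11141 = N11368 := trfs L119561 (flp_c L108955) rfl
theorem L119568 : sm gc N14090 = N11336 := trfs L119536 (flp_c L108573) rfl
theorem L119571 : sm ga N14109 = N11336 := trfs L119533 (flp_a L108571) rfl
theorem L119573 : sm gb N11322 = N10809 := trfs L119502 L103554 rfl
theorem L119574 : N10809 = N14572 := eqes L119573 L108445
theorem L119575 : N14572 = N10809 := (eqc rfl L119574 rfl).symm
theorem L119576 : sm gd N11322 = N10808 := trfs L119502 (flp_d L103552) rfl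
theorem L119578 : sm gb N10809 = N11322 := trfs L119575 (flp_b L108445) rfl
theorem L119580 : sm gc N10809 = N12502 := trfs L119575 L108447 rfl
theorem L119581 : N12502 = N10791 := eqes L119580 (flp_c L88867)
theorem L119582 : N12502 = N10791 := eqc rfl L119581 rfl
theorem L119583 : sm gb N10791 = N10173 := trfs L119582 (flp_b L97579) rfl
theorem L119584 : N10173 = N13592 := eqes L119583 (flp_b L103399)
theorem L119585 : N13592 = N10173 := (eqc rfl L119584 rfl).symm
theorem L119586 : sm ge N10791 = N16252 := trfs L119582 (flp_e L116933) rfl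
theorem L119587 : N16252 = N13595 := eqes L119586 L103409
theorem L119588 : N16252 = N13595 := eqc rfl L119587 rfl
theorem L119589 : sm gb N13595 = N12197 := trfs L119588 (flp_b L116931) rfl
theorem L119591 : sm gb N10173 = N10791 := trfs L119585 L103399 rfl
theorem L119593 : sm gd N10173 = N10790 := trfs L119585 (flp_d L103397) rfl
theorem L119594 : N10790 = N12500 := eqes L119593 (flp_d L97572)
theorem L119595 : N12500 = N10790 := (eqc rfl L119594 rfl).symm
theorem L119596 : sm ga N10790 = N15246 := trfs L119595 (flp_a L111896) rfl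
theorem L119597 : N15246 = N13591 := eqes L119596 L103394
theorem L119598 : N15246 = N13591 := eqc rfl L119597 rfl
theorem L119600 : sm gd N10790 = N10173 := trfs L119595 L97572 rfl
theorem L119602 : sm gf N10790 = N10172 := trfs L119595 (flp_f L97569) rfl
theorem L119603 : N10172 = N13593 := eqes L119602 L103401
theorem L119604 : N13593 = N10172 := (eqc rfl L119603 rfl).symm
theorem L119605 : sm gb N10172 = N11006 := trfs L119604 L103404 rfl
theorem L119606 : N11006 = N12496 := eqes L119605 (flp_b L97556)
theorem L119607 : N12496 = N11006 := (eqc rfl L119606 rfl).symm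
theorem L119609 : sm ge N10172 = N13798 := trfs L119604 (flp_e L104549) rfl
theorem L119610 : N13798 = N12499 := eqes L119609 L97566
theorem L119611 : N13798 = N12499 := eqc rfl L119610 rfl
theorem L119612 : sm gf N10172 = N10790 := trfs L119604 (flp_f L103401) rfl
theorem L119614 : sm gb N12499 = N13760 := trfs L119611 L104551 rfl
theorem L119617 : sm gf N12499 = N10902 := trfs L119611 (flp_f L104546) rfl
theorem L119619 : sm ga N11006 = N15320 := trfs L119607 (flp_a L112304) rfl
theorem L119620 : N15320 = N13998 := eqes L119619 (flp_a L105449)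
theorem L119621 : N15320 = N13998 := eqc rfl L119620 rfl
theorem L119622 : sm gb N11006 = N10172 := trfs L119607 L97556 rfl
theorem L119624 : sm gd N11006 = N10171 := trfs L119607 (flp_d L97554) rfl
theorem L119625 : N10171 = N14002 := eqes L119624 (flp_d L105463)
theorem L119626 : N14002 = N10171 := (eqc rfl L119625 rfl).symm
theorem L119627 : sm gd N10171 = N11006 := trfs L119626 L105463 rfl
theorem L119629 : sm gf N10171 = N11005 := trfs L119626 (flp_f L105461) rfl
theorem L119630 : N11005 = N12497 := eqes L119629 L97558
theorem L119631 : N12497 = N11005 := (eqc rfl L119630 rfl).symm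
theorem L119632 : sm ga N11005 = N15321 := trfs L119631 (flp_a L112310) rfl
theorem L119633 : N15321 = N13997 := eqes L119632 (flp_a L105445)
theorem L119634 : N15321 = N13997 := eqc rfl L119633 rfl
theorem L119635 : sm gc N11005 = N10180 := trfs L119631 L97560 rfl
theorem L119636 : N10180 = N14000 := eqes L119635 L105455
theorem L119637 : N14000 = N10180 := (eqc rfl L119636 rfl).symm
theorem L119638 : sm ge N11005 = N16247 := trfs L119631 (flp_e L116905) rfl
theorem L119639 : N16247 = N14001 := eqes L119638 L105457
theorem L119640 : N16247 = N14001 := eqc rfl L119639 rfl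
theorem L119641 : sm gf N11005 = N10171 := trfs L119631 (flp_f L97558) rfl
theorem L119643 : sm gc N14001 = N12204 := trfs L119640 L116903 rfl
theorem L119645 : sm gf N14001 = N12195 := trfs L119640 (flp_f L116901) rfl
theorem L119647 : sm gb N10180 = N14096 := trfs L119637 (flp_b L105859) rfl
theorem L119648 : N14096 = N12425 := eqes L119647 (flp_b L97244)
theorem L119649 : N14096 = N12425 := eqc rfl L119648 rfl
theorem L119650 : sm gc N10180 = N11005 := trfs L119637 (flp_c L105455) rfl
theorem L119652 : sm gc N12425 = N11051 := trfs L119649 (flp_c L105857) rfl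
theorem L119654 : sm gc N13997 = N12512 := trfs L119634 L112312 rfl
theorem L119656 : sm gf N13997 = N11723 := trfs L119634 (flp_f L112308) rfl
theorem L119658 : sm gb N13998 = N11724 := trfs L119621 L112306 rfl
theorem L119660 : sm gd N13998 = N11723 := trfs L119621 (flp_d L112302) rfl
theorem L119663 : sm gd N13591 = N11671 := trfs L119598 L111899 rfl
theorem L119665 : sm gf N13591 = N11670 := trfs L119598 (flp_f L111894) rfl
theorem L119667 : sm gb N11053 = N11360 := trfs L119492 (flp_b L108833) rfl
theorem L119669 : sm gd N11053 = N12419 := trfs L119492 L108835 rfl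
theorem L119670 : N12419 = N14098 := eqes L119669 (flp_d L105867)
theorem L119671 : N14098 = N12419 := (eqc rfl L119670 rfl).symm
theorem L119672 : sm ge N11053 = N11368 := trfs L119492 L108837 rfl
theorem L119674 : sm gd N12419 = N11053 := trfs L119671 L105867 rfl
theorem L119676 : sm gf N12419 = N11051 := trfs L119671 (flp_f L105865) rfl
theorem L119678 : sm ga N11320 = N10808 := trfs L119455 (flp_a L103548) rfl
theorem L119680 : sm gc N11320 = N11444 := trfs L119455 L103550 rfl
theorem L119682 : sm gb N11329 = N11444 := trfs L119452 (flp_b L109641) rfl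
theorem L119684 : sm ga N11446 = N11329 := trfs L119446 L108495 rfl
theorem L119686 : sm gc N11446 = N11328 := trfs L119446 (flp_c L108493) rfl
theorem L119688 : sm gf N11446 = N11369 := trfs L119446 L108497 rfl
theorem L119690 : sm gg N11446 = N14684 := trfs L119446 (flp_g L108999) rfl
theorem L119691 : N14684 = N14851 := eqes L119690 L109689
theorem L119692 : N14851 = N14684 := (eqc rfl L119691 rfl).symm
theorem L119693 : sm ge N14684 = N11448 := trfs L119692 L109691 rfl
theorem L119695 : sm gg N14684 = N11446 := trfs L119692 (flp_g L109689) rfl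
theorem L119697 : sm gb N14741 = N13303 := ded_15_3 L101865 L119037 L109235
theorem L119699 : sm gc N13303 = N14817 := ded_19_3 (flp_e L109527) L119045 (flp_e L101865)
theorem L119701 : sm gf N12800 = N13461 := ded_23_2 L102815 L102831 L119055
theorem L119703 : sm gf N14817 = N13301 := ded_25_2 L101849 L119065 L109527
theorem L119705 : N15865 = N13485 := coi_30_18 (flp_b L102942) (flp_a L102848) (flp_f L102846) (flp_c L88502) (flp_b L88496) (flp_a L119067) (flp_f L98985) L85988 (flp_b L85986) L75694 L21315 (flp_c L10900) L5454 (flp_a L5621) (flp_f L5833) L11770 L24458 L84206 L95099 (flp_c L114863)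
theorem L119706 : N15865 = N13485 := eqc rfl L119705 rfl
theorem L119707 : sm ga N13485 = N12002 := trfs L119706 L114861 rfl
theorem L119709 : sm gc N13485 = N12011 := trfs L119706 L114863 rfl
theorem L119711 : sm gf N13485 = N12000 := trfs L119706 (flp_f L114859) rfl
theorem L119712 : N12000 = N14393 := eqes L119711 (flp_f L107485)
theorem L119713 : N14393 = N12000 := (eqc rfl L119712 rfl).symm
theorem L119714 : sm gg N13485 = N15873 := trfs L119706 (flp_g L114903) rfl
theorem L119716 : sm gb N12000 = N11232 := trfs L119713 (flp_b L107483) rfl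
theorem L119717 : N11232 = N15863 := eqes L119716 L114853
theorem L119718 : N15863 = N11232 := (eqc rfl L119717 rfl).symm
theorem L119719 : sm gf N12000 = N13485 := trfs L119713 L107485 rfl
theorem L119721 : sm gb N11232 = N12000 := trfs L119718 (flp_b L114853) rfl
theorem L119725 : sm ge N15351 = N13413 := ded_22_2 L102541 L88360 (flp_d L88580) (flp_e L102968) L119107
theorem L119727 : sm ge N15262 = N15941 := ded_19_2 L115257 L119173 (flp_c L111982)
theorem L119729 : N15928 = N15263 := coi_14_2 (flp_d L111984) (flp_b L111972) L119183 L115178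
theorem L119730 : N15928 = N15263 := eqc rfl L119729 rfl
theorem L119731 : sm gb N15263 = N12034 := trfs L119730 (flp_b L115178) rfl
theorem L119733 : sm ge N15263 = N12348 := trfs L119730 L115180 rfl
theorem L119735 : sm gb N13283 = N15190 := ded_16_3 L111635 (flp_b L111972) L119188 L95223 L101745
theorem L119737 : sm gf N15937 = N15262 := ded_29_0 (flp_g L111980) (flp_f L119203) L101791 (flp_a L115226)
theorem L119739 : N16540 = N12522 := coi_15_2 (flp_e L97664) L97660 L119207 L118729
theorem L119740 : N16540 = N12522 := eqc rfl L119739 rfl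
theorem L119741 : sm gb N12522 = N12346 := trfs L119740 (flp_b L118729) rfl
theorem L119743 : sm gd N12522 = N12348 := trfs L119740 L118731 rfl
theorem L119745 : sm gb N13290 = N12427 := ded_16_3 L97252 L97660 L119209 L96916 L101793
theorem L119747 : sm gd N16571 = N15262 := ded_24_1 (flp_g L111980) (flp_d L97662) L119211
theorem L119749 : sm gb N13665 = N14854 := ded_13_5 (flp_c L109713) L119224 L88330 L89046 L103802
theorem L119751 : sm gb N13406 = N14820 := ded_16_5 L109545 L119224 (flp_f L88326) L88318 L102505
theorem L119753 : sm gd N13516 = N12892 := ded_14_2 (flp_b L99558) L99562 L119244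
theorem L119755 : sm gb N15482 = N13333 := ded_13_5 L102168 L119255 (flp_c L94102) (flp_b L94050) L113044
theorem L119757 : sm gb N13849 = N14841 := ded_7_4 L109645 L92160 L44416 L92102 (flp_a L119345) L119255 L94104 (flp_b L119271) (flp_a L104837)
theorem L119759 : sm gb N15483 = N13841 := ded_16_5 L104815 L119271 L92184 (flp_b L94050) L113046
theorem L119761 : sm gd N13852 = N14684 := ded_24_3 L119695 L119276 L104847
theorem L119763 : sm gd N13665 = N14846 := ded_22_3 (flp_e L109663) (flp_d L92158) L92162 L119276 (flp_e L103804)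
theorem L119765 : sm gb N15443 = N13294 := ded_14_3 (flp_d L102852) L119280 L112827
theorem L119767 : sm ge N15440 = N13488 := ded_26_3 L102958 L119282 L112811
theorem L119769 : sm gg N13500 = N12892 := ded_17_4 (flp_b L99558) L86391 L119284 (flp_g L88596) L103018
theorem L119771 : sm ge N13412 = N15348 := ded_15_2 (flp_b L112424) L119290 L102533
theorem L119773 : sm gf N15348 = N13382 := ded_16_2 (flp_b L102405) (flp_f L88254) L88248 L119298 L112424
theorem L119775 : sm gc N15355 = N13289 := ded_8_2 (flp_a L115226) L115228 L119303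
theorem L119777 : sm gf N13484 = N15440 := ded_29_2 (flp_g L112811) (flp_a L119308) (flp_f L102930) L102936
theorem L119779 : N15613 = N13493 := coi_10_3 (flp_a L102986) (flp_e L102962) L119310 L113737
theorem L119780 : N15613 = N13493 := eqc rfl L119779 rfl
theorem L119781 : sm gc N13493 = N11878 := trfs L119780 L113739 rfl
theorem L119783 : sm ge N13493 = N11877 := trfs L119780 (flp_e L113737) rfl
theorem L119785 : N15614 = N13517 := coi_11_3 (flp_a L103086) (flp_f L102964) L119310 L113741
theorem L119786 : N15614 = N13517 := eqc rfl L119785 rfl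
theorem L119787 : sm gc N13517 = N11879 := trfs L119786 L113743 rfl
theorem L119789 : sm gf N13517 = N11877 := trfs L119786 (flp_f L113741) rfl
theorem L119791 : sm gf N13519 = N15615 := ded_29_2 (flp_g L113745) (flp_a L119310) L102964 L103094
theorem L119793 : N15609 = N13494 := coi_19_3 (flp_c L102992) (flp_e L102962) L119312 L113719
theorem L119794 : N15609 = N13494 := eqc rfl L119793 rfl
theorem L119795 : sm ga N13494 = N11878 := trfs L119794 L113721 rfl
theorem L119797 : sm ge N13494 = N11876 := trfs L119794 (flp_e L113719) rfl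
theorem L119799 : N15610 = N13518 := coi_20_3 (flp_c L103090) (flp_f L102964) L119312 L113723
theorem L119800 : N15610 = N13518 := eqc rfl L119799 rfl
theorem L119801 : sm ga N13518 = N11879 := trfs L119800 L113725 rfl
theorem L119803 : sm gf N13518 = N11876 := trfs L119800 (flp_f L113723) rfl
theorem L119805 : sm gg N13518 = N15622 := trfs L119800 (flp_g L113777) rfl
theorem L119807 : sm ge N13500 = N15456 := ded_15_2 (flp_b L112894) L119318 L103018
theorem L119809 : sm ga N14817 = N13406 := ded_10_3 L102507 L119345 L109527
theorem L119811 : sm gd N13406 = N14817 := ded_22_3 (flp_e L109527) L92104 (flp_e L119355) L119353 (flp_e L102507)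
theorem L119813 : sm gf N13852 = N14682 := ded_29_2 (flp_g L108987) (flp_a L119359) L104815 L104847
theorem L119815 : sm gc N13866 = N14500 := ded_19_3 L108041 L119374 L104907
theorem L119817 : sm ga N14373 = N14008 := ded_30_15 (flp_f L105485) L105061 L105059 L89694 (flp_f L89636) (flp_c L119374) (flp_b L91948) L44159 (flp_f L44036) (flp_c L44034) (flp_b L21121) (flp_a L21099) (flp_f L21097) L10139 L10733 L22297 L46335 (flp_c L91097) L107400
theorem L119819 : sm gf N14500 = N13910 := ded_25_2 (flp_e L105073) L119387 (flp_e L108041)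
theorem L119821 : sm gf N14600 = N13907 := ded_16_4 L105059 L119387 (flp_b L91948) (flp_f L91712) L108587
theorem L119823 : sm gb N15152 = N14719 := ded_30_14 L109153 (flp_f L91944) L91942 L119398 L119396 (flp_f L119387) (flp_c L89696) L39625 (flp_a L39715) (flp_f L88771) L88867 L119578 (flp_a L91621) (flp_f L91333) (flp_c L91635) (flp_b L97106) (flp_a L97104) L97112 (flp_c L111455)
theorem L119825 : sm gb N13681 = N14733 := ded_15_3 (flp_e L109203) L119394 (flp_e L103895)
theorem L119827 : sm gb N13861 = N14732 := ded_13_5 (flp_c L109197) L119394 (flp_c L89628) L89626 L104883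
theorem L119829 : sm gb N13908 = N14601 := ded_16_5 L108593 L119394 L89632 L89690 L105069
theorem L119831 : sm gb N13502 = N12722 := ded_7_4 L98673 L85832 L80535 (flp_b L44169) (flp_a L91952) L119394 L89630 (flp_b L88606) (flp_a L103026)
theorem L119833 : sm ga N14500 = N13866 := ded_10_3 (flp_e L104907) L119396 (flp_e L108041)
theorem L119835 : N12721 = N14718 := coi_7_9 L109149 L119398 L119396 (flp_b L91948) L44159 L21203 (flp_a L81095) (flp_b L27045) (flp_a L85822) L98669
theorem L119836 : N14718 = N12721 := (eqc rfl L119835 rfl).symm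
theorem L119837 : sm ga N12721 = N11389 := trfs L119836 L109149 rfl
theorem L119839 : sm gc N12721 = N11388 := trfs L119836 (flp_c L109147) rfl
theorem L119841 : sm gb N13866 = N14497 := ded_15_3 L108029 L119398 L104907
theorem L119843 : sm gf N12721 = N13550 := ded_11_2 L103234 L119409 (flp_a L119837)
theorem L119845 : sm gf N14497 = N13554 := ded_25_2 (flp_e L103248) L119409 (flp_e L108029)
theorem L119847 : sm gb N15177 = N13550 := ded_30_18 L103234 L119409 (flp_c L91942) (flp_b L44155) (flp_a L21199) (flp_f L21123) L44034 L44038 (flp_a L46409) L46411 (flp_c L22361) L22357 L46475 L93397 L93401 (flp_b L93235) L97031 (flp_f L97033) L111567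
theorem L119849 : sm gc N13550 = N14719 := ded_8_2 L109153 L119411 (flp_a L103234)
theorem L119851 : sm gc N13554 = N14498 := ded_19_3 L108033 L119411 L103248
theorem L119853 : sm gc N13555 = N14725 := ded_21_3 (flp_g L109173) L119411 L103252
theorem L119855 : N13596 = N14109 := coi_13_4 (flp_c L105925) (flp_b L119549) L119411 L88698 L88773 L103415
theorem L119856 : N14109 = N13596 := (eqc rfl L119855 rfl).symm
theorem L119857 : sm ga N13596 = N11336 := trfs L119856 L119571 rfl
theorem L119859 : sm gc N13596 = N11057 := trfs L119856 (flp_c L105925) rfl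
theorem L119861 : sm gd N13596 = N13621 := trfs L119856 L105931 rfl
theorem L119862 : N13621 = N13620 := eqes L119861 (flp_d L103538)
theorem L119863 : N13621 = N13620 := eqc rfl L119862 rfl
theorem L119864 : sm gf N13596 = N14090 := trfs L119856 L105929 rfl
theorem L119866 : sm ga N13620 = N10810 := trfs L119863 L103542 rfl
theorem L119868 : sm gc N13620 = N10807 := trfs L119863 L103544 rfl
theorem L119870 : sm ge N13620 = N10806 := trfs L119863 (flp_e L103540) rfl
theorem L119872 : sm gf N13620 = N11049 := trfs L119863 L103546 rfl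
theorem L119874 : sm gg N13620 = N14112 := trfs L119863 (flp_g L105949) rfl
theorem L119876 : N11140 = N13526 := coi_28_4 (flp_c L103126) L88658 L88686 L103232 L103234 (flp_c L119411) (flp_d L119554) L90065 L90614
theorem L119877 : N13526 = N11140 := (eqc rfl L119876 rfl).symm
theorem L119878 : sm ga N11140 = N10763 := trfs L119877 L103128 rfl
theorem L119879 : N10763 = N14231 := eqes L119878 (flp_a L106631)
theorem L119880 : N14231 = N10763 := (eqc rfl L119879 rfl).symm
theorem L119881 : sm gc N11140 = N10762 := trfs L119877 (flp_c L103126) rfl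
theorem L119882 : N10762 = N14236 := eqes L119881 L106649
theorem L119883 : N14236 = N10762 := (eqc rfl L119882 rfl).symm
theorem L119884 : sm gb N10762 = N15602 := trfs L119883 (flp_b L113681) rfl
theorem L119885 : N15602 = N13525 := eqes L119884 L103122
theorem L119886 : N15602 = N13525 := eqc rfl L119885 rfl
theorem L119887 : sm gc N10762 = N11140 := trfs L119883 (flp_c L106649) rfl
theorem L119889 : sm ge N10762 = N15634 := trfs L119883 (flp_e L113823) rfl
theorem L119890 : N15634 = N13517 := eqes L119889 (flp_e L103088)
theorem L119891 : N15634 = N13517 := eqc rfl L119890 rfl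
theorem L119892 : sm gb N13517 = N11886 := trfs L119891 (flp_b L113821) rfl
theorem L119894 : sm gc N13517 = N11897 := trfs L119891 L113825 rfl
theorem L119895 : N11897 = N11879 := eqes L119894 L119787
theorem L119896 : N11897 = N11879 := eqc rfl L119895 rfl
theorem L119897 : sm ga N11879 = N15657 := trfs L119896 L113917 rfl
theorem L119898 : N15657 = N13518 := eqes L119897 (flp_a L119801)
theorem L119899 : N15657 = N13518 := eqc rfl L119898 rfl
theorem L119900 : sm gb N11879 = N9866 := trfs L119896 (flp_b L94548) rfl
theorem L119901 : N9866 = N15619 := eqes L119900 L113761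
theorem L119902 : N15619 = N9866 := (eqc rfl L119901 rfl).symm
theorem L119903 : sm gd N11879 = N9930 := trfs L119896 L94550 rfl
theorem L119904 : N9930 = N15595 := eqes L119903 (flp_d L113643)
theorem L119905 : N15595 = N9930 := (eqc rfl L119904 rfl).symm
theorem L119906 : sm ge N11879 = N11140 := trfs L119896 L94552 rfl
theorem L119907 : N11140 = N15617 := eqes L119906 (flp_e L113755)
theorem L119908 : N15617 = N11140 := (eqc rfl L119907 rfl).symm
theorem L119909 : sm gf N11879 = N15658 := trfs L119896 L113923 rfl
theorem L119910 : N15658 = N9856 := eqes L119909 (flp_f L94480)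
theorem L119911 : N15658 = N9856 := eqc rfl L119910 rfl
theorem L119912 : sm gg N11879 = N15659 := trfs L119896 L113931 rfl
theorem L119913 : N15659 = N15620 := eqes L119912 L113765
theorem L119914 : N15659 = N15620 := eqc rfl L119913 rfl
theorem L119915 : sm gd N15620 = N12009 := trfs L119914 L113933 rfl
theorem L119917 : sm ge N15620 = N14238 := trfs L119914 L113935 rfl
theorem L119922 : sm gd N9856 = N12008 := trfs L119911 L113925 rfl
theorem L119923 : N12008 = N11867 := eqes L119922 (flp_d L94419)
theorem L119924 : N12008 = N11867 := eqc rfl L119923 rfl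
theorem L119925 : sm ge N9856 = N14237 := trfs L119911 L113927 rfl
theorem L119926 : N14237 = N11878 := eqes L119925 L94476
theorem L119927 : N14237 = N11878 := eqc rfl L119926 rfl
theorem L119928 : sm gb N11878 = N11887 := trfs L119927 L106655 rfl
theorem L119929 : N11887 = N9857 := eqes L119928 L94478
theorem L119930 : N11887 = N9857 := eqc rfl L119929 rfl
theorem L119931 : sm gd N11878 = N11141 := trfs L119927 L106653 rfl
theorem L119932 : N11141 = N15616 := eqes L119931 L113749
theorem L119933 : N15616 = N11141 := (eqc rfl L119932 rfl).symm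
theorem L119936 : sm gb N11141 = N11881 := trfs L119933 L113751 rfl
theorem L119937 : N11881 = N9861 := eqes L119936 L90622
theorem L119938 : N11881 = N9861 := eqc rfl L119937 rfl
theorem L119939 : sm gd N11141 = N11878 := trfs L119933 (flp_d L113749) rfl
theorem L119941 : sm ga N9861 = N9860 := trfs L119938 L94486 rfl
theorem L119942 : N9860 = N11882 := eqes L119941 (flp_a L94490)
theorem L119943 : N11882 = N9860 := (eqc rfl L119942 rfl).symm
theorem L119944 : sm gc N9861 = N15623 := trfs L119938 L113779 rfl
theorem L119945 : N15623 = N11806 := eqes L119944 (flp_c L94054)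
theorem L119946 : N15623 = N11806 := eqc rfl L119945 rfl
theorem L119955 : sm gg N9861 = N15625 := trfs L119938 L113789 rfl
theorem L119956 : N15625 = N11889 := eqes L119955 L94514
theorem L119957 : N15625 = N11889 := eqc rfl L119956 rfl
theorem L119958 : sm ga N11889 = N11888 := trfs L119957 L113791 rfl
theorem L119959 : N11888 = N11891 := eqes L119958 (flp_a L94528)
theorem L119960 : N11891 = N11888 := (eqc rfl L119959 rfl).symm
theorem L119961 : sm gd N11889 = N11883 := trfs L119957 L113793 rfl
theorem L119962 : N11883 = N15638 := eqes L119961 (flp_d L113839)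
theorem L119963 : N15638 = N11883 := (eqc rfl L119962 rfl).symm
theorem L119968 : sm gd N11883 = N11889 := trfs L119963 L113839 rfl
theorem L119975 : sm ga N11888 = N11889 := trfs L119960 L94528 rfl
theorem L119977 : sm gb N11888 = N15645 := trfs L119960 L113877 rfl
theorem L119978 : N15645 = N15639 := eqes L119977 L113843
theorem L119979 : N15645 = N15639 := eqc rfl L119978 rfl
theorem L119980 : sm gc N11888 = N15487 := trfs L119960 (flp_c L113072) rfl
theorem L119981 : N15487 = N15637 := eqes L119980 (flp_c L113835)
theorem L119982 : N15637 = N15487 := (eqc rfl L119981 rfl).symm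
theorem L119983 : sm ge N11888 = N9865 := trfs L119960 L94530 rfl
theorem L119984 : N9865 = N15604 := eqes L119983 (flp_e L113693)
theorem L119985 : N15604 = N9865 := (eqc rfl L119984 rfl).symm
theorem L119986 : sm gf N11888 = N9862 := trfs L119960 (flp_f L94526) rfl
theorem L119989 : sm gd N9865 = N11873 := trfs L119985 L113691 rfl
theorem L119990 : N11873 = N11875 := eqes L119989 (flp_d L94468)
theorem L119991 : N11875 = N11873 := (eqc rfl L119990 rfl).symm
theorem L119992 : sm ge N9865 = N11888 := trfs L119985 L113693 rfl
theorem L119994 : sm gg N9865 = N11871 := trfs L119985 (flp_g L113689) rfl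
theorem L119995 : N11871 = N9858 := eqes L119994 L83877
theorem L119996 : N11871 = N9858 := eqc rfl L119995 rfl
theorem L119998 : sm gb N9858 = N9855 := trfs L119996 L94442 rfl
theorem L119999 : N9855 = N11884 := eqes L119998 L94500
theorem L120000 : N11884 = N9855 := (eqc rfl L119999 rfl).symm
theorem L120001 : sm gc N9858 = N13525 := trfs L119996 L113677 L119886
theorem L120002 : N13525 = N11800 := eqes L120001 (flp_c L94028)
theorem L120003 : N13525 = N11800 := eqc rfl L120002 rfl
theorem L120004 : sm gd N9858 = N9852 := trfs L119996 (flp_d L94440) rfl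
theorem L120005 : N9852 = N11869 := eqes L120004 (flp_d L94431)
theorem L120006 : N11869 = N9852 := (eqc rfl L120005 rfl).symm
theorem L120010 : sm ga N9852 = N9853 := trfs L120006 L94428 rfl
theorem L120011 : N9853 = N11868 := eqes L120010 (flp_a L94423)
theorem L120012 : N11868 = N9853 := (eqc rfl L120011 rfl).symm
theorem L120017 : sm gd N9852 = N9858 := trfs L120006 L94431 rfl
theorem L120022 : sm gf N9852 = N9851 := trfs L120006 (flp_f L94426) rfl
theorem L120023 : N9851 = N11872 := eqes L120022 L94446
theorem L120024 : N11872 = N9851 := (eqc rfl L120023 rfl).symm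
theorem L120032 : sm gf N9851 = N9852 := trfs L120024 (flp_f L94446) rfl
theorem L120034 : sm gg N9851 = N15605 := trfs L120024 L113695 rfl
theorem L120035 : N15605 = N11870 := eqes L120034 L94433
theorem L120036 : N15605 = N11870 := eqc rfl L120035 rfl
theorem L120041 : sm ge N11870 = N11874 := trfs L120036 L113698 rfl
theorem L120042 : N11874 = N15599 := eqes L120041 (flp_e L113667)
theorem L120043 : N15599 = N11874 := (eqc rfl L120042 rfl).symm
theorem L120048 : sm ge N11874 = N11870 := trfs L120043 L113667 rfl
theorem L120059 : sm ga N9853 = N9852 := trfs L120012 L94423 rfl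
theorem L120066 : sm ge N9853 = N9851 := trfs L120012 (flp_e L94421) rfl
theorem L120070 : sm gb N11800 = N10762 := trfs L120003 (flp_b L103122) rfl
theorem L120071 : N10762 = N15474 := eqes L120070 L113004
theorem L120072 : N15474 = N10762 := (eqc rfl L120071 rfl).symm
theorem L120073 : sm gd N11800 = N10770 := trfs L120003 L103124 rfl
theorem L120074 : N10770 = N15469 := eqes L120073 (flp_d L112974)
theorem L120075 : N15469 = N10770 := (eqc rfl L120074 rfl).symm
theorem L120076 : sm ga N10770 = N11803 := trfs L120075 L112970 rfl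
theorem L120077 : N11803 = N13545 := eqes L120076 L103222
theorem L120078 : N13545 = N11803 := (eqc rfl L120077 rfl).symm
theorem L120079 : sm gc N10770 = N11803 := trfs L120075 L112972 rfl
theorem L120080 : N11803 = N13546 := eqes L120079 L103224
theorem L120081 : N13546 = N11803 := (eqc rfl L120080 rfl).symm
theorem L120082 : sm gd N10770 = N11800 := trfs L120075 L112974 rfl
theorem L120084 : sm gf N10770 = N11798 := trfs L120075 (flp_f L112968) rfl
theorem L120085 : N11798 = N13547 := eqes L120084 L103226
theorem L120086 : N13547 = N11798 := (eqc rfl L120085 rfl).symm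
theorem L120087 : sm gg N10770 = N15481 := trfs L120075 (flp_g L113042) rfl
theorem L120088 : N15481 = N13548 := eqes L120087 L103228
theorem L120089 : N15481 = N13548 := eqc rfl L120088 rfl
theorem L120090 : sm ga N13548 = N15479 := trfs L120089 L113036 rfl
theorem L120092 : sm gc N13548 = N15479 := trfs L120089 L113038 rfl
theorem L120094 : sm gd N13548 = N11810 := trfs L120089 L113040 rfl
theorem L120096 : sm gf N13548 = N11804 := trfs L120089 (flp_f L113034) rfl
theorem L120098 : sm gf N11798 = N10770 := trfs L120086 (flp_f L103226) rfl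
theorem L120100 : sm gc N11803 = N10770 := trfs L120081 (flp_c L103224) rfl
theorem L120102 : sm ga N11803 = N10770 := trfs L120078 (flp_a L103222) rfl
theorem L120104 : sm gb N10762 = N11800 := trfs L120072 (flp_b L113004) rfl
theorem L120109 : sm gb N9855 = N9858 := trfs L120000 (flp_b L94500) rfl
theorem L120118 : sm gg N9855 = N15630 := trfs L120000 L113813 rfl
theorem L120119 : N15630 = N11189 := eqes L120118 (flp_g L90846)
theorem L120120 : N15630 = N11189 := eqc rfl L120119 rfl
theorem L120121 : sm gb N11189 = N15656 := trfs L120120 (flp_b L113915) rfl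
theorem L120122 : N15656 = N14321 := eqes L120121 (flp_b L107043)
theorem L120123 : N15656 = N14321 := eqc rfl L120122 rfl
theorem L120124 : sm gg N14321 = N11896 := trfs L120123 (flp_g L113913) rfl
theorem L120130 : sm ga N11873 = N11874 := trfs L119991 L94465 rfl
theorem L120132 : sm gb N11873 = N15608 := trfs L119991 L113715 rfl
theorem L120133 : N15608 = N14323 := eqes L120132 (flp_b L107057)
theorem L120134 : N15608 = N14323 := eqc rfl L120133 rfl
theorem L120136 : sm gd N11873 = N9865 := trfs L119991 L94468 rfl
theorem L120138 : sm gf N11873 = N9854 := trfs L119991 (flp_f L94463) rfl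
theorem L120140 : sm gd N14323 = N11896 := trfs L120134 L113717 rfl
theorem L120142 : sm gc N15487 = N11888 := trfs L119982 L113835 rfl
theorem L120144 : sm gg N15487 = N11886 := trfs L119982 (flp_g L113833) rfl
theorem L120145 : N11886 = N15472 := eqes L120144 L113076
theorem L120146 : N15472 = N11886 := (eqc rfl L120145 rfl).symm
theorem L120152 : N15602 = N11800 := L119886.trans L120003
theorem L120153 : sm gf N11886 = N11799 := trfs L120146 (flp_f L112988) rfl
theorem L120154 : N11799 = N15636 := eqes L120153 L113829
theorem L120155 : N15636 = N11799 := (eqc rfl L120154 rfl).symm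
theorem L120156 : sm gg N11886 = N15487 := trfs L120146 (flp_g L113076) rfl
theorem L120159 : sm gf N11799 = N11886 := trfs L120155 (flp_f L113829) rfl
theorem L120161 : sm ge N15639 = N11896 := trfs L119979 L113879 rfl
theorem L120165 : sm ga N11806 = N11886 := trfs L119946 L113781 rfl
theorem L120167 : sm ga N9860 = N9861 := trfs L119943 L94490 rfl
theorem L120169 : sm ge N9860 = N9858 := trfs L119943 L94492 rfl
theorem L120173 : sm gd N9857 = N9861 := trfs L119930 L94508 rfl
theorem L120176 : sm gf N9857 = N9860 := trfs L119930 (flp_f L94506) rfl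
theorem L120178 : sm ga N11867 = N15879 := trfs L119924 (flp_a L114927) rfl
theorem L120179 : N15879 = N15592 := eqes L120178 L113628
theorem L120180 : N15879 = N15592 := eqc rfl L120179 rfl
theorem L120181 : sm gc N11867 = N15858 := trfs L119924 (flp_c L114824) rfl
theorem L120182 : N15858 = N15593 := eqes L120181 L113634
theorem L120183 : N15858 = N15593 := eqc rfl L120182 rfl
theorem L120184 : sm ge N11867 = N9932 := trfs L119924 L95087 rfl
theorem L120188 : sm gg N11867 = N15881 := trfs L119924 L114937 rfl
theorem L120189 : N15881 = N15596 := eqes L120188 L113645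
theorem L120190 : N15881 = N15596 := eqc rfl L120189 rfl
theorem L120191 : sm ga N15596 = N15882 := trfs L120190 (flp_a L114945) rfl
theorem L120193 : sm ge N15596 = N12013 := trfs L120190 L114939 rfl
theorem L120195 : sm gf N15596 = N15880 := trfs L120190 (flp_f L114941) rfl
theorem L120198 : sm ge N15593 = N12002 := trfs L120183 L114826 rfl
theorem L120200 : sm gf N15593 = N11997 := trfs L120183 (flp_f L114822) rfl
theorem L120202 : sm ge N15592 = N12011 := trfs L120180 L114929 rfl
theorem L120204 : sm gf N15592 = N12007 := trfs L120180 (flp_f L114925) rfl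
theorem L120206 : sm gg N15592 = N15882 := trfs L120180 (flp_g L114949) rfl
theorem L120208 : sm ge N11140 = N11879 := trfs L119908 L113755 rfl
theorem L120210 : sm gf N11140 = N11878 := trfs L119908 (flp_f L113753) rfl
theorem L120212 : sm gd N9930 = N11879 := trfs L119905 L113643 rfl
theorem L120214 : sm gf N9930 = N11867 := trfs L119905 (flp_f L113641) rfl
theorem L120216 : sm gb N9866 = N11879 := trfs L119902 (flp_b L113761) rfl
theorem L120218 : sm gd N13518 = N12007 := trfs L119899 L113919 rfl
theorem L120221 : sm ge N11800 = N11886 := trfs L120152 L113679 rfl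
theorem L120223 : sm ga N10763 = N11140 := trfs L119880 L106631 rfl
theorem L120225 : sm gd N10763 = N11137 := trfs L119880 (flp_d L106629) rfl
theorem L120226 : N11137 = N13528 := eqes L120225 L103138
theorem L120227 : N13528 = N11137 := (eqc rfl L120226 rfl).symm
theorem L120228 : sm gb N11137 = N14428 := trfs L120227 (flp_b L107651) rfl
theorem L120229 : N14428 = N14228 := eqes L120228 (flp_b L106623)
theorem L120230 : N14428 = N14228 := eqc rfl L120229 rfl
theorem L120231 : sm gd N11137 = N10763 := trfs L120227 (flp_d L103138) rfl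
theorem L120233 : sm gd N14228 = N11249 := trfs L120230 (flp_d L107649) rfl
theorem L120235 : sm gd N14093 = N14719 := ded_28_7 L109153 L119411 (flp_d L88696) (flp_c L37247) (flp_d L37221) L88660 (flp_d L120231) (flp_c L105843)
theorem L120237 : sm gd N12721 = N13502 := ded_9_2 L103026 L119413 (flp_a L119837)
theorem L120239 : sm gd N14724 = N13504 := ded_24_3 (flp_g L103036) L119413 L109169
theorem L120241 : sm gd N13494 = N14232 := ded_28_7 L106635 L119566 L91846 L91942 (flp_d L119413) (flp_c L88602) (flp_d L88574) L102992
theorem L120243 : sm gc N14672 = N14232 := ded_18_11 (flp_d L120241) (flp_c L102992) L88574 L88602 L119413 (flp_c L91942) (flp_d L91846) (flp_c L119566) L119939 (flp_c L119781) L102988 L103024 (flp_d L120237) L119839 (flp_d L108953)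
theorem L120245 : sm gf N13392 = N14841 := ded_16_4 (flp_b L119757) L119419 (flp_b L118998) L102419 L102443
theorem L120247 : sm ge N14583 = N14844 := ded_26_3 (flp_g L109655) L119456 L108503
theorem L120249 : sm gc N14852 = N14654 := ded_8_2 L108847 (flp_c L108859) L119469
theorem L120251 : sm ge N14852 = N14678 := ded_10_2 L108973 (flp_e L108861) L119469
theorem L120253 : sm ga N13392 = N14847 := ded_9_3 L109669 L119473 (flp_d L118976)
theorem L120255 : sm gc N14568 = N14844 := ded_8_2 L109657 (flp_c L103570) L119511
theorem L120257 : sm gd N13630 = N14599 := ded_24_3 (flp_g L108585) L119537 L103594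
theorem L120259 : sm gd N13627 = N14455 := ded_22_5 L107777 L119537 (flp_e L88869) L88861 L103572
theorem L120261 : sm gf N14455 = N14106 := ded_25_2 L105911 L119547 (flp_e L107777)
theorem L120263 : sm gb N14106 = N14498 := ded_15_3 L108033 L119549 (flp_e L105911)
theorem L120265 : sm gb N14090 = N14008 := ded_7_2 (flp_a L119817) (flp_b L107400) L91095 L93125 L111453 L119823 L109153 L119549 (flp_a L105827)
theorem L120267 : sm gd N14725 = N14102 := ded_24_3 (flp_g L105883) L119554 L109173
theorem L120269 : sm gd N14498 = N14097 := ded_22_3 (flp_e L105861) (flp_d L90057) L90061 L119554 (flp_e L108033)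
theorem L120271 : sm gf N14093 = N14672 := ded_11_2 (flp_a L108951) L119564 (flp_a L105841)

end Cfsg.Agent.Helper28.SzbA
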