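import Cfsg.Agent.Helper28.SzbB11

/-! # The Suzuki group presentation, cosets of the subgroup generated by a, b, c, d, f, g: the coset enumeration, part 12 (helper28; generated) -/

set_option autoImplicit false

noncomputable section

namespace Cfsg.Agent.Helper28.SzbA

open Cfsg.Agent.Helper28.CosetTable

theorem L120273 : sm gc N14675 = N14239 := ded_21_3 (flp_g L106661) L119566 L108961
theorem L120275 : sm gc N14455 = N14010 := ded_19_3 (flp_e L105829) L119568 (flp_e L107777)
theorem L120277 : sm gc N14600 = N14008 := ded_13_4 (flp_b L120265) L119568 (flp_b L91706) L91708 L108587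
theorem L120279 : sm gb N14449 = N13627 := ded_15_3 (flp_e L103572) L119578 (flp_e L107731)
theorem L120281 : sm gb N16250 = N13800 := ded_14_3 L104566 L119589 (flp_d L116923)
theorem L120283 : sm gd N12503 = N13594 := ded_24_3 (flp_g L103406) L119600 L97581
theorem L120285 : sm ge N16250 = N13797 := ded_22_4 (flp_d L104542) L89414 L119600 (flp_e L96054) (flp_d L116923)
theorem L120287 : sm gf N15247 = N13594 := ded_29_0 (flp_g L103406) (flp_f L119612) L97574 (flp_a L111903)
theorem L120289 : sm gf N13796 = N15245 := ded_11_2 L111889 L119617 L104537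
theorem L120291 : sm gf N13797 = N16249 := ded_23_2 L116917 L119617 L104542
theorem L120293 : sm gd N14004 = N12498 := ded_24_3 (flp_g L97562) L119627 L105469
theorem L120295 : sm gf N14003 = N15322 := ded_29_2 (flp_g L112314) L93673 (flp_f L119641) L105465
theorem L120297 : sm gc N16088 = N14097 := ded_13_2 L105863 L90079 (flp_b L105459) L119643 (flp_b L116008)
theorem L120299 : sm gc N14003 = N12518 := ded_21_3 (flp_g L97646) L119650 L105465
theorem L120301 : sm gd N15322 = N14005 := ded_24_3 L105477 L119660 L112314
theorem L120303 : sm gf N14698 = N14104 := ded_31_13 (flp_b L105895) (flp_g L90071) L90067 L119667 L108845 L108853 (flp_b L108569) (flp_g L108563) (flp_f L108549) (flp_b L108543) L91906 (flp_f L91900) L91892 L109059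
theorem L120305 : sm ge N14672 = N14094 := ded_10_2 L105847 L119672 L108951
theorem L120307 : sm ge N14675 = N14103 := ded_26_3 (flp_g L105889) L119672 L108961
theorem L120309 : sm gf N14097 = N14477 := ded_25_2 L107919 L119676 L105861
theorem L120311 : sm gb N14776 = N14099 := ded_31_14 (flp_g L105869) (flp_f L119676) (flp_b L97214) L97218 L97222 (flp_b L91768) (flp_g L91766) (flp_f L91758) (flp_b L91756) L44205 (flp_f L44201) L44195 L92027 L109370
theorem L120313 : N14409 = N14092 := coi_30_19 L105837 (flp_f L119676) L97216 (flp_b L85256) L26707 L12834 (flp_c L6354) (flp_b L3281) (flp_a L2789) (flp_f L2787) (flp_c L1426) (flp_b L1368) (flp_a L2607) L5011 (flp_c L9877) L20545 L42966 (flp_f L91184) L91183 L107575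
theorem L120314 : N14409 = N14092 := eqc rfl L120313 rfl
theorem L120315 : sm gb N14092 = N11240 := trfs L120314 (flp_b L107575) rfl
theorem L120317 : N15887 = N13494 := coi_13_2 (flp_c L102992) (flp_b L88572) (flp_c L88558) L102942 L119709 L114967
theorem L120318 : N15887 = N13494 := eqc rfl L120317 rfl
theorem L120319 : sm gb N13494 = N12011 := trfs L120318 (flp_b L114967) rfl
theorem L120321 : sm gd N13494 = N14234 := trfs L120318 L114969 rfl
theorem L120322 : N14234 = N14232 := eqes L120321 L120241
theorem L120323 : N14234 = N14232 := eqc rfl L120322 rfl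
theorem L120324 : sm gb N14232 = N11138 := trfs L120323 (flp_b L106645) rfl
theorem L120326 : sm gb N15864 = N14389 := ded_14_3 L107465 L119721 L114855
theorem L120328 : sm gb N15856 = N14391 := ded_15_3 L107475 L119721 (flp_e L114816)
theorem L120330 : N15884 = N11236 := coi_13_5 (flp_b L91155) (flp_c L91137) L119721 L95052 L95095 L114957
theorem L120331 : N15884 = N11236 := eqc rfl L120330 rfl
theorem L120332 : sm gc N11236 = N12010 := trfs L120331 (flp_c L114957) rfl
theorem L120333 : N12010 = N14402 := eqes L120332 L107545
theorem L120334 : N14402 = N12010 := (eqc rfl L120333 rfl).symm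
theorem L120335 : sm gc N12010 = N11236 := trfs L120334 (flp_c L107545) rfl
theorem L120337 : sm gf N12010 = N11249 := trfs L120334 L107547 rfl
theorem L120338 : N11249 = N15885 := eqes L120337 L114959
theorem L120339 : N15885 = N11249 := (eqc rfl L120338 rfl).symm
theorem L120340 : sm gd N11249 = N14229 := trfs L120339 L114961 rfl
theorem L120341 : N14229 = N14228 := eqes L120340 (flp_d L120233)
theorem L120342 : N14229 = N14228 := eqc rfl L120341 rfl
theorem L120343 : sm gf N11249 = N12010 := trfs L120339 (flp_f L114959) rfl
theorem L120345 : sm gf N14228 = N11136 := trfs L120342 (flp_f L106625) rfl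
theorem L120347 : N16542 = N12536 := coi_9_2 (flp_d L97737) (flp_a L97666) L119743 L118737
theorem L120348 : N16542 = N12536 := eqc rfl L120347 rfl
theorem L120349 : sm ga N12536 = N12348 := trfs L120348 (flp_a L118737) rfl
theorem L120352 : sm gd N13901 = N16543 := ded_28_1 (flp_c L118740) (flp_d L119743) L97668 (flp_d L96109) (flp_c L117047) (flp_d L117051) L105021 (flp_c L105035)
theorem L120354 : sm ga N12429 = N12429 := ded_7_3 (flp_b L97262) (flp_a L97250) (flp_b L119745) L101795 L87984 (flp_a L101795) L119745 L97250 L97262
theorem L120355 : sm gd N13838 = N15482 := ded_14_0 L119755 L102170 L104805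
theorem L120357 : sm gf N13838 = N15482 := ded_16_0 L119755 (flp_f L102164) L88114 L89582 L104805
theorem L120359 : sm gc N14847 = N13549 := ded_30_5 (flp_b L103230) L88688 (flp_f L88604) (flp_c L88602) (flp_b L37189) (flp_a L37165) (flp_f L37163) L17806 L18787 L39575 L89582 L89586 L89594 L104809 L104811 L104835 L119757 L109645 L109667
theorem L120361 : sm gc N13838 = N15483 := ded_13_0 L119759 (flp_c L104813) (flp_b L89594) (flp_c L89586) L104805
theorem L120363 : sm gc N15618 = N13531 := ded_21_3 L103156 L119781 L113757
theorem L120365 : sm ge N15615 = N13531 := ded_26_3 L103156 L119783 L113745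
theorem L120367 : sm gf N15464 = N15465 := ded_16_2 L112950 L120159 (flp_b L119892) L119789 L112942
theorem L120369 : sm gc N15622 = N13519 := ded_20_3 L119791 L113747 L113773
theorem L120371 : sm gf N13529 = N15618 := ded_29_2 (flp_g L113757) (flp_a L119795) L102994 L103140
theorem L120373 : sm gf N15878 = N14420 := ded_16_4 L107613 L119803 (flp_b L113632) L120204 L114921
theorem L120375 : sm gd N15622 = N15880 := ded_24_1 (flp_g L114931) (flp_d L120218) L119805
theorem L120377 : sm ge N15622 = N13529 := ded_26_1 (flp_g L103140) (flp_e L103092) L119805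
theorem L120379 : N14006 = N11228 := coi_11_0 (flp_f L107402) L119817 (flp_f L105485) L105479
theorem L120380 : N14006 = N11228 := eqc rfl L120379 rfl
theorem L120381 : sm ga N11228 = N11009 := trfs L120380 (flp_a L105479) rfl
theorem L120382 : N11009 = N14381 := eqes L120381 L107437
theorem L120383 : N14381 = N11009 := (eqc rfl L120382 rfl).symm
theorem L120384 : sm gd N11228 = N14086 := trfs L120380 (flp_d L105808) rfl
theorem L120385 : N14086 = N14379 := eqes L120384 (flp_d L107431)
theorem L120386 : N14379 = N14086 := (eqc rfl L120385 rfl).symm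
theorem L120387 : sm gb N14086 = N11226 := trfs L120386 (flp_b L107429) rfl
theorem L120390 : sm gd N14086 = N11228 := trfs L120386 L107431 rfl
theorem L120392 : sm ga N11009 = N11228 := trfs L120383 (flp_a L107437) rfl
theorem L120394 : sm gd N13908 = N14600 := ded_23_3 L119821 (flp_d L105057) L105069
theorem L120396 : N15330 = N13501 := coi_13_5 (flp_b L103022) L103024 L119831 L118196 L98693 (flp_c L112350)
theorem L120397 : N15330 = N13501 := eqc rfl L120396 rfl
theorem L120398 : sm gc N13501 = N11729 := trfs L120397 L112350 rfl
theorem L120400 : sm gd N13501 = N15466 := trfs L120397 (flp_d L112954) rfl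
theorem L120402 : sm gf N13501 = N11727 := trfs L120397 (flp_f L112348) rfl
theorem L120404 : sm gf N14845 = N13549 := ded_16_4 (flp_b L103230) (flp_f L103028) L119831 (flp_f L118202) (flp_b L109661)
theorem L120406 : sm ga N14497 = N15128 := ded_7_3 (flp_b L111301) (flp_a L93037) (flp_b L45621) (flp_a L69687) (flp_b L43392) (flp_a L91397) L108039 L119833 L119841
theorem L120408 : sm gc N14496 = N15128 := ded_19_3 L111303 L119839 (flp_e L108025)
theorem L120410 : N14437 = N12719 := coi_13_2 (flp_c L98665) (flp_b L85818) L85820 L98669 L119839 (flp_b L107699)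
theorem L120411 : N14437 = N12719 := eqc rfl L120410 rfl
theorem L120412 : sm ga N12719 = N11254 := trfs L120411 (flp_a L107697) rfl
theorem L120414 : sm gb N12719 = N11388 := trfs L120411 L107699 rfl
theorem L120416 : sm gd N13549 = N15177 := ded_14_0 L119847 (flp_d L103232) L103230
theorem L120418 : sm gd N13529 = N14233 := ded_28_7 L106641 (flp_c L105885) (flp_d L120267) (flp_c L119853) L103254 L88702 (flp_d L88664) (flp_c L103142)
theorem L120420 : sm ga N14238 = N13529 := ded_28_8 L103142 L88664 (flp_c L88702) (flp_d L103254) L119853 L120267 L105885 (flp_d L106659)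
theorem L120422 : sm gc N13527 = N14238 := ded_28_0 L106659 (flp_c L105885) (flp_d L120267) (flp_c L119853) L103254 L88702 (flp_d L88664) (flp_a L103132)
theorem L120424 : N13618 = N13617 := coi_13_2 (flp_c L103518) L88831 L88841 L103536 L119868 (flp_b L103525)
theorem L120425 : N13618 = N13617 := eqc rfl L120424 rfl
theorem L120427 : sm gb N13617 = N10807 := trfs L120425 L103525 rfl
theorem L120429 : sm gd N13617 = N10826 := trfs L120425 L103528 rfl
theorem L120431 : sm ge N13617 = N10804 := trfs L120425 (flp_e L103522) rfl
theorem L120434 : N14087 = N14088 := coi_16_2 (flp_f L105815) (flp_b L90042) (flp_f L88845) L103536 L119872 (flp_b L105812)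
theorem L120435 : N14088 = N14087 := (eqc rfl L120434 rfl).symm
theorem L120437 : sm gd N14087 = N14008 := trfs L120435 L105818 rfl
theorem L120439 : sm gf N14087 = N11048 := trfs L120435 (flp_f L105815) rfl
theorem L120441 : sm gd N15882 = N15611 := ded_23_3 L113767 L119915 L114943
theorem L120443 : sm gd N15618 = N14239 := ded_24_3 (flp_g L106661) L119939 L113757
theorem L120445 : sm gd N15641 = N15627 := ded_14_2 (flp_b L113799) L119968 L113857
theorem L120447 : sm ge N15601 = N15607 := ded_15_2 (flp_b L113711) L120048 L113673
theorem L120449 : sm gf N13432 = N15468 := ded_25_2 (flp_e L112960) L120098 (flp_e L102639)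
theorem L120451 : sm gc N13432 = N15477 := ded_19_3 L113016 L120100 (flp_e L102639)
theorem L120453 : sm ga N13432 = N15477 := ded_10_3 L113016 L120102 (flp_e L102639)
theorem L120455 : sm gb N15466 = N13493 := ded_16_5 L102990 L120104 (flp_f L94024) L94006 L112952
theorem L120457 : sm gf N15635 = N15471 := ded_23_2 (flp_d L112984) L120159 L113827
theorem L120459 : sm ga N15635 = N15483 := ded_9_3 L113048 L120165 L113827
theorem L120461 : sm gd N15878 = N14420 := ded_14_2 L107613 L120218 L114921
theorem L120463 : sm ga N13549 = N15179 := ded_8_3 (flp_c L118974) L120253 L120359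
theorem L120465 : sm gd N14104 = N14776 := ded_23_1 (flp_f L109370) (flp_d L109061) L120303
theorem L120467 : N14113 = N14697 := coi_29_0 (flp_f L109055) L109059 L120303 L105897 L105951
theorem L120468 : N14697 = N14113 := (eqc rfl L120467 rfl).symm
theorem L120469 : sm gd N14113 = N11412 := trfs L120468 L109057 rfl
theorem L120471 : sm gf N14113 = N11378 := trfs L120468 (flp_f L109055) rfl
theorem L120473 : N14695 = N14115 := coi_29_0 (flp_f L105957) (flp_g L105897) (flp_f L120303) (flp_g L109059) L109049
theorem L120474 : N14695 = N14115 := eqc rfl L120473 rfl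
theorem L120475 : sm ga N14115 = N11378 := trfs L120474 (flp_a L109049) rfl
theorem L120477 : sm gd N14115 = N11410 := trfs L120474 L109051 rfl
theorem L120479 : N14108 = N14768 := coi_17_0 (flp_g L109374) L120311 (flp_g L105869) L90059 L90081 L105921
theorem L120480 : N14768 = N14108 := (eqc rfl L120479 rfl).symm
theorem L120481 : sm ga N14108 = N11412 := trfs L120480 L109342 rfl
theorem L120483 : sm gf N14108 = N11410 := trfs L120480 (flp_f L109340) rfl
theorem L120485 : sm gg N14108 = N14776 := trfs L120480 (flp_g L109374) rfl
theorem L120487 : N14401 = N14091 := coi_14_3 (flp_b L105833) L105835 L120315 (flp_d L107541)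
theorem L120488 : N14401 = N14091 := eqc rfl L120487 rfl
theorem L120489 : sm ga N14091 = N11236 := trfs L120488 (flp_a L107539) rfl
theorem L120491 : sm gd N14091 = N11240 := trfs L120488 L107541 rfl
theorem L120493 : sm gf N14091 = N11248 := trfs L120488 L107543 rfl
theorem L120495 : sm gg N14091 = N14430 := trfs L120488 (flp_g L107663) rfl
theorem L120497 : sm gc N14397 = N15878 := ded_13_4 (flp_b L114921) (flp_c L114814) L120328 L107473 L107505
theorem L120499 : sm gc N14091 = N15883 := ded_8_2 (flp_a L114951) L120335 (flp_a L120489)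
theorem L120501 : sm gc N14403 = N15886 := ded_21_3 (flp_g L114963) L120335 L107549
theorem L120503 : N14227 = N14226 := coi_28_3 (flp_d L114953) (flp_c L120499) L120491 L91183 (flp_d L120491) L120489 (flp_c L120335) L95097 L106619
theorem L120504 : N14227 = N14226 := eqc rfl L120503 rfl
theorem L120505 : sm gc N14226 = N11136 := trfs L120504 (flp_c L106619) rfl
theorem L120507 : sm gf N15883 = N14426 := ded_11_2 L107639 L120343 L114951
theorem L120509 : sm gb N16549 = N13901 := ded_14_3 L120352 L118742 L118766
theorem L120511 : sm gf N16543 = N13900 := ded_23_2 (flp_d L105031) L105033 L120352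
theorem L120513 : sm ga N15465 = N15466 := ded_11_1 (flp_f L112952) L112936 L120367
theorem L120515 : sm gc N15465 = N15466 := ded_20_1 (flp_f L112952) (flp_c L112940) L120367
theorem L120517 : sm ge N15466 = N15464 := ded_25_3 L120367 (flp_e L112948) L112952
theorem L120519 : sm gd N13899 = N14382 := ded_28_3 (flp_c L107439) (flp_d L120390) L105807 L120390 (flp_a L120392) L105061 (flp_d L105057) (flp_c L105029)
theorem L120521 : sm ga N13907 = N14382 := ded_28_8 (flp_c L107439) (flp_d L120390) L105807 L120390 L107439 (flp_d L120519) L105029 L105057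
theorem L120523 : sm ga N14345 = N14007 := ded_10_3 (flp_e L105481) L120392 (flp_e L107212)
theorem L120525 : sm ga N14383 = N14009 := ded_12_3 (flp_g L105487) L120392 L107441
theorem L120527 : sm gb N16457 = N14496 := ded_13_5 L120408 (flp_b L111301) L93039 L96611 L118217
theorem L120529 : N14438 = N12718 := coi_8_3 (flp_a L98662) L98665 L120412 L107701
theorem L120530 : N14438 = N12718 := eqc rfl L120529 rfl
theorem L120532 : sm gc N12718 = N11254 := trfs L120530 (flp_c L107701) rfl
theorem L120534 : sm ga N14365 = N16457 := ded_10_3 L118219 L120412 (flp_e L107342)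
theorem L120536 : sm ga N14756 = N14012 := ded_7_7 (flp_b L105497) (flp_a L90083) L105921 L120481 L109362 (flp_a L112160) L112164 (flp_a L112182) (flp_b L112186)
theorem L120538 : sm gc N13900 = N14334 := ded_20_1 L107145 L118740 L120511
theorem L120540 : sm ga N15327 = N16543 := ded_30_19 L120511 L120538 (flp_b L107143) L90928 (flp_f L42504) L20225 (flp_b L9865) L5009 L5131 L5133 L5139 L81340 (flp_f L75374) L10803 L22437 L46645 L93681 L93685 L112340
theorem L120542 : sm gb N14382 = N13900 := ded_14_1 (flp_d L105031) L105027 L120519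
theorem L120544 : sm gc N14365 = N16456 := ded_19_3 L118214 L120532 (flp_e L107342)
theorem L120546 : sm gf N14012 = N14754 := ded_11_2 (flp_a L109285) L109289 L120536
theorem L120548 : N14754 = N15373 := coi_30_5 (flp_c L112534) (flp_b L93777) (flp_a L46705) L46707 (flp_c L83376) (flp_b L46579) (flp_a L46559) (flp_f L46557) (flp_c L22393) L22389 L46535 L93536 L102043 L93562 (flp_a L97327) (flp_f L97329) L112180 (flp_b L112186) L120536 L120546
theorem L120549 : N15373 = N14754 := (eqc rfl L120548 rfl).symm
theorem L120550 : sm gb N14754 = N15431 := trfs L120549 (flp_b L112780) rfl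
theorem L120551 : N15431 = N14803 := eqes L120550 (flp_b L109476)
theorem L120552 : N15431 = N14803 := eqc rfl L120551 rfl
theorem L120553 : sm gc N14754 = N11749 := trfs L120549 (flp_c L112534) rfl
theorem L120555 : sm gc N14803 = N11778 := trfs L120552 (flp_c L112778) rfl
theorem L120557 : sm gc N12536 = N15327 := ded_8_0 L120540 (flp_c L118740) (flp_a L120349)
theorem L120559 : sm gc N15374 = N14012 := ded_20_3 L120546 L120553 L112536
theorem L120561 : N15372 = N14755 := coi_8_2 (flp_c L109287) L109285 L120553 L112532
theorem L120562 : N15372 = N14755 := eqc rfl L120561 rfl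
theorem L120563 : sm ga N14755 = N11749 := trfs L120562 (flp_a L112532) rfl
theorem L120565 : N15430 = N14804 := coi_8_2 (flp_c L109478) L109474 L120555 L112776
theorem L120566 : N15430 = N14804 := eqc rfl L120565 rfl
theorem L120567 : sm ga N14804 = N11778 := trfs L120566 (flp_a L112776) rfl
theorem L120569 : sm gb N14016 = N15374 := ded_13_5 L120559 (flp_b L105497) L89895 L89903 L105517
theorem L120571 : sm gf N15376 = N14016 := ded_16_0 L120569 (flp_f L112536) (flp_b L93777) L93779 L112540
theorem L120573 : sm gc N14017 = N15376 := ded_20_3 L120571 (flp_c L105517) L105519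
theorem L120575 : N15376 = N14015 := coi_30_19 (flp_a L105513) L105519 L120573 (flp_b L112540) L93781 (flp_f L46707) L80491 (flp_b L22519) (flp_a L22501) (flp_f L22499) (flp_c L10833) L82480 (flp_a L5424) L5430 (flp_c L10849) L22519 L46833 (flp_f L93653) (flp_c L93783) L112540
theorem L120576 : N15376 = N14015 := eqc rfl L120575 rfl
theorem L120577 : sm gb N14015 = N11750 := trfs L120576 (flp_b L112540) rfl
theorem L120579 : sm gc N14015 = N14017 := trfs L120576 (flp_c L120573) rfl
theorem L120581 : sm gf N14015 = N14016 := trfs L120576 L120571 rfl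
theorem L120583 : N15368 = N14019 := coi_14_3 (flp_b L105527) (flp_d L105515) L120577 (flp_d L112514)
theorem L120584 : N15368 = N14019 := eqc rfl L120583 rfl
theorem L120585 : sm ga N14019 = N11748 := trfs L120584 L112512 rfl
theorem L120587 : sm gd N14019 = N11750 := trfs L120584 L112514 rfl
theorem L120589 : sm gf N14019 = N11746 := trfs L120584 (flp_f L112510) rfl
theorem L120591 : sm gg N14019 = N15271 := trfs L120584 (flp_g L112516) rfl
theorem L120593 : sm ga N12589 = N13588 := ded_7_5 L103380 L88822 L89903 L105513 L120577 L93781 L83380 (flp_a L85555) L98017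
theorem L120595 : sm ga N14017 = N14016 := ded_8_1 (flp_c L105517) L105513 L120579
theorem L120597 : sm gd N14016 = N14021 := ded_23_1 (flp_f L105533) (flp_d L105515) L120581
theorem L120599 : sm gb N12588 = N13586 := ded_7_4 L103370 L88758 L81596 L39737 L89915 L105527 L120585 L93775 (flp_a L98011)
theorem L120601 : sm gd N13586 = N12589 := ded_9_0 L120593 (flp_d L103378) (flp_a L103370)
theorem L120603 : sm gg N12368 = N16580 := rfl
theorem L120605 : sm ga N16580 = N16580 := ded_12_1 (flp_g L120603) L97045 L120603
theorem L120606 : sm gc N16580 = N12369 := ded_21_1 (flp_g L97011) L97006 L120603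
theorem L120608 : sm gf N16580 = N16580 := ded_29_0 (flp_g L120603) L97008 L120603 L120605
theorem L120609 : sm gb N12369 = N16581 := rfl
theorem L120611 : sm gg N16581 = N12370 := ded_17_2 (flp_b L97013) (flp_g L85153) L85150 L97011 L120609
theorem L120613 : sm gf N12536 = N16581 := ded_29_0 L120611 L118756 (flp_g L118744) (flp_a L120349)
theorem L120615 : sm ga N16581 = N14334 := ded_29_4 L107145 L118744 (flp_f L118756) (flp_g L120611)
theorem L120617 : sm gd N16581 = N12431 := ded_23_1 L97278 L97737 L120613
theorem L120619 : sm gb N12431 = N16573 := ded_14_1 L118902 L120609 L120617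
theorem L120621 : sm gg N12431 = N16574 := ded_24_2 L118907 (flp_g L120611) L120617
theorem L120623 : sm ge N16573 = N12429 := ded_15_2 (flp_b L97262) L97274 L120619
theorem L120625 : sm gc N16574 = N12433 := ded_21_1 (flp_g L97284) (flp_c L97276) L120621
theorem L120627 : sm ge N16574 = N12432 := ded_26_1 (flp_g L97280) L97274 L120621
theorem L120629 : sm gg N12429 = N16568 := ded_26_2 L118872 L118899 L120623
theorem L120631 : sm gb N12432 = N16569 := ded_15_1 L118878 L118905 L120627
theorem L120633 : sm ga N12370 = N16582 := rfl
theorem L120635 : sm gg N16582 = N14334 := ded_12_2 (flp_a L120615) L120611 L120633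
theorem L120637 : sm gc N12370 = N16583 := rfl
theorem L120639 : sm gb N16583 = N12381 := ded_13_1 (flp_c L97070) (flp_b L85182) (flp_c L85155) L97013 L120637
theorem L120643 : sm gc N12371 = N16585 := rfl
theorem L120645 : sm ga N16585 = N12372 := ded_8_1 (flp_c L97018) L97015 L120643
theorem L120648 : sm gf N12371 = N16586 := rfl
theorem L120650 : sm ga N16586 = N12373 := ded_11_1 (flp_f L97023) L97015 L120648
theorem L120652 : sm gg N16586 = N12373 := ded_29_3 (flp_a L120650) (flp_f L120648) L97017 L120648
theorem L120654 : sm gd N12372 = N16587 := rfl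
theorem L120656 : sm gb N16587 = N12385 := ded_14_1 (flp_d L97084) (flp_b L97021) L120654
theorem L120658 : sm gg N16587 = N16587 := ded_24_2 (flp_d L120654) L97020 L120654
theorem L120659 : sm gf N12372 = N16588 := rfl
theorem L120661 : sm gc N16588 = N12373 := ded_20_1 (flp_f L97023) L97018 L120659
theorem L120663 : sm gb N12373 = N16589 := rfl
theorem L120665 : sm gf N16589 = N12374 := ded_16_2 (flp_b L97025) (flp_f L85162) L85159 L97023 L120663
theorem L120667 : N12373 = N16586 := coi_31_3 L120652 (flp_f L97023) (flp_b L85159) (flp_g L26667) L26663 L85150 L97011 L97053 L120609 L120611 L118756 (flp_b L118754) (flp_g L118758) (flp_f L120665) (flp_b L120663)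
theorem L120668 : N16586 = N12373 := (eqc rfl L120667 rfl).symm
theorem L120669 : sm ga N12373 = N12373 := trfs L120668 L120650 rfl
theorem L120670 : sm gf N12373 = N12371 := trfs L120668 (flp_f L120648) rfl
theorem L120671 : N12371 = N10108 := eqes L120670 (flp_f L97023)
theorem L120672 : N12371 = N10108 := eqc rfl L120671 rfl
theorem L120673 : sm gg N12373 = N12373 := trfs L120668 L120652 rfl
theorem L120674 : sm ga N10108 = N10108 := trfs L120672 (flp_a L97015) rfl
theorem L120678 : sm gc N10108 = N16585 := trfs L120672 L120643 rfl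
theorem L120679 : N16585 = N12372 := eqes L120678 L97018
theorem L120680 : N16585 = N12372 := eqc rfl L120679 rfl
theorem L120681 : sm gd N10108 = N16575 := trfs L120672 (flp_d L118911) rfl
theorem L120682 : N16575 = N12365 := eqes L120681 (flp_d L96992)
theorem L120683 : N16575 = N12365 := eqc rfl L120682 rfl
theorem L120684 : sm ge N10108 = N15945 := trfs L120672 (flp_e L115283) rfl
theorem L120685 : N15945 = N12043 := eqes L120684 (flp_e L95289)
theorem L120686 : N15945 = N12043 := eqc rfl L120685 rfl
theorem L120688 : sm ga N12043 = N12043 := trfs L120686 (flp_a L115281) rfl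
theorem L120690 : sm ga N12365 = N12365 := trfs L120683 (flp_a L118909) rfl
theorem L120692 : sm ga N12372 = N12372 := trfs L120680 L120645 rfl
theorem L120694 : sm gg N16589 = N16545 := ded_29_3 (flp_a L118746) L118752 (flp_g L118758) (flp_f L120665)
theorem L120696 : sm ga N14335 = N16589 := ded_29_4 L120665 L118758 (flp_f L118752) (flp_g L107149)
theorem L120698 : sm ga N16588 = N16588 := ded_8_3 L120661 L120669 (flp_c L120661)
theorem L120699 : sm ga N16577 = N16577 := ded_9_3 L118919 L120669 (flp_d L118919)
theorem L120700 : sm ga N15947 = N15947 := ded_10_3 L115295 L120669 (flp_e L115295)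
theorem L120701 : sm gg N16588 = N16588 := ded_21_2 L120661 L120673 (flp_c L120661)
theorem L120702 : sm gg N16577 = N16577 := ded_24_2 L118919 L120673 (flp_d L118919)
theorem L120703 : sm gg N15947 = N15947 := ded_26_2 L115295 L120673 (flp_e L115295)
theorem L120705 : sm ga N15946 = N15946 := ded_8_3 (flp_c L115286) L120688 L115286
theorem L120706 : sm ga N15940 = N15940 := ded_9_3 L115250 L120688 (flp_d L115250)
theorem L120708 : sm ga N16570 = N16570 := ded_10_3 L118884 L120690 (flp_e L118884)
theorem L120709 : sm ga N16587 = N16587 := ded_9_3 (flp_d L120654) L120692 L120654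
theorem L120710 : sm ga N12374 = N16590 := rfl
theorem L120712 : sm gf N16590 = N14335 := ded_11_2 L120696 L120665 L120710
theorem L120714 : sm gc N12374 = N16591 := rfl
theorem L120716 : sm gb N16591 = N12389 := ded_13_1 (flp_c L97098) (flp_b L85194) (flp_c L85166) L97025 L120714
theorem L120718 : sm gc N12375 = N16592 := rfl
theorem L120720 : sm ga N16592 = N15180 := ded_8_1 L111581 L97031 L120718
theorem L120722 : sm gf N16592 = N15177 := ded_20_2 (flp_c L111567) L97033 L120718
theorem L120724 : sm gb N16592 = N12723 := ded_13_1 L98679 (flp_b L97043) (flp_c L97037) L97027 L120718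
theorem L120726 : sm gd N14845 = N16592 := ded_28_1 (flp_c L120718) L97029 (flp_c L91650) (flp_d L91607) L119680 L109643 L109645 L109659
theorem L120728 : sm gd N12376 = N16593 := rfl
theorem L120730 : sm ga N16593 = N12377 := ded_9_1 (flp_d L97054) (flp_a L97039) L120728
theorem L120732 : sm gb N16593 = N12713 := ded_14_1 L118188 (flp_b L97043) L120728
theorem L120734 : sm gf N16593 = N12396 := ded_23_2 (flp_d L97126) (flp_f L97041) L120728
theorem L120736 : sm gc N12396 = N16593 := ded_28_0 (flp_d L120728) (flp_c L97037) L85172 (flp_c L46387) L22315 L26691 L85208 (flp_a L97128)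
theorem L120738 : sm ge N12377 = N16594 := rfl
theorem L120740 : sm gc N16594 = N12399 := ded_19_1 (flp_e L97140) (flp_c L97058) L120738
theorem L120742 : sm gf N16594 = N12399 := ded_25_2 (flp_e L97140) (flp_f L97056) L120738
theorem L120744 : sm gg N12377 = N16595 := rfl
theorem L120746 : sm gc N16595 = N12400 := ded_21_1 (flp_g L97143) (flp_c L97058) L120744
theorem L120748 : sm gd N16595 = N12378 := ded_24_1 (flp_g L97060) L97054 L120744
theorem L120750 : sm gb N12378 = N16596 := rfl
theorem L120752 : sm gc N12379 = N16597 := rfl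
theorem L120754 : sm gg N16597 = N12381 := ded_21_2 (flp_c L97070) (flp_g L97066) L120752
theorem L120756 : sm gc N12380 = N16598 := rfl
theorem L120758 : sm ga N16598 = N12381 := ded_8_1 (flp_c L97070) L97068 L120756
theorem L120760 : sm gf N16598 = N12699 := ded_20_2 (flp_c L98569) (flp_f L98483) L120756
theorem L120762 : sm gd N12381 = N16599 := rfl
theorem L120764 : sm gf N12381 = N16600 := rfl
theorem L120766 : sm ga N16600 = N12699 := ded_11_1 (flp_f L120760) L120758 L120764
theorem L120768 : sm gc N16600 = N12382 := ded_20_1 (flp_f L97072) L97070 L120764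
theorem L120770 : sm gg N12382 = N16601 := rfl
theorem L120772 : sm ga N16601 = N12691 := ded_12_1 L98543 L98487 L120770
theorem L120774 : sm gf N15230 = N16601 := ded_29_0 (flp_g L120770) (flp_f L97072) (flp_g L97066) (flp_a L111813)
theorem L120776 : sm gb N16601 = N12507 := ded_17_1 L97603 L97702 (flp_g L98113) (flp_b L97074) L120770
theorem L120778 : sm gc N12383 = N16602 := rfl
theorem L120780 : sm ga N16602 = N15214 := ded_8_1 L111737 L97901 L120778
theorem L120782 : sm gg N16602 = N15210 := ded_21_2 (flp_c L111721) L97903 L120778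
theorem L120784 : sm gb N12384 = N16603 := rfl
theorem L120786 : sm gd N12384 = N16604 := rfl
theorem L120788 : sm ga N16604 = N12385 := ded_9_1 (flp_d L97084) (flp_a L97080) L120786
theorem L120790 : sm gg N16604 = N12409 := ded_24_2 (flp_d L97172) (flp_g L97082) L120786
theorem L120792 : sm gc N12385 = N16605 := rfl
theorem L120796 : sm ge N12385 = N16606 := rfl
theorem L120798 : sm gg N16606 = N12413 := ded_26_2 (flp_e L97188) (flp_g L97086) L120796
theorem L120800 : sm gf N12385 = N16607 := rfl
theorem L120802 : sm gd N16607 = N12386 := ded_23_1 (flp_f L97088) L97084 L120800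
theorem L120804 : sm gb N12386 = N16608 := rfl
theorem L120806 : sm gc N12387 = N16609 := rfl
theorem L120808 : sm gf N16609 = N12389 := ded_20_2 (flp_c L97098) (flp_f L97094) L120806
theorem L120810 : sm gc N12388 = N16610 := rfl
theorem L120812 : sm ga N16610 = N12389 := ded_8_1 (flp_c L97098) L97096 L120810
theorem L120814 : sm gg N16610 = N12590 := ded_21_2 (flp_c L98019) L97965 L120810
theorem L120816 : sm gd N12389 = N16611 := rfl
theorem L120818 : sm gg N12389 = N16612 := rfl
theorem L120820 : sm ga N16612 = N12590 := ded_12_1 (flp_g L120814) L120812 L120818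
theorem L120822 : sm gc N16612 = N12390 := ded_21_1 (flp_g L97100) L97098 L120818
theorem L120824 : sm gf N12390 = N16613 := rfl
theorem L120826 : sm ga N16613 = N12580 := ded_11_1 L97961 (flp_a L97967) L120824
theorem L120828 : sm gg N16613 = N15197 := ded_29_3 L111667 L97094 L97100 L120824
theorem L120830 : sm gb N16613 = N12619 := ded_16_1 L98167 L98276 (flp_f L98280) (flp_b L97102) L120824
theorem L120832 : sm gb N12392 = N16614 := rfl
theorem L120834 : sm gc N16614 = N12395 := ded_13_2 (flp_b L97122) (flp_c L85198) L85196 L97110 L120832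
theorem L120836 : sm gf N16614 = N12719 := ded_16_2 L120414 L109151 (flp_b L119823) L111457 L120832
theorem L120838 : sm ga N16614 = N14439 := ded_30_3 (flp_f L107704) (flp_c L120532) L98664 (flp_a L98662) (flp_f L97124) (flp_c L120834) (flp_b L120832) L107298 L107296 (flp_c L93173) (flp_b L93169) (flp_a L46383) (flp_f L46361) L72420 L93169 (flp_a L97114) (flp_f L97112) L97110 L120832
theorem L120840 : sm gg N12392 = N16615 := rfl
theorem L120842 : sm gc N16615 = N12394 := ded_21_1 (flp_g L97120) L97110 L120840
theorem L120844 : sm gf N16615 = N15153 := ded_29_2 (flp_g L111459) L111453 L111457 L120840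
theorem L120846 : sm ga N12395 = N16616 := rfl
theorem L120848 : sm gc N16616 = N14439 := ded_8_2 (flp_a L120838) L120834 L120846
theorem L120850 : sm gf N16616 = N12718 := ded_11_2 (flp_a L98662) (flp_f L97124) L120846
theorem L120852 : sm gd N12395 = N16617 := rfl
theorem L120854 : sm gb N16617 = N12396 := ded_14_1 (flp_d L97126) L97122 L120852
theorem L120856 : sm gf N16617 = N12712 := ded_23_2 L98633 (flp_f L97124) L120852
theorem L120858 : sm gc N12712 = N16617 := ded_13_0 L120854 L120736 L120732 (flp_c L98635) L98631
theorem L120860 : sm gg N12395 = N16618 := rfl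
theorem L120862 : sm ge N12396 = N16619 := rfl
theorem L120864 : sm ga N16619 = N12399 := ded_10_1 (flp_e L97140) (flp_a L97128) L120862
theorem L120866 : sm gg N12396 = N16620 := rfl
theorem L120868 : sm ga N16620 = N12400 := ded_12_1 (flp_g L97143) (flp_a L97128) L120866
theorem L120870 : sm gd N16620 = N12397 := ded_24_1 (flp_g L97130) L97126 L120866
theorem L120872 : sm gf N16620 = N16595 := ded_29_2 (flp_g L120744) (flp_a L120730) L120734 L120866
theorem L120874 : sm gb N12397 = N16621 := rfl
theorem L120876 : sm gf N12519 = N16621 := ded_31_1 (flp_b L120874) (flp_g L97130) (flp_f L97041) L97043 (flp_g L85828) (flp_f L85507) (flp_b L26797) (flp_g L12870) (flp_f L12834) L12836 L26716 (flp_f L26783) L85453 (flp_g L97652)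
theorem L120878 : N16596 = N12520 := coi_16_4 (flp_f L97654) L97650 L120876 (flp_b L120874) L97136 L120750
theorem L120879 : N16596 = N12520 := eqc rfl L120878 rfl
theorem L120880 : sm gb N12520 = N12378 := trfs L120879 (flp_b L120750) rfl
theorem L120882 : sm gb N15960 = N16268 := ded_15_3 L117035 L120880 (flp_e L115365)
theorem L120884 : sm gb N16580 = N12512 := ded_17_5 (flp_g L97658) L120880 (flp_g L97060) (flp_b L97009) L120603
theorem L120886 : sm gc N12398 = N16622 := rfl
theorem L120888 : sm gf N16622 = N12689 := ded_20_2 L98525 L97987 L120886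
theorem L120890 : sm gg N12399 = N16623 := rfl
theorem L120892 : sm ge N16623 = N12400 := ded_26_1 (flp_g L97143) L97140 L120890
theorem L120894 : sm gb N12400 = N16624 := rfl
theorem L120896 : sm gd N16624 = N12401 := ded_14_2 (flp_b L97147) (flp_d L97145) L120894
theorem L120898 : sm gg N16624 = N16624 := ded_17_2 (flp_b L120894) (flp_g L97143) L85210 L97143 L120894
theorem L120899 : sm gf N12400 = N16625 := rfl
theorem L120901 : sm ga N16625 = N16595 := ded_11_1 (flp_f L120872) L120868 L120899
theorem L120903 : sm gc N16625 = N16620 := ded_20_1 L120872 L120746 L120899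
theorem L120905 : sm gd N16625 = N12402 := ded_23_1 (flp_f L97150) (flp_d L97145) L120899
theorem L120907 : sm gg N16625 = N16593 := ded_29_3 L120730 L97056 L97143 L120899
theorem L120909 : sm ga N12401 = N16626 := rfl
theorem L120911 : sm gg N16626 = N16626 := ded_12_2 (flp_a L120909) L97149 L120909
theorem L120912 : sm gf N12401 = N16627 := rfl
theorem L120914 : sm gg N12437 = N16627 := ded_31_0 (flp_f L120912) (flp_b L97147) (flp_g L85211) (flp_f L85178) (flp_b L97009) L120603 L120608 L120884 (flp_g L97658) (flp_f L97654) L97650 L97652 L97698 L97700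
theorem L120916 : N10139 = N16626 := coi_29_3 L120911 (flp_a L120909) L120912 (flp_g L120914) (flp_f L97301)
theorem L120917 : N16626 = N10139 := (eqc rfl L120916 rfl).symm
theorem L120918 : sm ga N10139 = N12401 := trfs L120917 (flp_a L120909) rfl
theorem L120919 : N12401 = N12435 := eqes L120918 L97293
theorem L120920 : N12435 = N12401 := (eqc rfl L120919 rfl).symm
theorem L120922 : sm ga N12401 = N10139 := trfs L120920 (flp_a L97293) rfl
theorem L120924 : sm ge N12401 = N16097 := trfs L120920 (flp_e L116105) rfl
theorem L120925 : N16097 = N16012 := eqes L120924 (flp_e L115626)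
theorem L120926 : N16097 = N16012 := eqc rfl L120925 rfl
theorem L120928 : sm ga N16012 = N12118 := trfs L120926 (flp_a L116103) rfl
theorem L120931 : sm ga N12437 = N16627 := ded_29_4 (flp_f L120912) L97149 L120912 (flp_g L120914)
theorem L120933 : sm ga N12436 = N12491 := ded_8_3 L97529 L120922 L97296
theorem L120935 : sm ga N12434 = N16624 := ded_9_3 L120896 L120922 (flp_d L97290)
theorem L120937 : sm ga N16098 = N16153 := ded_8_3 L116426 L120928 L116108
theorem L120939 : sm gb N12402 = N16628 := rfl
theorem L120941 : sm gg N16628 = N12550 := ded_17_2 (flp_b L97807) L85828 (flp_b L97043) (flp_g L97156) L120939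
theorem L120943 : sm gc N12404 = N16629 := rfl
theorem L120945 : sm ga N16629 = N12405 := ded_8_1 (flp_c L97164) L97160 L120943
theorem L120947 : sm gg N16629 = N15167 := ded_21_2 (flp_c L111523) L97897 L120943
theorem L120949 : sm gb N12405 = N16630 := rfl
theorem L120951 : sm gc N16630 = N12408 := ded_13_2 (flp_b L97170) (flp_c L85223) L85221 L97164 L120949
theorem L120953 : sm gd N12405 = N16631 := rfl
theorem L120955 : sm gf N12405 = N16632 := rfl
theorem L120957 : sm gc N16632 = N12406 := ded_20_1 (flp_f L97166) L97164 L120955
theorem L120959 : sm gg N12405 = N16633 := rfl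
theorem L120961 : sm ga N16633 = N15167 := ded_12_1 (flp_g L120947) L120945 L120959
theorem L120963 : sm gc N16633 = N12407 := ded_21_1 (flp_g L97168) L97164 L120959
theorem L120965 : sm ga N12408 = N16634 := rfl
theorem L120967 : sm gd N12408 = N16635 := rfl
theorem L120969 : sm gb N16635 = N12409 := ded_14_1 (flp_d L97172) L97170 L120967
theorem L120971 : sm gf N12408 = N16636 := rfl
theorem L120973 : sm gg N12408 = N16637 := rfl
theorem L120975 : sm gc N12409 = N16638 := rfl
theorem L120977 : sm ga N16638 = N12412 := ded_8_1 (flp_c L97186) (flp_a L97174) L120975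
theorem L120979 : sm gd N15172 = N16638 := ded_28_1 (flp_c L120975) (flp_d L97172) (flp_c L85223) (flp_d L46395) L93199 L111537 L111539 L111549
theorem L120981 : sm ge N12409 = N16639 := rfl
theorem L120983 : sm ga N16639 = N12413 := ded_10_1 (flp_e L97188) (flp_a L97174) L120981
theorem L120985 : sm gf N12409 = N16640 := rfl
theorem L120987 : sm ga N16640 = N12414 := ded_11_1 (flp_f L97191) (flp_a L97174) L120985
theorem L120989 : sm gd N16640 = N12410 := ded_23_1 (flp_f L97176) L97172 L120985
theorem L120991 : sm gg N16607 = N16640 := ded_29_1 (flp_f L120985) (flp_g L120790) L120788 L120800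
theorem L120993 : sm gb N12410 = N16641 := rfl
theorem L120995 : sm gc N12411 = N16642 := rfl
theorem L120997 : sm gg N16642 = N12578 := ded_21_2 L97953 L97969 L120995
theorem L121008 : sm ge N12412 = N16645 := rfl
theorem L121010 : sm gc N16645 = N12413 := ded_19_1 (flp_e L97188) L97186 L121008
theorem L121012 : sm gf N12412 = N16646 := rfl
theorem L121014 : sm gc N16646 = N12414 := ded_20_1 (flp_f L97191) L97186 L121012
theorem L121016 : sm gf N12413 = N16647 := rfl
theorem L121018 : sm ge N16647 = N12414 := ded_25_1 (flp_f L97191) L97188 L121016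
theorem L121020 : sm gb N12414 = N16648 := rfl
theorem L121022 : sm gd N16648 = N12415 := ded_14_2 (flp_b L97195) (flp_d L97193) L121020
theorem L121024 : sm gf N16648 = N16648 := ded_16_2 (flp_b L121020) (flp_f L97191) L85235 L97191 L121020
theorem L121025 : sm gg N12414 = N16649 := rfl
theorem L121027 : sm ga N16649 = N16607 := ded_12_1 L120991 L120987 L121025
theorem L121029 : sm gd N16649 = N12416 := ded_24_1 (flp_g L97198) (flp_d L97193) L121025
theorem L121031 : sm gf N16604 = N16649 := ded_29_0 (flp_g L121025) (flp_f L97191) (flp_g L97086) (flp_a L120788)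
theorem L121033 : sm ga N12415 = N16650 := rfl
theorem L121036 : sm gg N12415 = N16651 := rfl
theorem L121038 : sm gb N12416 = N16652 := rfl
theorem L121040 : sm ga N12419 = N16653 := rfl
theorem L121042 : sm gc N16653 = N12423 := ded_8_2 (flp_a L97236) (flp_c L97216) L121040
theorem L121044 : sm gd N16653 = N14094 := ded_9_2 L105847 (flp_d L119674) L121040
theorem L121046 : sm gf N16653 = N14092 := ded_11_2 L105837 (flp_f L119676) L121040
theorem L121048 : sm gb N16653 = N14439 := ded_7_2 (flp_a L120838) (flp_b L120832) L107298 (flp_b L107288) L91039 L91327 L91625 L97214 L121040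
theorem L121050 : sm gg N12419 = N16654 := rfl
theorem L121052 : sm gc N16654 = N12426 := ded_21_1 (flp_g L97246) (flp_c L97216) L121050
theorem L121054 : sm gd N16654 = N14103 := ded_24_1 (flp_g L105889) (flp_d L119674) L121050
theorem L121056 : sm gb N12420 = N16655 := rfl
theorem L121058 : sm gb N12423 = N16656 := rfl
theorem L121060 : sm ge N16656 = N13757 := ded_15_2 L116082 L115998 L121058
theorem L121062 : sm ga N16656 = N16656 := ded_7_1 (flp_b L121058) (flp_a L97236) (flp_b L85256) L26707 L12836 (flp_a L26707) L85256 L97236 L121058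
theorem L121063 : sm gf N16656 = N16656 := ded_25_0 L121060 L104332 (flp_e L121060)
theorem L121064 : sm gd N13996 = N16656 := ded_22_5 L121060 (flp_d L104329) L89285 L89866 L105436
theorem L121066 : sm gd N12423 = N16657 := rfl
theorem L121068 : sm ga N16657 = N12424 := ded_9_1 (flp_d L97238) L97236 L121066
theorem L121070 : sm gb N16657 = N13996 := ded_14_1 L121064 (flp_b L121058) L121066
theorem L121072 : sm ge N16657 = N13993 := ded_22_2 (flp_d L105421) (flp_e L104325) (flp_d L116080) L115998 L121066
theorem L121074 : sm gc N16657 = N15869 := ded_28_6 L114880 (flp_a L119707) L119709 L95103 (flp_c L105849) (flp_d L121044) L121042 L121066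
theorem L121076 : sm gf N15867 = N16657 := ded_20_0 L121074 (flp_f L114878) L114871
theorem L121078 : sm gf N12423 = N16658 := rfl
theorem L121080 : sm ga N16658 = N12425 := ded_11_1 (flp_f L97242) L97236 L121078
theorem L121082 : sm gc N16658 = N14092 := ded_20_1 (flp_f L121046) L121042 L121078
theorem L121084 : sm gd N16658 = N15867 := ded_23_1 L121076 (flp_d L121066) L121078
theorem L121086 : sm gb N16658 = N16658 := ded_16_1 (flp_f L121078) L121058 L121063 (flp_b L121058) L121078
theorem L121087 : sm gg N12423 = N16659 := rfl
theorem L121089 : sm ga N16659 = N12426 := ded_12_1 (flp_g L97246) L97236 L121087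
theorem L121091 : sm gc N12424 = N16660 := rfl
theorem L121093 : sm ga N16660 = N15869 := ded_8_1 (flp_c L121074) L121068 L121091
theorem L121095 : sm gb N16660 = N13480 := ded_13_1 L102914 L119745 (flp_c L97248) (flp_b L97240) L121091
theorem L121097 : sm gd N16660 = N13485 := ded_28_7 L119707 L95060 L84212 (flp_c L90069) (flp_d L119674) L97216 L97238 L121091
theorem L121099 : sm gf N15864 = N16660 := ded_30_0 (flp_c L121091) L97240 L85260 L26714 L26787 L71009 (flp_a L85437) (flp_f L97252) (flp_c L97248) (flp_b L97240) (flp_a L121068) (flp_f L121076) (flp_c L114871) L95056 L84193 L84194 L84195 (flp_b L95056) (flp_a L114857)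
theorem L121101 : sm ge N12424 = N16661 := rfl
theorem L121103 : sm ga N16661 = N13993 := ded_10_1 (flp_e L121072) L121068 L121101
theorem L121105 : sm gb N16661 = N12428 := ded_15_1 (flp_e L97256) (flp_b L97240) L121101
theorem L121107 : sm gd N16661 = N13992 := ded_22_1 (flp_e L116074) (flp_d L116000) L95634 L97238 L121101
theorem L121109 : sm gf N12424 = N16662 := rfl
theorem L121111 : sm ga N16662 = N15867 := ded_11_1 L121076 L121068 L121109
theorem L121113 : sm gc N16662 = N15864 := ded_20_1 L121099 (flp_c L121091) L121109
theorem L121115 : sm gd N16662 = N12425 := ded_23_1 (flp_f L97242) L97238 L121109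
theorem L121117 : sm gb N16662 = N12516 := ded_16_1 (flp_f L97638) L85429 (flp_f L85262) (flp_b L97240) L121109
theorem L121119 : sm gg N12424 = N16663 := rfl
theorem L121121 : sm gd N16663 = N12426 := ded_24_1 (flp_g L97246) L97238 L121119
theorem L121123 : sm gg N12425 = N16664 := rfl
theorem L121125 : sm gc N16664 = N14099 := ded_21_1 (flp_g L105869) (flp_c L119652) L121123
theorem L121127 : sm gf N16659 = N16664 := ded_29_0 (flp_g L121123) (flp_f L97242) L97246 (flp_a L121089)
theorem L121129 : sm gf N12426 = N16665 := rfl
theorem L121131 : sm ga N16665 = N16664 := ded_11_1 (flp_f L121127) L121089 L121129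
theorem L121133 : sm gg N16665 = N16658 := ded_29_3 L121080 (flp_f L97242) L97246 L121129
theorem L121135 : sm ge N12427 = N16666 := rfl
theorem L121137 : sm ga N16666 = N12431 := ded_10_1 (flp_e L97274) (flp_a L97250) L121135
theorem L121139 : sm gb N16666 = N14332 := ded_15_1 L107133 L119745 L121135
theorem L121141 : sm gc N16666 = N12428 := ded_19_1 (flp_e L97256) L97248 L121135
theorem L121143 : sm gf N16666 = N12522 := ded_25_2 (flp_e L97664) (flp_f L97252) L121135
theorem L121145 : sm gd N16666 = N14334 := ded_32_1 (flp_c L120538) (flp_d L105031) (flp_c L89684) (flp_b L39611) (flp_d L33110) L72009 L33110 L39613 L89690 L105057 (flp_c L105061) (flp_d L90044) L90046 (flp_b L90042) (flp_d L39949) (flp_c L39729) (flp_d L18853) (flp_c L9135) (flp_b L4623) L2396 L1206 L564 (flp_c L1206) L2402 L2404 (flp_d L2372) L4589 L69504 L8753 L17986 L37611 L71967 (flp_d L37611) L64884 (flp_b L17986) L17989 L69576 (flp_d L9285) (flp_c L4683) L4681 (flp_d L9011) (flp_c L69429) L8535 L64728 (flp_b L4387) (flp_d L4357) L4355 L2288 L1180 L1378 (flp_e L2681) (flp_d L5141) L10193 L21229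 L44258 L92102 L92104 L85988 (flp_d L92104) L119045 L119037 L119025 L104813 L119361 (flp_c L91848) L91844 L91846 L91942 (flp_d L119413) (flp_c L88602) (flp_b L37189) (flp_d L37183) (flp_c L88558) (flp_d L102916) L102914 L119745 L121135
theorem L121147 : sm gd N12429 = N16667 := rfl
theorem L121149 : sm ga N16667 = N16667 := ded_9_1 (flp_d L121147) L120354 L121147
theorem L121150 : sm gb N16667 = N12430 := ded_14_1 (flp_d L97266) L97262 L121147
theorem L121152 : sm gf N16667 = N16667 := ded_23_2 (flp_d L121147) L97265 L121147
theorem L121153 : sm ge N12430 = N16668 := rfl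
theorem L121155 : sm ga N16668 = N15190 := ded_10_1 (flp_e L111631) (flp_a L97268) L121153
theorem L121157 : sm gc N16668 = N15188 := ded_19_1 (flp_e L111623) L97272 L121153
theorem L121159 : sm gf N16668 = N12534 := ded_25_2 (flp_e L97722) (flp_f L97270) L121153
theorem L121161 : sm gb N12433 = N16669 := rfl
theorem L121163 : sm ge N16669 = N12434 := ded_15_2 (flp_b L97288) (flp_e L97286) L121161
theorem L121165 : sm gg N16669 = N16669 := ded_17_2 (flp_b L121161) (flp_g L97284) L85270 L97284 L121161
theorem L121166 : sm gc N12434 = N16670 := rfl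
theorem L121168 : sm gg N16670 = N16670 := ded_21_2 (flp_c L121166) L97292 L121166
theorem L121169 : sm gf N12434 = N16671 := rfl
theorem L121171 : sm gd N16671 = N12437 := ded_23_1 (flp_f L97301) (flp_d L97290) L121169
theorem L121173 : sm gd N12436 = N16672 := rfl
theorem L121175 : sm gb N16672 = N12440 := ded_14_1 (flp_d L97311) (flp_b L97299) L121173
theorem L121177 : sm gg N16672 = N16672 := ded_24_2 (flp_d L121173) L97298 L121173
theorem L121178 : sm gf N12436 = N16673 := rfl
theorem L121180 : sm gc N16673 = N12437 := ded_20_1 (flp_f L97301) L97296 L121178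
theorem L121182 : sm gc N12438 = N16674 := rfl
theorem L121184 : sm gg N12438 = N16675 := rfl
theorem L121186 : sm ga N16675 = N12667 := ded_12_1 (flp_g L111505) L111507 L121184
theorem L121188 : sm gd N16675 = N16613 := ded_24_1 L120828 L111663 L121184
theorem L121190 : sm gf N12665 = N16675 := ded_29_0 (flp_g L121184) (flp_f L98615) (flp_g L98405) L98391
theorem L121192 : sm gb N16675 = N12444 := ded_17_1 (flp_g L97325) (flp_b L85290) (flp_g L85282) L97303 L121184
theorem L121194 : sm gb N12439 = N16676 := rfl
theorem L121196 : sm gd N12439 = N16677 := rfl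
theorem L121198 : sm ga N16677 = N12440 := ded_9_1 (flp_d L97311) (flp_a L97307) L121196
theorem L121200 : sm gg N16677 = N12446 := ded_24_2 (flp_d L97333) (flp_g L97309) L121196
theorem L121202 : sm gc N12440 = N16678 := rfl
theorem L121204 : sm gg N16678 = N12448 := ded_21_2 (flp_c L97345) (flp_g L97313) L121202
theorem L121206 : sm ge N12440 = N16679 := rfl
theorem L121208 : sm gg N16679 = N12449 := ded_26_2 (flp_e L97347) (flp_g L97313) L121206
theorem L121210 : sm gf N12440 = N16680 := rfl
theorem L121212 : sm gd N16680 = N12441 := ded_23_1 (flp_f L97315) L97311 L121210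
theorem L121214 : sm gb N12441 = N16681 := rfl
theorem L121216 : sm gc N12442 = N16682 := rfl
theorem L121218 : sm ga N16682 = N12443 := ded_8_1 (flp_c L97323) L97319 L121216
theorem L121220 : sm gg N16682 = N15283 := ded_21_2 (flp_c L112080) L97321 L121216
theorem L121222 : sm gb N12443 = N16683 := rfl
theorem L121224 : sm gc N16683 = N12445 := ded_13_2 (flp_b L97331) (flp_c L85292) L85290 L97323 L121222
theorem L121226 : sm gg N16683 = N14750 := ded_17_2 (flp_b L109273) L92004 L109307 L109311 L121222
theorem L121228 : sm gd N12443 = N16684 := rfl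
theorem L121230 : sm ga N12445 = N16685 := rfl
theorem L121232 : sm gd N12445 = N16686 := rfl
theorem L121234 : sm gb N16686 = N12446 := ded_14_1 (flp_d L97333) L97331 L121232
theorem L121236 : sm gf N12445 = N16687 := rfl
theorem L121238 : sm gg N12445 = N16688 := rfl
theorem L121240 : sm gc N16688 = N14750 := ded_21_1 (flp_g L121226) L121224 L121238
theorem L121242 : sm gf N14752 = N16688 := ded_20_0 L121240 L109275 L109279
theorem L121244 : sm gc N12446 = N16689 := rfl
theorem L121246 : sm ga N16689 = N12448 := ded_8_1 (flp_c L97345) (flp_a L97335) L121244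
theorem L121248 : sm gd N15205 = N16689 := ded_28_1 (flp_c L121244) (flp_d L97333) (flp_c L85292) (flp_d L46429) L93281 L111689 L111691 L111701
theorem L121250 : sm ge N12446 = N16690 := rfl
theorem L121252 : sm ga N16690 = N12449 := ded_10_1 (flp_e L97347) (flp_a L97335) L121250
theorem L121254 : sm gf N12446 = N16691 := rfl
theorem L121256 : sm ga N16691 = N12450 := ded_11_1 (flp_f L97350) (flp_a L97335) L121254
theorem L121258 : sm gd N16691 = N12447 := ded_23_1 (flp_f L97337) L97333 L121254
theorem L121260 : sm gg N16680 = N16691 := ded_29_1 (flp_f L121254) (flp_g L121200) L121198 L121210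
theorem L121262 : sm gb N12447 = N16692 := rfl
theorem L121264 : sm gb N12448 = N16693 := rfl
theorem L121267 : sm gd N12448 = N16694 := rfl
theorem L121269 : sm ga N16694 = N15205 := ded_9_1 L121248 L121246 L121267
theorem L121271 : sm gc N15203 = N16694 := ded_28_0 (flp_d L121267) (flp_c L97345) (flp_d L85302) (flp_c L26726) (flp_d L22337) L46431 L93297 (flp_a L111691)
theorem L121273 : sm ge N12448 = N16695 := rfl
theorem L121275 : sm gc N16695 = N12449 := ded_19_1 (flp_e L97347) L97345 L121273
theorem L121277 : sm gf N12448 = N16696 := rfl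
theorem L121279 : sm gc N16696 = N12450 := ded_20_1 (flp_f L97350) L97345 L121277
theorem L121281 : sm gf N12449 = N16697 := rfl
theorem L121283 : sm ge N16697 = N12450 := ded_25_1 (flp_f L97350) L97347 L121281
theorem L121285 : sm gb N12450 = N16698 := rfl
theorem L121287 : sm gd N16698 = N12451 := ded_14_2 (flp_b L97354) (flp_d L97352) L121285
theorem L121289 : sm gf N16698 = N16698 := ded_16_2 (flp_b L121285) (flp_f L97350) L85304 L97350 L121285
theorem L121290 : sm gg N12450 = N16699 := rfl
theorem L121292 : sm ga N16699 = N16680 := ded_12_1 L121260 L121256 L121290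
theorem L121294 : sm gd N16699 = N12452 := ded_24_1 (flp_g L97359) (flp_d L97352) L121290
theorem L121296 : sm gf N16677 = N16699 := ded_29_0 (flp_g L121290) (flp_f L97350) (flp_g L97313) (flp_a L121198)
theorem L121298 : sm ga N12451 = N16700 := rfl
theorem L121303 : sm gg N12451 = N16701 := rfl
theorem L121305 : sm gc N16701 = N16651 := ded_21_1 (flp_g L121036) (flp_c L97356) L121303
theorem L121307 : sm gb N12452 = N16702 := rfl
theorem L121309 : sm gc N12453 = N16703 := rfl
theorem L121311 : sm ga N16703 = N15280 := ded_8_1 L112060 L97885 L121309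
theorem L121313 : sm gg N16703 = N15278 := ded_21_2 (flp_c L112052) L97891 L121309
theorem L121321 : sm gf N12454 = N16706 := rfl
theorem L121323 : sm ga N16706 = N12459 := ded_11_1 (flp_f L97389) (flp_a L97373) L121321
theorem L121325 : sm gc N16706 = N12455 := ded_20_1 (flp_f L97375) L97371 L121321
theorem L121327 : sm gg N12454 = N16707 := rfl
theorem L121329 : sm ga N16707 = N12460 := ded_12_1 (flp_g L97393) (flp_a L97373) L121327
theorem L121333 : sm ga N12457 = N16708 := rfl
theorem L121335 : sm gc N16708 = N12463 := ded_8_2 (flp_a L97407) (flp_c L97385) L121333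
theorem L121337 : sm gd N12457 = N16709 := rfl
theorem L121341 : sm gf N12457 = N16710 := rfl
theorem L121343 : sm gc N16710 = N12465 := ded_20_1 (flp_f L97413) (flp_c L97385) L121341
theorem L121345 : sm gg N12457 = N16711 := rfl
theorem L121347 : sm gc N16711 = N12466 := ded_21_1 (flp_g L97415) (flp_c L97385) L121345
theorem L121361 : sm gb N12459 = N16716 := rfl
theorem L121363 : sm gg N12459 = N16717 := rfl
theorem L121365 : sm gc N16717 = N12461 := ded_21_1 (flp_g L97397) (flp_c L97391) L121363
theorem L121367 : sm gf N16707 = N16717 := ded_29_0 (flp_g L121363) (flp_f L97389) L97393 (flp_a L121329)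
theorem L121373 : sm gf N12460 = N16719 := rfl
theorem L121375 : sm ga N16719 = N16717 := ded_11_1 (flp_f L121367) L121329 L121373
theorem L121377 : sm gc N16719 = N12462 := ded_20_1 (flp_f L97401) (flp_c L97395) L121373
theorem L121379 : sm gg N16719 = N16706 := ded_29_3 L121323 (flp_f L97389) L97393 L121373
theorem L121381 : sm gb N12463 = N16720 := rfl
theorem L121383 : sm ga N16720 = N16720 := ded_7_1 (flp_b L121381) (flp_a L97407) (flp_b L85325) L26737 L12849 (flp_a L26737) L85325 L97407 L121381
theorem L121384 : sm gd N12463 = N16721 := rfl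
theorem L121386 : sm ga N16721 = N12464 := ded_9_1 (flp_d L97409) L97407 L121384
theorem L121388 : sm gf N12463 = N16722 := rfl
theorem L121390 : sm ga N16722 = N12465 := ded_11_1 (flp_f L97413) L97407 L121388
theorem L121392 : sm gg N12463 = N16723 := rfl
theorem L121394 : sm ga N16723 = N12466 := ded_12_1 (flp_g L97415) L97407 L121392
theorem L121396 : sm gc N12464 = N16724 := rfl
theorem L121398 : sm ge N12464 = N16725 := rfl
theorem L121400 : sm gb N16725 = N12468 := ded_15_1 (flp_e L97427) (flp_b L97411) L121398
theorem L121402 : sm gf N12464 = N16726 := rfl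
theorem L121404 : sm gd N16726 = N12465 := ded_23_1 (flp_f L97413) L97409 L121402
theorem L121406 : sm gg N12464 = N16727 := rfl
theorem L121408 : sm gd N16727 = N12466 := ded_24_1 (flp_g L97415) L97409 L121406
theorem L121410 : sm gb N16727 = N12629 := ded_17_1 (flp_g L98216) L85630 (flp_g L85331) (flp_b L97411) L121406
theorem L121412 : sm gg N12465 = N16728 := rfl
theorem L121414 : sm gf N16723 = N16728 := ded_29_0 (flp_g L121412) (flp_f L97413) L97415 (flp_a L121394)
theorem L121416 : sm gf N12466 = N16729 := rfl
theorem L121418 : sm ga N16729 = N16728 := ded_11_1 (flp_f L121414) L121394 L121416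
theorem L121420 : sm gg N16729 = N16722 := ded_29_3 L121390 (flp_f L97413) L97415 L121416
theorem L121422 : sm gb N12467 = N16730 := rfl
theorem L121426 : sm ge N12467 = N16731 := rfl
theorem L121428 : sm ga N16731 = N12471 := ded_10_1 (flp_e L97445) (flp_a L97421) L121426
theorem L121430 : sm gc N16731 = N12468 := ded_19_1 (flp_e L97427) L97419 L121426
theorem L121432 : sm gg N16731 = N12634 := ded_26_2 (flp_e L98238) (flp_g L97423) L121426
theorem L121434 : sm ga N12469 = N16732 := rfl
theorem L121438 : sm gd N12469 = N16733 := rfl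
theorem L121440 : sm gb N16733 = N12470 := ded_14_1 (flp_d L97437) L97433 L121438
theorem L121442 : sm gg N16733 = N16733 := ded_24_2 (flp_d L121438) L97436 L121438
theorem L121443 : sm ge N12469 = N16734 := rfl
theorem L121445 : sm gb N16734 = N12471 := ded_15_1 (flp_e L97445) L97433 L121443
theorem L121449 : sm gf N12469 = N16735 := rfl
theorem L121452 : sm ge N12470 = N16736 := rfl
theorem L121454 : sm ga N16736 = N15223 := ded_10_1 (flp_e L111777) (flp_a L97439) L121452
theorem L121456 : sm gc N16736 = N15221 := ded_19_1 (flp_e L111769) L97443 L121452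
theorem L121458 : sm gg N16736 = N12645 := ded_26_2 (flp_e L98292) (flp_g L97441) L121452
theorem L121460 : sm gd N12471 = N16737 := rfl
theorem L121462 : sm gg N16737 = N12647 := ded_24_2 (flp_d L98307) (flp_g L97449) L121460
theorem L121464 : sm gf N12471 = N16738 := rfl
theorem L121466 : sm gc N16738 = N12473 := ded_20_1 (flp_f L97455) (flp_c L97447) L121464
theorem L121468 : sm ge N16738 = N12472 := ded_25_1 (flp_f L97451) L97445 L121464
theorem L121470 : sm gb N12472 = N16739 := rfl
theorem L121472 : sm gb N12473 = N16740 := rfl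
theorem L121474 : sm ge N16740 = N12474 := ded_15_2 (flp_b L97459) (flp_e L97457) L121472
theorem L121476 : sm gf N16740 = N16740 := ded_16_2 (flp_b L121472) (flp_f L97455) L85339 L97455 L121472
theorem L121477 : sm ga N12474 = N16741 := rfl
theorem L121479 : sm gd N16741 = N12475 := ded_9_2 (flp_a L97464) (flp_d L97461) L121477
theorem L121482 : sm gc N12474 = N16742 := rfl
theorem L121484 : sm gf N16742 = N16742 := ded_20_2 (flp_c L121482) L97463 L121482
theorem L121485 : sm gg N12474 = N16743 := rfl
theorem L121487 : sm gd N16743 = N12477 := ded_24_1 (flp_g L97472) (flp_d L97461) L121485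
theorem L121489 : sm gb N12475 = N16744 := rfl
theorem L121491 : sm gc N12475 = N16745 := rfl
theorem L121493 : sm ga N16745 = N12476 := ded_8_1 (flp_c L97467) L97464 L121491
theorem L121496 : sm gg N12475 = N16746 := rfl
theorem L121498 : sm ga N16746 = N12477 := ded_12_1 (flp_g L97472) L97464 L121496
theorem L121500 : sm gf N12477 = N16746 := ded_29_0 (flp_g L121496) L97466 L121496 L121498
theorem L121502 : sm gd N12476 = N16747 := rfl
theorem L121504 : sm gb N16747 = N12480 := ded_14_1 (flp_d L97482) (flp_b L97470) L121502
theorem L121506 : sm gf N16747 = N16747 := ded_23_2 (flp_d L121502) L97469 L121502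
theorem L121507 : sm gg N12476 = N16748 := rfl
theorem L121509 : sm gc N16748 = N12477 := ded_21_1 (flp_g L97472) L97467 L121507
theorem L121511 : sm gc N12478 = N16749 := rfl
theorem L121513 : sm gf N12478 = N16750 := rfl
theorem L121515 : sm ga N16750 = N12557 := ded_11_1 (flp_f L111477) L111481 L121513
theorem L121517 : sm gd N16750 = N16601 := ded_23_1 (flp_f L120774) L111809 L121513
theorem L121519 : sm gg N16750 = N12554 := ded_29_3 (flp_a L97821) L97825 L98075 L121513
theorem L121521 : sm gb N16750 = N12484 := ded_16_1 (flp_f L97498) (flp_b L85359) (flp_f L85351) L97474 L121513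
theorem L121523 : sm gb N12479 = N16751 := rfl
theorem L121525 : sm gd N12479 = N16752 := rfl
theorem L121527 : sm ga N16752 = N12480 := ded_9_1 (flp_d L97482) (flp_a L97478) L121525
theorem L121529 : sm gf N16752 = N12486 := ded_23_2 (flp_d L97506) (flp_f L97480) L121525
theorem L121531 : sm gc N12480 = N16753 := rfl
theorem L121533 : sm gf N16753 = N12488 := ded_20_2 (flp_c L97518) (flp_f L97484) L121531
theorem L121535 : sm ge N12480 = N16754 := rfl
theorem L121537 : sm gf N16754 = N12489 := ded_25_2 (flp_e L97520) (flp_f L97484) L121535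
theorem L121539 : sm gg N12480 = N16755 := rfl
theorem L121541 : sm gd N16755 = N12481 := ded_24_1 (flp_g L97486) L97482 L121539
theorem L121543 : sm gb N12481 = N16756 := rfl
theorem L121545 : sm gc N12482 = N16757 := rfl
theorem L121547 : sm ga N16757 = N12483 := ded_8_1 (flp_c L97496) L97490 L121545
theorem L121549 : sm gf N16757 = N15243 := ded_20_2 (flp_c L111873) (flp_f L97492) L121545
theorem L121551 : sm gb N12483 = N16758 := rfl
theorem L121553 : sm gc N16758 = N12485 := ded_13_2 (flp_b L97504) (flp_c L85361) L85359 L97496 L121551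
theorem L121555 : sm gd N12483 = N16759 := rfl
theorem L121557 : sm gf N12483 = N16760 := rfl
theorem L121559 : sm ga N16760 = N15243 := ded_11_1 (flp_f L121549) L121547 L121557
theorem L121561 : sm gc N16760 = N12484 := ded_20_1 (flp_f L97498) L97496 L121557
theorem L121563 : sm gg N16760 = N15255 := ded_29_3 L111946 L111960 (flp_g L111964) L121557
theorem L121565 : sm ga N12485 = N16761 := rfl
theorem L121567 : sm gd N12485 = N16762 := rfl
theorem L121569 : sm gb N16762 = N12486 := ded_14_1 (flp_d L97506) L97504 L121567
theorem L121571 : sm gf N12485 = N16763 := rfl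
theorem L121573 : sm gg N12485 = N16764 := rfl
theorem L121575 : sm gc N12486 = N16765 := rfl
theorem L121577 : sm ga N16765 = N12488 := ded_8_1 (flp_c L97518) (flp_a L97508) L121575
theorem L121579 : sm gd N15238 = N16765 := ded_28_1 (flp_c L121575) (flp_d L97506) (flp_c L85361) (flp_d L46465) L93367 L111835 L111837 L111847
theorem L121581 : sm ge N12486 = N16766 := rfl
theorem L121583 : sm ga N16766 = N12489 := ded_10_1 (flp_e L97520) (flp_a L97508) L121581
theorem L121585 : sm gg N12486 = N16767 := rfl
theorem L121587 : sm ga N16767 = N12490 := ded_12_1 (flp_g L97523) (flp_a L97508) L121585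
theorem L121589 : sm gd N16767 = N12487 := ded_24_1 (flp_g L97510) L97506 L121585
theorem L121591 : sm gf N16767 = N16755 := ded_29_2 (flp_g L121539) (flp_a L121527) L121529 L121585
theorem L121593 : sm gb N12487 = N16768 := rfl
theorem L121595 : sm gb N12488 = N16769 := rfl
theorem L121598 : sm gd N12488 = N16770 := rfl
theorem L121600 : sm ga N16770 = N15238 := ded_9_1 L121579 L121577 L121598
theorem L121602 : sm gc N15236 = N16770 := ded_28_0 (flp_d L121598) (flp_c L97518) (flp_d L85371) (flp_c L26756) (flp_d L22355) L46467 L93383 (flp_a L111837)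
theorem L121604 : sm ge N12488 = N16771 := rfl
theorem L121606 : sm gc N16771 = N12489 := ded_19_1 (flp_e L97520) L97518 L121604
theorem L121608 : sm gg N12488 = N16772 := rfl
theorem L121610 : sm gc N16772 = N12490 := ded_21_1 (flp_g L97523) L97518 L121608
theorem L121612 : sm gg N12489 = N16773 := rfl
theorem L121614 : sm ge N16773 = N12490 := ded_26_1 (flp_g L97523) L97520 L121612
theorem L121616 : sm gb N12490 = N16774 := rfl
theorem L121618 : sm gd N16774 = N12491 := ded_14_2 (flp_b L97527) (flp_d L97525) L121616
theorem L121620 : sm gg N16774 = N16774 := ded_17_2 (flp_b L121616) (flp_g L97523) L85373 L97523 L121616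
theorem L121621 : sm ga N16672 = N16774 := ded_9_3 L121618 (flp_a L120933) L121173
theorem L121623 : sm gf N12490 = N16775 := rfl
theorem L121625 : sm ga N16775 = N16755 := ded_11_1 (flp_f L121591) L121587 L121623
theorem L121627 : sm gd N16775 = N12492 := ded_23_1 (flp_f L97532) (flp_d L97525) L121623
theorem L121629 : sm gg N16775 = N16752 := ded_29_3 L121527 L97484 L97523 L121623
theorem L121631 : sm gf N12491 = N16776 := rfl
theorem L121633 : sm ga N16776 = N16673 := ded_11_1 (flp_f L121178) L120933 L121631
theorem L121635 : sm gc N16776 = N16627 := ded_20_1 (flp_f L120912) (flp_c L97529) L121631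
theorem L121637 : sm gg N16776 = N16673 := ded_29_3 (flp_a L121633) (flp_f L121631) L97531 L121631
theorem L121639 : sm gb N12492 = N16777 := rfl
theorem L121641 : sm gc N12493 = N16778 := rfl
theorem L121643 : sm ga N16778 = N15318 := ded_8_1 L112290 (flp_a L98073) L121641
theorem L121645 : sm gf N16778 = N15316 := ded_20_2 (flp_c L112282) L98071 L121641
theorem L121647 : sm gc N12494 = N16779 := rfl
theorem L121649 : sm ga N16779 = N15148 := ded_8_1 (flp_c L111429) (flp_a L97550) L121647
theorem L121651 : sm gf N16779 = N16548 := ded_20_2 (flp_c L118760) (flp_f L97548) L121647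
theorem L121653 : sm gb N16779 = N15184 := ded_13_1 (flp_c L111617) L111619 L93446 L97544 L121647
theorem L121655 : sm gc N12495 = N16780 := rfl
theorem L121657 : sm gf N16780 = N16633 := ded_20_2 L120963 (flp_f L97919) L121655
theorem L121659 : sm gb N12498 = N16781 := rfl
theorem L121661 : sm gg N16781 = N12504 := ded_17_2 (flp_b L97587) (flp_g L85406) L85396 L97562 L121659
theorem L121663 : sm gf N12498 = N16782 := rfl
theorem L121665 : sm ga N16782 = N14003 := ded_11_1 L120295 L112316 L121663
theorem L121667 : sm gc N16782 = N12520 := ded_20_1 (flp_f L97654) (flp_c L97564) L121663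
theorem L121669 : sm gd N16782 = N13999 := ded_23_1 L105471 L120293 L121663
theorem L121671 : sm gg N16782 = N13997 := ded_29_3 L105445 L119641 L97562 L121663
theorem L121673 : sm gb N16597 = N16782 := ded_13_5 L121667 L120880 L97062 L97064 L120752
theorem L121675 : sm gg N12499 = N16783 := rfl
theorem L121677 : sm gc N16783 = N16783 := ded_21_1 (flp_g L121675) L97568 L121675
theorem L121678 : sm ge N16783 = N12501 := ded_26_1 (flp_g L97574) L97566 L121675
theorem L121680 : sm gb N12501 = N16784 := rfl
theorem L121682 : sm gd N16784 = N12504 := ded_14_2 (flp_b L97587) (flp_d L97577) L121680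
theorem L121684 : sm gf N12501 = N16785 := rfl
theorem L121686 : sm ga N16785 = N13594 := ded_11_1 (flp_f L120287) L111903 L121684
theorem L121688 : sm gc N16785 = N16785 := ded_20_1 (flp_f L121684) L97576 L121684
theorem L121689 : sm gd N16785 = N12505 := ded_23_1 (flp_f L97589) (flp_d L97577) L121684
theorem L121691 : sm gg N16785 = N13591 := ded_29_3 (flp_a L103394) (flp_f L119612) L97574 L121684
theorem L121693 : sm gb N12503 = N16786 := rfl
theorem L121695 : sm gd N16786 = N14027 := ded_14_2 L105561 (flp_d L120283) L121693
theorem L121697 : sm gg N16786 = N14018 := ded_17_2 (flp_b L105523) L89913 (flp_b L119591) L97581 L121693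
theorem L121699 : sm ga N12504 = N16787 := rfl
theorem L121701 : sm gc N12504 = N16788 := rfl
theorem L121703 : sm gb N16788 = N12508 := ded_13_1 (flp_c L97607) (flp_b L85414) (flp_c L85408) L97587 L121701
theorem L121705 : sm gf N12504 = N16789 := rfl
theorem L121707 : sm gb N12505 = N16790 := rfl
theorem L121709 : sm gc N12506 = N16791 := rfl
theorem L121711 : sm ga N16791 = N15213 := ded_8_1 L111733 L97917 L121709
theorem L121713 : sm gf N16791 = N15210 := ded_20_2 (flp_c L111721) L97915 L121709
theorem L121715 : sm gc N12507 = N16792 := rfl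
theorem L121717 : sm ga N16792 = N12508 := ded_8_1 (flp_c L97607) L97599 L121715
theorem L121719 : sm gf N16792 = N15234 := ded_20_2 (flp_c L111829) (flp_f L97605) L121715
theorem L121721 : sm gg N16792 = N12530 := ded_21_2 (flp_c L97704) (flp_g L97603) L121715
theorem L121723 : sm gd N12508 = N16793 := rfl
theorem L121725 : sm gg N16793 = N12532 := ded_24_2 (flp_d L97716) (flp_g L97609) L121723
theorem L121727 : sm gf N12508 = N16794 := rfl
theorem L121729 : sm ga N16794 = N15234 := ded_11_1 (flp_f L121719) L121717 L121727
theorem L121731 : sm gc N16794 = N12509 := ded_20_1 (flp_f L97611) L97607 L121727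
theorem L121733 : sm gc N12510 = N16795 := rfl
theorem L121735 : sm ga N16795 = N12644 := ded_8_1 L98290 (flp_a L98079) L121733
theorem L121737 : sm gg N16795 = N12642 := ded_21_2 (flp_c L98282) L98081 L121733
theorem L121739 : sm gc N12511 = N16796 := rfl
theorem L121741 : sm ga N16796 = N12514 := ded_8_1 (flp_c L97632) (flp_a L97621) L121739
theorem L121743 : sm gb N16796 = N15860 := ded_32_25 (flp_e L114835) (flp_d L95037) (flp_c L84173) (flp_d L24432) L64941 L11745 L11762 L24450 (flp_d L83887) (flp_c L83879) (flp_b L83855) (flp_d L83853) (flp_c L47045) L94048 L113044 L119755 L102170 L89586 (flp_d L88120) (flp_c L119045) (flp_b L92102) (flp_d L75696) (flp_c L27496) (flp_d L13198) (flp_c L6486) (flp_b L3346) L1713 (flp_d L80237) (flp_c L1642) L797 L379 (flp_b L377) (flp_d L356) (flp_c L661) L663 L295 L317 L319 L328 L737 L1552 L3017 L5808 L64929 (flp_d L5808) L3019 (flp_b L3017) L3020 (flp_c L3026) (flp_d L2967) (flp_c L1504) L1496 (flp_e L2894) L2893 L53578 L2893 L53578 (flp_b L2891) L1470 L2900 L5619 L11314 L23493 L23495 (flp_c L22647) L47037 L94012 L94014 L94016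 (flp_c L112940) L112938 (flp_c L112320) (flp_b L119658) L119660 (flp_c L93675) L97619 L121739
theorem L121745 : sm gd N15868 = N16796 := ded_32_6 (flp_c L121739) (flp_d L97619) L93675 (flp_b L93671) L93677 L112320 (flp_d L112938) L112940 (flp_b L94006) L94008 (flp_c L94012) (flp_d L47037) L22647 (flp_b L11326) (flp_d L11318) (flp_c L11314) (flp_d L5619) (flp_c L2900) L2891 L2894 L1498 L65176 (flp_d L1063) L53598 (flp_b L1061) L489 (flp_c L65199) (flp_d L249) (flp_c L556) L1216 (flp_d L2372) L4589 L69504 L8753 L17986 L37611 L71967 (flp_d L37611) L64884 (flp_b L17986) L17989 L69576 (flp_d L9285) (flp_c L4683) L4681 (flp_e L9161) (flp_d L18839) L39701 L89866 L89872 (flp_b L105423) (flp_d L105421) L89864 L89875 (flp_c L119650) (flp_b L97244) (flp_d L121115) L121113 (flp_d L114855) L95052 L95095 L95097 (flp_c L120505) (flp_d L114953) (flp_c L120499) (flp_b L105833) L105835 (flp_c L121082) L121084 (flp_c L114871) L95056 L95067 (flp_d L114840) L114838 L114840 L95070 (flp_b L114876)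
theorem L121747 : sm ge N15857 = N16796 := ded_15_0 L121743 (flp_e L114835) (flp_b L114820)
theorem L121749 : sm ge N12511 = N16797 := rfl
theorem L121751 : sm ga N16797 = N12515 := ded_10_1 (flp_e L97634) (flp_a L97621) L121749
theorem L121753 : sm gb N16797 = N16797 := ded_15_1 (flp_e L121749) L97623 L121749
theorem L121754 : sm gc N16797 = N15857 := ded_19_1 L121747 (flp_c L121739) L121749
theorem L121756 : sm gf N12511 = N16798 := rfl
theorem L121758 : sm ga N16798 = N12516 := ded_11_1 (flp_f L97638) (flp_a L97621) L121756
theorem L121760 : sm gd N16798 = N12512 := ded_23_1 (flp_f L97624) L97619 L121756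
theorem L121762 : sm gg N12511 = N16799 := rfl
theorem L121764 : sm ga N16799 = N12517 := ded_12_1 (flp_g L97642) (flp_a L97621) L121762
theorem L121766 : sm gd N16799 = N12513 := ded_24_1 (flp_g L97628) L97619 L121762
theorem L121768 : sm gb N12513 = N16800 := rfl
theorem L121770 : sm gg N16800 = N16800 := ded_17_2 (flp_b L121768) (flp_g L97628) L85426 L97628 L121768
theorem L121771 : sm gb N12514 = N16801 := rfl
theorem L121773 : sm gc N16801 = N12521 := ded_13_2 (flp_b L97660) (flp_c L85435) (flp_b L85429) L97632 L121771
theorem L121775 : sm ge N16801 = N16536 := ded_32_26 L118703 L107473 L91145 L46351 L46357 L46359 L85176 L97054 L97058 L85210 (flp_d L85208) (flp_c L26691) (flp_d L22315) L46387 (flp_b L91656) (flp_d L97029) L120718 (flp_d L120726) (flp_c L109659) L92160 (flp_d L44414) (flp_c L21313) (flp_d L10237) (flp_c L5171) (flp_b L2679) L1372 (flp_d L1359) L1358 L1359 (flp_c L1180) L2310 (flp_d L4407) (flp_c L69391) L4587 L4683 L64892 L9285 (flp_c L69576) (flp_d L17989) (flp_c L8753) L64765 (flp_d L69504) (flp_c L4589) L2372 L2430 L2432 L2502 L2506 (flp_d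 L1508) (flp_c L711) (flp_b L317) (flp_e L308) L307 (flp_c L681) (flp_d L1436) (flp_c L2791) L5406 L5408 L6354 L12866 L26787 L71009 L85463 (flp_c L85468) (flp_d L46493) (flp_c L22361) L22357 L22359 L26765 L85400 L91643 (flp_b L119622) (flp_d L119627) L85398 L85427 L97632 L121771
theorem L121777 : sm ga N16562 = N16801 := ded_8_3 L121773 L119205 (flp_c L118842)
theorem L121779 : sm gf N16535 = N16801 := ded_20_0 L121773 L119209 (flp_c L118693)
theorem L121781 : sm gd N12514 = N16802 := rfl
theorem L121783 : sm ga N16802 = N15868 := ded_9_1 L121745 L121741 L121781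
theorem L121785 : sm ge N15864 = N16802 := ded_10_0 L121783 (flp_e L114874) (flp_a L114857)
theorem L121787 : sm ge N12514 = N16803 := rfl
theorem L121789 : sm ga N16803 = N15857 := ded_10_1 L121747 L121741 L121787
theorem L121791 : sm gb N16803 = N16536 := ded_15_1 (flp_e L121775) (flp_b L121771) L121787
theorem L121793 : sm gc N16803 = N12515 := ded_19_1 (flp_e L97634) L97632 L121787
theorem L121795 : sm gd N16803 = N15856 := ded_22_1 L114816 L114855 L121785 (flp_d L121781) L121787
theorem L121797 : sm gf N12514 = N16804 := rfl
theorem L121799 : sm gc N16804 = N12516 := ded_20_1 (flp_f L97638) L97632 L121797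
theorem L121801 : sm gg N12514 = N16805 := rfl
theorem L121803 : sm gc N16805 = N12517 := ded_21_1 (flp_g L97642) L97632 L121801
theorem L121805 : sm gf N12515 = N16806 := rfl
theorem L121807 : sm ge N16806 = N12516 := ded_25_1 (flp_f L97638) L97634 L121805
theorem L121809 : sm gg N12515 = N16807 := rfl
theorem L121811 : sm ge N16807 = N12517 := ded_26_1 (flp_g L97642) L97634 L121809
theorem L121813 : sm gg N12516 = N16808 := rfl
theorem L121815 : sm gd N16808 = N12518 := ded_24_1 (flp_g L97646) (flp_d L97640) L121813
theorem L121817 : sm gf N16799 = N16808 := ded_29_0 (flp_g L121813) (flp_f L97638) L97642 (flp_a L121764)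
theorem L121819 : sm gb N12517 = N16809 := rfl
theorem L121821 : sm gd N16809 = N12519 := ded_14_2 (flp_b L97650) (flp_d L97644) L121819
theorem L121823 : sm gg N16809 = N12525 := ded_17_2 (flp_b L97688) (flp_g L85445) (flp_b L85429) L97642 L121819
theorem L121825 : sm gf N12517 = N16810 := rfl
theorem L121827 : sm ga N16810 = N16808 := ded_11_1 (flp_f L121817) L121764 L121825
theorem L121829 : sm gd N16810 = N12520 := ded_23_1 (flp_f L97654) (flp_d L97644) L121825
theorem L121831 : sm gg N16810 = N16798 := ded_29_3 L121758 (flp_f L97638) L97642 L121825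
theorem L121833 : sm gb N16595 = N16810 := ded_14_3 L121829 L120880 (flp_d L120748)
theorem L121835 : sm gb N12518 = N16811 := rfl
theorem L121837 : sm ga N12519 = N16812 := rfl
theorem L121839 : sm gg N16812 = N12526 := ded_12_2 (flp_a L97692) (flp_g L97652) L121837
theorem L121841 : sm gc N12519 = N16813 := rfl
theorem L121843 : sm gg N16813 = N12527 := ded_21_2 (flp_c L97694) (flp_g L97652) L121841
theorem L121845 : sm gg N12522 = N16814 := rfl
theorem L121847 : sm ga N16814 = N12537 := ded_12_1 (flp_g L97740) (flp_a L97666) L121845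
theorem L121849 : sm gc N16814 = N12524 := ded_21_1 (flp_g L97680) (flp_c L97668) L121845
theorem L121851 : sm gd N16814 = N16544 := ded_24_1 (flp_g L118744) (flp_d L119743) L121845
theorem L121853 : sm ge N16814 = N12523 := ded_26_1 (flp_g L97670) L97664 L121845
theorem L121855 : sm gf N16814 = N16574 := ded_29_2 (flp_g L120621) (flp_a L121137) L121143 L121845
theorem L121857 : sm gb N12523 = N16815 := rfl
theorem L121859 : sm gd N16815 = N15265 := ded_14_2 (flp_b L111992) (flp_d L97676) L121857
theorem L121861 : sm gb N12524 = N16816 := rfl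
theorem L121863 : sm ge N16816 = N12525 := ded_15_2 (flp_b L97688) (flp_e L97684) L121861
theorem L121865 : sm ga N12525 = N16817 := rfl
theorem L121867 : sm gd N16817 = N12526 := ded_9_2 (flp_a L97692) (flp_d L97690) L121865
theorem L121869 : sm gc N12525 = N16818 := rfl
theorem L121871 : sm gf N12525 = N16819 := rfl
theorem L121873 : sm gd N16819 = N12528 := ded_23_1 (flp_f L97698) (flp_d L97690) L121871
theorem L121875 : sm gb N16819 = N16671 := ded_16_1 (flp_f L121169) (flp_b L97288) (flp_f L85451) L97688 L121871
theorem L121877 : sm gb N12526 = N16820 := rfl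
theorem L121879 : sm gc N12526 = N16821 := rfl
theorem L121881 : sm ga N16821 = N12527 := ded_8_1 (flp_c L97694) L97692 L121879
theorem L121883 : sm gf N12526 = N16822 := rfl
theorem L121885 : sm ga N16822 = N12528 := ded_11_1 (flp_f L97698) L97692 L121883
theorem L121887 : sm gg N16621 = N16822 := ded_29_1 (flp_f L121883) (flp_g L121839) (flp_a L121837) L120876
theorem L121889 : sm gb N16822 = N16618 := ded_17_1 (flp_g L120860) (flp_b L97122) L97130 L120874 L121887
theorem L121891 : sm gd N12527 = N16823 := rfl
theorem L121893 : sm gb N16823 = N12532 := ded_14_1 (flp_d L97716) (flp_b L97696) L121891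
theorem L121895 : sm gf N12527 = N16824 := rfl
theorem L121897 : sm gc N16824 = N12528 := ded_20_1 (flp_f L97698) L97694 L121895
theorem L121899 : sm gg N12528 = N16825 := rfl
theorem L121901 : sm ga N16825 = N16621 := ded_12_1 L121887 L121885 L121899
theorem L121903 : sm gf N16812 = N16825 := ded_29_0 (flp_g L121899) (flp_f L97698) (flp_g L97652) L121837
theorem L121905 : sm gb N12551 = N16825 := ded_7_0 L121901 (flp_b L120874) L97132 L97147 L120922 (flp_b L85277) (flp_a L26803) L85509 L97811
theorem L121907 : sm gc N12529 = N16826 := rfl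
theorem L121909 : sm gg N16826 = N16553 := ded_21_2 L118782 L98113 L121907
theorem L121911 : sm gb N12530 = N16827 := rfl
theorem L121913 : sm gd N12530 = N16828 := rfl
theorem L121915 : sm ga N16828 = N12532 := ded_9_1 (flp_d L97716) (flp_a L97706) L121913
theorem L121917 : sm gf N12530 = N16829 := rfl
theorem L121919 : sm ga N16829 = N12533 := ded_11_1 (flp_f L97718) (flp_a L97706) L121917
theorem L121921 : sm gc N16829 = N12531 := ded_20_1 (flp_f L97708) L97704 L121917
theorem L121923 : sm gg N16829 = N16794 := ded_29_3 L121729 (flp_f L121719) L121721 L121917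
theorem L121925 : sm gc N12532 = N16830 := rfl
theorem L121927 : sm ge N12532 = N16831 := rfl
theorem L121929 : sm gf N12532 = N16832 := rfl
theorem L121931 : sm gd N16832 = N12533 := ded_23_1 (flp_f L97718) L97716 L121929
theorem L121933 : sm gb N12533 = N16833 := rfl
theorem L121935 : sm gc N16833 = N16681 := ded_13_2 (flp_b L121214) L97317 (flp_b L85461) (flp_c L97720) L121933
theorem L121937 : sm gd N12534 = N16834 := rfl
theorem L121939 : sm ga N16834 = N15263 := ded_9_1 (flp_d L111984) (flp_a L97724) L121937
theorem L121941 : sm gb N16834 = N16834 := ded_14_1 (flp_d L121937) L97726 L121937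
theorem L121942 : sm ge N16834 = N12536 := ded_22_2 (flp_d L97737) (flp_e L85470) L85463 L97722 L121937
theorem L121944 : sm gg N12534 = N16835 := rfl
theorem L121946 : sm ga N16835 = N15264 := ded_12_1 (flp_g L111986) (flp_a L97724) L121944
theorem L121948 : sm gc N16835 = N15249 := ded_21_1 (flp_g L111912) (flp_c L97727) L121944
theorem L121950 : sm ge N16835 = N12535 := ded_26_1 (flp_g L97729) L97722 L121944
theorem L121952 : sm gb N12535 = N16836 := rfl
theorem L121954 : sm gd N16836 = N12538 := ded_14_2 (flp_b L97746) (flp_d L97735) L121952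
theorem L121956 : sm gg N16836 = N16836 := ded_17_2 (flp_b L121952) (flp_g L97729) L85467 L97729 L121952
theorem L121957 : sm gg N12536 = N16837 := rfl
theorem L121959 : sm ga N16837 = N16544 := ded_12_1 (flp_g L118744) (flp_a L120349) L121957
theorem L121961 : sm gd N16837 = N12537 := ded_24_1 (flp_g L97740) L97737 L121957
theorem L121963 : sm gf N16582 = N16837 := ded_29_0 (flp_g L121957) L120613 L120611 L120633
theorem L121965 : sm gb N12537 = N16838 := rfl
theorem L121967 : sm ge N16838 = N12538 := ded_15_2 (flp_b L97746) (flp_e L97744) L121965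
theorem L121969 : sm gg N16838 = N16838 := ded_17_2 (flp_b L121965) (flp_g L97740) L85472 L97740 L121965
theorem L121970 : sm gf N12537 = N16839 := rfl
theorem L121972 : sm ga N16839 = N16574 := ded_11_1 (flp_f L121855) L121847 L121970
theorem L121974 : sm gc N16839 = N12541 := ded_20_1 (flp_f L97763) (flp_c L97742) L121970
theorem L121976 : sm gd N16839 = N16582 := ded_23_1 L121963 L121961 L121970
theorem L121978 : sm ge N16839 = N12539 := ded_25_1 (flp_f L97749) (flp_e L97744) L121970
theorem L121980 : sm gg N16839 = N16666 := ded_29_3 L121137 L97278 L97740 L121970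
theorem L121982 : sm ga N12538 = N16840 := rfl
theorem L121984 : sm gg N16840 = N16840 := ded_12_2 (flp_a L121982) L97748 L121982
theorem L121985 : sm gc N12538 = N16841 := rfl
theorem L121987 : sm gg N16841 = N16841 := ded_21_2 (flp_c L121985) L97748 L121985
theorem L121988 : sm gb N16841 = N12543 := ded_13_1 (flp_c L97777) (flp_b L85483) (flp_c L85477) L97746 L121985
theorem L121990 : sm gd N12728 = N16841 := ded_14_0 L121988 L118179 L98703
theorem L121992 : sm gf N12538 = N16842 := rfl
theorem L121994 : sm gb N12539 = N16843 := rfl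
theorem L121996 : sm ga N12540 = N16844 := rfl
theorem L121998 : sm ge N16844 = N12542 := ded_10_2 (flp_a L97771) (flp_e L97759) L121996
theorem L122000 : sm gg N16844 = N12709 := ded_12_2 (flp_a L98617) (flp_g L97761) L121996
theorem L122002 : sm gc N12540 = N16845 := rfl
theorem L122004 : sm ge N16845 = N12543 := ded_19_2 (flp_c L97777) (flp_e L97759) L122002
theorem L122006 : sm gg N16845 = N12710 := ded_21_2 (flp_c L98621) (flp_g L97761) L122002
theorem L122008 : sm gf N16844 = N16845 := ded_25_0 L122004 L118181 (flp_e L121998)
theorem L122010 : N16566 = N12360 := coi_30_11 (flp_a L118707) L118858 L118856 L118905 (flp_a L121972) (flp_f L121970) L97742 L97757 L121996 L122008 (flp_c L122002) (flp_b L97757) (flp_a L97682) L97686 (flp_c L120625) (flp_b L118905) (flp_a L96997) (flp_f L96995) (flp_c L96969) L118860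
theorem L122011 : N16566 = N12360 := eqc rfl L122010 rfl
theorem L122012 : sm gb N12360 = N12360 := trfs L122011 (flp_b L118860) rfl
theorem L122013 : sm gb N16560 = N16560 := ded_14_3 L118830 L122012 (flp_d L118830)
theorem L122014 : sm gb N16563 = N16563 := ded_15_3 L118850 L122012 (flp_e L118850)
theorem L122015 : N16576 = N12365 := coi_13_5 (flp_b L96990) (flp_c L96969) L122012 L96969 L96990 L118914
theorem L122016 : N16576 = N12365 := eqc rfl L122015 rfl
theorem L122018 : sm gc N12365 = N12365 := trfs L122016 (flp_c L118914) rfl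
theorem L122020 : N16558 = N12356 := coi_17_5 (flp_b L96948) L96967 L122012 (flp_g L96967) L96948 L118810
theorem L122021 : N16558 = N12356 := eqc rfl L122020 rfl
theorem L122025 : sm gg N12356 = N12356 := trfs L122021 (flp_g L118810) rfl
theorem L122026 : sm gb N14378 = N14378 := ded_15_3 (flp_e L118832) L122013 L118832
theorem L122027 : sm gg N16555 = N16555 := ded_17_4 L118789 L118824 L122013 (flp_g L118824) (flp_b L118789)
theorem L122028 : sm gc N16570 = N16570 := ded_13_4 (flp_b L118882) (flp_c L118848) L122014 L118848 L118882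
theorem L122029 : sm gg N16556 = N16556 := ded_17_4 L118803 L118846 L122014 (flp_g L118846) (flp_b L118803)
theorem L122030 : sm gc N16577 = N16577 := ded_20_3 (flp_f L118917) L122018 L118917
theorem L122031 : sm gc N16587 = N16587 := ded_28_4 (flp_d L120654) (flp_c L97018) (flp_d L96992) L120690 L122018 L96992 L97018 L120654
theorem L122033 : sm gg N14375 = N14375 := ded_17_4 (flp_b L107408) L107423 L122026 (flp_g L107423) L107408
theorem L122036 : sm gf N12540 = N16846 := rfl
theorem L122038 : sm ga N16846 = N16845 := ded_11_1 (flp_f L122008) (flp_a L121996) L122036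
theorem L122040 : sm gc N16846 = N16844 := ded_20_1 L122008 (flp_c L122002) L122036
theorem L122042 : sm ge N16846 = N12544 := ded_25_1 (flp_f L97781) (flp_e L97759) L122036
theorem L122044 : sm gb N12541 = N16847 := rfl
theorem L122046 : sm ge N16847 = N12545 := ded_15_2 (flp_b L97785) (flp_e L97767) L122044
theorem L122048 : sm gb N12542 = N16848 := rfl
theorem L122050 : sm gd N16848 = N12546 := ded_14_2 (flp_b L97789) (flp_d L97773) L122048
theorem L122052 : sm gb N12544 = N16849 := rfl
theorem L122054 : sm gd N16849 = N12550 := ded_14_2 (flp_b L97807) (flp_d L97783) L122052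
theorem L122056 : sm gf N16849 = N12545 := ded_16_2 (flp_b L97785) (flp_f L85489) L85483 L97781 L122052
theorem L122058 : sm ga N12545 = N16850 := rfl
theorem L122060 : sm gd N16850 = N12551 := ded_9_2 (flp_a L97811) (flp_d L97787) L122058
theorem L122062 : sm gc N12545 = N16851 := rfl
theorem L122064 : sm gg N12545 = N16852 := rfl
theorem L122066 : sm gd N16852 = N12553 := ded_24_1 (flp_g L97817) (flp_d L97787) L122064
theorem L122068 : sm gb N16852 = N16663 := ded_17_1 (flp_g L121119) L97240 (flp_g L85495) L97785 L122064
theorem L122070 : sm ga N12546 = N16853 := rfl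
theorem L122072 : sm gc N12546 = N16854 := rfl
theorem L122074 : sm gf N12546 = N16855 := rfl
theorem L122076 : sm gg N12546 = N16856 := rfl
theorem L122078 : sm gb N16856 = N12720 := ded_17_1 (flp_g L98667) (flp_b L85818) (flp_g L85499) L97789 L122076
theorem L122080 : sm gb N12547 = N16857 := rfl
theorem L122082 : sm gd N12547 = N16858 := rfl
theorem L122084 : sm ga N16858 = N12548 := ded_9_1 (flp_d L97797) (flp_a L97793) L122082
theorem L122086 : sm gg N16858 = N12722 := ded_24_2 (flp_d L98671) (flp_g L97795) L122082
theorem L122088 : sm gc N12548 = N16859 := rfl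
theorem L122090 : sm gg N16859 = N12724 := ded_21_2 (flp_c L98683) (flp_g L97801) L122088
theorem L122092 : sm gd N16859 = N12549 := ded_28_7 (flp_a L98697) L98699 (flp_d L118179) (flp_c L97777) L85485 L85501 L97797 L122088
theorem L122094 : sm gf N12548 = N16859 := ded_29_2 L122090 (flp_a L118198) (flp_f L98689) (flp_g L97801)
theorem L122096 : sm ge N12548 = N16860 := rfl
theorem L122098 : sm gb N16860 = N12561 := ded_15_1 (flp_e L97843) (flp_b L97799) L122096
theorem L122100 : sm gg N16860 = N12725 := ded_26_2 (flp_e L98685) (flp_g L97801) L122096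
theorem L122102 : sm gb N12549 = N16861 := rfl
theorem L122104 : sm gf N16861 = N12563 := ded_16_2 (flp_b L97851) (flp_f L85523) (flp_b L85505) L97803 L122102
theorem L122106 : sm ga N12550 = N16862 := rfl
theorem L122108 : sm gf N16862 = N12551 := ded_11_2 (flp_a L97811) (flp_f L97809) L122106
theorem L122110 : sm gc N12550 = N16863 := rfl
theorem L122112 : sm gf N16863 = N12552 := ded_20_2 (flp_c L97813) (flp_f L97809) L122110
theorem L122114 : sm gc N12551 = N16864 := rfl
theorem L122116 : sm ga N16864 = N12552 := ded_8_1 (flp_c L97813) L97811 L122114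
theorem L122118 : sm gg N12551 = N16865 := rfl
theorem L122120 : sm ga N16865 = N12553 := ded_12_1 (flp_g L97817) L97811 L122118
theorem L122122 : sm gf N16865 = N16628 := ded_29_2 L120941 L122106 L122108 L122118
theorem L122124 : sm gb N16865 = N16627 := ded_17_1 (flp_g L120914) (flp_b L97700) L121899 (flp_b L121905) L122118
theorem L122126 : sm gd N12552 = N16866 := rfl
theorem L122128 : sm gb N16866 = N12570 := ded_14_1 (flp_d L97921) (flp_b L97815) L122126
theorem L122130 : sm gg N12552 = N16867 := rfl
theorem L122132 : sm gc N16867 = N12553 := ded_21_1 (flp_g L97817) L97813 L122130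
theorem L122134 : sm gf N12553 = N16868 := rfl
theorem L122136 : sm ga N16868 = N16628 := ded_11_1 (flp_f L122122) L122120 L122134
theorem L122138 : sm gg N16868 = N16862 := ded_29_3 (flp_a L122106) L97809 L97817 L122134
theorem L122140 : sm gc N12554 = N16869 := rfl
theorem L122142 : sm ga N16869 = N12555 := ded_8_1 (flp_c L97823) L97821 L122140
theorem L122144 : sm gf N16869 = N15160 := ded_20_2 (flp_c L111483) L98489 L122140
theorem L122146 : sm gb N12555 = N16870 := rfl
theorem L122148 : sm gc N16870 = N12558 := ded_13_2 (flp_b L97831) (flp_c L85513) L85511 L97823 L122146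
theorem L122150 : sm gd N12555 = N16871 := rfl
theorem L122152 : sm gf N12555 = N16872 := rfl
theorem L122154 : sm ga N16872 = N15160 := ded_11_1 (flp_f L122144) L122142 L122152
theorem L122156 : sm gc N16872 = N12556 := ded_20_1 (flp_f L97825) L97823 L122152
theorem L122158 : sm gg N16749 = N16872 := ded_21_0 L122156 L98075 L121511
theorem L122160 : sm gg N12555 = N16873 := rfl
theorem L122162 : sm gc N16873 = N12557 := ded_21_1 (flp_g L97827) L97823 L122160
theorem L122164 : sm ga N12558 = N16874 := rfl
theorem L122166 : sm gd N12558 = N16875 := rfl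
theorem L122168 : sm gb N16875 = N12559 := ded_14_1 (flp_d L97833) L97831 L122166
theorem L122170 : sm gf N12558 = N16876 := rfl
theorem L122172 : sm gg N12558 = N16877 := rfl
theorem L122174 : sm gb N16877 = N12585 := ded_17_1 (flp_g L97997) (flp_b L85547) (flp_g L85517) L97831 L122172
theorem L122176 : sm gc N12559 = N16878 := rfl
theorem L122178 : sm ga N16878 = N12560 := ded_8_1 (flp_c L97839) (flp_a L97835) L122176
theorem L122180 : sm gg N16878 = N12586 := ded_21_2 (flp_c L97999) (flp_g L97837) L122176
theorem L122182 : sm gd N12702 = N16878 := ded_28_1 (flp_c L122176) (flp_d L97833) (flp_c L85513) (flp_d L26921) (flp_c L85770) (flp_d L98563) L98561 (flp_c L98581)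
theorem L122184 : sm ge N12559 = N16879 := rfl
theorem L122186 : sm ga N16879 = N12561 := ded_10_1 (flp_e L97843) (flp_a L97835) L122184
theorem L122188 : sm gg N16879 = N12587 := ded_26_2 (flp_e L98005) (flp_g L97837) L122184
theorem L122190 : sm gb N12560 = N16880 := rfl
theorem L122192 : sm gd N12560 = N16881 := rfl
theorem L122194 : sm ga N16881 = N12702 := ded_9_1 L122182 L122178 L122192
theorem L122196 : sm gg N16881 = N12592 := ded_24_2 (flp_d L98025) (flp_g L97841) L122192
theorem L122198 : sm gc N12697 = N16881 := ded_28_0 (flp_d L122192) (flp_c L97839) (flp_d L85519) (flp_c L26813) (flp_d L12936) (flp_c L26931) (flp_d L85786) (flp_a L98561)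
theorem L122200 : sm ge N12560 = N16882 := rfl
theorem L122202 : sm gc N16882 = N12561 := ded_19_1 (flp_e L97843) L97839 L122200
theorem L122204 : sm gg N16882 = N12593 := ded_26_2 (flp_e L98031) (flp_g L97841) L122200
theorem L122206 : sm gf N12560 = N16883 := rfl
theorem L122208 : sm gc N16883 = N12562 := ded_20_1 (flp_f L97847) L97839 L122206
theorem L122210 : sm gf N12561 = N16884 := rfl
theorem L122212 : sm ge N16884 = N12562 := ded_25_1 (flp_f L97847) L97843 L122210
theorem L122214 : sm gb N12562 = N16885 := rfl
theorem L122216 : sm gd N16885 = N12563 := ded_14_2 (flp_b L97851) (flp_d L97849) L122214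
theorem L122218 : sm ga N12563 = N16886 := rfl
theorem L122220 : sm gc N12563 = N16887 := rfl
theorem L122222 : sm gb N16887 = N12565 := ded_13_1 (flp_c L97857) (flp_b L85527) (flp_c L85525) L97851 L122220
theorem L122224 : sm gg N12563 = N16888 := rfl
theorem L122226 : sm gc N12564 = N16889 := rfl
theorem L122228 : sm ga N16889 = N12565 := ded_8_1 (flp_c L97857) L97853 L122226
theorem L122230 : sm gf N16889 = N12568 := ded_20_2 (flp_c L97865) (flp_f L97855) L122226
theorem L122232 : sm gd N12565 = N16890 := rfl
theorem L122234 : sm gf N16890 = N12570 := ded_23_2 (flp_d L97921) (flp_f L97859) L122232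
theorem L122236 : sm gg N12565 = N16891 := rfl
theorem L122238 : sm gc N16891 = N12566 := ded_21_1 (flp_g L97861) L97857 L122236
theorem L122240 : sm gb N12568 = N16892 := rfl
theorem L122242 : sm gd N12568 = N16893 := rfl
theorem L122244 : sm ga N16893 = N12570 := ded_9_1 (flp_d L97921) (flp_a L97867) L122242
theorem L122246 : sm gg N12568 = N16894 := rfl
theorem L122248 : sm ga N16894 = N12571 := ded_12_1 (flp_g L97923) (flp_a L97867) L122246
theorem L122250 : sm gc N16894 = N12569 := ded_21_1 (flp_g L97869) L97865 L122246
theorem L122252 : sm gf N16894 = N16891 := ded_29_2 (flp_g L122236) (flp_a L122228) L122230 L122246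
theorem L122254 : sm gc N12570 = N16895 := rfl
theorem L122256 : sm ge N12570 = N16896 := rfl
theorem L122258 : sm gg N12570 = N16897 := rfl
theorem L122260 : sm gd N16897 = N12571 := ded_24_1 (flp_g L97923) L97921 L122258
theorem L122262 : sm gb N12571 = N16898 := rfl
theorem L122264 : sm gc N16898 = N16655 := ded_13_2 (flp_b L121056) L97220 (flp_b L85537) (flp_c L97925) L122262
theorem L122266 : sm gf N12571 = N16899 := rfl
theorem L122268 : sm ga N16899 = N16891 := ded_11_1 (flp_f L122252) L122248 L122266
theorem L122270 : sm gc N16899 = N12572 := ded_20_1 (flp_f L97927) (flp_c L97925) L122266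
theorem L122272 : sm gg N16899 = N16889 := ded_29_3 L122228 L97859 L97923 L122266
theorem L122274 : sm gb N12573 = N16900 := rfl
theorem L122276 : sm gd N12573 = N16901 := rfl
theorem L122278 : sm ga N16901 = N12577 := ded_9_1 (flp_d L97949) (flp_a L97935) L122276
theorem L122280 : sm gf N12573 = N16902 := rfl
theorem L122282 : sm ga N16902 = N12578 := ded_11_1 (flp_f L97951) (flp_a L97935) L122280
theorem L122284 : sm gc N16902 = N12574 := ded_20_1 (flp_f L97937) L97933 L122280
theorem L122286 : sm gg N12573 = N16903 := rfl
theorem L122288 : sm ga N16903 = N12579 := ded_12_1 (flp_g L97955) (flp_a L97935) L122286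
theorem L122290 : sm gc N16903 = N12575 := ded_21_1 (flp_g L97941) L97933 L122286
theorem L122292 : sm gf N16903 = N16642 := ded_29_2 L120997 (flp_a L122282) (flp_f L122280) L122286
theorem L122294 : sm ga N12576 = N16904 := rfl
theorem L122296 : sm gc N16904 = N12582 := ded_8_2 (flp_a L97989) (flp_c L97947) L122294
theorem L122298 : sm gd N12576 = N16905 := rfl
theorem L122300 : sm gb N16905 = N12577 := ded_14_1 (flp_d L97949) L97945 L122298
theorem L122302 : sm gf N12576 = N16906 := rfl
theorem L122304 : sm gc N16906 = N12584 := ded_20_1 (flp_f L97995) (flp_c L97947) L122302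
theorem L122306 : sm gg N12576 = N16907 := rfl
theorem L122308 : sm gc N16907 = N12585 := ded_21_1 (flp_g L97997) (flp_c L97947) L122306
theorem L122310 : sm gc N12577 = N16908 := rfl
theorem L122312 : sm ge N12577 = N16909 := rfl
theorem L122314 : sm gf N12577 = N16910 := rfl
theorem L122316 : sm gd N16910 = N12578 := ded_23_1 (flp_f L97951) L97949 L122314
theorem L122318 : sm gg N12577 = N16911 := rfl
theorem L122320 : sm gd N16911 = N12579 := ded_24_1 (flp_g L97955) L97949 L122318
theorem L122322 : sm gb N12578 = N16912 := rfl
theorem L122324 : sm gb N12579 = N16913 := rfl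
theorem L122326 : sm gf N12579 = N16914 := rfl
theorem L122328 : sm ga N16914 = N16642 := ded_11_1 (flp_f L122292) L122288 L122326
theorem L122330 : sm gc N16914 = N12581 := ded_20_1 (flp_f L97977) (flp_c L97957) L122326
theorem L122332 : sm gg N16914 = N16902 := ded_29_3 L122282 (flp_f L97951) L97955 L122326
theorem L122334 : sm gc N12580 = N16915 := rfl
theorem L122336 : sm gf N16915 = N12590 := ded_20_2 (flp_c L98019) (flp_f L97961) L122334
theorem L122338 : sm gg N16915 = N16609 := ded_21_2 (flp_c L120806) L97963 L122334
theorem L122340 : sm gb N12582 = N16916 := rfl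
theorem L122342 : sm ga N16916 = N12737 := ded_7_1 (flp_b L98742) (flp_a L85870) (flp_b L27083) L13005 (flp_b L12888) (flp_a L26825) L85547 L97989 L122340
theorem L122344 : sm gd N12582 = N16917 := rfl
theorem L122346 : sm ga N16917 = N12583 := ded_9_1 (flp_d L97991) L97989 L122344
theorem L122348 : sm gf N12582 = N16918 := rfl
theorem L122350 : sm ga N16918 = N12584 := ded_11_1 (flp_f L97995) L97989 L122348
theorem L122352 : sm gg N12582 = N16919 := rfl
theorem L122354 : sm ga N16919 = N12585 := ded_12_1 (flp_g L97997) L97989 L122352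
theorem L122356 : sm gc N12583 = N16920 := rfl
theorem L122358 : sm ge N12583 = N16921 := rfl
theorem L122360 : sm gb N16921 = N12587 := ded_15_1 (flp_e L98005) (flp_b L97993) L122358
theorem L122362 : sm gf N12583 = N16922 := rfl
theorem L122364 : sm gd N16922 = N12584 := ded_23_1 (flp_f L97995) L97991 L122362
theorem L122366 : sm gg N12583 = N16923 := rfl
theorem L122368 : sm gd N16923 = N12585 := ded_24_1 (flp_g L97997) L97991 L122366
theorem L122370 : sm gb N12584 = N16924 := rfl
theorem L122372 : sm gf N16924 = N12589 := ded_16_2 (flp_b L98017) (flp_f L85553) L85547 L97995 L122370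
theorem L122374 : sm gg N12584 = N16925 := rfl
theorem L122376 : sm gf N16919 = N16925 := ded_29_0 (flp_g L122374) (flp_f L97995) L97997 (flp_a L122354)
theorem L122378 : sm gf N12585 = N16926 := rfl
theorem L122380 : sm ga N16926 = N16925 := ded_11_1 (flp_f L122376) L122354 L122378
theorem L122382 : sm gg N16926 = N16918 := ded_29_3 L122350 (flp_f L97995) L97997 L122378
theorem L122384 : sm gb N12586 = N16927 := rfl
theorem L122386 : sm gd N16927 = N12700 := ded_14_2 (flp_b L98571) L98003 L122384
theorem L122388 : sm ge N12586 = N16928 := rfl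
theorem L122390 : sm ga N16928 = N12593 := ded_10_1 (flp_e L98031) (flp_a L98001) L122388
theorem L122392 : sm gc N16928 = N12587 := ded_19_1 (flp_e L98005) L97999 L122388
theorem L122394 : sm gf N12586 = N16929 := rfl
theorem L122396 : sm ga N16929 = N12594 := ded_11_1 (flp_f L98035) (flp_a L98001) L122394
theorem L122398 : sm gc N16929 = N12588 := ded_20_1 (flp_f L98009) L97999 L122394
theorem L122400 : sm gd N16929 = N12671 := ded_23_1 L98421 L98003 L122394
theorem L122402 : sm gg N16883 = N16929 := ded_29_1 (flp_f L122394) (flp_g L122180) L122178 L122206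
theorem L122404 : sm gf N12587 = N16930 := rfl
theorem L122406 : sm ga N16930 = N12595 := ded_11_1 (flp_f L98039) (flp_a L98007) L122404
theorem L122408 : sm ge N16930 = N12588 := ded_25_1 (flp_f L98009) L98005 L122404
theorem L122410 : sm gg N16884 = N16930 := ded_29_1 (flp_f L122404) (flp_g L122188) L122186 L122210
theorem L122412 : sm gc N12589 = N16931 := rfl
theorem L122414 : sm gb N16931 = N12590 := ded_13_1 (flp_c L98019) (flp_b L85561) (flp_c L85557) L98017 L122412
theorem L122416 : sm gg N12589 = N16932 := rfl
theorem L122418 : sm gb N16932 = N16888 := ded_17_1 (flp_g L122224) (flp_b L97851) L85559 L98017 L122416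
theorem L122420 : sm gd N12590 = N16933 := rfl
theorem L122422 : sm ga N12591 = N16934 := rfl
theorem L122424 : sm gc N16934 = N12747 := ded_8_2 (flp_a L98782) (flp_c L98023) L122422
theorem L122426 : sm gd N12591 = N16935 := rfl
theorem L122428 : sm gb N16935 = N12592 := ded_14_1 (flp_d L98025) L98021 L122426
theorem L122430 : sm ge N12591 = N16936 := rfl
theorem L122432 : sm gb N16936 = N12593 := ded_15_1 (flp_e L98031) L98021 L122430
theorem L122434 : sm gc N16936 = N12748 := ded_19_1 (flp_e L98784) (flp_c L98023) L122430
theorem L122436 : sm gf N12591 = N16937 := rfl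
theorem L122438 : sm gc N16937 = N12749 := ded_20_1 (flp_f L98788) (flp_c L98023) L122436
theorem L122440 : sm gg N12591 = N16938 := rfl
theorem L122442 : sm gc N16938 = N12750 := ded_21_1 (flp_g L98790) (flp_c L98023) L122440
theorem L122444 : sm ge N12592 = N16939 := rfl
theorem L122446 : sm ga N16939 = N12701 := ded_10_1 (flp_e L98575) (flp_a L98027) L122444
theorem L122448 : sm gc N16939 = N12696 := ded_19_1 (flp_e L98555) L98029 L122444
theorem L122450 : sm gf N12592 = N16940 := rfl
theorem L122452 : sm ga N16940 = N12671 := ded_11_1 L98421 (flp_a L98027) L122450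
theorem L122454 : sm gc N16940 = N12670 := ded_20_1 L98417 L98029 L122450
theorem L122456 : sm gd N16940 = N12594 := ded_23_1 (flp_f L98035) L98025 L122450
theorem L122458 : sm gd N12593 = N16941 := rfl
theorem L122460 : sm gf N12593 = N16942 := rfl
theorem L122462 : sm gc N16942 = N12595 := ded_20_1 (flp_f L98039) (flp_c L98033) L122460
theorem L122464 : sm ge N16942 = N12594 := ded_25_1 (flp_f L98035) L98031 L122460
theorem L122466 : sm gb N12594 = N16943 := rfl
theorem L122468 : sm gg N12594 = N16944 := rfl
theorem L122470 : sm ga N16944 = N16883 := ded_12_1 L122402 L122396 L122468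
theorem L122472 : sm gc N16944 = N12596 := ded_21_1 (flp_g L98043) (flp_c L98037) L122468
theorem L122474 : sm gf N16878 = N16944 := ded_29_0 (flp_g L122468) (flp_f L98035) (flp_g L97841) (flp_a L122178)
theorem L122476 : sm gg N12595 = N16945 := rfl
theorem L122478 : sm ga N16945 = N16884 := ded_12_1 L122410 L122406 L122476
theorem L122480 : sm ge N16945 = N12596 := ded_26_1 (flp_g L98043) (flp_e L98041) L122476
theorem L122482 : sm gf N16879 = N16945 := ded_29_0 (flp_g L122476) (flp_f L98039) (flp_g L97845) (flp_a L122186)
theorem L122484 : sm gb N12596 = N16946 := rfl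
theorem L122486 : sm gd N16946 = N12597 := ded_14_2 (flp_b L98051) (flp_d L98047) L122484
theorem L122488 : sm ga N12597 = N16947 := rfl
theorem L122490 : sm gc N12597 = N16948 := rfl
theorem L122492 : sm gb N16948 = N12599 := ded_13_1 (flp_c L98057) (flp_b L85581) (flp_c L85577) L98051 L122490
theorem L122494 : sm gf N12597 = N16949 := rfl
theorem L122496 : sm gb N16949 = N16876 := ded_16_1 (flp_f L122170) (flp_b L97831) L85579 L98051 L122494
theorem L122498 : sm gc N12598 = N16950 := rfl
theorem L122500 : sm ga N16950 = N12599 := ded_8_1 (flp_c L98057) L98053 L122498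
theorem L122502 : sm gg N16950 = N15316 := ded_21_2 (flp_c L112282) (flp_g L98055) L122498
theorem L122504 : sm gd N12599 = N16951 := rfl
theorem L122506 : sm gg N16951 = N15317 := ded_24_2 (flp_d L112286) (flp_g L98059) L122504
theorem L122508 : sm gf N12599 = N16952 := rfl
theorem L122510 : sm gc N16952 = N12600 := ded_20_1 (flp_f L98061) L98057 L122508
theorem L122512 : sm gg N16952 = N16778 := ded_29_3 L121643 (flp_f L112288) (flp_g L98059) L122508
theorem L122514 : sm gc N12605 = N16953 := rfl
theorem L122516 : sm ga N16953 = N15153 := ded_8_1 (flp_c L111515) L111513 L122514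
theorem L122518 : sm gg N16953 = N15152 := ded_21_2 L111455 (flp_g L98115) L122514
theorem L122520 : sm gb N16953 = N14785 := ded_13_1 L112137 (flp_b L112107) L102076 L98101 L122514
theorem L122522 : sm gc N12606 = N16954 := rfl
theorem L122524 : sm ga N16954 = N15150 := ded_8_1 (flp_c L111441) (flp_a L98111) L122522
theorem L122526 : sm gf N16954 = N16826 := ded_20_2 (flp_c L121907) (flp_f L98107) L122522
theorem L122528 : sm gg N16954 = N16551 := ded_21_2 (flp_c L118772) (flp_g L98109) L122522
theorem L122533 : sm ge N12608 = N16956 := rfl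
theorem L122535 : sm gb N16956 = N12612 := ded_15_1 (flp_e L98135) (flp_b L98123) L122533
theorem L122537 : sm gf N12608 = N16957 := rfl
theorem L122539 : sm gd N16957 = N12609 := ded_23_1 (flp_f L98125) L98121 L122537
theorem L122545 : sm gb N12609 = N16959 := rfl
theorem L122547 : sm gf N16959 = N12615 := ded_16_2 (flp_b L98145) (flp_f L85603) L85597 L98125 L122545
theorem L122549 : sm gg N12609 = N16960 := rfl
theorem L122551 : sm gc N16960 = N12631 := ded_21_1 (flp_g L98224) (flp_c L98127) L122549
theorem L122553 : sm gf N15380 = N16960 := ded_29_0 (flp_g L122549) (flp_f L98125) L98129 (flp_a L112560)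
theorem L122559 : sm gf N12610 = N16962 := rfl
theorem L122561 : sm ga N16962 = N16960 := ded_11_1 (flp_f L122553) L112560 L122559
theorem L122563 : sm gc N16962 = N12632 := ded_20_1 (flp_f L98228) (flp_c L98131) L122559
theorem L122565 : sm gg N16962 = N15379 := ded_29_3 L112554 (flp_f L98125) L98129 L122559
theorem L122567 : sm gf N12612 = N16963 := rfl
theorem L122569 : sm gc N16963 = N16963 := ded_20_1 (flp_f L122567) L102103 L122567
theorem L122570 : sm ge N16963 = N12613 := ded_25_1 (flp_f L98137) L98135 L122567
theorem L122572 : sm gg N12612 = N16964 := rfl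
theorem L122575 : sm ge N16964 = N12614 := ded_26_1 (flp_g L98141) L98135 L122572
theorem L122577 : sm gb N12613 = N16965 := rfl
theorem L122579 : sm gd N16965 = N12615 := ded_14_2 (flp_b L98145) (flp_d L98139) L122577
theorem L122581 : sm gg N12613 = N16966 := rfl
theorem L122583 : sm gc N16966 = N16966 := ded_21_1 (flp_g L122581) L102093 L122581
theorem L122584 : sm gd N16966 = N12616 := ded_24_1 (flp_g L98147) (flp_d L98139) L122581
theorem L122586 : sm gf N15286 = N16966 := ded_29_0 (flp_g L122581) (flp_f L98137) L98141 (flp_a L112102)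
theorem L122592 : sm gf N12614 = N16968 := rfl
theorem L122594 : sm ga N16968 = N16966 := ded_11_1 (flp_f L122586) L112102 L122592
theorem L122597 : sm gd N16968 = N12618 := ded_23_1 (flp_f L98155) (flp_d L98143) L122592
theorem L122599 : sm gg N16968 = N15285 := ded_29_3 L112095 (flp_f L98137) L98141 L122592
theorem L122601 : sm ga N12615 = N16969 := rfl
theorem L122603 : sm gc N12615 = N16970 := rfl
theorem L122605 : sm gb N16970 = N12620 := ded_13_1 (flp_c L98171) (flp_b L85611) (flp_c L85605) L98145 L122603
theorem L122607 : sm gg N12615 = N16971 := rfl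
theorem L122609 : sm gb N12616 = N16972 := rfl
theorem L122615 : sm gb N12618 = N16975 := rfl
theorem L122617 : sm gc N12619 = N16976 := rfl
theorem L122619 : sm ga N16976 = N12620 := ded_8_1 (flp_c L98171) L98163 L122617
theorem L122621 : sm gf N16976 = N12642 := ded_20_2 (flp_c L98282) (flp_f L98167) L122617
theorem L122623 : sm gg N16976 = N15201 := ded_21_2 (flp_c L111683) L98169 L122617
theorem L122625 : sm gd N12620 = N16977 := rfl
theorem L122627 : sm gf N16977 = N12643 := ded_23_2 (flp_d L98286) (flp_f L98173) L122625
theorem L122629 : sm gg N12620 = N16978 := rfl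
theorem L122631 : sm ga N16978 = N15201 := ded_12_1 (flp_g L122623) L122619 L122629
theorem L122633 : sm gc N16978 = N12621 := ded_21_1 (flp_g L98175) L98171 L122629
theorem L122635 : sm gf N16795 = N16978 := ded_29_0 (flp_g L122629) L98173 L98288 (flp_a L121735)
theorem L122637 : sm gc N12622 = N16979 := rfl
theorem L122639 : sm ga N16979 = N15181 := ded_8_1 L111585 (flp_a L98191) L122637
theorem L122641 : sm gg N16979 = N15177 := ded_21_2 (flp_c L111567) (flp_g L98189) L122637
theorem L122643 : sm gc N12623 = N16980 := rfl
theorem L122645 : sm ga N16980 = N12626 := ded_8_1 (flp_c L98206) (flp_a L98195) L122643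
theorem L122647 : sm gd N15903 = N16980 := ded_32_1 (flp_c L122643) (flp_d L98193) (flp_c L102101) (flp_b L93795) L93797 L112564 (flp_d L113366) L113368 (flp_b L94257) L94259 (flp_c L94263) (flp_d L47376) L22824 (flp_b L11408) (flp_d L11400) (flp_c L11396) (flp_d L5659) (flp_c L2934) L2925 L2927 L77155 L2927 L77155 (flp_b L2925) L1485 L719 L65308 (flp_d L586) L1287 (flp_b L2442) L4733 (flp_c L82581) (flp_d L8791) (flp_c L4491) (flp_b L2320) (flp_d L2292) (flp_c L4363) L4365 L2280 L74921 (flp_d L2603) L2602 L2603 (flp_c L2280) L4389 (flp_d L8539) L78774 L9059 L78716 (flp_b L4721) (flp_e L4665) (flp_d L9147) L18889 L39811 L40239 (flp_b L90235) (flp_d L90233) L40233 (flp_d L65450) (flp_c L84236) (flp_b L84234) L84238 L84242 (flp_d L84238) (flp_c L24643) L11847 (flp_d L5879) L3060 L1577 (flp_c L3060) (flp_b L5856) L11845 L24643 L84238 L84242 (flp_b L95150) L115047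
theorem L122649 : sm gb N16980 = N15895 := ded_14_1 L115013 (flp_b L115049) L122647
theorem L122651 : sm ge N16980 = N15892 := ded_22_2 (flp_d L114991) L95127 L95148 L115047 L122647
theorem L122653 : sm ge N12623 = N16981 := rfl
theorem L122655 : sm ga N16981 = N12627 := ded_10_1 (flp_e L98208) (flp_a L98195) L122653
theorem L122657 : sm gb N16981 = N16981 := ded_15_1 (flp_e L122653) L98197 L122653
theorem L122658 : sm gc N16981 = N15892 := ded_19_1 (flp_e L122651) (flp_c L122643) L122653
theorem L122660 : sm gf N12623 = N16982 := rfl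
theorem L122662 : sm ga N16982 = N12628 := ded_11_1 (flp_f L98212) (flp_a L98195) L122660
theorem L122664 : sm gd N16982 = N12624 := ded_23_1 (flp_f L98198) L98193 L122660
theorem L122666 : sm gg N12623 = N16983 := rfl
theorem L122668 : sm ga N16983 = N12629 := ded_12_1 (flp_g L98216) (flp_a L98195) L122666
theorem L122670 : sm gd N16983 = N12625 := ded_24_1 (flp_g L98202) L98193 L122666
theorem L122672 : sm gb N12624 = N16984 := rfl
theorem L122674 : sm gf N16984 = N16984 := ded_16_2 (flp_b L122672) (flp_f L98198) L85627 L98198 L122672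
theorem L122675 : sm gb N12625 = N16985 := rfl
theorem L122677 : sm gg N16985 = N16985 := ded_17_2 (flp_b L122675) (flp_g L98202) L85627 L98202 L122675
theorem L122678 : sm gb N12626 = N16986 := rfl
theorem L122680 : sm gc N16986 = N12633 := ded_13_2 (flp_b L98234) (flp_c L85636) (flp_b L85630) L98206 L122678
theorem L122682 : sm gd N12626 = N16987 := rfl
theorem L122684 : sm ga N16987 = N15903 := ded_9_1 L122647 L122645 L122682
theorem L122686 : sm ge N15899 = N16987 := ded_10_0 L122684 (flp_e L115047) (flp_a L115030)
theorem L122688 : sm ge N12626 = N16988 := rfl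
theorem L122690 : sm ga N16988 = N15892 := ded_10_1 (flp_e L122651) L122645 L122688
theorem L122692 : sm gc N16988 = N12627 := ded_19_1 (flp_e L98208) L98206 L122688
theorem L122694 : sm gd N16988 = N15891 := ded_22_1 L114989 L115028 L122686 (flp_d L122682) L122688
theorem L122696 : sm gf N12626 = N16989 := rfl
theorem L122698 : sm gc N16989 = N12628 := ded_20_1 (flp_f L98212) L98206 L122696
theorem L122700 : sm gg N12626 = N16990 := rfl
theorem L122702 : sm gc N16990 = N12629 := ded_21_1 (flp_g L98216) L98206 L122700
theorem L122704 : sm gf N12627 = N16991 := rfl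
theorem L122706 : sm ge N16991 = N12628 := ded_25_1 (flp_f L98212) L98208 L122704
theorem L122708 : sm gg N12627 = N16992 := rfl
theorem L122710 : sm ge N16992 = N12629 := ded_26_1 (flp_g L98216) L98208 L122708
theorem L122712 : sm gb N12628 = N16993 := rfl
theorem L122714 : sm gd N16993 = N12630 := ded_14_2 (flp_b L98220) (flp_d L98214) L122712
theorem L122716 : sm gf N16993 = N12637 := ded_16_2 (flp_b L98262) (flp_f L85646) (flp_b L85630) L98212 L122712
theorem L122718 : sm gg N12628 = N16994 := rfl
theorem L122720 : sm gd N16994 = N12631 := ded_24_1 (flp_g L98224) (flp_d L98214) L122718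
theorem L122722 : sm gf N16983 = N16994 := ded_29_0 (flp_g L122718) (flp_f L98212) L98216 (flp_a L122668)
theorem L122724 : sm gf N12629 = N16995 := rfl
theorem L122726 : sm ga N16995 = N16994 := ded_11_1 (flp_f L122722) L122668 L122724
theorem L122728 : sm gd N16995 = N12632 := ded_23_1 (flp_f L98228) (flp_d L98218) L122724
theorem L122730 : sm gg N16995 = N16982 := ded_29_3 L122662 (flp_f L98212) L98216 L122724
theorem L122732 : sm ga N12630 = N16996 := rfl
theorem L122734 : sm gf N16996 = N12638 := ded_11_2 (flp_a L98266) (flp_f L98222) L122732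
theorem L122736 : sm gc N12630 = N16997 := rfl
theorem L122738 : sm gf N16997 = N12639 := ded_20_2 (flp_c L98268) (flp_f L98222) L122736
theorem L122740 : sm gg N12630 = N16998 := rfl
theorem L122742 : sm gb N12631 = N16999 := rfl
theorem L122744 : sm gb N12632 = N17000 := rfl
theorem L122746 : sm ga N12633 = N17001 := rfl
theorem L122750 : sm ge N12633 = N17002 := rfl
theorem L122752 : sm gb N17002 = N12634 := ded_15_1 (flp_e L98238) L98234 L122750
theorem L122754 : sm gf N12633 = N17003 := rfl
theorem L122762 : sm gd N12634 = N17005 := rfl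
theorem L122764 : sm ga N17005 = N12647 := ded_9_1 (flp_d L98307) (flp_a L98240) L122762
theorem L122766 : sm ge N17005 = N15301 := ded_22_2 (flp_d L112214) (flp_e L93625) L85640 L98238 L122762
theorem L122768 : sm gf N12634 = N17006 := rfl
theorem L122770 : sm ga N17006 = N12648 := ded_11_1 (flp_f L98310) (flp_a L98240) L122768
theorem L122772 : sm gc N17006 = N12636 := ded_20_1 (flp_f L98254) (flp_c L98242) L122768
theorem L122774 : sm ge N17006 = N12635 := ded_25_1 (flp_f L98244) L98238 L122768
theorem L122776 : sm gg N16738 = N17006 := ded_29_1 (flp_f L122768) (flp_g L121432) L121428 L121464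
theorem L122778 : sm gb N12635 = N17007 := rfl
theorem L122782 : sm gb N12636 = N17008 := rfl
theorem L122784 : sm ge N17008 = N12637 := ded_15_2 (flp_b L98262) (flp_e L98258) L122782
theorem L122786 : sm ga N12637 = N17009 := rfl
theorem L122788 : sm gd N17009 = N12638 := ded_9_2 (flp_a L98266) (flp_d L98264) L122786
theorem L122790 : sm gc N12637 = N17010 := rfl
theorem L122792 : sm gg N12637 = N17011 := rfl
theorem L122794 : sm gd N17011 = N12640 := ded_24_1 (flp_g L98272) (flp_d L98264) L122792
theorem L122796 : sm gb N17011 = N16743 := ded_17_1 (flp_g L121485) (flp_b L97459) L85652 L98262 L122792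
theorem L122798 : sm gb N12638 = N17012 := rfl
theorem L122800 : sm gc N12638 = N17013 := rfl
theorem L122802 : sm ga N17013 = N12639 := ded_8_1 (flp_c L98268) L98266 L122800
theorem L122804 : sm gg N12638 = N17014 := rfl
theorem L122806 : sm ga N17014 = N12640 := ded_12_1 (flp_g L98272) L98266 L122804
theorem L122808 : sm gf N17014 = N16998 := ded_29_2 (flp_g L122740) L122732 L122734 L122804
theorem L122810 : sm gd N12639 = N17015 := rfl
theorem L122812 : sm gb N17015 = N12643 := ded_14_1 (flp_d L98286) (flp_b L98270) L122810
theorem L122814 : sm gg N12639 = N17016 := rfl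
theorem L122816 : sm gc N17016 = N12640 := ded_21_1 (flp_g L98272) L98268 L122814
theorem L122818 : sm gf N12640 = N17017 := rfl
theorem L122820 : sm ga N17017 = N16998 := ded_11_1 (flp_f L122808) L122806 L122818
theorem L122822 : sm gg N17017 = N16996 := ded_29_3 (flp_a L122732) L98222 L98272 L122818
theorem L122824 : sm gc N12641 = N17018 := rfl
theorem L122826 : sm gf N17018 = N16550 := ded_20_2 L118770 L98280 L122824
theorem L122828 : sm gg N17018 = N16779 := ded_21_2 (flp_c L121647) (flp_g L98278) L122824
theorem L122830 : sm gb N12642 = N17019 := rfl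
theorem L122832 : sm ga N17019 = N16906 := ded_30_3 (flp_f L122302) L97947 (flp_b L85547) L26825 L26837 L26839 L12892 (flp_a L22399) (flp_f L22397) L22393 L46551 (flp_a L102086) L85603 L85605 L85611 L98163 L98167 L98282 L122830
theorem L122834 : sm gc N16918 = N17019 := ded_30_1 (flp_b L122830) L98284 (flp_f L98173) (flp_c L98171) (flp_b L85611) (flp_a L85591) (flp_f L85589) (flp_c L102054) (flp_b L46551) L22395 L22409 L22411 (flp_b L12892) (flp_a L26829) (flp_f L26827) L26823 L85547 L97989 L122348
theorem L122836 : sm gb N17018 = N16918 := ded_13_5 L122834 (flp_b L122830) (flp_c L98282) L98276 L122824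
theorem L122838 : sm gf N16904 = N17019 := ded_11_0 L122832 (flp_f L122302) L122294
theorem L122840 : sm gd N12642 = N17020 := rfl
theorem L122842 : sm ga N17020 = N12643 := ded_9_1 (flp_d L98286) (flp_a L98284) L122840
theorem L122844 : sm gc N12643 = N17021 := rfl
theorem L122846 : sm ge N12643 = N17022 := rfl
theorem L122848 : sm gg N12643 = N17023 := rfl
theorem L122850 : sm gd N17023 = N12644 := ded_24_1 (flp_g L98288) L98286 L122848
theorem L122852 : sm gb N12644 = N17024 := rfl
theorem L122854 : sm gc N17024 = N16756 := ded_13_2 (flp_b L121543) L97488 (flp_b L85662) (flp_c L98290) L122852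
theorem L122856 : sm gd N12645 = N17025 := rfl
theorem L122858 : sm ga N17025 = N15301 := ded_9_1 (flp_d L112214) (flp_a L98294) L122856
theorem L122860 : sm gb N17025 = N17025 := ded_14_1 (flp_d L122856) L98296 L122856
theorem L122861 : sm ge N17025 = N12647 := ded_22_2 (flp_d L98307) (flp_e L85671) L85664 L98292 L122856
theorem L122863 : sm gf N12645 = N17026 := rfl
theorem L122865 : sm ga N17026 = N15302 := ded_11_1 (flp_f L112216) (flp_a L98294) L122863
theorem L122867 : sm gc N17026 = N15288 := ded_20_1 (flp_f L112111) (flp_c L98297) L122863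
theorem L122869 : sm ge N17026 = N12646 := ded_25_1 (flp_f L98299) L98292 L122863
theorem L122871 : sm gb N12646 = N17027 := rfl
theorem L122873 : sm gd N17027 = N12649 := ded_14_2 (flp_b L98316) (flp_d L98305) L122871
theorem L122875 : sm gf N17027 = N17027 := ded_16_2 (flp_b L122871) (flp_f L98299) L85668 L98299 L122871
theorem L122876 : sm gc N12647 = N17028 := rfl
theorem L122878 : sm gf N12647 = N17029 := rfl
theorem L122880 : sm gd N17029 = N12648 := ded_23_1 (flp_f L98310) L98307 L122878
theorem L122882 : sm gb N12648 = N17030 := rfl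
theorem L122884 : sm ge N17030 = N12649 := ded_15_2 (flp_b L98316) (flp_e L98314) L122882
theorem L122886 : sm gf N17030 = N17030 := ded_16_2 (flp_b L122882) (flp_f L98310) L85673 L98310 L122882
theorem L122887 : sm gg N12648 = N17031 := rfl
theorem L122889 : sm ga N17031 = N16738 := ded_12_1 L122776 L122770 L122887
theorem L122891 : sm gc N17031 = N12652 := ded_21_1 (flp_g L98333) (flp_c L98312) L122887
theorem L122893 : sm ge N17031 = N12650 := ded_26_1 (flp_g L98319) (flp_e L98314) L122887
theorem L122895 : sm gf N16731 = N17031 := ded_29_0 (flp_g L122887) (flp_f L98310) (flp_g L97449) (flp_a L121428)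
theorem L122897 : sm ga N12649 = N17032 := rfl
theorem L122899 : sm gf N17032 = N17032 := ded_11_2 (flp_a L122897) L98318 L122897
theorem L122900 : sm gc N12649 = N17033 := rfl
theorem L122902 : sm gf N17033 = N17033 := ded_20_2 (flp_c L122900) L98318 L122900
theorem L122903 : sm gb N17033 = N12654 := ded_13_1 (flp_c L98347) (flp_b L85684) (flp_c L85678) L98316 L122900
theorem L122905 : sm gg N12649 = N17034 := rfl
theorem L122907 : sm gb N12650 = N17035 := rfl
theorem L122909 : sm ga N12651 = N17036 := rfl
theorem L122911 : sm ge N17036 = N12653 := ded_10_2 (flp_a L98341) (flp_e L98329) L122909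
theorem L122913 : sm gf N17036 = N12752 := ded_11_2 (flp_a L98794) (flp_f L98331) L122909
theorem L122915 : sm gc N12651 = N17037 := rfl
theorem L122917 : sm ge N17037 = N12654 := ded_19_2 (flp_c L98347) (flp_e L98329) L122915
theorem L122919 : sm gf N17037 = N12753 := ded_20_2 (flp_c L98798) (flp_f L98331) L122915
theorem L122921 : sm gg N12651 = N17038 := rfl
theorem L122923 : sm ge N17038 = N12655 := ded_26_1 (flp_g L98351) (flp_e L98329) L122921
theorem L122925 : sm gb N12652 = N17039 := rfl
theorem L122927 : sm ge N17039 = N12656 := ded_15_2 (flp_b L98355) (flp_e L98337) L122925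
theorem L122929 : sm gb N12653 = N17040 := rfl
theorem L122931 : sm gd N17040 = N12657 := ded_14_2 (flp_b L98359) (flp_d L98343) L122929
theorem L122933 : sm gc N12653 = N17041 := rfl
theorem L122935 : sm ga N17041 = N12654 := ded_8_1 (flp_c L98347) L98341 L122933
theorem L122937 : sm gf N17041 = N12756 := ded_20_2 (flp_c L98812) (flp_f L98345) L122933
theorem L122939 : sm gd N12654 = N17042 := rfl
theorem L122943 : sm gg N12654 = N17043 := rfl
theorem L122945 : sm gc N17043 = N12655 := ded_21_1 (flp_g L98351) L98347 L122943
theorem L122947 : sm gb N12655 = N17044 := rfl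
theorem L122949 : sm gd N17044 = N12661 := ded_14_2 (flp_b L98377) (flp_d L98353) L122947
theorem L122951 : sm gg N17044 = N12656 := ded_17_2 (flp_b L98355) (flp_g L85690) L85684 L98351 L122947
theorem L122953 : sm ga N12656 = N17045 := rfl
theorem L122955 : sm gd N17045 = N12662 := ded_9_2 (flp_a L98381) (flp_d L98357) L122953
theorem L122957 : sm gc N12656 = N17046 := rfl
theorem L122959 : sm gf N12656 = N17047 := rfl
theorem L122961 : sm gd N17047 = N12664 := ded_23_1 (flp_f L98387) (flp_d L98357) L122959
theorem L122963 : sm gb N17047 = N16726 := ded_16_1 (flp_f L121402) L97411 L85696 L98355 L122959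
theorem L122965 : sm ga N12657 = N17048 := rfl
theorem L122967 : sm gc N12657 = N17049 := rfl
theorem L122969 : sm gf N12657 = N17050 := rfl
theorem L122971 : sm gb N17050 = N12763 := ded_16_1 (flp_f L98844) (flp_b L85910) (flp_f L85700) L98359 L122969
theorem L122973 : sm gg N12657 = N17051 := rfl
theorem L122975 : sm gb N12658 = N17052 := rfl
theorem L122977 : sm gd N12658 = N17053 := rfl
theorem L122979 : sm ga N17053 = N12659 := ded_9_1 (flp_d L98367) (flp_a L98363) L122977
theorem L122981 : sm gf N17053 = N12766 := ded_23_2 (flp_d L98850) (flp_f L98365) L122977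
theorem L122983 : sm gc N12659 = N17054 := rfl
theorem L122985 : sm gf N17054 = N12769 := ded_20_2 (flp_c L98864) (flp_f L98371) L122983
theorem L122987 : sm ge N12659 = N17055 := rfl
theorem L122989 : sm gb N17055 = N12672 := ded_15_1 (flp_e L98423) (flp_b L98369) L122987
theorem L122991 : sm gf N17055 = N12770 := ded_25_2 (flp_e L98866) (flp_f L98371) L122987
theorem L122993 : sm gg N12659 = N17056 := rfl
theorem L122995 : sm gd N17056 = N12660 := ded_24_1 (flp_g L98373) L98367 L122993
theorem L122997 : sm gb N12660 = N17057 := rfl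
theorem L122999 : sm gg N17057 = N12674 := ded_17_2 (flp_b L98431) (flp_g L85726) (flp_b L85706) L98373 L122997
theorem L123001 : sm ga N12661 = N17058 := rfl
theorem L123003 : sm gg N17058 = N12662 := ded_12_2 (flp_a L98381) (flp_g L98379) L123001
theorem L123005 : sm gc N12661 = N17059 := rfl
theorem L123007 : sm gg N17059 = N12663 := ded_21_2 (flp_c L98383) (flp_g L98379) L123005
theorem L123009 : sm gf N12661 = N17060 := rfl
theorem L123011 : sm gb N12662 = N17061 := rfl
theorem L123013 : sm gc N12662 = N17062 := rfl
theorem L123015 : sm ga N17062 = N12663 := ded_8_1 (flp_c L98383) L98381 L123013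
theorem L123017 : sm gf N12662 = N17063 := rfl
theorem L123019 : sm ga N17063 = N12664 := ded_11_1 (flp_f L98387) L98381 L123017
theorem L123021 : sm gg N17060 = N17063 := ded_29_1 (flp_f L123017) (flp_g L123003) (flp_a L123001) L123009
theorem L123023 : sm gb N16746 = N17063 := ded_31_14 (flp_g L123021) (flp_f L123009) (flp_b L98377) (flp_g L85708) L26883 (flp_b L13072) L80617 (flp_f L6436) (flp_b L6366) (flp_g L12847) L26746 L85346 L97472 L121500
theorem L123025 : N17061 = N17017 := coi_16_4 (flp_f L122818) L98274 L121500 L123023 (flp_f L123017) L123011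
theorem L123026 : N17061 = N17017 := eqc rfl L123025 rfl
theorem L123027 : sm gb N17017 = N12662 := trfs L123026 (flp_b L123011) rfl
theorem L123029 : sm gd N12663 = N17064 := rfl
theorem L123031 : sm gb N17064 = N12680 := ded_14_1 (flp_d L98465) (flp_b L98385) L123029
theorem L123033 : sm gf N12663 = N17065 := rfl
theorem L123035 : sm gc N17065 = N12664 := ded_20_1 (flp_f L98387) L98383 L123033
theorem L123037 : sm gg N12664 = N17066 := rfl
theorem L123039 : sm ga N17066 = N17060 := ded_12_1 L123021 L123019 L123037
theorem L123041 : sm gf N17058 = N17066 := ded_29_0 (flp_g L123037) (flp_f L98387) (flp_g L98379) L123001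
theorem L123043 : sm gc N12665 = N17067 := rfl
theorem L123045 : sm ga N17067 = N12666 := ded_8_1 (flp_c L98397) L98391 L123043
theorem L123047 : sm gg N17067 = N15165 := ded_21_2 (flp_c L111509) L98395 L123043
theorem L123049 : sm gb N12666 = N17068 := rfl
theorem L123051 : sm gc N17068 = N12669 := ded_13_2 (flp_b L98411) (flp_c L85716) L85712 L98397 L123049
theorem L123053 : sm gd N12666 = N17069 := rfl
theorem L123055 : sm gf N12666 = N17070 := rfl
theorem L123057 : sm gc N17070 = N12667 := ded_20_1 (flp_f L98399) L98397 L123055
theorem L123059 : sm gg N12666 = N17071 := rfl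
theorem L123061 : sm ga N17071 = N15165 := ded_12_1 (flp_g L123047) L123045 L123059
theorem L123063 : sm gc N17071 = N12668 := ded_21_1 (flp_g L98405) L98397 L123059
theorem L123065 : sm gf N16674 = N17071 := ded_20_0 L123063 L98615 L121182
theorem L123067 : sm ga N12669 = N17072 := rfl
theorem L123069 : sm gd N12669 = N17073 := rfl
theorem L123071 : sm gb N17073 = N12670 := ded_14_1 (flp_d L98413) L98411 L123069
theorem L123073 : sm gf N12669 = N17074 := rfl
theorem L123075 : sm gb N17074 = N12694 := ded_16_1 (flp_f L98551) (flp_b L85760) (flp_f L85720) L98411 L123073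
theorem L123077 : sm gg N12669 = N17075 := rfl
theorem L123079 : sm ge N12670 = N17076 := rfl
theorem L123081 : sm ga N17076 = N12672 := ded_10_1 (flp_e L98423) (flp_a L98415) L123079
theorem L123083 : sm gf N17076 = N12696 := ded_25_2 (flp_e L98555) (flp_f L98417) L123079
theorem L123085 : sm gb N12671 = N17077 := rfl
theorem L123087 : sm ge N12671 = N17078 := rfl
theorem L123089 : sm gc N17078 = N12672 := ded_19_1 (flp_e L98423) L98419 L123087
theorem L123091 : sm gf N17078 = N12701 := ded_25_2 (flp_e L98575) (flp_f L98421) L123087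
theorem L123093 : sm gg N12671 = N17079 := rfl
theorem L123095 : sm gc N17079 = N12673 := ded_21_1 (flp_g L98427) L98419 L123093
theorem L123097 : sm gd N17079 = N16883 := ded_24_1 L122402 L122400 L123093
theorem L123099 : sm gf N16881 = N17079 := ded_29_0 (flp_g L123093) L98421 L98579 (flp_a L122194)
theorem L123101 : sm gg N12672 = N17080 := rfl
theorem L123103 : sm ge N17080 = N12673 := ded_26_1 (flp_g L98427) L98423 L123101
theorem L123105 : sm gb N12673 = N17081 := rfl
theorem L123107 : sm gd N17081 = N12674 := ded_14_2 (flp_b L98431) (flp_d L98429) L123105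
theorem L123109 : sm ga N12674 = N17082 := rfl
theorem L123111 : sm gc N12674 = N17083 := rfl
theorem L123113 : sm gb N17083 = N12676 := ded_13_1 (flp_c L98441) (flp_b L85730) (flp_c L85728) L98431 L123111
theorem L123115 : sm gf N12674 = N17084 := rfl
theorem L123117 : sm gc N12675 = N17085 := rfl
theorem L123119 : sm ga N17085 = N12676 := ded_8_1 (flp_c L98441) L98433 L123117
theorem L123121 : sm gg N17085 = N12678 := ded_21_2 (flp_c L98449) (flp_g L98437) L123117
theorem L123123 : sm gb N17085 = N14632 := ded_13_1 L108713 L91768 (flp_c L97232) L98439 L123117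
theorem L123125 : sm gd N12676 = N17086 := rfl
theorem L123127 : sm gg N17086 = N12680 := ded_24_2 (flp_d L98465) (flp_g L98443) L123125
theorem L123129 : sm gf N12676 = N17087 := rfl
theorem L123131 : sm gc N17087 = N12677 := ded_20_1 (flp_f L98445) L98441 L123129
theorem L123133 : sm gd N12678 = N17088 := rfl
theorem L123135 : sm ga N17088 = N12680 := ded_9_1 (flp_d L98465) (flp_a L98451) L123133
theorem L123137 : sm gb N17088 = N15240 := ded_14_1 L111853 (flp_b L98453) L123133
theorem L123139 : sm gf N12678 = N17089 := rfl
theorem L123141 : sm ga N17089 = N12681 := ded_11_1 (flp_f L98467) (flp_a L98451) L123139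
theorem L123143 : sm gc N17089 = N12679 := ded_20_1 (flp_f L98455) L98449 L123139
theorem L123145 : sm gg N17087 = N17089 := ded_29_1 (flp_f L123139) (flp_g L123121) L123119 L123129
theorem L123147 : sm gc N12680 = N17090 := rfl
theorem L123149 : sm ge N12680 = N17091 := rfl
theorem L123151 : sm gf N12680 = N17092 := rfl
theorem L123153 : sm gd N17092 = N12681 := ded_23_1 (flp_f L98467) L98465 L123151
theorem L123155 : sm gb N12681 = N17093 := rfl
theorem L123157 : sm gc N17093 = N16716 := ded_13_2 (flp_b L121361) L97391 (flp_b L85742) (flp_c L98469) L123155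
theorem L123159 : sm gg N12681 = N17094 := rfl
theorem L123161 : sm ga N17094 = N17087 := ded_12_1 L123145 L123141 L123159
theorem L123163 : sm gc N17094 = N12682 := ded_21_1 (flp_g L98471) (flp_c L98469) L123159
theorem L123165 : sm gf N17085 = N17094 := ded_29_0 (flp_g L123159) (flp_f L98467) (flp_g L98443) (flp_a L123119)
theorem L123167 : sm gb N12683 = N17095 := rfl
theorem L123169 : sm gc N17095 = N16900 := ded_13_2 (flp_b L122274) (flp_c L97933) (flp_b L85748) L98493 L123167
theorem L123171 : sm gd N12683 = N17096 := rfl
theorem L123173 : sm ga N17096 = N12687 := ded_9_1 (flp_d L98517) (flp_a L98495) L123171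
theorem L123175 : sm gf N12683 = N17097 := rfl
theorem L123177 : sm ga N17097 = N12688 := ded_11_1 (flp_f L98519) (flp_a L98495) L123175
theorem L123179 : sm gc N17097 = N12684 := ded_20_1 (flp_f L98497) L98493 L123175
theorem L123181 : sm gg N17097 = N16622 := ded_29_1 L120888 (flp_g L98523) (flp_a L98495) L123175
theorem L123183 : sm gg N12683 = N17098 := rfl
theorem L123185 : sm ga N17098 = N12689 := ded_12_1 (flp_g L98523) (flp_a L98495) L123183
theorem L123187 : sm gc N17098 = N12685 := ded_21_1 (flp_g L98507) L98493 L123183
theorem L123189 : sm ga N12686 = N17099 := rfl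
theorem L123191 : sm gc N17099 = N12692 := ded_8_2 (flp_a L98545) (flp_c L98515) L123189
theorem L123193 : sm gd N12686 = N17100 := rfl
theorem L123195 : sm gb N17100 = N12687 := ded_14_1 (flp_d L98517) L98513 L123193
theorem L123197 : sm gf N12686 = N17101 := rfl
theorem L123199 : sm gc N17101 = N12694 := ded_20_1 (flp_f L98551) (flp_c L98515) L123197
theorem L123201 : sm gg N12686 = N17102 := rfl
theorem L123203 : sm gc N17102 = N12695 := ded_21_1 (flp_g L98553) (flp_c L98515) L123201
theorem L123205 : sm gc N12687 = N17103 := rfl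
theorem L123207 : sm ge N12687 = N17104 := rfl
theorem L123209 : sm gf N12687 = N17105 := rfl
theorem L123211 : sm gd N17105 = N12688 := ded_23_1 (flp_f L98519) L98517 L123209
theorem L123213 : sm gg N12687 = N17106 := rfl
theorem L123215 : sm gd N17106 = N12689 := ded_24_1 (flp_g L98523) L98517 L123213
theorem L123217 : sm gb N12688 = N17107 := rfl
theorem L123219 : sm gg N12688 = N17108 := rfl
theorem L123221 : sm ga N17108 = N16622 := ded_12_1 (flp_g L123181) L123177 L123219
theorem L123223 : sm gc N17108 = N12690 := ded_21_1 (flp_g L98527) (flp_c L98521) L123219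
theorem L123225 : sm gf N17098 = N17108 := ded_29_0 (flp_g L123219) (flp_f L98519) L98523 (flp_a L123185)
theorem L123227 : sm gb N12689 = N17109 := rfl
theorem L123229 : sm gc N12691 = N17110 := rfl
theorem L123231 : sm gf N17110 = N16597 := ded_20_2 (flp_c L120752) (flp_f L98541) L123229
theorem L123233 : sm gg N17110 = N12699 := ded_21_2 (flp_c L98569) (flp_g L98543) L123229
theorem L123235 : sm gb N12692 = N17111 := rfl
theorem L123237 : sm ga N17111 = N12782 := ded_7_1 (flp_b L98925) (flp_a L85962) (flp_b L27275) L13094 (flp_b L12932) (flp_a L26915) L85760 L98545 L123235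
theorem L123239 : sm gd N12692 = N17112 := rfl
theorem L123241 : sm ga N17112 = N12693 := ded_9_1 (flp_d L98547) L98545 L123239
theorem L123243 : sm gf N12692 = N17113 := rfl
theorem L123245 : sm ga N17113 = N12694 := ded_11_1 (flp_f L98551) L98545 L123243
theorem L123247 : sm gg N12692 = N17114 := rfl
theorem L123249 : sm ga N17114 = N12695 := ded_12_1 (flp_g L98553) L98545 L123247
theorem L123251 : sm gc N12693 = N17115 := rfl
theorem L123253 : sm ge N12693 = N17116 := rfl
theorem L123255 : sm gb N17116 = N12696 := ded_15_1 (flp_e L98555) (flp_b L98549) L123253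
theorem L123257 : sm gf N12693 = N17117 := rfl
theorem L123259 : sm gd N17117 = N12694 := ded_23_1 (flp_f L98551) L98547 L123257
theorem L123261 : sm gg N12693 = N17118 := rfl
theorem L123263 : sm gd N17118 = N12695 := ded_24_1 (flp_g L98553) L98547 L123261
theorem L123265 : sm gg N12694 = N17119 := rfl
theorem L123267 : sm gf N17114 = N17119 := ded_29_0 (flp_g L123265) (flp_f L98551) L98553 (flp_a L123249)
theorem L123269 : sm gb N12695 = N17120 := rfl
theorem L123271 : sm gg N17120 = N12698 := ded_17_2 (flp_b L98567) (flp_g L85766) L85760 L98553 L123269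
theorem L123273 : sm gf N12695 = N17121 := rfl
theorem L123275 : sm ga N17121 = N17119 := ded_11_1 (flp_f L123267) L123249 L123273
theorem L123277 : sm gg N17121 = N17113 := ded_29_3 L123245 (flp_f L98551) L98553 L123273
theorem L123279 : sm gg N12696 = N17122 := rfl
theorem L123281 : sm ga N17122 = N12703 := ded_12_1 (flp_g L98583) (flp_a L98557) L123279
theorem L123283 : sm ge N17122 = N12697 := ded_26_1 (flp_g L98559) L98555 L123279
theorem L123285 : sm gf N17122 = N17080 := ded_29_2 (flp_g L123101) (flp_a L123081) L123083 L123279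
theorem L123287 : sm gb N12697 = N17123 := rfl
theorem L123289 : sm gd N17123 = N12698 := ded_14_2 (flp_b L98567) (flp_d L98563) L123287
theorem L123291 : sm ga N12698 = N17124 := rfl
theorem L123293 : sm gc N12698 = N17125 := rfl
theorem L123295 : sm gb N17125 = N12699 := ded_13_1 (flp_c L98569) (flp_b L85774) (flp_c L85770) L98567 L123293
theorem L123297 : sm gf N12698 = N17126 := rfl
theorem L123299 : sm gb N17126 = N17084 := ded_16_1 (flp_f L123115) (flp_b L98431) (flp_f L85772) L98567 L123297
theorem L123301 : sm gd N12699 = N17127 := rfl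
theorem L123303 : sm ga N12700 = N17128 := rfl
theorem L123305 : sm gc N17128 = N12792 := ded_8_2 (flp_a L98965) (flp_c L98573) L123303
theorem L123307 : sm ge N12700 = N17129 := rfl
theorem L123309 : sm gb N17129 = N12701 := ded_15_1 (flp_e L98575) L98571 L123307
theorem L123311 : sm gc N17129 = N12793 := ded_19_1 (flp_e L98967) (flp_c L98573) L123307
theorem L123313 : sm gf N12700 = N17130 := rfl
theorem L123315 : sm gc N17130 = N12794 := ded_20_1 (flp_f L98971) (flp_c L98573) L123313
theorem L123317 : sm gg N12700 = N17131 := rfl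
theorem L123319 : sm gc N17131 = N12795 := ded_21_1 (flp_g L98973) (flp_c L98573) L123317
theorem L123321 : sm gd N12701 = N17132 := rfl
theorem L123323 : sm gg N12701 = N17133 := rfl
theorem L123325 : sm gc N17133 = N12703 := ded_21_1 (flp_g L98583) (flp_c L98577) L123323
theorem L123327 : sm ge N17133 = N12702 := ded_26_1 (flp_g L98579) L98575 L123323
theorem L123329 : sm gb N12702 = N17134 := rfl
theorem L123331 : sm gf N12702 = N17135 := rfl
theorem L123333 : sm ga N17135 = N17079 := ded_11_1 (flp_f L123099) L122194 L123331
theorem L123335 : sm gc N17135 = N12704 := ded_20_1 (flp_f L98587) (flp_c L98581) L123331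
theorem L123337 : sm gd N17135 = N16944 := ded_23_1 (flp_f L122474) (flp_d L122182) L123331
theorem L123339 : sm gg N17135 = N16940 := ded_29_3 L122452 L98421 L98579 L123331
theorem L123341 : sm gf N12703 = N17136 := rfl
theorem L123343 : sm ga N17136 = N17080 := ded_11_1 (flp_f L123285) L123281 L123341
theorem L123345 : sm ge N17136 = N12704 := ded_25_1 (flp_f L98587) (flp_e L98585) L123341
theorem L123347 : sm gg N17136 = N17076 := ded_29_3 L123081 L98425 L98583 L123341
theorem L123349 : sm gb N12704 = N17137 := rfl
theorem L123351 : sm gd N17137 = N12705 := ded_14_2 (flp_b L98595) (flp_d L98591) L123349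
theorem L123353 : sm ga N12705 = N17138 := rfl
theorem L123355 : sm gc N12705 = N17139 := rfl
theorem L123357 : sm gb N17139 = N12707 := ded_13_1 (flp_c L98603) (flp_b L85796) (flp_c L85792) L98595 L123355
theorem L123359 : sm gg N12705 = N17140 := rfl
theorem L123361 : sm gb N17140 = N17075 := ded_17_1 (flp_g L123077) (flp_b L98411) (flp_g L85794) L98595 L123359
theorem L123363 : sm gc N12706 = N17141 := rfl
theorem L123365 : sm ga N17141 = N12707 := ded_8_1 (flp_c L98603) L98597 L123363
theorem L123367 : sm gf N17141 = N15278 := ded_20_2 (flp_c L112052) (flp_f L98601) L123363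
theorem L123369 : sm gd N12707 = N17142 := rfl
theorem L123371 : sm gf N17142 = N15279 := ded_23_2 (flp_d L112056) (flp_f L98605) L123369
theorem L123373 : sm gg N12707 = N17143 := rfl
theorem L123375 : sm gc N17143 = N12708 := ded_21_1 (flp_g L98607) L98603 L123373
theorem L123377 : sm gf N16703 = N17143 := ded_29_0 (flp_g L123373) L98605 L112058 (flp_a L121311)
theorem L123379 : sm gb N12709 = N17144 := rfl
theorem L123381 : sm ge N17144 = N12712 := ded_15_2 (flp_b L98631) (flp_e L98619) L123379
theorem L123383 : sm gc N12709 = N17145 := rfl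
theorem L123385 : sm ga N17145 = N12710 := ded_8_1 (flp_c L98621) L98617 L123383
theorem L123387 : sm ge N17145 = N12713 := ded_19_2 (flp_c L98635) (flp_e L98619) L123383
theorem L123389 : sm gg N17145 = N16846 := ded_21_2 L122040 L122000 L123383
theorem L123391 : sm gf N12709 = N17145 := ded_11_0 L123385 L118160 L98617
theorem L123393 : sm ga N12712 = N17146 := rfl
theorem L123395 : sm gd N17146 = N12718 := ded_9_2 (flp_a L98662) (flp_d L98633) L123393
theorem L123397 : sm gb N17146 = N17146 := ded_7_2 (flp_a L123393) (flp_b L98631) (flp_a L85806) (flp_b L27037) L50679 L27037 L85806 L98631 L123393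
theorem L123398 : sm gg N12712 = N17147 := rfl
theorem L123400 : sm gd N17147 = N12720 := ded_24_1 (flp_g L98667) (flp_d L98633) L123398
theorem L123402 : sm gg N12718 = N17148 := rfl
theorem L123404 : sm ga N17148 = N12720 := ded_12_1 (flp_g L98667) L98662 L123402
theorem L123406 : sm gc N17148 = N14440 := ded_21_1 (flp_g L107706) (flp_c L120532) L123402
theorem L123408 : sm gf N17148 = N16618 := ded_29_2 (flp_g L120860) L120846 L120850 L123402
theorem L123410 : sm gd N12719 = N17149 := rfl
theorem L123412 : sm ga N17149 = N14425 := ded_9_1 L107635 (flp_a L120412) L123410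
theorem L123414 : sm gb N17149 = N14672 := ded_14_1 L108953 (flp_b L120414) L123410
theorem L123416 : sm gg N12719 = N17150 := rfl
theorem L123418 : sm ga N17150 = N14440 := ded_12_1 (flp_g L107706) (flp_a L120412) L123416
theorem L123420 : sm gc N17150 = N12720 := ded_21_1 (flp_g L98667) L98665 L123416
theorem L123422 : sm gf N12720 = N17151 := rfl
theorem L123424 : sm ga N17151 = N16618 := ded_11_1 (flp_f L123408) L123404 L123422
theorem L123426 : sm gg N17151 = N16616 := ded_29_3 (flp_a L120846) L97124 L98667 L123422
theorem L123428 : sm gb N17151 = N16659 := ded_31_2 (flp_g L121087) L121078 L121086 (flp_g L121133) (flp_f L121129) (flp_b L97819) (flp_g L97817) (flp_f L97809) (flp_b L97807) L85828 (flp_f L85824) L85818 L98667 L123422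
theorem L123430 : sm gg N12721 = N17152 := rfl
theorem L123432 : sm ga N17152 = N14724 := ded_12_1 (flp_g L109169) (flp_a L119837) L123430
theorem L123434 : sm gc N17152 = N14720 := ded_21_1 (flp_g L109155) (flp_c L119839) L123430
theorem L123436 : sm gd N17152 = N13557 := ded_24_1 L103266 (flp_d L120237) L123430
theorem L123438 : sm gf N17152 = N13555 := ded_29_2 (flp_g L103252) (flp_a L103234) (flp_f L119843) L123430
theorem L123440 : sm ge N12722 = N17153 := rfl
theorem L123442 : sm ga N17153 = N12725 := ded_10_1 (flp_e L98685) (flp_a L98673) L123440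
theorem L123444 : sm ge N12724 = N17154 := rfl
theorem L123446 : sm gc N17154 = N12725 := ded_19_1 (flp_e L98685) L98683 L123444
theorem L123448 : sm gf N17154 = N17153 := ded_25_2 (flp_e L123440) (flp_f L118202) L123444
theorem L123450 : sm gf N12725 = N17155 := rfl
theorem L123452 : sm ga N17155 = N17154 := ded_11_1 L123448 L123442 L123450
theorem L123454 : sm gc N17155 = N17153 := ded_20_1 (flp_f L123448) L123446 L123450
theorem L123456 : sm ge N17155 = N12726 := ded_25_1 (flp_f L98689) L98685 L123450
theorem L123458 : sm gb N17155 = N15332 := ded_16_1 (flp_f L112356) L93695 (flp_f L85850) (flp_b L98687) L123450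
theorem L123460 : sm gg N12726 = N17156 := rfl
theorem L123462 : sm ga N17156 = N16859 := ded_12_1 L122090 (flp_a L118198) L123460
theorem L123464 : sm gc N17156 = N16858 := ded_21_1 L122086 L118196 L123460
theorem L123466 : sm gd N17156 = N12727 := ded_24_1 (flp_g L98695) (flp_d L98691) L123460
theorem L123468 : sm gf N16858 = N17156 := ded_29_0 (flp_g L123460) (flp_f L98689) (flp_g L97801) (flp_a L122084)
theorem L123470 : sm gb N12727 = N17157 := rfl
theorem L123472 : sm gg N17157 = N15337 := ded_17_2 (flp_b L112384) (flp_g L93705) (flp_b L85838) L98695 L123470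
theorem L123474 : sm ga N12728 = N17158 := rfl
theorem L123476 : sm gg N17158 = N17158 := ded_12_2 (flp_a L123474) L98705 L123474
theorem L123477 : sm gc N12728 = N17159 := rfl
theorem L123479 : sm gg N17159 = N17159 := ded_21_2 (flp_c L123477) L98705 L123477
theorem L123480 : sm gf N12728 = N17160 := rfl
theorem L123482 : sm gb N17160 = N16855 := ded_16_1 (flp_f L122074) (flp_b L97789) L85844 L98703 L123480
theorem L123484 : sm ga N12729 = N17161 := rfl
theorem L123486 : sm gd N12729 = N17162 := rfl
theorem L123488 : sm gb N17162 = N12730 := ded_14_1 (flp_d L98708) L98706 L123486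
theorem L123490 : sm gf N12729 = N17163 := rfl
theorem L123492 : sm gb N17163 = N12733 := ded_16_1 (flp_f L98724) (flp_b L85862) (flp_f L85858) L98706 L123490
theorem L123494 : sm gg N12729 = N17164 := rfl
theorem L123496 : sm gb N17164 = N14824 := ded_17_1 (flp_g L109566) (flp_b L92114) (flp_g L85860) L98706 L123494
theorem L123498 : sm ge N12730 = N17165 := rfl
theorem L123500 : sm ga N17165 = N12736 := ded_10_1 (flp_e L98738) (flp_a L98710) L123498
theorem L123502 : sm gf N17165 = N12736 := ded_25_2 (flp_e L98738) (flp_f L98712) L123498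
theorem L123504 : sm gg N17165 = N14825 := ded_26_2 (flp_e L109570) (flp_g L98714) L123498
theorem L123506 : sm gb N12731 = N17166 := rfl
theorem L123508 : sm gd N12731 = N17167 := rfl
theorem L123510 : sm ga N17167 = N12732 := ded_9_1 (flp_d L98720) L98716 L123508
theorem L123512 : sm gf N12731 = N17168 := rfl
theorem L123514 : sm ga N17168 = N12733 := ded_11_1 (flp_f L98724) L98716 L123512
theorem L123516 : sm gc N17168 = N12739 := ded_20_1 (flp_f L98748) (flp_c L98718) L123512
theorem L123518 : sm gg N12731 = N17169 := rfl
theorem L123520 : sm ga N17169 = N12734 := ded_12_1 (flp_g L98728) L98716 L123518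
theorem L123522 : sm gc N17169 = N12740 := ded_21_1 (flp_g L98752) (flp_c L98718) L123518
theorem L123524 : sm gc N12732 = N17170 := rfl
theorem L123526 : sm ge N12732 = N17171 := rfl
theorem L123528 : sm gb N17171 = N12736 := ded_15_1 (flp_e L98738) (flp_b L98722) L123526
theorem L123530 : sm gf N12732 = N17172 := rfl
theorem L123532 : sm gd N17172 = N12733 := ded_23_1 (flp_f L98724) L98720 L123530
theorem L123534 : sm gg N12732 = N17173 := rfl
theorem L123536 : sm gd N17173 = N12734 := ded_24_1 (flp_g L98728) L98720 L123534
theorem L123538 : sm gb N17173 = N14748 := ded_17_1 L109267 L92008 (flp_g L85868) (flp_b L98722) L123534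
theorem L123540 : sm gg N12733 = N17174 := rfl
theorem L123542 : sm gc N17174 = N12745 := ded_21_1 (flp_g L98772) (flp_c L98726) L123540
theorem L123544 : sm gf N17169 = N17174 := ded_29_0 (flp_g L123540) (flp_f L98724) L98728 (flp_a L123520)
theorem L123546 : sm gf N12734 = N17175 := rfl
theorem L123548 : sm ga N17175 = N17174 := ded_11_1 (flp_f L123544) L123520 L123546
theorem L123550 : sm gc N17175 = N12746 := ded_20_1 (flp_f L98776) (flp_c L98730) L123546
theorem L123552 : sm gg N17175 = N17168 := ded_29_3 L123514 (flp_f L98724) L98728 L123546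
theorem L123554 : sm gb N12735 = N17176 := rfl
theorem L123556 : sm ge N12735 = N17177 := rfl
theorem L123558 : sm gc N17177 = N12736 := ded_19_1 (flp_e L98738) L98734 L123556
theorem L123560 : sm gg N17177 = N14827 := ded_26_2 (flp_e L109577) (flp_g L98736) L123556
theorem L123562 : sm gc N12737 = N17178 := rfl
theorem L123564 : sm gd N12737 = N17179 := rfl
theorem L123566 : sm gb N17179 = N12738 := ded_14_1 (flp_d L98744) L98742 L123564
theorem L123568 : sm gf N12737 = N17180 := rfl
theorem L123570 : sm gg N12737 = N17181 := rfl
theorem L123572 : sm gc N12738 = N17182 := rfl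
theorem L123574 : sm ga N17182 = N12741 := ded_8_1 (flp_c L98756) (flp_a L98746) L123572
theorem L123576 : sm ge N12738 = N17183 := rfl
theorem L123578 : sm ga N17183 = N12742 := ded_10_1 (flp_e L98758) (flp_a L98746) L123576
theorem L123580 : sm gf N12738 = N17184 := rfl
theorem L123582 : sm ga N17184 = N12743 := ded_11_1 (flp_f L98762) (flp_a L98746) L123580
theorem L123584 : sm gd N17184 = N12739 := ded_23_1 (flp_f L98748) L98744 L123580
theorem L123586 : sm gg N12738 = N17185 := rfl
theorem L123588 : sm ga N17185 = N12744 := ded_12_1 (flp_g L98766) (flp_a L98746) L123586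
theorem L123590 : sm gd N17185 = N12740 := ded_24_1 (flp_g L98752) L98744 L123586
theorem L123592 : sm gb N12739 = N17186 := rfl
theorem L123594 : sm gb N12740 = N17187 := rfl
theorem L123596 : sm gd N12741 = N17188 := rfl
theorem L123598 : sm ge N12741 = N17189 := rfl
theorem L123600 : sm gc N17189 = N12742 := ded_19_1 (flp_e L98758) L98756 L123598
theorem L123602 : sm gf N12741 = N17190 := rfl
theorem L123604 : sm gc N17190 = N12743 := ded_20_1 (flp_f L98762) L98756 L123602
theorem L123606 : sm gg N12741 = N17191 := rfl
theorem L123608 : sm gc N17191 = N12744 := ded_21_1 (flp_g L98766) L98756 L123606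
theorem L123610 : sm gf N12742 = N17192 := rfl
theorem L123612 : sm ge N17192 = N12743 := ded_25_1 (flp_f L98762) L98758 L123610
theorem L123614 : sm gg N12742 = N17193 := rfl
theorem L123616 : sm ge N17193 = N12744 := ded_26_1 (flp_g L98766) L98758 L123614
theorem L123618 : sm gb N17193 = N14743 := ded_17_1 (flp_g L109243) L91968 (flp_g L85886) (flp_b L98760) L123614
theorem L123620 : sm gg N12743 = N17194 := rfl
theorem L123622 : sm gd N17194 = N12745 := ded_24_1 (flp_g L98772) (flp_d L98764) L123620
theorem L123624 : sm gf N17185 = N17194 := ded_29_0 (flp_g L123620) (flp_f L98762) L98766 (flp_a L123588)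
theorem L123626 : sm gf N12744 = N17195 := rfl
theorem L123628 : sm ga N17195 = N17194 := ded_11_1 (flp_f L123624) L123588 L123626
theorem L123630 : sm gd N17195 = N12746 := ded_23_1 (flp_f L98776) (flp_d L98768) L123626
theorem L123632 : sm gg N17195 = N17184 := ded_29_3 L123582 (flp_f L98762) L98766 L123626
theorem L123634 : sm gb N12745 = N17196 := rfl
theorem L123636 : sm gb N12746 = N17197 := rfl
theorem L123638 : sm gf N17197 = N14745 := ded_16_2 (flp_b L109255) (flp_f L91974) (flp_b L85880) L98776 L123636
theorem L123640 : sm gb N12747 = N17198 := rfl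
theorem L123642 : sm ge N12747 = N17199 := rfl
theorem L123644 : sm ga N17199 = N12748 := ded_10_1 (flp_e L98784) L98782 L123642
theorem L123646 : sm gf N12747 = N17200 := rfl
theorem L123648 : sm ga N17200 = N12749 := ded_11_1 (flp_f L98788) L98782 L123646
theorem L123650 : sm gg N12747 = N17201 := rfl
theorem L123652 : sm ga N17201 = N12750 := ded_12_1 (flp_g L98790) L98782 L123650
theorem L123654 : sm gd N12748 = N17202 := rfl
theorem L123656 : sm gb N17202 = N12751 := ded_14_1 (flp_d L98792) (flp_b L98786) L123654
theorem L123658 : sm gf N12748 = N17203 := rfl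
theorem L123660 : sm ge N17203 = N12749 := ded_25_1 (flp_f L98788) L98784 L123658
theorem L123662 : sm gg N12748 = N17204 := rfl
theorem L123664 : sm ge N17204 = N12750 := ded_26_1 (flp_g L98790) L98784 L123662
theorem L123666 : sm gg N12749 = N17205 := rfl
theorem L123668 : sm gf N17201 = N17205 := ded_29_0 (flp_g L123666) (flp_f L98788) L98790 (flp_a L123652)
theorem L123670 : sm gf N12750 = N17206 := rfl
theorem L123672 : sm ga N17206 = N17205 := ded_11_1 (flp_f L123668) L123652 L123670
theorem L123674 : sm gg N17206 = N17200 := ded_29_3 L123648 (flp_f L98788) L98790 L123670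
theorem L123676 : sm gb N12752 = N17207 := rfl
theorem L123678 : sm ge N17207 = N12755 := ded_15_2 (flp_b L98808) (flp_e L98796) L123676
theorem L123680 : sm gc N12752 = N17208 := rfl
theorem L123682 : sm ga N17208 = N12753 := ded_8_1 (flp_c L98798) L98794 L123680
theorem L123684 : sm ge N17208 = N12756 := ded_19_2 (flp_c L98812) (flp_e L98796) L123680
theorem L123686 : sm gg N12752 = N17209 := rfl
theorem L123688 : sm ga N17209 = N12754 := ded_12_1 (flp_g L98803) L98794 L123686
theorem L123690 : sm ge N17209 = N12757 := ded_26_1 (flp_g L98816) (flp_e L98796) L123686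
theorem L123692 : sm gf N17209 = N17038 := ded_29_2 (flp_g L122921) L122909 L122913 L123686
theorem L123694 : sm gd N12753 = N17210 := rfl
theorem L123697 : sm gg N12753 = N17211 := rfl
theorem L123699 : sm gc N17211 = N12754 := ded_21_1 (flp_g L98803) L98798 L123697
theorem L123701 : sm ge N17211 = N12759 := ded_26_1 (flp_g L98827) (flp_e L98800) L123697
theorem L123703 : sm gf N12754 = N17212 := rfl
theorem L123705 : sm ga N17212 = N17038 := ded_11_1 (flp_f L123692) L123688 L123703
theorem L123709 : sm gg N17212 = N17036 := ded_29_3 (flp_a L122909) L98331 L98803 L123703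
theorem L123711 : sm ga N12755 = N17213 := rfl
theorem L123713 : sm gd N17213 = N12761 := ded_9_2 (flp_a L98839) (flp_d L98810) L123711
theorem L123715 : sm gb N17213 = N17213 := ded_7_2 (flp_a L123711) (flp_b L98808) (flp_a L85898) (flp_b L27227) L76216 L27227 L85898 L98808 L123711
theorem L123716 : sm gc N12755 = N17214 := rfl
theorem L123718 : sm gf N12755 = N17215 := rfl
theorem L123720 : sm gd N17215 = N12763 := ded_23_1 (flp_f L98844) (flp_d L98810) L123718
theorem L123722 : sm gg N12755 = N17216 := rfl
theorem L123724 : sm gd N17216 = N12764 := ded_24_1 (flp_g L98846) (flp_d L98810) L123722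
theorem L123726 : sm gb N12756 = N17217 := rfl
theorem L123728 : sm gd N12756 = N17218 := rfl
theorem L123730 : sm ga N17218 = N12758 := ded_9_1 (flp_d L98824) (flp_a L98814) L123728
theorem L123732 : sm gg N12756 = N17219 := rfl
theorem L123736 : sm gc N17219 = N12757 := ded_21_1 (flp_g L98816) L98812 L123732
theorem L123740 : sm gb N12757 = N17220 := rfl
theorem L123742 : sm gd N17220 = N12768 := ded_14_2 (flp_b L98862) (flp_d L98820) L123740
theorem L123757 : sm gf N12759 = N17225 := rfl
theorem L123763 : sm gg N17225 = N17041 := ded_29_3 L122935 L98349 L98827 L123757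
theorem L123765 : sm gb N12760 = N17226 := rfl
theorem L123767 : sm gd N17226 = N12773 := ded_14_2 (flp_b L98884) (flp_d L98835) L123765
theorem L123770 : sm gf N12761 = N17227 := rfl
theorem L123772 : sm ga N17227 = N12763 := ded_11_1 (flp_f L98844) L98839 L123770
theorem L123774 : sm gc N17227 = N14445 := ded_20_1 (flp_f L107719) (flp_c L112156) L123770
theorem L123776 : sm gg N12761 = N17228 := rfl
theorem L123778 : sm ga N17228 = N12764 := ded_12_1 (flp_g L98846) L98839 L123776
theorem L123780 : sm gc N17228 = N14446 := ded_21_1 (flp_g L107721) (flp_c L112156) L123776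
theorem L123782 : sm gd N12762 = N17229 := rfl
theorem L123784 : sm ga N17229 = N14431 := ded_9_1 L107667 (flp_a L112149) L123782
theorem L123786 : sm gb N17229 = N14115 := ded_14_1 L120477 (flp_b L112151) L123782
theorem L123788 : sm gf N14116 = N17229 := ded_16_0 L123786 (flp_f L105957) (flp_b L90097) L90099 L105959
theorem L123790 : sm gf N12762 = N17230 := rfl
theorem L123792 : sm ga N17230 = N14445 := ded_11_1 (flp_f L107719) (flp_a L112149) L123790
theorem L123794 : sm gc N17230 = N12763 := ded_20_1 (flp_f L98844) L98842 L123790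
theorem L123796 : sm gd N17230 = N14116 := ded_23_1 L123788 (flp_d L123782) L123790
theorem L123798 : sm gb N17230 = N13598 := ded_16_1 (flp_f L103429) L105921 L120483 (flp_b L112151) L123790
theorem L123800 : sm gc N17050 = N13600 := ded_13_2 (flp_b L103435) (flp_c L103425) (flp_b L123798) L123794 (flp_b L122971)
theorem L123802 : sm gf N13600 = N17049 := ded_20_2 (flp_c L122967) L122969 L123800
theorem L123804 : sm gd N17049 = N13602 := ded_23_1 (flp_f L103441) (flp_d L103437) L123802
theorem L123806 : sm gg N12762 = N17231 := rfl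
theorem L123808 : sm ga N17231 = N14446 := ded_12_1 (flp_g L107721) (flp_a L112149) L123806
theorem L123810 : sm gc N17231 = N12764 := ded_21_1 (flp_g L98846) L98842 L123806
theorem L123812 : sm gg N12763 = N17232 := rfl
theorem L123814 : sm gf N17228 = N17232 := ded_29_0 (flp_g L123812) (flp_f L98844) L98846 (flp_a L123778)
theorem L123816 : sm gb N12764 = N17233 := rfl
theorem L123818 : sm gg N17233 = N12768 := ded_17_2 (flp_b L98862) (flp_g L85916) L85910 L98846 L123816
theorem L123820 : sm gf N12764 = N17234 := rfl
theorem L123822 : sm ga N17234 = N17232 := ded_11_1 (flp_f L123814) L123778 L123820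
theorem L123824 : sm gg N17234 = N17227 := ded_29_3 L123772 (flp_f L98844) L98846 L123820
theorem L123826 : sm gd N12765 = N17235 := rfl
theorem L123828 : sm ga N17235 = N14771 := ded_9_1 (flp_d L109352) (flp_a L112133) L123826
theorem L123830 : sm gb N17235 = N12766 := ded_14_1 (flp_d L98850) L98848 L123826
theorem L123832 : sm gf N12765 = N17236 := rfl
theorem L123834 : sm ga N17236 = N14772 := ded_11_1 (flp_f L109354) (flp_a L112133) L123832
theorem L123836 : sm gc N17236 = N14108 := ded_20_1 L120483 (flp_c L112135) L123832
theorem L123838 : sm gg N12765 = N17237 := rfl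
theorem L123840 : sm ga N17237 = N14773 := ded_12_1 (flp_g L109358) (flp_a L112133) L123838
theorem L123844 : sm gc N12766 = N17238 := rfl
theorem L123846 : sm ga N17238 = N12769 := ded_8_1 (flp_c L98864) (flp_a L98852) L123844
theorem L123850 : sm ge N12766 = N17239 := rfl
theorem L123852 : sm ga N17239 = N12770 := ded_10_1 (flp_e L98866) (flp_a L98852) L123850
theorem L123854 : sm gg N12766 = N17240 := rfl
theorem L123856 : sm ga N17240 = N12771 := ded_12_1 (flp_g L98870) (flp_a L98852) L123854
theorem L123858 : sm gd N17240 = N12767 := ded_24_1 (flp_g L98854) L98850 L123854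
theorem L123860 : sm gf N17240 = N17056 := ded_29_2 (flp_g L122993) (flp_a L122979) L122981 L123854
theorem L123862 : sm gb N12767 = N17241 := rfl
theorem L123868 : sm gf N12768 = N17244 := rfl
theorem L123870 : sm gb N17244 = N17060 := ded_16_1 (flp_f L123009) (flp_b L98377) (flp_f L85920) L98862 L123868
theorem L123872 : sm gg N16744 = N17244 := ded_17_0 L123870 L123021 (flp_b L123023) (flp_g L121496) L121489
theorem L123874 : sm gd N12769 = N17245 := rfl
theorem L123878 : sm gc N17218 = N17245 := ded_28_0 (flp_d L123874) (flp_c L98864) (flp_d L85922) (flp_c L27233) (flp_d L27229) L85902 L98824 (flp_a L123730)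
theorem L123880 : sm ge N12769 = N17246 := rfl
theorem L123882 : sm gc N17246 = N12770 := ded_19_1 (flp_e L98866) L98864 L123880
theorem L123884 : sm gg N12769 = N17247 := rfl
theorem L123886 : sm gc N17247 = N12771 := ded_21_1 (flp_g L98870) L98864 L123884
theorem L123888 : sm gg N12770 = N17248 := rfl
theorem L123890 : sm ge N17248 = N12771 := ded_26_1 (flp_g L98870) L98866 L123888
theorem L123892 : sm gb N17248 = N15391 := ded_17_1 (flp_g L112604) L93815 (flp_g L85944) (flp_b L98868) L123888
theorem L123894 : sm gf N12771 = N17249 := rfl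
theorem L123896 : sm ga N17249 = N17056 := ded_11_1 (flp_f L123860) L123856 L123894
theorem L123898 : sm gd N17249 = N12772 := ded_23_1 (flp_f L98876) (flp_d L98872) L123894
theorem L123900 : sm gg N17249 = N17053 := ded_29_3 L122979 L98371 L98870 L123894
theorem L123902 : sm gb N12772 = N17250 := rfl
theorem L123904 : sm gf N17250 = N15398 := ded_16_2 (flp_b L112636) (flp_f L93834) (flp_b L85930) L98876 L123902
theorem L123906 : sm ga N12773 = N17251 := rfl
theorem L123908 : sm gf N17251 = N17251 := ded_11_2 (flp_a L123906) L98886 L123906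
theorem L123909 : sm gc N12773 = N17252 := rfl
theorem L123911 : sm gf N17252 = N17252 := ded_20_2 (flp_c L123909) L98886 L123909
theorem L123912 : sm gg N12773 = N17253 := rfl
theorem L123914 : sm gb N17253 = N17051 := ded_17_1 (flp_g L122973) (flp_b L98359) (flp_g L85936) L98884 L123912
theorem L123916 : sm ga N12774 = N17254 := rfl
theorem L123918 : sm gc N17254 = N17161 := ded_8_2 (flp_a L123484) (flp_c L98889) L123916
theorem L123920 : sm gd N12774 = N17255 := rfl
theorem L123922 : sm gb N17255 = N12775 := ded_14_1 (flp_d L98891) L98887 L123920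
theorem L123924 : sm gf N12774 = N17256 := rfl
theorem L123926 : sm gc N17256 = N17163 := ded_20_1 (flp_f L123490) (flp_c L98889) L123924
theorem L123928 : sm gb N17256 = N14835 := ded_16_1 (flp_f L109620) (flp_b L92141) (flp_f L85950) L98887 L123924
theorem L123930 : sm gg N12774 = N17257 := rfl
theorem L123932 : sm gc N17257 = N17164 := ded_21_1 (flp_g L123494) (flp_c L98889) L123930
theorem L123934 : sm gb N17257 = N12779 := ded_17_1 (flp_g L98913) (flp_b L85954) (flp_g L85952) L98887 L123930
theorem L123936 : sm ge N12775 = N17258 := rfl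
theorem L123938 : sm ga N17258 = N12781 := ded_10_1 (flp_e L98921) (flp_a L98893) L123936
theorem L123940 : sm gf N17258 = N14837 := ded_25_2 (flp_e L109629) (flp_f L98895) L123936
theorem L123942 : sm gg N17258 = N12781 := ded_26_2 (flp_e L98921) (flp_g L98897) L123936
theorem L123944 : sm gb N12776 = N17259 := rfl
theorem L123946 : sm gd N12776 = N17260 := rfl
theorem L123948 : sm ga N17260 = N12777 := ded_9_1 (flp_d L98903) L98899 L123946
theorem L123950 : sm gf N12776 = N17261 := rfl
theorem L123952 : sm ga N17261 = N12778 := ded_11_1 (flp_f L98907) L98899 L123950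
theorem L123954 : sm gc N17261 = N12784 := ded_20_1 (flp_f L98931) (flp_c L98901) L123950
theorem L123956 : sm gb N16976 = N17261 := ded_30_2 L123952 (flp_f L98907) L85956 (flp_b L27275) L13094 (flp_f L13082) (flp_c L13080) (flp_b L6440) L80660 (flp_f L3325) L3322 (flp_b L6366) (flp_a L12898) L26861 L26865 L26869 L85656 (flp_f L98167) L122617
theorem L123958 : N17259 = N16904 := coi_16_4 L122838 (flp_b L122830) (flp_f L122621) L123956 (flp_f L123950) L123944
theorem L123959 : N17259 = N16904 := eqc rfl L123958 rfl
theorem L123960 : sm gb N16904 = N12776 := trfs L123959 (flp_b L123944) rfl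
theorem L123962 : sm gc N12782 = N16916 := ded_13_4 (flp_b L122340) (flp_c L122296) L123960 L98901 L98925
theorem L123964 : N17254 = N16900 := coi_7_6 (flp_b L122274) L97935 L97945 L122294 L123960 (flp_a L98899) (flp_b L85954) (flp_a L85948) L98887 L123916
theorem L123965 : N17254 = N16900 := eqc rfl L123964 rfl
theorem L123966 : sm ga N16900 = N12774 := trfs L123965 (flp_a L123916) rfl
theorem L123968 : sm gc N16900 = N17161 := trfs L123965 L123918 rfl
theorem L123969 : N17161 = N17095 := eqes L123968 (flp_c L123169)
theorem L123970 : N17161 = N17095 := eqc rfl L123969 rfl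
theorem L123971 : sm ga N17095 = N12729 := trfs L123970 (flp_a L123484) rfl
theorem L123973 : N17178 = N17111 := coi_8_3 L123237 L123962 L122342 L123562
theorem L123974 : N17178 = N17111 := eqc rfl L123973 rfl
theorem L123975 : sm gc N17111 = N12737 := trfs L123974 (flp_c L123562) rfl
theorem L123977 : N17166 = N17099 := coi_7_7 (flp_a L123189) (flp_b L98513) (flp_a L98495) L123167 L123971 (flp_b L98706) L85856 L85862 L98716 L123506
theorem L123978 : N17166 = N17099 := eqc rfl L123977 rfl
theorem L123979 : sm gb N17099 = N12731 := trfs L123978 (flp_b L123506) rfl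
theorem L123981 : sm gg N12776 = N17262 := rfl
theorem L123983 : sm ga N17262 = N12779 := ded_12_1 (flp_g L98913) L98899 L123981
theorem L123985 : sm gc N17262 = N12785 := ded_21_1 (flp_g L98935) (flp_c L98901) L123981
theorem L123987 : sm gc N12777 = N17263 := rfl
theorem L123989 : sm ge N12777 = N17264 := rfl
theorem L123991 : sm gb N17264 = N12781 := ded_15_1 (flp_e L98921) (flp_b L98905) L123989
theorem L123993 : sm gf N12777 = N17265 := rfl
theorem L123995 : sm gd N17265 = N12778 := ded_23_1 (flp_f L98907) L98903 L123993
theorem L123997 : sm gb N17265 = N14797 := ded_16_1 L109456 L92089 (flp_f L85960) (flp_b L98905) L123993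
theorem L123999 : sm gg N12777 = N17266 := rfl
theorem L124001 : sm gd N17266 = N12779 := ded_24_1 (flp_g L98913) L98903 L123999
theorem L124003 : sm gg N12778 = N17267 := rfl
theorem L124005 : sm gc N17267 = N12790 := ded_21_1 (flp_g L98955) (flp_c L98909) L124003
theorem L124007 : sm gf N17262 = N17267 := ded_29_0 (flp_g L124003) (flp_f L98907) L98913 (flp_a L123983)
theorem L124009 : sm gf N12779 = N17268 := rfl
theorem L124011 : sm ga N17268 = N17267 := ded_11_1 (flp_f L124007) L123983 L124009
theorem L124013 : sm gc N17268 = N12791 := ded_20_1 (flp_f L98959) (flp_c L98915) L124009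
theorem L124015 : sm gg N17268 = N17261 := ded_29_3 L123952 (flp_f L98907) L98913 L124009
theorem L124017 : sm gb N12780 = N17269 := rfl
theorem L124019 : sm ge N12780 = N17270 := rfl
theorem L124021 : sm gc N17270 = N12781 := ded_19_1 (flp_e L98921) L98917 L124019
theorem L124023 : sm gf N17270 = N14839 := ded_25_2 (flp_e L109636) (flp_f L98919) L124019
theorem L124025 : sm gd N12782 = N17271 := rfl
theorem L124027 : sm gb N17271 = N12783 := ded_14_1 (flp_d L98927) L98925 L124025
theorem L124029 : sm gf N12782 = N17272 := rfl
theorem L124031 : sm gg N12782 = N17273 := rfl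
theorem L124033 : sm gc N12783 = N17274 := rfl
theorem L124035 : sm ga N17274 = N12786 := ded_8_1 (flp_c L98939) (flp_a L98929) L124033
theorem L124037 : sm ge N12783 = N17275 := rfl
theorem L124039 : sm ga N17275 = N12787 := ded_10_1 (flp_e L98941) (flp_a L98929) L124037
theorem L124041 : sm gf N12783 = N17276 := rfl
theorem L124043 : sm ga N17276 = N12788 := ded_11_1 (flp_f L98945) (flp_a L98929) L124041
theorem L124045 : sm gd N17276 = N12784 := ded_23_1 (flp_f L98931) L98927 L124041
theorem L124047 : sm gg N12783 = N17277 := rfl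
theorem L124049 : sm ga N17277 = N12789 := ded_12_1 (flp_g L98951) (flp_a L98929) L124047
theorem L124051 : sm gd N17277 = N12785 := ded_24_1 (flp_g L98935) L98927 L124047
theorem L124053 : sm gb N12784 = N17278 := rfl
theorem L124055 : sm gc N17278 = N16613 := ded_13_2 L120830 L122617 L123956 L123954 L124053
theorem L124057 : sm ga N17278 = N16915 := ded_30_3 L122336 (flp_c L98019) (flp_b L85561) L26829 (flp_f L12890) L12886 L12888 (flp_a L13005) (flp_f L81082) L22447 (flp_b L81325) (flp_a L21279) (flp_f L75019) L27263 L85954 L98899 L123950 L123954 L124053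
theorem L124059 : sm gf N16612 = N17278 := ded_20_0 L124055 (flp_f L120824) (flp_c L120822)
theorem L124061 : sm gb N17272 = N16612 := ded_16_5 L124059 (flp_b L124053) (flp_f L98931) L98925 L124029
theorem L124063 : sm gb N12785 = N17279 := rfl
theorem L124065 : sm gd N12786 = N17280 := rfl
theorem L124067 : sm ge N12786 = N17281 := rfl
theorem L124069 : sm gc N17281 = N12787 := ded_19_1 (flp_e L98941) L98939 L124067
theorem L124071 : sm gf N12786 = N17282 := rfl
theorem L124073 : sm gc N17282 = N12788 := ded_20_1 (flp_f L98945) L98939 L124071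
theorem L124075 : sm gg N12786 = N17283 := rfl
theorem L124077 : sm gc N17283 = N12789 := ded_21_1 (flp_g L98951) L98939 L124075
theorem L124079 : sm gf N12787 = N17284 := rfl
theorem L124081 : sm ge N17284 = N12788 := ded_25_1 (flp_f L98945) L98941 L124079
theorem L124083 : sm gb N17284 = N14792 := ded_16_1 (flp_f L109432) L92049 (flp_f L85978) (flp_b L98943) L124079
theorem L124085 : sm gg N12787 = N17285 := rfl
theorem L124087 : sm ge N17285 = N12789 := ded_26_1 (flp_g L98951) L98941 L124085
theorem L124089 : sm gg N12788 = N17286 := rfl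
theorem L124091 : sm gd N17286 = N12790 := ded_24_1 (flp_g L98955) (flp_d L98947) L124089
theorem L124093 : sm gf N17277 = N17286 := ded_29_0 (flp_g L124089) (flp_f L98945) L98951 (flp_a L124049)
theorem L124095 : sm gf N12789 = N17287 := rfl
theorem L124097 : sm ga N17287 = N17286 := ded_11_1 (flp_f L124093) L124049 L124095
theorem L124099 : sm gd N17287 = N12791 := ded_23_1 (flp_f L98959) (flp_d L98953) L124095
theorem L124101 : sm gg N17287 = N17276 := ded_29_3 L124043 (flp_f L98945) L98951 L124095
theorem L124103 : sm gb N12790 = N17288 := rfl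
theorem L124105 : sm gg N17288 = N14794 := ded_17_2 (flp_b L109444) (flp_g L92055) (flp_b L85970) L98955 L124103
theorem L124107 : sm gb N12791 = N17289 := rfl
theorem L124109 : sm gb N12792 = N17290 := rfl
theorem L124111 : sm ge N12792 = N17291 := rfl
theorem L124113 : sm ga N17291 = N12793 := ded_10_1 (flp_e L98967) L98965 L124111
theorem L124115 : sm gf N12792 = N17292 := rfl
theorem L124117 : sm ga N17292 = N12794 := ded_11_1 (flp_f L98971) L98965 L124115
theorem L124119 : sm gg N12792 = N17293 := rfl
theorem L124121 : sm ga N17293 = N12795 := ded_12_1 (flp_g L98973) L98965 L124119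
theorem L124123 : sm gd N12793 = N17294 := rfl
theorem L124125 : sm gb N17294 = N12796 := ded_14_1 (flp_d L98975) (flp_b L98969) L124123
theorem L124127 : sm gf N12793 = N17295 := rfl
theorem L124129 : sm ge N17295 = N12794 := ded_25_1 (flp_f L98971) L98967 L124127
theorem L124131 : sm gg N12793 = N17296 := rfl
theorem L124133 : sm ge N17296 = N12795 := ded_26_1 (flp_g L98973) L98967 L124131
theorem L124135 : sm gg N12794 = N17297 := rfl
theorem L124137 : sm gf N17293 = N17297 := ded_29_0 (flp_g L124135) (flp_f L98971) L98973 (flp_a L124121)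
theorem L124139 : sm gf N12795 = N17298 := rfl
theorem L124141 : sm ga N17298 = N17297 := ded_11_1 (flp_f L124137) L124121 L124139
theorem L124143 : sm gg N17298 = N17292 := ded_29_3 L124117 (flp_f L98971) L98973 L124139
theorem L124145 : sm gg N12797 = N17299 := rfl
theorem L124147 : sm ga N17299 = N12800 := ded_12_1 (flp_g L98990) L98977 L124145
theorem L124150 : sm gd N17299 = N13463 := ded_24_1 (flp_g L102821) (flp_d L119353) L124145
theorem L124152 : sm ge N17299 = N12800 := ded_26_1 (flp_g L98990) (flp_e L119355) L124145
theorem L124154 : sm gb N17299 = N12835 := ded_17_1 (flp_g L99191) L86097 (flp_g L85997) (flp_b L119350) L124145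
theorem L124156 : sm gg N12799 = N17300 := rfl
theorem L124158 : sm ga N17300 = N13461 := ded_12_1 (flp_g L102812) (flp_a L119067) L124156
theorem L124161 : sm gd N17300 = N13337 := ded_24_1 (flp_g L102195) (flp_d L119073) L124156
theorem L124163 : sm ge N17300 = N13461 := ded_26_1 (flp_g L102812) (flp_e L119075) L124156
theorem L124165 : sm gf N17299 = N17300 := ded_29_0 (flp_g L124156) (flp_f L98985) L98990 (flp_a L124147)
theorem L124167 : sm gb N12801 = N17301 := rfl
theorem L124169 : sm gd N17301 = N17176 := ded_14_2 (flp_b L123554) L99003 L124167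
theorem L124171 : sm gc N17301 = N14312 := ded_13_2 (flp_b L107001) (flp_c L90802) (flp_b L86003) L98995 L124167
theorem L124173 : sm ge N12801 = N17302 := rfl
theorem L124175 : sm ga N17302 = N12808 := ded_10_1 (flp_e L99047) (flp_a L98997) L124173
theorem L124177 : sm gc N17302 = N12802 := ded_19_1 (flp_e L99005) L98995 L124173
theorem L124179 : sm gf N17302 = N12808 := ded_25_2 (flp_e L99047) (flp_f L98999) L124173
theorem L124183 : sm gb N12803 = N17303 := rfl
theorem L124185 : sm gc N17303 = N12806 := ded_13_2 (flp_b L99035) (flp_c L86025) (flp_b L86011) L99017 L124183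
theorem L124187 : sm gd N12803 = N17304 := rfl
theorem L124193 : sm gf N12803 = N17306 := rfl
theorem L124197 : sm gc N17306 = N12805 := ded_20_1 (flp_f L99025) L99017 L124193
theorem L124213 : sm ga N12806 = N17308 := rfl
theorem L124215 : sm gd N12806 = N17309 := rfl
theorem L124217 : sm gb N17309 = N12807 := ded_14_1 (flp_d L99037) L99035 L124215
theorem L124219 : sm ge N12806 = N17310 := rfl
theorem L124221 : sm gb N17310 = N12808 := ded_15_1 (flp_e L99047) L99035 L124219
theorem L124223 : sm gf N12806 = N17311 := rfl
theorem L124225 : sm gg N12806 = N17312 := rfl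
theorem L124227 : sm gb N17312 = N14864 := ded_17_1 (flp_g L109760) (flp_b L92215) (flp_g L86027) L99035 L124225
theorem L124229 : sm ge N12807 = N17313 := rfl
theorem L124231 : sm ga N17313 = N17177 := ded_10_1 (flp_e L123556) (flp_a L99039) L124229
theorem L124233 : sm gc N17313 = N17165 := ded_19_1 (flp_e L123498) L99045 L124229
theorem L124235 : sm gf N17313 = N17177 := ded_25_2 (flp_e L123556) (flp_f L99041) L124229
theorem L124237 : sm gg N17313 = N14865 := ded_26_2 (flp_e L109762) (flp_g L99043) L124229
theorem L124239 : sm gd N12808 = N17314 := rfl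
theorem L124243 : sm gb N12809 = N17315 := rfl
theorem L124245 : sm gc N17315 = N12990 := ded_13_2 (flp_b L100093) L86757 (flp_b L86039) L99053 L124243
theorem L124247 : sm gd N12809 = N17316 := rfl
theorem L124249 : sm ga N17316 = N12813 := ded_9_1 (flp_d L99083) (flp_a L99055) L124247
theorem L124251 : sm gg N17316 = N12948 := ded_24_2 (flp_d L99919) (flp_g L99057) L124247
theorem L124253 : sm gc N17316 = N17304 := ded_28_6 (flp_d L124187) (flp_a L100244) (flp_c L100242) L86836 (flp_c L52183) L86035 L99053 L124247
theorem L124263 : sm gf N12809 = N17318 := rfl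
theorem L124267 : sm gc N17318 = N12811 := ded_20_1 (flp_f L99069) L99053 L124263
theorem L124283 : sm ga N12812 = N17320 := rfl
theorem L124285 : sm gc N17320 = N12819 := ded_8_2 (flp_a L99115) (flp_c L99081) L124283
theorem L124287 : sm gd N12812 = N17321 := rfl
theorem L124289 : sm gb N17321 = N12813 := ded_14_1 (flp_d L99083) L99079 L124287
theorem L124291 : sm ge N12812 = N17322 := rfl
theorem L124293 : sm gb N17322 = N12814 := ded_15_1 (flp_e L99085) L99079 L124291
theorem L124295 : sm gc N17322 = N12820 := ded_19_1 (flp_e L99119) (flp_c L99081) L124291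
theorem L124297 : sm gf N12812 = N17323 := rfl
theorem L124299 : sm gc N17323 = N12821 := ded_20_1 (flp_f L99123) (flp_c L99081) L124297
theorem L124301 : sm gg N12812 = N17324 := rfl
theorem L124303 : sm gc N17324 = N12822 := ded_21_1 (flp_g L99127) (flp_c L99081) L124301
theorem L124305 : sm gc N12813 = N17325 := rfl
theorem L124307 : sm ga N17325 = N17304 := ded_8_1 (flp_c L124253) L124249 L124305
theorem L124309 : sm gd N17325 = N13015 := ded_28_7 L100244 (flp_c L99017) (flp_d L86009) L27536 L27560 L86055 L99083 L124305
theorem L124311 : sm gg N13033 = N17325 := ded_24_0 L124309 L100248 L100343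
theorem L124313 : sm ge N12813 = N17326 := rfl
theorem L124315 : sm gf N12813 = N17327 := rfl
theorem L124319 : sm gg N12813 = N17328 := rfl
theorem L124321 : sm ga N17328 = N12948 := ded_12_1 (flp_g L124251) L124249 L124319
theorem L124323 : sm gc N17328 = N13033 := ded_21_1 L124311 (flp_c L124305) L124319
theorem L124325 : sm gd N17328 = N12816 := ded_24_1 (flp_g L99093) L99083 L124319
theorem L124329 : sm gf N12814 = N17330 := rfl
theorem L124331 : sm gc N17330 = N12817 := ded_20_1 (flp_f L99099) (flp_c L99087) L124329
theorem L124333 : sm ge N17330 = N12815 := ded_25_1 (flp_f L99089) L99085 L124329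
theorem L124335 : sm gg N12814 = N17331 := rfl
theorem L124341 : sm ge N17331 = N12816 := ded_26_1 (flp_g L99093) L99085 L124335
theorem L124345 : sm gb N12816 = N17333 := rfl
theorem L124347 : sm gc N17333 = N13631 := ded_13_2 (flp_b L103600) L88877 (flp_b L86073) (flp_c L99097) L124345
theorem L124349 : sm gb N12819 = N17334 := rfl
theorem L124351 : sm gd N17334 = N17198 := ded_14_2 (flp_b L123640) (flp_d L99117) L124349
theorem L124353 : sm ge N12819 = N17335 := rfl
theorem L124355 : sm ga N17335 = N12820 := ded_10_1 (flp_e L99119) L99115 L124353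
theorem L124357 : sm gf N12819 = N17336 := rfl
theorem L124359 : sm ga N17336 = N12821 := ded_11_1 (flp_f L99123) L99115 L124357
theorem L124361 : sm gd N17336 = N17200 := ded_23_1 (flp_f L123646) (flp_d L99117) L124357
theorem L124363 : sm gg N12819 = N17337 := rfl
theorem L124365 : sm ga N17337 = N12822 := ded_12_1 (flp_g L99127) L99115 L124363
theorem L124367 : sm gd N17337 = N17201 := ded_24_1 (flp_g L123650) (flp_d L99117) L124363
theorem L124369 : sm gd N12820 = N17338 := rfl
theorem L124371 : sm gb N17338 = N12823 := ded_14_1 (flp_d L99133) (flp_b L99121) L124369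
theorem L124373 : sm ge N17338 = N17202 := ded_22_2 (flp_d L123654) (flp_e L98784) (flp_d L86077) L99119 L124369
theorem L124375 : sm gf N12820 = N17339 := rfl
theorem L124377 : sm ge N17339 = N12821 := ded_25_1 (flp_f L99123) L99119 L124375
theorem L124379 : sm gg N12820 = N17340 := rfl
theorem L124381 : sm ge N17340 = N12822 := ded_26_1 (flp_g L99127) L99119 L124379
theorem L124383 : sm gb N17340 = N14684 := ded_17_1 L119695 L92164 (flp_g L86085) (flp_b L99121) L124379
theorem L124385 : sm gg N12821 = N17341 := rfl
theorem L124387 : sm gd N17341 = N17205 := ded_24_1 (flp_g L123666) (flp_d L99125) L124385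
theorem L124389 : sm gf N17337 = N17341 := ded_29_0 (flp_g L124385) (flp_f L99123) L99127 (flp_a L124365)
theorem L124391 : sm gf N12822 = N17342 := rfl
theorem L124393 : sm ga N17342 = N17341 := ded_11_1 (flp_f L124389) L124365 L124391
theorem L124395 : sm gd N17342 = N17206 := ded_23_1 (flp_f L123670) (flp_d L99129) L124391
theorem L124397 : sm gg N17342 = N17336 := ded_29_3 L124359 (flp_f L99123) L99127 L124391
theorem L124399 : sm ga N12824 = N17343 := rfl
theorem L124401 : sm gc N12824 = N17344 := rfl
theorem L124403 : sm gb N17344 = N12950 := ded_13_1 (flp_c L99923) (flp_b L86657) (flp_c L86089) L99141 L124401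
theorem L124405 : sm gd N12824 = N17345 := rfl
theorem L124407 : sm gb N17345 = N12825 := ded_14_1 (flp_d L99143) L99141 L124405
theorem L124409 : sm ge N12824 = N17346 := rfl
theorem L124411 : sm gb N17346 = N12826 := ded_15_1 (flp_e L99147) L99141 L124409
theorem L124413 : sm gf N12824 = N17347 := rfl
theorem L124415 : sm gg N12824 = N17348 := rfl
theorem L124417 : sm gc N12825 = N17349 := rfl
theorem L124419 : sm ga N17349 = N12829 := ded_8_1 (flp_c L99165) (flp_a L99145) L124417
theorem L124421 : sm ge N12825 = N17350 := rfl
theorem L124423 : sm ga N17350 = N12830 := ded_10_1 (flp_e L99169) (flp_a L99145) L124421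
theorem L124425 : sm gf N12825 = N17351 := rfl
theorem L124427 : sm ga N17351 = N12831 := ded_11_1 (flp_f L99173) (flp_a L99145) L124425
theorem L124429 : sm gd N17351 = N12827 := ded_23_1 (flp_f L99153) L99143 L124425
theorem L124431 : sm gg N12825 = N17352 := rfl
theorem L124433 : sm ga N17352 = N12832 := ded_12_1 (flp_g L99177) (flp_a L99145) L124431
theorem L124435 : sm gd N17352 = N12828 := ded_24_1 (flp_g L99159) L99143 L124431
theorem L124437 : sm gd N12826 = N17353 := rfl
theorem L124439 : sm ga N17353 = N12833 := ded_9_1 (flp_d L99181) (flp_a L99149) L124437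
theorem L124441 : sm gf N12826 = N17354 := rfl
theorem L124443 : sm ga N17354 = N12834 := ded_11_1 (flp_f L99185) (flp_a L99149) L124441
theorem L124449 : sm gg N12826 = N17355 := rfl
theorem L124451 : sm ga N17355 = N12835 := ded_12_1 (flp_g L99191) (flp_a L99149) L124449
theorem L124457 : sm gb N12827 = N17356 := rfl
theorem L124459 : sm gb N12828 = N17357 := rfl
theorem L124461 : sm gd N12829 = N17358 := rfl
theorem L124463 : sm gb N17358 = N17188 := ded_14_1 (flp_d L123596) (flp_b L99167) L124461
theorem L124465 : sm ge N12829 = N17359 := rfl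
theorem L124467 : sm gb N17359 = N17189 := ded_15_1 (flp_e L123598) (flp_b L99167) L124465
theorem L124469 : sm gc N17359 = N12830 := ded_19_1 (flp_e L99169) L99165 L124465
theorem L124471 : sm gf N12829 = N17360 := rfl
theorem L124473 : sm gc N17360 = N12831 := ded_20_1 (flp_f L99173) L99165 L124471
theorem L124475 : sm gg N12829 = N17361 := rfl
theorem L124477 : sm gc N17361 = N12832 := ded_21_1 (flp_g L99177) L99165 L124475
theorem L124479 : sm gd N12830 = N17362 := rfl
theorem L124481 : sm gb N17362 = N12838 := ded_14_1 (flp_d L99211) (flp_b L99171) L124479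
theorem L124483 : sm ge N17362 = N12833 := ded_22_2 (flp_d L99181) (flp_e L86095) L86091 L99169 L124479
theorem L124485 : sm gf N12830 = N17363 := rfl
theorem L124487 : sm ge N17363 = N12831 := ded_25_1 (flp_f L99173) L99169 L124485
theorem L124489 : sm gg N12830 = N17364 := rfl
theorem L124491 : sm ge N17364 = N12832 := ded_26_1 (flp_g L99177) L99169 L124489
theorem L124493 : sm gg N12831 = N17365 := rfl
theorem L124495 : sm gd N17365 = N12836 := ded_24_1 (flp_g L99197) (flp_d L99175) L124493
theorem L124497 : sm gf N17352 = N17365 := ded_29_0 (flp_g L124493) (flp_f L99173) L99177 (flp_a L124433)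
theorem L124499 : sm gf N12832 = N17366 := rfl
theorem L124501 : sm ga N17366 = N17365 := ded_11_1 (flp_f L124497) L124433 L124499
theorem L124505 : sm gg N17366 = N17351 := ded_29_3 L124427 (flp_f L99173) L99177 L124499
theorem L124507 : sm gc N12833 = N17367 := rfl
theorem L124509 : sm gf N12833 = N17368 := rfl
theorem L124511 : sm gd N17368 = N12834 := ded_23_1 (flp_f L99185) L99181 L124509
theorem L124513 : sm gg N12833 = N17369 := rfl
theorem L124519 : sm gg N12834 = N17370 := rfl
theorem L124521 : sm gc N17370 = N12963 := ded_21_1 (flp_g L99970) (flp_c L99187) L124519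
theorem L124523 : sm ge N17370 = N12836 := ded_26_1 (flp_g L99197) (flp_e L99189) L124519
theorem L124525 : sm gf N17355 = N17370 := ded_29_0 (flp_g L124519) (flp_f L99185) L99191 (flp_a L124451)
theorem L124537 : sm gb N12836 = N17372 := rfl
theorem L124539 : sm gb N12837 = N17373 := rfl
theorem L124541 : sm gb N12839 = N17374 := rfl
theorem L124543 : sm ge N12839 = N17375 := rfl
theorem L124545 : sm ga N17375 = N12840 := ded_10_1 (flp_e L99220) L99217 L124543
theorem L124548 : sm gf N12839 = N17376 := rfl
theorem L124550 : sm ga N17376 = N12841 := ded_11_1 (flp_f L99225) L99217 L124548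
theorem L124553 : sm gg N12839 = N17377 := rfl
theorem L124555 : sm ga N17377 = N12842 := ded_12_1 (flp_g L99230) L99217 L124553
theorem L124558 : sm gf N12840 = N17378 := rfl
theorem L124561 : sm ge N17378 = N12841 := ded_25_1 (flp_f L99225) L99220 L124558
theorem L124563 : sm gb N17378 = N12874 := ded_16_1 (flp_f L99413) L86208 (flp_f L86126) (flp_b L99222) L124558
theorem L124572 : sm gg N12841 = N17380 := rfl
theorem L124584 : sm gb N12843 = N17382 := rfl
theorem L124586 : sm gd N17382 = N17269 := ded_14_2 (flp_b L124017) L99243 L124584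
theorem L124588 : sm gc N17382 = N14261 := ded_13_2 (flp_b L106767) (flp_c L90676) (flp_b L86134) L99235 L124584
theorem L124590 : sm ge N12843 = N17383 := rfl
theorem L124592 : sm ga N17383 = N12849 := ded_10_1 (flp_e L99281) (flp_a L99237) L124590
theorem L124594 : sm gc N17383 = N12844 := ded_19_1 (flp_e L99245) L99235 L124590
theorem L124600 : sm gb N12845 = N17384 := rfl
theorem L124602 : sm gc N17384 = N12847 := ded_13_2 (flp_b L99269) (flp_c L86146) (flp_b L86142) L99257 L124600
theorem L124604 : sm gd N12845 = N17385 := rfl
theorem L124606 : sm gf N17385 = N17328 := ded_23_2 L124325 (flp_f L99259) L124604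
theorem L124614 : sm ga N12847 = N17387 := rfl
theorem L124616 : sm gd N12847 = N17388 := rfl
theorem L124618 : sm gb N17388 = N12848 := ded_14_1 (flp_d L99271) L99269 L124616
theorem L124620 : sm ge N12847 = N17389 := rfl
theorem L124622 : sm gb N17389 = N12849 := ded_15_1 (flp_e L99281) L99269 L124620
theorem L124624 : sm gf N12847 = N17390 := rfl
theorem L124626 : sm gb N17390 = N14890 := ded_16_1 (flp_f L109888) (flp_b L92288) (flp_f L86148) L99269 L124624
theorem L124628 : sm gg N12847 = N17391 := rfl
theorem L124630 : sm ge N12848 = N17392 := rfl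
theorem L124632 : sm ga N17392 = N17270 := ded_10_1 (flp_e L124019) (flp_a L99273) L124630
theorem L124634 : sm gc N17392 = N17258 := ded_19_1 (flp_e L123936) L99279 L124630
theorem L124636 : sm gf N17392 = N14892 := ded_25_2 (flp_e L109893) (flp_f L99275) L124630
theorem L124638 : sm gg N17392 = N17270 := ded_26_2 (flp_e L124019) (flp_g L99277) L124630
theorem L124644 : sm gb N12850 = N17394 := rfl
theorem L124646 : sm gc N17394 = N13075 := ded_13_2 (flp_b L100519) L87004 (flp_b L86160) L99287 L124644
theorem L124648 : sm gd N12850 = N17395 := rfl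
theorem L124650 : sm ga N17395 = N12853 := ded_9_1 (flp_d L99307) (flp_a L99289) L124648
theorem L124652 : sm gf N17395 = N13033 := ded_23_2 (flp_d L100343) (flp_f L99291) L124648
theorem L124654 : sm gc N17395 = N17385 := ded_28_6 (flp_d L124604) (flp_a L99820) (flp_c L99818) L86589 (flp_c L81874) L86156 L99287 L124648
theorem L124664 : sm ga N12852 = N17397 := rfl
theorem L124666 : sm gc N17397 = N12859 := ded_8_2 (flp_a L99343) (flp_c L99305) L124664
theorem L124668 : sm gd N12852 = N17398 := rfl
theorem L124670 : sm gb N17398 = N12853 := ded_14_1 (flp_d L99307) L99303 L124668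
theorem L124672 : sm ge N12852 = N17399 := rfl
theorem L124678 : sm gf N12852 = N17400 := rfl
theorem L124680 : sm gc N17400 = N12861 := ded_20_1 (flp_f L99351) (flp_c L99305) L124678
theorem L124682 : sm gg N12852 = N17401 := rfl
theorem L124684 : sm gc N17401 = N12862 := ded_21_1 (flp_g L99357) (flp_c L99305) L124682
theorem L124686 : sm gc N12853 = N17402 := rfl
theorem L124688 : sm ga N17402 = N17385 := ded_8_1 (flp_c L124654) L124650 L124686
theorem L124690 : sm gd N17402 = N12930 := ded_28_7 L99820 (flp_c L99257) (flp_d L86140) L27870 L27892 L86164 L99307 L124686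
theorem L124692 : sm gf N12948 = N17402 := ded_11_0 L124688 L124606 L124321
theorem L124694 : sm gg N17327 = N17402 := ded_29_3 L124688 L124606 (flp_g L124319) L124315
theorem L124696 : sm ge N12853 = N17403 := rfl
theorem L124698 : sm gf N12853 = N17404 := rfl
theorem L124700 : sm ga N17404 = N13033 := ded_11_1 (flp_f L124652) L124650 L124698
theorem L124702 : sm gc N17404 = N12948 := ded_20_1 L124692 (flp_c L124686) L124698
theorem L124704 : sm gd N17404 = N12855 := ded_23_1 (flp_f L99313) L99307 L124698
theorem L124706 : sm gg N17304 = N17404 := ded_12_0 L124700 L124311 L124307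
theorem L124708 : sm gg N12853 = N17405 := rfl
theorem L124710 : sm gc N17405 = N17327 := ded_21_1 L124694 (flp_c L124686) L124708
theorem L124736 : sm gb N12855 = N17409 := rfl
theorem L124738 : sm gc N17409 = N13648 := ded_13_2 (flp_b L103698) L88950 (flp_b L86178) (flp_c L99317) L124736
theorem L124742 : sm gb N12859 = N17411 := rfl
theorem L124744 : sm gd N17411 = N17290 := ded_14_2 (flp_b L124109) (flp_d L99345) L124742
theorem L124746 : sm ge N12859 = N17412 := rfl
theorem L124748 : sm ga N17412 = N12860 := ded_10_1 (flp_e L99347) L99343 L124746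
theorem L124750 : sm gf N12859 = N17413 := rfl
theorem L124752 : sm ga N17413 = N12861 := ded_11_1 (flp_f L99351) L99343 L124750
theorem L124754 : sm gd N17413 = N17292 := ded_23_1 (flp_f L124115) (flp_d L99345) L124750
theorem L124756 : sm gg N12859 = N17414 := rfl
theorem L124758 : sm ga N17414 = N12862 := ded_12_1 (flp_g L99357) L99343 L124756
theorem L124760 : sm gd N17414 = N17293 := ded_24_1 (flp_g L124119) (flp_d L99345) L124756
theorem L124762 : sm gd N12860 = N17415 := rfl
theorem L124764 : sm gb N17415 = N12863 := ded_14_1 (flp_d L99361) (flp_b L99349) L124762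
theorem L124766 : sm ge N17415 = N17294 := ded_22_2 (flp_d L124123) (flp_e L98967) (flp_d L86188) L99347 L124762
theorem L124768 : sm gf N12860 = N17416 := rfl
theorem L124770 : sm ge N17416 = N12861 := ded_25_1 (flp_f L99351) L99347 L124768
theorem L124772 : sm gb N17416 = N14877 := ded_16_1 (flp_f L109814) L92237 (flp_f L86196) (flp_b L99349) L124768
theorem L124774 : sm gg N12860 = N17417 := rfl
theorem L124776 : sm ge N17417 = N12862 := ded_26_1 (flp_g L99357) L99347 L124774
theorem L124778 : sm gg N12861 = N17418 := rfl
theorem L124780 : sm gd N17418 = N17297 := ded_24_1 (flp_g L124135) (flp_d L99353) L124778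
theorem L124782 : sm gf N17414 = N17418 := ded_29_0 (flp_g L124778) (flp_f L99351) L99357 (flp_a L124758)
theorem L124784 : sm gf N12862 = N17419 := rfl
theorem L124786 : sm ga N17419 = N17418 := ded_11_1 (flp_f L124782) L124758 L124784
theorem L124788 : sm gd N17419 = N17298 := ded_23_1 (flp_f L124139) (flp_d L99359) L124784
theorem L124790 : sm gg N17419 = N17413 := ded_29_3 L124752 (flp_f L99351) L99357 L124784
theorem L124792 : sm ga N12864 = N17420 := rfl
theorem L124794 : sm gc N12864 = N17421 := rfl
theorem L124796 : sm gb N17421 = N13035 := ded_13_1 (flp_c L100347) (flp_b L86904) (flp_c L86200) L99369 L124794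
theorem L124798 : sm gd N12864 = N17422 := rfl
theorem L124800 : sm gb N17422 = N12865 := ded_14_1 (flp_d L99371) L99369 L124798
theorem L124802 : sm ge N12864 = N17423 := rfl
theorem L124804 : sm gb N17423 = N12866 := ded_15_1 (flp_e L99375) L99369 L124802
theorem L124806 : sm gf N12864 = N17424 := rfl
theorem L124808 : sm gg N12864 = N17425 := rfl
theorem L124810 : sm gc N12865 = N17426 := rfl
theorem L124812 : sm ga N17426 = N12869 := ded_8_1 (flp_c L99393) (flp_a L99373) L124810
theorem L124814 : sm ge N12865 = N17427 := rfl
theorem L124816 : sm ga N17427 = N12870 := ded_10_1 (flp_e L99397) (flp_a L99373) L124814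
theorem L124818 : sm gf N12865 = N17428 := rfl
theorem L124820 : sm ga N17428 = N12871 := ded_11_1 (flp_f L99401) (flp_a L99373) L124818
theorem L124822 : sm gd N17428 = N12867 := ded_23_1 (flp_f L99381) L99371 L124818
theorem L124824 : sm gg N12865 = N17429 := rfl
theorem L124826 : sm ga N17429 = N12872 := ded_12_1 (flp_g L99405) (flp_a L99373) L124824
theorem L124830 : sm gd N12866 = N17430 := rfl
theorem L124832 : sm ga N17430 = N12873 := ded_9_1 (flp_d L99409) (flp_a L99377) L124830
theorem L124834 : sm gf N12866 = N17431 := rfl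
theorem L124836 : sm ga N17431 = N12874 := ded_11_1 (flp_f L99413) (flp_a L99377) L124834
theorem L124840 : sm ge N17431 = N12867 := ded_25_1 (flp_f L99381) L99375 L124834
theorem L124842 : sm gg N12866 = N17432 := rfl
theorem L124844 : sm ga N17432 = N12875 := ded_12_1 (flp_g L99419) (flp_a L99377) L124842
theorem L124848 : sm ge N17432 = N12868 := ded_26_1 (flp_g L99387) L99375 L124842
theorem L124850 : sm gb N12867 = N17433 := rfl
theorem L124854 : sm gd N12869 = N17435 := rfl
theorem L124856 : sm gb N17435 = N17280 := ded_14_1 (flp_d L124065) (flp_b L99395) L124854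
theorem L124858 : sm ge N12869 = N17436 := rfl
theorem L124860 : sm gb N17436 = N17281 := ded_15_1 (flp_e L124067) (flp_b L99395) L124858
theorem L124862 : sm gc N17436 = N12870 := ded_19_1 (flp_e L99397) L99393 L124858
theorem L124864 : sm gf N12869 = N17437 := rfl
theorem L124866 : sm gc N17437 = N12871 := ded_20_1 (flp_f L99401) L99393 L124864
theorem L124868 : sm gg N12869 = N17438 := rfl
theorem L124870 : sm gc N17438 = N12872 := ded_21_1 (flp_g L99405) L99393 L124868
theorem L124872 : sm gd N12870 = N17439 := rfl
theorem L124874 : sm gb N17439 = N12878 := ded_14_1 (flp_d L99439) (flp_b L99399) L124872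
theorem L124876 : sm ge N17439 = N12873 := ded_22_2 (flp_d L99409) (flp_e L86206) L86202 L99397 L124872
theorem L124878 : sm gf N12870 = N17440 := rfl
theorem L124880 : sm ge N17440 = N12871 := ded_25_1 (flp_f L99401) L99397 L124878
theorem L124882 : sm gg N12870 = N17441 := rfl
theorem L124884 : sm ge N17441 = N12872 := ded_26_1 (flp_g L99405) L99397 L124882
theorem L124886 : sm gg N12871 = N17442 := rfl
theorem L124890 : sm gf N17429 = N17442 := ded_29_0 (flp_g L124886) (flp_f L99401) L99405 (flp_a L124826)
theorem L124892 : sm gf N12872 = N17443 := rfl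
theorem L124894 : sm ga N17443 = N17442 := ded_11_1 (flp_f L124890) L124826 L124892
theorem L124896 : sm gd N17443 = N12877 := ded_23_1 (flp_f L99431) (flp_d L99407) L124892
theorem L124898 : sm gg N17443 = N17428 := ded_29_3 L124820 (flp_f L99401) L99405 L124892
theorem L124900 : sm gc N12873 = N17444 := rfl
theorem L124902 : sm gf N12873 = N17445 := rfl
theorem L124904 : sm gd N17445 = N12874 := ded_23_1 (flp_f L99413) L99409 L124902
theorem L124906 : sm gg N12873 = N17446 := rfl
theorem L124908 : sm gd N17446 = N12875 := ded_24_1 (flp_g L99419) L99409 L124906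
theorem L124910 : sm gg N12874 = N17447 := rfl
theorem L124916 : sm gf N17432 = N17447 := ded_29_0 (flp_g L124910) (flp_f L99413) L99419 (flp_a L124844)
theorem L124918 : sm gf N12875 = N17448 := rfl
theorem L124926 : sm gg N17448 = N17431 := ded_29_3 L124836 (flp_f L99413) L99419 L124918
theorem L124942 : sm gd N12881 = N17452 := rfl
theorem L124950 : sm ge N17452 = N12882 := ded_22_2 (flp_d L99477) (flp_e L86274) L86264 L99467 L124942
theorem L124962 : sm gg N12884 = N17455 := rfl
theorem L124966 : sm gd N17455 = N12885 := ded_24_1 (flp_g L99499) L99493 L124962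
theorem L125021 : sm ga N12892 = N17463 := rfl
theorem L125023 : sm ge N17463 = N15458 := ded_10_2 (flp_a L112908) (flp_e L99560) L125021
theorem L125025 : sm gf N12892 = N17464 := rfl
theorem L125027 : sm ge N17464 = N15460 := ded_25_1 (flp_f L112916) (flp_e L99560) L125025
theorem L125029 : sm gb N17464 = N17339 := ded_16_1 (flp_f L124375) L99121 (flp_f L86389) L99558 L125025
theorem L125041 : sm gd N12895 = N17466 := rfl
theorem L125045 : sm gb N17466 = N17452 := ded_14_1 (flp_d L124942) (flp_b L99586) L125041
theorem L125047 : sm gf N17466 = N14914 := ded_23_2 (flp_d L110039) (flp_f L99590) L125041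
theorem L125057 : sm gc N12897 = N17468 := rfl
theorem L125059 : sm ga N17468 = N12900 := ded_8_1 (flp_c L99624) (flp_a L99602) L125057
theorem L125087 : sm gd N12900 = N17472 := rfl
theorem L125122 : sm ga N12905 = N17477 := rfl
theorem L125124 : sm ge N17477 = N15537 := ded_10_2 (flp_a L113336) (flp_e L99667) L125122
theorem L125130 : sm gf N12905 = N17479 := rfl
theorem L125132 : sm ge N17479 = N15534 := ded_25_1 L113320 (flp_e L99667) L125130
theorem L125136 : sm gg N12905 = N17480 := rfl
theorem L125138 : sm ge N17480 = N15539 := ded_26_1 (flp_g L113344) (flp_e L99667) L125136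
theorem L125140 : sm gb N17480 = N17417 := ded_17_1 (flp_g L124774) L99349 (flp_g L86522) L99665 L125136
theorem L125142 : sm ga N12907 = N17481 := rfl
theorem L125144 : sm gc N17481 = N15715 := ded_8_2 (flp_a L114179) (flp_c L99681) L125142
theorem L125156 : sm gf N12907 = N17484 := rfl
theorem L125158 : sm gc N17484 = N15685 := ded_20_1 L114047 (flp_c L99681) L125156
theorem L125160 : sm gb N17484 = N15688 := ded_16_1 L114065 L94626 (flp_f L86528) L99679 L125156
theorem L125162 : sm gg N12907 = N17485 := rfl
theorem L125164 : sm gc N17485 = N15716 := ded_21_1 (flp_g L114181) (flp_c L99681) L125162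
theorem L125174 : sm gg N12908 = N17487 := rfl
theorem L125176 : sm ga N17487 = N12921 := ded_12_1 (flp_g L99763) (flp_a L99685) L125174
theorem L125206 : sm gc N12912 = N17492 := rfl
theorem L125208 : sm gg N17492 = N12986 := ded_21_2 (flp_c L100079) (flp_g L99717) L125206
theorem L125210 : sm gf N12912 = N17493 := rfl
theorem L125214 : sm gd N17493 = N12913 := ded_23_1 L99729 (flp_d L99715) L125210
theorem L125216 : sm gg N17493 = N12991 := ded_29_3 L100097 L90361 (flp_g L99717) L125210
theorem L125222 : sm gd N12914 = N17495 := rfl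
theorem L125224 : sm ga N17495 = N12915 := ded_9_1 (flp_d L99735) L99731 L125222
theorem L125226 : sm gc N17495 = N17358 := ded_28_6 (flp_d L124461) (flp_a L124419) (flp_c L124417) (flp_d L99143) L86089 (flp_d L86613) (flp_c L99733) L125222
theorem L125234 : sm gf N12914 = N17497 := rfl
theorem L125236 : sm ga N17497 = N12917 := ded_11_1 (flp_f L99745) L99731 L125234
theorem L125238 : sm gc N17497 = N12934 := ded_20_1 (flp_f L99840) (flp_c L99733) L125234
theorem L125240 : sm gg N12914 = N17498 := rfl
theorem L125242 : sm ga N17498 = N12918 := ded_12_1 (flp_g L99749) L99731 L125240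
theorem L125244 : sm gc N17498 = N12935 := ded_21_1 (flp_g L99846) (flp_c L99733) L125240
theorem L125246 : sm gc N12915 = N17499 := rfl
theorem L125248 : sm ga N17499 = N17358 := ded_8_1 (flp_c L125226) L125224 L125246
theorem L125250 : sm gd N17499 = N17349 := ded_28_7 L124419 (flp_c L99165) (flp_d L86091) L27606 (flp_d L29034) (flp_c L86554) L99735 L125246
theorem L125284 : sm gg N12917 = N17507 := rfl
theorem L125286 : sm gc N17507 = N12940 := ded_21_1 (flp_g L99873) (flp_c L99747) L125284
theorem L125290 : sm gb N12918 = N17508 := rfl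
theorem L125293 : sm gg N17508 = N12927 := ded_17_2 (flp_b L99793) (flp_g L86568) L86552 L99749 L125290
theorem L125303 : sm gb N12919 = N17510 := rfl
theorem L125305 : sm gd N17510 = N12925 := ded_14_2 (flp_b L99783) (flp_d L99757) L125303
theorem L125315 : sm gg N12919 = N17512 := rfl
theorem L125323 : sm gf N17487 = N17512 := ded_29_0 (flp_g L125315) (flp_f L99759) L99763 (flp_a L125176)
theorem L125353 : sm gg N12923 = N17520 := rfl
theorem L125357 : sm gc N17520 = N12929 := ded_21_1 (flp_g L99808) (flp_c L99773) L125353
theorem L125363 : sm gb N12924 = N17521 := rfl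
theorem L125365 : sm ge N17521 = N12927 := ded_15_2 (flp_b L99793) (flp_e L99781) L125363
theorem L125370 : sm gc N12925 = N17523 := rfl
theorem L125372 : sm gb N17523 = N12930 := ded_13_1 (flp_c L99818) (flp_b L86587) (flp_c L86566) L99783 L125370
theorem L125398 : sm ga N12932 = N17530 := rfl
theorem L125402 : sm gb N17530 = N12949 := ded_7_2 (flp_a L99921) (flp_b L86657) (flp_a L29077) (flp_b L14031) (flp_a L14007) L29032 L86611 L99832 L125398
theorem L125404 : sm gc N12932 = N17531 := rfl
theorem L125410 : sm gf N12932 = N17533 := rfl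
theorem L125412 : sm gd N17533 = N12952 := ded_23_1 (flp_f L99929) (flp_d L99834) L125410
theorem L125414 : sm gg N12932 = N17534 := rfl
theorem L125424 : sm gf N12933 = N17536 := rfl
theorem L125426 : sm ga N17536 = N12937 := ded_11_1 (flp_f L99858) (flp_a L99838) L125424
theorem L125428 : sm ge N17536 = N12934 := ded_25_1 (flp_f L99840) L99836 L125424
theorem L125430 : sm gg N12933 = N17537 := rfl
theorem L125434 : sm ge N17537 = N12935 := ded_26_1 (flp_g L99846) L99836 L125430
theorem L125436 : sm gb N12934 = N17538 := rfl
theorem L125438 : sm gd N17538 = N12957 := ded_14_2 (flp_b L99949) (flp_d L99844) L125436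
theorem L125440 : sm gb N12935 = N17539 := rfl
theorem L125442 : sm gd N17539 = N12958 := ded_14_2 (flp_b L99951) (flp_d L99850) L125440
theorem L125444 : sm gc N12936 = N17540 := rfl
theorem L125446 : sm ge N17540 = N12959 := ded_19_2 (flp_c L99953) (flp_e L99856) L125444
theorem L125448 : sm gf N12936 = N17541 := rfl
theorem L125452 : sm ge N17541 = N12960 := ded_25_1 (flp_f L99955) (flp_e L99856) L125448
theorem L125461 : sm gb N12937 = N17543 := rfl
theorem L125463 : sm ge N17543 = N12939 := ded_15_2 (flp_b L99867) (flp_e L99860) L125461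
theorem L125465 : sm gf N17543 = N12943 := ded_16_2 (flp_b L99897) (flp_f L86635) (flp_b L86617) L99858 L125461
theorem L125473 : sm gf N12938 = N17545 := rfl
theorem L125479 : sm gg N17545 = N17536 := ded_29_3 L125426 (flp_f L99858) L99862 L125473
theorem L125481 : sm ga N12939 = N17546 := rfl
theorem L125483 : sm gd N17546 = N12965 := ded_9_2 (flp_a L99984) (flp_d L99869) L125481
theorem L125485 : sm gf N17546 = N12944 := ded_11_2 (flp_a L99901) (flp_f L99871) L125481
theorem L125487 : sm gc N12939 = N17547 := rfl
theorem L125489 : sm gf N17547 = N12945 := ded_20_2 (flp_c L99905) (flp_f L99871) L125487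
theorem L125491 : sm gg N12939 = N17548 := rfl
theorem L125493 : sm gd N17548 = N12967 := ded_24_1 (flp_g L99992) (flp_d L99869) L125491
theorem L125495 : sm gb N12940 = N17549 := rfl
theorem L125497 : sm gd N17549 = N12968 := ded_14_2 (flp_b L99994) (flp_d L99875) L125495
theorem L125510 : sm ga N12943 = N17552 := rfl
theorem L125512 : sm ge N17552 = N12944 := ded_10_2 (flp_a L99901) (flp_e L99899) L125510
theorem L125514 : sm gc N12943 = N17553 := rfl
theorem L125516 : sm ge N17553 = N12945 := ded_19_2 (flp_c L99905) (flp_e L99899) L125514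
theorem L125520 : sm gg N12943 = N17554 := rfl
theorem L125524 : sm gb N17554 = N12975 := ded_17_1 (flp_g L100023) (flp_b L86707) (flp_g L86643) L99897 L125520
theorem L125526 : sm gb N12944 = N17555 := rfl
theorem L125528 : sm gd N17555 = N12976 := ded_14_2 (flp_b L100027) (flp_d L99903) L125526
theorem L125530 : sm gc N12944 = N17556 := rfl
theorem L125532 : sm ga N17556 = N12945 := ded_8_1 (flp_c L99905) L99901 L125530
theorem L125534 : sm gg N12944 = N17557 := rfl
theorem L125536 : sm ga N17557 = N12946 := ded_12_1 (flp_g L99909) L99901 L125534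
theorem L125540 : sm gf N17557 = N17548 := ded_29_2 (flp_g L125491) L125481 L125485 L125534
theorem L125542 : sm gd N12945 = N17558 := rfl
theorem L125544 : sm gb N17558 = N12948 := ded_14_1 (flp_d L99919) (flp_b L99907) L125542
theorem L125546 : sm gg N12945 = N17559 := rfl
theorem L125548 : sm gc N17559 = N12946 := ded_21_1 (flp_g L99909) L99905 L125546
theorem L125550 : sm gf N12946 = N17560 := rfl
theorem L125552 : sm ga N17560 = N17548 := ded_11_1 (flp_f L125540) L125536 L125550
theorem L125554 : sm gd N17560 = N12981 := ded_23_1 (flp_f L100047) (flp_d L99911) L125550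
theorem L125556 : sm gg N17560 = N17546 := ded_29_3 (flp_a L125481) L99871 L99909 L125550
theorem L125560 : sm ge N12948 = N17562 := rfl
theorem L125562 : sm gc N12949 = N17563 := rfl
theorem L125564 : sm ga N17563 = N12950 := ded_8_1 (flp_c L99923) L99921 L125562
theorem L125570 : sm gf N12949 = N17565 := rfl
theorem L125572 : sm ga N17565 = N12952 := ded_11_1 (flp_f L99929) L99921 L125570
theorem L125574 : sm gg N12949 = N17566 := rfl
theorem L125576 : sm ga N17566 = N12953 := ded_12_1 (flp_g L99931) L99921 L125574
theorem L125578 : sm gd N12950 = N17567 := rfl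
theorem L125580 : sm ge N12950 = N17568 := rfl
theorem L125582 : sm gc N17568 = N12951 := ded_19_1 (flp_e L99925) L99923 L125580
theorem L125584 : sm gf N12950 = N17569 := rfl
theorem L125586 : sm gc N17569 = N12952 := ded_20_1 (flp_f L99929) L99923 L125584
theorem L125588 : sm gg N12950 = N17570 := rfl
theorem L125596 : sm gf N12951 = N17572 := rfl
theorem L125598 : sm ge N17572 = N12952 := ded_25_1 (flp_f L99929) L99925 L125596
theorem L125604 : sm gb N12952 = N17574 := rfl
theorem L125606 : sm gf N17574 = N12957 := ded_16_2 (flp_b L99949) (flp_f L86663) L86657 L99929 L125604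
theorem L125608 : sm gg N12952 = N17575 := rfl
theorem L125610 : sm gf N17566 = N17575 := ded_29_0 (flp_g L125608) (flp_f L99929) L99931 (flp_a L125576)
theorem L125612 : sm gb N12953 = N17576 := rfl
theorem L125614 : sm gg N17576 = N12958 := ded_17_2 (flp_b L99951) (flp_g L86667) L86657 L99931 L125612
theorem L125638 : sm gb N12955 = N17581 := rfl
theorem L125640 : sm ge N17581 = N12957 := ded_15_2 (flp_b L99949) (flp_e L99941) L125638
theorem L125642 : sm gb N12956 = N17582 := rfl
theorem L125644 : sm ge N17582 = N12958 := ded_15_2 (flp_b L99951) (flp_e L99947) L125642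
theorem L125646 : sm ga N12957 = N17583 := rfl
theorem L125648 : sm gc N12957 = N17584 := rfl
theorem L125650 : sm gg N12957 = N17585 := rfl
theorem L125652 : sm ga N12958 = N17586 := rfl
theorem L125654 : sm gc N12958 = N17587 := rfl
theorem L125656 : sm gf N12958 = N17588 := rfl
theorem L125692 : sm ga N12962 = N17596 := rfl
theorem L125694 : sm ge N17596 = N12965 := ded_10_2 (flp_a L99984) (flp_e L99966) L125692
theorem L125696 : sm gf N17596 = N12973 := ded_11_2 (flp_a L100013) (flp_f L99968) L125692
theorem L125698 : sm gc N12962 = N17597 := rfl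
theorem L125700 : sm ge N17597 = N12966 := ded_19_2 (flp_c L99988) (flp_e L99966) L125698
theorem L125702 : sm gf N17597 = N12974 := ded_20_2 (flp_c L100017) (flp_f L99968) L125698
theorem L125717 : sm gb N12965 = N17601 := rfl
theorem L125719 : sm gc N12965 = N17602 := rfl
theorem L125721 : sm ga N17602 = N12966 := ded_8_1 (flp_c L99988) L99984 L125719
theorem L125723 : sm gf N17602 = N12977 := ded_20_2 (flp_c L100029) (flp_f L99986) L125719
theorem L125725 : sm gd N12966 = N17603 := rfl
theorem L125727 : sm gf N17603 = N12979 := ded_23_2 (flp_d L100039) (flp_f L99990) L125725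
theorem L125729 : sm gg N12966 = N17604 := rfl
theorem L125731 : sm gc N17604 = N12967 := ded_21_1 (flp_g L99992) L99988 L125729
theorem L125733 : sm gb N12967 = N17605 := rfl
theorem L125735 : sm gg N17605 = N12968 := ded_17_2 (flp_b L99994) (flp_g L86688) L86684 L99992 L125733
theorem L125737 : sm ga N12968 = N17606 := rfl
theorem L125739 : sm gc N12968 = N17607 := rfl
theorem L125741 : sm gf N12968 = N17608 := rfl
theorem L125743 : sm gb N17608 = N17588 := ded_16_1 (flp_f L125656) (flp_b L99951) L86690 L99994 L125741
theorem L125751 : sm gg N12969 = N17611 := rfl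
theorem L125753 : sm gb N17611 = N17585 := ded_17_1 (flp_g L125650) (flp_b L99949) (flp_g L86696) L99996 L125751
theorem L125763 : sm gg N12970 = N17614 := rfl
theorem L125765 : sm gd N17614 = N13221 := ded_24_1 (flp_g L101426) (flp_d L100001) L125763
theorem L125768 : sm gb N12971 = N17615 := rfl
theorem L125770 : sm gd N17615 = N13222 := ded_14_2 (flp_b L101431) (flp_d L100007) L125768
theorem L125782 : sm gb N12973 = N17619 := rfl
theorem L125784 : sm ge N17619 = N12976 := ded_15_2 (flp_b L100027) (flp_e L100015) L125782
theorem L125786 : sm gc N12973 = N17620 := rfl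
theorem L125788 : sm ga N17620 = N12974 := ded_8_1 (flp_c L100017) L100013 L125786
theorem L125790 : sm ge N17620 = N12977 := ded_19_2 (flp_c L100029) (flp_e L100015) L125786
theorem L125804 : sm gg N12974 = N17623 := rfl
theorem L125806 : sm gc N17623 = N12975 := ded_21_1 (flp_g L100023) L100017 L125804
theorem L125808 : sm ge N17623 = N12980 := ded_26_1 (flp_g L100043) (flp_e L100019) L125804
theorem L125810 : sm gf N12975 = N17624 := rfl
theorem L125814 : sm ge N17624 = N12981 := ded_25_1 (flp_f L100047) (flp_e L100025) L125810
theorem L125816 : sm gg N17624 = N17596 := ded_29_3 (flp_a L125692) L99968 L100023 L125810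
theorem L125818 : sm ga N12976 = N17625 := rfl
theorem L125820 : sm gc N12976 = N17626 := rfl
theorem L125822 : sm gf N12976 = N17627 := rfl
theorem L125824 : sm gg N12976 = N17628 := rfl
theorem L125826 : sm gb N12977 = N17629 := rfl
theorem L125828 : sm gd N12977 = N17630 := rfl
theorem L125830 : sm ga N17630 = N12979 := ded_9_1 (flp_d L100039) (flp_a L100031) L125828
theorem L125832 : sm gg N12977 = N17631 := rfl
theorem L125834 : sm ga N17631 = N12980 := ded_12_1 (flp_g L100043) (flp_a L100031) L125832
theorem L125838 : sm gf N17631 = N17604 := ded_29_2 (flp_g L125729) (flp_a L125721) L125723 L125832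
theorem L125842 : sm gc N12979 = N17633 := rfl
theorem L125844 : sm ge N12979 = N17634 := rfl
theorem L125846 : sm gb N17634 = N12988 := ded_15_1 (flp_e L100083) (flp_b L100041) L125844
theorem L125848 : sm gg N12979 = N17635 := rfl
theorem L125850 : sm gd N17635 = N12980 := ded_24_1 (flp_g L100043) L100039 L125848
theorem L125852 : sm gb N12980 = N17636 := rfl
theorem L125854 : sm gg N17636 = N12990 := ded_17_2 (flp_b L100093) (flp_g L86753) (flp_b L86715) L100043 L125852
theorem L125856 : sm gf N12980 = N17637 := rfl
theorem L125858 : sm ga N17637 = N17604 := ded_11_1 (flp_f L125838) L125834 L125856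
theorem L125860 : sm gc N17637 = N12981 := ded_20_1 (flp_f L100047) (flp_c L100045) L125856
theorem L125862 : sm gg N17637 = N17602 := ded_29_3 L125721 L99990 L100043 L125856
theorem L125864 : sm gb N12981 = N17638 := rfl
theorem L125866 : sm gc N12982 = N17639 := rfl
theorem L125868 : sm ge N17639 = N12986 := ded_19_2 (flp_c L100079) (flp_e L100057) L125866
theorem L125870 : sm gb N12983 = N17640 := rfl
theorem L125872 : sm ge N17640 = N12987 := ded_15_2 (flp_b L100081) (flp_e L100063) L125870
theorem L125874 : sm gd N12983 = N17641 := rfl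
theorem L125876 : sm ga N17641 = N12984 := ded_9_1 (flp_d L100067) (flp_a L100061) L125874
theorem L125878 : sm gg N17641 = N15700 := ded_24_2 L114121 (flp_g L100065) L125874
theorem L125880 : sm gc N17641 = N13069 := ded_28_6 (flp_d L100491) (flp_a L100485) (flp_c L100483) L86968 (flp_c L83749) (flp_d L86721) L100059 L125874
theorem L125882 : sm gc N12984 = N17642 := rfl
theorem L125884 : sm ga N17642 = N13069 := ded_8_1 (flp_c L125880) L125876 L125882
theorem L125886 : sm gf N17642 = N15828 := ded_20_2 L114684 L113188 L125882
theorem L125890 : sm ge N12984 = N17643 := rfl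
theorem L125892 : sm gd N17643 = N12988 := ded_22_1 (flp_e L100083) (flp_d L86751) (flp_e L86729) L100067 L125890
theorem L125894 : sm gg N12984 = N17644 := rfl
theorem L125896 : sm ga N17644 = N15700 := ded_12_1 (flp_g L125878) L125876 L125894
theorem L125900 : sm gf N15698 = N17644 := ded_29_0 (flp_g L125894) (flp_f L113188) L113190 (flp_a L114111)
theorem L125902 : sm gb N12985 = N17645 := rfl
theorem L125904 : sm ge N17645 = N12990 := ded_15_2 (flp_b L100093) (flp_e L100075) L125902
theorem L125906 : sm gb N12986 = N17646 := rfl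
theorem L125908 : sm gc N17646 = N12987 := ded_13_2 (flp_b L100081) (flp_c L86745) L86741 L100079 L125906
theorem L125910 : sm gd N12986 = N17647 := rfl
theorem L125912 : sm ga N12987 = N17648 := rfl
theorem L125914 : sm gf N12987 = N17649 := rfl
theorem L125916 : sm gg N12987 = N17650 := rfl
theorem L125918 : sm gb N17650 = N15716 := ded_17_1 (flp_g L114181) (flp_b L94686) (flp_g L86749) L100081 L125916
theorem L125920 : sm gg N12988 = N17651 := rfl
theorem L125922 : sm ga N17651 = N15713 := ded_12_1 (flp_g L114738) L114734 L125920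
theorem L125924 : sm ge N17651 = N12989 := ded_26_1 (flp_g L100085) L100083 L125920
theorem L125926 : sm gf N15710 = N17651 := ded_29_0 (flp_g L125920) (flp_f L113216) L113218 (flp_a L114157)
theorem L125928 : sm gb N12989 = N17652 := rfl
theorem L125930 : sm gd N17652 = N12990 := ded_14_2 (flp_b L100093) (flp_d L100089) L125928
theorem L125932 : sm ga N12990 = N17653 := rfl
theorem L125934 : sm gf N12990 = N17654 := rfl
theorem L125936 : sm gb N17654 = N15708 := ded_16_1 (flp_f L114151) (flp_b L94666) L86759 L100093 L125934
theorem L125954 : sm ga N12992 = N17657 := rfl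
theorem L125956 : sm gc N17657 = N15843 := ded_8_2 (flp_a L114752) (flp_c L100105) L125954
theorem L125968 : sm gf N12992 = N17660 := rfl
theorem L125970 : sm gc N17660 = N15844 := ded_20_1 (flp_f L114754) (flp_c L100105) L125968
theorem L125972 : sm gg N12992 = N17661 := rfl
theorem L125974 : sm gc N17661 = N15813 := ded_21_1 L114608 (flp_c L100105) L125972
theorem L125976 : sm gb N17661 = N15816 := ded_17_1 L114626 L94905 (flp_g L86775) L100103 L125972
theorem L125986 : sm gf N12993 = N17663 := rfl
theorem L125988 : sm ga N17663 = N13006 := ded_11_1 (flp_f L100187) (flp_a L100109) L125986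
theorem L126010 : sm gb N12996 = N17667 := rfl
theorem L126012 : sm gd N17667 = N13125 := ded_14_2 (flp_b L100827) (flp_d L100133) L126010
theorem L126018 : sm gc N12997 = N17668 := rfl
theorem L126020 : sm gf N17668 = N13071 := ded_20_2 (flp_c L100503) (flp_f L100141) L126018
theorem L126022 : sm gg N12997 = N17669 := rfl
theorem L126026 : sm gd N17669 = N12998 := ded_24_1 (flp_g L100153) (flp_d L100139) L126022
theorem L126028 : sm gf N13076 = N17669 := ded_29_0 (flp_g L126022) L100141 (flp_g L90181) (flp_a L100523)
theorem L126034 : sm gd N12999 = N17671 := rfl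
theorem L126036 : sm ga N17671 = N13000 := ded_9_1 (flp_d L100159) L100155 L126034
theorem L126038 : sm gc N17671 = N17435 := ded_28_6 (flp_d L124854) (flp_a L124812) (flp_c L124810) (flp_d L99371) L86200 (flp_d L86860) (flp_c L100157) L126034
theorem L126040 : sm ge N12999 = N17672 := rfl
theorem L126044 : sm gc N17672 = N13018 := ded_19_1 (flp_e L100260) (flp_c L100157) L126040
theorem L126046 : sm gf N12999 = N17673 := rfl
theorem L126048 : sm ga N17673 = N13002 := ded_11_1 (flp_f L100169) L100155 L126046
theorem L126058 : sm gc N13000 = N17675 := rfl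
theorem L126060 : sm ga N17675 = N17435 := ded_8_1 (flp_c L126038) L126036 L126058
theorem L126062 : sm gd N17675 = N17426 := ded_28_7 L124812 (flp_c L99393) (flp_d L86202) L27938 (flp_d L29200) (flp_c L86801) L100159 L126058
theorem L126064 : sm ge N13000 = N17676 := rfl
theorem L126066 : sm gb N17676 = N13005 := ded_15_1 (flp_e L100185) (flp_b L100161) L126064
theorem L126072 : sm gg N13000 = N17678 := rfl
theorem L126074 : sm gd N17678 = N13003 := ded_24_1 (flp_g L100173) L100159 L126072
theorem L126107 : sm gf N13003 = N17685 := rfl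
theorem L126113 : sm gg N17685 = N17673 := ded_29_3 L126048 (flp_f L100169) L100173 L126107
theorem L126119 : sm ge N13004 = N17687 := rfl
theorem L126123 : sm gc N17687 = N13005 := ded_19_1 (flp_e L100185) L100177 L126119
theorem L126127 : sm gf N13004 = N17688 := rfl
theorem L126135 : sm gg N17688 = N17663 := ded_29_3 L125988 (flp_f L100187) L100183 L126127
theorem L126170 : sm gf N13009 = N17697 := rfl
theorem L126174 : sm gc N17697 = N13014 := ded_20_1 (flp_f L100232) (flp_c L100203) L126170
theorem L126216 : sm gc N13017 = N17707 := rfl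
theorem L126218 : sm ge N13017 = N17708 := rfl
theorem L126220 : sm gb N17708 = N13018 := ded_15_1 (flp_e L100260) L100256 L126218
theorem L126222 : sm gf N13017 = N17709 := rfl
theorem L126224 : sm gd N17709 = N13037 := ded_23_1 (flp_f L100353) (flp_d L100258) L126222
theorem L126226 : sm gg N13017 = N17710 := rfl
theorem L126228 : sm gd N17710 = N13038 := ded_24_1 (flp_g L100355) (flp_d L100258) L126226
theorem L126242 : sm gg N13018 = N17713 := rfl
theorem L126244 : sm ga N17713 = N13023 := ded_12_1 (flp_g L100287) (flp_a L100262) L126242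
theorem L126248 : sm gb N13019 = N17714 := rfl
theorem L126250 : sm gd N17714 = N13042 := ded_14_2 (flp_b L100373) (flp_d L100268) L126248
theorem L126267 : sm gg N13021 = N17718 := rfl
theorem L126271 : sm ge N17718 = N13046 := ded_26_1 (flp_g L100384) (flp_e L100280) L126267
theorem L126273 : sm gg N13022 = N17719 := rfl
theorem L126277 : sm gf N17713 = N17719 := ded_29_0 (flp_g L126273) (flp_f L100282) L100287 (flp_a L126244)
theorem L126279 : sm gb N13023 = N17720 := rfl
theorem L126281 : sm ge N17720 = N13025 := ded_15_2 (flp_b L100297) (flp_e L100289) L126279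
theorem L126283 : sm gg N17720 = N13028 := ded_17_2 (flp_b L100321) (flp_g L86882) (flp_b L86864) L100287 L126279
theorem L126298 : sm ga N13025 = N17723 := rfl
theorem L126300 : sm gd N17723 = N13051 := ded_9_2 (flp_a L100411) (flp_d L100299) L126298
theorem L126302 : sm gg N17723 = N13029 := ded_12_2 (flp_a L100325) (flp_g L100301) L126298
theorem L126304 : sm gc N13025 = N17724 := rfl
theorem L126306 : sm gg N17724 = N13030 := ded_21_2 (flp_c L100329) (flp_g L100301) L126304
theorem L126308 : sm gf N13025 = N17725 := rfl
theorem L126312 : sm gb N13026 = N17726 := rfl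
theorem L126314 : sm gd N17726 = N13054 := ded_14_2 (flp_b L100421) (flp_d L100307) L126312
theorem L126322 : sm ga N13028 = N17728 := rfl
theorem L126324 : sm ge N17728 = N13029 := ded_10_2 (flp_a L100325) (flp_e L100323) L126322
theorem L126326 : sm gc N13028 = N17729 := rfl
theorem L126328 : sm ge N17729 = N13030 := ded_19_2 (flp_c L100329) (flp_e L100323) L126326
theorem L126332 : sm gf N13028 = N17730 := rfl
theorem L126334 : sm ge N17730 = N13031 := ded_25_1 (flp_f L100333) (flp_e L100323) L126332
theorem L126338 : sm gb N13029 = N17731 := rfl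
theorem L126340 : sm gd N17731 = N13061 := ded_14_2 (flp_b L100451) (flp_d L100327) L126338
theorem L126342 : sm gc N13029 = N17732 := rfl
theorem L126344 : sm ga N17732 = N13030 := ded_8_1 (flp_c L100329) L100325 L126342
theorem L126346 : sm gf N13029 = N17733 := rfl
theorem L126348 : sm ga N17733 = N13031 := ded_11_1 (flp_f L100333) L100325 L126346
theorem L126350 : sm gd N17733 = N13063 := ded_23_1 (flp_f L100457) (flp_d L100327) L126346
theorem L126352 : sm gg N17725 = N17733 := ded_29_1 (flp_f L126346) (flp_g L126302) (flp_a L126298) L126308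
theorem L126354 : sm gd N13030 = N17734 := rfl
theorem L126356 : sm gb N17734 = N13033 := ded_14_1 (flp_d L100343) (flp_b L100331) L126354
theorem L126358 : sm gf N13030 = N17735 := rfl
theorem L126360 : sm gc N17735 = N13031 := ded_20_1 (flp_f L100333) L100329 L126358
theorem L126362 : sm gg N13031 = N17736 := rfl
theorem L126364 : sm ga N17736 = N17725 := ded_12_1 L126352 L126348 L126362
theorem L126366 : sm gd N17736 = N13066 := ded_24_1 (flp_g L100471) (flp_d L100335) L126362
theorem L126368 : sm gf N17723 = N17736 := ded_29_0 (flp_g L126362) (flp_f L100333) (flp_g L100301) L126298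
theorem L126372 : sm ge N13033 = N17738 := rfl
theorem L126374 : sm gc N13034 = N17739 := rfl
theorem L126376 : sm ga N17739 = N13035 := ded_8_1 (flp_c L100347) L100345 L126374
theorem L126386 : sm gg N13034 = N17742 := rfl
theorem L126388 : sm ga N17742 = N13038 := ded_12_1 (flp_g L100355) L100345 L126386
theorem L126390 : sm gd N13035 = N17743 := rfl
theorem L126392 : sm ge N13035 = N17744 := rfl
theorem L126394 : sm gc N17744 = N13036 := ded_19_1 (flp_e L100349) L100347 L126392
theorem L126400 : sm gg N13035 = N17746 := rfl
theorem L126402 : sm gc N17746 = N13038 := ded_21_1 (flp_g L100355) L100347 L126400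
theorem L126404 : sm gd N13036 = N17747 := rfl
theorem L126406 : sm gb N17747 = N13039 := ded_14_1 (flp_d L100357) (flp_b L100351) L126404
theorem L126412 : sm gg N13036 = N17749 := rfl
theorem L126414 : sm ge N17749 = N13038 := ded_26_1 (flp_g L100355) L100349 L126412
theorem L126416 : sm gb N13037 = N17750 := rfl
theorem L126418 : sm gf N17750 = N13042 := ded_16_2 (flp_b L100373) (flp_f L86910) L86904 L100353 L126416
theorem L126424 : sm gb N13038 = N17752 := rfl
theorem L126426 : sm gg N17752 = N13043 := ded_17_2 (flp_b L100375) (flp_g L86914) L86904 L100355 L126424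
theorem L126428 : sm gf N13038 = N17753 := rfl
theorem L126458 : sm ga N13042 = N17759 := rfl
theorem L126460 : sm gc N13042 = N17760 := rfl
theorem L126462 : sm gg N13042 = N17761 := rfl
theorem L126468 : sm gf N13043 = N17764 := rfl
theorem L126509 : sm ga N13048 = N17773 := rfl
theorem L126511 : sm ge N17773 = N13051 := ded_10_2 (flp_a L100411) (flp_e L100396) L126509
theorem L126513 : sm gg N17773 = N13058 := ded_12_2 (flp_a L100437) (flp_g L100398) L126509
theorem L126515 : sm gc N13048 = N17774 := rfl
theorem L126517 : sm ge N17774 = N13052 := ded_19_2 (flp_c L100415) (flp_e L100396) L126515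
theorem L126521 : sm gf N13048 = N17775 := rfl
theorem L126535 : sm gf N13050 = N17779 := rfl
theorem L126537 : sm gb N17779 = N17764 := ded_16_1 (flp_f L126468) (flp_b L100375) L86933 L100408 L126535
theorem L126539 : sm gb N13051 = N17780 := rfl
theorem L126541 : sm gc N13051 = N17781 := rfl
theorem L126543 : sm ga N17781 = N13052 := ded_8_1 (flp_c L100415) L100411 L126541
theorem L126545 : sm gg N17781 = N13062 := ded_21_2 (flp_c L100453) (flp_g L100413) L126541
theorem L126547 : sm gd N13052 = N17782 := rfl
theorem L126549 : sm gg N17782 = N13064 := ded_24_2 (flp_d L100463) (flp_g L100417) L126547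
theorem L126551 : sm gf N13052 = N17783 := rfl
theorem L126553 : sm gc N17783 = N13053 := ded_20_1 (flp_f L100419) L100415 L126551
theorem L126555 : sm gb N13053 = N17784 := rfl
theorem L126557 : sm gf N17784 = N13054 := ded_16_2 (flp_b L100421) (flp_f L86939) L86935 L100419 L126555
theorem L126563 : sm gg N13054 = N17787 := rfl
theorem L126565 : sm gb N17787 = N17761 := ded_17_1 (flp_g L126462) (flp_b L100373) (flp_g L86943) L100421 L126563
theorem L126571 : sm gf N13055 = N17789 := rfl
theorem L126573 : sm gd N17789 = N13267 := ded_23_1 (flp_f L101674) (flp_d L100425) L126571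
theorem L126580 : sm gb N13056 = N17791 := rfl
theorem L126582 : sm gd N17791 = N13269 := ded_14_2 (flp_b L101683) (flp_d L100431) L126580
theorem L126594 : sm gb N13058 = N17795 := rfl
theorem L126596 : sm ge N17795 = N13061 := ded_15_2 (flp_b L100451) (flp_e L100439) L126594
theorem L126598 : sm gc N13058 = N17796 := rfl
theorem L126600 : sm ga N17796 = N13059 := ded_8_1 (flp_c L100441) L100437 L126598
theorem L126602 : sm ge N17796 = N13062 := ded_19_2 (flp_c L100453) (flp_e L100439) L126598
theorem L126604 : sm gf N13058 = N17797 := rfl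
theorem L126606 : sm ga N17797 = N13060 := ded_11_1 (flp_f L100447) L100437 L126604
theorem L126610 : sm gg N17775 = N17797 := ded_29_1 (flp_f L126604) (flp_g L126513) (flp_a L126509) L126521
theorem L126616 : sm gf N13059 = N17799 := rfl
theorem L126620 : sm ge N17799 = N13065 := ded_25_1 (flp_f L100467) (flp_e L100443) L126616
theorem L126622 : sm gg N13060 = N17800 := rfl
theorem L126624 : sm ga N17800 = N17775 := ded_12_1 L126610 L126606 L126622
theorem L126626 : sm ge N17800 = N13066 := ded_26_1 (flp_g L100471) (flp_e L100449) L126622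
theorem L126630 : sm ga N13061 = N17801 := rfl
theorem L126632 : sm gc N13061 = N17802 := rfl
theorem L126634 : sm gf N13061 = N17803 := rfl
theorem L126636 : sm gg N13061 = N17804 := rfl
theorem L126638 : sm gb N13062 = N17805 := rfl
theorem L126640 : sm gd N13062 = N17806 := rfl
theorem L126642 : sm ga N17806 = N13064 := ded_9_1 (flp_d L100463) (flp_a L100455) L126640
theorem L126644 : sm gf N13062 = N17807 := rfl
theorem L126646 : sm ga N17807 = N13065 := ded_11_1 (flp_f L100467) (flp_a L100455) L126644
theorem L126648 : sm gc N17807 = N13063 := ded_20_1 (flp_f L100457) L100453 L126644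
theorem L126650 : sm gg N17783 = N17807 := ded_29_1 (flp_f L126644) (flp_g L126545) L126543 L126551
theorem L126654 : sm gc N13064 = N17809 := rfl
theorem L126656 : sm ge N13064 = N17810 := rfl
theorem L126658 : sm gb N17810 = N13073 := ded_15_1 (flp_e L100507) (flp_b L100465) L126656
theorem L126660 : sm gf N13064 = N17811 := rfl
theorem L126662 : sm gd N17811 = N13065 := ded_23_1 (flp_f L100467) L100463 L126660
theorem L126664 : sm gb N13065 = N17812 := rfl
theorem L126666 : sm gf N17812 = N13075 := ded_16_2 (flp_b L100519) (flp_f L87000) (flp_b L86962) L100467 L126664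
theorem L126668 : sm gg N13065 = N17813 := rfl
theorem L126670 : sm ga N17813 = N17783 := ded_12_1 L126650 L126646 L126668
theorem L126672 : sm gc N17813 = N13066 := ded_21_1 (flp_g L100471) (flp_c L100469) L126668
theorem L126674 : sm gf N17781 = N17813 := ded_29_0 (flp_g L126668) (flp_f L100467) (flp_g L100417) (flp_a L126543)
theorem L126676 : sm gb N13066 = N17814 := rfl
theorem L126678 : sm gc N13067 = N17815 := rfl
theorem L126680 : sm ge N17815 = N13071 := ded_19_2 (flp_c L100503) (flp_e L100481) L126678
theorem L126682 : sm gb N13068 = N17816 := rfl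
theorem L126684 : sm ge N17816 = N13072 := ded_15_2 (flp_b L100505) (flp_e L100487) L126682
theorem L126686 : sm ge N13069 = N17817 := rfl
theorem L126688 : sm gd N17817 = N13073 := ded_22_1 (flp_e L100507) (flp_d L86998) (flp_e L86976) L100491 L126686
theorem L126690 : sm gf N13069 = N17818 := rfl
theorem L126692 : sm ga N17818 = N15828 := ded_11_1 (flp_f L125886) L125884 L126690
theorem L126696 : sm gg N17818 = N15826 := ded_29_3 L114672 (flp_f L113616) L113618 L126690
theorem L126698 : sm gb N13070 = N17819 := rfl
theorem L126700 : sm ge N17819 = N13075 := ded_15_2 (flp_b L100519) (flp_e L100499) L126698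
theorem L126702 : sm gb N13071 = N17820 := rfl
theorem L126704 : sm gc N17820 = N13072 := ded_13_2 (flp_b L100505) (flp_c L86992) L86988 L100503 L126702
theorem L126706 : sm gd N13071 = N17821 := rfl
theorem L126708 : sm ga N13072 = N17822 := rfl
theorem L126710 : sm gf N13072 = N17823 := rfl
theorem L126712 : sm gb N17823 = N15844 := ded_16_1 (flp_f L114754) (flp_b L94973) (flp_f L86996) L100505 L126710
theorem L126714 : sm gg N13072 = N17824 := rfl
theorem L126716 : sm gf N13073 = N17825 := rfl
theorem L126718 : sm ga N17825 = N15841 := ded_11_1 (flp_f L114746) L114167 L126716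
theorem L126720 : sm gc N17825 = N17651 := ded_20_1 (flp_f L125926) L114159 L126716
theorem L126722 : sm ge N17825 = N13074 := ded_25_1 (flp_f L100509) L100507 L126716
theorem L126724 : sm gg N17825 = N15838 := ded_29_3 L114724 (flp_f L113624) L113626 L126716
theorem L126726 : sm gb N13074 = N17826 := rfl
theorem L126728 : sm gd N17826 = N13075 := ded_14_2 (flp_b L100519) (flp_d L100515) L126726
theorem L126730 : sm ga N13075 = N17827 := rfl
theorem L126732 : sm gg N13075 = N17828 := rfl
theorem L126734 : sm gb N17828 = N15837 := ded_17_1 (flp_g L114720) (flp_b L94947) (flp_g L87006) L100519 L126732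
theorem L126778 : sm gc N13080 = N17834 := rfl
theorem L126780 : sm ga N17834 = N13090 := ded_8_1 (flp_c L100621) (flp_a L100559) L126778
theorem L126782 : sm gf N17834 = N15848 := ded_20_2 (flp_c L114768) (flp_f L100561) L126778
theorem L126864 : sm gf N13090 = N17847 := rfl
theorem L126866 : sm ga N17847 = N15848 := ded_11_1 (flp_f L126782) L126780 L126864
theorem L126942 : sm gf N13102 = N17861 := rfl
theorem L127022 : sm gc N13111 = N17877 := rfl
theorem L127026 : sm gb N17877 = N17540 := ded_13_1 (flp_c L125444) L99854 L87202 (flp_b L100740) L127022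
theorem L127034 : sm gg N13111 = N17879 := rfl
theorem L127038 : sm ge N17879 = N17614 := ded_26_1 (flp_g L125763) (flp_e L100742) L127034
theorem L127055 : sm gb N13114 = N17883 := rfl
theorem L127059 : sm ge N17883 = N17615 := ded_15_2 (flp_b L125768) (flp_e L100757) L127055
theorem L127061 : sm ga N13115 = N17884 := rfl
theorem L127065 : sm gd N13116 = N17886 := rfl
theorem L127069 : sm ge N13117 = N17887 := rfl
theorem L127071 : sm ga N17887 = N14908 := ded_10_1 (flp_e L109999) (flp_a L100771) L127069
theorem L127091 : sm gf N13120 = N17890 := rfl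
theorem L127093 : sm ga N17890 = N13130 := ded_11_1 (flp_f L100865) (flp_a L100795) L127091
theorem L127107 : sm gf N13122 = N17892 := rfl
theorem L127109 : sm ga N17892 = N13133 := ded_11_1 (flp_f L100877) (flp_a L100811) L127107
theorem L127111 : sm gd N17892 = N13123 := ded_23_1 (flp_f L100815) L100809 L127107
theorem L127133 : sm gd N13126 = N17896 := rfl
theorem L127137 : sm gf N17896 = N13159 := ded_23_2 (flp_d L101035) (flp_f L100837) L127133
theorem L127151 : sm gf N13127 = N17898 := rfl
theorem L127159 : sm gg N17898 = N17890 := ded_29_3 L127093 (flp_f L100865) (flp_g L100847) L127151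
theorem L127203 : sm gf N13134 = N17907 := rfl
theorem L127209 : sm gg N17907 = N17892 := ded_29_3 L127109 (flp_f L100877) L100881 L127203
theorem L127217 : sm gd N13137 = N17909 := rfl
theorem L127221 : sm gc N17909 = N17472 := ded_28_6 (flp_d L125087) (flp_a L125059) (flp_c L125057) (flp_d L99600) L86461 L87346 L100908 L127217
theorem L127229 : sm gg N13137 = N17911 := rfl
theorem L127231 : sm ga N17911 = N13147 := ded_12_1 (flp_g L100960) (flp_a L100910) L127229
theorem L127300 : sm gg N13146 = N17925 := rfl
theorem L127304 : sm gf N17911 = N17925 := ded_29_0 (flp_g L127300) (flp_f L100956) L100960 (flp_a L127231)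
theorem L127337 : sm gb N13152 = N17930 := rfl
theorem L127359 : sm gf N13153 = N17935 := rfl
theorem L127363 : sm ge N17935 = N17789 := ded_25_1 (flp_f L126571) (flp_e L101004) L127359
theorem L127376 : sm gb N13155 = N17938 := rfl
theorem L127378 : sm gg N17938 = N13157 := ded_17_2 (flp_b L101023) (flp_g L87423) L87412 L101009 L127376
theorem L127394 : sm ga N13157 = N17941 := rfl
theorem L127396 : sm gc N17941 = N17884 := ded_8_2 (flp_a L127061) (flp_c L101025) L127394
theorem L127402 : sm gd N13158 = N17943 := rfl
theorem L127404 : sm ga N17943 = N14899 := ded_9_1 (flp_d L109934) (flp_a L101029) L127402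
theorem L127406 : sm gb N17943 = N17886 := ded_14_1 (flp_d L127065) (flp_b L101033) L127402
theorem L127408 : sm ge N13159 = N17944 := rfl
theorem L127412 : sm gb N17944 = N17887 := ded_15_1 (flp_e L127069) (flp_b L101039) L127408
theorem L127454 : sm gf N13164 = N17951 := rfl
theorem L127458 : sm ge N17951 = N17861 := ded_25_1 (flp_f L126942) (flp_e L101075) L127454
theorem L127521 : sm gf N13170 = N17961 := rfl
theorem L127523 : sm ga N17961 = N13171 := ded_11_1 (flp_f L101119) L101113 L127521
theorem L127525 : sm gd N17961 = N13224 := ded_23_1 (flp_f L101437) (flp_d L101115) L127521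
theorem L127553 : sm gf N13172 = N17965 := rfl
theorem L127561 : sm gg N17965 = N17961 := ded_29_3 L127523 (flp_f L101119) L101125 L127553
theorem L127563 : sm ga N13173 = N17966 := rfl
theorem L127565 : sm gd N17966 = N13229 := ded_9_2 (flp_a L101459) (flp_d L101134) L127563
theorem L127567 : sm ge N17966 = N17884 := ded_10_2 (flp_a L127061) (flp_e L101136) L127563
theorem L127593 : sm gg N13175 = N17971 := rfl
theorem L127595 : sm ge N17971 = N13177 := ded_26_1 (flp_g L101152) (flp_e L101146) L127593
theorem L127597 : sm gf N13246 = N17971 := ded_29_0 (flp_g L127593) (flp_f L101144) L101148 (flp_a L101556)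
theorem L127609 : sm gf N13176 = N17973 := rfl
theorem L127611 : sm ga N17973 = N17971 := ded_11_1 (flp_f L127597) L101556 L127609
theorem L127645 : sm gg N13181 = N17979 := rfl
theorem L127647 : sm gd N17979 = N13183 := ded_24_1 (flp_g L101189) (flp_d L101183) L127645
theorem L127649 : sm gf N13250 = N17979 := ded_29_0 (flp_g L127645) (flp_f L101181) L101185 (flp_a L101584)
theorem L127718 : sm ge N13188 = N17990 := rfl
theorem L127720 : sm gd N17990 = N13201 := ded_22_1 (flp_e L101308) (flp_d L87613) (flp_e L87564) L101229 L127718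
theorem L127734 : sm gg N13189 = N17994 := rfl
theorem L127738 : sm ge N17994 = N13205 := ded_26_1 (flp_g L101320) (flp_e L101235) L127734
theorem L127742 : sm gb N13190 = N17995 := rfl
theorem L127744 : sm ge N17995 = N13206 := ded_15_2 (flp_b L101326) (flp_e L101241) L127742
theorem L127793 : sm gc N13195 = N18001 := rfl
theorem L127797 : sm gf N18001 = N14906 := ded_20_2 L109987 (flp_f L101281) L127793
theorem L127799 : sm gg N18001 = N14895 := ded_21_2 L109913 (flp_g L101283) L127793
theorem L127840 : sm gb N13199 = N18011 := rfl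
theorem L127842 : sm gf N18011 = N13204 := ded_16_2 (flp_b L101318) (flp_f L87615) L87609 L101300 L127840
theorem L127850 : sm gb N13200 = N18013 := rfl
theorem L127853 : sm gg N18013 = N13206 := ded_17_2 (flp_b L101326) (flp_g L87619) L87609 L101304 L127850
theorem L127885 : sm gf N13203 = N18020 := rfl
theorem L127893 : sm gg N18020 = N13261 := ded_29_3 L101647 (flp_f L101310) L101314 L127885
theorem L127897 : sm gc N13204 = N18022 := rfl
theorem L127899 : sm gb N18022 = N13209 := ded_13_1 (flp_c L101347) (flp_b L87623) (flp_c L87617) L101318 L127897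
theorem L128012 : sm gg N13220 = N18043 := rfl
theorem L128014 : sm ge N18043 = N13227 := ded_26_1 (flp_g L101449) (flp_e L101424) L128012
theorem L128030 : sm gg N13222 = N18046 := rfl
theorem L128032 : sm ge N18046 = N13231 := ded_26_1 (flp_g L101465) (flp_e L101433) L128030
theorem L128048 : sm ga N13226 = N18053 := rfl
theorem L128050 : sm gf N18053 = N13229 := ded_11_2 (flp_a L101459) (flp_f L101447) L128048
theorem L128083 : sm gf N13231 = N18063 := rfl
theorem L128087 : sm gg N18063 = N18053 := ded_29_3 (flp_a L128048) L101447 L101465 L128083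
theorem L128162 : sm gb N13240 = N18078 := rfl
theorem L128166 : sm ge N18078 = N17930 := ded_15_2 (flp_b L127337) (flp_e L101515) L128162
theorem L128192 : sm gb N13242 = N18082 := rfl
theorem L128194 : sm gd N18082 = N13274 := ded_14_2 (flp_b L101701) (flp_d L101526) L128192
theorem L128196 : sm ge N18082 = N17938 := ded_15_2 (flp_b L127376) (flp_e L101528) L128192
theorem L128244 : sm gg N13244 = N18088 := rfl
theorem L128250 : sm ge N18088 = N13250 := ded_26_1 (flp_g L101582) (flp_e L101544) L128244
theorem L128292 : sm gd N13252 = N18095 := rfl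
theorem L128294 : sm gb N18095 = N13253 := ded_14_1 (flp_d L101603) L101597 L128292
theorem L128302 : sm gg N13252 = N18097 := rfl
theorem L128306 : sm ge N18097 = N13259 := ded_26_1 (flp_g L101635) (flp_e L101599) L128302
theorem L128308 : sm ge N13253 = N18098 := rfl
theorem L128310 : sm ga N18098 = N17990 := ded_10_1 (flp_e L127718) (flp_a L101605) L128308
theorem L128341 : sm gf N13256 = N18105 := rfl
theorem L128343 : sm ga N18105 = N13258 := ded_11_1 (flp_f L101631) L101623 L128341
theorem L128384 : sm gf N13259 = N18114 := rfl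
theorem L128390 : sm gg N18114 = N18105 := ded_29_3 L128343 (flp_f L101631) L101635 L128384
theorem L128490 : sm gb N13272 = N18138 := rfl
theorem L128553 : sm gb N13284 = N18154 := rfl
theorem L128555 : sm ge N18154 = N13293 := ded_15_2 (flp_b L101807) (flp_e L101759) L128553
theorem L128557 : sm gb N13285 = N18155 := rfl
theorem L128559 : sm ge N18155 = N13298 := ded_15_2 (flp_b L101831) (flp_e L101765) L128557
theorem L128561 : sm gg N18155 = N18155 := ded_17_2 (flp_b L128557) (flp_g L101761) L87951 L101761 L128557
theorem L128562 : sm gb N13286 = N18156 := rfl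
theorem L128564 : sm ge N18156 = N13299 := ded_15_2 (flp_b L101834) (flp_e L101775) L128562
theorem L128566 : sm gf N18156 = N18156 := ded_16_2 (flp_b L128562) (flp_f L101769) L87958 L101769 L128562
theorem L128567 : sm gb N13289 = N18157 := rfl
theorem L128569 : sm gg N18157 = N13293 := ded_17_2 (flp_b L101807) (flp_g L87971) L87959 L101791 L128567
theorem L128571 : sm gf N18157 = N15265 := ded_31_1 (flp_b L111992) (flp_g L93490) (flp_f L93251) (flp_b L119440) (flp_g L88002) (flp_f L87996) L83336 (flp_g L32496) L32492 L71986 L87990 (flp_f L87994) L101807 (flp_g L128569)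
theorem L128573 : sm gf N13289 = N18158 := rfl
theorem L128575 : sm ga N18158 = N15262 := ded_11_1 (flp_f L119737) L115226 L128573
theorem L128577 : sm gc N18158 = N15351 := ded_20_1 L112452 L119775 L128573
theorem L128579 : sm gd N18158 = N16569 := ded_23_1 (flp_f L118880) L118725 L128573
theorem L128581 : sm ge N18158 = N15939 := ded_25_1 (flp_f L115246) L115176 L128573
theorem L128583 : sm gg N18158 = N15259 := ded_29_3 (flp_a L111966) (flp_f L119203) L101791 L128573
theorem L128585 : sm gb N18158 = N15266 := ded_16_1 (flp_f L111994) L111992 (flp_f L128571) (flp_b L128567) L128573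
theorem L128587 : sm gb N13291 = N18159 := rfl
theorem L128589 : sm gd N18159 = N13293 := ded_14_2 (flp_b L101807) (flp_d L101803) L128587
theorem L128593 : sm gc N13293 = N18161 := rfl
theorem L128595 : sm gb N18161 = N13346 := ded_13_1 (flp_c L102241) (flp_b L88130) (flp_c L87975) L101807 L128593
theorem L128597 : sm gf N13293 = N18162 := rfl
theorem L128599 : sm gg N13294 = N18163 := rfl
theorem L128601 : sm gc N18163 = N13296 := ded_21_1 (flp_g L101817) (flp_c L101811) L128599
theorem L128603 : sm gd N18163 = N13488 := ded_24_1 L102958 L102852 L128599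
theorem L128605 : sm gf N13481 = N18163 := ded_29_0 (flp_g L128599) (flp_f L101809) L101813 (flp_a L102920)
theorem L128607 : sm gb N13295 = N18164 := rfl
theorem L128611 : sm gf N13295 = N18165 := rfl
theorem L128613 : sm ga N18165 = N18163 := ded_11_1 (flp_f L128605) L102920 L128611
theorem L128615 : sm gc N18165 = N13297 := ded_20_1 (flp_f L101823) (flp_c L101815) L128611
theorem L128617 : sm gd N18165 = N13486 := ded_23_1 (flp_f L102948) L102860 L128611
theorem L128619 : sm gg N18165 = N13480 := ded_29_3 L102912 (flp_f L101809) L101813 L128611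
theorem L128621 : sm gb N13296 = N18166 := rfl
theorem L128623 : sm gd N18166 = N13298 := ded_14_2 (flp_b L101831) (flp_d L101819) L128621
theorem L128625 : sm gg N18166 = N18166 := ded_17_2 (flp_b L128621) (flp_g L101817) L87984 L101817 L128621
theorem L128626 : sm gb N13297 = N18167 := rfl
theorem L128628 : sm gd N18167 = N13299 := ded_14_2 (flp_b L101834) (flp_d L101827) L128626
theorem L128631 : sm gg N18167 = N16843 := ded_17_2 (flp_b L121994) L97755 (flp_b L119745) (flp_g L101829) L128626
theorem L128633 : sm ga N13298 = N18168 := rfl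
theorem L128636 : sm gc N13298 = N18169 := rfl
theorem L128638 : sm gg N18169 = N18169 := ded_21_2 (flp_c L128636) L101833 L128636
theorem L128639 : sm gb N18169 = N13351 := ded_13_1 (flp_c L102261) (flp_b L88146) (flp_c L87992) L101831 L128636
theorem L128641 : sm gf N13298 = N18170 := rfl
theorem L128643 : sm gb N18170 = N18162 := ded_16_1 (flp_f L128597) (flp_b L101807) L87994 L101831 L128641
theorem L128645 : sm ga N13299 = N18171 := rfl
theorem L128648 : sm gc N13299 = N18172 := rfl
theorem L128650 : sm gf N18172 = N18172 := ded_20_2 (flp_c L128648) L101836 L128648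
theorem L128651 : sm gb N18172 = N13356 := ded_13_1 (flp_c L102283) (flp_b L88162) (flp_c L88000) L101834 L128648
theorem L128653 : sm gg N13299 = N18173 := rfl
theorem L128655 : sm gd N18173 = N16843 := ded_24_1 (flp_g L128631) L128628 L128653
theorem L128657 : sm gb N18173 = N15191 := ded_17_1 (flp_g L111637) (flp_b L119440) (flp_g L88002) L101834 L128653
theorem L128659 : sm gd N13300 = N18174 := rfl
theorem L128661 : sm ga N18174 = N13302 := ded_9_1 (flp_d L101855) L101837 L128659
theorem L128663 : sm gb N18174 = N13653 := ded_14_1 (flp_d L103728) (flp_b L101841) L128659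
theorem L128665 : sm ge N18174 = N13653 := ded_22_2 (flp_d L103728) L89012 (flp_d L88112) (flp_e L101839) L128659
theorem L128667 : sm gc N14928 = N18174 := ded_28_0 (flp_d L128659) (flp_c L101843) L101853 (flp_c L101845) L101855 L101861 L92470 L110127
theorem L128669 : sm gf N13300 = N18175 := rfl
theorem L128671 : sm ga N18175 = N13303 := ded_11_1 (flp_f L101863) L101837 L128669
theorem L128673 : sm gc N18175 = N13406 := ded_20_1 (flp_f L102505) L101843 L128669
theorem L128675 : sm ge N18175 = N13333 := ded_25_1 (flp_f L102164) (flp_e L101839) L128669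
theorem L128677 : sm gg N13300 = N18176 := rfl
theorem L128679 : sm ga N18176 = N13304 := ded_12_1 (flp_g L101867) L101837 L128677
theorem L128681 : sm gc N18176 = N13407 := ded_21_1 (flp_g L102509) L101843 L128677
theorem L128683 : sm ge N18176 = N13334 := ded_26_1 (flp_g L102172) (flp_e L101839) L128677
theorem L128685 : sm gg N13301 = N18177 := rfl
theorem L128687 : sm ga N18177 = N13407 := ded_12_1 (flp_g L102509) (flp_a L101847) L128685
theorem L128689 : sm gc N18177 = N13304 := ded_21_1 (flp_g L101867) L101845 L128685
theorem L128691 : sm gd N18177 = N13407 := ded_24_1 (flp_g L102509) L101853 L128685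
theorem L128693 : sm ge N18177 = N13337 := ded_26_1 (flp_g L102195) (flp_e L101849) L128685
theorem L128695 : sm gf N13302 = N18178 := rfl
theorem L128697 : sm gc N18178 = N14929 := ded_20_1 (flp_f L110132) (flp_c L101861) L128695
theorem L128699 : sm gd N18178 = N13303 := ded_23_1 (flp_f L101863) L101855 L128695
theorem L128701 : sm ge N18178 = N13656 := ded_25_1 (flp_f L103750) (flp_e L101859) L128695
theorem L128703 : sm gg N13302 = N18179 := rfl
theorem L128705 : sm gc N18179 = N14930 := ded_21_1 (flp_g L110137) (flp_c L101861) L128703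
theorem L128707 : sm gd N18179 = N13304 := ded_24_1 (flp_g L101867) L101855 L128703
theorem L128709 : sm ge N18179 = N13657 := ded_26_1 (flp_g L103756) (flp_e L101859) L128703
theorem L128711 : sm gg N13303 = N18180 := rfl
theorem L128713 : sm ge N18180 = N13339 := ded_26_1 (flp_g L102207) (flp_e L101865) L128711
theorem L128715 : sm gf N18176 = N18180 := ded_29_0 (flp_g L128711) (flp_f L101863) L101867 (flp_a L128679)
theorem L128717 : sm gb N13304 = N18181 := rfl
theorem L128719 : sm ge N18181 = N13340 := ded_15_2 (flp_b L102213) (flp_e L101869) L128717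
theorem L128721 : sm gg N18181 = N13308 := ded_17_2 (flp_b L101895) (flp_g L88022) L88004 L101867 L128717
theorem L128723 : sm gf N13304 = N18182 := rfl
theorem L128725 : sm ga N18182 = N18180 := ded_11_1 (flp_f L128715) L128679 L128723
theorem L128727 : sm ge N18182 = N13341 := ded_25_1 (flp_f L102219) (flp_e L101869) L128723
theorem L128729 : sm gg N18182 = N18175 := ded_29_3 L128671 (flp_f L101863) L101867 L128723
theorem L128731 : sm gb N13305 = N18183 := rfl
theorem L128733 : sm gd N18183 = N13307 := ded_14_2 (flp_b L101891) (flp_d L101877) L128731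
theorem L128735 : sm ge N18183 = N13662 := ded_15_2 (flp_b L103790) (flp_e L101879) L128731
theorem L128737 : sm gb N13306 = N18184 := rfl
theorem L128739 : sm gd N18184 = N13308 := ded_14_2 (flp_b L101895) (flp_d L101887) L128737
theorem L128741 : sm ge N18184 = N13663 := ded_15_2 (flp_b L103794) (flp_e L101889) L128737
theorem L128743 : sm ga N13307 = N18185 := rfl
theorem L128745 : sm ge N18185 = N13342 := ded_10_2 (flp_a L102227) (flp_e L101893) L128743
theorem L128747 : sm gg N13307 = N18186 := rfl
theorem L128749 : sm ge N18186 = N13344 := ded_26_1 (flp_g L102233) (flp_e L101893) L128747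
theorem L128751 : sm ga N13308 = N18187 := rfl
theorem L128753 : sm ge N18187 = N13345 := ded_10_2 (flp_a L102237) (flp_e L101897) L128751
theorem L128755 : sm gc N13308 = N18188 := rfl
theorem L128757 : sm ge N18188 = N13346 := ded_19_2 (flp_c L102241) (flp_e L101897) L128755
theorem L128759 : sm gf N13308 = N18189 := rfl
theorem L128761 : sm ge N18189 = N13347 := ded_25_1 (flp_f L102243) (flp_e L101897) L128759
theorem L128763 : sm gb N13309 = N18190 := rfl
theorem L128765 : sm gd N18190 = N14916 := ded_14_2 (flp_b L110049) (flp_d L101905) L128763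
theorem L128767 : sm ge N18190 = N13670 := ded_15_2 (flp_b L103822) (flp_e L101907) L128763
theorem L128769 : sm gf N18190 = N13670 := ded_16_2 (flp_b L103822) (flp_f L89054) (flp_b L88034) L101899 L128763
theorem L128771 : sm gb N13310 = N18191 := rfl
theorem L128773 : sm gd N18191 = N14917 := ded_14_2 (flp_b L110055) (flp_d L101915) L128771
theorem L128775 : sm ge N18191 = N13671 := ded_15_2 (flp_b L103826) (flp_e L101917) L128771
theorem L128777 : sm gg N18191 = N13671 := ded_17_2 (flp_b L103826) (flp_g L89062) (flp_b L88034) L101909 L128771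
theorem L128779 : sm ga N13311 = N18192 := rfl
theorem L128781 : sm gd N18192 = N13315 := ded_9_2 (flp_a L101953) (flp_d L101921) L128779
theorem L128783 : sm ge N18192 = N13672 := ded_10_2 (flp_a L103830) (flp_e L101923) L128779
theorem L128785 : sm gf N18192 = N13321 := ded_11_2 (flp_a L101985) (flp_f L101925) L128779
theorem L128787 : sm gc N15010 = N18192 := ded_19_3 L128783 (flp_c L103837) (flp_e L110603)
theorem L128789 : sm gc N13311 = N18193 := rfl
theorem L128791 : sm ga N18193 = N15010 := ded_8_1 L128787 (flp_a L128779) L128789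
theorem L128793 : sm ge N18193 = N13673 := ded_19_2 (flp_c L103847) (flp_e L101923) L128789
theorem L128795 : sm gf N18193 = N13322 := ded_20_2 (flp_c L101993) (flp_f L101925) L128789
theorem L128797 : sm gd N18193 = N15034 := ded_28_5 L110739 (flp_d L110601) (flp_a L128791) (flp_c L128789) L101921 L88054 (flp_d L101921) L128789
theorem L128799 : sm gg N13311 = N18194 := rfl
theorem L128801 : sm gd N18194 = N13316 := ded_24_1 (flp_g L101960) (flp_d L101921) L128799
theorem L128803 : sm ge N18194 = N13674 := ded_26_1 (flp_g L103855) (flp_e L101923) L128799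
theorem L128805 : sm gb N13312 = N18195 := rfl
theorem L128807 : sm gd N18195 = N13317 := ded_14_2 (flp_b L101965) (flp_d L101929) L128805
theorem L128809 : sm ge N18195 = N13675 := ded_15_2 (flp_b L103859) (flp_e L101931) L128805
theorem L128811 : sm ga N13313 = N18196 := rfl
theorem L128813 : sm gd N18196 = N13318 := ded_9_2 (flp_a L101969) (flp_d L101937) L128811
theorem L128815 : sm ge N18196 = N13676 := ded_10_2 (flp_a L103863) (flp_e L101939) L128811
theorem L128817 : sm gg N18196 = N13324 := ded_12_2 (flp_a L102009) (flp_g L101941) L128811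
theorem L128819 : sm gc N15023 = N18196 := ded_19_3 L128815 (flp_c L103869) (flp_e L110677)
theorem L128821 : sm gc N13313 = N18197 := rfl
theorem L128823 : sm ga N18197 = N15023 := ded_8_1 L128819 (flp_a L128811) L128821
theorem L128825 : sm ge N18197 = N13677 := ded_19_2 (flp_c L103871) (flp_e L101939) L128821
theorem L128827 : sm gg N18197 = N13325 := ded_21_2 (flp_c L102104) (flp_g L101941) L128821
theorem L128829 : sm gd N18197 = N15062 := ded_28_5 L110913 (flp_d L110675) (flp_a L128823) (flp_c L128821) L101937 L88067 (flp_d L101937) L128821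
theorem L128831 : sm gf N13313 = N18198 := rfl
theorem L128833 : sm gd N18198 = N13319 := ded_23_1 (flp_f L101976) (flp_d L101937) L128831
theorem L128835 : sm ge N18198 = N13678 := ded_25_1 (flp_f L103879) (flp_e L101939) L128831
theorem L128837 : sm gb N13314 = N18199 := rfl
theorem L128839 : sm gd N18199 = N13320 := ded_14_2 (flp_b L101981) (flp_d L101947) L128837
theorem L128841 : sm ge N18199 = N13679 := ded_15_2 (flp_b L103883) (flp_e L101949) L128837
theorem L128843 : sm gb N13316 = N18200 := rfl
theorem L128845 : sm ge N18200 = N13349 := ded_15_2 (flp_b L102251) (flp_e L101963) L128843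
theorem L128847 : sm gg N18200 = N13317 := ded_17_2 (flp_b L101965) (flp_g L88057) L88050 L101960 L128843
theorem L128849 : sm ga N13317 = N18201 := rfl
theorem L128851 : sm ge N18201 = N13350 := ded_10_2 (flp_a L102257) (flp_e L101967) L128849
theorem L128853 : sm gc N13317 = N18202 := rfl
theorem L128855 : sm ge N18202 = N13351 := ded_19_2 (flp_c L102261) (flp_e L101967) L128853
theorem L128857 : sm gf N13317 = N18203 := rfl
theorem L128859 : sm ge N18203 = N13352 := ded_25_1 (flp_f L102263) (flp_e L101967) L128857
theorem L128861 : sm gb N18203 = N18189 := ded_16_1 (flp_f L128759) (flp_b L101895) L88061 L101965 L128857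
theorem L128863 : sm gb N13318 = N18204 := rfl
theorem L128865 : sm ge N18204 = N13353 := ded_15_2 (flp_b L102269) (flp_e L101972) L128863
theorem L128867 : sm gb N13319 = N18205 := rfl
theorem L128869 : sm ge N18205 = N13354 := ded_15_2 (flp_b L102273) (flp_e L101979) L128867
theorem L128871 : sm gf N18205 = N13320 := ded_16_2 (flp_b L101981) (flp_f L88070) L88063 L101976 L128867
theorem L128873 : sm ga N13320 = N18206 := rfl
theorem L128875 : sm ge N18206 = N13355 := ded_10_2 (flp_a L102279) (flp_e L101983) L128873
theorem L128877 : sm gc N13320 = N18207 := rfl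
theorem L128879 : sm ge N18207 = N13356 := ded_19_2 (flp_c L102283) (flp_e L101983) L128877
theorem L128881 : sm gg N13320 = N18208 := rfl
theorem L128883 : sm ge N18208 = N13357 := ded_26_1 (flp_g L102285) (flp_e L101983) L128881
theorem L128885 : sm gb N18208 = N18186 := ded_17_1 (flp_g L128747) (flp_b L101891) (flp_g L88076) L101981 L128881
theorem L128887 : sm gg N13321 = N18209 := rfl
theorem L128889 : sm ga N18209 = N13323 := ded_12_1 (flp_g L102003) L101985 L128887
theorem L128891 : sm gc N18209 = N15011 := ded_21_1 (flp_g L110605) L101991 L128887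
theorem L128893 : sm gd N18209 = N13328 := ded_24_1 (flp_g L102124) (flp_d L101987) L128887
theorem L128895 : sm ge N18209 = N13697 := ded_26_1 (flp_g L103977) (flp_e L101989) L128887
theorem L128897 : sm gf N18209 = N18194 := ded_29_2 (flp_g L128799) L128779 L128785 L128887
theorem L128899 : sm gg N13322 = N18210 := rfl
theorem L128901 : sm ga N18210 = N15011 := ded_12_1 (flp_g L110605) (flp_a L101995) L128899
theorem L128903 : sm gc N18210 = N13323 := ded_21_1 (flp_g L102003) L101993 L128899
theorem L128905 : sm gd N18210 = N15035 := ded_24_1 (flp_g L110743) (flp_d L102001) L128899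
theorem L128907 : sm ge N18210 = N13698 := ded_26_1 (flp_g L103987) (flp_e L101997) L128899
theorem L128909 : sm gf N13323 = N18211 := rfl
theorem L128911 : sm ga N18211 = N18194 := ded_11_1 (flp_f L128897) L128889 L128909
theorem L128913 : sm gd N18211 = N13329 := ded_23_1 (flp_f L102133) (flp_d L102005) L128909
theorem L128915 : sm ge N18211 = N13700 := ded_25_1 (flp_f L104001) (flp_e L102007) L128909
theorem L128917 : sm gg N18211 = N18192 := ded_29_3 (flp_a L128779) L101925 L102003 L128909
theorem L128919 : sm gb N13324 = N18212 := rfl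
theorem L128921 : sm gd N18212 = N13330 := ded_14_2 (flp_b L102142) (flp_d L102011) L128919
theorem L128923 : sm ge N18212 = N13704 := ded_15_2 (flp_b L104021) (flp_e L102013) L128919
theorem L128925 : sm gc N18212 = N15024 := ded_13_2 (flp_b L110679) (flp_c L92748) L92742 L102015 L128919
theorem L128927 : sm gf N13324 = N18213 := rfl
theorem L128929 : sm ga N18213 = N13326 := ded_11_1 (flp_f L102114) L102009 L128927
theorem L128931 : sm gc N18213 = N15022 := ded_20_1 (flp_f L110667) L102015 L128927
theorem L128933 : sm gd N18213 = N13331 := ded_23_1 (flp_f L102146) (flp_d L102011) L128927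
theorem L128935 : sm ge N18213 = N13705 := ded_25_1 (flp_f L104027) (flp_e L102013) L128927
theorem L128937 : sm gg N18198 = N18213 := ded_29_1 (flp_f L128927) (flp_g L128817) (flp_a L128811) L128831
theorem L128939 : sm gf N13325 = N18214 := rfl
theorem L128941 : sm ga N18214 = N15022 := ded_11_1 (flp_f L110667) (flp_a L102106) L128939
theorem L128943 : sm gc N18214 = N13326 := ded_20_1 (flp_f L102114) L102104 L128939
theorem L128945 : sm gd N18214 = N15061 := ded_23_1 (flp_f L110901) (flp_d L102112) L128939
theorem L128947 : sm ge N18214 = N13706 := ded_25_1 (flp_f L104037) (flp_e L102108) L128939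
theorem L128949 : sm gg N13326 = N18215 := rfl
theorem L128951 : sm ga N18215 = N18198 := ded_12_1 L128937 L128929 L128949
theorem L128953 : sm gd N18215 = N13332 := ded_24_1 (flp_g L102155) (flp_d L102116) L128949
theorem L128955 : sm ge N18215 = N13708 := ded_26_1 (flp_g L104053) (flp_e L102118) L128949
theorem L128957 : sm gf N18196 = N18215 := ded_29_0 (flp_g L128949) (flp_f L102114) (flp_g L101941) L128811
theorem L128959 : sm gb N13328 = N18216 := rfl
theorem L128961 : sm ge N18216 = N13362 := ded_15_2 (flp_b L102308) (flp_e L102129) L128959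
theorem L128963 : sm gb N13329 = N18217 := rfl
theorem L128965 : sm ge N18217 = N13363 := ded_15_2 (flp_b L102312) (flp_e L102138) L128963
theorem L128967 : sm ga N13330 = N18218 := rfl
theorem L128969 : sm ge N18218 = N13364 := ded_10_2 (flp_a L102316) (flp_e L102144) L128967
theorem L128971 : sm gb N18218 = N13734 := ded_7_2 (flp_a L104202) (flp_b L89224) (flp_a L38758) (flp_b L18425) (flp_a L15810) L32848 L88100 L102142 L128967
theorem L128973 : sm gc N13330 = N18219 := rfl
theorem L128975 : sm ge N18219 = N13365 := ded_19_2 (flp_c L102322) (flp_e L102144) L128973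
theorem L128978 : sm gf N13330 = N18220 := rfl
theorem L128980 : sm ge N18220 = N13366 := ded_25_1 (flp_f L102325) (flp_e L102144) L128978
theorem L128986 : sm gb N13331 = N18222 := rfl
theorem L128988 : sm ge N18222 = N13368 := ded_15_2 (flp_b L102333) (flp_e L102151) L128986
theorem L128990 : sm gb N13332 = N18223 := rfl
theorem L128992 : sm ge N18223 = N13369 := ded_15_2 (flp_b L102337) (flp_e L102160) L128990
theorem L128994 : sm gb N13334 = N18224 := rfl
theorem L128996 : sm gd N18224 = N13839 := ded_14_2 (flp_b L104807) (flp_d L102178) L128994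
theorem L128998 : sm gg N18224 = N13839 := ded_17_2 (flp_b L104807) (flp_g L89588) (flp_b L88114) L102172 L128994
theorem L129002 : sm gb N13339 = N18226 := rfl
theorem L129004 : sm gd N18226 = N13843 := ded_14_2 (flp_b L104819) (flp_d L102209) L129002
theorem L129006 : sm ga N13340 = N18227 := rfl
theorem L129008 : sm gd N18227 = N13844 := ded_9_2 (flp_a L104821) (flp_d L102215) L129006
theorem L129010 : sm gg N18227 = N13345 := ded_12_2 (flp_a L102237) (flp_g L102217) L129006
theorem L129016 : sm gf N13340 = N18229 := rfl
theorem L129018 : sm gd N18229 = N13846 := ded_23_1 (flp_f L104829) (flp_d L102215) L129016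
theorem L129020 : sm gb N13341 = N18230 := rfl
theorem L129022 : sm gd N18230 = N13847 := ded_14_2 (flp_b L104831) (flp_d L102223) L129020
theorem L129024 : sm gb N13342 = N18231 := rfl
theorem L129026 : sm gd N18231 = N13848 := ded_14_2 (flp_b L104833) (flp_d L102229) L129024
theorem L129028 : sm gg N13342 = N18232 := rfl
theorem L129030 : sm ga N18232 = N13344 := ded_12_1 (flp_g L102233) L102227 L129028
theorem L129032 : sm gc N18232 = N14744 := ded_21_1 L109253 (flp_c L119429) L129028
theorem L129034 : sm gd N18232 = N13850 := ded_24_1 (flp_g L104839) (flp_d L102229) L129028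
theorem L129036 : sm gf N18232 = N14742 := ded_29_2 (flp_g L109239) (flp_a L109199) L119423 L129028
theorem L129038 : sm gf N13344 = N18233 := rfl
theorem L129040 : sm ga N18233 = N14742 := ded_11_1 (flp_f L129036) L129030 L129038
theorem L129042 : sm gc N18233 = N14734 := ded_20_1 L109213 (flp_c L119433) L129038
theorem L129044 : sm gd N18233 = N13853 := ded_23_1 (flp_f L104851) (flp_d L102235) L129038
theorem L129046 : sm gg N18233 = N14732 := ded_29_3 L109199 (flp_f L119033) L102233 L129038
theorem L129048 : sm gb N13345 = N18234 := rfl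
theorem L129050 : sm gd N18234 = N13854 := ded_14_2 (flp_b L104857) (flp_d L102239) L129048
theorem L129052 : sm gc N13345 = N18235 := rfl
theorem L129054 : sm ga N18235 = N13346 := ded_8_1 (flp_c L102241) L102237 L129052
theorem L129056 : sm gf N13345 = N18236 := rfl
theorem L129058 : sm ga N18236 = N13347 := ded_11_1 (flp_f L102243) L102237 L129056
theorem L129060 : sm gd N18236 = N13856 := ded_23_1 (flp_f L104863) (flp_d L102239) L129056
theorem L129062 : sm gg N18229 = N18236 := ded_29_1 (flp_f L129056) (flp_g L129010) (flp_a L129006) L129016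
theorem L129066 : sm gf N13346 = N18238 := rfl
theorem L129068 : sm gc N18238 = N13347 := ded_20_1 (flp_f L102243) L102241 L129066
theorem L129070 : sm gg N13347 = N18239 := rfl
theorem L129072 : sm ga N18239 = N18229 := ded_12_1 L129062 L129058 L129070
theorem L129074 : sm gd N18239 = N13859 := ded_24_1 (flp_g L104875) (flp_d L102245) L129070
theorem L129076 : sm gf N18227 = N18239 := ded_29_0 (flp_g L129070) (flp_f L102243) (flp_g L102217) L129006
theorem L129078 : sm ga N13348 = N18240 := rfl
theorem L129080 : sm gd N18240 = N13860 := ded_9_2 (flp_a L104881) (flp_d L102249) L129078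
theorem L129082 : sm gg N13348 = N18241 := rfl
theorem L129084 : sm gd N18241 = N13863 := ded_24_1 (flp_g L104895) (flp_d L102249) L129082
theorem L129086 : sm ga N13349 = N18242 := rfl
theorem L129088 : sm gd N18242 = N13869 := ded_9_2 (flp_a L104917) (flp_d L102253) L129086
theorem L129090 : sm gg N18242 = N13350 := ded_12_2 (flp_a L102257) (flp_g L102255) L129086
theorem L129092 : sm gc N13349 = N18243 := rfl
theorem L129094 : sm gg N18243 = N13351 := ded_21_2 (flp_c L102261) (flp_g L102255) L129092
theorem L129096 : sm gb N18243 = N18243 := ded_13_1 (flp_c L129092) (flp_b L102251) L88143 L102251 L129092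
theorem L129097 : sm gf N13349 = N18244 := rfl
theorem L129099 : sm gd N18244 = N13871 := ded_23_1 (flp_f L104925) (flp_d L102253) L129097
theorem L129101 : sm gb N13350 = N18245 := rfl
theorem L129103 : sm gd N18245 = N13872 := ded_14_2 (flp_b L104927) (flp_d L102259) L129101
theorem L129105 : sm gc N13350 = N18246 := rfl
theorem L129107 : sm ga N18246 = N13351 := ded_8_1 (flp_c L102261) L102257 L129105
theorem L129109 : sm gf N13350 = N18247 := rfl
theorem L129111 : sm ga N18247 = N13352 := ded_11_1 (flp_f L102263) L102257 L129109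
theorem L129113 : sm gd N18247 = N13874 := ded_23_1 (flp_f L104933) (flp_d L102259) L129109
theorem L129115 : sm gg N18244 = N18247 := ded_29_1 (flp_f L129109) (flp_g L129090) (flp_a L129086) L129097
theorem L129117 : sm gb N13892 = N18247 := ded_31_14 (flp_g L129115) (flp_f L129097) (flp_b L102251) (flp_g L88141) L33086 (flp_b L15924) (flp_g L9129) (flp_f L9121) L9119 (flp_g L18807) L39607 L89670 L104989 (flp_f L105001)
theorem L129119 : sm gf N18245 = N13963 := ded_16_4 L105290 (flp_f L105001) L129117 (flp_f L129109) L129101
theorem L129121 : sm gd N13351 = N18248 := rfl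
theorem L129123 : sm gf N13351 = N18249 := rfl
theorem L129125 : sm gc N18249 = N13352 := ded_20_1 (flp_f L102263) L102261 L129123
theorem L129127 : sm gg N13352 = N18250 := rfl
theorem L129129 : sm ga N18250 = N18244 := ded_12_1 L129115 L129111 L129127
theorem L129131 : sm gd N18250 = N13877 := ded_24_1 (flp_g L104945) (flp_d L102265) L129127
theorem L129133 : sm gf N18242 = N18250 := ded_29_0 (flp_g L129127) (flp_f L102263) (flp_g L102255) L129086
theorem L129135 : sm ga N13353 = N18251 := rfl
theorem L129137 : sm gd N18251 = N13878 := ded_9_2 (flp_a L104951) (flp_d L102271) L129135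
theorem L129139 : sm gc N13353 = N18252 := rfl
theorem L129142 : sm gf N13353 = N18253 := rfl
theorem L129144 : sm gd N18253 = N13880 := ded_23_1 (flp_f L104955) (flp_d L102271) L129142
theorem L129146 : sm gg N13353 = N18254 := rfl
theorem L129148 : sm gd N18254 = N13881 := ded_24_1 (flp_g L104957) (flp_d L102271) L129146
theorem L129150 : sm gb N18254 = N13367 := ded_17_1 (flp_g L102329) (flp_b L88188) (flp_g L88155) L102269 L129146
theorem L129152 : sm ga N13354 = N18255 := rfl
theorem L129154 : sm gd N18255 = N13887 := ded_9_2 (flp_a L104981) (flp_d L102275) L129152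
theorem L129156 : sm gf N18255 = N13355 := ded_11_2 (flp_a L102279) (flp_f L102277) L129152
theorem L129158 : sm gc N13354 = N18256 := rfl
theorem L129160 : sm gf N18256 = N13356 := ded_20_2 (flp_c L102283) (flp_f L102277) L129158
theorem L129162 : sm gb N18256 = N18256 := ded_13_1 (flp_c L129158) (flp_b L102273) L88159 L102273 L129158
theorem L129163 : sm gg N13354 = N18257 := rfl
theorem L129165 : sm gd N18257 = N13889 := ded_24_1 (flp_g L104989) (flp_d L102275) L129163
theorem L129167 : sm gb N13355 = N18258 := rfl
theorem L129169 : sm gd N18258 = N13890 := ded_14_2 (flp_b L104991) (flp_d L102281) L129167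
theorem L129171 : sm gc N13355 = N18259 := rfl
theorem L129173 : sm ga N18259 = N13356 := ded_8_1 (flp_c L102283) L102279 L129171
theorem L129175 : sm gg N13355 = N18260 := rfl
theorem L129177 : sm ga N18260 = N13357 := ded_12_1 (flp_g L102285) L102279 L129175
theorem L129179 : sm gd N18260 = N13892 := ded_24_1 (flp_g L104997) (flp_d L102281) L129175
theorem L129181 : sm gf N18260 = N18257 := ded_29_2 (flp_g L129163) L129152 L129156 L129175
theorem L129183 : sm gb N13874 = N18260 := ded_14_3 L129179 L129117 L129113
theorem L129185 : sm gg N18258 = N13915 := ded_17_4 L105097 L104937 L129183 (flp_g L129175) L129167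
theorem L129187 : sm gd N13356 = N18261 := rfl
theorem L129189 : sm gg N13356 = N18262 := rfl
theorem L129191 : sm gc N18262 = N13357 := ded_21_1 (flp_g L102285) L102283 L129189
theorem L129193 : sm gf N13357 = N18263 := rfl
theorem L129195 : sm ga N18263 = N18257 := ded_11_1 (flp_f L129181) L129177 L129193
theorem L129197 : sm gd N18263 = N13895 := ded_23_1 (flp_f L105009) (flp_d L102287) L129193
theorem L129199 : sm gg N18263 = N18255 := ded_29_3 (flp_a L129152) L102277 L102285 L129193
theorem L129201 : sm gg N13358 = N18264 := rfl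
theorem L129203 : sm ga N18264 = N13361 := ded_12_1 (flp_g L102304) L102291 L129201
theorem L129205 : sm gc N18264 = N16293 := ded_21_1 L117205 L116070 L129201
theorem L129207 : sm gd N18264 = N13898 := ded_24_1 (flp_g L105023) (flp_d L102293) L129201
theorem L129209 : sm ge N18264 = N16291 := ded_26_1 L117187 (flp_e L116055) L129201
theorem L129211 : sm gf N18264 = N16289 := ded_29_2 (flp_g L117171) (flp_a L117045) L117049 L129201
theorem L129213 : sm gb N13361 = N18265 := rfl
theorem L129215 : sm gd N18265 = N13904 := ded_14_2 (flp_b L105045) (flp_d L102306) L129213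
theorem L129217 : sm gg N18265 = N13362 := ded_17_2 (flp_b L102308) (flp_g L88170) L88166 L102304 L129213
theorem L129219 : sm gf N13361 = N18266 := rfl
theorem L129221 : sm ga N18266 = N16289 := ded_11_1 (flp_f L129211) L129203 L129219
theorem L129223 : sm gc N18266 = N16272 := ded_20_1 L117071 L116092 L129219
theorem L129225 : sm gd N18266 = N13905 := ded_23_1 (flp_f L105049) (flp_d L102306) L129219
theorem L129227 : sm ge N18266 = N16271 := ded_25_1 L117061 L116088 L129219
theorem L129229 : sm gg N18266 = N16270 := ded_29_3 L117045 L116066 L102304 L129219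
theorem L129231 : sm ga N13362 = N18267 := rfl
theorem L129233 : sm gd N18267 = N13913 := ded_9_2 (flp_a L105091) (flp_d L102310) L129231
theorem L129235 : sm gc N13362 = N18268 := rfl
theorem L129237 : sm gb N18268 = N18268 := ded_13_1 (flp_c L129235) (flp_b L102308) L88174 L102308 L129235
theorem L129238 : sm gf N13362 = N18269 := rfl
theorem L129240 : sm gd N18269 = N13915 := ded_23_1 (flp_f L105095) (flp_d L102310) L129238
theorem L129242 : sm gb N18269 = N18244 := ded_16_1 (flp_f L129097) (flp_b L102251) (flp_f L88177) L102308 L129238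
theorem L129244 : sm gg N13890 = N18269 := ded_24_0 L129240 (flp_g L129185) L129169
theorem L129246 : sm ga N13363 = N18270 := rfl
theorem L129248 : sm gd N18270 = N13928 := ded_9_2 (flp_a L105153) (flp_d L102314) L129246
theorem L129250 : sm gc N13363 = N18271 := rfl
theorem L129252 : sm gb N18271 = N18271 := ded_13_1 (flp_c L129250) (flp_b L102312) L88183 L102312 L129250
theorem L129253 : sm gg N13363 = N18272 := rfl
theorem L129255 : sm gd N18272 = N13930 := ded_24_1 (flp_g L105157) (flp_d L102314) L129253
theorem L129257 : sm gb N18272 = N18241 := ded_17_1 (flp_g L129082) (flp_b L102247) (flp_g L88186) L102312 L129253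
theorem L129259 : sm gc N13364 = N18273 := rfl
theorem L129261 : sm ga N18273 = N13365 := ded_8_1 (flp_c L102322) L102316 L129259
theorem L129263 : sm gb N18273 = N14039 := ded_13_1 L105606 L105260 (flp_c L105208) (flp_b L102320) L129259
theorem L129265 : sm gf N13364 = N18274 := rfl
theorem L129267 : sm ga N18274 = N13366 := ded_11_1 (flp_f L102325) L102316 L129265
theorem L129269 : sm gd N18274 = N13945 := ded_23_1 (flp_f L105212) (flp_d L102318) L129265
theorem L129271 : sm gg N13364 = N18275 := rfl
theorem L129273 : sm ga N18275 = N13367 := ded_12_1 (flp_g L102329) L102316 L129271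
theorem L129275 : sm gd N18275 = N13946 := ded_24_1 (flp_g L105216) (flp_d L102318) L129271
theorem L129280 : sm gf N13365 = N18277 := rfl
theorem L129282 : sm gc N18277 = N13366 := ded_20_1 (flp_f L102325) L102322 L129280
theorem L129284 : sm gg N13365 = N18278 := rfl
theorem L129286 : sm gc N18278 = N13367 := ded_21_1 (flp_g L102329) L102322 L129284
theorem L129288 : sm gb N13366 = N18279 := rfl
theorem L129290 : sm gd N18279 = N13951 := ded_14_2 (flp_b L105234) (flp_d L102327) L129288
theorem L129292 : sm gf N18279 = N13368 := ded_16_2 (flp_b L102333) (flp_f L88192) L88188 L102325 L129288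
theorem L129294 : sm gg N13366 = N18280 := rfl
theorem L129296 : sm gd N18280 = N13952 := ded_24_1 (flp_g L105238) (flp_d L102327) L129294
theorem L129298 : sm gf N18275 = N18280 := ded_29_0 (flp_g L129294) (flp_f L102325) L102329 (flp_a L129273)
theorem L129300 : sm gf N13367 = N18281 := rfl
theorem L129302 : sm ga N18281 = N18280 := ded_11_1 (flp_f L129298) L129273 L129300
theorem L129304 : sm gd N18281 = N13953 := ded_23_1 (flp_f L105242) (flp_d L102331) L129300
theorem L129306 : sm gg N18281 = N18274 := ded_29_3 L129267 (flp_f L102325) L102329 L129300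
theorem L129308 : sm ga N13368 = N18282 := rfl
theorem L129310 : sm gd N18282 = N13961 := ded_9_2 (flp_a L105284) (flp_d L102335) L129308
theorem L129312 : sm gc N13368 = N18283 := rfl
theorem L129314 : sm gb N18283 = N18283 := ded_13_1 (flp_c L129312) (flp_b L102333) L88196 L102333 L129312
theorem L129315 : sm gg N13368 = N18284 := rfl
theorem L129317 : sm gd N18284 = N13963 := ded_24_1 (flp_g L105288) (flp_d L102335) L129315
theorem L129319 : sm gb N18284 = N18257 := ded_17_1 (flp_g L129163) (flp_b L102273) L88199 L102333 L129315
theorem L129321 : sm gf N13872 = N18284 := ded_23_0 L129317 (flp_f L129119) L129103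
theorem L129323 : sm ga N13369 = N18285 := rfl
theorem L129325 : sm gd N18285 = N13976 := ded_9_2 (flp_a L105350) (flp_d L102339) L129323
theorem L129327 : sm gc N13369 = N18286 := rfl
theorem L129329 : sm gb N18286 = N18286 := ded_13_1 (flp_c L129327) (flp_b L102337) L88205 L102337 L129327
theorem L129330 : sm gf N13369 = N18287 := rfl
theorem L129332 : sm gd N18287 = N13978 := ded_23_1 (flp_f L105354) (flp_d L102339) L129330
theorem L129334 : sm gb N18287 = N18253 := ded_16_1 (flp_f L129142) (flp_b L102269) L88208 L102337 L129330
theorem L129336 : sm ga N13370 = N18288 := rfl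
theorem L129338 : sm gd N18288 = N13372 := ded_9_2 (flp_a L102357) (flp_d L102343) L129336
theorem L129340 : sm ge N18288 = N13384 := ded_10_2 (flp_a L102417) (flp_e L102345) L129336
theorem L129342 : sm gf N18288 = N13372 := ded_11_2 (flp_a L102357) (flp_f L102347) L129336
theorem L129344 : sm gb N14681 = N18288 := ded_15_3 L129340 L118998 L108985
theorem L129346 : sm gc N18288 = N16451 := ded_30_1 (flp_b L118125) (flp_a L96596) L96606 (flp_c L117143) L117147 (flp_a L101953) L88055 L72008 (flp_b L32844) L15802 (flp_f L8935) (flp_c L4547) (flp_b L4393) (flp_a L8513) L17477 (flp_c L36488) L88228 L102357 (flp_f L129342)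
theorem L129348 : sm gc N13370 = N18289 := rfl
theorem L129350 : sm ga N18289 = N16451 := ded_8_1 (flp_c L129346) (flp_a L129336) L129348
theorem L129352 : sm ge N18289 = N13385 := ded_19_2 (flp_c L102421) (flp_e L102345) L129348
theorem L129354 : sm gf N18289 = N13373 := ded_20_2 (flp_c L102361) (flp_f L102347) L129348
theorem L129356 : sm gb N18289 = N18289 := ded_13_1 (flp_c L129348) (flp_b L102341) L88214 L102341 L129348
theorem L129357 : sm gd N16456 = N18289 := ded_9_0 L129350 L118127 L118212
theorem L129359 : sm gg N13370 = N18290 := rfl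
theorem L129361 : sm gd N18290 = N13374 := ded_24_1 (flp_g L102367) (flp_d L102343) L129359
theorem L129363 : sm ge N18290 = N13386 := ded_26_1 (flp_g L102426) (flp_e L102345) L129359
theorem L129365 : sm ga N13371 = N18291 := rfl
theorem L129367 : sm gd N18291 = N13375 := ded_9_2 (flp_a L102371) (flp_d L102351) L129365
theorem L129369 : sm ge N18291 = N13388 := ded_10_2 (flp_a L102430) (flp_e L102353) L129365
theorem L129371 : sm gg N18291 = N13375 := ded_12_2 (flp_a L102371) (flp_g L102355) L129365
theorem L129373 : sm gc N13371 = N18292 := rfl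
theorem L129375 : sm ge N18292 = N13389 := ded_19_2 (flp_c L102434) (flp_e L102353) L129373
theorem L129377 : sm gg N18292 = N13376 := ded_21_2 (flp_c L102375) (flp_g L102355) L129373
theorem L129379 : sm gb N18292 = N18292 := ded_13_1 (flp_c L129373) (flp_b L102349) L88223 L102349 L129373
theorem L129380 : sm gf N13371 = N18293 := rfl
theorem L129382 : sm gd N18293 = N13377 := ded_23_1 (flp_f L102381) (flp_d L102351) L129380
theorem L129384 : sm ge N18293 = N13390 := ded_25_1 (flp_f L102439) (flp_e L102353) L129380
theorem L129386 : sm gb N13372 = N18294 := rfl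
theorem L129388 : sm gd N18294 = N14681 := ded_14_2 L129344 L129338 L129386
theorem L129390 : sm ge N18294 = N13392 := ded_15_2 (flp_b L102443) (flp_e L102359) L129386
theorem L129392 : sm gc N13372 = N18295 := rfl
theorem L129394 : sm ga N18295 = N13373 := ded_8_1 (flp_c L102361) L102357 L129392
theorem L129396 : sm ge N18295 = N13393 := ded_19_2 (flp_c L102445) (flp_e L102359) L129392
theorem L129398 : sm gf N18295 = N16451 := ded_20_2 (flp_c L129346) L129342 L129392
theorem L129400 : sm gd N16005 = N18295 := ded_23_3 L129398 L118127 (flp_f L115591)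
theorem L129402 : sm gb N18295 = N16006 := ded_14_1 (flp_d L115593) L115587 L129400
theorem L129404 : sm gg N13372 = N18296 := rfl
theorem L129406 : sm ga N18296 = N13374 := ded_12_1 (flp_g L102367) L102357 L129404
theorem L129408 : sm ge N18296 = N13394 := ded_26_1 (flp_g L102449) (flp_e L102359) L129404
theorem L129410 : sm gf N18296 = N18290 := ded_29_2 (flp_g L129359) L129336 L129342 L129404
theorem L129412 : sm gd N13373 = N18297 := rfl
theorem L129414 : sm ga N18297 = N16005 := ded_9_1 L129400 L129394 L129412
theorem L129416 : sm gb N18297 = N13378 := ded_14_1 (flp_d L102385) (flp_b L102365) L129412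
theorem L129418 : sm gf N18297 = N16456 := ded_23_2 L129357 L129354 L129412
theorem L129420 : sm ge N16616 = N18297 := ded_10_0 L129414 L115589 L120846
theorem L129422 : sm gg N13373 = N18298 := rfl
theorem L129424 : sm gc N18298 = N13374 := ded_21_1 (flp_g L102367) L102361 L129422
theorem L129426 : sm ge N18298 = N13396 := ded_26_1 (flp_g L102459) (flp_e L102363) L129422
theorem L129428 : sm gf N13374 = N18299 := rfl
theorem L129430 : sm ga N18299 = N18290 := ded_11_1 (flp_f L129410) L129406 L129428
theorem L129432 : sm gd N18299 = N18296 := ded_23_1 L129410 L129361 L129428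
theorem L129434 : sm ge N18299 = N13397 := ded_25_1 (flp_f L102463) (flp_e L102369) L129428
theorem L129436 : sm gg N18299 = N18288 := ded_29_3 (flp_a L129336) L102347 L102367 L129428
theorem L129438 : sm gb N13375 = N18300 := rfl
theorem L129440 : sm ge N18300 = N13398 := ded_15_2 (flp_b L102469) (flp_e L102373) L129438
theorem L129442 : sm gc N13375 = N18301 := rfl
theorem L129444 : sm ga N18301 = N13376 := ded_8_1 (flp_c L102375) L102371 L129442
theorem L129446 : sm ge N18301 = N13399 := ded_19_2 (flp_c L102471) (flp_e L102373) L129442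
theorem L129448 : sm gf N13375 = N18302 := rfl
theorem L129450 : sm ga N18302 = N13377 := ded_11_1 (flp_f L102381) L102371 L129448
theorem L129452 : sm ge N18302 = N13400 := ded_25_1 (flp_f L102475) (flp_e L102373) L129448
theorem L129454 : sm gg N18293 = N18302 := ded_29_1 (flp_f L129448) (flp_g L129371) (flp_a L129365) L129380
theorem L129456 : sm gd N13376 = N18303 := rfl
theorem L129458 : sm gb N18303 = N13379 := ded_14_1 (flp_d L102389) (flp_b L102379) L129456
theorem L129460 : sm gf N13376 = N18304 := rfl
theorem L129462 : sm gc N18304 = N13377 := ded_20_1 (flp_f L102381) L102375 L129460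
theorem L129464 : sm ge N18304 = N13402 := ded_25_1 (flp_f L102485) (flp_e L102377) L129460
theorem L129466 : sm gg N13377 = N18305 := rfl
theorem L129468 : sm ga N18305 = N18293 := ded_12_1 L129454 L129450 L129466
theorem L129470 : sm gd N18305 = N18302 := ded_24_1 (flp_g L129454) L129382 L129466
theorem L129472 : sm ge N18305 = N13403 := ded_26_1 (flp_g L102489) (flp_e L102383) L129466
theorem L129474 : sm gf N18291 = N18305 := ded_29_0 (flp_g L129466) (flp_f L102381) (flp_g L102355) L129365
theorem L129476 : sm ge N13378 = N18306 := rfl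
theorem L129478 : sm ga N18306 = N18306 := ded_10_1 (flp_e L129476) L102387 L129476
theorem L129479 : sm gb N18306 = N16616 := ded_15_1 L129420 L129416 L129476
theorem L129481 : sm gc N18306 = N16656 := ded_19_1 L121060 L104335 L129476
theorem L129483 : sm gf N18306 = N18306 := ded_25_2 (flp_e L129476) L102388 L129476
theorem L129484 : sm gg N18306 = N16656 := ded_26_2 L121060 L104333 L129476
theorem L129486 : sm gd N18306 = N13404 := ded_22_1 (flp_e L102495) (flp_d L88308) (flp_e L88239) L102385 L129476
theorem L129488 : sm ge N13379 = N18307 := rfl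
theorem L129490 : sm ga N18307 = N18307 := ded_10_1 (flp_e L129488) L102391 L129488
theorem L129491 : sm gg N18307 = N18307 := ded_26_2 (flp_e L129488) L102392 L129488
theorem L129492 : sm gd N18307 = N13405 := ded_22_1 (flp_e L102500) (flp_d L88313) (flp_e L88245) L102389 L129488
theorem L129494 : sm gb N13381 = N18308 := rfl
theorem L129496 : sm gd N18308 = N13491 := ded_14_2 (flp_b L102972) (flp_d L102401) L129494
theorem L129498 : sm ge N18308 = N13414 := ded_15_2 (flp_b L102545) (flp_e L102403) L129494
theorem L129500 : sm gg N18308 = N13383 := ded_17_2 (flp_b L102411) (flp_g L88263) L88248 L102399 L129494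
theorem L129502 : sm ga N13382 = N18309 := rfl
theorem L129504 : sm gd N18309 = N13517 := ded_9_2 (flp_a L103086) (flp_d L102407) L129502
theorem L129506 : sm ge N18309 = N13424 := ded_10_2 (flp_a L102603) (flp_e L102409) L129502
theorem L129508 : sm gf N18309 = N15612 := ded_11_2 L113733 L119773 L129502
theorem L129510 : sm gc N18309 = N16263 := ded_28_0 L117009 (flp_c L121793) L121795 L114814 (flp_d L120218) (flp_c L103090) (flp_d L102407) L129502
theorem L129512 : sm gb N18309 = N15635 := ded_7_2 L120459 L119759 L119359 (flp_b L118998) (flp_a L102417) (flp_b L88272) (flp_a L88256) L102405 L129502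
theorem L129514 : sm gc N13382 = N18310 := rfl
theorem L129516 : sm ga N18310 = N16263 := ded_8_1 (flp_c L129510) (flp_a L129502) L129514
theorem L129518 : sm ge N18310 = N13425 := ded_19_2 (flp_c L102607) (flp_e L102409) L129514
theorem L129520 : sm gb N18310 = N18310 := ded_13_1 (flp_c L129514) (flp_b L102405) L88258 L102405 L129514
theorem L129521 : sm gd N18310 = N16797 := ded_28_7 L121751 (flp_c L121793) L121795 L114814 (flp_d L120218) (flp_c L103090) (flp_d L102407) L129514
theorem L129523 : sm gg N13382 = N18311 := rfl
theorem L129525 : sm gd N18311 = N13519 := ded_24_1 (flp_g L103094) (flp_d L102407) L129523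
theorem L129527 : sm ge N18311 = N13426 := ded_26_1 (flp_g L102610) (flp_e L102409) L129523
theorem L129529 : sm ga N13383 = N18312 := rfl
theorem L129531 : sm gd N18312 = N13521 := ded_9_2 (flp_a L103104) (flp_d L102413) L129529
theorem L129533 : sm ge N18312 = N13428 := ded_10_2 (flp_a L102620) (flp_e L102415) L129529
theorem L129535 : sm gc N16366 = N18312 := ded_19_3 L129533 L117537 L117639
theorem L129537 : N15785 = N13522 := coi_28_6 (flp_c L103108) (flp_d L102413) L129529 (flp_c L129535) L117643 (flp_c L122692) L122694 L114987 (flp_d L114480)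
theorem L129538 : N15785 = N13522 := eqc rfl L129537 rfl
theorem L129539 : sm ga N13522 = N11958 := trfs L129538 (flp_a L114478) rfl
theorem L129541 : sm gd N13522 = N12025 := trfs L129538 L114480 rfl
theorem L129543 : sm ge N13522 = N14282 := trfs L129538 L114482 rfl
theorem L129544 : N14282 = N10767 := eqes L129543 L103110
theorem L129545 : N14282 = N10767 := eqc rfl L129544 rfl
theorem L129546 : sm ga N10767 = N11167 := trfs L129545 L106863 rfl
theorem L129547 : N11167 = N13536 := eqes L129546 (flp_a L103178)
theorem L129548 : N13536 = N11167 := (eqc rfl L129547 rfl).symm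
theorem L129549 : sm gd N10767 = N11164 := trfs L129545 (flp_d L106861) rfl
theorem L129550 : N11164 = N13538 := eqes L129549 L103188
theorem L129551 : N13538 = N11164 := (eqc rfl L129550 rfl).symm
theorem L129552 : sm gb N11164 = N14434 := trfs L129551 (flp_b L107683) rfl
theorem L129553 : N14434 = N14279 := eqes L129552 (flp_b L106855)
theorem L129554 : N14434 = N14279 := eqc rfl L129553 rfl
theorem L129555 : sm gd N11164 = N10767 := trfs L129551 (flp_d L103188) rfl
theorem L129557 : sm gd N14279 = N11252 := trfs L129554 (flp_d L107681) rfl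
theorem L129559 : sm ga N11167 = N10767 := trfs L129548 L103178 rfl
theorem L129561 : sm gc N11167 = N10766 := trfs L129548 (flp_c L103176) rfl
theorem L129562 : N10766 = N14287 := eqes L129561 L106881
theorem L129563 : N14287 = N10766 := (eqc rfl L129562 rfl).symm
theorem L129564 : sm gb N10766 = N15730 := trfs L129563 (flp_b L114248) rfl
theorem L129565 : N15730 = N13535 := eqes L129564 L103172
theorem L129566 : N15730 = N13535 := eqc rfl L129565 rfl
theorem L129567 : sm gc N10766 = N11167 := trfs L129563 (flp_c L106881) rfl
theorem L129569 : sm ge N10766 = N15762 := trfs L129563 (flp_e L114384) rfl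
theorem L129570 : N15762 = N13521 := eqes L129569 (flp_e L103106)
theorem L129571 : N15762 = N13521 := eqc rfl L129570 rfl
theorem L129572 : sm gb N13521 = N11947 := trfs L129571 (flp_b L114382) rfl
theorem L129574 : sm gc N13521 = N11958 := trfs L129571 L114386 rfl
theorem L129576 : sm gc N13535 = N11932 := trfs L129566 (flp_c L114244) rfl
theorem L129578 : sm ge N13535 = N11947 := trfs L129566 L114246 rfl
theorem L129580 : N14157 = N13576 := coi_32_19 (flp_c L103332) L88738 (flp_d L37311) (flp_c L17872) L8695 L8735 L8741 L5193 L5243 L82593 (flp_d L2877) (flp_c L1462) (flp_b L695) (flp_d L671) L669 L360 L171 L97 L95 L51 (flp_d L95) (flp_c L171) L387 (flp_d L808) L1658 L82407 L876 L1766 L82636 (flp_c L2775) L1424 L1462 L1464 (flp_e L1489) L2940 L5663 (flp_d L11400) (flp_c L11396) L77994 (flp_d L5659) (flp_c L2934) L1484 L2934 L82102 L5659 L11396 L11400 (flp_c L5663) (flp_b L5490) (flp_d L5488) (flp_c L2829) (flp_d L2809) L5428 (flp_b L10793) L22405 L46569 L85640 (flp_c L85636) (flp_b L85630) L98208 (flp_d L117643) L129535 L129531 L129574 (flp_b L94827) L84043 (flp_c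 L24690) (flp_d L11875) L5869 L82158 (flp_d L11406) (flp_c L23705) L83987 L83993 (flp_b L90736) (flp_d L90734) (flp_c L90241) L106192
theorem L129581 : N14157 = N13576 := eqc rfl L129580 rfl
theorem L129582 : sm gb N13576 = N11087 := trfs L129581 L106194 rfl
theorem L129584 : sm gd N13576 = N11082 := trfs L129581 (flp_d L106192) rfl
theorem L129586 : sm gd N15913 = N14423 := ded_14_2 L107627 L129541 L115094
theorem L129588 : sm gd N13539 = N14283 := ded_23_3 (flp_f L106865) L129555 L103190
theorem L129590 : sm gd N13498 = N14284 := ded_24_3 (flp_g L106871) L129555 (flp_g L103012)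
theorem L129592 : sm ga N13539 = N14288 := ded_11_3 (flp_f L106883) L129559 L103190
theorem L129594 : sm ga N13498 = N14289 := ded_12_3 (flp_g L106887) L129559 (flp_g L103012)
theorem L129596 : sm gc N14288 = N13537 := ded_20_3 (flp_f L103180) L129567 L106883
theorem L129598 : sm gc N14289 = N13497 := ded_21_3 L103008 L129567 L106887
theorem L129600 : sm gb N15763 = N18312 := ded_14_3 L129531 L129572 L114388
theorem L129602 : N13568 = N13569 := coi_28_0 (flp_c L103310) (flp_d L103174) L129576 (flp_d L94719) L83976 L94719 (flp_c L129576) L103174 L103308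
theorem L129603 : N13569 = N13568 := (eqc rfl L129602 rfl).symm
theorem L129604 : sm gc N13568 = N10780 := trfs L129603 (flp_c L103310) rfl
theorem L129606 : N14166 = N13609 := coi_13_3 (flp_b L103474) (flp_c L88802) (flp_b L88738) L103332 L129582 L106244
theorem L129607 : N14166 = N13609 := eqc rfl L129606 rfl
theorem L129608 : sm ga N13609 = N13646 := trfs L129607 L106246 rfl
theorem L129610 : sm gc N13609 = N11087 := trfs L129607 (flp_c L106244) rfl
theorem L129612 : sm gd N13609 = N13638 := trfs L129607 L106250 rfl
theorem L129613 : N13638 = N13637 := eqes L129612 (flp_d L103634)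
theorem L129614 : N13638 = N13637 := eqc rfl L129613 rfl
theorem L129615 : sm gg N13609 = N14147 := trfs L129607 L106248 rfl
theorem L129617 : sm ga N13637 = N10821 := trfs L129614 L103638 rfl
theorem L129619 : sm gc N13637 = N10818 := trfs L129614 L103640 rfl
theorem L129621 : sm ge N13637 = N10817 := trfs L129614 (flp_e L103636) rfl
theorem L129623 : sm gf N13637 = N14169 := trfs L129614 L106268 rfl
theorem L129625 : sm gg N13637 = N11079 := trfs L129614 L103642 rfl
theorem L129627 : sm gb N14147 = N14056 := ded_17_1 (flp_g L105674) (flp_b L89975) (flp_g L88804) L103474 L129615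
theorem L129629 : N13635 = N13634 := coi_13_2 (flp_c L103614) L88904 L88914 L103632 L129619 (flp_b L103621)
theorem L129630 : N13635 = N13634 := eqc rfl L129629 rfl
theorem L129632 : sm gb N13634 = N10818 := trfs L129630 L103621 rfl
theorem L129636 : sm ge N13634 = N10815 := trfs L129630 (flp_e L103618) rfl
theorem L129639 : N14144 = N14146 := coi_17_2 (flp_g L106139) (flp_b L90218) (flp_g L88918) L103632 L129625 (flp_b L106131)
theorem L129640 : N14146 = N14144 := (eqc rfl L129639 rfl).symm
theorem L129642 : sm gd N14144 = N14056 := trfs L129640 L106142 rfl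
theorem L129644 : sm gg N14144 = N11078 := trfs L129640 (flp_g L106139) rfl
theorem L129646 : sm gc N13383 = N18313 := rfl
theorem L129648 : sm ga N18313 = N16366 := ded_8_1 L129535 (flp_a L129529) L129646
theorem L129650 : sm ge N18313 = N13429 := ded_19_2 (flp_c L102624) (flp_e L102415) L129646
theorem L129652 : sm gb N18313 = N18313 := ded_13_1 (flp_c L129646) (flp_b L102411) L88267 L102411 L129646
theorem L129653 : sm gd N18313 = N16981 := ded_28_7 L122655 (flp_c L122692) L122694 L114987 (flp_d L129541) (flp_c L103108) (flp_d L102413) L129646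
theorem L129655 : sm gf N13383 = N18314 := rfl
theorem L129657 : sm gd N18314 = N13523 := ded_23_1 (flp_f L103112) (flp_d L102413) L129655
theorem L129659 : sm ge N18314 = N13430 := ded_25_1 (flp_f L102627) (flp_e L102415) L129655
theorem L129661 : sm gc N13384 = N18315 := rfl
theorem L129663 : sm ga N18315 = N13385 := ded_8_1 (flp_c L102421) L102417 L129661
theorem L129665 : sm ge N18315 = N16451 := ded_19_2 (flp_c L129346) L129340 L129661
theorem L129667 : sm gf N18315 = N13393 := ded_20_2 (flp_c L102445) (flp_f L102419) L129661
theorem L129669 : sm gb N18315 = N16452 := ded_30_2 L118131 L118143 L118145 (flp_b L102247) (flp_a L88134) L33086 L67117 (flp_b L15924) L7805 (flp_f L4615) (flp_c L2392) (flp_b L2296) (flp_a L4369) L8545 (flp_c L17531) L36610 L88292 (flp_f L102419) L129661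
theorem L129671 : sm gd N17144 = N18315 := ded_32_1 (flp_c L129661) L119000 (flp_c L91790) (flp_b L44097) L21159 L17531 L8549 L4375 L49042 (flp_d L5015) (flp_c L9877) (flp_d L20535) L20533 L37219 L37221 L37247 L88696 (flp_c L119411) L119549 (flp_d L90089) L39995 L18977 L69199 L18001 (flp_e L10337) (flp_d L5215) (flp_c L2709) (flp_d L2643) L69756 L69761 L2761 L2841 L5519 L80884 L6664 (flp_d L6662) (flp_c L3419) (flp_d L81194) (flp_c L2763) (flp_b L1418) L663 L295 L143 L72 L151 (flp_d L319) L711 L1508 (flp_c L2506) (flp_b L4695) L9303 (flp_d L18977) (flp_c L39995) L90089 (flp_c L119859) (flp_b L103415) L88847 (flp_c L88841) (flp_d L37364) (flp_c L17888) L58266 (flp_d L17850) L37269 L88767 L88867 L119578 L119576 L88859 L92158 L109659 L109661 L118200 L98679 (flp_d L118188) (flp_c L98635) L98631 (flp_e L123381)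
theorem L129673 : sm gd N13385 = N18316 := rfl
theorem L129675 : sm ga N18316 = N17144 := ded_9_1 L129671 L129663 L129673
theorem L129677 : sm gb N18316 = N18316 := ded_14_1 (flp_d L129673) L102425 L129673
theorem L129678 : sm gf N18316 = N13395 := ded_23_2 (flp_d L102455) (flp_f L102423) L129673
theorem L129680 : sm ge N18316 = N17146 := ded_22_2 L123395 (flp_e L118214) L129357 L129352 L129673
theorem L129682 : sm gc N18316 = N13395 := ded_28_6 (flp_d L102455) (flp_a L102447) (flp_c L102445) (flp_d L91788) L118963 L91772 L102421 L129673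
theorem L129684 : sm gg N13385 = N18317 := rfl
theorem L129686 : sm gc N18317 = N13386 := ded_21_1 (flp_g L102426) L102421 L129684
theorem L129688 : sm gb N13386 = N18318 := rfl
theorem L129690 : sm gg N18318 = N13387 := ded_17_2 (flp_b L102428) (flp_g L88276) L88272 L102426 L129688
theorem L129692 : sm ga N13387 = N18319 := rfl
theorem L129697 : sm gf N13387 = N18321 := rfl
theorem L129699 : sm gb N18321 = N18314 := ded_16_1 (flp_f L129655) (flp_b L102411) L88279 L102428 L129697
theorem L129701 : sm gb N13388 = N18322 := rfl
theorem L129703 : sm gc N13388 = N18323 := rfl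
theorem L129705 : sm ga N18323 = N13389 := ded_8_1 (flp_c L102434) L102430 L129703
theorem L129707 : sm gg N18323 = N13399 := ded_21_2 (flp_c L102471) (flp_g L102432) L129703
theorem L129709 : sm gd N13389 = N18324 := rfl
theorem L129711 : sm gb N18324 = N18324 := ded_14_1 (flp_d L129709) L102438 L129709
theorem L129712 : sm gg N18324 = N13401 := ded_24_2 (flp_d L102481) (flp_g L102436) L129709
theorem L129714 : sm gf N13389 = N18325 := rfl
theorem L129716 : sm gc N18325 = N13390 := ded_20_1 (flp_f L102439) L102434 L129714
theorem L129718 : sm gb N13390 = N18326 := rfl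
theorem L129720 : sm gf N18326 = N13391 := ded_16_2 (flp_b L102441) (flp_f L88285) L88281 L102439 L129718
theorem L129722 : sm ga N13391 = N18327 := rfl
theorem L129727 : sm gg N13391 = N18329 := rfl
theorem L129729 : sm gb N18329 = N18311 := ded_17_1 (flp_g L129523) (flp_b L102405) (flp_g L88290) L102441 L129727
theorem L129731 : sm gg N13392 = N18330 := rfl
theorem L129733 : sm gd N18330 = N14656 := ded_24_1 (flp_g L108857) (flp_d L118976) L129731
theorem L129735 : sm gf N18330 = N14848 := ded_29_2 (flp_g L109673) (flp_a L109645) (flp_f L120245) L129731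
theorem L129737 : sm gb N13393 = N18331 := rfl
theorem L129739 : sm ge N18331 = N16006 := ded_15_2 (flp_b L129402) L129396 L129737
theorem L129741 : sm ga N16010 = N18331 := ded_10_3 L129739 L115595 L115615
theorem L129743 : sm gd N16619 = N18331 := ded_22_5 L129739 (flp_d L115593) L95434 L97126 L120862
theorem L129745 : sm gd N13393 = N18332 := rfl
theorem L129747 : sm ga N18332 = N13395 := ded_9_1 (flp_d L102455) (flp_a L102447) L129745
theorem L129749 : sm gb N18332 = N16619 := ded_14_1 L129743 (flp_b L129737) L129745
theorem L129751 : sm gf N18332 = N17144 := ded_23_2 L129671 L129667 L129745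
theorem L129753 : sm ge N18332 = N16617 := ded_22_2 (flp_d L120852) (flp_e L115589) L129400 L129396 L129745
theorem L129755 : sm gc N17144 = N18332 := ded_28_0 (flp_d L129745) (flp_c L102445) (flp_d L91788) L118963 L91772 L102421 L129673 L129675
theorem L129757 : sm gg N13393 = N18333 := rfl
theorem L129759 : sm ga N18333 = N13396 := ded_12_1 (flp_g L102459) (flp_a L102447) L129757
theorem L129761 : sm gc N18333 = N13394 := ded_21_1 (flp_g L102449) L102445 L129757
theorem L129763 : sm gf N18333 = N18317 := ded_29_2 (flp_g L129684) (flp_a L129663) L129667 L129757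
theorem L129765 : sm gb N13394 = N18334 := rfl
theorem L129767 : sm ge N13395 = N18335 := rfl
theorem L129769 : sm ga N18335 = N16617 := ded_10_1 (flp_e L129753) L129747 L129767
theorem L129771 : sm gb N18335 = N13404 := ded_15_1 (flp_e L102495) (flp_b L102457) L129767
theorem L129773 : sm gc N18335 = N17146 := ded_19_1 (flp_e L129680) L129682 L129767
theorem L129775 : sm gf N18335 = N17146 := ded_25_2 (flp_e L129680) L129678 L129767
theorem L129777 : sm gd N18335 = N16616 := ded_22_1 L129420 (flp_d L129412) L102363 L102455 L129767
theorem L129779 : sm gg N13395 = N18336 := rfl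
theorem L129781 : sm gd N18336 = N13396 := ded_24_1 (flp_g L102459) L102455 L129779
theorem L129783 : sm gf N13396 = N18337 := rfl
theorem L129785 : sm ga N18337 = N18317 := ded_11_1 (flp_f L129763) L129759 L129783
theorem L129787 : sm gc N18337 = N13397 := ded_20_1 (flp_f L102463) (flp_c L102461) L129783
theorem L129789 : sm gg N18337 = N18315 := ded_29_3 L129663 L102423 L102459 L129783
theorem L129791 : sm gb N13397 = N18338 := rfl
theorem L129793 : sm ga N13398 = N18339 := rfl
theorem L129795 : sm gb N18339 = N13568 := ded_7_2 (flp_a L103308) (flp_b L88724) (flp_a L37255) (flp_b L17838) (flp_a L17535) L36612 L88300 L102469 L129793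
theorem L129797 : sm gc N13572 = N18339 := ded_13_0 L129795 L129604 (flp_b L88724) L88726 L103316
theorem L129799 : sm gc N13398 = N18340 := rfl
theorem L129801 : sm ga N18340 = N13572 := ded_8_1 L129797 (flp_a L129793) L129799
theorem L129803 : sm gf N13398 = N18341 := rfl
theorem L129805 : sm gg N13398 = N18342 := rfl
theorem L129807 : sm gb N13399 = N18343 := rfl
theorem L129809 : sm gd N13399 = N18344 := rfl
theorem L129811 : sm ga N18344 = N13401 := ded_9_1 (flp_d L102481) (flp_a L102473) L129809
theorem L129813 : sm gf N13399 = N18345 := rfl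
theorem L129815 : sm ga N18345 = N13402 := ded_11_1 (flp_f L102485) (flp_a L102473) L129813
theorem L129817 : sm gc N18345 = N13400 := ded_20_1 (flp_f L102475) L102471 L129813
theorem L129819 : sm gg N18325 = N18345 := ded_29_1 (flp_f L129813) (flp_g L129707) L129705 L129714
theorem L129821 : sm gb N13400 = N18346 := rfl
theorem L129823 : sm gc N13401 = N18347 := rfl
theorem L129826 : sm ge N13401 = N18348 := rfl
theorem L129828 : sm gb N18348 = N13405 := ded_15_1 (flp_e L102500) (flp_b L102483) L129826
theorem L129830 : sm gf N13401 = N18349 := rfl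
theorem L129832 : sm gd N18349 = N13402 := ded_23_1 (flp_f L102485) L102481 L129830
theorem L129834 : sm gg N13402 = N18350 := rfl
theorem L129836 : sm ga N18350 = N18325 := ded_12_1 L129819 L129815 L129834
theorem L129838 : sm gc N18350 = N13403 := ded_21_1 (flp_g L102489) (flp_c L102487) L129834
theorem L129840 : sm gf N18323 = N18350 := ded_29_0 (flp_g L129834) (flp_f L102485) (flp_g L102436) (flp_a L129705)
theorem L129842 : sm gb N13403 = N18351 := rfl
theorem L129844 : sm gg N13406 = N18352 := rfl
theorem L129846 : sm gc N18352 = N18182 := ded_21_1 L128729 L128673 L129844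
theorem L129848 : sm ge N18352 = N13463 := ded_26_1 (flp_g L102821) (flp_e L102507) L129844
theorem L129850 : sm gf N18177 = N18352 := ded_29_0 (flp_g L129844) (flp_f L102505) L102509 (flp_a L128687)
theorem L129852 : sm gb N13407 = N18353 := rfl
theorem L129854 : sm ge N18353 = N13464 := ded_15_2 (flp_b L102827) (flp_e L102511) L129852
theorem L129858 : sm gf N13407 = N18354 := rfl
theorem L129860 : sm ga N18354 = N18352 := ded_11_1 (flp_f L129850) L128687 L129858
theorem L129862 : sm gc N18354 = N18180 := ded_20_1 (flp_f L128715) L128681 L129858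
theorem L129864 : sm gd N18354 = N18352 := ded_23_1 (flp_f L129850) L128691 L129858
theorem L129866 : sm ge N18354 = N13465 := ded_25_1 (flp_f L102831) (flp_e L102511) L129858
theorem L129868 : sm gg N18354 = N14817 := ded_29_3 L119809 (flp_f L102505) L102509 L129858
theorem L129870 : sm gb N17364 = N18354 := ded_15_3 L129866 L119053 (flp_e L124491)
theorem L129880 : sm gc N13411 = N18357 := rfl
theorem L129882 : sm ge N18357 = N13477 := ded_19_2 (flp_c L102898) (flp_e L102531) L129880
theorem L129884 : sm gb N18357 = N13668 := ded_13_1 (flp_c L103814) (flp_b L89050) (flp_c L88338) L102529 L129880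
theorem L129886 : sm gf N13411 = N18358 := rfl
theorem L129888 : sm ge N18358 = N13478 := ded_25_1 (flp_f L102902) (flp_e L102531) L129886
theorem L129890 : sm ga N13412 = N18359 := rfl
theorem L129892 : sm gd N18359 = N13416 := ded_9_2 (flp_a L102559) (flp_d L102535) L129890
theorem L129894 : sm ge N18359 = N15612 := ded_10_2 L113733 (flp_e L119771) L129890
theorem L129896 : sm gf N18359 = N13424 := ded_11_2 (flp_a L102603) (flp_f L102537) L129890
theorem L129898 : sm gc N16264 = N18359 := ded_20_3 L129896 L116899 L117011
theorem L129900 : sm gc N13412 = N18360 := rfl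
theorem L129902 : sm ga N18360 = N16264 := ded_8_1 L129898 (flp_a L129890) L129900
theorem L129904 : sm gf N18360 = N13425 := ded_20_2 (flp_c L102607) (flp_f L102537) L129900
theorem L129906 : sm gd N16261 = N18360 := ded_9_0 L129902 L117013 (flp_a L116995)
theorem L129908 : sm gg N13412 = N18361 := rfl
theorem L129910 : sm gd N18361 = N13418 := ded_24_1 (flp_g L102573) (flp_d L102535) L129908
theorem L129912 : sm gb N13413 = N18362 := rfl
theorem L129914 : sm gd N18362 = N13419 := ded_14_2 (flp_b L102577) (flp_d L102541) L129912
theorem L129916 : sm ga N13414 = N18363 := rfl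
theorem L129918 : sm gd N18363 = N13420 := ded_9_2 (flp_a L102581) (flp_d L102547) L129916
theorem L129920 : sm gg N18363 = N13428 := ded_12_2 (flp_a L102620) (flp_g L102549) L129916
theorem L129922 : sm gc N16368 = N18363 := ded_21_3 L129920 L117537 L117649
theorem L129924 : sm gc N13414 = N18364 := rfl
theorem L129926 : sm ga N18364 = N16368 := ded_8_1 L129922 (flp_a L129916) L129924
theorem L129928 : sm gg N18364 = N13429 := ded_21_2 (flp_c L102624) (flp_g L102549) L129924
theorem L129930 : sm gd N16365 = N18364 := ded_9_0 L129926 L117651 (flp_a L117635)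
theorem L129932 : sm gf N13414 = N18365 := rfl
theorem L129934 : sm gd N18365 = N13422 := ded_23_1 (flp_f L102595) (flp_d L102547) L129932
theorem L129936 : sm gb N13415 = N18366 := rfl
theorem L129938 : sm gd N18366 = N13423 := ded_14_2 (flp_b L102599) (flp_d L102555) L129936
theorem L129940 : sm ge N18366 = N15356 := ded_15_2 (flp_b L112454) (flp_e L119173) L129936
theorem L129942 : sm gg N18366 = N15359 := ded_17_2 (flp_b L112474) (flp_g L93751) (flp_b L93743) (flp_g L119175) L129936
theorem L129944 : sm gb N13416 = N18367 := rfl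
theorem L129946 : sm ge N18367 = N13501 := ded_15_2 (flp_b L103022) (flp_e L102561) L129944
theorem L129948 : sm gf N18367 = N15329 := ded_16_2 (flp_b L112964) (flp_f L120449) (flp_b L102637) (flp_f L102563) L129944
theorem L129950 : sm gc N15332 = N18367 := ded_19_3 L129946 L120398 (flp_e L112358)
theorem L129952 : sm gc N13416 = N18368 := rfl
theorem L129954 : sm ga N18368 = N13417 := ded_8_1 (flp_c L102565) L102559 L129952
theorem L129956 : sm ge N18368 = N13502 := ded_19_2 (flp_c L103024) (flp_e L102561) L129952
theorem L129958 : sm gf N18368 = N13433 := ded_20_2 (flp_c L102641) (flp_f L102563) L129952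
theorem L129960 : sm gb N18368 = N17153 := ded_13_1 (flp_c L123454) L123458 L129950 (flp_b L129944) L129952
theorem L129962 : sm gd N13417 = N18369 := rfl
theorem L129964 : sm gb N18369 = N13682 := ded_14_1 (flp_d L103899) (flp_b L102571) L129962
theorem L129966 : sm gf N18369 = N13435 := ded_23_2 (flp_d L102655) (flp_f L102569) L129962
theorem L129968 : sm gg N13417 = N18370 := rfl
theorem L129970 : sm gc N18370 = N13418 := ded_21_1 (flp_g L102573) L102565 L129968
theorem L129972 : sm ge N18370 = N13504 := ded_26_1 (flp_g L103036) (flp_e L102567) L129968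
theorem L129974 : sm gb N13418 = N18371 := rfl
theorem L129976 : sm ge N18371 = N13505 := ded_15_2 (flp_b L103040) (flp_e L102575) L129974
theorem L129978 : sm gg N18371 = N13419 := ded_17_2 (flp_b L102577) (flp_g L88356) L88350 L102573 L129974
theorem L129980 : sm ga N13419 = N18372 := rfl
theorem L129982 : sm ge N18372 = N13506 := ded_10_2 (flp_a L103044) (flp_e L102579) L129980
theorem L129984 : sm gc N13419 = N18373 := rfl
theorem L129986 : sm ge N18373 = N13507 := ded_19_2 (flp_c L103046) (flp_e L102579) L129984
theorem L129988 : sm gb N18373 = N13686 := ded_13_1 (flp_c L103919) (flp_b L89112) (flp_c L88358) L102577 L129984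
theorem L129990 : sm gf N13419 = N18374 := rfl
theorem L129992 : sm ge N18374 = N13508 := ded_25_1 (flp_f L103050) (flp_e L102579) L129990
theorem L129994 : sm gb N18374 = N18358 := ded_16_1 (flp_f L129886) (flp_b L102529) L88362 L102577 L129990
theorem L129996 : sm gb N13420 = N18375 := rfl
theorem L129998 : sm ge N18375 = N13509 := ded_15_2 (flp_b L103054) (flp_e L102583) L129996
theorem L130000 : sm gc N13420 = N18376 := rfl
theorem L130002 : sm ga N18376 = N13421 := ded_8_1 (flp_c L102587) L102581 L130000
theorem L130004 : sm ge N18376 = N13510 := ded_19_2 (flp_c L103056) (flp_e L102583) L130000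
theorem L130006 : sm gg N18376 = N13443 := ded_21_2 (flp_c L102699) (flp_g L102585) L130000
theorem L130008 : sm gd N13421 = N18377 := rfl
theorem L130010 : sm gb N18377 = N13690 := ded_14_1 (flp_d L103941) (flp_b L102593) L130008
theorem L130012 : sm gg N18377 = N13445 := ded_24_2 (flp_d L102713) (flp_g L102591) L130008
theorem L130014 : sm gf N13421 = N18378 := rfl
theorem L130016 : sm gc N18378 = N13422 := ded_20_1 (flp_f L102595) L102587 L130014
theorem L130018 : sm ge N18378 = N13512 := ded_25_1 (flp_f L103068) (flp_e L102589) L130014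
theorem L130020 : sm gb N13422 = N18379 := rfl
theorem L130022 : sm ge N18379 = N13513 := ded_15_2 (flp_b L103072) (flp_e L102597) L130020
theorem L130024 : sm gf N18379 = N13423 := ded_16_2 (flp_b L102599) (flp_f L88370) L88364 L102595 L130020
theorem L130026 : sm ga N13423 = N18380 := rfl
theorem L130028 : sm ge N18380 = N13514 := ded_10_2 (flp_a L103076) (flp_e L102601) L130026
theorem L130030 : sm gc N13423 = N18381 := rfl
theorem L130032 : sm ge N18381 = N13515 := ded_19_2 (flp_c L103078) (flp_e L102601) L130030
theorem L130034 : sm gb N18381 = N13694 := ded_13_1 (flp_c L103961) (flp_b L89132) (flp_c L88374) L102599 L130030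
theorem L130036 : sm gg N13423 = N18382 := rfl
theorem L130038 : sm gd N18382 = N15359 := ded_24_1 (flp_g L129942) L129938 L130036
theorem L130040 : sm ge N18382 = N13516 := ded_26_1 (flp_g L103082) (flp_e L102601) L130036
theorem L130042 : sm gb N18382 = N15358 := ded_17_1 (flp_g L112464) L119224 (flp_g L88378) L102599 L130036
theorem L130044 : sm gb N13424 = N18383 := rfl
theorem L130046 : sm gd N18383 = N13432 := ded_14_2 (flp_b L102637) (flp_d L102605) L130044
theorem L130048 : sm ge N18383 = N15635 := ded_15_2 (flp_b L129512) L129506 L130044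
theorem L130050 : sm gc N18383 = N16269 := ded_13_2 (flp_b L117039) (flp_c L96099) (flp_b L96089) (flp_c L116899) L130044
theorem L130052 : sm gg N13424 = N18384 := rfl
theorem L130054 : sm ga N18384 = N13426 := ded_12_1 (flp_g L102610) L102603 L130052
theorem L130056 : sm gc N18384 = N16265 := ded_21_1 (flp_g L117015) (flp_c L116899) L130052
theorem L130058 : sm gd N18384 = N13434 := ded_24_1 (flp_g L102647) (flp_d L102605) L130052
theorem L130060 : sm gf N18384 = N18361 := ded_29_2 (flp_g L129908) L129890 L129896 L130052
theorem L130062 : sm gg N13425 = N18385 := rfl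
theorem L130064 : sm ga N18385 = N16265 := ded_12_1 (flp_g L117015) L116897 L130062
theorem L130066 : sm gc N18385 = N13426 := ded_21_1 (flp_g L102610) L102607 L130062
theorem L130068 : sm gd N18385 = N16262 := ded_24_1 (flp_g L116999) L116895 L130062
theorem L130070 : sm gb N13426 = N18386 := rfl
theorem L130072 : sm gd N18386 = N13437 := ded_14_2 (flp_b L102665) (flp_d L102612) L130070
theorem L130074 : sm ge N18386 = N18329 := ded_15_2 L129729 L129527 L130070
theorem L130076 : sm gg N18386 = N13427 := ded_17_2 (flp_b L102614) (flp_g L88384) L88380 L102610 L130070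
theorem L130078 : sm gf N13426 = N18387 := rfl
theorem L130080 : sm ga N18387 = N18361 := ded_11_1 (flp_f L130060) L130054 L130078
theorem L130082 : sm gd N18387 = N13438 := ded_23_1 (flp_f L102671) (flp_d L102612) L130078
theorem L130084 : sm gg N18387 = N18359 := ded_29_3 (flp_a L129890) L102537 L102610 L130078
theorem L130086 : sm ga N13427 = N18388 := rfl
theorem L130088 : sm gd N18388 = N13439 := ded_9_2 (flp_a L102679) (flp_d L102616) L130086
theorem L130090 : sm ge N18388 = N18327 := ded_10_2 (flp_a L129722) (flp_e L102618) L130086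
theorem L130092 : sm gc N13427 = N18389 := rfl
theorem L130097 : sm gf N13427 = N18390 := rfl
theorem L130099 : sm gd N18390 = N13441 := ded_23_1 (flp_f L102689) (flp_d L102616) L130097
theorem L130101 : sm ge N18390 = N18326 := ded_25_1 L129720 (flp_e L102618) L130097
theorem L130103 : sm gb N18390 = N18293 := ded_16_1 (flp_f L129380) (flp_b L102349) L88391 L102614 L130097
theorem L130105 : sm gb N13428 = N18391 := rfl
theorem L130107 : sm gd N18391 = N13442 := ded_14_2 (flp_b L102695) (flp_d L102622) L130105
theorem L130109 : sm ge N18391 = N15763 := ded_15_2 L129600 L129533 L130105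
theorem L130111 : sm gc N18391 = N16372 := ded_13_2 (flp_b L117673) (flp_c L96384) (flp_b L96374) (flp_c L117537) L130105
theorem L130113 : sm gf N13428 = N18392 := rfl
theorem L130115 : sm ga N18392 = N13430 := ded_11_1 (flp_f L102627) L102620 L130113
theorem L130117 : sm gc N18392 = N16367 := ded_20_1 (flp_f L117645) (flp_c L117537) L130113
theorem L130119 : sm gd N18392 = N13444 := ded_23_1 (flp_f L102705) (flp_d L102622) L130113
theorem L130121 : sm gg N18365 = N18392 := ded_29_1 (flp_f L130113) (flp_g L129920) (flp_a L129916) L129932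
theorem L130123 : sm gf N13429 = N18393 := rfl
theorem L130125 : sm ga N18393 = N16367 := ded_11_1 (flp_f L117645) L117535 L130123
theorem L130127 : sm gc N18393 = N13430 := ded_20_1 (flp_f L102627) L102624 L130123
theorem L130129 : sm gd N18393 = N16364 := ded_23_1 (flp_f L117627) L117533 L130123
theorem L130131 : sm gb N13430 = N18394 := rfl
theorem L130133 : sm gd N18394 = N13447 := ded_14_2 (flp_b L102723) (flp_d L102629) L130131
theorem L130135 : sm ge N18394 = N18321 := ded_15_2 L129699 L129659 L130131
theorem L130137 : sm gf N18394 = N13431 := ded_16_2 (flp_b L102631) (flp_f L88397) L88393 L102627 L130131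
theorem L130139 : sm gg N13430 = N18395 := rfl
theorem L130141 : sm ga N18395 = N18365 := ded_12_1 L130121 L130115 L130139
theorem L130143 : sm gd N18395 = N13448 := ded_24_1 (flp_g L102729) (flp_d L102629) L130139
theorem L130145 : sm gf N18363 = N18395 := ded_29_0 (flp_g L130139) (flp_f L102627) (flp_g L102549) L129916
theorem L130147 : sm ga N13431 = N18396 := rfl
theorem L130149 : sm gd N18396 = N13449 := ded_9_2 (flp_a L102737) (flp_d L102633) L130147
theorem L130151 : sm ge N18396 = N18319 := ded_10_2 (flp_a L129692) (flp_e L102635) L130147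
theorem L130153 : sm gc N13431 = N18397 := rfl
theorem L130158 : sm gg N13431 = N18398 := rfl
theorem L130160 : sm gd N18398 = N13451 := ded_24_1 (flp_g L102747) (flp_d L102633) L130158
theorem L130162 : sm ge N18398 = N18318 := ded_26_1 L129690 (flp_e L102635) L130158
theorem L130164 : sm gb N18398 = N18290 := ded_17_1 (flp_g L129359) (flp_b L102341) (flp_g L88406) L102631 L130158
theorem L130166 : sm gg N13432 = N18399 := rfl
theorem L130168 : sm ge N18399 = N13548 := ded_26_1 (flp_g L103228) (flp_e L102639) L130166
theorem L130170 : sm gf N18399 = N15478 := ded_29_2 (flp_g L113018) (flp_a L112962) (flp_f L120449) L130166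
theorem L130172 : sm gb N13433 = N18400 := rfl
theorem L130174 : sm ge N18400 = N13549 := ded_15_2 (flp_b L103230) (flp_e L102645) L130172
theorem L130176 : sm gd N13433 = N18401 := rfl
theorem L130178 : sm ga N18401 = N13435 := ded_9_1 (flp_d L102655) (flp_a L102643) L130176
theorem L130180 : sm gg N13433 = N18402 := rfl
theorem L130182 : sm ga N18402 = N13436 := ded_12_1 (flp_g L102659) (flp_a L102643) L130180
theorem L130184 : sm gc N18402 = N13434 := ded_21_1 (flp_g L102647) L102641 L130180
theorem L130186 : sm ge N18402 = N13551 := ded_26_1 (flp_g L103236) (flp_e L102645) L130180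
theorem L130188 : sm gf N18402 = N18370 := ded_29_2 (flp_g L129968) (flp_a L129954) L129958 L130180
theorem L130190 : sm gb N13434 = N18403 := rfl
theorem L130192 : sm ge N18403 = N13552 := ded_15_2 (flp_b L103244) (flp_e L102651) L130190
theorem L130194 : sm ge N13435 = N18404 := rfl
theorem L130196 : sm gb N18404 = N13452 := ded_15_1 (flp_e L102753) (flp_b L102657) L130194
theorem L130198 : sm gd N18404 = N13554 := ded_22_1 (flp_e L103248) (flp_d L88696) (flp_e L88414) L102655 L130194
theorem L130200 : sm gg N13435 = N18405 := rfl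
theorem L130202 : sm gd N18405 = N13436 := ded_24_1 (flp_g L102659) L102655 L130200
theorem L130204 : sm gb N13436 = N18406 := rfl
theorem L130206 : sm ge N18406 = N13556 := ded_15_2 (flp_b L103256) (flp_e L102663) L130204
theorem L130208 : sm gg N18406 = N13454 := ded_17_2 (flp_b L102767) (flp_g L88450) (flp_b L88416) L102659 L130204
theorem L130210 : sm gf N13436 = N18407 := rfl
theorem L130212 : sm ga N18407 = N18370 := ded_11_1 (flp_f L130188) L130182 L130210
theorem L130214 : sm gc N18407 = N13438 := ded_20_1 (flp_f L102671) (flp_c L102661) L130210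
theorem L130216 : sm ge N18407 = N13557 := ded_25_1 (flp_f L103260) (flp_e L102663) L130210
theorem L130218 : sm gg N18407 = N18368 := ded_29_3 L129954 L102569 L102659 L130210
theorem L130220 : sm ga N13437 = N18408 := rfl
theorem L130222 : sm ge N18408 = N13558 := ded_10_2 (flp_a L103268) (flp_e L102667) L130220
theorem L130224 : sm gg N18408 = N13439 := ded_12_2 (flp_a L102679) (flp_g L102669) L130220
theorem L130226 : sm gc N13437 = N18409 := rfl
theorem L130228 : sm ge N18409 = N13559 := ded_19_2 (flp_c L103272) (flp_e L102667) L130226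
theorem L130230 : sm gg N18409 = N13440 := ded_21_2 (flp_c L102683) (flp_g L102669) L130226
theorem L130232 : sm gf N13437 = N18410 := rfl
theorem L130234 : sm ge N18410 = N13560 := ded_25_1 (flp_f L103276) (flp_e L102667) L130232
theorem L130236 : sm gb N13438 = N18411 := rfl
theorem L130238 : sm ge N18411 = N13561 := ded_15_2 (flp_b L103278) (flp_e L102675) L130236
theorem L130240 : sm gb N13439 = N18412 := rfl
theorem L130242 : sm ge N18412 = N13562 := ded_15_2 (flp_b L103280) (flp_e L102681) L130240
theorem L130244 : sm gc N13439 = N18413 := rfl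
theorem L130246 : sm ga N18413 = N13440 := ded_8_1 (flp_c L102683) L102679 L130244
theorem L130248 : sm ge N18413 = N13563 := ded_19_2 (flp_c L103282) (flp_e L102681) L130244
theorem L130250 : sm gf N13439 = N18414 := rfl
theorem L130252 : sm ga N18414 = N13441 := ded_11_1 (flp_f L102689) L102679 L130250
theorem L130254 : sm ge N18414 = N13564 := ded_25_1 (flp_f L103286) (flp_e L102681) L130250
theorem L130256 : sm gg N18410 = N18414 := ded_29_1 (flp_f L130250) (flp_g L130224) (flp_a L130220) L130232
theorem L130258 : sm gd N13440 = N18415 := rfl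
theorem L130260 : sm gb N18415 = N13455 := ded_14_1 (flp_d L102771) (flp_b L102687) L130258
theorem L130262 : sm gf N13440 = N18416 := rfl
theorem L130264 : sm gc N18416 = N13441 := ded_20_1 (flp_f L102689) L102683 L130262
theorem L130266 : sm ge N18416 = N13566 := ded_25_1 (flp_f L103296) (flp_e L102685) L130262
theorem L130268 : sm gb N18416 = N13780 := ded_16_1 (flp_f L104450) (flp_b L89354) (flp_f L88462) (flp_b L102687) L130262
theorem L130270 : sm gg N13441 = N18417 := rfl
theorem L130272 : sm ga N18417 = N18410 := ded_12_1 L130256 L130252 L130270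
theorem L130274 : sm ge N18417 = N13567 := ded_26_1 (flp_g L103302) (flp_e L102691) L130270
theorem L130276 : sm gf N18408 = N18417 := ded_29_0 (flp_g L130270) (flp_f L102689) (flp_g L102669) L130220
theorem L130278 : sm ga N13442 = N18418 := rfl
theorem L130280 : sm ge N18418 = N13568 := ded_10_2 (flp_a L103308) (flp_e L102697) L130278
theorem L130282 : sm gc N18418 = N13442 := ded_28_0 (flp_d L130107) L130111 L117675 L116707 (flp_d L117675) (flp_c L130111) L130107 L130278
theorem L130284 : sm gf N13442 = N18419 := rfl
theorem L130286 : sm ge N18419 = N13570 := ded_25_1 (flp_f L103312) (flp_e L102697) L130284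
theorem L130288 : sm gg N13442 = N18420 := rfl
theorem L130290 : sm ge N18420 = N13571 := ded_26_1 (flp_g L103314) (flp_e L102697) L130288
theorem L130292 : sm gb N13443 = N18421 := rfl
theorem L130294 : sm ge N18421 = N13572 := ded_15_2 (flp_b L103316) (flp_e L102703) L130292
theorem L130296 : sm gd N13443 = N18422 := rfl
theorem L130298 : sm ga N18422 = N13445 := ded_9_1 (flp_d L102713) (flp_a L102701) L130296
theorem L130300 : sm gf N13443 = N18423 := rfl
theorem L130302 : sm ga N18423 = N13446 := ded_11_1 (flp_f L102717) (flp_a L102701) L130300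
theorem L130304 : sm gc N18423 = N13444 := ded_20_1 (flp_f L102705) L102699 L130300
theorem L130306 : sm ge N18423 = N13574 := ded_25_1 (flp_f L103322) (flp_e L102703) L130300
theorem L130308 : sm gg N18378 = N18423 := ded_29_1 (flp_f L130300) (flp_g L130006) L130002 L130014
theorem L130310 : sm gb N13444 = N18424 := rfl
theorem L130312 : sm ge N18424 = N13575 := ded_15_2 (flp_b L103330) (flp_e L102709) L130310
theorem L130314 : sm ge N13445 = N18425 := rfl
theorem L130316 : sm gb N18425 = N13456 := ded_15_1 (flp_e L102777) (flp_b L102715) L130314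
theorem L130318 : sm gd N18425 = N13577 := ded_22_1 (flp_e L103334) (flp_d L88736) (flp_e L88432) L102713 L130314
theorem L130320 : sm gf N13445 = N18426 := rfl
theorem L130322 : sm gd N18426 = N13446 := ded_23_1 (flp_f L102717) L102713 L130320
theorem L130324 : sm gb N13446 = N18427 := rfl
theorem L130326 : sm ge N18427 = N13579 := ded_15_2 (flp_b L103342) (flp_e L102721) L130324
theorem L130328 : sm gf N18427 = N13458 := ded_16_2 (flp_b L102793) (flp_f L88470) (flp_b L88434) L102717 L130324
theorem L130330 : sm gg N13446 = N18428 := rfl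
theorem L130332 : sm ga N18428 = N18378 := ded_12_1 L130308 L130302 L130330
theorem L130334 : sm gc N18428 = N13448 := ded_21_1 (flp_g L102729) (flp_c L102719) L130330
theorem L130336 : sm ge N18428 = N13580 := ded_26_1 (flp_g L103346) (flp_e L102721) L130330
theorem L130338 : sm gf N18376 = N18428 := ded_29_0 (flp_g L130330) (flp_f L102717) (flp_g L102591) (flp_a L130002)
theorem L130340 : sm ga N13447 = N18429 := rfl
theorem L130342 : sm ge N18429 = N13581 := ded_10_2 (flp_a L103354) (flp_e L102725) L130340
theorem L130344 : sm gf N18429 = N13449 := ded_11_2 (flp_a L102737) (flp_f L102727) L130340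
theorem L130346 : sm gc N13447 = N18430 := rfl
theorem L130348 : sm ge N18430 = N13582 := ded_19_2 (flp_c L103358) (flp_e L102725) L130346
theorem L130350 : sm gf N18430 = N13450 := ded_20_2 (flp_c L102741) (flp_f L102727) L130346
theorem L130352 : sm gg N13447 = N18431 := rfl
theorem L130354 : sm ge N18431 = N13583 := ded_26_1 (flp_g L103362) (flp_e L102725) L130352
theorem L130356 : sm gb N13448 = N18432 := rfl
theorem L130358 : sm ge N18432 = N13584 := ded_15_2 (flp_b L103364) (flp_e L102733) L130356
theorem L130360 : sm gb N13449 = N18433 := rfl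
theorem L130362 : sm ge N18433 = N13585 := ded_15_2 (flp_b L103366) (flp_e L102739) L130360
theorem L130364 : sm gc N13449 = N18434 := rfl
theorem L130366 : sm ga N18434 = N13450 := ded_8_1 (flp_c L102741) L102737 L130364
theorem L130368 : sm ge N18434 = N13586 := ded_19_2 (flp_c L103368) (flp_e L102739) L130364
theorem L130370 : sm gb N16930 = N18434 := ded_15_3 L130368 (flp_b L120599) (flp_e L122408)
theorem L130372 : sm gg N13449 = N18435 := rfl
theorem L130374 : sm ga N18435 = N13451 := ded_12_1 (flp_g L102747) L102737 L130372
theorem L130376 : sm ge N18435 = N13587 := ded_26_1 (flp_g L103372) (flp_e L102739) L130372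
theorem L130378 : sm gf N18435 = N18431 := ded_29_2 (flp_g L130352) L130340 L130344 L130372
theorem L130380 : sm gd N13450 = N18436 := rfl
theorem L130382 : sm gb N18436 = N13459 := ded_14_1 (flp_d L102799) (flp_b L102745) L130380
theorem L130384 : sm gg N13450 = N18437 := rfl
theorem L130386 : sm gc N18437 = N13451 := ded_21_1 (flp_g L102747) L102741 L130384
theorem L130388 : sm ge N18437 = N13589 := ded_26_1 (flp_g L103382) (flp_e L102743) L130384
theorem L130390 : sm gb N18437 = N13761 := ded_17_1 (flp_g L104349) (flp_b L89290) (flp_g L88486) (flp_b L102745) L130384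
theorem L130392 : sm gf N13451 = N18438 := rfl
theorem L130394 : sm ga N18438 = N18431 := ded_11_1 (flp_f L130378) L130374 L130392
theorem L130396 : sm ge N18438 = N13590 := ded_25_1 (flp_f L103388) (flp_e L102749) L130392
theorem L130398 : sm gg N18438 = N18429 := ded_29_3 (flp_a L130340) L102727 L102747 L130392
theorem L130400 : sm gg N13452 = N18439 := rfl
theorem L130402 : sm gc N18439 = N13763 := ded_21_1 (flp_g L104359) (flp_c L102755) L130400
theorem L130404 : sm gd N18439 = N13599 := ded_24_1 (flp_g L103431) (flp_d L102759) L130400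
theorem L130406 : sm ge N18439 = N13453 := ded_26_1 (flp_g L102761) L102753 L130400
theorem L130408 : sm gb N13453 = N18440 := rfl
theorem L130410 : sm gd N18440 = N13454 := ded_14_2 (flp_b L102767) (flp_d L102765) L130408
theorem L130412 : sm ga N13454 = N18441 := rfl
theorem L130414 : sm ge N18441 = N13601 := ded_10_2 (flp_a L103439) (flp_e L102769) L130412
theorem L130416 : sm gf N13454 = N18442 := rfl
theorem L130418 : sm gc N18442 = N18427 := ded_20_1 L130328 L102797 L130416
theorem L130420 : sm ge N18442 = N13602 := ded_25_1 (flp_f L103441) (flp_e L102769) L130416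
theorem L130422 : sm gb N18442 = N18430 := ded_16_1 L130350 L102745 L88484 L102767 L130416
theorem L130424 : sm ge N13455 = N18443 := rfl
theorem L130426 : sm ga N18443 = N13783 := ded_10_1 L104468 (flp_a L102773) L130424
theorem L130428 : sm gf N18443 = N13782 := ded_25_2 (flp_e L104458) (flp_f L102775) L130424
theorem L130430 : sm gd N18443 = N13603 := ded_22_1 (flp_e L103447) (flp_d L88787) (flp_e L88460) L102771 L130424
theorem L130432 : sm gf N13456 = N18444 := rfl
theorem L130434 : sm gc N18444 = N13783 := ded_20_1 (flp_f L104464) (flp_c L102779) L130432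
theorem L130436 : sm gd N18444 = N13612 := ded_23_1 (flp_f L103490) (flp_d L102783) L130432
theorem L130438 : sm ge N18444 = N13457 := ded_25_1 (flp_f L102785) L102777 L130432
theorem L130440 : sm gg N18444 = N18443 := ded_29_3 L130426 (flp_f L104464) (flp_g L102781) L130432
theorem L130442 : sm gb N13457 = N18445 := rfl
theorem L130444 : sm gd N18445 = N13458 := ded_14_2 (flp_b L102793) (flp_d L102789) L130442
theorem L130446 : sm ga N13458 = N18446 := rfl
theorem L130448 : sm gc N18446 = N18441 := ded_8_2 (flp_a L130412) (flp_c L102797) L130446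
theorem L130450 : sm ge N18446 = N13614 := ded_10_2 (flp_a L103500) (flp_e L102795) L130446
theorem L130452 : sm gg N13458 = N18447 := rfl
theorem L130454 : sm gc N18447 = N18406 := ded_21_1 L130208 (flp_c L102797) L130452
theorem L130456 : sm ge N18447 = N13615 := ded_26_1 (flp_g L103504) (flp_e L102795) L130452
theorem L130458 : sm gb N18447 = N18409 := ded_17_1 L130230 L102687 (flp_g L88476) L102793 L130452
theorem L130460 : sm ge N13459 = N18448 := rfl
theorem L130462 : sm ga N18448 = N13763 := ded_10_1 L104363 (flp_a L102801) L130460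
theorem L130464 : sm gf N18448 = N18439 := ded_25_2 L130406 (flp_f L102803) L130460
theorem L130466 : sm gg N18448 = N13762 := ded_26_2 (flp_e L104353) (flp_g L102805) L130460
theorem L130468 : sm gd N18448 = N13616 := ded_22_1 (flp_e L103510) (flp_d L88820) (flp_e L88482) L102799 L130460
theorem L130470 : sm gb N13461 = N18449 := rfl
theorem L130472 : sm gd N18449 = N13464 := ded_14_2 (flp_b L102827) (flp_d L102815) L130470
theorem L130474 : sm gf N18449 = N17373 := ded_16_2 (flp_b L124539) (flp_f L99203) (flp_b L98993) L119701 L130470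
theorem L130476 : sm gg N18449 = N13472 := ded_17_2 (flp_b L102878) (flp_g L88536) (flp_b L88496) L102812 L130470
theorem L130478 : sm gf N17348 = N13530 := ded_31_7 (flp_b L103144) (flp_g L88662) (flp_f L88576) (flp_b L88572) L88578 (flp_f L88582) L102878 (flp_g L130476) L130474 (flp_b L124539) L99209 (flp_f L99153) L99141 L124415
theorem L130480 : sm gd N13560 = N17348 := ded_23_3 L130478 L103146 L103276
theorem L130482 : N13532 = N17347 := coi_29_0 (flp_f L124413) L124415 L130478 L103148 L103158
theorem L130483 : N17347 = N13532 := (eqc rfl L130482 rfl).symm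
theorem L130484 : sm gf N13532 = N12824 := trfs L130483 (flp_f L124413) rfl
theorem L130486 : N17343 = N13534 := coi_29_0 (flp_f L103166) (flp_g L103148) (flp_f L130478) (flp_g L124415) L124399
theorem L130487 : N17343 = N13534 := eqc rfl L130486 rfl
theorem L130488 : sm ga N13534 = N12824 := trfs L130487 (flp_a L124399) rfl
theorem L130490 : N17345 = N13564 := coi_24_0 (flp_g L103290) L130480 (flp_g L124415) L124405
theorem L130491 : N17345 = N13564 := eqc rfl L130490 rfl
theorem L130492 : sm gb N13564 = N12825 := trfs L130491 L124407 rfl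
theorem L130494 : sm gd N13564 = N12824 := trfs L130491 (flp_d L124405) rfl
theorem L130496 : N17334 = N14648 := coi_7_9 L108809 (flp_b L103170) L130488 (flp_b L99141) (flp_a L86087) (flp_b L27604) (flp_a L27574) L86075 L99115 L124349
theorem L130497 : N17334 = N14648 := eqc rfl L130496 rfl
theorem L130498 : sm gb N14648 = N12819 := trfs L130497 (flp_b L124349) rfl
theorem L130500 : sm gd N14648 = N17198 := trfs L130497 L124351 rfl
theorem L130501 : N17198 = N13400 := eqes L130500 L108811
theorem L130502 : N17198 = N13400 := eqc rfl L130501 rfl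
theorem L130503 : sm gb N13400 = N12747 := trfs L130502 (flp_b L123640) rfl
theorem L130504 : N12747 = N18346 := eqes L130503 L129821
theorem L130505 : N18346 = N12747 := (eqc rfl L130504 rfl).symm
theorem L130506 : sm gb N12747 = N13400 := trfs L130505 (flp_b L129821) rfl
theorem L130508 : sm gb N17350 = N18414 := ded_15_3 L130254 L130492 L124421
theorem L130510 : sm gb N17335 = N14651 := ded_15_3 L108829 L130498 L124353
theorem L130512 : sm gb N18302 = N17199 := ded_15_3 (flp_e L123642) L130506 (flp_e L129452)
theorem L130514 : sm gb N18341 = N17200 := ded_16_5 (flp_f L123646) L130506 (flp_f L102475) L102469 L129803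
theorem L130516 : sm gd N18351 = N17335 := ded_14_0 L130510 L108827 L129842
theorem L130518 : sm ga N17338 = N18351 := ded_9_3 L130516 L124355 L124369
theorem L130520 : sm ga N13464 = N18450 := rfl
theorem L130522 : sm gg N18450 = N13476 := ded_12_2 (flp_a L102896) (flp_g L102829) L130520
theorem L130524 : sm gc N13464 = N18451 := rfl
theorem L130526 : sm gg N18451 = N13477 := ded_21_2 (flp_c L102898) (flp_g L102829) L130524
theorem L130528 : sm gf N13464 = N18452 := rfl
theorem L130532 : sm gb N18452 = N17366 := ded_16_1 (flp_f L124499) (flp_b L119053) (flp_f L102831) L102827 L130528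
theorem L130534 : sm gd N13466 = N18453 := rfl
theorem L130536 : sm ga N18453 = N13482 := ded_9_1 (flp_d L102926) (flp_a L102841) L130534
theorem L130538 : sm gb N18453 = N18453 := ded_14_1 (flp_d L130534) L102843 L130534
theorem L130539 : sm gf N18453 = N15437 := ded_23_2 (flp_d L112796) (flp_f L119333) L130534
theorem L130541 : sm ge N18453 = N14336 := ded_22_2 (flp_d L107151) L90940 L88506 L102839 L130534
theorem L130543 : sm gc N16561 = N18453 := ded_28_0 (flp_d L130534) L102844 (flp_d L119341) L119339 (flp_d L96918) (flp_c L118693) L118695 (flp_a L118836)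
theorem L130545 : sm gg N13466 = N18454 := rfl
theorem L130547 : sm ga N18454 = N13484 := ded_12_1 (flp_g L102936) (flp_a L102841) L130545
theorem L130568 : sm gf N13472 = N18459 := rfl
theorem L130570 : sm gd N18459 = N13478 := ded_23_1 (flp_f L102902) (flp_d L102880) L130568
theorem L130572 : sm gb N13476 = N18460 := rfl
theorem L130574 : sm gc N13476 = N18461 := rfl
theorem L130576 : sm ga N18461 = N13477 := ded_8_1 (flp_c L102898) L102896 L130574
theorem L130578 : sm gf N13476 = N18462 := rfl
theorem L130580 : sm ga N18462 = N13478 := ded_11_1 (flp_f L102902) L102896 L130578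
theorem L130582 : sm gg N18452 = N18462 := ded_29_1 (flp_f L130578) (flp_g L130522) (flp_a L130520) L130528
theorem L130584 : sm gd N13477 = N18463 := rfl
theorem L130586 : sm gb N18463 = N13857 := ded_14_1 (flp_d L104869) (flp_b L102900) L130584
theorem L130588 : sm gf N13477 = N18464 := rfl
theorem L130590 : sm gc N18464 = N13478 := ded_20_1 (flp_f L102902) L102898 L130588
theorem L130592 : sm gg N13478 = N18465 := rfl
theorem L130594 : sm ga N18465 = N18452 := ded_12_1 L130582 L130580 L130592
theorem L130596 : sm gf N18450 = N18465 := ded_29_0 (flp_g L130592) (flp_f L102902) (flp_g L102829) L130520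
theorem L130598 : sm gf N13479 = N18466 := rfl
theorem L130600 : sm ga N18466 = N14337 := ded_11_1 (flp_f L107154) (flp_a L102906) L130598
theorem L130602 : sm gc N18466 = N14332 := ded_20_1 (flp_f L107127) (flp_c L102908) L130598
theorem L130604 : sm ge N18466 = N13480 := ded_25_1 (flp_f L102910) L102904 L130598
theorem L130606 : sm gg N13479 = N18467 := rfl
theorem L130608 : sm ga N18467 = N14338 := ded_12_1 (flp_g L107160) (flp_a L102906) L130606
theorem L130610 : sm gc N18467 = N14333 := ded_21_1 (flp_g L107135) (flp_c L102908) L130606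
theorem L130612 : sm ge N18467 = N13481 := ded_26_1 (flp_g L102918) L102904 L130606
theorem L130614 : sm gb N13481 = N18468 := rfl
theorem L130616 : sm gd N18468 = N13487 := ded_14_2 (flp_b L102950) (flp_d L102924) L130614
theorem L130618 : sm gf N13482 = N18469 := rfl
theorem L130620 : sm ga N18469 = N15437 := ded_11_1 (flp_f L130539) L130536 L130618
theorem L130622 : sm gd N18469 = N13483 := ded_23_1 (flp_f L102930) L102926 L130618
theorem L130624 : sm gg N13482 = N18470 := rfl
theorem L130626 : sm gd N18470 = N13484 := ded_24_1 (flp_g L102936) L102926 L130624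
theorem L130628 : sm gb N13483 = N18471 := rfl
theorem L130630 : sm ge N18471 = N13485 := ded_15_2 (flp_b L102942) (flp_e L102934) L130628
theorem L130632 : sm gc N18471 = N15592 := ded_13_2 L113632 (flp_c L119312) (flp_b L102960) (flp_c L102932) L130628
theorem L130634 : sm gf N18471 = N15856 := ded_16_2 L120328 (flp_f L107471) L91131 L102930 L130628
theorem L130636 : sm ga N18471 = N15593 := ded_30_3 L120200 L95035 (flp_b L84202) L24452 L19597 L11330 (flp_b L10904) (flp_a L22617) (flp_f L75691) (flp_c L85993) (flp_b L119350) (flp_a L98977) L98985 L98987 (flp_b L119080) L88528 L88564 (flp_c L102932) L130628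
theorem L130638 : sm gg N13483 = N18472 := rfl
theorem L130640 : sm ga N18472 = N15440 := ded_12_1 (flp_g L112811) (flp_a L119308) L130638
theorem L130644 : sm ge N18472 = N13486 := ded_26_1 (flp_g L102944) (flp_e L102934) L130638
theorem L130646 : sm gf N18454 = N18472 := ded_29_0 (flp_g L130638) (flp_f L102930) L102936 (flp_a L130547)
theorem L130648 : sm gb N13484 = N18473 := rfl
theorem L130650 : sm ge N18473 = N13487 := ded_15_2 (flp_b L102950) (flp_e L102940) L130648
theorem L130652 : sm gb N13486 = N18474 := rfl
theorem L130654 : sm ga N13487 = N18475 := rfl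
theorem L130656 : sm gc N13487 = N18476 := rfl
theorem L130658 : sm gb N18476 = N13498 := ded_13_1 (flp_c L103010) (flp_b L88584) (flp_c L88562) L102950 L130656
theorem L130660 : sm gf N13487 = N18477 := rfl
theorem L130662 : sm gb N18477 = N15873 := ded_31_2 (flp_g L119714) (flp_f L119719) (flp_b L119721) L107487 (flp_f L107491) L122026 (flp_g L107423) L107417 L118950 (flp_g L107503) (flp_f L107497) L107493 L107495 L130660
theorem L130664 : N13488 = N15872 := coi_16_3 (flp_b L114893) L114897 (flp_b L130662) (flp_f L130660) (flp_b L102950) L102952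
theorem L130665 : N15872 = N13488 := (eqc rfl L130664 rfl).symm
theorem L130666 : sm gb N13488 = N12003 := trfs L130665 (flp_b L114893) rfl
theorem L130668 : sm gg N13488 = N12006 := trfs L130665 L114895 rfl
theorem L130669 : N12006 = N13467 := eqes L130668 L102958
theorem L130670 : N13467 = N12006 := (eqc rfl L130669 rfl).symm
theorem L130671 : sm ga N12006 = N10742 := trfs L130670 L102848 rfl
theorem L130672 : N10742 = N15876 := eqes L130671 L114916
theorem L130673 : N15876 = N10742 := (eqc rfl L130672 rfl).symm
theorem L130674 : sm gb N12006 = N11783 := trfs L130670 L119280 rfl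
theorem L130675 : N11783 = N9929 := eqes L130674 (flp_b L95079)
theorem L130676 : N11783 = N9929 := eqc rfl L130675 rfl
theorem L130677 : sm gc N12006 = N10736 := trfs L130670 L102850 rfl
theorem L130678 : N10736 = N15719 := eqes L130677 (flp_c L114193)
theorem L130679 : N15719 = N10736 := (eqc rfl L130678 rfl).symm
theorem L130680 : sm gd N12006 = N13294 := trfs L130670 L102852 rfl
theorem L130681 : N13294 = N15875 := eqes L130680 (flp_d L114914)
theorem L130682 : N15875 = N13294 := (eqc rfl L130681 rfl).symm
theorem L130683 : sm ge N12006 = N11781 := trfs L130670 L119282 rfl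
theorem L130684 : N11781 = N15862 := eqes L130683 (flp_e L114851)
theorem L130685 : N15862 = N11781 := (eqc rfl L130684 rfl).symm
theorem L130686 : sm gf N12006 = N10734 := trfs L130670 (flp_f L102846) rfl
theorem L130687 : N10734 = N15877 := eqes L130686 L114918
theorem L130688 : N15877 = N10734 := (eqc rfl L130687 rfl).symm
theorem L130689 : sm gg N12006 = N13488 := trfs L130670 (flp_g L102958) rfl
theorem L130692 : sm gf N10734 = N12006 := trfs L130688 (flp_f L114918) rfl
theorem L130694 : sm gb N11781 = N11999 := trfs L130685 (flp_b L114849) rfl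
theorem L130695 : N11999 = N9676 := eqes L130694 (flp_b L93915)
theorem L130696 : N11999 = N9676 := eqc rfl L130695 rfl
theorem L130697 : sm ge N11781 = N12006 := trfs L130685 L114851 rfl
theorem L130700 : sm gc N9676 = N9926 := trfs L130696 L95045 rfl
theorem L130701 : N9926 = N4684 := eqes L130700 (flp_c L46953)
theorem L130702 : N9926 = N4684 := eqc rfl L130701 rfl
theorem L130703 : sm gd N9676 = N15861 := trfs L130696 (flp_d L114846) rfl
theorem L130704 : N15861 = N11782 := eqes L130703 L93919
theorem L130705 : N15861 = N11782 := eqc rfl L130704 rfl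
theorem L130709 : sm gg N9676 = N9925 := trfs L130696 (flp_g L95042) rfl
theorem L130710 : N9925 = N11784 := eqes L130709 L93930
theorem L130711 : N11784 = N9925 := (eqc rfl L130710 rfl).symm
theorem L130722 : sm ge N9925 = N15444 := trfs L130711 (flp_e L112837) rfl
theorem L130723 : N15444 = N5053 := eqes L130722 L84176
theorem L130724 : N15444 = N5053 := eqc rfl L130723 rfl
theorem L130726 : sm gg N9925 = N9676 := trfs L130711 (flp_g L93930) rfl
theorem L130729 : sm gc N5053 = N11785 := trfs L130724 L112835 rfl
theorem L130730 : N11785 = N2437 := eqes L130729 (flp_c L24443)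
theorem L130731 : N11785 = N2437 := eqc rfl L130730 rfl
theorem L130743 : sm gg N2437 = N9677 := trfs L130731 (flp_g L93936) rfl
theorem L130744 : N9677 = N5054 := eqes L130743 L24445
theorem L130745 : N9677 = N5054 := eqc rfl L130744 rfl
theorem L130747 : sm gb N5054 = N4687 := trfs L130745 L46958 rfl
theorem L130748 : N4687 = N9883 := eqes L130747 (flp_b L83965)
theorem L130749 : N9883 = N4687 := (eqc rfl L130748 rfl).symm
theorem L130751 : sm gd N5054 = N4753 := trfs L130745 L46961 rfl
theorem L130752 : N4753 = N2438 := eqes L130751 L24447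
theorem L130753 : N4753 = N2438 := eqc rfl L130752 rfl
theorem L130758 : sm gb N2438 = N2289 := trfs L130753 L22973 rfl
theorem L130759 : N2289 = N4882 := eqes L130758 (flp_b L23605)
theorem L130760 : N4882 = N2289 := (eqc rfl L130759 rfl).symm
theorem L130762 : sm ge N2438 = N2286 := trfs L130753 (flp_e L22971) rfl
theorem L130763 : N2286 = N1186 := eqes L130762 L11759
theorem L130764 : N2286 = N1186 := eqc rfl L130763 rfl
theorem L130768 : sm gb N1186 = N1115 := trfs L130764 L11053 rfl
theorem L130769 : N1115 = N2396 := eqes L130768 (flp_b L11571)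
theorem L130770 : N2396 = N1115 := (eqc rfl L130769 rfl).symm
theorem L130772 : sm gd N1186 = N1114 := trfs L130764 (flp_d L11051) rfl
theorem L130773 : N1114 = N2436 := eqes L130772 (flp_d L11749)
theorem L130774 : N2436 = N1114 := (eqc rfl L130773 rfl).symm
theorem L130776 : sm gg N1186 = N4754 := trfs L130764 L22976 rfl
theorem L130777 : N4754 = N595 := eqes L130776 (flp_g L5817)
theorem L130778 : N4754 = N595 := eqc rfl L130777 rfl
theorem L130784 : sm gd N595 = N2287 := trfs L130778 L22978 rfl
theorem L130785 : N2287 = N1184 := eqes L130784 L5808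
theorem L130786 : N2287 = N1184 := eqc rfl L130785 rfl
theorem L130794 : sm ge N1184 = N4685 := trfs L130786 (flp_e L22607) rfl
theorem L130795 : N4685 = N2435 := eqes L130794 L11743
theorem L130796 : N4685 = N2435 := eqc rfl L130795 rfl
theorem L130807 : sm gg N2435 = N2252 := trfs L130796 (flp_g L22605) rfl
theorem L130808 : N2252 = N5052 := eqes L130807 L24438
theorem L130809 : N5052 = N2252 := (eqc rfl L130808 rfl).symm
theorem L130811 : sm gb N2252 = N9918 := trfs L130809 (flp_b L84135) rfl
theorem L130812 : N9918 = N1099 := eqes L130811 (flp_b L10877)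
theorem L130813 : N9918 = N1099 := eqc rfl L130812 rfl
theorem L130818 : sm gg N2252 = N2435 := trfs L130809 (flp_g L24438) rfl
theorem L130835 : sm gg N1099 = N4953 := trfs L130813 (flp_g L84129) rfl
theorem L130836 : N4953 = N2254 := eqes L130835 L10886
theorem L130837 : N4953 = N2254 := eqc rfl L130836 rfl
theorem L130841 : sm gb N2254 = N2386 := trfs L130837 (flp_b L23990) rfl
theorem L130842 : N2386 = N4689 := eqes L130841 L22629
theorem L130843 : N4689 = N2386 := (eqc rfl L130842 rfl).symm
theorem L130847 : sm gd N2254 = N9877 := trfs L130837 (flp_d L83937) rfl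
theorem L130848 : N9877 = N4688 := eqes L130847 (flp_d L22625)
theorem L130849 : N9877 = N4688 := eqc rfl L130848 rfl
theorem L130850 : sm ge N2254 = N2390 := trfs L130837 L23992 rfl
theorem L130851 : N2390 = N1116 := eqes L130850 L10892
theorem L130852 : N2390 = N1116 := eqc rfl L130851 rfl
theorem L130853 : sm gf N2254 = N6051 := trfs L130837 L83315 rfl
theorem L130854 : N6051 = N1327 := eqes L130853 (flp_f L81902)
theorem L130855 : N6051 = N1327 := eqc rfl L130854 rfl
theorem L130859 : sm gb N1327 = N4952 := trfs L130855 L83439 rfl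
theorem L130860 : N4952 = N2744 := eqes L130859 L13227
theorem L130861 : N4952 = N2744 := eqc rfl L130860 rfl
theorem L130871 : sm gg N1327 = N10488 := trfs L130855 L87050 rfl
theorem L130872 : N10488 = N1040 := eqes L130871 L81904
theorem L130873 : N10488 = N1040 := eqc rfl L130872 rfl
theorem L130884 : sm ge N1040 = N6053 := trfs L130873 L87054 rfl
theorem L130885 : N6053 = N529 := eqes L130884 L5173
theorem L130886 : N6053 = N529 := eqc rfl L130885 rfl
theorem L130900 : sm gf N529 = N6063 := trfs L130886 L29376 rfl
theorem L130901 : N6063 = N283 := eqes L130900 L2711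
theorem L130902 : N6063 = N283 := eqc rfl L130901 rfl
theorem L130915 : sm gg N283 = N2932 := trfs L130902 (flp_g L29372) rfl
theorem L130916 : N2932 = N562 := eqes L130915 L2855
theorem L130917 : N2932 = N562 := eqc rfl L130916 rfl
theorem L130925 : sm gd N562 = N1422 := trfs L130917 L14164 rfl
theorem L130926 : N1422 = N1120 := eqes L130925 (flp_d L5541)
theorem L130927 : N1422 = N1120 := eqc rfl L130926 rfl
theorem L130929 : sm gf N562 = N1421 := trfs L130917 (flp_f L14162) rfl
theorem L130930 : N1421 = N344 := eqes L130929 (flp_f L80945)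
theorem L130931 : N1421 = N344 := eqc rfl L130930 rfl
theorem L130933 : sm gb N344 = N708 := trfs L130931 L6918 rfl
theorem L130934 : N708 = N179 := eqes L130933 L1751
theorem L130935 : N708 = N179 := eqc rfl L130934 rfl
theorem L130939 : sm gd N344 = N707 := trfs L130931 (flp_d L6916) rfl
theorem L130940 : N707 = N682 := eqes L130939 L3438
theorem L130941 : N707 = N682 := eqc rfl L130940 rfl
theorem L130944 : sm ga N682 = N1420 := trfs L130941 L6914 rfl
theorem L130945 : N1420 = N1367 := eqes L130944 (flp_a L6683)
theorem L130946 : N1420 = N1367 := eqc rfl L130945 rfl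
theorem L130947 : sm gb N682 = N358 := trfs L130941 (flp_b L3553) rfl
theorem L130948 : N358 = N360 := eqes L130947 L3440
theorem L130949 : N360 = N358 := (eqc rfl L130948 rfl).symm
theorem L130950 : sm gc N682 = N1166 := trfs L130941 (flp_c L5737) rfl
theorem L130951 : N1166 = N1370 := eqes L130950 L6695
theorem L130952 : N1370 = N1166 := (eqc rfl L130951 rfl).symm
theorem L130953 : sm ge N682 = N1406 := trfs L130941 (flp_e L6842) rfl
theorem L130954 : N1406 = N1371 := eqes L130953 L6697
theorem L130955 : N1406 = N1371 := eqc rfl L130954 rfl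
theorem L130957 : sm gg N682 = N1423 := trfs L130941 L6922 rfl
theorem L130958 : N1423 = N1360 := eqes L130957 (flp_g L6665)
theorem L130959 : N1423 = N1360 := eqc rfl L130958 rfl
theorem L130964 : sm ge N1360 = N2899 := trfs L130959 (flp_e L14002) rfl
theorem L130965 : N2899 = N2812 := eqes L130964 L13596
theorem L130966 : N2899 = N2812 := eqc rfl L130965 rfl
theorem L130973 : sm gd N2812 = N5989 := trfs L130966 (flp_d L29009) rfl
theorem L130974 : N5989 = N5685 := eqes L130973 (flp_d L27505)
theorem L130975 : N5989 = N5685 := eqc rfl L130974 rfl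
theorem L130989 : sm gg N5685 = N2897 := trfs L130975 (flp_g L29007) rfl
theorem L130990 : N2897 = N2749 := eqes L130989 L27503
theorem L130991 : N2897 = N2749 := eqc rfl L130990 rfl
theorem L130992 : sm ga N2749 = N5983 := trfs L130991 (flp_a L28981) rfl
theorem L130993 : N5983 = N5699 := eqes L130992 (flp_a L27580)
theorem L130994 : N5983 = N5699 := eqc rfl L130993 rfl
theorem L130995 : sm gb N2749 = N1407 := trfs L130991 L13994 rfl
theorem L130996 : N1407 = N1410 := eqes L130995 L13257
theorem L130997 : N1410 = N1407 := (eqc rfl L130996 rfl).symm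
theorem L131005 : sm gf N2749 = N5988 := trfs L130991 L29003 rfl
theorem L131006 : N5988 = N4696 := eqes L131005 L80832
theorem L131007 : N5988 = N4696 := eqc rfl L131006 rfl
theorem L131008 : sm ga N4696 = N4876 := trfs L131007 (flp_a L83311) rfl
theorem L131009 : N4876 = N5859 := eqes L131008 (flp_a L80843)
theorem L131010 : N5859 = N4876 := (eqc rfl L131009 rfl).symm
theorem L131011 : sm gb N4696 = N10401 := trfs L131007 L86587 rfl
theorem L131012 : N10401 = N9701 := eqes L131011 L47087
theorem L131013 : N10401 = N9701 := eqc rfl L131012 rfl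
theorem L131014 : sm gc N4696 = N10397 := trfs L131007 (flp_c L86566) rfl
theorem L131015 : N10397 = N9698 := eqes L131014 (flp_c L47073)
theorem L131016 : N10397 = N9698 := eqc rfl L131015 rfl
theorem L131017 : sm gd N4696 = N2898 := trfs L131007 L29005 rfl
theorem L131018 : N2898 = N2297 := eqes L131017 L22665
theorem L131019 : N2898 = N2297 := eqc rfl L131018 rfl
theorem L131023 : sm gg N4696 = N10402 := trfs L131007 L86597 rfl
theorem L131024 : N10402 = N2257 := eqes L131023 (flp_g L22663)
theorem L131025 : N10402 = N2257 := eqc rfl L131024 rfl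
theorem L131036 : sm ge N2257 = N12929 := trfs L131025 (flp_e L99814) rfl
theorem L131037 : N12929 = N1101 := eqes L131036 (flp_e L10902)
theorem L131038 : N12929 = N1101 := eqc rfl L131037 rfl
theorem L131044 : sm gc N1101 = N17520 := trfs L131038 (flp_c L125357) rfl
theorem L131045 : N17520 = N2256 := eqes L131044 L10900
theorem L131046 : N17520 = N2256 := eqc rfl L131045 rfl
theorem L131057 : sm gg N2256 = N12923 := trfs L131046 (flp_g L125353) rfl
theorem L131058 : N12923 = N4695 := eqes L131057 L22659
theorem L131059 : N12923 = N4695 := eqc rfl L131058 rfl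
theorem L131060 : sm ga N4695 = N11917 := trfs L131059 L99771 rfl
theorem L131061 : N11917 = N9682 := eqes L131060 (flp_a L46985)
theorem L131062 : N11917 = N9682 := eqc rfl L131061 rfl
theorem L131071 : sm gf N4695 = N10396 := trfs L131059 (flp_f L99769) rfl
theorem L131072 : N10396 = N2748 := eqes L131071 L75726
theorem L131073 : N10396 = N2748 := eqc rfl L131072 rfl
theorem L131085 : sm gg N2748 = N12924 := trfs L131073 L99777 rfl
theorem L131086 : N12924 = N5684 := eqes L131085 (flp_g L27498)
theorem L131087 : N12924 = N5684 := eqc rfl L131086 rfl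
theorem L131089 : sm gb N5684 = N17521 := trfs L131087 L125363 rfl
theorem L131090 : N17521 = N10314 := eqes L131089 L85986
theorem L131091 : N17521 = N10314 := eqc rfl L131090 rfl
theorem L131100 : sm ge N10314 = N12927 := trfs L131091 L125365 rfl
theorem L131101 : N12927 = N12797 := eqes L131100 (flp_e L119355)
theorem L131102 : N12927 = N12797 := eqc rfl L131101 rfl
theorem L131114 : sm gg N12797 = N17508 := trfs L131102 (flp_g L125293) rfl
theorem L131115 : N17508 = N17299 := eqes L131114 L124145
theorem L131116 : N17508 = N17299 := eqc rfl L131115 rfl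
theorem L131117 : sm gb N17299 = N12918 := trfs L131116 (flp_b L125290) rfl
theorem L131118 : N12918 = N12835 := eqes L131117 L124154
theorem L131119 : N12918 = N12835 := eqc rfl L131118 rfl
theorem L131121 : sm ga N12835 = N17498 := trfs L131119 (flp_a L125242) rfl
theorem L131122 : N17498 = N17355 := eqes L131121 (flp_a L124451)
theorem L131123 : N17498 = N17355 := eqc rfl L131122 rfl
theorem L131136 : sm gg N12835 = N10394 := trfs L131119 (flp_g L99749) rfl
theorem L131137 : N10394 = N10331 := eqes L131136 (flp_g L99191)
theorem L131138 : N10394 = N10331 := eqc rfl L131137 rfl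
theorem L131139 : sm ga N10331 = N12914 := trfs L131138 L99731 rfl
theorem L131140 : N12914 = N12826 := eqes L131139 (flp_a L99149)
theorem L131141 : N12914 = N12826 := eqc rfl L131140 rfl
theorem L131143 : sm gc N10331 = N5993 := trfs L131138 L86554 rfl
theorem L131144 : N5993 = N6001 := eqes L131143 L86099
theorem L131145 : N6001 = N5993 := (eqc rfl L131144 rfl).symm
theorem L131146 : sm gd N10331 = N12915 := trfs L131138 L99735 rfl
theorem L131147 : N12915 = N12833 := eqes L131146 L99181
theorem L131148 : N12915 = N12833 := eqc rfl L131147 rfl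
theorem L131150 : sm gf N10331 = N12917 := trfs L131138 L99745 rfl
theorem L131151 : N12917 = N12834 := eqes L131150 L99185
theorem L131152 : N12917 = N12834 := eqc rfl L131151 rfl
theorem L131153 : sm ga N12834 = N17497 := trfs L131152 (flp_a L125236) rfl
theorem L131154 : N17497 = N17354 := eqes L131153 (flp_a L124443)
theorem L131155 : N17497 = N17354 := eqc rfl L131154 rfl
theorem L131159 : sm gc N12834 = N10406 := trfs L131152 L99747 rfl
theorem L131160 : N10406 = N10418 := eqes L131159 L99187
theorem L131161 : N10418 = N10406 := (eqc rfl L131160 rfl).symm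
theorem L131168 : sm gg N12834 = N17507 := trfs L131152 L125284 rfl
theorem L131169 : N17507 = N17370 := eqes L131168 L124519
theorem L131170 : N17507 = N17370 := eqc rfl L131169 rfl
theorem L131172 : sm gc N17370 = N12940 := trfs L131170 L125286 rfl
theorem L131173 : N12940 = N12963 := eqes L131172 L124521
theorem L131174 : N12963 = N12940 := (eqc rfl L131173 rfl).symm
theorem L131182 : sm gc N12940 = N17370 := trfs L131174 (flp_c L124521) rfl
theorem L131190 : sm gf N12940 = N12956 := trfs L131174 (flp_f L99974) rfl
theorem L131191 : N12956 = N12935 := eqes L131190 (flp_f L99877)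
theorem L131192 : N12956 = N12935 := eqc rfl L131191 rfl
theorem L131195 : sm gb N12935 = N17582 := trfs L131192 L125642 rfl
theorem L131196 : N17582 = N17539 := eqes L131195 L125440
theorem L131197 : N17582 = N17539 := eqc rfl L131196 rfl
theorem L131203 : sm ge N12935 = N10416 := trfs L131192 L99947 rfl
theorem L131204 : N10416 = N17537 := eqes L131203 (flp_e L125434)
theorem L131205 : N17537 = N10416 := (eqc rfl L131204 rfl).symm
theorem L131206 : sm gg N12935 = N10414 := trfs L131192 (flp_g L99943) rfl
theorem L131207 : N10414 = N10404 := eqes L131206 (flp_g L99846)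
theorem L131208 : N10414 = N10404 := eqc rfl L131207 rfl
theorem L131210 : sm gb N10404 = N12951 := trfs L131208 (flp_b L99927) rfl
theorem L131211 : N12951 = N12932 := eqes L131210 L99832
theorem L131212 : N12951 = N12932 := eqc rfl L131211 rfl
theorem L131218 : sm ge N10404 = N6000 := trfs L131208 (flp_e L86659) rfl
theorem L131219 : N6000 = N12933 := eqes L131218 L99836
theorem L131220 : N12933 = N6000 := (eqc rfl L131219 rfl).symm
theorem L131221 : sm gf N10404 = N12955 := trfs L131208 L99937 rfl
theorem L131222 : N12955 = N12934 := eqes L131221 L99840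
theorem L131223 : N12955 = N12934 := eqc rfl L131222 rfl
theorem L131225 : sm gb N12934 = N17581 := trfs L131223 L125638 rfl
theorem L131226 : N17581 = N17538 := eqes L131225 L125436
theorem L131227 : N17581 = N17538 := eqc rfl L131226 rfl
theorem L131233 : sm ge N12934 = N10415 := trfs L131223 L99941 rfl
theorem L131234 : N10415 = N17536 := eqes L131233 (flp_e L125428)
theorem L131235 : N17536 = N10415 := (eqc rfl L131234 rfl).symm
theorem L131237 : sm ga N10415 = N12937 := trfs L131235 L125426 rfl
theorem L131238 : N12937 = N6002 := eqes L131237 L86665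
theorem L131239 : N12937 = N6002 := eqc rfl L131238 rfl
theorem L131243 : sm gg N10415 = N17545 := trfs L131235 (flp_g L125479) rfl
theorem L131244 : N17545 = N10422 := eqes L131243 (flp_g L86696)
theorem L131245 : N17545 = N10422 := eqc rfl L131244 rfl
theorem L131249 : sm gf N10422 = N12938 := trfs L131245 (flp_f L125473) rfl
theorem L131250 : N12938 = N6003 := eqes L131249 (flp_f L86692)
theorem L131251 : N12938 = N6003 := eqc rfl L131250 rfl
theorem L131260 : sm gg N6003 = N10405 := trfs L131251 (flp_g L99862) rfl
theorem L131261 : N10405 = N2904 := eqes L131260 (flp_g L29085)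
theorem L131262 : N10405 = N2904 := eqc rfl L131261 rfl
theorem L131264 : sm gb N2904 = N5994 := trfs L131262 L86617 rfl
theorem L131265 : N5994 = N1409 := eqes L131264 (flp_b L14031)
theorem L131266 : N5994 = N1409 := eqc rfl L131265 rfl
theorem L131268 : sm gd N2904 = N12936 := trfs L131262 L99852 rfl
theorem L131269 : N12936 = N5993 := eqes L131268 (flp_d L29034)
theorem L131270 : N12936 = N5993 := eqc rfl L131269 rfl
theorem L131284 : sm gf N5993 = N17541 := trfs L131270 L125448 rfl
theorem L131285 : N17541 = N10406 := eqes L131284 L86619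
theorem L131286 : N17541 = N10406 := eqc rfl L131285 rfl
theorem L131289 : sm ge N10406 = N12960 := trfs L131286 L125452 rfl
theorem L131290 : N12960 = N12937 := eqes L131289 (flp_e L99860)
theorem L131291 : N12960 = N6002 := eqc rfl L131290 L131239
theorem L131300 : sm gf N6002 = N10417 := trfs L131291 (flp_f L99955) rfl
theorem L131301 : N10417 = N2904 := eqes L131300 (flp_f L29083)
theorem L131302 : N10417 = N2904 := eqc rfl L131301 rfl
theorem L131308 : sm gc N2904 = N12959 := trfs L131302 L99953 rfl
theorem L131309 : N12959 = N5703 := eqes L131308 (flp_c L27606)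
theorem L131310 : N12959 = N5703 := eqc rfl L131309 rfl
theorem L131341 : sm ge N5703 = N17540 := trfs L131310 (flp_e L125446) rfl
theorem L131342 : N17540 = N10331 := eqes L131341 L86095
theorem L131343 : N17540 = N10331 := eqc rfl L131342 rfl
theorem L131345 : sm gb N10331 = N17877 := trfs L131343 (flp_b L127026) rfl
theorem L131346 : N17877 = N5705 := eqes L131345 L86097
theorem L131347 : N17877 = N5705 := eqc rfl L131346 rfl
theorem L131350 : sm gc N5705 = N13111 := trfs L131347 (flp_c L127022) rfl
theorem L131351 : N13111 = N2749 := eqes L131350 L27616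
theorem L131352 : N13111 = N2749 := eqc rfl L131351 rfl
theorem L131369 : sm gg N2749 = N17879 := trfs L131352 L127034 rfl
theorem L131370 : N17879 = N5685 := eqes L131369 (flp_g L27503)
theorem L131371 : N17879 = N5685 := eqc rfl L131370 rfl
theorem L131376 : sm ge N5685 = N17614 := trfs L131371 L127038 rfl
theorem L131377 : N17614 = N2738 := eqes L131376 (flp_e L27500)
theorem L131378 : N17614 = N2738 := eqc rfl L131377 rfl
theorem L131380 : sm gd N2738 = N13221 := trfs L131378 L125765 rfl
theorem L131381 : N13221 = N1324 := eqes L131380 (flp_d L13198)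
theorem L131382 : N13221 = N1324 := eqc rfl L131381 rfl
theorem L131397 : sm gg N1324 = N10593 := trfs L131382 (flp_g L101426) rfl
theorem L131398 : N10593 = N663 := eqes L131397 L6490
theorem L131399 : N10593 = N663 := eqc rfl L131398 rfl
theorem L131413 : sm gf N663 = N13220 := trfs L131399 L101422 rfl
theorem L131414 : N13220 = N1102 := eqes L131413 L82075
theorem L131415 : N13220 = N1102 := eqc rfl L131414 rfl
theorem L131431 : sm gg N1102 = N18043 := trfs L131415 L128012 rfl
theorem L131432 : N18043 = N553 := eqes L131431 (flp_g L5456)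
theorem L131433 : N18043 = N553 := eqc rfl L131432 rfl
theorem L131435 : sm ge N553 = N13227 := trfs L131433 L128014 rfl
theorem L131436 : N13227 = N283 := eqes L131435 L2817
theorem L131437 : N13227 = N283 := eqc rfl L131436 rfl
theorem L131451 : sm gf N283 = N13225 := trfs L131437 (flp_f L101451) rfl
theorem L131452 : N13225 = N529 := eqes L131451 (flp_f L2711)
theorem L131453 : N13225 = N529 := eqc rfl L131452 rfl
theorem L131466 : sm gg N529 = N10595 := trfs L131453 (flp_g L101441) rfl
theorem L131467 : N10595 = N680 := eqes L131466 (flp_g L75517)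
theorem L131468 : N10595 = N680 := eqc rfl L131467 rfl
theorem L131480 : sm gf N680 = N13224 := trfs L131468 L101437 rfl
theorem L131481 : N13224 = N1116 := eqes L131480 (flp_f L75532)
theorem L131482 : N13224 = N1116 := eqc rfl L131481 rfl
theorem L131490 : sm gd N1116 = N17961 := trfs L131482 (flp_d L127525) rfl
theorem L131491 : N17961 = N1370 := eqes L131490 (flp_d L80864)
theorem L131492 : N17961 = N1166 := eqc rfl L131491 L130952
theorem L131503 : sm gg N1166 = N17965 := trfs L131492 (flp_g L127561) rfl
theorem L131504 : N17965 = N2396 := eqes L131503 L11567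
theorem L131505 : N17965 = N1115 := eqc rfl L131504 L130770
theorem L131511 : sm gf N1115 = N13172 := trfs L131505 (flp_f L127553) rfl
theorem L131512 : N13172 = N1360 := eqes L131511 (flp_f L75576)
theorem L131513 : N13172 = N1360 := eqc rfl L131512 rfl
theorem L131521 : sm gg N1360 = N10559 := trfs L131513 (flp_g L101125) rfl
theorem L131522 : N10559 = N682 := eqes L131521 L6665
theorem L131523 : N10559 = N682 := eqc rfl L131522 rfl
theorem L131528 : sm gc N682 = N13164 := trfs L131523 (flp_c L101077) rfl
theorem L131529 : N13164 = N1370 := eqes L131528 L6695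
theorem L131530 : N13164 = N1166 := eqc rfl L131529 L130952
theorem L131543 : sm ge N1166 = N13102 := trfs L131530 L101075 rfl
theorem L131544 : N13102 = N2352 := eqes L131543 (flp_e L11364)
theorem L131545 : N13102 = N2352 := eqc rfl L131544 rfl
theorem L131546 : sm gf N1166 = N17951 := trfs L131530 L127454 rfl
theorem L131547 : N17951 = N1420 := eqes L131546 (flp_f L82001)
theorem L131548 : N17951 = N1367 := eqc rfl L131547 L130946
theorem L131555 : sm ge N1367 = N17861 := trfs L131548 L127458 rfl
theorem L131556 : N17861 = N2826 := eqes L131555 L13658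
theorem L131557 : N17861 = N2826 := eqc rfl L131556 rfl
theorem L131561 : sm gf N2826 = N2352 := trfs L131557 (flp_f L126942) L131545
theorem L131562 : N2352 = N2832 := eqes L131561 (flp_f L80822)
theorem L131563 : N2832 = N2352 := (eqc rfl L131562 rfl).symm
theorem L131573 : sm gf N2352 = N2826 := trfs L131563 L80822 rfl
theorem L131574 : N2826 = N2896 := eqes L131573 (flp_f L78516)
theorem L131575 : N2896 = N2826 := (eqc rfl L131574 rfl).symm
theorem L131579 : sm gb N2826 = N2351 := trfs L131575 (flp_b L82057) rfl
theorem L131580 : N2351 = N5838 := eqes L131579 (flp_b L28323)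
theorem L131581 : N5838 = N2351 := (eqc rfl L131580 rfl).symm
theorem L131585 : sm gf N2826 = N2352 := trfs L131575 L78516 rfl
theorem L131591 : sm gb N2351 = N2826 := trfs L131581 L28323 rfl
theorem L131596 : sm gd N2351 = N10324 := trfs L131581 (flp_d L86061) rfl
theorem L131597 : N10324 = N4875 := eqes L131596 (flp_d L23557)
theorem L131598 : N10324 = N4875 := eqc rfl L131597 rfl
theorem L131599 : sm ge N2351 = N2822 := trfs L131581 (flp_e L28321) rfl
theorem L131600 : N2822 = N1165 := eqes L131599 L11360
theorem L131601 : N2822 = N1165 := eqc rfl L131600 rfl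
theorem L131605 : sm gg N2351 = N10366 := trfs L131581 L86318 rfl
theorem L131606 : N10366 = N2909 := eqes L131605 (flp_g L82072)
theorem L131607 : N10366 = N2909 := eqc rfl L131606 rfl
theorem L131611 : sm gb N2909 = N7829 := trfs L131607 L86324 rfl
theorem L131612 : N7829 = N6011 := eqes L131611 L29115
theorem L131613 : N7829 = N6011 := eqc rfl L131612 rfl
theorem L131617 : sm gd N2909 = N12818 := trfs L131607 (flp_d L99109) rfl
theorem L131618 : N12818 = N6008 := eqes L131617 (flp_d L29107)
theorem L131619 : N12818 = N6008 := eqc rfl L131618 rfl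
theorem L131620 : sm ge N2909 = N5840 := trfs L131607 L86322 rfl
theorem L131621 : N5840 = N1432 := eqes L131620 L14056
theorem L131622 : N5840 = N1432 := eqc rfl L131621 rfl
theorem L131623 : sm gf N2909 = N10377 := trfs L131607 (flp_f L86419) rfl
theorem L131624 : N10377 = N4699 := eqes L131623 L82070
theorem L131625 : N10377 = N4699 := eqc rfl L131624 rfl
theorem L131629 : sm gb N4699 = N5934 := trfs L131625 L86415 rfl
theorem L131630 : N5934 = N8336 := eqes L131629 (flp_b L64979)
theorem L131631 : N8336 = N5934 := (eqc rfl L131630 rfl).symm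
theorem L131632 : sm gc N4699 = N10358 := trfs L131625 L86417 rfl
theorem L131633 : N10358 = N4730 := eqes L131632 (flp_c L82030)
theorem L131634 : N10358 = N4730 := eqc rfl L131633 rfl
theorem L131635 : sm gd N4699 = N12846 := trfs L131625 (flp_d L99267) rfl
theorem L131636 : N12846 = N9703 := eqes L131635 (flp_d L47107)
theorem L131637 : N12846 = N9703 := eqc rfl L131636 rfl
theorem L131638 : sm ge N4699 = N5930 := trfs L131625 (flp_e L86413) rfl
theorem L131639 : N5930 = N2300 := eqes L131638 L22685
theorem L131640 : N5930 = N2300 := eqc rfl L131639 rfl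
theorem L131641 : sm gg N4699 = N12883 := trfs L131625 (flp_g L99489) rfl
theorem L131642 : N12883 = N2350 := eqes L131641 L22687
theorem L131643 : N12883 = N2350 := eqc rfl L131642 rfl
theorem L131654 : sm ge N2350 = N10363 := trfs L131643 L99487 rfl
theorem L131655 : N10363 = N1164 := eqes L131654 L11356
theorem L131656 : N10363 = N1164 := eqc rfl L131655 rfl
theorem L131661 : sm gb N1164 = N8389 := trfs L131656 L86300 rfl
theorem L131662 : N8389 = N2391 := eqes L131661 L11543
theorem L131663 : N8389 = N2391 := eqc rfl L131662 rfl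
theorem L131664 : sm gc N1164 = N5945 := trfs L131656 L86294 rfl
theorem L131665 : N5945 = N1446 := eqes L131664 (flp_c L7016)
theorem L131666 : N5945 = N1446 := eqc rfl L131665 rfl
theorem L131667 : sm gd N1164 = N5835 := trfs L131656 L86296 rfl
theorem L131668 : N5835 = N2387 := eqes L131667 (flp_d L11531)
theorem L131669 : N5835 = N2387 := eqc rfl L131668 rfl
theorem L131670 : sm gf N1164 = N5834 := trfs L131656 (flp_f L86290) rfl
theorem L131671 : N5834 = N1433 := eqes L131670 (flp_f L82047)
theorem L131672 : N5834 = N1433 := eqc rfl L131671 rfl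
theorem L131675 : sm gb N1433 = N2951 := trfs L131672 L52187 rfl
theorem L131676 : N2951 = N2821 := eqes L131675 L52194
theorem L131677 : N2951 = N2821 := eqc rfl L131676 rfl
theorem L131678 : sm gc N1433 = N2877 := trfs L131672 L83425 rfl
theorem L131679 : N2877 = N1181 := eqes L131678 L6965
theorem L131680 : N2877 = N1181 := eqc rfl L131679 rfl
theorem L131684 : sm gg N1433 = N2938 := trfs L131672 L52189 rfl
theorem L131685 : N2938 = N713 := eqes L131684 (flp_g L6963)
theorem L131686 : N2938 = N713 := eqc rfl L131685 rfl
theorem L131688 : sm gb N713 = N1425 := trfs L131686 (flp_b L14193) rfl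
theorem L131689 : N1425 = N361 := eqes L131688 (flp_b L3578)
theorem L131690 : N1425 = N361 := eqc rfl L131689 rfl
theorem L131694 : sm gd N713 = N1426 := trfs L131686 L14195 rfl
theorem L131695 : N1426 = N1431 := eqes L131694 (flp_d L6957)
theorem L131696 : N1431 = N1426 := (eqc rfl L131695 rfl).symm
theorem L131699 : sm ga N1426 = N2949 := trfs L131696 L14229 rfl
theorem L131700 : N2949 = N2824 := eqes L131699 (flp_a L52135)
theorem L131701 : N2949 = N2824 := eqc rfl L131700 rfl
theorem L131705 : sm gc N1426 = N1445 := trfs L131696 (flp_c L83218) rfl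
theorem L131706 : N1445 = N1440 := eqes L131705 (flp_c L6993)
theorem L131707 : N1445 = N1440 := eqc rfl L131706 rfl
theorem L131708 : sm gd N1426 = N713 := trfs L131696 L6957 rfl
theorem L131710 : sm ge N1426 = N2948 := trfs L131696 (flp_e L14227) rfl
theorem L131711 : N2948 = N2903 := eqes L131710 (flp_e L14029)
theorem L131712 : N2948 = N2903 := eqc rfl L131711 rfl
theorem L131713 : sm gf N1426 = N2298 := trfs L131696 L73939 rfl
theorem L131714 : N2298 = N2934 := eqes L131713 (flp_f L14173)
theorem L131715 : N2934 = N2298 := (eqc rfl L131714 rfl).symm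
theorem L131717 : sm ga N2298 = N2872 := trfs L131715 (flp_a L81932) rfl
theorem L131718 : N2872 = N4774 := eqes L131717 L23080
theorem L131719 : N4774 = N2872 := (eqc rfl L131718 rfl).symm
theorem L131721 : sm gc N2298 = N2876 := trfs L131715 (flp_c L81922) rfl
theorem L131722 : N2876 = N2980 := eqes L131721 L83204
theorem L131723 : N2980 = N2876 := (eqc rfl L131722 rfl).symm
theorem L131725 : sm ge N2298 = N5990 := trfs L131715 (flp_e L29014) rfl
theorem L131726 : N5990 = N4772 := eqes L131725 (flp_e L23068)
theorem L131727 : N5990 = N4772 := eqc rfl L131726 rfl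
theorem L131728 : sm gf N2298 = N1426 := trfs L131715 L14173 rfl
theorem L131730 : sm gg N2298 = N2823 := trfs L131715 (flp_g L52130) rfl
theorem L131731 : N2823 = N1162 := eqes L131730 L11123
theorem L131732 : N2823 = N1162 := eqc rfl L131731 rfl
theorem L131737 : sm gc N1162 = N5827 := trfs L131732 (flp_c L28277) rfl
theorem L131738 : N5827 = N2388 := eqes L131737 L11533
theorem L131739 : N5827 = N2388 := eqc rfl L131738 rfl
theorem L131744 : sm gf N1162 = N1366 := trfs L131732 (flp_f L13648) rfl
theorem L131745 : N1366 = N2389 := eqes L131744 L11535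
theorem L131746 : N2389 = N1366 := (eqc rfl L131745 rfl).symm
theorem L131749 : sm gc N1366 = N4834 := trfs L131746 (flp_c L83109) rfl
theorem L131750 : N4834 = N2817 := eqes L131749 (flp_c L13622)
theorem L131751 : N4834 = N2817 := eqc rfl L131750 rfl
theorem L131755 : sm gf N1366 = N1162 := trfs L131746 (flp_f L11535) rfl
theorem L131758 : sm ga N2817 = N2329 := trfs L131751 (flp_a L23359) rfl
theorem L131759 : N2329 = N2964 := eqes L131758 L52236
theorem L131760 : N2964 = N2329 := (eqc rfl L131759 rfl).symm
theorem L131764 : sm gd N2817 = N2331 := trfs L131751 L23361 rfl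
theorem L131765 : N2331 = N5826 := eqes L131764 L28269
theorem L131766 : N5826 = N2331 := (eqc rfl L131765 rfl).symm
theorem L131767 : sm ge N2817 = N9850 := trfs L131751 (flp_e L83805) rfl
theorem L131768 : N9850 = N5690 := eqes L131767 (flp_e L27534)
theorem L131769 : N9850 = N5690 := eqc rfl L131768 rfl
theorem L131772 : sm gg N2817 = N2978 := trfs L131751 (flp_g L77603) rfl
theorem L131773 : N2978 = N2878 := eqes L131772 (flp_g L81857)
theorem L131774 : N2978 = N2878 := eqc rfl L131773 rfl
theorem L131776 : sm gb N2878 = N6156 := trfs L131774 L29750 rfl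
theorem L131777 : N6156 = N1815 := eqes L131776 L81851
theorem L131778 : N6156 = N1815 := eqc rfl L131777 rfl
theorem L131785 : sm gf N2878 = N2423 := trfs L131774 (flp_f L77611) rfl
theorem L131786 : N2423 = N1396 := eqes L131785 (flp_f L13906)
theorem L131787 : N2423 = N1396 := eqc rfl L131786 rfl
theorem L131795 : sm ge N1396 = N5019 := trfs L131787 (flp_e L24282) rfl
theorem L131796 : N5019 = N2774 := eqes L131795 (flp_e L13402)
theorem L131797 : N5019 = N2774 := eqc rfl L131796 rfl
theorem L131798 : sm gg N1396 = N1178 := trfs L131787 (flp_g L11678) rfl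
theorem L131799 : N1178 = N2879 := eqes L131798 L13908
theorem L131800 : N2879 = N1178 := (eqc rfl L131799 rfl).symm
theorem L131807 : sm ge N1178 = N5752 := trfs L131800 (flp_e L27902) rfl
theorem L131808 : N5752 = N2419 := eqes L131807 (flp_e L11662)
theorem L131809 : N5752 = N2419 := eqc rfl L131808 rfl
theorem L131811 : sm gg N1178 = N1396 := trfs L131800 (flp_g L13908) rfl
theorem L131813 : sm ga N2419 = N10318 := trfs L131809 (flp_a L86015) rfl
theorem L131814 : N10318 = N4951 := eqes L131813 (flp_a L83113)
theorem L131815 : N10318 = N4951 := eqc rfl L131814 rfl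
theorem L131819 : sm gc N2419 = N10322 := trfs L131809 (flp_c L86047) rfl
theorem L131820 : N10322 = N4950 := eqes L131819 (flp_c L83169)
theorem L131821 : N10322 = N4950 := eqc rfl L131820 rfl
theorem L131822 : sm gd N2419 = N10346 := trfs L131809 (flp_d L86184) rfl
theorem L131823 : N10346 = N4909 := eqes L131822 (flp_d L23739)
theorem L131824 : N10346 = N4909 := eqc rfl L131823 rfl
theorem L131825 : sm gf N2419 = N6023 := trfs L131809 L74067 rfl
theorem L131826 : N6023 = N4832 := eqes L131825 (flp_f L23349)
theorem L131827 : N6023 = N4832 := eqc rfl L131826 rfl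
theorem L131832 : sm gb N4832 = N2914 := trfs L131827 (flp_b L29182) rfl
theorem L131833 : N2914 = N2328 := eqes L131832 (flp_b L23345)
theorem L131834 : N2914 = N2328 := eqc rfl L131833 rfl
theorem L131835 : sm gc N4832 = N5694 := trfs L131827 (flp_c L52183) rfl
theorem L131836 : N5694 = N6094 := eqes L131835 (flp_c L83457)
theorem L131837 : N6094 = N5694 := (eqc rfl L131836 rfl).symm
theorem L131838 : sm gd N4832 = N10448 := trfs L131827 (flp_d L86836) rfl
theorem L131839 : N10448 = N9761 := eqes L131838 (flp_d L47428)
theorem L131840 : N10448 = N9761 := eqc rfl L131839 rfl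
theorem L131842 : sm gg N4832 = N2918 := trfs L131827 L29188 rfl
theorem L131843 : N2918 = N2977 := eqes L131842 L82164
theorem L131844 : N2977 = N2918 := (eqc rfl L131843 rfl).symm
theorem L131850 : sm gd N2918 = N6039 := trfs L131844 (flp_d L29271) rfl
theorem L131851 : N6039 = N6029 := eqes L131850 (flp_d L29231)
theorem L131852 : N6039 = N6029 := eqc rfl L131851 rfl
theorem L131854 : sm gf N2918 = N6155 := trfs L131844 L29746 rfl
theorem L131855 : N6155 = N5749 := eqes L131854 (flp_f L81877)
theorem L131856 : N6155 = N5749 := eqc rfl L131855 rfl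
theorem L131857 : sm gg N2918 = N4832 := trfs L131844 (flp_g L82164) rfl
theorem L131863 : sm gd N5749 = N10478 := trfs L131856 (flp_d L86982) rfl
theorem L131864 : N10478 = N10342 := eqes L131863 L86156
theorem L131865 : N10478 = N10342 := eqc rfl L131864 rfl
theorem L131869 : sm ga N10342 = N9909 := trfs L131865 L86980 rfl
theorem L131870 : N9909 = N5750 := eqes L131869 L86158
theorem L131871 : N9909 = N5750 := eqc rfl L131870 rfl
theorem L131872 : sm gb N10342 = N12851 := trfs L131865 (flp_b L99297) rfl
theorem L131873 : N12851 = N6042 := eqes L131872 L86160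
theorem L131874 : N12851 = N6042 := eqc rfl L131873 rfl
theorem L131875 : sm gc N10342 = N13070 := trfs L131865 (flp_c L100497) rfl
theorem L131876 : N13070 = N12850 := eqes L131875 L99287
theorem L131877 : N13070 = N12850 := eqc rfl L131876 rfl
theorem L131881 : sm gg N10342 = N9907 := trfs L131865 L86986 rfl
theorem L131882 : N9907 = N12805 := eqes L131881 (flp_g L99031)
theorem L131883 : N12805 = N9907 := (eqc rfl L131882 rfl).symm
theorem L131885 : sm gb N9907 = N11093 := trfs L131883 L99033 rfl
theorem L131886 : N11093 = N11191 := eqes L131885 (flp_b L90864)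
theorem L131887 : N11191 = N11093 := (eqc rfl L131886 rfl).symm
theorem L131888 : sm gc N9907 = N17306 := trfs L131883 (flp_c L124197) rfl
theorem L131889 : N17306 = N11975 := eqes L131888 L94913
theorem L131890 : N17306 = N11975 := eqc rfl L131889 rfl
theorem L131895 : sm gf N9907 = N10317 := trfs L131883 (flp_f L99025) rfl
theorem L131896 : N10317 = N11863 := eqes L131895 (flp_f L94391)
theorem L131897 : N11863 = N10317 := (eqc rfl L131896 rfl).symm
theorem L131898 : sm gg N9907 = N10342 := trfs L131883 L99031 rfl
theorem L131905 : sm gc N10317 = N15588 := trfs L131897 L113604 rfl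
theorem L131906 : N15588 = N12803 := eqes L131905 L99017
theorem L131907 : N15588 = N12803 := eqc rfl L131906 rfl
theorem L131909 : sm ge N10317 = N9763 := trfs L131897 L94389 rfl
theorem L131910 : N9763 = N12804 := eqes L131909 L99019
theorem L131911 : N12804 = N9763 := (eqc rfl L131910 rfl).symm
theorem L131912 : sm gf N10317 = N9907 := trfs L131897 L94391 rfl
theorem L131914 : sm gg N10317 = N10476 := trfs L131897 L94393 rfl
theorem L131915 : N10476 = N10345 := eqes L131914 L86180
theorem L131916 : N10476 = N10345 := eqc rfl L131915 rfl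
theorem L131918 : sm gb N10345 = N13067 := trfs L131916 L100477 rfl
theorem L131919 : N13067 = N7802 := eqes L131918 L86178
theorem L131920 : N13067 = N7802 := eqc rfl L131919 rfl
theorem L131921 : sm gc N10345 = N13068 := trfs L131916 L100483 rfl
theorem L131922 : N13068 = N12855 := eqes L131921 (flp_c L99317)
theorem L131923 : N13068 = N12855 := eqc rfl L131922 rfl
theorem L131925 : sm ge N10345 = N6040 := trfs L131916 L86970 rfl
theorem L131926 : N6040 = N12857 := eqes L131925 (flp_e L99331)
theorem L131927 : N12857 = N6040 := (eqc rfl L131926 rfl).symm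
theorem L131932 : sm gb N6040 = N10823 := trfs L131927 L99333 rfl
theorem L131933 : N10823 = N10479 := eqes L131932 L86988
theorem L131934 : N10823 = N10479 := eqc rfl L131933 rfl
theorem L131939 : sm ge N6040 = N10345 := trfs L131927 L99331 rfl
theorem L131941 : sm gf N6040 = N10344 := trfs L131927 (flp_f L99325) rfl
theorem L131942 : N10344 = N4913 := eqes L131941 L82731
theorem L131943 : N10344 = N4913 := eqc rfl L131942 rfl
theorem L131946 : sm gb N4913 = N5754 := trfs L131943 L86168 rfl
theorem L131947 : N5754 = N6015 := eqes L131946 (flp_b L72215)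
theorem L131948 : N6015 = N5754 := (eqc rfl L131947 rfl).symm
theorem L131949 : sm gc N4913 = N12854 := trfs L131943 (flp_c L99311) rfl
theorem L131950 : N12854 = N9914 := eqes L131949 (flp_c L84111)
theorem L131951 : N12854 = N9914 := eqc rfl L131950 rfl
theorem L131952 : sm gd N4913 = N5944 := trfs L131943 L86170 rfl
theorem L131953 : N5944 = N2368 := eqes L131952 L23761
theorem L131954 : N5944 = N2368 := eqc rfl L131953 rfl
theorem L131957 : sm gg N4913 = N12858 := trfs L131943 L99337 rfl
theorem L131958 : N12858 = N2365 := eqes L131957 (flp_g L23759)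
theorem L131959 : N12858 = N2365 := eqc rfl L131958 rfl
theorem L131971 : sm gf N2365 = N13013 := trfs L131959 L100230 rfl
theorem L131972 : N13013 = N4728 := eqes L131971 (flp_f L22850)
theorem L131973 : N13013 = N4728 := eqc rfl L131972 rfl
theorem L131981 : sm gd N4728 = N10533 := trfs L131973 L100222 rfl
theorem L131982 : N10533 = N2273 := eqes L131981 L22848
theorem L131983 : N10533 = N2273 := eqc rfl L131982 rfl
theorem L131995 : sm gg N2273 = N6130 := trfs L131983 L87332 rfl
theorem L131996 : N6130 = N1419 := eqes L131995 (flp_g L77665)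
theorem L131997 : N6130 = N1419 := eqc rfl L131996 rfl
theorem L132004 : sm ge N1419 = N2967 := trfs L131997 L29642 rfl
theorem L132005 : N2967 = N720 := eqes L132004 L6910
theorem L132006 : N2967 = N720 := eqc rfl L132005 rfl
theorem L132009 : sm gb N720 = N1439 := trfs L132006 (flp_b L14310) rfl
theorem L132010 : N1439 = N365 := eqes L132009 (flp_b L3607)
theorem L132011 : N1439 = N365 := eqc rfl L132010 rfl
theorem L132015 : sm gf N720 = N5837 := trfs L132006 (flp_f L83165) rfl
theorem L132016 : N5837 = N1447 := eqes L132015 L7018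
theorem L132017 : N5837 = N1447 := eqc rfl L132016 rfl
theorem L132025 : sm gg N1447 = N10359 := trfs L132017 (flp_g L86260) rfl
theorem L132026 : N10359 = N1180 := eqes L132025 (flp_g L82008)
theorem L132027 : N10359 = N1180 := eqc rfl L132026 rfl
theorem L132029 : sm gb N1180 = N8390 := trfs L132027 L86262 rfl
theorem L132030 : N8390 = N2425 := eqes L132029 L11686
theorem L132031 : N8390 = N2425 := eqc rfl L132030 rfl
theorem L132036 : sm ga N2425 = N4065 := trfs L132031 L83136 rfl
theorem L132037 : N4065 = N4068 := eqes L132036 (flp_a L71404)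
theorem L132038 : N4068 = N4065 := (eqc rfl L132037 rfl).symm
theorem L132039 : sm gc N2425 = N4016 := trfs L132031 (flp_c L40621) rfl
theorem L132040 : N4016 = N4019 := eqes L132039 (flp_c L71396)
theorem L132041 : N4019 = N4016 := (eqc rfl L132040 rfl).symm
theorem L132042 : sm gd N2425 = N4067 := trfs L132031 L83138 rfl
theorem L132043 : N4067 = N4117 := eqes L132042 (flp_d L83128)
theorem L132044 : N4117 = N4067 := (eqc rfl L132043 rfl).symm
theorem L132048 : sm gf N2425 = N4139 := trfs L132031 L83140 rfl
theorem L132049 : N4139 = N1987 := eqes L132048 (flp_f L71377)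
theorem L132050 : N4139 = N1987 := eqc rfl L132049 rfl
theorem L132052 : sm ga N1987 = N1985 := trfs L132050 (flp_a L19844) rfl
theorem L132053 : N1985 = N4143 := eqes L132052 (flp_a L19860)
theorem L132054 : N4143 = N1985 := (eqc rfl L132053 rfl).symm
theorem L132055 : sm gb N1987 = N5823 := trfs L132050 (flp_b L59759) rfl
theorem L132056 : N5823 = N1927 := eqes L132055 L9595
theorem L132057 : N5823 = N1927 := eqc rfl L132056 rfl
theorem L132061 : sm gd N1987 = N1986 := trfs L132050 L19846 rfl
theorem L132062 : N1986 = N4141 := eqes L132061 (flp_d L19852)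
theorem L132063 : N4141 = N1986 := (eqc rfl L132062 rfl).symm
theorem L132064 : sm ge N1987 = N8608 := trfs L132050 (flp_e L41697) rfl
theorem L132065 : N8608 = N4112 := eqes L132064 (flp_e L19714)
theorem L132066 : N8608 = N4112 := eqc rfl L132065 rfl
theorem L132067 : sm gg N1987 = N8613 := trfs L132050 L41717 rfl
theorem L132068 : N8613 = N977 := eqes L132067 (flp_g L9591)
theorem L132069 : N8613 = N977 := eqc rfl L132068 rfl
theorem L132081 : sm gf N977 = N8471 := trfs L132069 L41723 rfl
theorem L132082 : N8471 = N1947 := eqes L132081 (flp_f L9399)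
theorem L132083 : N8471 = N1947 := eqc rfl L132082 rfl
theorem L132088 : sm gc N1947 = N4116 := trfs L132083 L83153 rfl
theorem L132089 : N4116 = N1974 := eqes L132088 (flp_c L9528)
theorem L132090 : N4116 = N1974 := eqc rfl L132089 rfl
theorem L132092 : sm ge N1947 = N11123 := trfs L132083 (flp_e L90512) rfl
theorem L132093 : N11123 = N3979 := eqes L132092 (flp_e L19109)
theorem L132094 : N11123 = N3979 := eqc rfl L132093 rfl
theorem L132097 : sm ga N3979 = N8562 := trfs L132094 L90508 rfl
theorem L132098 : N8562 = N8332 := eqes L132097 L40269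
theorem L132099 : N8562 = N8332 := eqc rfl L132098 rfl
theorem L132103 : sm gc N3979 = N8561 := trfs L132094 L90510 rfl
theorem L132104 : N8561 = N4097 := eqes L132103 (flp_c L19619)
theorem L132105 : N8561 = N4097 := eqc rfl L132104 rfl
theorem L132106 : sm gd N3979 = N14176 := trfs L132094 (flp_d L106300) rfl
theorem L132107 : N14176 = N8330 := eqes L132106 (flp_d L40257)
theorem L132108 : N14176 = N8330 := eqc rfl L132107 rfl
theorem L132110 : sm gg N3979 = N8467 := trfs L132094 (flp_g L90506) rfl
theorem L132111 : N8467 = N8333 := eqes L132110 L40275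
theorem L132112 : N8467 = N8333 := eqc rfl L132111 rfl
theorem L132114 : sm gb N8333 = N4064 := trfs L132112 (flp_b L41016) rfl
theorem L132115 : N4064 = N10483 := eqes L132114 (flp_b L87016)
theorem L132116 : N10483 = N4064 := (eqc rfl L132115 rfl).symm
theorem L132118 : sm gd N8333 = N11091 := trfs L132112 (flp_d L90285) rfl
theorem L132119 : N11091 = N11095 := eqes L132118 (flp_d L90317)
theorem L132120 : N11095 = N11091 := (eqc rfl L132119 rfl).symm
theorem L132123 : sm gf N8333 = N4138 := trfs L132112 L41020 rfl
theorem L132124 : N4138 = N8557 := eqes L132123 (flp_f L41458)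
theorem L132125 : N8557 = N4138 := (eqc rfl L132124 rfl).symm
theorem L132131 : sm gc N4138 = N8289 := trfs L132125 L41454 rfl
theorem L132132 : N8289 = N8609 := eqes L132131 L41699
theorem L132133 : N8609 = N8289 := (eqc rfl L132132 rfl).symm
theorem L132134 : sm gd N4138 = N11182 := trfs L132125 (flp_d L90810) rfl
theorem L132135 : N11182 = N8552 := eqes L132134 (flp_d L41430)
theorem L132136 : N11182 = N8552 := eqc rfl L132135 rfl
theorem L132138 : sm gf N4138 = N8333 := trfs L132125 L41458 rfl
theorem L132140 : sm gg N4138 = N4111 := trfs L132125 (flp_g L41450) rfl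
theorem L132141 : N4111 = N8610 := eqes L132140 L41703
theorem L132142 : N8610 = N4111 := (eqc rfl L132141 rfl).symm
theorem L132144 : sm gb N4111 = N8405 := trfs L132142 L41707 rfl
theorem L132145 : N8405 = N5688 := eqes L132144 (flp_b L59757)
theorem L132146 : N8405 = N5688 := eqc rfl L132145 rfl
theorem L132147 : sm gc N4111 = N8563 := trfs L132142 L83743 rfl
theorem L132148 : N8563 = N4096 := eqes L132147 L19706
theorem L132149 : N8563 = N4096 := eqc rfl L132148 rfl
theorem L132150 : sm gd N4111 = N11180 := trfs L132142 (flp_d L90796) rfl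
theorem L132151 : N11180 = N8553 := eqes L132150 (flp_d L41436)
theorem L132152 : N11180 = N8553 := eqc rfl L132151 rfl
theorem L132155 : sm gg N4111 = N4138 := trfs L132142 (flp_g L41703) rfl
theorem L132160 : sm gb N8553 = N11070 := trfs L132152 L90800 rfl
theorem L132161 : N11070 = N10316 := eqes L132160 (flp_b L86003)
theorem L132162 : N11070 = N10316 := eqc rfl L132161 rfl
theorem L132163 : sm gc N8553 = N14311 := trfs L132152 (flp_c L106997) rfl
theorem L132164 : N14311 = N11181 := eqes L132163 L90802
theorem L132165 : N14311 = N11181 := eqc rfl L132164 rfl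
theorem L132166 : sm ge N8553 = N8555 := trfs L132152 L90798 rfl
theorem L132167 : N8555 = N11178 := eqes L132166 (flp_e L90788)
theorem L132168 : N11178 = N8555 := (eqc rfl L132167 rfl).symm
theorem L132174 : sm gb N8555 = N12802 := trfs L132168 (flp_b L99009) rfl
theorem L132175 : N12802 = N8294 := eqes L132174 L41444
theorem L132176 : N12802 = N8294 := eqc rfl L132175 rfl
theorem L132177 : sm gc N8555 = N14308 := trfs L132168 L106975 rfl
theorem L132178 : N14308 = N11184 := eqes L132177 (flp_c L90818)
theorem L132179 : N14308 = N11184 := eqc rfl L132178 rfl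
theorem L132181 : sm ge N8555 = N8553 := trfs L132168 L90788 rfl
theorem L132194 : sm ga N11184 = N11179 := trfs L132179 L106977 rfl
theorem L132195 : N11179 = N14313 := eqes L132194 (flp_a L107005)
theorem L132196 : N14313 = N11179 := (eqc rfl L132195 rfl).symm
theorem L132199 : sm ga N11179 = N11184 := trfs L132196 L107005 rfl
theorem L132202 : sm gf N11179 = N14180 := trfs L132196 (flp_f L107009) rfl
theorem L132203 : N14180 = N14175 := eqes L132202 (flp_f L106294)
theorem L132204 : N14180 = N14175 := eqc rfl L132203 rfl
theorem L132207 : sm ga N14175 = N11980 := trfs L132204 L106326 rfl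
theorem L132210 : sm gg N14175 = N11094 := trfs L132204 (flp_g L106324) rfl
theorem L132212 : sm ga N8294 = N10320 := trfs L132176 L99007 rfl
theorem L132213 : N10320 = N11068 := eqes L132212 (flp_a L90159)
theorem L132214 : N11068 = N10320 := (eqc rfl L132213 rfl).symm
theorem L132215 : sm gc N8294 = N17302 := trfs L132176 (flp_c L124177) rfl
theorem L132216 : N17302 = N11069 := eqes L132215 L90167
theorem L132217 : N17302 = N11069 := eqc rfl L132216 rfl
theorem L132218 : sm gd N8294 = N10357 := trfs L132176 L99015 rfl
theorem L132219 : N10357 = N3959 := eqes L132218 (flp_d L40051)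
theorem L132220 : N10357 = N3959 := eqc rfl L132219 rfl
theorem L132225 : sm gg N8294 = N11454 := trfs L132176 L99013 rfl
theorem L132226 : N11454 = N3965 := eqes L132225 L40053
theorem L132227 : N11454 = N3965 := eqc rfl L132226 rfl
theorem L132228 : sm ga N3965 = N9165 := trfs L132227 L92210 rfl
theorem L132229 : N9165 = N8305 := eqes L132228 (flp_a L40103)
theorem L132230 : N9165 = N8305 := eqc rfl L132229 rfl
theorem L132240 : sm ge N3965 = N9163 := trfs L132227 (flp_e L92208) rfl
theorem L132241 : N9163 = N8309 := eqes L132240 L40121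
theorem L132242 : N9163 = N8309 := eqc rfl L132241 rfl
theorem L132244 : sm ga N8309 = N4431 := trfs L132242 L44488 rfl
theorem L132245 : N4431 = N11074 := eqes L132244 (flp_a L90197)
theorem L132246 : N11074 = N4431 := (eqc rfl L132245 rfl).symm
theorem L132250 : sm gc N8309 = N11453 := trfs L132242 L92201 rfl
theorem L132251 : N11453 = N11077 := eqes L132250 (flp_c L90215)
theorem L132252 : N11453 = N11077 := eqc rfl L132251 rfl
theorem L132253 : sm gd N8309 = N4430 := trfs L132242 (flp_d L44486) rfl
theorem L132254 : N4430 = N4038 := eqes L132253 L40125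
theorem L132255 : N4430 = N4038 := eqc rfl L132254 rfl
theorem L132259 : sm ga N4038 = N2126 := trfs L132255 L21359 rfl
theorem L132260 : N2126 = N8430 := eqes L132259 (flp_a L40807)
theorem L132261 : N8430 = N2126 := (eqc rfl L132260 rfl).symm
theorem L132265 : sm gc N4038 = N2125 := trfs L132255 (flp_c L21357) rfl
theorem L132266 : N2125 = N8435 := eqes L132265 (flp_c L40833)
theorem L132267 : N8435 = N2125 := (eqc rfl L132266 rfl).symm
theorem L132268 : sm ge N4038 = N2147 := trfs L132255 L21361 rfl
theorem L132269 : N2147 = N1933 := eqes L132268 (flp_e L19359)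
theorem L132270 : N2147 = N1933 := eqc rfl L132269 rfl
theorem L132274 : sm ga N1933 = N1053 := trfs L132270 L10373 rfl
theorem L132275 : N1053 = N4034 := eqes L132274 (flp_a L19345)
theorem L132276 : N4034 = N1053 := (eqc rfl L132275 rfl).symm
theorem L132280 : sm gc N1933 = N1052 := trfs L132270 (flp_c L10371) rfl
theorem L132281 : N1052 = N4037 := eqes L132280 L19357
theorem L132282 : N4037 = N1052 := (eqc rfl L132281 rfl).symm
theorem L132287 : sm gg N1933 = N2815 := trfs L132270 (flp_g L81843) rfl
theorem L132288 : N2815 = N4023 := eqes L132287 (flp_g L19315)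
theorem L132289 : N4023 = N2815 := (eqc rfl L132288 rfl).symm
theorem L132292 : sm gc N2815 = N8404 := trfs L132289 L40675 rfl
theorem L132293 : N8404 = N1362 := eqes L132292 (flp_c L13608)
theorem L132294 : N8404 = N1362 := eqc rfl L132293 rfl
theorem L132299 : sm gg N2815 = N1933 := trfs L132289 L19315 rfl
theorem L132310 : sm ge N1362 = N11115 := trfs L132294 L90464 rfl
theorem L132311 : N11115 = N2740 := eqes L132310 (flp_e L13211)
theorem L132312 : N11115 = N2740 := eqc rfl L132311 rfl
theorem L132322 : sm gd N2740 = N14202 := trfs L132312 L106465 rfl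
theorem L132323 : N14202 = N5600 := eqes L132322 (flp_d L27069)
theorem L132324 : N14202 = N5600 := eqc rfl L132323 rfl
theorem L132334 : sm gg N5600 = N11122 := trfs L132324 L106467 rfl
theorem L132335 : N11122 = N4408 := eqes L132334 (flp_g L82319)
theorem L132336 : N11122 = N4408 := eqc rfl L132335 rfl
theorem L132347 : sm ge N4408 = N14211 := trfs L132336 (flp_e L106521) rfl
theorem L132348 : N14211 = N8947 := eqes L132347 (flp_e L43456)
theorem L132349 : N14211 = N8947 := eqc rfl L132348 rfl
theorem L132357 : sm gd N8947 = N11121 := trfs L132349 (flp_d L106516) rfl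
theorem L132358 : N11121 = N4329 := eqes L132357 L43454
theorem L132359 : N11121 = N4329 := eqc rfl L132358 rfl
theorem L132374 : sm gg N4329 = N14201 := trfs L132359 (flp_g L106463) rfl
theorem L132375 : N14201 = N5269 := eqes L132374 L75127
theorem L132376 : N14201 = N5269 := eqc rfl L132375 rfl
theorem L132383 : sm gc N5269 = N13825 := trfs L132376 L106459 rfl
theorem L132384 : N13825 = N10085 := eqes L132383 L85045
theorem L132385 : N13825 = N10085 := eqc rfl L132384 rfl
theorem L132391 : sm ge N10085 = N10917 := trfs L132385 (flp_e L104718) rfl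
theorem L132392 : N10917 = N5387 := eqes L132391 L85049
theorem L132393 : N10917 = N5387 := eqc rfl L132392 rfl
theorem L132396 : sm ga N5387 = N8116 := trfs L132393 L89503 rfl
theorem L132397 : N8116 = N2594 := eqes L132396 L26175
theorem L132398 : N8116 = N2594 := eqc rfl L132397 rfl
theorem L132399 : sm gb N5387 = N13824 := trfs L132393 (flp_b L104716) rfl
theorem L132400 : N13824 = N10089 := eqes L132399 L85073
theorem L132401 : N13824 = N10089 := eqc rfl L132400 rfl
theorem L132403 : sm gd N5387 = N8115 := trfs L132393 (flp_d L89501) rfl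
theorem L132404 : N8115 = N10090 := eqes L132403 L85076
theorem L132405 : N10090 = N8115 := (eqc rfl L132404 rfl).symm
theorem L132407 : sm gg N5387 = N8127 := trfs L132393 L89507 rfl
theorem L132408 : N8127 = N4353 := eqes L132407 L75172
theorem L132409 : N8127 = N4353 := eqc rfl L132408 rfl
theorem L132410 : sm ga N4353 = N3884 := trfs L132409 L39318 rfl
theorem L132411 : N3884 = N2090 := eqes L132410 L20988
theorem L132412 : N3884 = N2090 := eqc rfl L132411 rfl
theorem L132413 : sm gb N4353 = N8167 := trfs L132409 L82757 rfl
theorem L132414 : N8167 = N2637 := eqes L132413 L79559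
theorem L132415 : N8167 = N2637 := eqc rfl L132414 rfl
theorem L132417 : sm gd N4353 = N3882 := trfs L132409 (flp_d L39316) rfl
theorem L132418 : N3882 = N9014 := eqes L132417 L43807
theorem L132419 : N9014 = N3882 := (eqc rfl L132418 rfl).symm
theorem L132431 : sm gd N3882 = N4353 := trfs L132419 (flp_d L43807) rfl
theorem L132433 : sm ge N3882 = N11314 := trfs L132419 L91575 rfl
theorem L132434 : N11314 = N8056 := eqes L132433 (flp_e L38998)
theorem L132435 : N11314 = N8056 := eqc rfl L132434 rfl
theorem L132447 : sm gd N8056 = N14549 := trfs L132435 (flp_d L108313) rfl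
theorem L132448 : N14549 = N10906 := eqes L132447 L89439
theorem L132449 : N14549 = N10906 := eqc rfl L132448 rfl
theorem L132451 : sm gg N8056 = N12337 := trfs L132435 (flp_g L96857) rfl
theorem L132452 : N12337 = N10904 := eqes L132451 (flp_g L89433)
theorem L132453 : N12337 = N10904 := eqc rfl L132452 rfl
theorem L132463 : sm gd N10904 = N16517 := trfs L132453 (flp_d L118564) rfl
theorem L132464 : N16517 = N13802 := eqes L132463 L104573
theorem L132465 : N16517 = N13802 := eqc rfl L132464 rfl
theorem L132468 : sm ga N13802 = N12331 := trfs L132465 L118558 rfl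
theorem L132469 : N12331 = N10905 := eqes L132468 L104575
theorem L132470 : N12331 = N10905 := eqc rfl L132469 rfl
theorem L132471 : sm ge N13802 = N12329 := trfs L132465 (flp_e L118556) rfl
theorem L132475 : sm gb N10905 = N14554 := trfs L132470 (flp_b L108341) rfl
theorem L132476 : N14554 = N10913 := eqes L132475 (flp_b L89486)
theorem L132477 : N14554 = N10913 := eqc rfl L132476 rfl
theorem L132478 : sm gc N10905 = N16520 := trfs L132470 (flp_c L118580) rfl
theorem L132479 : N16520 = N13803 := eqes L132478 L104581
theorem L132480 : N16520 = N13803 := eqc rfl L132479 rfl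
theorem L132482 : sm ge N10905 = N10086 := trfs L132470 (flp_e L96811) rfl
theorem L132483 : N10086 = N13804 := eqes L132482 L104585
theorem L132484 : N13804 = N10086 := (eqc rfl L132483 rfl).symm
theorem L132485 : sm gg N10905 = N11310 := trfs L132470 L96813 rfl
theorem L132486 : N11310 = N8058 := eqes L132485 L89437
theorem L132487 : N11310 = N8058 := eqc rfl L132486 rfl
theorem L132490 : sm gc N8058 = N14552 := trfs L132487 (flp_c L108327) rfl
theorem L132491 : N14552 = N10907 := eqes L132490 L89444
theorem L132492 : N14552 = N10907 := eqc rfl L132491 rfl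
theorem L132494 : sm ge N8058 = N8972 := trfs L132487 (flp_e L91553) rfl
theorem L132495 : N8972 = N10908 := eqes L132494 L89447
theorem L132496 : N10908 = N8972 := (eqc rfl L132495 rfl).symm
theorem L132498 : sm ga N8972 = N13806 := trfs L132496 (flp_a L104600) rfl
theorem L132499 : N13806 = N11308 := eqes L132498 (flp_a L91545)
theorem L132500 : N13806 = N11308 := eqc rfl L132499 rfl
theorem L132508 : sm ge N8972 = N8058 := trfs L132496 (flp_e L89447) rfl
theorem L132521 : sm gb N11308 = N13818 := trfs L132500 (flp_b L104676) rfl
theorem L132522 : N13818 = N10088 := eqes L132521 L91547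
theorem L132523 : N13818 = N10088 := eqc rfl L132522 rfl
theorem L132531 : sm ge N10088 = N10912 := trfs L132523 (flp_e L104674) rfl
theorem L132532 : N10912 = N12335 := eqes L132531 L96840
theorem L132533 : N12335 = N10912 := (eqc rfl L132532 rfl).symm
theorem L132534 : sm gf N10088 = N10915 := trfs L132523 L104678 rfl
theorem L132535 : N10915 = N8989 := eqes L132534 L85071
theorem L132536 : N10915 = N8989 := eqc rfl L132535 rfl
theorem L132541 : sm gc N8989 = N13823 := trfs L132536 (flp_c L104710) rfl
theorem L132542 : N13823 = N11312 := eqes L132541 L91566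
theorem L132543 : N13823 = N11312 := eqc rfl L132542 rfl
theorem L132547 : sm ge N8989 = N8081 := trfs L132536 (flp_e L89492) rfl
theorem L132548 : N8081 = N11313 := eqes L132547 L91569
theorem L132549 : N11313 = N8081 := (eqc rfl L132548 rfl).symm
theorem L132553 : sm gc N8081 = N14557 := trfs L132549 (flp_c L108358) rfl
theorem L132554 : N14557 = N10914 := eqes L132553 L89489
theorem L132555 : N14557 = N10914 := eqc rfl L132554 rfl
theorem L132556 : sm gd N8081 = N9044 := trfs L132549 L91573 rfl
theorem L132557 : N9044 = N3862 := eqes L132556 (flp_d L39124)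
theorem L132558 : N9044 = N3862 := eqc rfl L132557 rfl
theorem L132559 : sm ge N8081 = N8989 := trfs L132549 (flp_e L91569) rfl
theorem L132570 : sm ge N3862 = N4371 := trfs L132558 (flp_e L43932) rfl
theorem L132571 : N4371 = N1876 := eqes L132570 L18583
theorem L132572 : N4371 = N1876 := eqc rfl L132571 rfl
theorem L132575 : sm ga N1876 = N9042 := trfs L132572 (flp_a L43928) rfl
theorem L132576 : N9042 = N3905 := eqes L132575 (flp_a L18763)
theorem L132577 : N9042 = N3905 := eqc rfl L132576 rfl
theorem L132582 : sm gd N1876 = N2098 := trfs L132572 (flp_d L21074) rfl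
theorem L132583 : N2098 = N3907 := eqes L132582 L18773
theorem L132584 : N3907 = N2098 := (eqc rfl L132583 rfl).symm
theorem L132591 : sm gc N2098 = N8181 := trfs L132584 L39549 rfl
theorem L132592 : N8181 = N1030 := eqes L132591 (flp_c L10128)
theorem L132593 : N8181 = N1030 := eqc rfl L132592 rfl
theorem L132594 : sm gd N2098 = N1876 := trfs L132584 (flp_d L18773) rfl
theorem L132611 : sm gf N1030 = N10925 := trfs L132593 (flp_f L89553) rfl
theorem L132612 : N10925 = N1279 := eqes L132611 L81388
theorem L132613 : N10925 = N1279 := eqc rfl L132612 rfl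
theorem L132625 : sm ge N1279 = N13833 := trfs L132613 L104772 rfl
theorem L132626 : N13833 = N2558 := eqes L132625 (flp_e L12387)
theorem L132627 : N13833 = N2558 := eqc rfl L132626 rfl
theorem L132630 : sm gb N2558 = N13120 := trfs L132627 L104774 rfl
theorem L132631 : N13120 = N1242 := eqes L132630 (flp_b L12385)
theorem L132632 : N13120 = N1242 := eqc rfl L132631 rfl
theorem L132644 : sm gf N1242 = N17890 := trfs L132632 L127091 rfl
theorem L132645 : N17890 = N1021 := eqes L132644 L73272
theorem L132646 : N17890 = N1021 := eqc rfl L132645 rfl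
theorem L132657 : sm gg N1021 = N17898 := trfs L132646 (flp_g L127159) rfl
theorem L132658 : N17898 = N540 := eqes L132657 L5076
theorem L132659 : N17898 = N540 := eqc rfl L132658 rfl
theorem L132668 : sm gf N540 = N13127 := trfs L132659 (flp_f L127151) rfl
theorem L132669 : N13127 = N1074 := eqes L132668 L5326
theorem L132670 : N13127 = N1074 := eqc rfl L132669 rfl
theorem L132679 : sm ge N1074 = N10525 := trfs L132670 (flp_e L100839) rfl
theorem L132680 : N10525 = N546 := eqes L132679 L5328
theorem L132681 : N10525 = N546 := eqc rfl L132680 rfl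
theorem L132692 : sm gd N546 = N6120 := trfs L132681 L87284 rfl
theorem L132693 : N6120 = N287 := eqes L132692 L2781
theorem L132694 : N6120 = N287 := eqc rfl L132693 rfl
theorem L132710 : sm gg N287 = N2959 := trfs L132694 (flp_g L29592) rfl
theorem L132711 : N2959 = N175 := eqes L132710 (flp_g L82385)
theorem L132712 : N2959 = N175 := eqc rfl L132711 rfl
theorem L132726 : sm gf N175 = N6119 := trfs L132712 L29588 rfl
theorem L132727 : N6119 = N348 := eqes L132726 (flp_f L1768)
theorem L132728 : N6119 = N348 := eqc rfl L132727 rfl
theorem L132744 : sm gg N348 = N9924 := trfs L132728 L84170 rfl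
theorem L132745 : N9924 = N285 := eqes L132744 (flp_g L82420)
theorem L132746 : N9924 = N285 := eqc rfl L132745 rfl
theorem L132755 : sm ge N285 = N11994 := trfs L132746 (flp_e L95015) rfl
theorem L132756 : N11994 = N555 := eqes L132755 (flp_e L2827)
theorem L132757 : N11994 = N555 := eqc rfl L132756 rfl
theorem L132769 : sm gf N555 = N9921 := trfs L132757 (flp_f L95011) rfl
theorem L132770 : N9921 = N1106 := eqes L132769 L5480
theorem L132771 : N9921 = N1106 := eqc rfl L132770 rfl
theorem L132775 : sm gc N1106 = N5020 := trfs L132771 (flp_c L84148) rfl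
theorem L132776 : N5020 = N2268 := eqes L132775 (flp_c L10962)
theorem L132777 : N5020 = N2268 := eqc rfl L132776 rfl
theorem L132780 : sm gg N1106 = N10520 := trfs L132771 (flp_g L87248) rfl
theorem L132781 : N10520 = N668 := eqes L132780 (flp_g L73350)
theorem L132782 : N10520 = N668 := eqc rfl L132781 rfl
theorem L132794 : sm gf N668 = N13123 := trfs L132782 L100815 rfl
theorem L132795 : N13123 = N526 := eqes L132794 (flp_f L73367)
theorem L132796 : N13123 = N526 := eqc rfl L132795 rfl
theorem L132804 : sm gd N526 = N17892 := trfs L132796 (flp_d L127111) rfl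
theorem L132805 : N17892 = N1037 := eqes L132804 (flp_d L5153)
theorem L132806 : N17892 = N1037 := eqc rfl L132805 rfl
theorem L132813 : sm gg N1037 = N17907 := trfs L132806 (flp_g L127209) rfl
theorem L132814 : N17907 = N551 := eqes L132813 L5155
theorem L132815 : N17907 = N551 := eqc rfl L132814 rfl
theorem L132821 : sm gf N551 = N13134 := trfs L132815 (flp_f L127203) rfl
theorem L132822 : N13134 = N1097 := eqes L132821 L5430
theorem L132823 : N13134 = N1097 := eqc rfl L132822 rfl
theorem L132833 : sm gg N1097 = N10528 := trfs L132823 (flp_g L100881) rfl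
theorem L132834 : N10528 = N658 := eqes L132833 L82324
theorem L132835 : N10528 = N658 := eqc rfl L132834 rfl
theorem L132844 : sm ge N658 = N13129 := trfs L132835 (flp_e L100863) rfl
theorem L132845 : N13129 = N1226 := eqes L132844 (flp_e L6040)
theorem L132846 : N13129 = N1226 := eqc rfl L132845 rfl
theorem L132849 : sm gb N1226 = N13244 := trfs L132846 (flp_b L101542) rfl
theorem L132850 : N13244 = N617 := eqes L132849 (flp_b L6036)
theorem L132851 : N13244 = N617 := eqc rfl L132850 rfl
theorem L132876 : sm gg N617 = N18088 := trfs L132851 L128244 rfl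
theorem L132877 : N18088 = N537 := eqes L132876 L3148
theorem L132878 : N18088 = N537 := eqc rfl L132877 rfl
theorem L132885 : sm ge N537 = N13250 := trfs L132878 L128250 rfl
theorem L132886 : N13250 = N278 := eqes L132885 L2741
theorem L132887 : N13250 = N278 := eqc rfl L132886 rfl
theorem L132900 : sm gf N278 = N17979 := trfs L132887 L127649 rfl
theorem L132901 : N17979 = N135 := eqes L132900 (flp_f L1432)
theorem L132902 : N17979 = N135 := eqc rfl L132901 rfl
theorem L132907 : sm gd N135 = N13183 := trfs L132902 L127647 rfl
theorem L132908 : N13183 = N59 := eqes L132907 (flp_d L673)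
theorem L132909 : N13183 = N59 := eqc rfl L132908 rfl
theorem L132924 : sm gg N59 = N10565 := trfs L132909 (flp_g L101189) rfl
theorem L132925 : N10565 = N137 := eqes L132924 L685
theorem L132926 : N10565 = N137 := eqc rfl L132925 rfl
theorem L132938 : sm gf N137 = N6204 := trfs L132926 (flp_f L87528) rfl
theorem L132939 : N6204 = N167 := eqes L132938 L843
theorem L132940 : N6204 = N167 := eqc rfl L132939 rfl
theorem L132956 : sm gg N167 = N10566 := trfs L132940 L87534 rfl
theorem L132957 : N10566 = N76 := eqes L132956 (flp_g L837)
theorem L132958 : N10566 = N76 := eqc rfl L132957 rfl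
theorem L132967 : sm ge N76 = N6206 := trfs L132958 L87538 rfl
theorem L132968 : N6206 = N34 := eqes L132967 L369
theorem L132969 : N6206 = N34 := eqc rfl L132968 rfl
theorem L132983 : sm gf N34 = N10569 := trfs L132969 L87553 rfl
theorem L132984 : N10569 = N15 := eqes L132983 (flp_f L165)
theorem L132985 : N10569 = N15 := eqc rfl L132984 rfl
theorem L132996 : sm gg N15 = N6304 := trfs L132985 L87559 rfl
theorem L132997 : N6304 = N35 := eqes L132996 L169
theorem L132998 : N6304 = N35 := eqc rfl L132997 rfl
theorem L133006 : sm gd N35 = N10609 := trfs L132998 (flp_d L87799) rfl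
theorem L133007 : N10609 = N74 := eqes L133006 (flp_d L360)
theorem L133008 : N10609 = N74 := eqc rfl L133007 rfl
theorem L133021 : sm gf N74 = N6302 := trfs L133008 (flp_f L87793) rfl
theorem L133022 : N6302 = N162 := eqes L133021 L811
theorem L133023 : N6302 = N162 := eqc rfl L133022 rfl
theorem L133032 : sm gg N162 = N10610 := trfs L133023 L87801 rfl
theorem L133033 : N10610 = N133 := eqes L133032 L819
theorem L133034 : N10610 = N133 := eqc rfl L133033 rfl
theorem L133042 : sm gf N133 = N13177 := trfs L133034 L101156 rfl
theorem L133043 : N13177 = N58 := eqes L133042 (flp_f L657)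
theorem L133044 : N13177 = N58 := eqc rfl L133043 rfl
theorem L133051 : sm ge N58 = N17971 := trfs L133044 (flp_e L127595) rfl
theorem L133052 : N17971 = N132 := eqes L133051 L651
theorem L133053 : N17971 = N132 := eqc rfl L133052 rfl
theorem L133055 : sm ga N132 = N17973 := trfs L133053 (flp_a L127611) rfl
theorem L133056 : N17973 = N72 := eqes L133055 L653
theorem L133057 : N17973 = N72 := eqc rfl L133056 rfl
theorem L133063 : sm gf N72 = N13176 := trfs L133057 (flp_f L127609) rfl
theorem L133064 : N13176 = N157 := eqes L133063 L787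
theorem L133065 : N13176 = N157 := eqc rfl L133064 rfl
theorem L133074 : sm gg N157 = N10561 := trfs L133065 (flp_g L101148) rfl
theorem L133075 : N10561 = N316 := eqes L133074 L1616
theorem L133076 : N10561 = N316 := eqc rfl L133075 rfl
theorem L133078 : sm gb N316 = N10492 := trfs L133076 L87514 rfl
theorem L133079 : N10492 = N621 := eqes L133078 L3164
theorem L133080 : N10492 = N621 := eqc rfl L133079 rfl
theorem L133096 : sm gg N621 = N13088 := trfs L133080 L100611 rfl
theorem L133097 : N13088 = N1070 := eqes L133096 L81132
theorem L133098 : N13088 = N1070 := eqc rfl L133097 rfl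
theorem L133114 : sm gf N1070 = N15851 := trfs L133098 (flp_f L114787) rfl
theorem L133115 : N15851 = N1069 := eqes L133114 (flp_f L69748)
theorem L133116 : N15851 = N1069 := eqc rfl L133115 rfl
theorem L133123 : sm gg N1069 = N11991 := trfs L133116 (flp_g L114783) rfl
theorem L133124 : N11991 = N2185 := eqes L133123 L10549
theorem L133125 : N11991 = N2185 := eqc rfl L133124 rfl
theorem L133134 : sm ge N2185 = N9919 := trfs L133125 (flp_e L94996) rfl
theorem L133135 : N9919 = N1077 := eqes L133134 L10553
theorem L133136 : N9919 = N1077 := eqc rfl L133135 rfl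
theorem L133143 : sm gd N1077 = N4962 := trfs L133136 (flp_d L84137) rfl
theorem L133144 : N4962 = N560 := eqes L133143 L5342
theorem L133145 : N4962 = N560 := eqc rfl L133144 rfl
theorem L133149 : sm gb N560 = N4086 := trfs L133145 L24038 rfl
theorem L133150 : N4086 = N1060 := eqes L133149 L81280
theorem L133151 : N4086 = N1060 := eqc rfl L133150 rfl
theorem L133157 : sm gg N560 = N9920 := trfs L133145 L84141 rfl
theorem L133158 : N9920 = N282 := eqes L133157 (flp_g L2845)
theorem L133159 : N9920 = N282 := eqc rfl L133158 rfl
theorem L133165 : sm gf N282 = N6059 := trfs L133159 L84145 rfl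
theorem L133166 : N6059 = N342 := eqes L133165 L80902
theorem L133167 : N6059 = N342 := eqc rfl L133166 rfl
theorem L133174 : sm ge N342 = N10496 := trfs L133167 (flp_e L87100) rfl
theorem L133175 : N10496 = N661 := eqes L133174 (flp_e L3348)
theorem L133176 : N10496 = N661 := eqc rfl L133175 rfl
theorem L133183 : sm gd N661 = N13092 := trfs L133176 (flp_d L100631) rfl
theorem L133184 : N13092 = N1305 := eqes L133183 (flp_d L6400)
theorem L133185 : N13092 = N1305 := eqc rfl L133184 rfl
theorem L133201 : sm gg N1305 = N10494 := trfs L133185 (flp_g L100629) rfl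
theorem L133202 : N10494 = N654 := eqes L133201 L6402
theorem L133203 : N10494 = N654 := eqc rfl L133202 rfl
theorem L133208 : sm gc N654 = N13090 := trfs L133203 L100621 rfl
theorem L133209 : N13090 = N1307 := eqes L133208 L6408
theorem L133210 : N13090 = N1307 := eqc rfl L133209 rfl
theorem L133226 : sm gf N1307 = N17847 := trfs L133210 L126864 rfl
theorem L133227 : N17847 = N2240 := eqes L133226 L80524
theorem L133228 : N17847 = N2240 := eqc rfl L133227 rfl
theorem L133230 : sm ga N2240 = N15848 := trfs L133228 L126866 rfl
theorem L133231 : N15848 = N4652 := eqes L133230 (flp_a L22445)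
theorem L133232 : N15848 = N4652 := eqc rfl L133231 rfl
theorem L133234 : sm gc N4652 = N11989 := trfs L133232 (flp_c L114768) rfl
theorem L133235 : N11989 = N2238 := eqes L133234 L22447
theorem L133236 : N11989 = N2238 := eqc rfl L133235 rfl
theorem L133239 : sm gb N2238 = N11135 := trfs L133236 L94985 rfl
theorem L133240 : N11135 = N4416 := eqes L133239 (flp_b L81325)
theorem L133241 : N11135 = N4416 := eqc rfl L133240 rfl
theorem L133252 : sm gd N4416 = N8510 := trfs L133241 (flp_d L90597) rfl
theorem L133253 : N8510 = N2133 := eqes L133252 L21281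
theorem L133254 : N8510 = N2133 := eqc rfl L133253 rfl
theorem L133273 : sm gc N2133 = N4087 := trfs L133254 L41226 rfl
theorem L133274 : N4087 = N4447 := eqes L133273 L21452
theorem L133275 : N4447 = N4087 := (eqc rfl L133274 rfl).symm
theorem L133279 : sm ga N4087 = N2134 := trfs L133275 L21454 rfl
theorem L133280 : N2134 = N8505 := eqes L133279 (flp_a L41202)
theorem L133281 : N8505 = N2134 := (eqc rfl L133280 rfl).symm
theorem L133285 : sm gc N4087 = N2133 := trfs L133275 (flp_c L21452) rfl
theorem L133287 : sm gd N4087 = N9193 := trfs L133275 L44649 rfl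
theorem L133288 : N9193 = N8352 := eqes L133287 (flp_d L40375)
theorem L133289 : N9193 = N8352 := eqc rfl L133288 rfl
theorem L133290 : sm ge N4087 = N2165 := trfs L133275 L21456 rfl
theorem L133291 : N2165 = N1956 := eqes L133290 (flp_e L19569)
theorem L133292 : N2165 = N1956 := eqc rfl L133291 rfl
theorem L133293 : sm gf N4087 = N5743 := trfs L133275 (flp_f L81299) rfl
theorem L133294 : N5743 = N8483 := eqes L133293 (flp_f L41080)
theorem L133295 : N8483 = N5743 := (eqc rfl L133294 rfl).symm
theorem L133302 : sm gd N5743 = N11100 := trfs L133295 (flp_d L90355) rfl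
theorem L133303 : N11100 = N10338 := eqes L133302 L86130
theorem L133304 : N11100 = N10338 := eqc rfl L133303 rfl
theorem L133305 : sm ge N5743 = N4072 := trfs L133295 (flp_e L41078) rfl
theorem L133306 : N4072 = N2870 := eqes L133305 L27854
theorem L133307 : N4072 = N2870 := eqc rfl L133306 rfl
theorem L133308 : sm gf N5743 = N4087 := trfs L133295 L41080 rfl
theorem L133314 : sm gb N2870 = N4118 := trfs L133307 (flp_b L19754) rfl
theorem L133315 : N4118 = N1973 := eqes L133314 (flp_b L59764)
theorem L133316 : N4118 = N1973 := eqc rfl L133315 rfl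
theorem L133318 : sm gd N2870 = N1950 := trfs L133307 (flp_d L19511) rfl
theorem L133319 : N1950 = N5927 := eqes L133318 L28727
theorem L133320 : N5927 = N1950 := (eqc rfl L133319 rfl).symm
theorem L133324 : sm ga N1950 = N2873 := trfs L133320 L28729 rfl
theorem L133325 : N2873 = N4071 := eqes L133324 (flp_a L19507)
theorem L133326 : N4071 = N2873 := (eqc rfl L133325 rfl).symm
theorem L133331 : sm gd N1950 = N2870 := trfs L133320 (flp_d L28727) rfl
theorem L133336 : sm gf N1950 = N4497 := trfs L133320 (flp_f L78398) rfl
theorem L133337 : N4497 = N959 := eqes L133336 L9415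
theorem L133338 : N4497 = N959 := eqc rfl L133337 rfl
theorem L133341 : sm ga N959 = N2166 := trfs L133338 L21676 rfl
theorem L133342 : N2166 = N1954 := eqes L133341 (flp_a L9425)
theorem L133343 : N2166 = N1954 := eqc rfl L133342 rfl
theorem L133351 : sm ge N959 = N9292 := trfs L133338 L45068 rfl
theorem L133352 : N9292 = N1911 := eqes L133351 (flp_e L9265)
theorem L133353 : N9292 = N1911 := eqc rfl L133352 rfl
theorem L133355 : sm ga N1911 = N4499 := trfs L133353 L45070 rfl
theorem L133356 : N4499 = N3986 := eqes L133355 (flp_a L19149)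
theorem L133357 : N4499 = N3986 := eqc rfl L133356 rfl
theorem L133364 : sm gd N1911 = N11468 := trfs L133353 (flp_d L92286) rfl
theorem L133365 : N11468 = N3988 := eqes L133364 L19161
theorem L133366 : N11468 = N3988 := eqc rfl L133365 rfl
theorem L133369 : sm ga N3988 = N9195 := trfs L133366 L92283 rfl
theorem L133370 : N9195 = N8348 := eqes L133369 (flp_a L40353)
theorem L133371 : N9195 = N8348 := eqc rfl L133370 rfl
theorem L133379 : sm gf N3988 = N12844 := trfs L133366 (flp_f L99251) rfl
theorem L133380 : N12844 = N8337 := eqes L133379 (flp_f L40299)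
theorem L133381 : N12844 = N8337 := eqc rfl L133380 rfl
theorem L133383 : sm ga N8337 = N10341 := trfs L133381 L99247 rfl
theorem L133384 : N10341 = N11098 := eqes L133383 (flp_a L90339)
theorem L133385 : N11098 = N10341 := (eqc rfl L133384 rfl).symm
theorem L133386 : sm gb N8337 = N11151 := trfs L133381 L99249 rfl
theorem L133387 : N11151 = N8528 := eqes L133386 (flp_b L41306)
theorem L133388 : N11151 = N8528 := eqc rfl L133387 rfl
theorem L133389 : sm gc N8337 = N17383 := trfs L133381 (flp_c L124594) rfl
theorem L133390 : N17383 = N11099 := eqes L133389 L90347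
theorem L133391 : N17383 = N11099 := eqc rfl L133390 rfl
theorem L133397 : sm ga N11099 = N12849 := trfs L133391 L124592 rfl
theorem L133398 : N12849 = N14183 := eqes L133397 (flp_a L106346)
theorem L133399 : N14183 = N12849 := (eqc rfl L133398 rfl).symm
theorem L133400 : sm ge N11099 = N12843 := trfs L133391 (flp_e L124590) rfl
theorem L133401 : N12843 = N14187 := eqes L133400 L106378
theorem L133402 : N14187 = N12843 := (eqc rfl L133401 rfl).symm
theorem L133407 : sm ge N12843 = N11099 := trfs L133402 (flp_e L106378) rfl
theorem L133409 : sm gf N12843 = N11107 := trfs L133402 L106382 rfl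
theorem L133410 : N11107 = N11467 := eqes L133409 L99239
theorem L133411 : N11467 = N11107 := (eqc rfl L133410 rfl).symm
theorem L133412 : sm ga N11107 = N9194 := trfs L133411 L92276 rfl
theorem L133413 : N9194 = N14192 := eqes L133412 (flp_a L106409)
theorem L133414 : N14192 = N9194 := (eqc rfl L133413 rfl).symm
theorem L133415 : sm gb N11107 = N14885 := trfs L133411 L109867 rfl
theorem L133416 : N14885 = N14195 := eqes L133415 (flp_b L106424)
theorem L133417 : N14885 = N14195 := eqc rfl L133416 rfl
theorem L133419 : sm gd N11107 = N11442 := trfs L133411 (flp_d L92279) rfl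
theorem L133420 : N11442 = N14199 := eqes L133419 L106444
theorem L133421 : N14199 = N11442 := (eqc rfl L133420 rfl).symm
theorem L133423 : sm gf N11107 = N12843 := trfs L133411 (flp_f L99239) rfl
theorem L133426 : sm gd N11442 = N11107 := trfs L133421 (flp_d L106444) rfl
theorem L133429 : sm gd N14195 = N14838 := trfs L133417 L109869 rfl
theorem L133431 : sm ga N9194 = N11107 := trfs L133414 L106409 rfl
theorem L133433 : sm gc N9194 = N11104 := trfs L133414 L106411 rfl
theorem L133434 : N11104 = N4448 := eqes L133433 (flp_c L44653)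
theorem L133435 : N11104 = N4448 := eqc rfl L133434 rfl
theorem L133436 : sm ge N9194 = N11103 := trfs L133414 (flp_e L106407) rfl
theorem L133437 : N11103 = N11471 := eqes L133436 L92297
theorem L133438 : N11471 = N11103 := (eqc rfl L133437 rfl).symm
theorem L133441 : sm gb N11103 = N14889 := trfs L133438 (flp_b L109886) rfl
theorem L133442 : N14889 = N14191 := eqes L133441 L106403
theorem L133443 : N14889 = N14191 := eqc rfl L133442 rfl
theorem L133448 : sm ge N11103 = N9194 := trfs L133438 (flp_e L92297) rfl
theorem L133459 : sm ge N14191 = N11469 := trfs L133443 (flp_e L109884) rfl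
theorem L133469 : sm gf N4448 = N14184 := trfs L133435 (flp_f L106360) rfl
theorem L133470 : N14184 = N5746 := eqes L133469 (flp_f L81885)
theorem L133471 : N14184 = N5746 := eqc rfl L133470 rfl
theorem L133474 : sm gb N5746 = N11820 := trfs L133471 L106358 rfl
theorem L133475 : N11820 = N10339 := eqes L133474 (flp_b L86142)
theorem L133476 : N11820 = N10339 := eqc rfl L133475 rfl
theorem L133482 : sm gc N10339 = N15509 := trfs L133476 L113176 rfl
theorem L133483 : N15509 = N12845 := eqes L133482 L99257
theorem L133484 : N15509 = N12845 := eqc rfl L133483 rfl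
theorem L133493 : sm gg N10339 = N9874 := trfs L133476 L94142 rfl
theorem L133494 : N9874 = N12811 := eqes L133493 (flp_g L99075)
theorem L133495 : N12811 = N9874 := (eqc rfl L133494 rfl).symm
theorem L133496 : sm ga N9874 = N10325 := trfs L133495 L99071 rfl
theorem L133497 : N10325 = N4871 := eqes L133496 (flp_a L83919)
theorem L133498 : N10325 = N4871 := eqc rfl L133497 rfl
theorem L133499 : sm gb N9874 = N11063 := trfs L133495 L99077 rfl
theorem L133500 : N11063 = N11193 := eqes L133499 (flp_b L90884)
theorem L133501 : N11193 = N11063 := (eqc rfl L133500 rfl).symm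
theorem L133502 : sm gc N9874 = N17318 := trfs L133495 (flp_c L124267) rfl
theorem L133503 : N17318 = N11914 := eqes L133502 L94634
theorem L133504 : N17318 = N11914 := eqc rfl L133503 rfl
theorem L133507 : sm gf N9874 = N10321 := trfs L133495 (flp_f L99069) rfl
theorem L133508 : N10321 = N10431 := eqes L133507 L86739
theorem L133509 : N10431 = N10321 := (eqc rfl L133508 rfl).symm
theorem L133510 : sm gg N9874 = N10339 := trfs L133495 L99075 rfl
theorem L133515 : sm gb N10321 = N12810 := trfs L133509 (flp_b L99063) rfl
theorem L133516 : N12810 = N6010 := eqes L133515 L86039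
theorem L133517 : N12810 = N6010 := eqc rfl L133516 rfl
theorem L133518 : sm gc N10321 = N12985 := trfs L133509 (flp_c L100073) rfl
theorem L133519 : N12985 = N12809 := eqes L133518 L99053
theorem L133520 : N12985 = N12809 := eqc rfl L133519 rfl
theorem L133524 : sm gf N10321 = N9874 := trfs L133509 (flp_f L86739) rfl
theorem L133526 : sm gg N10321 = N6007 := trfs L133509 (flp_g L86731) rfl
theorem L133527 : N6007 = N5997 := eqes L133526 L86041
theorem L133528 : N6007 = N5997 := eqc rfl L133527 rfl
theorem L133530 : sm gb N5997 = N2907 := trfs L133528 (flp_b L29099) rfl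
theorem L133531 : N2907 = N2902 := eqes L133530 (flp_b L29063)
theorem L133532 : N2907 = N2902 := eqc rfl L133531 rfl
theorem L133533 : sm gc N5997 = N10430 := trfs L133528 L86727 rfl
theorem L133534 : N10430 = N10412 := eqes L133533 L86655
theorem L133535 : N10430 = N10412 := eqc rfl L133534 rfl
theorem L133537 : sm ge N5997 = N2908 := trfs L133528 L29103 rfl
theorem L133538 : N2908 = N10411 := eqes L133537 (flp_e L86653)
theorem L133539 : N10411 = N2908 := (eqc rfl L133538 rfl).symm
theorem L133550 : sm ge N2908 = N5997 := trfs L133539 L86653 rfl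
theorem L133552 : sm gf N2908 = N12928 := trfs L133539 (flp_f L99802) rfl
theorem L133553 : N12928 = N4697 := eqes L133552 L82068
theorem L133554 : N12928 = N4697 := eqc rfl L133553 rfl
theorem L133563 : sm gg N4697 = N12817 := trfs L133554 L99806 rfl
theorem L133564 : N12817 = N2348 := eqes L133563 L22673
theorem L133565 : N12817 = N2348 := eqc rfl L133564 rfl
theorem L133570 : sm gc N2348 = N17330 := trfs L133565 (flp_c L124331) rfl
theorem L133571 : N17330 = N4874 := eqes L133570 L23553
theorem L133572 : N17330 = N4874 := eqc rfl L133571 rfl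
theorem L133576 : sm ge N4874 = N12815 := trfs L133572 L124333 rfl
theorem L133577 : N12815 = N9875 := eqes L133576 (flp_e L83927)
theorem L133578 : N12815 = N9875 := eqc rfl L133577 rfl
theorem L133579 : sm gf N4874 = N12814 := trfs L133572 (flp_f L124329) rfl
theorem L133580 : N12814 = N9881 := eqes L133579 L83953
theorem L133581 : N12814 = N9881 := eqc rfl L133580 rfl
theorem L133586 : sm gb N9881 = N17322 := trfs L133581 (flp_b L124293) rfl
theorem L133587 : N17322 = N11925 := eqes L133586 L94686
theorem L133588 : N17322 = N11925 := eqc rfl L133587 rfl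
theorem L133593 : sm ge N9881 = N10323 := trfs L133581 (flp_e L99085) rfl
theorem L133594 : N10323 = N11916 := eqes L133593 (flp_e L94646)
theorem L133595 : N11916 = N10323 := (eqc rfl L133594 rfl).symm
theorem L133596 : sm gg N9881 = N17331 := trfs L133581 L124335 rfl
theorem L133597 : N17331 = N10433 := eqes L133596 (flp_g L86749)
theorem L133598 : N17331 = N10433 := eqc rfl L133597 rfl
theorem L133601 : sm ge N10433 = N12816 := trfs L133598 L124341 rfl
theorem L133602 : N12816 = N12983 := eqes L133601 (flp_e L100063)
theorem L133603 : N12983 = N12816 := (eqc rfl L133602 rfl).symm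
theorem L133612 : sm gb N12816 = N17640 := trfs L133603 L125870 rfl
theorem L133613 : N17640 = N17333 := eqes L133612 L124345
theorem L133614 : N17640 = N17333 := eqc rfl L133613 rfl
theorem L133616 : sm gd N12816 = N17641 := trfs L133603 L125874 rfl
theorem L133617 : N17641 = N17328 := eqes L133616 (flp_d L124325)
theorem L133618 : N17641 = N17328 := eqc rfl L133617 rfl
theorem L133619 : sm ge N12816 = N10433 := trfs L133603 L100063 rfl
theorem L133623 : sm ga N17328 = N12984 := trfs L133618 L125876 rfl
theorem L133624 : N12984 = N12948 := eqes L133623 L124321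
theorem L133625 : N12984 = N12948 := eqc rfl L133624 rfl
theorem L133626 : sm gc N17328 = N13069 := trfs L133618 L125880 rfl
theorem L133627 : N13069 = N13033 := eqes L133626 L124323
theorem L133628 : N13069 = N13033 := eqc rfl L133627 rfl
theorem L133629 : sm gg N17328 = N15700 := trfs L133618 L125878 rfl
theorem L133630 : N15700 = N12813 := eqes L133629 (flp_g L124319)
theorem L133631 : N15700 = N12813 := eqc rfl L133630 rfl
theorem L133632 : sm ga N12813 = N17644 := trfs L133631 (flp_a L125896) rfl
theorem L133633 : N17644 = N17316 := eqes L133632 (flp_a L124249)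
theorem L133634 : N17644 = N17316 := eqc rfl L133633 rfl
theorem L133635 : sm gc N12813 = N15589 := trfs L133631 L114119 rfl
theorem L133636 : N15589 = N17325 := eqes L133635 L124305
theorem L133637 : N17325 = N15589 := (eqc rfl L133636 rfl).symm
theorem L133639 : sm gf N12813 = N11915 := trfs L133631 (flp_f L114117) rfl
theorem L133640 : N11915 = N17327 := eqes L133639 L124315
theorem L133641 : N17327 = N11915 := (eqc rfl L133640 rfl).symm
theorem L133642 : sm gc N11915 = N17405 := trfs L133641 (flp_c L124710) rfl
theorem L133643 : N17405 = N11976 := eqes L133642 (flp_c L94921)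
theorem L133644 : N17405 = N11976 := eqc rfl L133643 rfl
theorem L133646 : sm gf N11915 = N12813 := trfs L133641 (flp_f L124315) rfl
theorem L133648 : sm gg N11915 = N17402 := trfs L133641 L124694 rfl
theorem L133649 : N17402 = N15510 := eqes L133648 (flp_g L113190)
theorem L133650 : N17402 = N15510 := eqc rfl L133649 rfl
theorem L133651 : sm ga N15510 = N17385 := trfs L133650 L124688 rfl
theorem L133653 : sm gc N15510 = N12853 := trfs L133650 (flp_c L124686) rfl
theorem L133654 : N12853 = N15828 := eqes L133653 (flp_c L114684)
theorem L133655 : N15828 = N12853 := (eqc rfl L133654 rfl).symm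
theorem L133656 : sm gd N15510 = N12930 := trfs L133650 L124690 rfl
theorem L133657 : N12930 = N11821 := eqes L133656 (flp_d L113186)
theorem L133658 : N12930 = N11821 := eqc rfl L133657 rfl
theorem L133663 : sm gb N11821 = N17523 := trfs L133658 (flp_b L125372) rfl
theorem L133664 : N17523 = N15501 := eqes L133663 (flp_b L113140)
theorem L133665 : N17523 = N15501 := eqc rfl L133664 rfl
theorem L133671 : sm gc N15501 = N12925 := trfs L133665 (flp_c L125370) rfl
theorem L133672 : N12925 = N11816 := eqes L133671 (flp_c L113136)
theorem L133673 : N12925 = N11816 := eqc rfl L133672 rfl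
theorem L133678 : sm gd N11816 = N17510 := trfs L133673 (flp_d L125305) rfl
theorem L133679 : N17510 = N15499 := eqes L133678 (flp_d L113130)
theorem L133680 : N17510 = N15499 := eqc rfl L133679 rfl
theorem L133686 : sm gb N15499 = N12919 := trfs L133680 (flp_b L125303) rfl
theorem L133687 : N12919 = N11815 := eqes L133686 (flp_b L113128)
theorem L133688 : N12919 = N11815 := eqc rfl L133687 rfl
theorem L133689 : sm ga N11815 = N11926 := trfs L133688 L99755 rfl
theorem L133690 : N11926 = N12893 := eqes L133689 (flp_a L99564)
theorem L133691 : N12893 = N11926 := (eqc rfl L133690 rfl).symm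
theorem L133700 : sm gg N11815 = N17512 := trfs L133688 L125315 rfl
theorem L133701 : N17512 = N9697 := eqes L133700 (flp_g L94112)
theorem L133702 : N17512 = N9697 := eqc rfl L133701 rfl
theorem L133710 : sm gf N9697 = N17487 := trfs L133702 (flp_f L125323) rfl
theorem L133711 : N17487 = N11450 := eqes L133710 (flp_f L92184)
theorem L133712 : N17487 = N11450 := eqc rfl L133711 rfl
theorem L133718 : sm gg N11450 = N12908 := trfs L133712 (flp_g L125174) rfl
theorem L133719 : N12908 = N12823 := eqes L133718 (flp_g L99137)
theorem L133720 : N12908 = N12823 := eqc rfl L133719 rfl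
theorem L133727 : sm gd N12823 = N10390 := trfs L133720 (flp_d L99683) rfl
theorem L133728 : N10390 = N10328 := eqes L133727 (flp_d L99133)
theorem L133729 : N10390 = N10328 := eqc rfl L133728 rfl
theorem L133761 : sm gb N10328 = N12907 := trfs L133729 L99679 rfl
theorem L133762 : N12907 = N12820 := eqes L133761 (flp_b L99121)
theorem L133763 : N12907 = N12820 := eqc rfl L133762 rfl
theorem L133766 : sm gf N10328 = N9882 := trfs L133729 L86528 rfl
theorem L133767 : N9882 = N10374 := eqes L133766 (flp_f L86389)
theorem L133768 : N10374 = N9882 := (eqc rfl L133767 rfl).symm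
theorem L133772 : sm gb N9882 = N12892 := trfs L133768 L99558 rfl
theorem L133773 : N12892 = N11912 := eqes L133772 (flp_b L94626)
theorem L133774 : N12892 = N11912 := eqc rfl L133773 rfl
theorem L133779 : sm gf N9882 = N10328 := trfs L133768 L86389 rfl
theorem L133781 : sm gg N9882 = N9681 := trfs L133768 L86391 rfl
theorem L133782 : N9681 = N11927 := eqes L133781 L94690
theorem L133783 : N11927 = N9681 := (eqc rfl L133782 rfl).symm
theorem L133790 : sm gg N9681 = N9882 := trfs L133783 (flp_g L94690) rfl
theorem L133792 : sm ga N11912 = N17463 := trfs L133774 L125021 rfl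
theorem L133793 : N17463 = N15692 := eqes L133792 (flp_a L114079)
theorem L133794 : N17463 = N15692 := eqc rfl L133793 rfl
theorem L133798 : sm gd N11912 = N13516 := trfs L133774 (flp_d L119753) rfl
theorem L133799 : N13516 = N15694 := eqes L133798 L114089
theorem L133800 : N15694 = N13516 := (eqc rfl L133799 rfl).symm
theorem L133801 : sm ge N11912 = N11793 := trfs L133774 L99560 rfl
theorem L133802 : N11793 = N15672 := eqes L133801 (flp_e L114001)
theorem L133803 : N15672 = N11793 := (eqc rfl L133802 rfl).symm
theorem L133804 : sm gf N11912 = N17464 := trfs L133774 L125025 rfl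
theorem L133805 : N17464 = N15688 := eqes L133804 (flp_f L114065)
theorem L133806 : N17464 = N15688 := eqc rfl L133805 rfl
theorem L133807 : sm gg N11912 = N13500 := trfs L133774 (flp_g L119769) rfl
theorem L133808 : N13500 = N15695 := eqes L133807 L114093
theorem L133809 : N15695 = N13500 := (eqc rfl L133808 rfl).symm
theorem L133810 : sm gc N13500 = N11913 := trfs L133809 L114095 rfl
theorem L133812 : sm gg N13500 = N11912 := trfs L133809 (flp_g L114093) rfl
theorem L133814 : sm gb N15688 = N17339 := trfs L133806 L125029 rfl
theorem L133815 : N17339 = N17484 := eqes L133814 (flp_b L125160)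
theorem L133816 : N17484 = N17339 := (eqc rfl L133815 rfl).symm
theorem L133817 : sm ge N15688 = N15460 := trfs L133806 L125027 rfl
theorem L133819 : sm gb N17339 = N15688 := trfs L133816 L125160 rfl
theorem L133821 : sm gc N17339 = N15685 := trfs L133816 L125158 rfl
theorem L133825 : sm gc N11793 = N11903 := trfs L133803 (flp_c L113999) rfl
theorem L133826 : N11903 = N15459 := eqes L133825 L112912
theorem L133827 : N15459 = N11903 := (eqc rfl L133826 rfl).symm
theorem L133828 : sm ge N11793 = N11912 := trfs L133803 L114001 rfl
theorem L133830 : sm gb N11903 = N11795 := trfs L133827 L112914 rfl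
theorem L133831 : N11795 = N9869 := eqes L133830 (flp_b L94584)
theorem L133832 : N11795 = N9869 := eqc rfl L133831 rfl
theorem L133833 : sm gc N11903 = N11793 := trfs L133827 (flp_c L112912) rfl
theorem L133851 : sm gg N9869 = N15447 := trfs L133832 (flp_g L112852) rfl
theorem L133852 : N15447 = N5055 := eqes L133851 L83905
theorem L133853 : N15447 = N5055 := eqc rfl L133852 rfl
theorem L133854 : sm gc N5055 = N11786 := trfs L133853 (flp_c L112850) rfl
theorem L133855 : N11786 = N2439 := eqes L133854 (flp_c L24450)
theorem L133856 : N11786 = N2439 := eqc rfl L133855 rfl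
theorem L133868 : sm gf N2439 = N14884 := trfs L133856 (flp_f L109864) rfl
theorem L133869 : N14884 = N2343 := eqes L133868 L11766
theorem L133870 : N14884 = N2343 := eqc rfl L133869 rfl
theorem L133880 : sm gg N2343 = N11465 := trfs L133870 (flp_g L109858) rfl
theorem L133881 : N11465 = N4114 := eqes L133880 (flp_g L19734)
theorem L133882 : N11465 = N4114 := eqc rfl L133881 rfl
theorem L133892 : sm gf N4114 = N11794 := trfs L133882 L93994 rfl
theorem L133893 : N11794 = N4094 := eqes L133892 L19732
theorem L133894 : N11794 = N4094 := eqc rfl L133893 rfl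
theorem L133896 : sm gb N4094 = N11155 := trfs L133894 L93992 rfl
theorem L133897 : N11155 = N8525 := eqes L133896 L41290
theorem L133898 : N11155 = N8525 := eqc rfl L133897 rfl
theorem L133903 : sm ge N4094 = N12884 := trfs L133894 (flp_e L99497) rfl
theorem L133904 : N12884 = N1961 := eqes L133903 L19607
theorem L133905 : N12884 = N1961 := eqc rfl L133904 rfl
theorem L133920 : sm gg N1961 = N17455 := trfs L133905 L124962 rfl
theorem L133921 : N17455 = N961 := eqes L133920 (flp_g L9459)
theorem L133922 : N17455 = N961 := eqc rfl L133921 rfl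
theorem L133924 : sm gd N961 = N12885 := trfs L133922 L124966 rfl
theorem L133925 : N12885 = N483 := eqes L133924 (flp_d L4761)
theorem L133926 : N12885 = N483 := eqc rfl L133925 rfl
theorem L133941 : sm gf N483 = N12890 := trfs L133926 L99543 rfl
theorem L133942 : N12890 = N289 := eqes L133941 L2452
theorem L133943 : N12890 = N289 := eqc rfl L133942 rfl
theorem L133954 : sm gg N289 = N10370 := trfs L133943 (flp_g L99537) rfl
theorem L133955 : N10370 = N573 := eqes L133954 L2908
theorem L133956 : N10370 = N573 := eqc rfl L133955 rfl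
theorem L133963 : sm ge N573 = N5855 := trfs L133956 L86350 rfl
theorem L133964 : N5855 = N297 := eqes L133963 L2912
theorem L133965 : N5855 = N297 := eqc rfl L133964 rfl
theorem L133973 : sm gf N297 = N2830 := trfs L133965 (flp_f L28413) rfl
theorem L133974 : N2830 = N586 := eqes L133973 L2979
theorem L133975 : N2830 = N586 := eqc rfl L133974 rfl
theorem L133984 : sm gd N586 = N2291 := trfs L133975 L80771 rfl
theorem L133985 : N2291 = N1163 := eqes L133984 (flp_d L5727)
theorem L133986 : N2291 = N1163 := eqc rfl L133985 rfl
theorem L133994 : sm gc N1163 = N4496 := trfs L133986 L80927 rfl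
theorem L133995 : N4496 = N978 := eqes L133994 L5725
theorem L133996 : N4496 = N978 := eqc rfl L133995 rfl
theorem L134005 : sm gg N978 = N9290 := trfs L133996 L45060 rfl
theorem L134006 : N9290 = N582 := eqes L134005 L4862
theorem L134007 : N9290 = N582 := eqc rfl L134006 rfl
theorem L134013 : sm gd N582 = N10373 := trfs L134007 (flp_d L86378) rfl
theorem L134014 : N10373 = N295 := eqes L134013 (flp_d L2967)
theorem L134015 : N10373 = N295 := eqc rfl L134014 rfl
theorem L134020 : sm gc N295 = N6085 := trfs L134015 L86376 rfl
theorem L134021 : N6085 = N142 := eqes L134020 (flp_c L1504)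
theorem L134022 : N6085 = N142 := eqc rfl L134021 rfl
theorem L134041 : sm gg N142 = N6078 := trfs L134022 L29471 rfl
theorem L134042 : N6078 = N253 := eqes L134041 L1307
theorem L134043 : N6078 = N253 := eqc rfl L134042 rfl
theorem L134055 : sm gf N253 = N2941 := trfs L134043 (flp_f L29438) rfl
theorem L134056 : N2941 = N248 := eqes L134055 L1303
theorem L134057 : N2941 = N248 := eqc rfl L134056 rfl
theorem L134069 : sm gg N248 = N6079 := trfs L134057 L29442 rfl
theorem L134070 : N6079 = N117 := eqes L134069 (flp_g L1268)
theorem L134071 : N6079 = N117 := eqc rfl L134070 rfl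
theorem L134077 : sm gd N117 = N6171 := trfs L134071 (flp_d L29818) rfl
theorem L134078 : N6171 = N53 := eqes L134077 L574
theorem L134079 : N6171 = N53 := eqc rfl L134078 rfl
theorem L134092 : sm gf N53 = N3056 := trfs L134079 L82820 rfl
theorem L134093 : N3056 = N30 := eqes L134092 L258
theorem L134094 : N3056 = N30 := eqc rfl L134093 rfl
theorem L134105 : sm gg N30 = N1489 := trfs L134094 L14742 rfl
theorem L134106 : N1489 = N68 := eqes L134105 L338
theorem L134107 : N1489 = N68 := eqc rfl L134106 rfl
theorem L134116 : sm ge N68 = N3063 := trfs L134107 (flp_e L14783) rfl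
theorem L134117 : N3063 = N68 := eqes L134116 L340
theorem L134118 : N3063 = N68 := eqc rfl L134117 rfl
theorem L134129 : sm gd N68 = N6330 := trfs L134118 (flp_d L30616) rfl
theorem L134130 : N6330 = N144 := eqes L134129 (flp_d L715)
theorem L134131 : N6330 = N144 := eqc rfl L134130 rfl
theorem L134149 : sm gg N144 = N10622 := trfs L134131 (flp_g L87888) rfl
theorem L134150 : N10622 = N64 := eqes L134149 (flp_g L713)
theorem L134151 : N10622 = N64 := eqc rfl L134150 rfl
theorem L134165 : sm gf N64 = N13162 := trfs L134151 (flp_f L101063) rfl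
theorem L134166 : N13162 = N117 := eqes L134165 (flp_f L576)
theorem L134167 : N13162 = N117 := eqc rfl L134166 rfl
theorem L134181 : sm gg N117 = N10552 := trfs L134167 (flp_g L101055) rfl
theorem L134182 : N10552 = N248 := eqes L134181 L1268
theorem L134183 : N10552 = N248 := eqc rfl L134182 rfl
theorem L134194 : sm ge N248 = N10501 := trfs L134183 L87449 rfl
theorem L134195 : N10501 = N484 := eqes L134194 (flp_e L2457)
theorem L134196 : N10501 = N484 := eqc rfl L134195 rfl
theorem L134208 : sm gf N484 = N13096 := trfs L134196 L100656 rfl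
theorem L134209 : N13096 = N489 := eqes L134208 (flp_f L2496)
theorem L134210 : N13096 = N489 := eqc rfl L134209 rfl
theorem L134221 : sm gg N489 = N13107 := trfs L134210 (flp_g L100720) rfl
theorem L134222 : N13107 = N288 := eqes L134221 (flp_g L2500)
theorem L134223 : N13107 = N288 := eqc rfl L134222 rfl
theorem L134233 : sm gf N288 = N10508 := trfs L134223 (flp_f L100714) rfl
theorem L134234 : N10508 = N305 := eqes L134233 (flp_f L1563)
theorem L134235 : N10508 = N305 := eqc rfl L134234 rfl
theorem L134241 : sm gd N305 = N6082 := trfs L134235 L87169 rfl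
theorem L134242 : N6082 = N305 := eqes L134241 L1565
theorem L134243 : N6082 = N305 := eqc rfl L134242 rfl
theorem L134251 : sm gg N305 = N2942 := trfs L134243 (flp_g L29454) rfl
theorem L134252 : N2942 = N574 := eqes L134251 (flp_g L2921)
theorem L134253 : N2942 = N574 := eqc rfl L134252 rfl
theorem L134255 : sm gb N574 = N1428 := trfs L134253 L14207 rfl
theorem L134256 : N1428 = N352 := eqes L134255 (flp_b L2923)
theorem L134257 : N1428 = N352 := eqc rfl L134256 rfl
theorem L134274 : sm gf N352 = N2946 := trfs L134257 L14217 rfl
theorem L134275 : N2946 = N700 := eqes L134274 L3508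
theorem L134276 : N2946 = N700 := eqc rfl L134275 rfl
theorem L134290 : sm ge N700 = N1429 := trfs L134276 L14221 rfl
theorem L134291 : N1429 = N359 := eqes L134290 L3513
theorem L134292 : N1429 = N359 := eqc rfl L134291 rfl
theorem L134301 : sm gd N359 = N1450 := trfs L134292 (flp_d L7039) rfl
theorem L134302 : N1450 = N186 := eqes L134301 L1825
theorem L134303 : N1450 = N186 := eqc rfl L134302 rfl
theorem L134312 : sm gc N186 = N723 := trfs L134303 L7037 rfl
theorem L134313 : N723 = N367 := eqes L134312 (flp_c L1867)
theorem L134314 : N723 = N367 := eqc rfl L134313 rfl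
theorem L134318 : sm gf N186 = N721 := trfs L134303 (flp_f L7033) rfl
theorem L134319 : N721 = N86 := eqes L134318 (flp_f L928)
theorem L134320 : N721 = N86 := eqc rfl L134319 rfl
theorem L134326 : sm gc N86 = N366 := trfs L134320 (flp_c L3611) rfl
theorem L134327 : N366 = N185 := eqes L134326 L922
theorem L134328 : N366 = N185 := eqc rfl L134327 rfl
theorem L134330 : sm ge N86 = N1449 := trfs L134320 L7026 rfl
theorem L134331 : N1449 = N86 := eqes L134330 L427
theorem L134332 : N1449 = N86 := eqc rfl L134331 rfl
theorem L134341 : sm gd N86 = N2988 := trfs L134332 L14395 rfl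
theorem L134342 : N2988 = N178 := eqes L134341 (flp_d L893)
theorem L134343 : N2988 = N178 := eqc rfl L134342 rfl
theorem L134352 : sm gf N178 = N6179 := trfs L134343 L29864 rfl
theorem L134353 : N6179 = N359 := eqes L134352 L1821
theorem L134354 : N6179 = N359 := eqc rfl L134353 rfl
theorem L134362 : sm gc N359 = N10560 := trfs L134354 (flp_c L87504) rfl
theorem L134363 : N10560 = N709 := eqes L134362 (flp_c L3564)
theorem L134364 : N10560 = N709 := eqc rfl L134363 rfl
theorem L134376 : sm ge N709 = N10514 := trfs L134364 L87508 rfl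
theorem L134377 : N10514 = N1408 := eqes L134376 (flp_e L6855)
theorem L134378 : N10514 = N1408 := eqc rfl L134377 rfl
theorem L134388 : sm gd N1408 = N13114 := trfs L134378 (flp_d L100755) rfl
theorem L134389 : N13114 = N2902 := eqes L134388 (flp_d L14023)
theorem L134390 : N13114 = N2902 := eqc rfl L134389 rfl
theorem L134405 : sm gb N2902 = N17883 := trfs L134390 L127055 rfl
theorem L134406 : N17883 = N5997 := eqes L134405 L29063
theorem L134407 : N17883 = N5997 := eqc rfl L134406 rfl
theorem L134408 : sm gc N2902 = N12942 := trfs L134390 L100753 rfl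
theorem L134409 : N12942 = N5995 := eqes L134408 (flp_c L29047)
theorem L134410 : N12942 = N5995 := eqc rfl L134409 rfl
theorem L134421 : sm gd N5995 = N10409 := trfs L134410 L99891 rfl
theorem L134422 : N10409 = N2906 := eqes L134421 L29049
theorem L134423 : N10409 = N2906 := eqc rfl L134422 rfl
theorem L134428 : sm ga N2906 = N6005 := trfs L134423 L86637 rfl
theorem L134429 : N6005 = N5995 := eqes L134428 (flp_a L29045)
theorem L134430 : N6005 = N5995 := eqc rfl L134429 rfl
theorem L134431 : sm gb N2906 = N12943 := trfs L134423 L99897 rfl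
theorem L134432 : N12943 = N6006 := eqes L134431 L29097
theorem L134433 : N12943 = N6006 := eqc rfl L134432 rfl
theorem L134439 : sm ga N6006 = N17552 := trfs L134433 L125510 rfl
theorem L134440 : N17552 = N10426 := eqes L134439 L86711
theorem L134441 : N17552 = N10426 := eqc rfl L134440 rfl
theorem L134442 : sm gc N6006 = N17553 := trfs L134433 L125514 rfl
theorem L134443 : N17553 = N10427 := eqes L134442 L86713
theorem L134444 : N17553 = N10427 := eqc rfl L134443 rfl
theorem L134446 : sm ge N6006 = N10410 := trfs L134433 L99899 rfl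
theorem L134447 : N10410 = N10425 := eqes L134446 (flp_e L86709)
theorem L134448 : N10425 = N10410 := (eqc rfl L134447 rfl).symm
theorem L134449 : sm gf N6006 = N17543 := trfs L134433 (flp_f L125465) rfl
theorem L134450 : N17543 = N10420 := eqes L134449 (flp_f L86686)
theorem L134451 : N17543 = N10420 := eqc rfl L134450 rfl
theorem L134452 : sm gg N6006 = N17554 := trfs L134433 L125520 rfl
theorem L134453 : N17554 = N10428 := eqes L134452 L86717
theorem L134454 : N17554 = N10428 := eqc rfl L134453 rfl
theorem L134455 : sm gb N10428 = N12975 := trfs L134454 L125524 rfl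
theorem L134456 : N12975 = N12946 := eqes L134455 (flp_b L99913)
theorem L134457 : N12975 = N12946 := eqc rfl L134456 rfl
theorem L134463 : sm gc N12946 = N17623 := trfs L134457 (flp_c L125806) rfl
theorem L134464 : N17623 = N17559 := eqes L134463 (flp_c L125548)
theorem L134465 : N17623 = N17559 := eqc rfl L134464 rfl
theorem L134469 : sm ge N12946 = N10428 := trfs L134457 L100025 rfl
theorem L134471 : sm gf N12946 = N17624 := trfs L134457 L125810 rfl
theorem L134472 : N17624 = N17560 := eqes L134471 L125550
theorem L134473 : N17624 = N17560 := eqc rfl L134472 rfl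
theorem L134478 : sm ge N17560 = N12981 := trfs L134473 L125814 rfl
theorem L134480 : sm gg N17560 = N17596 := trfs L134473 L125816 rfl
theorem L134481 : N17596 = N17546 := eqes L134480 L125556
theorem L134482 : N17596 = N17546 := eqc rfl L134481 rfl
theorem L134486 : sm ge N17546 = N12965 := trfs L134482 L125694 rfl
theorem L134488 : sm gf N17546 = N12973 := trfs L134482 L125696 rfl
theorem L134489 : N12973 = N12944 := eqes L134488 L125485
theorem L134490 : N12973 = N12944 := eqc rfl L134489 rfl
theorem L134492 : sm gb N12944 = N17619 := trfs L134490 L125782 rfl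
theorem L134493 : N17619 = N17555 := eqes L134492 L125526
theorem L134494 : N17619 = N17555 := eqc rfl L134493 rfl
theorem L134495 : sm gc N12944 = N17620 := trfs L134490 L125786 rfl
theorem L134496 : N17620 = N17556 := eqes L134495 L125530
theorem L134497 : N17620 = N17556 := eqc rfl L134496 rfl
theorem L134516 : sm ga N17556 = N12974 := trfs L134497 L125788 rfl
theorem L134517 : N12974 = N12945 := eqes L134516 L125532
theorem L134518 : N12974 = N12945 := eqc rfl L134517 rfl
theorem L134519 : sm ge N17556 = N12977 := trfs L134497 L125790 rfl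
theorem L134528 : sm gf N12945 = N17597 := trfs L134518 (flp_f L125702) rfl
theorem L134529 : N17597 = N17547 := eqes L134528 (flp_f L125489)
theorem L134530 : N17597 = N17547 := eqc rfl L134529 rfl
theorem L134533 : sm ge N17547 = N12966 := trfs L134530 L125700 rfl
theorem L134536 : sm ge N17555 = N12976 := trfs L134494 L125784 rfl
theorem L134547 : sm ge N17559 = N12980 := trfs L134465 L125808 rfl
theorem L134552 : sm ge N10420 = N12939 := trfs L134451 L125463 rfl
theorem L134555 : sm ge N10410 = N6006 := trfs L134448 L86709 rfl
theorem L134558 : sm ge N10427 = N12945 := trfs L134444 L125516 rfl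
theorem L134560 : sm ge N10426 = N12944 := trfs L134441 L125512 rfl
theorem L134564 : sm ge N5995 = N2906 := trfs L134430 L29095 rfl
theorem L134579 : sm ge N5997 = N17615 := trfs L134407 L127059 rfl
theorem L134580 : N17615 = N2908 := eqes L134579 (flp_e L133550)
theorem L134581 : N17615 = N2908 := eqc rfl L134580 rfl
theorem L134583 : sm gd N2908 = N13222 := trfs L134581 L125770 rfl
theorem L134584 : N13222 = N1412 := eqes L134583 L14050
theorem L134585 : N13222 = N1412 := eqc rfl L134584 rfl
theorem L134597 : sm gg N1412 = N18046 := trfs L134585 L128030 rfl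
theorem L134598 : N18046 = N2910 := eqes L134597 L14058
theorem L134599 : N18046 = N2910 := eqc rfl L134598 rfl
theorem L134603 : sm ge N2910 = N13231 := trfs L134599 L128032 rfl
theorem L134604 : N13231 = N1433 := eqes L134603 L14062
theorem L134605 : N13231 = N1433 := eqc rfl L134604 rfl
theorem L134617 : sm gf N1433 = N18063 := trfs L134605 L128083 rfl
theorem L134618 : N18063 = N1164 := eqes L134617 L82047
theorem L134619 : N18063 = N1164 := eqc rfl L134618 rfl
theorem L134624 : sm gg N1164 = N18053 := trfs L134619 L128087 rfl
theorem L134625 : N18053 = N2300 := eqes L134624 (flp_g L11135)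
theorem L134626 : N18053 = N2300 := eqc rfl L134625 rfl
theorem L134630 : sm gf N2300 = N13229 := trfs L134626 L128050 rfl
theorem L134631 : N13229 = N1432 := eqes L134630 (flp_f L73873)
theorem L134632 : N13229 = N1432 := eqc rfl L134631 rfl
theorem L134640 : sm gd N1432 = N17966 := trfs L134632 (flp_d L127565) rfl
theorem L134641 : N17966 = N2949 := eqes L134640 (flp_d L14231)
theorem L134642 : N17966 = N2824 := eqc rfl L134641 L131701
theorem L134649 : sm ge N2824 = N17884 := trfs L134642 L127567 rfl
theorem L134650 : N17884 = N5697 := eqes L134649 (flp_e L27570)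
theorem L134651 : N17884 = N5697 := eqc rfl L134650 rfl
theorem L134653 : sm gc N5697 = N17941 := trfs L134651 (flp_c L127396) rfl
theorem L134654 : N17941 = N5751 := eqes L134653 (flp_c L81891)
theorem L134655 : N17941 = N5751 := eqc rfl L134654 rfl
theorem L134656 : sm ga N5751 = N13157 := trfs L134655 (flp_a L127394) rfl
theorem L134657 : N13157 = N2918 := eqes L134656 L81887
theorem L134658 : N13157 = N2918 := eqc rfl L134657 rfl
theorem L134673 : sm gg N2918 = N17938 := trfs L134658 (flp_g L127378) rfl
theorem L134674 : N17938 = N4832 := eqes L134673 L131857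
theorem L134675 : N17938 = N4832 := eqc rfl L134674 rfl
theorem L134681 : sm ge N4832 = N18082 := trfs L134675 (flp_e L128196) rfl
theorem L134682 : N18082 = N2329 := eqes L134681 L23347
theorem L134683 : N18082 = N2329 := eqc rfl L134682 rfl
theorem L134689 : sm gd N2329 = N13274 := trfs L134683 L128194 rfl
theorem L134690 : N13274 = N1135 := eqes L134689 L11256
theorem L134691 : N13274 = N1135 := eqc rfl L134690 rfl
theorem L134709 : sm gg N1135 = N10628 := trfs L134691 L101703 rfl
theorem L134710 : N10628 = N720 := eqes L134709 (flp_g L81983)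
theorem L134711 : N10628 = N720 := eqc rfl L134710 rfl
theorem L134723 : sm ge N720 = N13269 := trfs L134711 (flp_e L101685) rfl
theorem L134724 : N13269 = N1419 := eqes L134723 (flp_e L6910)
theorem L134725 : N13269 = N1419 := eqc rfl L134724 rfl
theorem L134764 : sm gd N1419 = N17791 := trfs L134725 (flp_d L126582) rfl
theorem L134765 : N17791 = N2923 := eqes L134764 (flp_d L14128)
theorem L134766 : N17791 = N2923 := eqc rfl L134765 rfl
theorem L134768 : sm gb N2923 = N13056 := trfs L134766 (flp_b L126580) rfl
theorem L134769 : N13056 = N1418 := eqes L134768 (flp_b L14126)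
theorem L134770 : N13056 = N1418 := eqc rfl L134769 rfl
theorem L134773 : sm ga N1418 = N13156 := trfs L134770 (flp_a L101013) rfl
theorem L134774 : N13156 = N2917 := eqes L134773 (flp_a L14097)
theorem L134775 : N13156 = N2917 := eqc rfl L134774 rfl
theorem L134780 : sm ge N1418 = N2917 := trfs L134770 (flp_e L101019) L134775
theorem L134781 : N2917 = N2922 := eqes L134780 (flp_e L14124)
theorem L134782 : N2922 = N2917 := (eqc rfl L134781 rfl).symm
theorem L134784 : sm gg N1418 = N10470 := trfs L134770 (flp_g L100427) rfl
theorem L134785 : N10470 = N705 := eqes L134784 (flp_g L6904)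
theorem L134786 : N10470 = N705 := eqc rfl L134785 rfl
theorem L134787 : sm ga N705 = N10547 := trfs L134786 (flp_a L87416) rfl
theorem L134788 : N10547 = N1414 := eqes L134787 (flp_a L6883)
theorem L134789 : N10547 = N1414 := eqc rfl L134788 rfl
theorem L134799 : sm ge N705 = N1414 := trfs L134786 (flp_e L87419) L134789
theorem L134800 : N1414 = N1417 := eqes L134799 L6899
theorem L134801 : N1417 = N1414 := (eqc rfl L134800 rfl).symm
theorem L134803 : sm ga N1414 = N2916 := trfs L134801 (flp_a L14090) rfl
theorem L134804 : N2916 = N705 := eqes L134803 L6883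
theorem L134805 : N2916 = N705 := eqc rfl L134804 rfl
theorem L134806 : sm gb N1414 = N2779 := trfs L134801 (flp_b L13430) rfl
theorem L134807 : N2779 = N2912 := eqes L134806 (flp_b L14070)
theorem L134808 : N2912 = N2779 := (eqc rfl L134807 rfl).symm
theorem L134809 : sm gc N1414 = N2920 := trfs L134801 (flp_c L14113) rfl
theorem L134810 : N2920 = N2915 := eqes L134809 L14081
theorem L134811 : N2920 = N2915 := eqc rfl L134810 rfl
theorem L134812 : sm gd N1414 = N718 := trfs L134801 L6902 rfl
theorem L134813 : N718 = N703 := eqes L134812 (flp_d L6881)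
theorem L134814 : N718 = N703 := eqc rfl L134813 rfl
theorem L134822 : sm gb N703 = N1401 := trfs L134814 (flp_b L6816) rfl
theorem L134823 : N1401 = N1413 := eqes L134822 L6877
theorem L134824 : N1413 = N1401 := (eqc rfl L134823 rfl).symm
theorem L134828 : sm ge N703 = N364 := trfs L134814 (flp_e L3600) rfl
theorem L134829 : N364 = N362 := eqes L134828 L3530
theorem L134830 : N364 = N362 := eqc rfl L134829 rfl
theorem L134833 : sm ga N362 = N715 := trfs L134830 (flp_a L3586) rfl
theorem L134834 : N715 = N182 := eqes L134833 L1838
theorem L134835 : N715 = N182 := eqc rfl L134834 rfl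
theorem L134836 : sm gb N362 = N696 := trfs L134830 (flp_b L3489) rfl
theorem L134837 : N696 = N714 := eqes L134836 L3582
theorem L134838 : N714 = N696 := (eqc rfl L134837 rfl).symm
theorem L134839 : sm gc N362 = N717 := trfs L134830 L3597 rfl
theorem L134840 : N717 = N181 := eqes L134839 (flp_c L1836)
theorem L134841 : N717 = N181 := eqc rfl L134840 rfl
theorem L134861 : sm gd N181 = N737 := trfs L134841 L3696 rfl
theorem L134862 : N737 = N89 := eqes L134861 L907
theorem L134863 : N737 = N89 := eqc rfl L134862 rfl
theorem L134873 : sm gc N89 = N373 := trfs L134863 (flp_c L3691) rfl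
theorem L134874 : N373 = N189 := eqes L134873 L951
theorem L134875 : N373 = N189 := eqc rfl L134874 rfl
theorem L134876 : sm ge N89 = N1476 := trfs L134863 L7179 rfl
theorem L134877 : N1476 = N89 := eqes L134876 L441
theorem L134878 : N1476 = N89 := eqc rfl L134877 rfl
theorem L134894 : sm gg N89 = N3039 := trfs L134878 L14655 rfl
theorem L134895 : N3039 = N190 := eqes L134894 L957
theorem L134896 : N3039 = N190 := eqc rfl L134895 rfl
theorem L134899 : sm gc N190 = N1478 := trfs L134896 L14659 rfl
theorem L134900 : N1478 = N374 := eqes L134899 (flp_c L1902)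
theorem L134901 : N1478 = N374 := eqc rfl L134900 rfl
theorem L134911 : sm gd N374 = N374 := trfs L134901 L7200 L134901
theorem L134912 : N374 = N739 := eqes L134911 (flp_d L3708)
theorem L134913 : N739 = N374 := (eqc rfl L134912 rfl).symm
theorem L134917 : sm ga N374 = N377 := trfs L134913 L3706 rfl
theorem L134918 : N377 = N192 := eqes L134917 L1900
theorem L134919 : N377 = N192 := eqc rfl L134918 rfl
theorem L134920 : sm gb N374 = N1479 := trfs L134913 L7205 rfl
theorem L134921 : N1479 = N740 := eqes L134920 L3712
theorem L134922 : N1479 = N740 := eqc rfl L134921 rfl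
theorem L134924 : sm gd N374 = N374 := trfs L134913 L3708 rfl
theorem L134928 : sm gc N740 = N1452 := trfs L134922 (flp_c L83286) rfl
theorem L134929 : N1452 = N724 := eqes L134928 L3715
theorem L134930 : N1452 = N724 := eqc rfl L134929 rfl
theorem L134931 : sm gd N740 = N740 := trfs L134922 L7207 rfl
theorem L134937 : sm gd N724 = N724 := trfs L134930 L7054 rfl
theorem L134938 : sm ge N724 = N2991 := trfs L134930 (flp_e L14419) rfl
theorem L134939 : N2991 = N724 := eqes L134938 L3634
theorem L134940 : N2991 = N724 := eqc rfl L134939 rfl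
theorem L134942 : sm gb N724 = N1451 := trfs L134940 (flp_b L14416) rfl
theorem L134943 : N1451 = N367 := eqes L134942 (flp_b L3632)
theorem L134944 : N1451 = N367 := eqc rfl L134943 rfl
theorem L134949 : sm ga N367 = N729 := trfs L134944 L7045 rfl
theorem L134950 : N729 = N188 := eqes L134949 L1865
theorem L134951 : N729 = N188 := eqc rfl L134950 rfl
theorem L134959 : sm gc N188 = N1462 := trfs L134951 (flp_c L7104) rfl
theorem L134960 : N1462 = N88 := eqes L134959 L948
theorem L134961 : N1462 = N88 := eqc rfl L134960 rfl
theorem L134962 : sm gd N188 = N188 := trfs L134951 L3656 L134951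
theorem L134963 : N188 = N370 := eqes L134962 (flp_d L1882)
theorem L134964 : N370 = N188 := (eqc rfl L134963 rfl).symm
theorem L134966 : sm gf N188 = N369 := trfs L134951 (flp_f L3654) rfl
theorem L134967 : N369 = N87 := eqes L134966 (flp_f L946)
theorem L134968 : N369 = N87 := eqc rfl L134967 rfl
theorem L134972 : sm gd N87 = N87 := trfs L134968 L1879 L134968
theorem L134973 : N87 = N187 := eqes L134972 L942
theorem L134974 : N187 = N87 := (eqc rfl L134973 rfl).symm
theorem L134980 : sm gd N87 = N87 := trfs L134974 (flp_d L942) rfl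
theorem L134986 : sm gd N188 = N188 := trfs L134964 L1882 rfl
theorem L134989 : sm gb N88 = N3014 := trfs L134961 L14529 rfl
theorem L134990 : N3014 = N71 := eqes L134989 L437
theorem L134991 : N3014 = N71 := eqc rfl L134990 rfl
theorem L135006 : sm gf N71 = N6216 := trfs L134991 (flp_f L30040) rfl
theorem L135007 : N6216 = N31 := eqes L135006 (flp_f L348)
theorem L135008 : N6216 = N31 := eqc rfl L135007 rfl
theorem L135025 : sm gg N31 = N10585 := trfs L135008 L87651 rfl
theorem L135026 : N10585 = N55 := eqes L135025 (flp_g L268)
theorem L135027 : N10585 = N55 := eqc rfl L135026 rfl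
theorem L135039 : sm gf N55 = N6270 := trfs L135027 (flp_f L87659) rfl
theorem L135040 : N6270 = N125 := eqes L135039 L614
theorem L135041 : N6270 = N125 := eqc rfl L135040 rfl
theorem L135046 : sm ge N125 = N3034 := trfs L135041 (flp_e L30309) rfl
theorem L135047 : N3034 = N125 := eqes L135046 L616
theorem L135048 : N3034 = N125 := eqc rfl L135047 rfl
theorem L135052 : sm gc N125 = N3015 := trfs L135048 (flp_c L61747) rfl
theorem L135053 : N3015 = N122 := eqes L135052 (flp_c L65298)
theorem L135054 : N3015 = N122 := eqc rfl L135053 rfl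
theorem L135066 : sm gf N122 = N6219 := trfs L135054 (flp_f L30060) rfl
theorem L135067 : N6219 = N69 := eqes L135066 L621
theorem L135068 : N6219 = N69 := eqc rfl L135067 rfl
theorem L135078 : sm gg N69 = N3036 := trfs L135068 L82970 rfl
theorem L135079 : N3036 = N70 := eqes L135078 (flp_g L65328)
theorem L135080 : N3036 = N70 := eqc rfl L135079 rfl
theorem L135084 : sm gd N70 = N2972 := trfs L135080 L14641 rfl
theorem L135085 : N2972 = N153 := eqes L135084 L767
theorem L135086 : N2972 = N153 := eqc rfl L135085 rfl
theorem L135096 : sm ge N153 = N6142 := trfs L135086 (flp_e L29698) rfl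
theorem L135097 : N6142 = N308 := eqes L135096 L1574
theorem L135098 : N6142 = N308 := eqc rfl L135097 rfl
theorem L135114 : sm gg N308 = N10543 := trfs L135098 L87391 rfl
theorem L135115 : N10543 = N291 := eqes L135114 L65321
theorem L135116 : N10543 = N291 := eqc rfl L135115 rfl
theorem L135130 : sm gf N291 = N10537 := trfs L135116 (flp_f L87395) rfl
theorem L135131 : N10537 = N485 := eqes L135130 L2466
theorem L135132 : N10537 = N485 := eqc rfl L135131 rfl
theorem L135146 : sm gg N485 = N6138 := trfs L135132 (flp_g L87358) rfl
theorem L135147 : N6138 = N488 := eqes L135146 (flp_g L2487)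
theorem L135148 : N6138 = N488 := eqc rfl L135147 rfl
theorem L135151 : sm gc N488 = N10382 := trfs L135148 (flp_c L86461) rfl
theorem L135152 : N10382 = N966 := eqes L135151 (flp_c L4793)
theorem L135153 : N10382 = N966 := eqc rfl L135152 rfl
theorem L135165 : sm gf N966 = N12898 := trfs L135153 L99606 rfl
theorem L135166 : N12898 = N487 := eqes L135165 (flp_f L4791)
theorem L135167 : N12898 = N487 := eqc rfl L135166 rfl
theorem L135180 : sm gg N487 = N12904 := trfs L135167 (flp_g L99661) rfl
theorem L135181 : N12904 = N292 := eqes L135180 L2480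
theorem L135182 : N12904 = N292 := eqc rfl L135181 rfl
theorem L135194 : sm gf N292 = N10386 := trfs L135182 (flp_f L99653) rfl
theorem L135195 : N10386 = N578 := eqes L135194 L2942
theorem L135196 : N10386 = N578 := eqc rfl L135195 rfl
theorem L135201 : sm ge N578 = N5963 := trfs L135196 L86489 rfl
theorem L135202 : N5963 = N302 := eqes L135201 L2946
theorem L135203 : N5963 = N302 := eqc rfl L135202 rfl
theorem L135214 : sm gg N302 = N2885 := trfs L135203 (flp_g L28883) rfl
theorem L135215 : N2885 = N594 := eqes L135214 L3009
theorem L135216 : N2885 = N594 := eqc rfl L135215 rfl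
theorem L135218 : sm gb N594 = N1400 := trfs L135216 (flp_b L13936) rfl
theorem L135219 : N1400 = N1182 := eqes L135218 L5797
theorem L135220 : N1400 = N1182 := eqc rfl L135219 rfl
theorem L135222 : sm gd N594 = N2321 := trfs L135216 L79302 rfl
theorem L135223 : N2321 = N1179 := eqes L135222 (flp_d L5789)
theorem L135224 : N2321 = N1179 := eqc rfl L135223 rfl
theorem L135230 : sm gb N1179 = N1130 := trfs L135224 (flp_b L11222) rfl
theorem L135231 : N1130 = N2424 := eqes L135230 L11682
theorem L135232 : N2424 = N1130 := (eqc rfl L135231 rfl).symm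
theorem L135237 : sm gf N1179 = N4808 := trfs L135224 (flp_f L23227) rfl
theorem L135238 : N4808 = N601 := eqes L135237 (flp_f L65542)
theorem L135239 : N4808 = N601 := eqc rfl L135238 rfl
theorem L135244 : sm gb N601 = N2316 := trfs L135239 (flp_b L23225) rfl
theorem L135245 : N2316 = N1192 := eqes L135244 (flp_b L5852)
theorem L135246 : N2316 = N1192 := eqc rfl L135245 rfl
theorem L135251 : sm ge N601 = N9737 := trfs L135239 (flp_e L47292) rfl
theorem L135252 : N9737 = N1196 := eqes L135251 L5865
theorem L135253 : N9737 = N1196 := eqc rfl L135252 rfl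
theorem L135258 : sm gb N1196 = N4715 := trfs L135253 (flp_b L47290) rfl
theorem L135259 : N4715 = N2452 := eqes L135258 (flp_b L11835)
theorem L135260 : N4715 = N2452 := eqc rfl L135259 rfl
theorem L135264 : sm gd N1196 = N11829 := trfs L135253 (flp_d L94197) rfl
theorem L135265 : N11829 = N2461 := eqes L135264 L11875
theorem L135266 : N11829 = N2461 := eqc rfl L135265 rfl
theorem L135272 : sm gb N2461 = N9735 := trfs L135266 (flp_b L94195) rfl
theorem L135273 : N9735 = N5086 := eqes L135272 (flp_b L24611)
theorem L135274 : N9735 = N5086 := eqc rfl L135273 rfl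
theorem L135281 : sm gf N2461 = N9744 := trfs L135266 L94199 rfl
theorem L135282 : N9744 = N4910 := eqes L135281 (flp_f L65510)
theorem L135283 : N9744 = N4910 := eqc rfl L135282 rfl
theorem L135284 : sm gg N2461 = N14857 := trfs L135266 L109733 rfl
theorem L135285 : N14857 = N2360 := eqes L135284 L65494
theorem L135286 : N14857 = N2360 := eqc rfl L135285 rfl
theorem L135287 : sm ga N2360 = N13016 := trfs L135286 L109729 rfl
theorem L135288 : N13016 = N1150 := eqes L135287 L11404
theorem L135289 : N13016 = N1150 := eqc rfl L135288 rfl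
theorem L135311 : sm gf N1150 = N11839 := trfs L135289 L100254 rfl
theorem L135312 : N11839 = N2364 := eqes L135311 L11418
theorem L135313 : N11839 = N2364 := eqc rfl L135312 rfl
theorem L135317 : sm gc N2364 = N15542 := trfs L135313 (flp_c L113362) rfl
theorem L135318 : N15542 = N4906 := eqes L135317 (flp_c L23721)
theorem L135319 : N15542 = N4906 := eqc rfl L135318 rfl
theorem L135330 : sm gg N4906 = N11838 := trfs L135319 (flp_g L113358) rfl
theorem L135331 : N11838 = N9902 := eqes L135330 L84053
theorem L135332 : N11838 = N9902 := eqc rfl L135331 rfl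
theorem L135336 : sm gb N9902 = N15538 := trfs L135332 (flp_b L113342) rfl
theorem L135337 : N15538 = N11964 := eqes L135336 L94863
theorem L135338 : N15538 = N11964 := eqc rfl L135337 rfl
theorem L135343 : sm ge N9902 = N12900 := trfs L135332 (flp_e L99626) rfl
theorem L135344 : N12900 = N4908 := eqes L135343 L84059
theorem L135345 : N12900 = N4908 := eqc rfl L135344 rfl
theorem L135356 : sm gd N4908 = N17472 := trfs L135345 L125087 rfl
theorem L135357 : N17472 = N4108 := eqes L135356 L23733
theorem L135358 : N17472 = N4108 := eqc rfl L135357 rfl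
theorem L135368 : sm gc N4108 = N17909 := trfs L135358 (flp_c L127221) rfl
theorem L135369 : N17909 = N1968 := eqes L135368 L19688
theorem L135370 : N17909 = N1968 := eqc rfl L135369 rfl
theorem L135374 : sm gd N1968 = N13137 := trfs L135370 (flp_d L127217) rfl
theorem L135375 : N13137 = N966 := eqes L135374 L9496
theorem L135376 : N13137 = N966 := eqc rfl L135375 rfl
theorem L135390 : sm gg N966 = N17911 := trfs L135376 L127229 rfl
theorem L135391 : N17911 = N963 := eqes L135390 L4797
theorem L135392 : N17911 = N963 := eqc rfl L135391 rfl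
theorem L135400 : sm gf N963 = N17925 := trfs L135392 L127304 rfl
theorem L135401 : N17925 = N576 := eqes L135400 L4777
theorem L135402 : N17925 = N576 := eqc rfl L135401 rfl
theorem L135410 : sm gg N576 = N13146 := trfs L135402 (flp_g L127300) rfl
theorem L135411 : N13146 = N602 := eqes L135410 (flp_g L65292)
theorem L135412 : N13146 = N602 := eqc rfl L135411 rfl
theorem L135421 : sm ge N602 = N13239 := trfs L135412 (flp_e L101509) rfl
theorem L135422 : N13239 = N307 := eqes L135421 (flp_e L3058)
theorem L135423 : N13239 = N307 := eqc rfl L135422 rfl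
theorem L135437 : sm gf N307 = N10604 := trfs L135423 (flp_f L101505) rfl
theorem L135438 : N10604 = N594 := eqes L135437 L65362
theorem L135439 : N10604 = N594 := eqc rfl L135438 rfl
theorem L135452 : sm gg N594 = N10600 := trfs L135439 L87758 rfl
theorem L135453 : N10600 = N302 := eqes L135452 (flp_g L3009)
theorem L135454 : N10600 = N302 := eqc rfl L135453 rfl
theorem L135464 : sm gf N302 = N13209 := trfs L135454 (flp_f L101349) rfl
theorem L135465 : N13209 = N146 := eqes L135464 (flp_f L1538)
theorem L135466 : N13209 = N146 := eqc rfl L135465 rfl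
theorem L135468 : sm gb N146 = N18022 := trfs L135466 (flp_b L127899) rfl
theorem L135469 : N18022 = N286 := eqes L135468 (flp_b L1464)
theorem L135470 : N18022 = N286 := eqc rfl L135469 rfl
theorem L135478 : sm gc N286 = N13204 := trfs L135470 (flp_c L127897) rfl
theorem L135479 : N13204 = N139 := eqes L135478 (flp_c L1462)
theorem L135480 : N13204 = N139 := eqc rfl L135479 rfl
theorem L135493 : sm gf N139 = N18011 := trfs L135480 (flp_f L127842) rfl
theorem L135494 : N18011 = N287 := eqes L135493 L1466
theorem L135495 : N18011 = N287 := eqc rfl L135494 rfl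
theorem L135499 : sm gb N287 = N13199 := trfs L135495 (flp_b L127840) rfl
theorem L135500 : N13199 = N284 := eqes L135499 L82370
theorem L135501 : N13199 = N284 := eqc rfl L135500 rfl
theorem L135508 : sm gf N284 = N10577 := trfs L135501 (flp_f L101300) rfl
theorem L135509 : N10577 = N172 := eqes L135508 (flp_f L80989)
theorem L135510 : N10577 = N172 := eqc rfl L135509 rfl
theorem L135521 : sm gg N172 = N13200 := trfs L135510 L101304 rfl
theorem L135522 : N13200 = N342 := eqes L135521 (flp_g L1745)
theorem L135523 : N13200 = N342 := eqc rfl L135522 rfl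
theorem L135525 : sm gb N342 = N18013 := trfs L135523 L127850 rfl
theorem L135526 : N18013 = N171 := eqes L135525 (flp_b L1743)
theorem L135527 : N18013 = N171 := eqc rfl L135526 rfl
theorem L135541 : sm gg N171 = N13206 := trfs L135527 L127853 rfl
theorem L135542 : N13206 = N78 := eqes L135541 (flp_g L865)
theorem L135543 : N13206 = N78 := eqc rfl L135542 rfl
theorem L135554 : sm ge N78 = N17995 := trfs L135543 (flp_e L127744) rfl
theorem L135555 : N17995 = N166 := eqes L135554 (flp_e L833)
theorem L135556 : N17995 = N166 := eqc rfl L135555 rfl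
theorem L135561 : sm gb N166 = N13190 := trfs L135556 (flp_b L127742) rfl
theorem L135562 : N13190 = N76 := eqes L135561 (flp_b L831)
theorem L135563 : N13190 = N76 := eqc rfl L135562 rfl
theorem L135578 : sm gg N76 = N10570 := trfs L135563 (flp_g L101237) rfl
theorem L135579 : N10570 = N167 := eqes L135578 L837
theorem L135580 : N10570 = N167 := eqc rfl L135579 rfl
theorem L135592 : sm gf N167 = N13189 := trfs L135580 L101231 rfl
theorem L135593 : N13189 = N137 := eqes L135592 (flp_f L843)
theorem L135594 : N13189 = N137 := eqc rfl L135593 rfl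
theorem L135606 : sm gg N137 = N17994 := trfs L135594 L127734 rfl
theorem L135607 : N17994 = N59 := eqes L135606 (flp_g L685)
theorem L135608 : N17994 = N59 := eqc rfl L135607 rfl
theorem L135613 : sm ge N59 = N13205 := trfs L135608 L127738 rfl
theorem L135614 : N13205 = N26 := eqes L135613 (flp_e L285)
theorem L135615 : N13205 = N26 := eqc rfl L135614 rfl
theorem L135629 : sm gf N26 = N10621 := trfs L135615 (flp_f L101324) rfl
theorem L135630 : N10621 = N60 := eqes L135629 L291
theorem L135631 : N10621 = N60 := eqc rfl L135630 rfl
theorem L135642 : sm gg N60 = N6312 := trfs L135631 (flp_g L87878) rfl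
theorem L135643 : N6312 = N81 := eqes L135642 (flp_g L397)
theorem L135644 : N6312 = N81 := eqc rfl L135643 rfl
theorem L135656 : sm gf N81 = N10620 := trfs L135644 L87872 rfl
theorem L135657 : N10620 = N35 := eqes L135656 (flp_f L391)
theorem L135658 : N10620 = N35 := eqc rfl L135657 rfl
theorem L135666 : sm gd N35 = N13261 := trfs L135658 (flp_d L101651) rfl
theorem L135667 : N13261 = N74 := eqes L135666 (flp_d L360)
theorem L135668 : N13261 = N74 := eqc rfl L135667 rfl
theorem L135682 : sm gg N74 = N18020 := trfs L135668 (flp_g L127893) rfl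
theorem L135683 : N18020 = N32 := eqes L135682 (flp_g L358)
theorem L135684 : N18020 = N32 := eqc rfl L135683 rfl
theorem L135688 : sm gf N32 = N13203 := trfs L135684 (flp_f L127885) rfl
theorem L135689 : N13203 = N73 := eqes L135688 L354
theorem L135690 : N13203 = N73 := eqc rfl L135689 rfl
theorem L135698 : sm gg N73 = N10578 := trfs L135690 (flp_g L101314) rfl
theorem L135699 : N10578 = N160 := eqes L135698 L800
theorem L135700 : N10578 = N160 := eqc rfl L135699 rfl
theorem L135705 : sm ge N160 = N13201 := trfs L135700 L101308 rfl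
theorem L135706 : N13201 = N316 := eqes L135705 (flp_e L1618)
theorem L135707 : N13201 = N316 := eqc rfl L135706 rfl
theorem L135716 : sm gd N316 = N17990 := trfs L135707 (flp_d L127720) rfl
theorem L135717 : N17990 = N615 := eqes L135716 (flp_d L3127)
theorem L135718 : N17990 = N615 := eqc rfl L135717 rfl
theorem L135726 : sm ga N615 = N18098 := trfs L135718 (flp_a L128310) rfl
theorem L135727 : N18098 = N617 := eqes L135726 (flp_a L3142)
theorem L135728 : N18098 = N617 := eqc rfl L135727 rfl
theorem L135731 : sm ge N617 = N13253 := trfs L135728 (flp_e L128308) rfl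
theorem L135732 : N13253 = N333 := eqes L135731 L3146
theorem L135733 : N13253 = N333 := eqc rfl L135732 rfl
theorem L135735 : sm gb N333 = N18095 := trfs L135733 (flp_b L128294) rfl
theorem L135736 : N18095 = N658 := eqes L135735 L3329
theorem L135737 : N18095 = N658 := eqc rfl L135736 rfl
theorem L135832 : sm gd N658 = N13252 := trfs L135737 (flp_d L128292) rfl
theorem L135833 : N13252 = N339 := eqes L135832 L3331
theorem L135834 : N13252 = N339 := eqc rfl L135833 rfl
theorem L135846 : sm gg N339 = N18097 := trfs L135834 L128302 rfl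
theorem L135847 : N18097 = N557 := eqes L135846 (flp_g L82314)
theorem L135848 : N18097 = N557 := eqc rfl L135847 rfl
theorem L135852 : sm ge N557 = N13259 := trfs L135848 L128306 rfl
theorem L135853 : N13259 = N287 := eqes L135852 L2837
theorem L135854 : N13259 = N287 := eqc rfl L135853 rfl
theorem L135865 : sm gf N287 = N18114 := trfs L135854 L128384 rfl
theorem L135866 : N18114 = N139 := eqes L135865 (flp_f L1466)
theorem L135867 : N18114 = N139 := eqc rfl L135866 rfl
theorem L135875 : sm gg N139 = N18105 := trfs L135867 L128390 rfl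
theorem L135876 : N18105 = N270 := eqes L135875 (flp_g L1388)
theorem L135877 : N18105 = N270 := eqc rfl L135876 rfl
theorem L135884 : sm gf N270 = N13256 := trfs L135877 (flp_f L128341) rfl
theorem L135885 : N13256 = N349 := eqes L135884 (flp_f L82281)
theorem L135886 : N13256 = N349 := eqc rfl L135885 rfl
theorem L135891 : sm gc N349 = N10625 := trfs L135886 L101625 rfl
theorem L135892 : N10625 = N694 := eqes L135891 L3477
theorem L135893 : N10625 = N694 := eqc rfl L135892 rfl
theorem L135926 : sm gd N694 = N13240 := trfs L135893 (flp_d L101513) rfl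
theorem L135927 : N13240 = N1397 := eqes L135926 L6798
theorem L135928 : N13240 = N1397 := eqc rfl L135927 rfl
theorem L135933 : sm gg N694 = N13272 := trfs L135893 L101693 rfl
theorem L135934 : N13272 = N1130 := eqes L135933 (flp_g L73452)
theorem L135935 : N13272 = N1130 := eqc rfl L135934 rfl
theorem L135937 : sm gb N1130 = N18138 := trfs L135935 L128490 rfl
theorem L135946 : sm gf N1130 = N13273 := trfs L135935 L101699 rfl
theorem L135947 : N13273 = N565 := eqes L135946 (flp_f L5573)
theorem L135948 : N13273 = N565 := eqc rfl L135947 rfl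
theorem L135960 : sm gg N565 = N10626 := trfs L135948 (flp_g L101697) rfl
theorem L135961 : N10626 = N691 := eqes L135960 L82251
theorem L135962 : N10626 = N691 := eqc rfl L135961 rfl
theorem L135969 : sm ge N691 = N13267 := trfs L135962 (flp_e L101676) rfl
theorem L135970 : N13267 = N1338 := eqes L135969 (flp_e L6563)
theorem L135971 : N13267 = N1338 := eqc rfl L135970 rfl
theorem L135978 : sm gd N1338 = N17789 := trfs L135971 (flp_d L126573) rfl
theorem L135979 : N17789 = N2768 := eqes L135978 L13369
theorem L135980 : N17789 = N2768 := eqc rfl L135979 rfl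
theorem L135984 : sm ge N2768 = N17935 := trfs L135980 (flp_e L127363) rfl
theorem L135985 : N17935 = N5740 := eqes L135984 L27834
theorem L135986 : N17935 = N5740 := eqc rfl L135985 rfl
theorem L135992 : sm gf N5740 = N13153 := trfs L135986 (flp_f L127359) rfl
theorem L135993 : N13153 = N2779 := eqes L135992 L27837
theorem L135994 : N13153 = N2779 := eqc rfl L135993 rfl
theorem L136004 : sm gd N2779 = N10546 := trfs L135994 (flp_d L101000) rfl
theorem L136005 : N10546 = N1401 := eqes L136004 L13432
theorem L136006 : N10546 = N1401 := eqc rfl L136005 rfl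
theorem L136017 : sm ga N1401 = N13152 := trfs L136006 L100998 rfl
theorem L136018 : N13152 = N2881 := eqes L136017 (flp_a L13918)
theorem L136019 : N13152 = N2881 := eqc rfl L136018 rfl
theorem L136079 : sm gb N2881 = N17930 := trfs L136019 L127337 rfl
theorem L136080 : N17930 = N5944 := eqes L136079 (flp_b L28793)
theorem L136081 : N17930 = N2368 := eqc rfl L136080 L131954
theorem L136117 : sm ge N2368 = N18078 := trfs L136081 (flp_e L128166) rfl
theorem L136118 : N18078 = N1181 := eqes L136117 L11442
theorem L136119 : N18078 = N1181 := eqc rfl L136118 rfl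
theorem L136120 : sm gb N1181 = N1397 := trfs L136119 (flp_b L128162) L135928
theorem L136121 : N1397 = N1434 := eqes L136120 (flp_b L71563)
theorem L136122 : N1434 = N1397 := (eqc rfl L136121 rfl).symm
theorem L136133 : sm ge N1397 = N2911 := trfs L136122 (flp_e L14066) rfl
theorem L136134 : N2911 = N2881 := eqes L136133 L13916
theorem L136135 : N2911 = N2881 := eqc rfl L136134 rfl
theorem L136136 : sm gf N1397 = N2957 := trfs L136122 L14263 rfl
theorem L136137 : N2957 = N1057 := eqes L136136 (flp_f L82237)
theorem L136138 : N2957 = N1057 := eqc rfl L136137 rfl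
theorem L136144 : sm gb N1057 = N6115 := trfs L136138 L29578 rfl
theorem L136145 : N6115 = N1814 := eqes L136144 (flp_b L8793)
theorem L136146 : N6115 = N1814 := eqc rfl L136145 rfl
theorem L136153 : sm ge N1057 = N6016 := trfs L136138 (flp_e L29151) rfl
theorem L136154 : N6016 = N2158 := eqes L136153 L10409
theorem L136155 : N6016 = N2158 := eqc rfl L136154 rfl
theorem L136160 : sm gb N2158 = N10440 := trfs L136155 L86793 rfl
theorem L136161 : N10440 = N3765 := eqes L136160 (flp_b L18073)
theorem L136162 : N10440 = N3765 := eqc rfl L136161 rfl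
theorem L136166 : sm gd N2158 = N10439 := trfs L136155 (flp_d L86791) rfl
theorem L136167 : N10439 = N4440 := eqes L136166 (flp_d L21414)
theorem L136168 : N10439 = N4440 := eqc rfl L136167 rfl
theorem L136180 : sm ge N4440 = N12996 := trfs L136168 (flp_e L100135) rfl
theorem L136181 : N12996 = N2130 := eqes L136180 (flp_e L21410)
theorem L136182 : N12996 = N2130 := eqc rfl L136181 rfl
theorem L136188 : sm gb N2130 = N17667 := trfs L136182 L126010 rfl
theorem L136189 : N17667 = N3733 := eqes L136188 (flp_b L17944)
theorem L136190 : N17667 = N3733 := eqc rfl L136189 rfl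
theorem L136198 : sm gg N2130 = N13014 := trfs L136182 (flp_g L100240) rfl
theorem L136199 : N13014 = N1107 := eqes L136198 L10281
theorem L136200 : N13014 = N1107 := eqc rfl L136199 rfl
theorem L136205 : sm gc N1107 = N17697 := trfs L136200 (flp_c L126174) rfl
theorem L136206 : N17697 = N2270 := eqes L136205 L10972
theorem L136207 : N17697 = N2270 := eqc rfl L136206 rfl
theorem L136217 : sm gf N2270 = N13009 := trfs L136207 (flp_f L126170) rfl
theorem L136218 : N13009 = N4726 := eqes L136217 L22836
theorem L136219 : N13009 = N4726 := eqc rfl L136218 rfl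
theorem L136221 : sm ga N4726 = N11978 := trfs L136219 L100201 rfl
theorem L136222 : N11978 = N9742 := eqes L136221 (flp_a L47322)
theorem L136223 : N11978 = N9742 := eqc rfl L136222 rfl
theorem L136231 : sm ge N4726 = N10445 := trfs L136219 L100205 rfl
theorem L136232 : N10445 = N9758 := eqes L136231 (flp_e L47414)
theorem L136233 : N10445 = N9758 := eqc rfl L136232 rfl
theorem L136234 : sm gg N4726 = N10443 := trfs L136219 (flp_g L100199) rfl
theorem L136235 : N10443 = N2778 := eqes L136234 (flp_g L77867)
theorem L136236 : N10443 = N2778 := eqc rfl L136235 rfl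
theorem L136252 : sm gf N2778 = N13008 := trfs L136236 L100193 rfl
theorem L136253 : N13008 = N5739 := eqes L136252 (flp_f L27832)
theorem L136254 : N13008 = N5739 := eqc rfl L136253 rfl
theorem L136263 : sm ge N5739 = N10444 := trfs L136254 L100197 rfl
theorem L136264 : N10444 = N10337 := eqes L136263 L86120
theorem L136265 : N10444 = N10337 := eqc rfl L136264 rfl
theorem L136276 : sm gg N10337 = N11988 := trfs L136265 L94981 rfl
theorem L136277 : N11988 = N9741 := eqes L136276 L86128
theorem L136278 : N11988 = N9741 := eqc rfl L136277 rfl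
theorem L136280 : sm gb N9741 = N15847 := trfs L136278 L114764 rfl
theorem L136281 : N15847 = N11832 := eqes L136280 (flp_b L94217)
theorem L136282 : N15847 = N11832 := eqc rfl L136281 rfl
theorem L136283 : sm gc N9741 = N9916 := trfs L136278 L94979 rfl
theorem L136284 : N9916 = N4718 := eqes L136283 L47318
theorem L136285 : N9916 = N4718 := eqc rfl L136284 rfl
theorem L136286 : sm gd N9741 = N15846 := trfs L136278 (flp_d L114760) rfl
theorem L136287 : N15846 = N11835 := eqes L136286 L94227
theorem L136288 : N15846 = N11835 := eqc rfl L136287 rfl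
theorem L136290 : sm gf N9741 = N9915 := trfs L136278 (flp_f L94977) rfl
theorem L136291 : N9915 = N10389 := eqes L136290 (flp_f L86520)
theorem L136292 : N10389 = N9915 := (eqc rfl L136291 rfl).symm
theorem L136295 : sm gb N9915 = N12905 := trfs L136292 L99665 rfl
theorem L136296 : N12905 = N11973 := eqes L136295 (flp_b L94905)
theorem L136297 : N12905 = N11973 := eqc rfl L136296 rfl
theorem L136298 : sm gc N9915 = N5966 := trfs L136292 (flp_c L86514) rfl
theorem L136299 : N5966 = N4914 := eqes L136298 (flp_c L84113)
theorem L136300 : N5966 = N4914 := eqc rfl L136299 rfl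
theorem L136301 : sm gd N9915 = N12906 := trfs L136292 L99669 rfl
theorem L136302 : N12906 = N11987 := eqes L136301 L94975
theorem L136303 : N12906 = N11987 := eqc rfl L136302 rfl
theorem L136306 : sm gf N9915 = N9741 := trfs L136292 L86520 rfl
theorem L136308 : sm gg N9915 = N10348 := trfs L136292 L86522 rfl
theorem L136309 : N10348 = N10437 := eqes L136308 (flp_g L86775)
theorem L136310 : N10437 = N10348 := (eqc rfl L136309 rfl).symm
theorem L136312 : sm gb N10348 = N12992 := trfs L136310 L100103 rfl
theorem L136313 : N12992 = N12860 := eqes L136312 (flp_b L99349)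
theorem L136314 : N12992 = N12860 := eqc rfl L136313 rfl
theorem L136316 : sm gd N10348 = N12993 := trfs L136310 L100107 rfl
theorem L136317 : N12993 = N12863 := eqes L136316 L99361
theorem L136318 : N12993 = N12863 := eqc rfl L136317 rfl
theorem L136321 : sm gg N10348 = N9915 := trfs L136310 L86775 rfl
theorem L136334 : sm gf N12863 = N17663 := trfs L136318 L125986 rfl
theorem L136335 : N17663 = N11464 := eqes L136334 L99365
theorem L136336 : N17663 = N11464 := eqc rfl L136335 rfl
theorem L136342 : sm gg N11464 = N17688 := trfs L136336 (flp_g L126135) rfl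
theorem L136343 : N17688 = N9757 := eqes L136342 L92257
theorem L136344 : N17688 = N9757 := eqc rfl L136343 rfl
theorem L136348 : sm gf N9757 = N13004 := trfs L136344 (flp_f L126127) rfl
theorem L136349 : N13004 = N11858 := eqes L136348 L94363
theorem L136350 : N13004 = N11858 := eqc rfl L136349 rfl
theorem L136358 : sm ge N11858 = N17687 := trfs L136350 L126119 rfl
theorem L136359 : N17687 = N15572 := eqes L136358 (flp_e L113530)
theorem L136360 : N17687 = N15572 := eqc rfl L136359 rfl
theorem L136365 : sm gc N15572 = N13005 := trfs L136360 L126123 rfl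
theorem L136366 : N13005 = N12878 := eqes L136365 L113526
theorem L136367 : N13005 = N12878 := eqc rfl L136366 rfl
theorem L136370 : sm gb N12878 = N17676 := trfs L136367 (flp_b L126066) rfl
theorem L136371 : N17676 = N17439 := eqes L136370 (flp_b L124874)
theorem L136372 : N17676 = N17439 := eqc rfl L136371 rfl
theorem L136382 : sm ge N17439 = N13000 := trfs L136372 (flp_e L126064) rfl
theorem L136383 : N13000 = N12873 := eqes L136382 L124876
theorem L136384 : N13000 = N12873 := eqc rfl L136383 rfl
theorem L136385 : sm ga N12873 = N17671 := trfs L136384 (flp_a L126036) rfl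
theorem L136386 : N17671 = N17430 := eqes L136385 (flp_a L124832)
theorem L136387 : N17671 = N17430 := eqc rfl L136386 rfl
theorem L136389 : sm gc N12873 = N17675 := trfs L136384 L126058 rfl
theorem L136390 : N17675 = N17444 := eqes L136389 L124900
theorem L136391 : N17675 = N17444 := eqc rfl L136390 rfl
theorem L136392 : sm gd N12873 = N10441 := trfs L136384 (flp_d L100159) rfl
theorem L136393 : N10441 = N10351 := eqes L136392 (flp_d L99409)
theorem L136394 : N10441 = N10351 := eqc rfl L136393 rfl
theorem L136398 : sm gg N12873 = N17678 := trfs L136384 L126072 rfl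
theorem L136399 : N17678 = N17446 := eqes L136398 L124906
theorem L136400 : N17678 = N17446 := eqc rfl L136399 rfl
theorem L136401 : sm gd N17446 = N13003 := trfs L136400 L126074 rfl
theorem L136402 : N13003 = N12875 := eqes L136401 L124908
theorem L136403 : N13003 = N12875 := eqc rfl L136402 rfl
theorem L136410 : sm gc N12875 = N10454 := trfs L136403 L100175 rfl
theorem L136411 : N10454 = N10466 := eqes L136410 L99421
theorem L136412 : N10466 = N10454 := (eqc rfl L136411 rfl).symm
theorem L136416 : sm gf N12875 = N17685 := trfs L136403 L126107 rfl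
theorem L136417 : N17685 = N17448 := eqes L136416 L124918
theorem L136418 : N17685 = N17448 := eqc rfl L136417 rfl
theorem L136426 : sm gg N17448 = N17673 := trfs L136418 L126113 rfl
theorem L136427 : N17673 = N17431 := eqes L136426 L124926
theorem L136428 : N17673 = N17431 := eqc rfl L136427 rfl
theorem L136429 : sm ga N17431 = N13002 := trfs L136428 L126048 rfl
theorem L136430 : N13002 = N12874 := eqes L136429 L124836
theorem L136431 : N13002 = N12874 := eqc rfl L136430 rfl
theorem L136435 : sm gf N17431 = N12999 := trfs L136428 (flp_f L126046) rfl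
theorem L136436 : N12999 = N12866 := eqes L136435 (flp_f L124834)
theorem L136437 : N12999 = N12866 := eqc rfl L136436 rfl
theorem L136442 : sm gc N12866 = N10451 := trfs L136437 L100157 rfl
theorem L136443 : N10451 = N10461 := eqes L136442 L99379
theorem L136444 : N10461 = N10451 := (eqc rfl L136443 rfl).symm
theorem L136446 : sm ge N12866 = N17672 := trfs L136437 L126040 rfl
theorem L136447 : N17672 = N10349 := eqes L136446 (flp_e L99375)
theorem L136448 : N17672 = N10349 := eqc rfl L136447 rfl
theorem L136451 : sm gc N10349 = N13018 := trfs L136448 L126044 rfl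
theorem L136452 : N13018 = N6032 := eqes L136451 L86200
theorem L136453 : N13018 = N6032 := eqc rfl L136452 rfl
theorem L136454 : sm ga N6032 = N10452 := trfs L136453 L100262 rfl
theorem L136455 : N10452 = N2919 := eqes L136454 (flp_a L29247)
theorem L136456 : N10452 = N2919 := eqc rfl L136455 rfl
theorem L136457 : sm gb N6032 = N17708 := trfs L136453 (flp_b L126220) rfl
theorem L136458 : N17708 = N10460 := eqes L136457 L86904
theorem L136459 : N17708 = N10460 := eqc rfl L136458 rfl
theorem L136468 : sm gg N6032 = N17713 := trfs L136453 L126242 rfl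
theorem L136469 : N17713 = N10463 := eqes L136468 L86914
theorem L136470 : N17713 = N10463 := eqc rfl L136469 rfl
theorem L136477 : sm gf N10463 = N17719 := trfs L136470 L126277 rfl
theorem L136478 : N17719 = N10467 := eqes L136477 L86933
theorem L136479 : N17719 = N10467 := eqc rfl L136478 rfl
theorem L136486 : sm gg N10467 = N13022 := trfs L136479 (flp_g L126273) rfl
theorem L136487 : N13022 = N6034 := eqes L136486 (flp_g L86931)
theorem L136488 : N13022 = N6034 := eqc rfl L136487 rfl
theorem L136497 : sm ge N6034 = N10453 := trfs L136488 L100284 rfl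
theorem L136498 : N10453 = N10465 := eqes L136497 (flp_e L86924)
theorem L136499 : N10465 = N10453 := (eqc rfl L136498 rfl).symm
theorem L136508 : sm ge N10453 = N6034 := trfs L136499 L86924 rfl
theorem L136510 : sm gf N10453 = N6033 := trfs L136499 (flp_f L86922) rfl
theorem L136511 : N6033 = N6025 := eqes L136510 (flp_f L86866)
theorem L136512 : N6033 = N6025 := eqc rfl L136511 rfl
theorem L136518 : sm gd N6025 = N10464 := trfs L136512 L86918 rfl
theorem L136519 : N10464 = N2919 := eqes L136518 L29200
theorem L136520 : N10464 = N2919 := eqc rfl L136519 rfl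
theorem L136524 : sm ga N2919 = N13039 := trfs L136520 (flp_a L100359) rfl
theorem L136525 : N13039 = N6032 := eqes L136524 L29247
theorem L136526 : N13039 = N6032 := eqc rfl L136525 rfl
theorem L136534 : sm gg N2919 = N13046 := trfs L136520 L100384 rfl
theorem L136535 : N13046 = N6035 := eqes L136534 L29256

end Cfsg.Agent.Helper28.SzbA
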