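import Cfsg.Agent.Helper28.SzbB12

/-! # The Suzuki group presentation, cosets of the subgroup generated by a, b, c, d, f, g: the coset enumeration, part 13 (helper28; generated) -/

set_option autoImplicit false

noncomputable section

namespace Cfsg.Agent.Helper28.SzbA

open Cfsg.Agent.Helper28.CosetTable

theorem L136536 : N13046 = N6035 := eqc rfl L136535 rfl
theorem L136547 : sm ge N6035 = N17718 := trfs L136536 (flp_e L126271) rfl
theorem L136548 : N17718 = N10466 := eqes L136547 (flp_e L86929)
theorem L136549 : N17718 = N10454 := eqc rfl L136548 L136412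
theorem L136567 : sm gg N10454 = N13021 := trfs L136549 (flp_g L126267) rfl
theorem L136568 : N13021 = N6025 := eqes L136567 (flp_g L86871)
theorem L136569 : N13021 = N6025 := eqc rfl L136568 rfl
theorem L136571 : sm gb N6025 = N10455 := trfs L136569 L100278 rfl
theorem L136572 : N10455 = N2915 := eqes L136571 (flp_b L29198)
theorem L136573 : N10455 = N2915 := eqc rfl L136572 rfl
theorem L136591 : sm gg N2915 = N13027 := trfs L136573 L100311 rfl
theorem L136592 : N13027 = N6027 := eqes L136591 L29209
theorem L136593 : N13027 = N6027 := eqc rfl L136592 rfl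
theorem L136599 : sm gd N6027 = N10456 := trfs L136593 L100315 rfl
theorem L136600 : N10456 = N2921 := eqes L136599 L29215
theorem L136601 : N10456 = N2921 := eqc rfl L136600 rfl
theorem L136605 : sm ga N2921 = N6037 := trfs L136601 L86884 rfl
theorem L136606 : N6037 = N6027 := eqes L136605 (flp_a L29211)
theorem L136607 : N6037 = N6027 := eqc rfl L136606 rfl
theorem L136608 : sm gb N2921 = N13028 := trfs L136601 L100321 rfl
theorem L136609 : N13028 = N6038 := eqes L136608 L29267
theorem L136610 : N13028 = N6038 := eqc rfl L136609 rfl
theorem L136625 : sm ga N6038 = N17728 := trfs L136610 L126322 rfl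
theorem L136626 : N17728 = N10473 := eqes L136625 L86958
theorem L136627 : N17728 = N10473 := eqc rfl L136626 rfl
theorem L136628 : sm gc N6038 = N17729 := trfs L136610 L126326 rfl
theorem L136629 : N17729 = N10474 := eqes L136628 L86960
theorem L136630 : N17729 = N10474 := eqc rfl L136629 rfl
theorem L136632 : sm ge N6038 = N10457 := trfs L136610 L100323 rfl
theorem L136633 : N10457 = N10472 := eqes L136632 (flp_e L86956)
theorem L136634 : N10472 = N10457 := (eqc rfl L136633 rfl).symm
theorem L136635 : sm gf N6038 = N17730 := trfs L136610 L126332 rfl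
theorem L136636 : N17730 = N10475 := eqes L136635 L86964
theorem L136637 : N17730 = N10475 := eqc rfl L136636 rfl
theorem L136638 : sm gg N6038 = N17720 := trfs L136610 (flp_g L126283) rfl
theorem L136639 : N17720 = N10468 := eqes L136638 (flp_g L86937)
theorem L136640 : N17720 = N10468 := eqc rfl L136639 rfl
theorem L136642 : sm ge N10468 = N13025 := trfs L136640 L126281 rfl
theorem L136643 : N13025 = N13048 := eqes L136642 (flp_e L100396)
theorem L136644 : N13048 = N13025 := (eqc rfl L136643 rfl).symm
theorem L136645 : sm ga N13025 = N17773 := trfs L136644 L126509 rfl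
theorem L136646 : N17773 = N17723 := eqes L136645 L126298
theorem L136647 : N17773 = N17723 := eqc rfl L136646 rfl
theorem L136649 : sm gc N13025 = N17774 := trfs L136644 L126515 rfl
theorem L136650 : N17774 = N17724 := eqes L136649 L126304
theorem L136651 : N17774 = N17724 := eqc rfl L136650 rfl
theorem L136655 : sm gf N13025 = N17775 := trfs L136644 L126521 rfl
theorem L136656 : N17775 = N17725 := eqes L136655 L126308
theorem L136657 : N17775 = N17725 := eqc rfl L136656 rfl
theorem L136659 : sm ga N17725 = N17800 := trfs L136657 (flp_a L126624) rfl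
theorem L136660 : N17800 = N17736 := eqes L136659 (flp_a L126364)
theorem L136661 : N17800 = N17736 := eqc rfl L136660 rfl
theorem L136664 : sm gg N17725 = N17797 := trfs L136657 L126610 rfl
theorem L136665 : N17797 = N17733 := eqes L136664 L126352
theorem L136666 : N17797 = N17733 := eqc rfl L136665 rfl
theorem L136672 : sm gf N17733 = N13058 := trfs L136666 (flp_f L126604) rfl
theorem L136673 : N13058 = N13029 := eqes L136672 (flp_f L126346)
theorem L136674 : N13058 = N13029 := eqc rfl L136673 rfl
theorem L136676 : sm gb N13029 = N17795 := trfs L136674 L126594 rfl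
theorem L136677 : N17795 = N17731 := eqes L136676 L126338
theorem L136678 : N17795 = N17731 := eqc rfl L136677 rfl
theorem L136679 : sm gc N13029 = N17796 := trfs L136674 L126598 rfl
theorem L136680 : N17796 = N17732 := eqes L136679 L126342
theorem L136681 : N17796 = N17732 := eqc rfl L136680 rfl
theorem L136703 : sm ga N17732 = N13059 := trfs L136681 L126600 rfl
theorem L136704 : N13059 = N13030 := eqes L136703 L126344
theorem L136705 : N13059 = N13030 := eqc rfl L136704 rfl
theorem L136706 : sm ge N17732 = N13062 := trfs L136681 L126602 rfl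
theorem L136708 : sm gb N13030 = N10477 := trfs L136705 L100445 rfl
theorem L136709 : N10477 = N10459 := eqes L136708 L100331
theorem L136710 : N10477 = N10459 := eqc rfl L136709 rfl
theorem L136717 : sm gf N13030 = N17799 := trfs L136705 L126616 rfl
theorem L136718 : N17799 = N17735 := eqes L136717 L126358
theorem L136719 : N17799 = N17735 := eqc rfl L136718 rfl
theorem L136722 : sm ge N17735 = N13065 := trfs L136719 L126620 rfl
theorem L136728 : sm ge N10459 = N6041 := trfs L136710 L86976 rfl
theorem L136729 : N6041 = N13032 := eqes L136728 (flp_e L100341)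
theorem L136730 : N13032 = N6041 := (eqc rfl L136729 rfl).symm
theorem L136732 : sm gg N10459 = N11864 := trfs L136710 (flp_g L94401) rfl
theorem L136733 : N11864 = N13015 := eqes L136732 (flp_g L100248)
theorem L136734 : N13015 = N11864 := (eqc rfl L136733 rfl).symm
theorem L136743 : sm gf N11864 = N12856 := trfs L136734 L100246 rfl
theorem L136744 : N12856 = N9908 := eqes L136743 L94399
theorem L136745 : N12856 = N9908 := eqc rfl L136744 rfl
theorem L136746 : sm gg N11864 = N10459 := trfs L136734 L100248 rfl
theorem L136755 : sm gg N9908 = N10343 := trfs L136745 (flp_g L99321) rfl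
theorem L136756 : N10343 = N11977 := eqes L136755 L94923
theorem L136757 : N11977 = N10343 := (eqc rfl L136756 rfl).symm
theorem L136759 : sm gb N10343 = N15829 := trfs L136757 L114688 rfl
theorem L136760 : N15829 = N12852 := eqes L136759 L99303
theorem L136761 : N15829 = N12852 := eqc rfl L136760 rfl
theorem L136767 : sm gg N10343 = N9908 := trfs L136757 (flp_g L94923) rfl
theorem L136772 : sm ge N12852 = N11986 := trfs L136761 L114690 rfl
theorem L136773 : N11986 = N17399 := eqes L136772 L124672
theorem L136774 : N17399 = N11986 := (eqc rfl L136773 rfl).symm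
theorem L136778 : sm ge N11986 = N12852 := trfs L136774 (flp_e L124672) rfl
theorem L136801 : sm ge N6041 = N10459 := trfs L136730 L100341 rfl
theorem L136811 : sm ge N17731 = N13061 := trfs L136678 L126596 rfl
theorem L136818 : sm ge N17736 = N13066 := trfs L136661 L126626 rfl
theorem L136821 : sm ge N17724 = N13052 := trfs L136651 L126517 rfl
theorem L136823 : sm ge N17723 = N13051 := trfs L136647 L126511 rfl
theorem L136825 : sm ge N10475 = N13031 := trfs L136637 L126334 rfl
theorem L136828 : sm ge N10457 = N6038 := trfs L136634 L86956 rfl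
theorem L136830 : sm ge N10474 = N13030 := trfs L136630 L126328 rfl
theorem L136832 : sm ge N10473 = N13029 := trfs L136627 L126324 rfl
theorem L136836 : sm ge N6027 = N2921 := trfs L136607 L29265 rfl
theorem L136864 : sm gb N6032 = N17747 := trfs L136526 (flp_b L126406) rfl
theorem L136865 : N17747 = N10460 := eqes L136864 L86904
theorem L136866 : N17747 = N10460 := eqc rfl L136865 rfl
theorem L136870 : sm gd N10460 = N13036 := trfs L136866 (flp_d L126404) rfl
theorem L136871 : N13036 = N13017 := eqes L136870 (flp_d L100258)
theorem L136872 : N13036 = N13017 := eqc rfl L136871 rfl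
theorem L136877 : sm gc N13017 = N17744 := trfs L136872 (flp_c L126394) rfl
theorem L136878 : N17744 = N17707 := eqes L136877 L126216
theorem L136879 : N17744 = N17707 := eqc rfl L136878 rfl
theorem L136885 : sm gg N13017 = N17749 := trfs L136872 L126412 rfl
theorem L136886 : N17749 = N17710 := eqes L136885 L126226
theorem L136887 : N17749 = N17710 := eqc rfl L136886 rfl
theorem L136888 : sm ge N17710 = N13038 := trfs L136887 L126414 rfl
theorem L136892 : sm ge N17707 = N13035 := trfs L136879 (flp_e L126392) rfl
theorem L136934 : sm ge N10460 = N13017 := trfs L136459 (flp_e L126218) rfl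
theorem L136937 : sm ge N2919 = N6025 := trfs L136456 (flp_e L86862) rfl
theorem L136939 : sm gc N10451 = N12866 := trfs L136444 (flp_c L99379) rfl
theorem L136941 : sm ge N10451 = N6032 := trfs L136444 (flp_e L86906) rfl
theorem L136957 : sm gc N12874 = N10453 := trfs L136431 L100171 rfl
theorem L136980 : sm ge N10454 = N6035 := trfs L136412 L86929 rfl
theorem L136985 : sm gc N10351 = N6025 := trfs L136394 L86801 rfl
theorem L136988 : sm ga N17444 = N17435 := trfs L136391 L126060 rfl
theorem L136990 : sm gd N17444 = N17426 := trfs L136391 L126062 rfl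
theorem L136992 : sm gc N17430 = N17435 := trfs L136387 L126038 rfl
theorem L137001 : sm ga N12860 = N17657 := trfs L136314 L125954 rfl
theorem L137002 : N17657 = N17412 := eqes L137001 (flp_a L124748)
theorem L137003 : N17657 = N17412 := eqc rfl L137002 rfl
theorem L137004 : sm gc N12860 = N11986 := trfs L136314 L100105 rfl
theorem L137006 : sm gf N12860 = N17660 := trfs L136314 L125968 rfl
theorem L137007 : N17660 = N17416 := eqes L137006 L124768
theorem L137008 : N17660 = N17416 := eqc rfl L137007 rfl
theorem L137009 : sm gg N12860 = N17661 := trfs L136314 L125972 rfl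
theorem L137010 : N17661 = N17417 := eqes L137009 L124774
theorem L137011 : N17661 = N17417 := eqc rfl L137010 rfl
theorem L137012 : sm gb N17417 = N15816 := trfs L137011 L125976 rfl
theorem L137013 : N15816 = N17480 := eqes L137012 (flp_b L125140)
theorem L137014 : N17480 = N15816 := (eqc rfl L137013 rfl).symm
theorem L137015 : sm gc N17417 = N15813 := trfs L137011 L125974 rfl
theorem L137017 : sm gb N15816 = N17417 := trfs L137014 L125140 rfl
theorem L137019 : sm ge N15816 = N15539 := trfs L137014 L125138 rfl
theorem L137022 : sm gc N17416 = N15844 := trfs L137008 L125970 rfl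
theorem L137024 : sm gc N17412 = N15843 := trfs L137003 L125956 rfl
theorem L137026 : sm ga N11987 = N11858 := trfs L136303 L99671 rfl
theorem L137031 : sm gc N11987 = N12863 := trfs L136303 (flp_c L99677) rfl
theorem L137033 : sm ge N11987 = N15416 := trfs L136303 (flp_e L112714) rfl
theorem L137037 : sm gg N11987 = N12863 := trfs L136303 L99675 rfl
theorem L137040 : sm ga N4914 = N4727 := trfs L136300 L79368 rfl
theorem L137041 : N4727 = N6021 := eqes L137040 (flp_a L72227)
theorem L137042 : N6021 = N4727 := (eqc rfl L137041 rfl).symm
theorem L137044 : sm gd N4914 = N2887 := trfs L136300 (flp_d L28901) rfl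
theorem L137045 : N2887 = N2369 := eqes L137044 L23765
theorem L137046 : N2887 = N2369 := eqc rfl L137045 rfl
theorem L137047 : sm ge N4914 = N4719 := trfs L136300 L79370 rfl
theorem L137048 : N4719 = N9910 := eqes L137047 (flp_e L84095)
theorem L137049 : N9910 = N4719 := (eqc rfl L137048 rfl).symm
theorem L137059 : sm ge N4719 = N4914 := trfs L137049 L84095 rfl
theorem L137069 : sm gf N2369 = N2319 := trfs L137046 (flp_f L79349) rfl
theorem L137070 : N2319 = N4920 := eqes L137069 L23801
theorem L137071 : N4920 = N2319 := (eqc rfl L137070 rfl).symm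
theorem L137075 : sm gb N2319 = N2456 := trfs L137071 L65640 rfl
theorem L137076 : N2456 = N4805 := eqes L137075 (flp_b L23215)
theorem L137077 : N4805 = N2456 := (eqc rfl L137076 rfl).symm
theorem L137080 : sm ge N2319 = N2430 := trfs L137071 L23805 rfl
theorem L137081 : N2430 = N1129 := eqes L137080 (flp_e L11210)
theorem L137082 : N2430 = N1129 := eqc rfl L137081 rfl
theorem L137083 : sm gf N2319 = N2369 := trfs L137071 (flp_f L23801) rfl
theorem L137087 : sm gb N1129 = N1194 := trfs L137082 (flp_b L65637) rfl
theorem L137088 : N1194 = N2315 := eqes L137087 (flp_b L11198)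
theorem L137089 : N2315 = N1194 := (eqc rfl L137088 rfl).symm
theorem L137096 : sm gb N1194 = N1129 := trfs L137089 L11198 rfl
theorem L137099 : sm gd N1194 = N1128 := trfs L137089 (flp_d L11196) rfl
theorem L137100 : N1128 = N2453 := eqes L137099 (flp_d L11839)
theorem L137101 : N2453 = N1128 := (eqc rfl L137100 rfl).symm
theorem L137103 : sm gf N1194 = N4806 := trfs L137089 L23217 rfl
theorem L137104 : N4806 = N600 := eqes L137103 (flp_f L5859)
theorem L137105 : N4806 = N600 := eqc rfl L137104 rfl
theorem L137111 : sm ge N600 = N9848 := trfs L137105 (flp_e L83790) rfl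
theorem L137112 : N9848 = N1193 := eqes L137111 L5854
theorem L137113 : N9848 = N1193 := eqc rfl L137112 rfl
theorem L137118 : sm gd N1193 = N11828 := trfs L137113 (flp_d L94190) rfl
theorem L137119 : N11828 = N2455 := eqes L137118 L11845
theorem L137120 : N11828 = N2455 := eqc rfl L137119 rfl
theorem L137129 : sm gf N2455 = N9734 := trfs L137120 (flp_f L94187) rfl
theorem L137130 : N9734 = N5093 := eqes L137129 L24645
theorem L137131 : N9734 = N5093 := eqc rfl L137130 rfl
theorem L137136 : sm gc N5093 = N11826 := trfs L137131 (flp_c L94178) rfl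
theorem L137137 : N11826 = N9938 := eqes L137136 (flp_c L84246)
theorem L137138 : N11826 = N9938 := eqc rfl L137137 rfl
theorem L137140 : sm ge N5093 = N4714 := trfs L137131 (flp_e L47276) rfl
theorem L137141 : N4714 = N9935 := eqes L137140 (flp_e L84231)
theorem L137142 : N9935 = N4714 := (eqc rfl L137141 rfl).symm
theorem L137146 : sm gc N4714 = N12017 := trfs L137142 (flp_c L95139) rfl
theorem L137147 : N12017 = N9733 := eqes L137146 L47274
theorem L137148 : N12017 = N9733 := eqc rfl L137147 rfl
theorem L137152 : sm ge N4714 = N5093 := trfs L137142 L84231 rfl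
theorem L137165 : sm gb N9733 = N15897 := trfs L137148 L115022 rfl
theorem L137166 : N15897 = N11824 := eqes L137165 L94166
theorem L137167 : N15897 = N11824 := eqc rfl L137166 rfl
theorem L137168 : sm gd N9733 = N15896 := trfs L137148 (flp_d L115019) rfl
theorem L137169 : N15896 = N11825 := eqes L137168 L94170
theorem L137170 : N15896 = N11825 := eqc rfl L137169 rfl
theorem L137173 : sm gf N9733 = N9934 := trfs L137148 (flp_f L95136) rfl
theorem L137174 : N9934 = N11827 := eqes L137173 L94181
theorem L137175 : N11827 = N9934 := (eqc rfl L137174 rfl).symm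
theorem L137186 : sm gf N9934 = N9733 := trfs L137175 (flp_f L94181) rfl
theorem L137196 : sm gf N11825 = N12016 := trfs L137170 (flp_f L115015) rfl
theorem L137199 : sm ge N11824 = N12024 := trfs L137167 L115024 rfl
theorem L137200 : N12024 = N15517 := eqes L137199 L113228
theorem L137201 : N15517 = N12024 := (eqc rfl L137200 rfl).symm
theorem L137205 : sm ge N12024 = N11824 := trfs L137201 (flp_e L113228) rfl
theorem L137211 : sm ge N9938 = N9733 := trfs L137138 (flp_e L94175) rfl
theorem L137223 : sm gd N1128 = N1194 := trfs L137101 L11839 rfl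
theorem L137229 : sm gb N2456 = N2319 := trfs L137077 L23215 rfl
theorem L137233 : sm ga N4727 = N4914 := trfs L137042 L72227 rfl
theorem L137241 : sm ga N11973 = N17477 := trfs L136297 L125122 rfl
theorem L137242 : N17477 = N15820 := eqes L137241 (flp_a L114640)
theorem L137243 : N17477 = N15820 := eqc rfl L137242 rfl
theorem L137245 : sm ge N11973 = N11836 := trfs L136297 L99667 rfl
theorem L137246 : N11836 = N15800 := eqes L137245 (flp_e L114562)
theorem L137247 : N15800 = N11836 := (eqc rfl L137246 rfl).symm
theorem L137248 : sm gf N11973 = N17479 := trfs L136297 L125130 rfl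
theorem L137249 : N17479 = N15823 := eqes L137248 L114654
theorem L137250 : N17479 = N15823 := eqc rfl L137249 rfl
theorem L137253 : sm ge N15823 = N15534 := trfs L137250 L125132 rfl
theorem L137258 : sm ge N11836 = N11973 := trfs L137247 L114562 rfl
theorem L137260 : sm ge N15820 = N15537 := trfs L137243 L125124 rfl
theorem L137262 : sm gf N11835 = N11987 := trfs L136288 (flp_f L114758) rfl
theorem L137266 : sm gb N4718 = N5093 := trfs L136285 L84121 rfl
theorem L137269 : sm gf N4718 = N4914 := trfs L136285 (flp_f L84115) rfl
theorem L137272 : sm gc N11832 = N12024 := trfs L136282 L114766 rfl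
theorem L137349 : sm ga N9758 = N9915 := trfs L136233 L86815 rfl
theorem L137352 : sm ge N9742 = N9915 := trfs L136223 L94931 rfl
theorem L137367 : sm gd N3733 = N13125 := trfs L136190 L126012 rfl
theorem L137368 : N13125 = N1801 := eqes L137367 (flp_d L17942)
theorem L137369 : N13125 = N1801 := eqc rfl L137368 rfl
theorem L137382 : sm gf N1801 = N10549 := trfs L137369 L100831 rfl
theorem L137383 : N10549 = N3734 := eqes L137382 L17948
theorem L137384 : N10549 = N3734 := eqc rfl L137383 rfl
theorem L137395 : sm gg N3734 = N11117 := trfs L137384 (flp_g L90478) rfl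
theorem L137396 : N11117 = N3729 := eqes L137395 (flp_g L81774)
theorem L137397 : N11117 = N3729 := eqc rfl L137396 rfl
theorem L137409 : sm gf N3729 = N14207 := trfs L137397 L106493 rfl
theorem L137410 : N14207 = N1904 := eqes L137409 L81772
theorem L137411 : N14207 = N1904 := eqc rfl L137410 rfl
theorem L137414 : sm ge N1904 = N11118 := trfs L137411 L106495 rfl
theorem L137415 : N11118 = N952 := eqes L137414 L9225
theorem L137416 : N11118 = N952 := eqc rfl L137415 rfl
theorem L137429 : sm gg N952 = N11125 := trfs L137416 L90526 rfl
theorem L137430 : N11125 = N1813 := eqes L137429 (flp_g L8789)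
theorem L137431 : N11125 = N1813 := eqc rfl L137430 rfl
theorem L137433 : sm gb N1813 = N10829 := trfs L137431 L90528 rfl
theorem L137434 : N10829 = N3762 := eqes L137433 L18059
theorem L137435 : N10829 = N3762 := eqc rfl L137434 rfl
theorem L137443 : sm gf N1813 = N8472 := trfs L137431 (flp_f L90520) rfl
theorem L137444 : N8472 = N1948 := eqes L137443 L9407
theorem L137445 : N8472 = N1948 := eqc rfl L137444 rfl
theorem L137447 : sm gb N1948 = N4066 := trfs L137445 (flp_b L41044) rfl
theorem L137448 : N4066 = N4069 := eqes L137447 L19501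
theorem L137449 : N4069 = N4066 := (eqc rfl L137448 rfl).symm
theorem L137450 : sm gc N1948 = N9233 := trfs L137445 (flp_c L83406) rfl
theorem L137451 : N9233 = N957 := eqes L137450 L9405
theorem L137452 : N9233 = N957 := eqc rfl L137451 rfl
theorem L137469 : sm gg N957 = N11478 := trfs L137452 L92340 rfl
theorem L137470 : N11478 = N481 := eqes L137469 (flp_g L4745)
theorem L137471 : N11478 = N481 := eqc rfl L137470 rfl
theorem L137483 : sm gf N481 = N14902 := trfs L137471 L109955 rfl
theorem L137484 : N14902 = N241 := eqes L137483 (flp_f L2444)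
theorem L137485 : N14902 = N241 := eqc rfl L137484 rfl
theorem L137494 : sm gg N241 = N13126 := trfs L137485 L109961 rfl
theorem L137495 : N13126 = N455 := eqes L137494 (flp_g L2322)
theorem L137496 : N13126 = N455 := eqc rfl L137495 rfl
theorem L137502 : sm gd N455 = N17896 := trfs L137496 L127133 rfl
theorem L137503 : N17896 = N885 := eqes L137502 (flp_d L4419)
theorem L137504 : N17896 = N885 := eqc rfl L137503 rfl
theorem L137510 : sm gf N885 = N13159 := trfs L137504 L127137 rfl
theorem L137511 : N13159 = N1786 := eqes L137510 L8659
theorem L137512 : N13159 = N1786 := eqc rfl L137511 rfl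
theorem L137522 : sm ge N1786 = N17944 := trfs L137512 L127408 rfl
theorem L137523 : N17944 = N3686 := eqes L137522 (flp_e L17724)
theorem L137524 : N17944 = N3686 := eqc rfl L137523 rfl
theorem L137529 : sm gb N3686 = N17887 := trfs L137524 L127412 rfl
theorem L137530 : N17887 = N3682 := eqes L137529 (flp_b L81515)
theorem L137531 : N17887 = N3682 := eqc rfl L137530 rfl
theorem L137532 : sm ga N3682 = N14908 := trfs L137531 L127071 rfl
theorem L137533 : N14908 = N3848 := eqes L137532 L69482
theorem L137534 : N14908 = N3848 := eqc rfl L137533 rfl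
theorem L137542 : sm ge N3848 = N11484 := trfs L137534 (flp_e L109999) rfl
theorem L137543 : N11484 = N1862 := eqes L137542 L18507
theorem L137544 : N11484 = N1862 := eqc rfl L137543 rfl
theorem L137557 : sm gg N1862 = N14909 := trfs L137544 L110003 rfl
theorem L137558 : N14909 = N919 := eqes L137557 (flp_g L9027)
theorem L137559 : N14909 = N919 := eqc rfl L137558 rfl
theorem L137567 : sm gd N919 = N11487 := trfs L137559 L110005 rfl
theorem L137568 : N11487 = N894 := eqes L137567 L69504
theorem L137569 : N11487 = N894 := eqc rfl L137568 rfl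
theorem L137580 : sm gf N894 = N14219 := trfs L137569 L106578 rfl
theorem L137581 : N14219 = N475 := eqes L137580 L4475
theorem L137582 : N14219 = N475 := eqc rfl L137581 rfl
theorem L137590 : sm gg N475 = N11129 := trfs L137582 (flp_g L106574) rfl
theorem L137591 : N11129 = N901 := eqes L137590 L81569
theorem L137592 : N11129 = N901 := eqc rfl L137591 rfl
theorem L137608 : sm gf N901 = N10516 := trfs L137592 L90562 rfl
theorem L137609 : N10516 = N896 := eqes L137608 (flp_f L81669)
theorem L137610 : N10516 = N896 := eqc rfl L137609 rfl
theorem L137613 : sm gc N896 = N6095 := trfs L137610 (flp_c L87212) rfl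
theorem L137614 : N6095 = N1807 := eqes L137613 (flp_c L8767)
theorem L137615 : N6095 = N1807 := eqc rfl L137614 rfl
theorem L137617 : sm ge N896 = N13116 := trfs L137610 (flp_e L100767) rfl
theorem L137618 : N13116 = N1798 := eqes L137617 (flp_e L8723)
theorem L137619 : N13116 = N1798 := eqc rfl L137618 rfl
theorem L137628 : sm gd N1798 = N17886 := trfs L137619 L127065 rfl
theorem L137629 : N17886 = N3717 := eqes L137628 (flp_d L17860)
theorem L137630 : N17886 = N3717 := eqc rfl L137629 rfl
theorem L137641 : sm gb N3717 = N17943 := trfs L137630 (flp_b L127406) rfl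
theorem L137642 : N17943 = N3721 := eqes L137641 L74370
theorem L137643 : N17943 = N3721 := eqc rfl L137642 rfl
theorem L137644 : sm ga N3721 = N14899 := trfs L137643 L127404 rfl
theorem L137645 : N14899 = N3941 := eqes L137644 (flp_a L18915)
theorem L137646 : N14899 = N3941 := eqc rfl L137645 rfl
theorem L137648 : sm gb N3941 = N11480 := trfs L137646 L109936 rfl
theorem L137649 : N11480 = N3932 := eqes L137648 L59391
theorem L137650 : N11480 = N3932 := eqc rfl L137649 rfl
theorem L137665 : sm gg N3932 = N12882 := trfs L137650 (flp_g L99479) rfl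
theorem L137666 : N12882 = N8234 := eqes L137665 (flp_g L39751)
theorem L137667 : N12882 = N8234 := eqc rfl L137666 rfl
theorem L137677 : sm gd N8234 = N10361 := trfs L137667 (flp_d L99477) rfl
theorem L137678 : N10361 = N3958 := eqes L137677 L39749
theorem L137679 : N10361 = N3958 := eqc rfl L137678 rfl
theorem L137680 : sm ge N8234 = N17452 := trfs L137667 (flp_e L124950) rfl
theorem L137681 : N17452 = N10887 := eqes L137680 (flp_e L89324)
theorem L137682 : N17452 = N10887 := eqc rfl L137681 rfl
theorem L137687 : sm gb N10887 = N17466 := trfs L137682 (flp_b L125045) rfl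
theorem L137688 : N17466 = N10898 := eqes L137687 (flp_b L89394)
theorem L137689 : N17466 = N10898 := eqc rfl L137688 rfl
theorem L137700 : sm gf N10898 = N14914 := trfs L137689 L125047 rfl
theorem L137701 : N14914 = N8035 := eqes L137700 L89390
theorem L137702 : N14914 = N8035 := eqc rfl L137701 rfl
theorem L137708 : sm ge N8035 = N11489 := trfs L137702 L110044 rfl
theorem L137709 : N11489 = N3942 := eqes L137708 L38894
theorem L137710 : N11489 = N3942 := eqc rfl L137709 rfl
theorem L137719 : sm gd N3942 = N9295 := trfs L137710 (flp_d L92415) rfl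
theorem L137720 : N9295 = N1910 := eqes L137719 L18923
theorem L137721 : N9295 = N1910 := eqc rfl L137720 rfl
theorem L137730 : sm gf N1910 = N10379 := trfs L137721 (flp_f L86439) rfl
theorem L137731 : N10379 = N3981 := eqes L137730 (flp_f L19127)
theorem L137732 : N10379 = N3981 := eqc rfl L137731 rfl
theorem L137741 : sm ge N3981 = N5933 := trfs L137732 (flp_e L86433) rfl
theorem L137742 : N5933 = N1949 := eqes L137741 L19125
theorem L137743 : N5933 = N1949 := eqc rfl L137742 rfl
theorem L137746 : sm gb N1949 = N5828 := trfs L137743 L83755 rfl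
theorem L137747 : N5828 = N1926 := eqes L137746 (flp_b L59959)
theorem L137748 : N5828 = N1926 := eqc rfl L137747 rfl
theorem L137751 : sm gd N1949 = N10378 := trfs L137743 L86421 rfl
theorem L137752 : N10378 = N3900 := eqes L137751 (flp_d L18741)
theorem L137753 : N10378 = N3900 := eqc rfl L137752 rfl
theorem L137759 : sm gb N3900 = N10360 := trfs L137753 L86425 rfl
theorem L137760 : N10360 = N3877 := eqes L137759 L59319
theorem L137761 : N10360 = N3877 := eqc rfl L137760 rfl
theorem L137762 : sm gc N3900 = N10094 := trfs L137753 (flp_c L86431) rfl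
theorem L137763 : N10094 = N8166 := eqes L137762 L39483
theorem L137764 : N10094 = N8166 := eqc rfl L137763 rfl
theorem L137769 : sm gb N8166 = N12340 := trfs L137764 (flp_b L96876) rfl
theorem L137770 : N12340 = N10923 := eqes L137769 L89534
theorem L137771 : N12340 = N10923 := eqc rfl L137770 rfl
theorem L137772 : sm gd N8166 = N5469 := trfs L137764 (flp_d L85101) rfl
theorem L137773 : N5469 = N10924 := eqes L137772 L89543
theorem L137774 : N10924 = N5469 := (eqc rfl L137773 rfl).symm
theorem L137775 : sm ge N8166 = N12341 := trfs L137764 L96884 rfl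
theorem L137776 : N12341 = N10911 := eqes L137775 (flp_e L89470)
theorem L137777 : N12341 = N10911 := eqc rfl L137776 rfl
theorem L137785 : sm gd N10911 = N16523 := trfs L137777 (flp_d L118611) rfl
theorem L137786 : N16523 = N13816 := eqes L137785 L104662
theorem L137787 : N16523 = N13816 := eqc rfl L137786 rfl
theorem L137791 : sm ge N13816 = N12333 := trfs L137787 (flp_e L118603) rfl
theorem L137805 : sm gd N5469 = N8166 := trfs L137774 (flp_d L89543) rfl
theorem L137834 : sm gd N10923 = N10093 := trfs L137771 (flp_d L96873) rfl
theorem L137843 : sm ga N3877 = N10091 := trfs L137761 L86266 rfl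
theorem L137844 : N10091 = N1863 := eqes L137843 (flp_a L18641)
theorem L137845 : N10091 = N1863 := eqc rfl L137844 rfl
theorem L137861 : sm gg N1863 = N9015 := trfs L137845 L85086 rfl
theorem L137862 : N9015 = N921 := eqes L137861 L9035
theorem L137863 : N9015 = N921 := eqc rfl L137862 rfl
theorem L137872 : sm ge N921 = N11316 := trfs L137863 L91585 rfl
theorem L137873 : N11316 = N1853 := eqes L137872 (flp_e L8991)
theorem L137874 : N11316 = N1853 := eqc rfl L137873 rfl
theorem L137877 : sm gb N1853 = N14558 := trfs L137874 (flp_b L108363) rfl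
theorem L137878 : N14558 = N915 := eqes L137877 (flp_b L8989)
theorem L137879 : N14558 = N915 := eqc rfl L137878 rfl
theorem L137890 : sm ga N915 = N14562 := trfs L137879 (flp_a L108380) rfl
theorem L137891 : N14562 = N917 := eqes L137890 (flp_a L4579)
theorem L137892 : N14562 = N917 := eqc rfl L137891 rfl
theorem L137897 : sm ge N917 = N11318 := trfs L137892 (flp_e L108378) rfl
theorem L137898 : N11318 = N467 := eqes L137897 L4581
theorem L137899 : N11318 = N467 := eqc rfl L137898 rfl
theorem L137909 : sm gg N467 = N14564 := trfs L137899 L108392 rfl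
theorem L137910 : N14564 = N405 := eqes L137909 L2390
theorem L137911 : N14564 = N405 := eqc rfl L137910 rfl
theorem L137917 : sm gd N405 = N14906 := trfs L137911 (flp_d L109989) rfl
theorem L137918 : N14906 = N205 := eqes L137917 L2069
theorem L137919 : N14906 = N205 := eqc rfl L137918 rfl
theorem L137927 : sm gf N205 = N18001 := trfs L137919 (flp_f L127797) rfl
theorem L137928 : N18001 = N96 := eqes L137927 (flp_f L1035)
theorem L137929 : N18001 = N96 := eqc rfl L137928 rfl
theorem L137937 : sm gg N96 = N14895 := trfs L137929 L127799 rfl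
theorem L137938 : N14895 = N206 := eqes L137937 L1041
theorem L137939 : N14895 = N206 := eqc rfl L137938 rfl
theorem L137948 : sm gf N206 = N11473 := trfs L137939 (flp_f L109909) rfl
theorem L137949 : N11473 = N240 := eqes L137948 L1222
theorem L137950 : N11473 = N240 := eqc rfl L137949 rfl
theorem L137957 : sm ge N240 = N14894 := trfs L137950 L109903 rfl
theorem L137958 : N14894 = N472 := eqes L137957 (flp_e L2410)
theorem L137959 : N14894 = N472 := eqc rfl L137958 rfl
theorem L137964 : sm gb N472 = N11474 := trfs L137959 L109905 rfl
theorem L137965 : N11474 = N936 := eqes L137964 L4659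
theorem L137966 : N11474 = N936 := eqc rfl L137965 rfl
theorem L138809 : sm gg N936 = N12879 := trfs L137966 (flp_g L99453) rfl
theorem L138810 : N12879 = N1898 := eqes L138809 (flp_g L9191)
theorem L138811 : N12879 = N1898 := eqc rfl L138810 rfl
theorem L138813 : sm gb N1898 = N14911 := trfs L138811 (flp_b L110020) rfl
theorem L138814 : N14911 = N935 := eqes L138813 (flp_b L9187)
theorem L138815 : N14911 = N935 := eqc rfl L138814 rfl
theorem L138821 : sm gc N935 = N13118 := trfs L138815 L110016 rfl
theorem L138822 : N13118 = N1897 := eqes L138821 (flp_c L9183)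
theorem L138823 : N13118 = N1897 := eqc rfl L138822 rfl
theorem L138838 : sm gf N1897 = N11111 := trfs L138823 L100779 rfl
theorem L138839 : N11111 = N3957 := eqes L138838 L18989
theorem L138840 : N11111 = N3957 := eqc rfl L138839 rfl
theorem L138843 : sm gb N3957 = N8388 := trfs L138840 (flp_b L90430) rfl
theorem L138844 : N8388 = N8291 := eqes L138843 L40035
theorem L138845 : N8388 = N8291 := eqc rfl L138844 rfl
theorem L138847 : sm gd N3957 = N14120 := trfs L138840 (flp_d L105987) rfl
theorem L138848 : N14120 = N8288 := eqes L138847 (flp_d L40017)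
theorem L138849 : N14120 = N8288 := eqc rfl L138848 rfl
theorem L138850 : sm ge N3957 = N8392 := trfs L138840 L90432 rfl
theorem L138851 : N8392 = N1925 := eqes L138850 L18995
theorem L138852 : N8392 = N1925 := eqc rfl L138851 rfl
theorem L138853 : sm gg N3957 = N14200 := trfs L138840 L106447 rfl
theorem L138854 : N14200 = N3724 := eqes L138853 L18997
theorem L138855 : N14200 = N3724 := eqc rfl L138854 rfl
theorem L138857 : sm gb N3724 = N13651 := trfs L138855 L106453 rfl
theorem L138858 : N13651 = N7779 := eqes L138857 L37359
theorem L138859 : N13651 = N7779 := eqc rfl L138858 rfl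
theorem L138871 : sm ge N7779 = N10827 := trfs L138859 L103718 rfl
theorem L138872 : N10827 = N3743 := eqes L138871 L37361
theorem L138873 : N10827 = N3743 := eqc rfl L138872 rfl
theorem L138875 : sm gg N7779 = N10826 := trfs L138859 (flp_g L103714) rfl
theorem L138876 : N10826 = N10805 := eqes L138875 L88834
theorem L138877 : N10826 = N10805 := eqc rfl L138876 rfl
theorem L138879 : sm gb N10805 = N7824 := trfs L138877 L88985 rfl
theorem L138880 : N7824 = N11067 := eqes L138879 (flp_b L90155)
theorem L138881 : N11067 = N7824 := (eqc rfl L138880 rfl).symm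
theorem L138883 : sm gd N10805 = N13617 := trfs L138877 (flp_d L120429) rfl
theorem L138884 : N13617 = N13619 := eqes L138883 (flp_d L103533)
theorem L138885 : N13619 = N13617 := (eqc rfl L138884 rfl).symm
theorem L138886 : sm ge N10805 = N7821 := trfs L138877 (flp_e L88982) rfl
theorem L138887 : N7821 = N7822 := eqes L138886 L88838
theorem L138888 : N7822 = N7821 := (eqc rfl L138887 rfl).symm
theorem L138891 : sm gb N7821 = N8397 := trfs L138888 (flp_b L40655) rfl
theorem L138892 : N8397 = N3744 := eqes L138891 L37614
theorem L138893 : N8397 = N3744 := eqc rfl L138892 rfl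
theorem L138896 : sm ge N7821 = N10805 := trfs L138888 (flp_e L88838) rfl
theorem L138901 : sm ga N3744 = N6055 := trfs L138893 L83441 rfl
theorem L138902 : N6055 = N1806 := eqes L138901 L17991
theorem L138903 : N6055 = N1806 := eqc rfl L138902 rfl
theorem L138910 : sm gg N3744 = N4020 := trfs L138893 (flp_g L40653) rfl
theorem L138911 : N4020 = N4017 := eqes L138910 (flp_g L19295)
theorem L138912 : N4020 = N4017 := eqc rfl L138911 rfl
theorem L138913 : sm ga N4017 = N2952 := trfs L138912 (flp_a L82010) rfl
theorem L138914 : N2952 = N3747 := eqes L138913 L19291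
theorem L138915 : N3747 = N2952 := (eqc rfl L138914 rfl).symm
theorem L138924 : sm gf N4017 = N6102 := trfs L138912 (flp_f L71402) rfl
theorem L138925 : N6102 = N1923 := eqes L138924 (flp_f L19289)
theorem L138926 : N6102 = N1923 := eqc rfl L138925 rfl
theorem L138932 : sm ge N1923 = N10436 := trfs L138926 (flp_e L86765) rfl
theorem L138933 : N10436 = N4015 := eqes L138932 (flp_e L19281)
theorem L138934 : N10436 = N4015 := eqc rfl L138933 rfl
theorem L138935 : sm gg N1923 = N10490 := trfs L138926 (flp_g L87066) rfl
theorem L138936 : N10490 = N944 := eqes L138935 (flp_g L9307)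
theorem L138937 : N10490 = N944 := eqc rfl L138936 rfl
theorem L138946 : sm ge N944 = N12913 := trfs L138937 (flp_e L99723) rfl
theorem L138947 : N12913 = N1922 := eqes L138946 L9303
theorem L138948 : N12913 = N1922 := eqc rfl L138947 rfl
theorem L138959 : sm gd N1922 = N17493 := trfs L138948 (flp_d L125214) rfl
theorem L138960 : N17493 = N3954 := eqes L138959 (flp_d L18977)
theorem L138961 : N17493 = N3954 := eqc rfl L138960 rfl
theorem L138968 : sm gf N3954 = N12912 := trfs L138961 (flp_f L125210) rfl
theorem L138969 : N12912 = N7782 := eqes L138968 (flp_f L37378)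
theorem L138970 : N12912 = N7782 := eqc rfl L138969 rfl
theorem L138971 : sm gg N3954 = N12991 := trfs L138961 L125216 rfl
theorem L138972 : N12991 = N8286 := eqes L138971 L40001
theorem L138973 : N12991 = N8286 := eqc rfl L138972 rfl
theorem L138974 : sm ga N8286 = N11101 := trfs L138973 L100097 rfl
theorem L138975 : N11101 = N10825 := eqes L138974 (flp_a L88972)
theorem L138976 : N11101 = N10825 := eqc rfl L138975 rfl
theorem L138977 : sm gb N8286 = N11065 := trfs L138973 L100099 rfl
theorem L138978 : N11065 = N11061 := eqes L138977 L90107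
theorem L138979 : N11065 = N11061 := eqc rfl L138978 rfl
theorem L138985 : sm gf N8286 = N11066 := trfs L138973 L100101 rfl
theorem L138986 : N11066 = N11062 := eqes L138985 L90115
theorem L138987 : N11066 = N11062 := eqc rfl L138986 rfl
theorem L138988 : sm ga N11062 = N10432 := trfs L138987 L90147 rfl
theorem L138989 : N10432 = N10812 := eqes L138988 L90117
theorem L138990 : N10812 = N10432 := (eqc rfl L138989 rfl).symm
theorem L138993 : sm gc N11062 = N14124 := trfs L138987 L106011 rfl
theorem L138994 : N14124 = N14112 := eqes L138993 (flp_c L105945)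
theorem L138995 : N14124 = N14112 := eqc rfl L138994 rfl
theorem L139006 : sm ga N14112 = N12986 := trfs L138995 L106013 rfl
theorem L139007 : N12986 = N13630 := eqes L139006 L105943
theorem L139008 : N13630 = N12986 := (eqc rfl L139007 rfl).symm
theorem L139010 : sm ga N12986 = N14112 := trfs L139008 (flp_a L105943) rfl
theorem L139013 : sm gd N12986 = N14599 := trfs L139008 L120257 rfl
theorem L139014 : N14599 = N17647 := eqes L139013 L125910
theorem L139015 : N17647 = N14599 := (eqc rfl L139014 rfl).symm
theorem L139016 : sm ge N12986 = N10811 := trfs L139008 L103598 rfl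
theorem L139017 : N10811 = N17639 := eqes L139016 (flp_e L125868)
theorem L139018 : N17639 = N10811 := (eqc rfl L139017 rfl).symm
theorem L139019 : sm gf N12986 = N13650 := trfs L139008 (flp_f L103710) rfl
theorem L139020 : N13650 = N14188 := eqes L139019 (flp_f L106386)
theorem L139021 : N14188 = N13650 := (eqc rfl L139020 rfl).symm
theorem L139022 : sm gg N12986 = N10810 := trfs L139008 (flp_g L103594) rfl
theorem L139023 : N10810 = N17492 := eqes L139022 (flp_g L125208)
theorem L139024 : N17492 = N10810 := (eqc rfl L139023 rfl).symm
theorem L139026 : sm gg N10810 = N12986 := trfs L139024 L125208 rfl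
theorem L139030 : sm gf N13650 = N12986 := trfs L139021 L106386 rfl
theorem L139035 : sm ge N10811 = N12986 := trfs L139018 L125868 rfl
theorem L139049 : sm gd N14599 = N12986 := trfs L139015 (flp_d L125910) rfl
theorem L139051 : sm ga N10432 = N11062 := trfs L138990 (flp_a L90117) rfl
theorem L139055 : sm ge N10432 = N7783 := trfs L138990 L88883 rfl
theorem L139061 : sm ga N11061 = N9878 := trfs L138979 L90139 rfl
theorem L139062 : N9878 = N14117 := eqes L139061 L105961
theorem L139063 : N14117 = N9878 := (eqc rfl L139062 rfl).symm
theorem L139064 : sm gc N11061 = N14123 := trfs L138979 (flp_c L106009) rfl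
theorem L139065 : N14123 = N14118 := eqes L139064 L105971
theorem L139066 : N14123 = N14118 := eqc rfl L139065 rfl
theorem L139067 : sm gd N11061 = N8290 := trfs L138979 L90141 rfl
theorem L139068 : N8290 = N8387 := eqes L139067 L90109
theorem L139069 : N8387 = N8290 := (eqc rfl L139068 rfl).symm
theorem L139070 : sm ge N11061 = N14119 := trfs L138979 (flp_e L105983) rfl
theorem L139071 : N14119 = N8287 := eqes L139070 L90111
theorem L139072 : N14119 = N8287 := eqc rfl L139071 rfl
theorem L139079 : sm gf N8287 = N11061 := trfs L139072 (flp_f L105977) rfl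
theorem L139086 : sm gd N8290 = N11061 := trfs L139069 (flp_d L90109) rfl
theorem L139091 : sm gg N8290 = N4115 := trfs L139069 L40603 rfl
theorem L139092 : N4115 = N8530 := eqes L139091 (flp_g L41320)
theorem L139093 : N8530 = N4115 := (eqc rfl L139092 rfl).symm
theorem L139105 : sm gg N4115 = N8290 := trfs L139093 L41320 rfl
theorem L139116 : sm ga N14118 = N11919 := trfs L139066 L106007 rfl
theorem L139118 : sm gf N14118 = N11064 := trfs L139066 (flp_f L106005) rfl
theorem L139120 : sm gg N14118 = N14263 := trfs L139066 (flp_g L106781) rfl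
theorem L139121 : N14263 = N11152 := eqes L139120 L105975
theorem L139122 : N14263 = N11152 := eqc rfl L139121 rfl
theorem L139123 : sm ga N11152 = N11157 := trfs L139122 L106777 rfl
theorem L139124 : N11157 = N14257 := eqes L139123 (flp_a L106743)
theorem L139125 : N14257 = N11157 := (eqc rfl L139124 rfl).symm
theorem L139127 : sm gf N11152 = N11154 := trfs L139122 (flp_f L106775) rfl
theorem L139128 : N11154 = N14260 := eqes L139127 L106761
theorem L139129 : N14260 = N11154 := (eqc rfl L139128 rfl).symm
theorem L139135 : sm gf N11154 = N11152 := trfs L139129 (flp_f L106761) rfl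
theorem L139137 : sm gg N11154 = N14327 := trfs L139129 (flp_g L107083) rfl
theorem L139138 : N14327 = N14121 := eqes L139137 (flp_g L105999)
theorem L139139 : N14327 = N14121 := eqc rfl L139138 rfl
theorem L139141 : sm ge N14121 = N11919 := trfs L139139 L107081 rfl
theorem L139151 : sm ga N11157 = N11152 := trfs L139125 L106743 rfl
theorem L139154 : sm ge N11157 = N11154 := trfs L139125 L106745 rfl
theorem L139156 : sm ga N9878 = N11061 := trfs L139063 (flp_a L105961) rfl
theorem L139170 : sm gf N10825 = N10432 := trfs L138976 L90361 rfl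
theorem L139184 : sm gg N7782 = N10432 := trfs L138970 L99717 rfl
theorem L139229 : sm gb N4015 = N8290 := trfs L138934 L86769 rfl
theorem L139241 : sm ga N2952 = N4017 := trfs L138915 (flp_a L19291) rfl
theorem L139244 : sm gc N2952 = N1923 := trfs L138915 (flp_c L69584) rfl
theorem L139249 : sm gf N2952 = N3774 := trfs L138915 L78313 rfl
theorem L139257 : sm gg N1806 = N2952 := trfs L138903 L71605 rfl
theorem L139260 : sm gd N13617 = N10805 := trfs L138885 L103533 rfl
theorem L139263 : sm gg N13617 = N10804 := trfs L138885 (flp_g L103530) rfl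
theorem L139265 : sm gb N7824 = N10805 := trfs L138881 L90155 rfl
theorem L139273 : sm gg N3743 = N7821 := trfs L138873 (flp_g L88989) rfl
theorem L139276 : sm gb N1925 = N4017 := trfs L138852 (flp_b L40631) rfl
theorem L139281 : sm gb N8288 = N11062 := trfs L138849 (flp_b L105985) rfl
theorem L139285 : sm gc N8291 = N7879 := trfs L138845 (flp_c L78584) rfl
theorem L139287 : sm gd N8291 = N11062 := trfs L138845 (flp_d L90119) rfl
theorem L139289 : sm ge N8291 = N4017 := trfs L138845 L40609 rfl
theorem L139291 : sm gf N8291 = N4015 := trfs L138845 (flp_f L40605) rfl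
theorem L139293 : sm gg N8291 = N7824 := trfs L138845 L40611 rfl
theorem L139548 : sm gc N1926 = N2818 := trfs L137748 (flp_c L28281) rfl
theorem L139549 : N2818 = N4022 := eqes L139548 L19307
theorem L139550 : N4022 = N2818 := (eqc rfl L139549 rfl).symm
theorem L139557 : sm gc N2818 = N1926 := trfs L139550 (flp_c L19307) rfl
theorem L139560 : sm ge N2818 = N8293 := trfs L139550 (flp_e L40047) rfl
theorem L139561 : N8293 = N5829 := eqes L139560 L28283
theorem L139562 : N8293 = N5829 := eqc rfl L139561 rfl
theorem L139565 : sm gg N2818 = N1931 := trfs L139550 L19311 rfl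
theorem L139566 : N1931 = N2148 := eqes L139565 L81847
theorem L139567 : N2148 = N1931 := (eqc rfl L139566 rfl).symm
theorem L139569 : sm gb N1931 = N3755 := trfs L139567 (flp_b L18037) rfl
theorem L139570 : N3755 = N4033 := eqes L139569 L19341
theorem L139571 : N4033 = N3755 := (eqc rfl L139570 rfl).symm
theorem L139575 : sm ge N1931 = N4469 := trfs L139567 L21553 rfl
theorem L139576 : N4469 = N3963 := eqes L139575 (flp_e L19027)
theorem L139577 : N4469 = N3963 := eqc rfl L139576 rfl
theorem L139579 : sm gg N1931 = N2818 := trfs L139567 (flp_g L81847) rfl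
theorem L139582 : sm gb N3963 = N7845 := trfs L139577 (flp_b L37733) rfl
theorem L139583 : N7845 = N8304 := eqes L139582 L40097
theorem L139584 : N8304 = N7845 := (eqc rfl L139583 rfl).symm
theorem L139591 : sm gb N7845 = N3963 := trfs L139584 (flp_b L40097) rfl
theorem L139593 : sm gc N7845 = N8334 := trfs L139584 L71856 rfl
theorem L139594 : N8334 = N8468 := eqes L139593 L82649
theorem L139595 : N8468 = N8334 := (eqc rfl L139594 rfl).symm
theorem L139603 : sm gg N7845 = N6043 := trfs L139584 L71803 rfl
theorem L139604 : N6043 = N7867 := eqes L139603 L81712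
theorem L139605 : N7867 = N6043 := (eqc rfl L139604 rfl).symm
theorem L139611 : sm ge N6043 = N3766 := trfs L139605 L38016 rfl
theorem L139612 : N3766 = N2981 := eqes L139611 L29287
theorem L139613 : N3766 = N2981 := eqc rfl L139612 rfl
theorem L139616 : sm gg N6043 = N7845 := trfs L139605 (flp_g L81712) rfl
theorem L139621 : sm gc N2981 = N1946 := trfs L139613 (flp_c L82572) rfl
theorem L139622 : N1946 = N6163 := eqes L139621 L29782
theorem L139623 : N6163 = N1946 := (eqc rfl L139622 rfl).symm
theorem L139632 : sm gc N1946 = N2981 := trfs L139623 (flp_c L29782) rfl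
theorem L139636 : sm gf N1946 = N10524 := trfs L139623 (flp_f L87272) rfl
theorem L139637 : N10524 = N954 := eqes L139636 (flp_f L9393)
theorem L139638 : N10524 = N954 := eqc rfl L139637 rfl
theorem L139644 : sm ge N954 = N12998 := trfs L139638 (flp_e L100147) rfl
theorem L139645 : N12998 = N1945 := eqes L139644 L9389
theorem L139646 : N12998 = N1945 := eqc rfl L139645 rfl
theorem L139651 : sm gd N1945 = N17669 := trfs L139646 (flp_d L126026) rfl
theorem L139652 : N17669 = N3977 := eqes L139651 (flp_d L19101)
theorem L139653 : N17669 = N3977 := eqc rfl L139652 rfl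
theorem L139660 : sm gf N3977 = N13076 := trfs L139653 (flp_f L126028) rfl
theorem L139661 : N13076 = N8329 := eqes L139660 L40249
theorem L139662 : N13076 = N8329 := eqc rfl L139661 rfl
theorem L139673 : sm gg N8329 = N11096 := trfs L139662 L100527 rfl
theorem L139674 : N11096 = N11092 := eqes L139673 L90291
theorem L139675 : N11096 = N11092 := eqc rfl L139674 rfl
theorem L139678 : sm gb N11092 = N8331 := trfs L139675 (flp_b L90319) rfl
theorem L139679 : N8331 = N14177 := eqes L139678 L106304
theorem L139680 : N14177 = N8331 := (eqc rfl L139679 rfl).symm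
theorem L139681 : sm gc N11092 = N14181 := trfs L139675 L106330 rfl
theorem L139682 : N14181 = N14169 := eqes L139681 (flp_c L106264)
theorem L139683 : N14181 = N14169 := eqc rfl L139682 rfl
theorem L139687 : sm gf N11092 = N14182 := trfs L139675 L106334 rfl
theorem L139688 : N14182 = N10818 := eqes L139687 (flp_f L90299)
theorem L139689 : N14182 = N10818 := eqc rfl L139688 rfl
theorem L139691 : sm gb N10818 = N13636 := trfs L139689 L106342 rfl
theorem L139692 : N13636 = N13634 := eqes L139691 (flp_b L129632)
theorem L139693 : N13636 = N13634 := eqc rfl L139692 rfl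
theorem L139694 : sm gd N10818 = N11097 := trfs L139689 L106338 rfl
theorem L139695 : N11097 = N7862 := eqes L139694 L88928
theorem L139696 : N11097 = N7862 := eqc rfl L139695 rfl
theorem L139699 : sm gb N7862 = N10816 := trfs L139696 L90335 rfl
theorem L139700 : N10816 = N10828 := eqes L139699 (flp_b L88999)
theorem L139701 : N10828 = N10816 := (eqc rfl L139700 rfl).symm
theorem L139708 : sm gb N10816 = N7862 := trfs L139701 L88999 rfl
theorem L139713 : sm ge N10816 = N7859 := trfs L139701 (flp_e L88996) rfl
theorem L139714 : N7859 = N7860 := eqes L139713 L88911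
theorem L139715 : N7860 = N7859 := (eqc rfl L139714 rfl).symm
theorem L139729 : sm ge N7859 = N10816 := trfs L139715 (flp_e L88911) rfl
theorem L139735 : sm gd N13634 = N10816 := trfs L139693 L103629 rfl
theorem L139737 : sm gf N13634 = N10815 := trfs L139693 (flp_f L103626) rfl
theorem L139740 : sm ga N14169 = N13071 := trfs L139683 L106332 rfl
theorem L139741 : N13071 = N13647 := eqes L139740 L106262
theorem L139742 : N13647 = N13071 := (eqc rfl L139741 rfl).symm
theorem L139744 : sm ga N13071 = N14169 := trfs L139742 (flp_a L106262) rfl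
theorem L139747 : sm ge N13071 = N10822 := trfs L139742 L103694 rfl
theorem L139748 : N10822 = N17815 := eqes L139747 (flp_e L126680)
theorem L139749 : N17815 = N10822 := (eqc rfl L139748 rfl).symm
theorem L139750 : sm gf N13071 = N10821 := trfs L139742 (flp_f L103690) rfl
theorem L139751 : N10821 = N17668 := eqes L139750 (flp_f L126020)
theorem L139752 : N17668 = N10821 := (eqc rfl L139751 rfl).symm
theorem L139753 : sm gg N13071 = N13633 := trfs L139742 L103696 rfl
theorem L139754 : N13633 = N14131 := eqes L139753 (flp_g L106065)
theorem L139755 : N14131 = N13633 := (eqc rfl L139754 rfl).symm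
theorem L139758 : sm gg N13633 = N13071 := trfs L139755 L106065 rfl
theorem L139761 : sm gf N10821 = N13071 := trfs L139752 L126020 rfl
theorem L139764 : sm ge N10822 = N13071 := trfs L139749 L126680 rfl
theorem L139767 : sm gb N8331 = N11092 := trfs L139680 (flp_b L106304) rfl
theorem L139785 : sm gc N8334 = N7845 := trfs L139595 (flp_c L82649) rfl
theorem L139787 : sm gd N8334 = N11092 := trfs L139595 (flp_d L90295) rfl
theorem L139791 : sm gf N8334 = N7862 := trfs L139595 (flp_f L41028) rfl
theorem L139795 : sm gb N3755 = N1931 := trfs L139571 (flp_b L19341) rfl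
theorem L139800 : sm gg N3755 = N2981 := trfs L139571 (flp_g L59423) rfl
theorem L139811 : sm gg N5829 = N3963 := trfs L139562 L40049 rfl
theorem L139843 : sm gc N3958 = N5829 := trfs L137679 L86276 rfl
theorem L139870 : sm gd N1807 = N2952 := trfs L137615 L29506 rfl
theorem L139944 : sm ga N4066 = N2981 := trfs L137449 (flp_a L71616) rfl
theorem L139946 : sm gb N4066 = N1948 := trfs L137449 (flp_b L19501) rfl
theorem L139948 : sm ge N4066 = N8334 := trfs L137449 (flp_e L40283) rfl
theorem L139958 : sm gf N3762 = N7859 := trfs L137435 (flp_f L89003) rfl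
theorem L139994 : sm gf N3765 = N6043 := trfs L136162 L86797 rfl
theorem L140022 : sm gf N1814 = N2981 := trfs L136146 L77948 rfl
theorem L140032 : sm gg N2881 = N2369 := trfs L136135 (flp_g L71546) rfl
theorem L140290 : sm gc N11964 = N11836 := trfs L135338 (flp_c L113340) rfl
theorem L140308 : sm gb N4910 = N4719 := trfs L135283 (flp_b L47340) rfl
theorem L140315 : sm gf N5086 = N4714 := trfs L135274 (flp_f L47282) rfl
theorem L140326 : sm gf N2452 = N2266 := trfs L135260 (flp_f L22778) rfl
theorem L140344 : sm gf N1192 = N1128 := trfs L135246 (flp_f L11200) rfl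
theorem L140355 : sm gb N1130 = N1179 := trfs L135232 (flp_b L11682) rfl
theorem L140356 : N1179 = N18138 := eqes L140355 L135937
theorem L140357 : N18138 = N1179 := (eqc rfl L140356 rfl).symm
theorem L140364 : sm gb N1179 = N1130 := trfs L140357 (flp_b L135937) rfl
theorem L140371 : sm ga N1182 = N1134 := trfs L135220 L82172 rfl
theorem L140375 : sm gd N1182 = N1130 := trfs L135220 L82176 rfl
theorem L140377 : sm gf N1182 = N1129 := trfs L135220 (flp_f L82193) rfl
theorem L140379 : sm gg N1182 = N1397 := trfs L135220 (flp_g L79317) rfl
theorem L140451 : sm gd N192 = N192 := trfs L134919 L1917 rfl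
theorem L140453 : sm gg N192 = N191 := trfs L134919 (flp_g L1915) rfl
theorem L140454 : N191 = N90 := eqes L140453 (flp_g L970)
theorem L140455 : N191 = N90 := eqc rfl L140454 rfl
theorem L140459 : sm gd N90 = N90 := trfs L140455 (flp_d L966) rfl
theorem L140485 : sm gd N189 = N189 := trfs L134875 (flp_d L1893) rfl
theorem L140494 : sm gb N696 = N362 := trfs L134838 (flp_b L3582) rfl
theorem L140496 : sm gc N696 = N1182 := trfs L134838 (flp_c L5799) rfl
theorem L140501 : sm gd N182 = N362 := trfs L134835 (flp_d L3584) rfl
theorem L140508 : sm gb N1401 = N703 := trfs L134824 (flp_b L6877) rfl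
theorem L140510 : sm gc N1401 = N2369 := trfs L134824 (flp_c L11448) rfl
theorem L140518 : sm ge N2915 = N1416 := trfs L134811 (flp_e L14111) rfl
theorem L140522 : sm gb N2779 = N1414 := trfs L134808 L14070 rfl
theorem L140524 : sm ge N705 = N1414 := trfs L134805 (flp_e L14088) rfl
theorem L140535 : sm ge N2917 = N1418 := trfs L134782 L14124 rfl
theorem L140752 : sm gd N185 = N185 := trfs L134328 (flp_d L1858) rfl
theorem L140757 : sm gd N367 = N367 := trfs L134314 L3628 rfl
theorem L140916 : sm gf N8525 = N8526 := trfs L133898 (flp_f L90680) rfl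
theorem L140949 : sm gd N13516 = N11912 := trfs L133800 (flp_d L114089) rfl
theorem L140951 : sm ge N15692 = N15458 := trfs L133794 L125023 rfl
theorem L140953 : sm ga N12820 = N17481 := trfs L133763 L125142 rfl
theorem L140954 : N17481 = N17335 := eqes L140953 (flp_a L124355)
theorem L140955 : N17481 = N17335 := eqc rfl L140954 rfl
theorem L140962 : sm gg N12820 = N17485 := trfs L133763 L125162 rfl
theorem L140963 : N17485 = N17340 := eqes L140962 L124379
theorem L140964 : N17485 = N17340 := eqc rfl L140963 rfl
theorem L140965 : sm gc N17340 = N15716 := trfs L140964 L125164 rfl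
theorem L140974 : sm gc N17335 = N15715 := trfs L140955 L125144 rfl
theorem L140991 : sm ga N11926 = N11815 := trfs L133691 L99564 rfl
theorem L140993 : sm gb N11926 = N13516 := trfs L133691 L119244 rfl
theorem L140995 : sm gc N11926 = N12823 := trfs L133691 (flp_c L99570) rfl
theorem L140997 : sm ge N11926 = N15358 := trfs L133691 (flp_e L112470) rfl
theorem L140999 : sm gf N11926 = N12823 := trfs L133691 L99566 rfl
theorem L141001 : sm gg N11926 = N10738 := trfs L133691 L119246 rfl
theorem L141003 : sm ga N12853 = N17818 := trfs L133655 (flp_a L126692) rfl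
theorem L141004 : N17818 = N17395 := eqes L141003 (flp_a L124650)
theorem L141005 : N17818 = N17395 := eqc rfl L141004 rfl
theorem L141006 : sm gc N12853 = N15510 := trfs L133655 L114684 rfl
theorem L141018 : sm gg N17395 = N15826 := trfs L141005 L126696 rfl
theorem L141021 : sm gg N11976 = N12853 := trfs L133644 (flp_g L124708) rfl
theorem L141023 : sm ga N15589 = N17304 := trfs L133637 L124307 rfl
theorem L141025 : sm gc N15589 = N12813 := trfs L133637 (flp_c L124305) rfl
theorem L141030 : sm gf N17316 = N15698 := trfs L133634 (flp_f L125900) rfl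
theorem L141033 : sm ge N13033 = N17817 := trfs L133628 L126686 rfl
theorem L141034 : N17817 = N17738 := eqes L141033 L126372
theorem L141035 : N17817 = N17738 := eqc rfl L141034 rfl
theorem L141036 : sm gg N13033 = N15589 := trfs L133628 (flp_g L113618) rfl
theorem L141038 : sm gd N17738 = N13073 := trfs L141035 L126688 rfl
theorem L141041 : sm ge N12948 = N17643 := trfs L133625 L125890 rfl
theorem L141042 : N17643 = N17562 := eqes L141041 L125560
theorem L141043 : N17643 = N17562 := eqc rfl L141042 rfl
theorem L141044 : sm gf N12948 = N15510 := trfs L133625 (flp_f L113188) rfl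
theorem L141046 : sm gd N17562 = N12988 := trfs L141043 L125892 rfl
theorem L141048 : sm ge N17333 = N12987 := trfs L133614 L125872 rfl
theorem L141052 : sm ge N10323 = N9881 := trfs L133595 L94646 rfl
theorem L141060 : sm gc N11925 = N12820 := trfs L133588 L124295 rfl
theorem L141062 : sm ge N11925 = N12812 := trfs L133588 (flp_e L124291) rfl
theorem L141073 : sm gf N9875 = N10323 := trfs L133578 (flp_f L99089) rfl
theorem L141087 : sm ge N10412 = N6009 := trfs L133535 L86729 rfl
theorem L141089 : sm gf N10412 = N11821 := trfs L133535 (flp_f L94148) rfl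
theorem L141092 : sm ge N2902 = N1411 := trfs L133532 L14046 rfl
theorem L141095 : sm gb N12809 = N17645 := trfs L133520 L125902 rfl
theorem L141096 : N17645 = N17315 := eqes L141095 L124243
theorem L141097 : N17645 = N17315 := eqc rfl L141096 rfl
theorem L141098 : sm ge N12809 = N10435 := trfs L133520 L100075 rfl
theorem L141102 : sm ge N17315 = N12990 := trfs L141097 L125904 rfl
theorem L141106 : sm ge N6010 = N10321 := trfs L133517 (flp_e L99059) rfl
theorem L141116 : sm gf N11914 = N12809 := trfs L133504 (flp_f L124263) rfl
theorem L141120 : sm gb N11063 = N9874 := trfs L133501 L90884 rfl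
theorem L141123 : sm ge N11063 = N9878 := trfs L133501 L90888 rfl
theorem L141126 : sm gf N4871 = N5695 := trfs L133498 (flp_f L86063) rfl
theorem L141138 : sm ga N12845 = N11821 := trfs L133484 L113178 rfl
theorem L141140 : sm ge N12845 = N11822 := trfs L133484 L113180 rfl
theorem L141142 : sm gg N12845 = N11914 := trfs L133484 L113184 rfl
theorem L141144 : sm ga N12849 = N11099 := trfs L133399 L106346 rfl
theorem L141147 : sm gd N12849 = N14077 := trfs L133399 (flp_d L106352) rfl
theorem L141149 : sm gf N12849 = N11103 := trfs L133399 L106348 rfl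
theorem L141151 : sm gg N12849 = N11099 := trfs L133399 L106350 rfl
theorem L141153 : sm ga N8528 = N8525 := trfs L133388 (flp_a L90658) rfl
theorem L141156 : sm ge N8528 = N8526 := trfs L133388 L90662 rfl
theorem L141158 : sm ga N10341 = N8337 := trfs L133385 L90339 rfl
theorem L141165 : sm gg N10341 = N8337 := trfs L133385 L90345 rfl
theorem L141169 : sm gb N8348 = N10825 := trfs L133371 (flp_b L88974) rfl
theorem L141172 : sm ge N8348 = N4448 := trfs L133371 (flp_e L44655) rfl
theorem L141174 : sm gf N8348 = N10341 := trfs L133371 (flp_f L86152) rfl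
theorem L141180 : sm gb N3986 = N7879 := trfs L133357 (flp_b L38076) rfl
theorem L141189 : sm gb N1954 = N3774 := trfs L133343 (flp_b L18121) rfl
theorem L141191 : sm gd N1954 = N1061 := trfs L133343 (flp_d L10447) rfl
theorem L141201 : sm ga N2873 = N1950 := trfs L133326 L19507 rfl
theorem L141205 : sm gc N2873 = N1949 := trfs L133326 (flp_c L19505) rfl
theorem L141209 : sm gf N2873 = N1954 := trfs L133326 L19509 rfl
theorem L141211 : sm gg N2873 = N1950 := trfs L133326 L64970 rfl
theorem L141218 : sm gf N1973 = N1972 := trfs L133316 (flp_f L19750) rfl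
theorem L141235 : sm ge N10338 = N8337 := trfs L133304 (flp_e L90351) rfl
theorem L141241 : sm ga N1956 = N1061 := trfs L133292 L10445 rfl
theorem L141245 : sm gf N1956 = N2870 := trfs L133292 L81277 rfl
theorem L141248 : sm ga N8352 = N4448 := trfs L133289 L44651 rfl
theorem L141250 : sm gf N8352 = N10338 := trfs L133289 (flp_f L86136) rfl
theorem L141254 : sm ga N2134 = N4087 := trfs L133281 L41202 rfl
theorem L141344 : sm gc N1060 = N1956 := trfs L133151 (flp_c L19567) rfl
theorem L141517 : sm gb N2268 = N2420 := trfs L132777 (flp_b L24284) rfl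
theorem L141593 : sm gd N3905 = N4370 := trfs L132577 (flp_d L43926) rfl
theorem L141603 : sm gf N10914 = N16526 := trfs L132555 (flp_f L118629) rfl
theorem L141604 : N16526 = N13817 := eqes L141603 (flp_f L104672)
theorem L141605 : N16526 = N13817 := eqc rfl L141604 rfl
theorem L141608 : sm ge N13817 = N12334 := trfs L141605 (flp_e L118625) rfl
theorem L141613 : sm ge N11312 = N10914 := trfs L132543 (flp_e L104708) rfl
theorem L141622 : sm ge N10912 = N10088 := trfs L132533 (flp_e L96840) rfl
theorem L141626 : sm ge N10907 = N11309 := trfs L132492 (flp_e L108325) rfl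
theorem L141631 : sm ge N10086 = N10905 := trfs L132484 (flp_e L104585) rfl
theorem L141633 : sm ge N13803 = N12330 := trfs L132480 (flp_e L118578) rfl
theorem L141635 : sm ge N10913 = N11311 := trfs L132477 (flp_e L108337) rfl
theorem L141641 : sm ge N10906 = N11308 := trfs L132449 (flp_e L108306) rfl
theorem L141657 : sm gd N2637 = N3901 := trfs L132415 (flp_d L39489) rfl
theorem L141660 : sm gd N2090 = N1866 := trfs L132412 (flp_d L18675) rfl
theorem L141664 : sm gd N8115 = N5387 := trfs L132405 (flp_d L85076) rfl
theorem L141667 : sm gd N10089 = N10916 := trfs L132401 (flp_d L104713) rfl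
theorem L141669 : sm gd N2594 = N3878 := trfs L132398 (flp_d L39274) rfl
theorem L141705 : sm gc N1052 = N1933 := trfs L132282 (flp_c L19357) rfl
theorem L141711 : sm ga N1053 = N1933 := trfs L132276 L19345 rfl
theorem L141713 : sm gd N1053 = N1931 := trfs L132276 (flp_d L19343) rfl
theorem L141718 : sm gc N2125 = N4038 := trfs L132267 L40833 rfl
theorem L141724 : sm ga N2126 = N4038 := trfs L132261 L40807 rfl
theorem L141728 : sm ga N11077 = N9164 := trfs L132252 L92203 rfl
theorem L141729 : N9164 = N14135 := eqes L141728 (flp_a L106086)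
theorem L141730 : N14135 = N9164 := (eqc rfl L141729 rfl).symm
theorem L141731 : sm gb N11077 = N14858 := trfs L132252 L109736 rfl
theorem L141732 : N14858 = N14138 := eqes L141731 (flp_b L106101)
theorem L141733 : N14858 = N14138 := eqc rfl L141732 rfl
theorem L141734 : sm gd N11077 = N11436 := trfs L132252 (flp_d L92206) rfl
theorem L141735 : N11436 = N14142 := eqes L141734 L106121
theorem L141736 : N14142 = N11436 := (eqc rfl L141735 rfl).symm
theorem L141739 : sm gg N11077 = N12801 := trfs L132252 (flp_g L99001) rfl
theorem L141740 : N12801 = N14130 := eqes L141739 (flp_g L106061)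
theorem L141741 : N14130 = N12801 := (eqc rfl L141740 rfl).symm
theorem L141745 : sm gg N12801 = N11077 := trfs L141741 L106061 rfl
theorem L141747 : sm gd N11436 = N11077 := trfs L141736 (flp_d L106121) rfl
theorem L141750 : sm gd N14138 = N14826 := trfs L141733 L109738 rfl
theorem L141752 : sm ga N9164 = N11077 := trfs L141730 L106086 rfl
theorem L141755 : sm ge N9164 = N11073 := trfs L141730 (flp_e L106084) rfl
theorem L141756 : N11073 = N11457 := eqes L141755 L92224
theorem L141757 : N11457 = N11073 := (eqc rfl L141756 rfl).symm
theorem L141760 : sm gb N11073 = N14862 := trfs L141757 (flp_b L109755) rfl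
theorem L141761 : N14862 = N14134 := eqes L141760 L106080
theorem L141762 : N14862 = N14134 := eqc rfl L141761 rfl
theorem L141767 : sm ge N11073 = N9164 := trfs L141757 (flp_e L92224) rfl
theorem L141770 : sm gg N11073 = N12808 := trfs L141757 (flp_g L99051) rfl
theorem L141771 : N12808 = N14126 := eqes L141770 (flp_g L106029)
theorem L141772 : N14126 = N12808 := (eqc rfl L141771 rfl).symm
theorem L141776 : sm gd N12808 = N14030 := trfs L141772 (flp_d L106031) rfl
theorem L141777 : N14030 = N17314 := eqes L141776 L124239
theorem L141778 : N17314 = N14030 := (eqc rfl L141777 rfl).symm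
theorem L141781 : sm gg N12808 = N11073 := trfs L141772 L106029 rfl
theorem L141783 : sm gd N14030 = N12808 := trfs L141778 (flp_d L124239) rfl
theorem L141787 : sm ge N14134 = N11455 := trfs L141762 (flp_e L109753) rfl
theorem L141790 : sm ga N4431 = N8309 := trfs L132246 L90197 rfl
theorem L141801 : sm gb N8305 = N10814 := trfs L132230 (flp_b L88895) rfl
theorem L141803 : sm ge N8305 = N4431 := trfs L132230 (flp_e L44492) rfl
theorem L141808 : sm ga N3959 = N5829 := trfs L132220 L86240 rfl
theorem L141812 : sm gf N3959 = N5829 := trfs L132220 L86244 rfl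
theorem L141814 : sm ga N11069 = N12808 := trfs L132217 L124175 rfl
theorem L141816 : sm ge N11069 = N12801 := trfs L132217 (flp_e L124173) rfl
theorem L141818 : sm gf N11069 = N12808 := trfs L132217 L124179 rfl
theorem L141820 : sm ga N10320 = N8294 := trfs L132214 L90159 rfl
theorem L141825 : sm gf N10320 = N8294 := trfs L132214 L90163 rfl
theorem L141827 : sm gg N10320 = N8305 := trfs L132214 L90165 rfl
theorem L141829 : sm ge N11181 = N11184 := trfs L132165 L106999 rfl
theorem L141831 : sm gf N11181 = N14326 := trfs L132165 (flp_f L107077) rfl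
theorem L141832 : N14326 = N14178 := eqes L141831 (flp_f L106316)
theorem L141833 : N14326 = N14178 := eqc rfl L141832 rfl
theorem L141834 : sm gg N11181 = N11179 := trfs L132165 (flp_g L106995) rfl
theorem L141837 : sm ge N14178 = N11980 := trfs L141833 L107075 rfl
theorem L141841 : sm ge N10316 = N8294 := trfs L132162 (flp_e L90171) rfl
theorem L141844 : sm gg N10316 = N8309 := trfs L132162 L90173 rfl
theorem L141849 : sm gf N4096 = N4115 := trfs L132149 (flp_f L41494) rfl
theorem L141852 : sm gg N5688 = N4038 := trfs L132146 L40681 rfl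
theorem L141854 : sm ga N8552 = N8555 := trfs L132136 L90808 rfl
theorem L141857 : sm gg N8552 = N8553 := trfs L132136 (flp_g L90806) rfl
theorem L141861 : sm gc N8289 = N4138 := trfs L132133 (flp_c L41699) rfl
theorem L141865 : sm ga N11091 = N9911 := trfs L132120 L90315 rfl
theorem L141867 : sm gd N11091 = N8333 := trfs L132120 L90317 rfl
theorem L141872 : sm gb N4064 = N8333 := trfs L132116 L87016 rfl
theorem L141874 : sm gc N4064 = N6043 := trfs L132116 (flp_c L87008) rfl
theorem L141876 : sm gg N4064 = N8334 := trfs L132116 L87014 rfl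
theorem L141879 : sm gg N8330 = N11091 := trfs L132108 (flp_g L106296) rfl
theorem L141881 : sm ga N4097 = N4115 := trfs L132105 (flp_a L41484) rfl
theorem L141888 : sm gc N8332 = N4115 := trfs L132099 (flp_c L41488) rfl
theorem L141893 : sm ga N1974 = N1972 := trfs L132090 (flp_a L19742) rfl
theorem L141895 : sm gd N1974 = N1973 := trfs L132090 L19744 rfl
theorem L141901 : sm ga N4112 = N4138 := trfs L132066 (flp_a L41695) rfl
theorem L141904 : sm gd N1986 = N1987 := trfs L132063 L19852 rfl
theorem L141912 : sm ga N1927 = N2818 := trfs L132057 L28253 rfl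
theorem L141914 : sm gd N1927 = N2815 := trfs L132057 (flp_d L28251) rfl
theorem L141916 : sm gf N1927 = N2818 := trfs L132057 (flp_f L81845) rfl
theorem L141918 : sm ga N1985 = N1987 := trfs L132054 L19860 rfl
theorem L141920 : sm gc N1985 = N4018 := trfs L132054 L19862 rfl
theorem L141923 : sm gg N1985 = N1986 := trfs L132054 (flp_g L19858) rfl
theorem L141928 : sm gc N4067 = N1972 := trfs L132044 (flp_c L19746) rfl
theorem L141930 : sm gd N4067 = N2425 := trfs L132044 L83128 rfl
theorem L141934 : sm gc N4016 = N2425 := trfs L132041 L71396 rfl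
theorem L141936 : sm ge N4016 = N8290 := trfs L132041 (flp_e L40033) rfl
theorem L141938 : sm gf N4016 = N1924 := trfs L132041 (flp_f L19301) rfl
theorem L141940 : sm ga N4065 = N2425 := trfs L132038 L71404 rfl
theorem L141944 : sm ge N4065 = N8333 := trfs L132038 (flp_e L40279) rfl
theorem L141946 : sm gg N4065 = N1947 := trfs L132038 (flp_g L19499) rfl
theorem L141948 : sm gd N365 = N716 := trfs L132011 L6987 rfl
theorem L141972 : sm gb N2368 = N2881 := trfs L131954 L28793 rfl
theorem L141977 : sm ge N9914 = N10343 := trfs L131951 (flp_e L99309) rfl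
theorem L141980 : sm gb N5754 = N4913 := trfs L131948 L72215 rfl
theorem L141982 : sm gg N5754 = N4914 := trfs L131948 L72229 rfl
theorem L141986 : sm ga N10479 = N11092 := trfs L131934 (flp_a L90293) rfl
theorem L141990 : sm gf N10479 = N7801 := trfs L131934 (flp_f L88954) rfl
theorem L141992 : sm gg N10479 = N10814 := trfs L131934 L88960 rfl
theorem L141997 : sm gb N12855 = N17816 := trfs L131923 L126682 rfl
theorem L141998 : N17816 = N17409 := eqes L141997 L124736
theorem L141999 : N17816 = N17409 := eqc rfl L141998 rfl
theorem L142000 : sm ge N12855 = N10480 := trfs L131923 L100487 rfl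
theorem L142003 : sm ge N17409 = N13072 := trfs L141999 L126684 rfl
theorem L142005 : sm ge N7802 = N10479 := trfs L131920 L100481 rfl
theorem L142007 : sm gb N9763 = N10320 := trfs L131911 L99021 rfl
theorem L142010 : sm ge N9763 = N10317 := trfs L131911 (flp_e L99019) rfl
theorem L142013 : sm ga N12803 = N11864 := trfs L131907 L113606 rfl
theorem L142015 : sm ge N12803 = N11865 := trfs L131907 L113608 rfl
theorem L142021 : sm gf N11975 = N12803 := trfs L131890 (flp_f L124193) rfl
theorem L142025 : sm gb N11093 = N9907 := trfs L131887 L90864 rfl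
theorem L142027 : sm ge N11093 = N9911 := trfs L131887 L90868 rfl
theorem L142029 : sm gb N12850 = N17819 := trfs L131877 L126698 rfl
theorem L142030 : N17819 = N17394 := eqes L142029 L124644
theorem L142031 : N17819 = N17394 := eqc rfl L142030 rfl
theorem L142032 : sm ge N12850 = N10482 := trfs L131877 L100499 rfl
theorem L142034 : sm gg N12850 = N11975 := trfs L131877 L100501 rfl
theorem L142036 : sm ge N17394 = N13075 := trfs L142031 L126700 rfl
theorem L142039 : sm ge N6042 = N10342 := trfs L131874 (flp_e L99293) rfl
theorem L142042 : sm ge N5750 = N4913 := trfs L131871 L84089 rfl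
theorem L142046 : sm ge N6029 = N2923 := trfs L131852 L29273 rfl
theorem L142050 : sm ga N9761 = N10317 := trfs L131840 L86840 rfl
theorem L142053 : sm gg N9761 = N6029 := trfs L131840 L86838 rfl
theorem L142057 : sm gc N5694 = N4832 := trfs L131837 L83457 rfl
theorem L142063 : sm ga N2328 = N2369 := trfs L131834 (flp_a L71540) rfl
theorem L142065 : sm gg N4909 = N5750 := trfs L131824 (flp_g L86182) rfl
theorem L142068 : sm gb N4950 = N8289 := trfs L131821 L86053 rfl
theorem L142071 : sm gf N4950 = N5694 := trfs L131821 (flp_f L86043) rfl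
theorem L142073 : sm gg N4950 = N5745 := trfs L131821 L86051 rfl
theorem L142076 : sm gb N4951 = N8332 := trfs L131815 L86023 rfl
theorem L142082 : sm gg N4951 = N5749 := trfs L131815 L86021 rfl
theorem L142085 : sm gg N2774 = N2419 := trfs L131797 (flp_g L24280) rfl
theorem L142088 : sm gd N1815 = N2981 := trfs L131778 L29752 rfl
theorem L142090 : sm ga N5690 = N4832 := trfs L131769 (flp_a L83801) rfl
theorem L142093 : sm gf N5690 = N4951 := trfs L131769 L83807 rfl
theorem L142095 : sm gb N2331 = N2818 := trfs L131766 L28271 rfl
theorem L142098 : sm gd N2331 = N2817 := trfs L131766 (flp_d L28269) rfl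
theorem L142102 : sm ga N2329 = N2817 := trfs L131760 (flp_a L52236) rfl
theorem L142111 : sm gb N2388 = N4067 := trfs L131739 L81909 rfl
theorem L142113 : sm gf N2388 = N2817 := trfs L131739 (flp_f L28273) rfl
theorem L142117 : sm ga N4772 = N5745 := trfs L131727 (flp_a L74039) rfl
theorem L142120 : sm gc N4772 = N5749 := trfs L131727 (flp_c L81874) rfl
theorem L142125 : sm gc N2876 = N2298 := trfs L131723 (flp_c L83204) rfl
theorem L142127 : sm gd N2876 = N1447 := trfs L131723 L14358 rfl
theorem L142130 : sm gg N2876 = N2388 := trfs L131723 (flp_g L83107) rfl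
theorem L142132 : sm ga N2872 = N2298 := trfs L131719 (flp_a L23080) rfl
theorem L142139 : sm gf N2903 = N4772 := trfs L131712 (flp_f L81972) rfl
theorem L142141 : sm gd N1440 = N720 := trfs L131707 L7012 rfl
theorem L142143 : sm gg N1440 = N2329 := trfs L131707 (flp_g L77961) rfl
theorem L142153 : sm gd N361 = N709 := trfs L131690 L6934 rfl
theorem L142156 : sm gb N1181 = N1397 := trfs L131680 L13904 rfl
theorem L142158 : sm gd N1181 = N1396 := trfs L131680 (flp_d L13902) rfl
theorem L142161 : sm gc N2821 = N2329 := trfs L131677 (flp_c L83201) rfl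
theorem L142163 : sm gd N2821 = N1433 := trfs L131677 L14237 rfl
theorem L142167 : sm gb N2387 = N4018 := trfs L131669 L81953 rfl
theorem L142169 : sm gf N2387 = N2821 := trfs L131669 (flp_f L28307) rfl
theorem L142171 : sm gg N2387 = N2872 := trfs L131669 L81957 rfl
theorem L142173 : sm gd N1446 = N2878 := trfs L131666 L28797 rfl
theorem L142176 : sm ga N2391 = N4016 := trfs L131663 (flp_a L40613) rfl
theorem L142178 : sm gc N2391 = N4065 := trfs L131663 L83192 rfl
theorem L142180 : sm gd N2391 = N4018 := trfs L131663 L40615 rfl
theorem L142189 : sm gb N2300 = N2873 := trfs L131640 L28745 rfl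
theorem L142191 : sm gd N2300 = N2872 := trfs L131640 (flp_d L28743) rfl
theorem L142194 : sm gb N9703 = N10341 := trfs L131637 L99263 rfl
theorem L142196 : sm ge N9703 = N10339 := trfs L131637 (flp_e L99261) rfl
theorem L142199 : sm gb N4730 = N5829 := trfs L131634 L86250 rfl
theorem L142202 : sm ga N5934 = N3982 := trfs L131631 L40291 rfl
theorem L142204 : sm gb N5934 = N4699 := trfs L131631 L64979 rfl
theorem L142206 : sm gc N5934 = N3981 := trfs L131631 (flp_c L40289) rfl
theorem L142208 : sm gf N5934 = N3986 := trfs L131631 L40295 rfl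
theorem L142210 : sm gg N5934 = N3982 := trfs L131631 L64982 rfl
theorem L142216 : sm gd N1432 = N2824 := trfs L131622 L28331 rfl
theorem L142219 : sm ge N6008 = N10326 := trfs L131619 L99111 rfl
theorem L142223 : sm gc N6011 = N4015 := trfs L131613 L69582 rfl
theorem L142225 : sm gf N6011 = N7879 := trfs L131613 (flp_f L78586) rfl
theorem L142227 : sm gg N6011 = N3746 := trfs L131613 (flp_g L37657) rfl
theorem L142232 : sm gd N1165 = N1366 := trfs L131601 (flp_d L13644) rfl
theorem L142236 : sm ge N4875 = N5695 := trfs L131598 (flp_e L86057) rfl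
theorem L142359 : sm ge N1409 = N2900 := trfs L131266 (flp_e L29036) rfl
theorem L142368 : sm ge N17538 = N12957 := trfs L131227 L125640 rfl
theorem L142376 : sm ge N6000 = N10404 := trfs L131220 (flp_e L99836) rfl
theorem L142391 : sm gc N12932 = N17568 := trfs L131212 (flp_c L125582) rfl
theorem L142392 : N17568 = N17531 := eqes L142391 L125404
theorem L142393 : N17568 = N17531 := eqc rfl L142392 rfl
theorem L142394 : sm ge N12932 = N10413 := trfs L131212 (flp_e L99925) rfl
theorem L142396 : sm gf N12932 = N17572 := trfs L131212 L125596 rfl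
theorem L142397 : N17572 = N17533 := eqes L142396 L125410
theorem L142398 : N17572 = N17533 := eqc rfl L142397 rfl
theorem L142404 : sm ge N17533 = N12952 := trfs L142398 L125598 rfl
theorem L142406 : sm ge N17531 = N12950 := trfs L142393 (flp_e L125580) rfl
theorem L142410 : sm ge N10416 = N12935 := trfs L131205 L125434 rfl
theorem L142414 : sm ge N17539 = N12958 := trfs L131197 L125644 rfl
theorem L142433 : sm gc N10406 = N12834 := trfs L131161 (flp_c L99187) rfl
theorem L142435 : sm ge N10406 = N6002 := trfs L131161 L86677 rfl
theorem L142438 : sm gc N17354 = N12934 := trfs L131155 L125238 rfl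
theorem L142442 : sm ga N12833 = N17495 := trfs L131148 (flp_a L125224) rfl
theorem L142443 : N17495 = N17353 := eqes L142442 (flp_a L124439)
theorem L142444 : N17495 = N17353 := eqc rfl L142443 rfl
theorem L142445 : sm gc N12833 = N17499 := trfs L131148 L125246 rfl
theorem L142446 : N17499 = N17367 := eqes L142445 L124507
theorem L142447 : N17499 = N17367 := eqc rfl L142446 rfl
theorem L142449 : sm ga N17367 = N17358 := trfs L142447 L125248 rfl
theorem L142451 : sm gd N17367 = N17349 := trfs L142447 L125250 rfl
theorem L142453 : sm gc N17353 = N17358 := trfs L142444 L125226 rfl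
theorem L142456 : sm gc N5993 = N10331 := trfs L131145 (flp_c L86099) rfl
theorem L142458 : sm ge N5993 = N2904 := trfs L131145 (flp_e L29079) rfl
theorem L142464 : sm gc N12826 = N10404 := trfs L131141 L99733 rfl
theorem L142475 : sm gc N17355 = N12935 := trfs L131123 L125244 rfl
theorem L142488 : sm ge N9682 = N9882 := trfs L131062 L94650 rfl
theorem L142506 : sm ga N2297 = N2352 := trfs L131019 L78518 rfl
theorem L142510 : sm ga N9698 = N9882 := trfs L131016 L86564 rfl
theorem L142513 : sm ga N9701 = N10339 := trfs L131013 L86593 rfl
theorem L142515 : sm gf N9701 = N5997 := trfs L131013 L86591 rfl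
theorem L142517 : sm ga N4876 = N4696 := trfs L131010 L80843 rfl
theorem L142529 : sm gb N1407 = N2749 := trfs L130997 (flp_b L13257) rfl
theorem L142531 : sm ge N1407 = N701 := trfs L130997 (flp_e L6862) rfl
theorem L142534 : sm gb N5699 = N4875 := trfs L130994 L83447 rfl
theorem L142537 : sm gf N5699 = N4876 := trfs L130994 (flp_f L83309) rfl
theorem L142547 : sm gb N1371 = N699 := trfs L130955 (flp_b L6840) rfl
theorem L142549 : sm gc N1371 = N2352 := trfs L130955 (flp_c L11366) rfl
theorem L142553 : sm gc N1166 = N682 := trfs L130952 (flp_c L6695) rfl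
theorem L142562 : sm gb N358 = N682 := trfs L130949 (flp_b L3440) rfl
theorem L142567 : sm gb N1367 = N1165 := trfs L130946 L81997 rfl
theorem L142571 : sm gf N1367 = N1166 := trfs L130946 L82001 rfl
theorem L142575 : sm gd N179 = N358 := trfs L130935 (flp_d L3555) rfl
theorem L142578 : sm ga N1120 = N1166 := trfs L130927 L81928 rfl
theorem L142596 : sm gf N2744 = N2385 := trfs L130861 (flp_f L23986) rfl
theorem L142600 : sm gb N1116 = N1163 := trfs L130852 (flp_b L11539) rfl
theorem L142602 : sm gd N1116 = N1166 := trfs L130852 L11541 rfl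
theorem L142605 : sm gb N4688 = N4872 := trfs L130849 (flp_b L83935) rfl
theorem L142607 : sm ge N4688 = N4876 := trfs L130849 L83939 rfl
theorem L142611 : sm gb N2386 = N2254 := trfs L130843 (flp_b L22629) rfl
theorem L142625 : sm gd N1114 = N1186 := trfs L130774 L11749 rfl
theorem L142628 : sm gg N1114 = N1184 := trfs L130774 (flp_g L11747) rfl
theorem L142630 : sm gb N1115 = N1186 := trfs L130770 L11571 rfl
theorem L142633 : sm gg N1115 = N1166 := trfs L130770 (flp_g L11567) rfl
theorem L142635 : sm gb N2289 = N2438 := trfs L130760 L23605 rfl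
theorem L142638 : sm gg N2289 = N2352 := trfs L130760 (flp_g L23599) rfl
theorem L142640 : sm gb N4687 = N5054 := trfs L130749 L83965 rfl
theorem L142642 : sm gg N4687 = N4876 := trfs L130749 (flp_g L83959) rfl
theorem L142659 : sm gg N11782 = N11998 := trfs L130705 (flp_g L114842) rfl
theorem L142662 : sm ge N4684 = N5054 := trfs L130702 L84184 rfl
theorem L142665 : sm gg N4684 = N5051 := trfs L130702 (flp_g L84179) rfl
theorem L142667 : sm gb N13294 = N12005 := trfs L130682 (flp_b L114912) rfl
theorem L142668 : N12005 = N15443 := eqes L142667 (flp_b L119765)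
theorem L142669 : N15443 = N12005 := (eqc rfl L142668 rfl).symm
theorem L142670 : sm gd N13294 = N12006 := trfs L130682 L114914 rfl
theorem L142673 : sm gb N12005 = N13294 := trfs L142669 L119765 rfl
theorem L142678 : sm gc N10736 = N12006 := trfs L130679 L114193 rfl
theorem L142681 : sm ge N9929 = N9676 := trfs L130676 (flp_e L93924) rfl
theorem L142684 : sm ga N10742 = N12006 := trfs L130673 (flp_a L114916) rfl
theorem L142686 : sm gg N18474 = N18477 := ded_31_0 (flp_f L130660) (flp_b L102950) (flp_g L88560) L88556 L102942 L119714 (flp_f L114897) (flp_b L130666) (flp_g L130689) (flp_f L130692) L88510 L102854 L102948 L130652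
theorem L142688 : sm gb N15870 = N18163 := ded_14_3 L128603 L130666 (flp_d L114885)
theorem L142690 : sm gb N15859 = N15440 := ded_15_3 L119767 L130666 (flp_e L114833)
theorem L142692 : sm ga N14315 = N14310 := ded_9_3 (flp_d L106993) L132199 (flp_d L107015)
theorem L142694 : sm gc N14122 = N14310 := ded_28_6 (flp_d L106993) L132199 L90818 L41442 L19712 (flp_d L40009) L90133 L106001
theorem L142696 : sm ge N14185 = N17382 := ded_15_2 (flp_b L124584) L133407 L106366
theorem L142698 : sm gd N14198 = N14839 := ded_22_5 (flp_e L109636) L133426 (flp_e L90397) L90390 L106437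
theorem L142700 : sm gd N14892 = N14085 := ded_22_3 (flp_e L105800) L90377 L133448 L92290 L109893
theorem L142702 : sm gf N17326 = N15699 := ded_25_2 (flp_e L114113) L133646 L124313
theorem L142704 : sm gg N17385 = N15698 := ded_29_3 L114111 L133646 L124319 (flp_f L124606)
theorem L142706 : sm gc N15673 = N15456 := ded_19_3 (flp_e L119807) L133810 (flp_e L114007)
theorem L142708 : sm gc N15460 = N15669 := ded_19_1 L113983 L114063 L133817
theorem L142710 : sm ge N15685 = N17323 := ded_19_2 L124299 (flp_e L124377) L133821
theorem L142712 : sm gc N15458 = N15671 := ded_8_2 (flp_a L113995) L133833 L112908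
theorem L142714 : sm gb N15796 = N17401 := ded_17_3 (flp_g L124682) (flp_b L99303) L136767 (flp_b L94857) L114536
theorem L142716 : sm ge N17397 = N15843 := ded_10_2 (flp_a L114752) L136778 L124664
theorem L142718 : sm ge N17400 = N15844 := ded_25_3 (flp_f L114754) L136778 L124678
theorem L142720 : sm ge N17401 = N15813 := ded_26_3 L114608 L136778 L124682
theorem L142722 : sm gc N15539 = N15797 := ded_19_1 L114544 L114624 L137019
theorem L142724 : sm gb N15518 = N15893 := ded_16_3 (flp_f L114995) (flp_b L95125) L137186 L94166 L113234
theorem L142726 : sm gf N15895 = N15520 := ded_25_2 (flp_e L113243) L137196 L115008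
theorem L142730 : sm ge N15518 = N15906 := ded_25_3 L115062 L137205 L113234
theorem L142734 : sm gd N15520 = N15909 := ded_22_3 L115082 L95170 L137211 L94170 L113243
theorem L142738 : sm gc N15534 = N15801 := ded_19_1 L114568 (flp_c L114656) L137253
theorem L142740 : sm gc N15537 = N15799 := ded_19_1 L114558 L114638 L137260
theorem L142746 : sm gg N17646 = N14688 := ded_17_2 (flp_b L109015) L91878 (flp_b L119526) L139026 L125906
theorem L142748 : sm ge N17646 = N13631 := ded_15_2 (flp_b L103600) L139035 L125906
theorem L142750 : sm gd N17646 = N14753 := ded_14_2 L109283 L139049 L125906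
theorem L142752 : sm gf N14259 = N14262 := ded_23_2 (flp_d L106769) L139135 L106759
theorem L142754 : sm ga N14259 = N14266 := ded_9_3 L106793 L139151 L106759
theorem L142756 : sm gc N14179 = N14259 := ded_28_6 (flp_d L106759) (flp_a L139151) L90692 L41304 L19619 (flp_d L40257) L90309 L106320
theorem L142758 : sm ge N14261 = N14267 := ded_15_2 (flp_b L106795) L139154 L106767
theorem L142760 : sm gf N17821 = N13646 := ded_23_2 (flp_d L103686) L139761 L126706
theorem L142762 : N17827 = N17812 := coi_30_8 L126666 (flp_c L124646) (flp_b L124644) L99289 L99313 L99317 L86178 (flp_a L40263) (flp_f L40267) L88914 L103632 L129617 L139761 (flp_c L100503) (flp_b L86988) (flp_a L29275) L29281 (flp_c L87004) L100519 L126730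
theorem L142763 : N17827 = N17812 := eqc rfl L142762 rfl
theorem L142764 : sm ga N17812 = N13075 := trfs L142763 (flp_a L126730) rfl
theorem L142766 : sm ge N17820 = N13648 := ded_15_2 (flp_b L103698) L139764 L126702
theorem L142768 : sm ge N15716 = N17324 := ded_19_2 L124303 (flp_e L124381) L140965
theorem L142770 : sm gc N17650 = N14688 := ded_13_2 (flp_b L109015) (flp_c L108997) (flp_b L124383) L140965 (flp_b L125918)
theorem L142772 : sm ge N15715 = N17320 := ded_19_2 L124285 L124353 L140974
theorem L142774 : sm gf N17304 = N15826 := ded_29_0 (flp_g L141018) L124652 L141036 L141023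
theorem L142776 : sm gg N17403 = N15827 := ded_26_2 (flp_e L114676) L141021 L124696
theorem L142778 : sm gd N15713 = N17326 := ded_22_3 (flp_e L124313) (flp_d L99083) L141052 (flp_d L94684) (flp_e L114173)
theorem L142780 : sm gb N17323 = N15668 := ded_16_3 (flp_f L113975) L94578 L141073 L99079 L124297
theorem L142782 : sm ge N15511 = N17384 := ded_15_2 (flp_b L124600) L141140 L113192
theorem L142784 : sm ge N13819 = N14553 := ded_10_2 L108332 L141613 (flp_a L104684)
theorem L142786 : sm ge N13821 = N14555 := ded_15_2 (flp_b L108346) L141613 L104698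
theorem L142788 : sm ge N14548 = N13805 := ded_10_2 L104593 L141626 (flp_a L108301)
theorem L142790 : sm ge N14550 = N13807 := ded_15_2 (flp_b L104605) L141626 L108315
theorem L142792 : sm gd N14141 = N14827 := ded_22_5 (flp_e L109577) L141747 (flp_e L90213) L90206 L106114
theorem L142794 : sm gd N14865 = N14038 := ded_22_3 (flp_e L105599) L90193 L141767 L92217 L109762
theorem L142796 : sm ge N17301 = N14128 := ded_15_2 (flp_b L106045) L141816 L124167
theorem L142798 : sm ge N14316 = N14312 := ded_15_2 (flp_b L107001) L141829 L107017
theorem L142800 : sm gg N14310 = N14264 := ded_24_2 L106787 L141834 L106993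
theorem L142802 : sm gd N17403 = N15841 := ded_22_3 L114744 L94969 L141977 L99307 L124696
theorem L142804 : sm gc N17310 = N15590 := ded_13_4 (flp_b L113620) (flp_c L94403) L142007 (flp_c L99049) (flp_b L124221)
theorem L142806 : sm ge N15590 = N17303 := ded_15_2 (flp_b L124183) L142015 L113620
theorem L142808 : sm gc N17389 = N15511 := ded_13_4 (flp_b L113192) (flp_c L94152) L142194 (flp_c L99283) (flp_b L124622)
theorem L142810 : sm gg N15860 = N15441 := ded_26_2 (flp_e L112815) L142659 L114835
theorem L142812 : sm gb N14337 = N15874 := ded_15_3 L114909 L142673 (flp_e L107158)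
theorem L142814 : sm gd N15441 = N15874 := ded_22_3 L114909 L95076 L142681 L93919 L112815
theorem L142816 : sm gf N17828 = N17828 := ded_29_2 (flp_g L126732) (flp_a L142764) L126666 L126732
theorem L142817 : sm gg N13489 = N18478 := rfl
theorem L142819 : sm ga N18478 = N15615 := ded_12_1 (flp_g L113745) (flp_a L119310) L142817
theorem L142821 : sm gc N18478 = N15611 := ded_21_1 (flp_g L113727) (flp_c L119312) L142817
theorem L142823 : sm ge N18478 = N13495 := ded_26_1 (flp_g L102996) (flp_e L102962) L142817
theorem L142825 : sm gb N13490 = N18479 := rfl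
theorem L142827 : sm ge N18479 = N13496 := ded_15_2 (flp_b L103000) (flp_e L102968) L142825
theorem L142829 : sm ga N13491 = N18480 := rfl
theorem L142831 : sm ge N18480 = N13497 := ded_10_2 (flp_a L103004) (flp_e L102974) L142829
theorem L142833 : sm gg N18480 = N13521 := ded_12_2 (flp_a L103104) (flp_g L102976) L142829
theorem L142835 : sm gc N15787 = N18480 := ded_19_3 L142831 (flp_c L129598) (flp_e L114494)
theorem L142837 : sm gc N13491 = N18481 := rfl
theorem L142839 : sm ga N18481 = N15787 := ded_8_1 L142835 (flp_a L142829) L142837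
theorem L142841 : sm ge N18481 = N13498 := ded_19_2 (flp_c L103010) (flp_e L102974) L142837
theorem L142845 : sm gd N15915 = N18481 := ded_9_0 L142839 L114492 (flp_a L115106)
theorem L142847 : sm gf N13491 = N18482 := rfl
theorem L142849 : sm ge N18482 = N13499 := ded_25_1 (flp_f L103014) (flp_e L102974) L142847
theorem L142851 : sm gg N13494 = N18483 := rfl
theorem L142853 : sm ga N18483 = N15618 := ded_12_1 (flp_g L113757) (flp_a L119795) L142851
theorem L142855 : sm gc N18483 = N13495 := ded_21_1 (flp_g L102996) L102992 L142851
theorem L142857 : sm gd N18483 = N14241 := ded_24_1 L106679 (flp_d L120241) L142851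
theorem L142859 : sm ge N18483 = N15611 := ded_26_1 (flp_g L113727) (flp_e L119797) L142851
theorem L142861 : sm gf N14238 = N18483 := ded_29_0 (flp_g L142851) L102994 L103140 (flp_a L120420)
theorem L142863 : sm gb N13495 = N18484 := rfl
theorem L142865 : sm gd N18484 = N13505 := ded_14_2 (flp_b L103040) (flp_d L102998) L142863
theorem L142867 : sm gg N18484 = N13496 := ded_17_2 (flp_b L103000) (flp_g L88578) L88572 L102996 L142863
theorem L142869 : sm ga N13496 = N18485 := rfl
theorem L142871 : sm gd N18485 = N13506 := ded_9_2 (flp_a L103044) (flp_d L103002) L142869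
theorem L142873 : sm gc N13496 = N18486 := rfl
theorem L142875 : sm gf N13496 = N18487 := rfl
theorem L142879 : sm gb N18487 = N18459 := ded_16_1 (flp_f L130568) (flp_b L102878) L88582 L103000 L142875
theorem L142881 : sm gb N13497 = N18488 := rfl
theorem L142883 : sm gd N18488 = N13509 := ded_14_2 (flp_b L103054) (flp_d L103006) L142881
theorem L142885 : sm gf N13498 = N18489 := rfl
theorem L142887 : sm gc N18489 = N13499 := ded_20_1 (flp_f L103014) L103010 L142885
theorem L142889 : sm gd N18489 = N14291 := ded_23_1 (flp_f L106903) (flp_d L129590) L142885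
theorem L142891 : sm gg N18489 = N14288 := ded_29_3 (flp_a L129592) (flp_f L103190) (flp_g L103012) L142885
theorem L142893 : sm gb N13499 = N18490 := rfl
theorem L142895 : sm gd N18490 = N13513 := ded_14_2 (flp_b L103072) (flp_d L103016) L142893
theorem L142897 : sm gf N18490 = N13500 := ded_16_2 (flp_b L103018) (flp_f L88590) L88584 L103014 L142893
theorem L142899 : sm gc N15696 = N18490 := ded_20_3 L142897 L133810 L114097
theorem L142901 : sm ga N13500 = N18491 := rfl
theorem L142903 : sm gc N18491 = N15693 := ded_8_2 L114083 (flp_c L133810) L142901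
theorem L142905 : sm gd N18491 = N13514 := ded_9_2 (flp_a L103076) (flp_d L103020) L142901
theorem L142907 : sm gg N18491 = N15692 := ded_12_2 L114079 (flp_g L133812) L142901
theorem L142909 : sm ga N13501 = N18492 := rfl
theorem L142911 : sm gc N18492 = N15325 := ded_8_2 L112330 (flp_c L120398) L142909
theorem L142913 : sm gd N18492 = N15465 := ded_9_2 L120513 (flp_d L120400) L142909
theorem L142915 : sm gf N18492 = N15323 := ded_11_2 L112322 (flp_f L120402) L142909
theorem L142917 : sm gb N18492 = N15471 := ded_7_2 L112986 L94050 L119278 (flp_b L88542) L37165 L37189 L88598 L103022 L142909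
theorem L142919 : sm gg N13501 = N18493 := rfl
theorem L142921 : sm gc N18493 = N15334 := ded_21_1 (flp_g L112364) (flp_c L120398) L142919
theorem L142923 : sm gb N13504 = N18494 := rfl
theorem L142925 : sm gg N18494 = N13868 := ded_17_2 (flp_b L104915) (flp_g L89638) (flp_b L88606) L103036 L142923
theorem L142927 : sm ga N13505 = N18495 := rfl
theorem L142929 : sm gg N18495 = N13506 := ded_12_2 (flp_a L103044) (flp_g L103042) L142927
theorem L142931 : sm gc N13505 = N18496 := rfl
theorem L142933 : sm gg N18496 = N13507 := ded_21_2 (flp_c L103046) (flp_g L103042) L142931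
theorem L142935 : sm gf N13505 = N18497 := rfl
theorem L142937 : sm gb N13506 = N18498 := rfl
theorem L142939 : sm gc N13506 = N18499 := rfl
theorem L142941 : sm ga N18499 = N13507 := ded_8_1 (flp_c L103046) L103044 L142939
theorem L142943 : sm gf N13506 = N18500 := rfl
theorem L142945 : sm ga N18500 = N13508 := ded_11_1 (flp_f L103050) L103044 L142943
theorem L142947 : sm gg N18497 = N18500 := ded_29_1 (flp_f L142943) (flp_g L142929) (flp_a L142927) L142935
theorem L142949 : sm gd N13507 = N18501 := rfl
theorem L142951 : sm gb N18501 = N13875 := ded_14_1 (flp_d L104939) (flp_b L103048) L142949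
theorem L142953 : sm gf N13507 = N18502 := rfl
theorem L142955 : sm gc N18502 = N13508 := ded_20_1 (flp_f L103050) L103046 L142953
theorem L142957 : sm gg N13508 = N18503 := rfl
theorem L142959 : sm ga N18503 = N18497 := ded_12_1 L142947 L142945 L142957
theorem L142961 : sm gf N18495 = N18503 := ded_29_0 (flp_g L142957) (flp_f L103050) (flp_g L103042) L142927
theorem L142963 : sm ga N13509 = N18504 := rfl
theorem L142965 : sm gc N13509 = N18505 := rfl
theorem L142967 : sm gf N13509 = N18506 := rfl
theorem L142969 : sm gg N13509 = N18507 := rfl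
theorem L142971 : sm gb N18507 = N13571 := ded_17_1 (flp_g L103314) (flp_b L88724) (flp_g L88614) L103054 L142969
theorem L142973 : sm gb N13510 = N18508 := rfl
theorem L142975 : sm gd N13510 = N18509 := rfl
theorem L142977 : sm ga N18509 = N13511 := ded_9_1 (flp_d L103062) (flp_a L103058) L142975
theorem L142979 : sm gg N18509 = N13573 := ded_24_2 (flp_d L103318) (flp_g L103060) L142975
theorem L142987 : sm ge N13511 = N18511 := rfl
theorem L142989 : sm gb N18511 = N13884 := ded_15_1 (flp_e L104971) (flp_b L103064) L142987
theorem L142991 : sm gg N18511 = N13577 := ded_26_2 (flp_e L103334) (flp_g L103066) L142987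
theorem L142993 : sm gf N13511 = N18512 := rfl
theorem L142995 : sm gd N18512 = N13512 := ded_23_1 (flp_f L103068) L103062 L142993
theorem L142997 : sm gb N13512 = N18513 := rfl
theorem L142999 : sm gf N18513 = N13886 := ded_16_2 (flp_b L104979) (flp_f L89666) (flp_b L88620) L103068 L142997
theorem L143001 : sm ga N13513 = N18514 := rfl
theorem L143003 : sm gf N18514 = N13514 := ded_11_2 (flp_a L103076) (flp_f L103074) L143001
theorem L143005 : sm gc N13513 = N18515 := rfl
theorem L143007 : sm gf N18515 = N13515 := ded_20_2 (flp_c L103078) (flp_f L103074) L143005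
theorem L143009 : sm gg N13513 = N18516 := rfl
theorem L143011 : sm gb N13514 = N18517 := rfl
theorem L143013 : sm gc N13514 = N18518 := rfl
theorem L143015 : sm ga N18518 = N13515 := ded_8_1 (flp_c L103078) L103076 L143013
theorem L143017 : sm gg N13514 = N18519 := rfl
theorem L143019 : sm ga N18519 = N13516 := ded_12_1 (flp_g L103082) L103076 L143017
theorem L143021 : sm gd N18519 = N15692 := ded_24_1 (flp_g L142907) L142905 L143017
theorem L143023 : sm gf N18519 = N18516 := ded_29_2 (flp_g L143009) L143001 L143003 L143017
theorem L143025 : sm gd N13515 = N18520 := rfl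
theorem L143027 : sm gb N18520 = N13893 := ded_14_1 (flp_d L105003) (flp_b L103080) L143025
theorem L143029 : sm gg N13515 = N18521 := rfl
theorem L143031 : sm gc N18521 = N13516 := ded_21_1 (flp_g L103082) L103078 L143029
theorem L143033 : sm gf N13516 = N18522 := rfl
theorem L143035 : sm ga N18522 = N18516 := ded_11_1 (flp_f L143023) L143019 L143033
theorem L143037 : sm gd N18522 = N15688 := ded_23_1 L114065 (flp_d L140949) L143033
theorem L143039 : sm gg N18522 = N18514 := ded_29_3 (flp_a L143001) L103074 L103082 L143033
theorem L143041 : sm gg N13517 = N18523 := rfl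
theorem L143043 : sm ga N18523 = N13519 := ded_12_1 (flp_g L103094) L103086 L143041
theorem L143045 : sm gc N18523 = N15620 := ded_21_1 (flp_g L113765) (flp_c L119787) L143041
theorem L143047 : sm ge N18523 = N13527 := ded_26_1 (flp_g L103130) (flp_e L103088) L143041
theorem L143049 : sm gf N18478 = N18523 := ded_29_0 (flp_g L143041) L119789 L113745 (flp_a L142819)
theorem L143051 : sm gb N13519 = N18524 := rfl
theorem L143053 : sm gd N18524 = N18329 := ded_14_2 L129729 L129525 L143051
theorem L143055 : sm ge N18524 = N13530 := ded_15_2 (flp_b L103144) (flp_e L103096) L143051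
theorem L143057 : sm gg N18524 = N13520 := ded_17_2 (flp_b L103098) (flp_g L88630) L88626 L103094 L143051
theorem L143059 : sm ga N13520 = N18525 := rfl
theorem L143061 : sm gd N18525 = N18327 := ded_9_2 (flp_a L129722) (flp_d L103100) L143059
theorem L143063 : sm ge N18525 = N13532 := ded_10_2 (flp_a L103158) (flp_e L103102) L143059
theorem L143065 : sm gf N17346 = N18525 := ded_25_0 L143063 L130484 L124409
theorem L143067 : sm gc N13520 = N18526 := rfl
theorem L143069 : sm ge N18526 = N13533 := ded_19_2 (flp_c L103162) (flp_e L103102) L143067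
theorem L143071 : sm gb N18526 = N14670 := ded_13_1 (flp_c L108941) (flp_b L91840) (flp_c L88632) L103098 L143067
theorem L143073 : sm gf N13520 = N18527 := rfl
theorem L143075 : sm ga N18527 = N17346 := ded_11_1 L143065 (flp_a L143059) L143073
theorem L143077 : sm gd N18527 = N18326 := ded_23_1 L129720 (flp_d L103100) L143073
theorem L143079 : sm ge N18527 = N13534 := ded_25_1 (flp_f L103166) (flp_e L103102) L143073
theorem L143081 : sm gb N18527 = N14639 := ded_16_1 (flp_f L108759) (flp_b L91778) L88638 L103098 L143073
theorem L143083 : sm gf N13521 = N18528 := rfl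
theorem L143085 : sm ga N18528 = N13523 := ded_11_1 (flp_f L103112) L103104 L143083
theorem L143087 : sm gc N18528 = N15786 := ded_20_1 (flp_f L114484) (flp_c L129574) L143083
theorem L143089 : sm ge N18528 = N13537 := ded_25_1 (flp_f L103180) (flp_e L103106) L143083
theorem L143091 : sm gg N18482 = N18528 := ded_29_1 (flp_f L143083) (flp_g L142833) (flp_a L142829) L142847
theorem L143093 : sm gf N13522 = N18529 := rfl
theorem L143095 : sm ga N18529 = N15786 := ded_11_1 (flp_f L114484) (flp_a L129539) L143093
theorem L143097 : sm gc N18529 = N13523 := ded_20_1 (flp_f L103112) L103108 L143093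
theorem L143099 : sm gd N18529 = N15914 := ded_23_1 (flp_f L115098) (flp_d L129541) L143093
theorem L143101 : sm ge N18529 = N13539 := ded_25_1 (flp_f L103190) (flp_e L103110) L143093
theorem L143103 : sm gb N13523 = N18530 := rfl
theorem L143105 : sm gd N18530 = N18321 := ded_14_2 L129699 L129657 L143103
theorem L143107 : sm ge N18530 = N13540 := ded_15_2 (flp_b L103194) (flp_e L103114) L143103
theorem L143109 : sm gf N18530 = N13524 := ded_16_2 (flp_b L103116) (flp_f L88644) L88640 L103112 L143103
theorem L143111 : sm gg N13523 = N18531 := rfl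
theorem L143113 : sm ga N18531 = N18482 := ded_12_1 L143091 L143085 L143111
theorem L143115 : sm ge N18531 = N13541 := ded_26_1 (flp_g L103200) (flp_e L103114) L143111
theorem L143117 : sm gf N18480 = N18531 := ded_29_0 (flp_g L143111) (flp_f L103112) (flp_g L102976) L142829
theorem L143119 : sm ga N13524 = N18532 := rfl
theorem L143121 : sm gd N18532 = N18319 := ded_9_2 (flp_a L129692) (flp_d L103118) L143119
theorem L143123 : sm ge N18532 = N13542 := ded_10_2 (flp_a L103208) (flp_e L103120) L143119
theorem L143125 : sm gc N13524 = N18533 := rfl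
theorem L143127 : sm ge N18533 = N13543 := ded_19_2 (flp_c L103212) (flp_e L103120) L143125
theorem L143129 : sm gb N18533 = N14660 := ded_13_1 (flp_c L108883) (flp_b L91824) (flp_c L88648) L103116 L143125
theorem L143131 : sm gg N13524 = N18534 := rfl
theorem L143133 : sm gd N18534 = N18318 := ded_24_1 L129690 (flp_d L103118) L143131
theorem L143135 : sm ge N18534 = N13544 := ded_26_1 (flp_g L103216) (flp_e L103120) L143131
theorem L143137 : sm gb N18534 = N14636 := ded_17_1 (flp_g L108737) (flp_b L91770) (flp_g L88654) L103116 L143131
theorem L143139 : sm gb N13527 = N18535 := rfl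
theorem L143141 : sm gd N18535 = N13552 := ded_14_2 (flp_b L103244) (flp_d L103134) L143139
theorem L143143 : sm gg N18535 = N15492 := ded_17_2 (flp_b L113092) L94080 (flp_b L120104) L103130 L143139
theorem L143145 : sm gb N13529 = N18536 := rfl
theorem L143147 : sm ga N13530 = N18537 := rfl
theorem L143149 : sm gd N18537 = N13558 := ded_9_2 (flp_a L103268) (flp_d L103146) L143147
theorem L143151 : sm gg N18537 = N13532 := ded_12_2 (flp_a L103158) (flp_g L103148) L143147
theorem L143153 : sm gc N13530 = N18538 := rfl
theorem L143155 : sm gg N18538 = N13533 := ded_21_2 (flp_c L103162) (flp_g L103148) L143153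
theorem L143157 : sm gb N13531 = N18539 := rfl
theorem L143159 : sm gd N18539 = N13561 := ded_14_2 (flp_b L103278) (flp_d L103154) L143157
theorem L143161 : sm gb N13532 = N18540 := rfl
theorem L143163 : sm gd N18540 = N13562 := ded_14_2 (flp_b L103280) (flp_d L103160) L143161
theorem L143165 : sm gf N18540 = N17356 := ded_16_2 (flp_b L124457) (flp_f L99153) L99141 (flp_f L130484) L143161
theorem L143167 : sm gc N13532 = N18541 := rfl
theorem L143169 : sm ga N18541 = N13533 := ded_8_1 (flp_c L103162) L103158 L143167
theorem L143171 : sm gf N18541 = N17344 := ded_20_2 (flp_c L124401) (flp_f L130484) L143167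
theorem L143173 : sm gd N13533 = N18542 := rfl
theorem L143175 : sm gb N18542 = N14715 := ded_14_1 (flp_d L109133) (flp_b L103164) L143173
theorem L143177 : sm gf N13533 = N18543 := rfl
theorem L143179 : sm ga N18543 = N17344 := ded_11_1 (flp_f L143171) L143169 L143177
theorem L143181 : sm gc N18543 = N13534 := ded_20_1 (flp_f L103166) L103162 L143177
theorem L143183 : sm gg N13534 = N18544 := rfl
theorem L143185 : sm ga N18544 = N17348 := ded_12_1 (flp_g L124415) (flp_a L130488) L143183
theorem L143187 : sm gd N18544 = N13567 := ded_24_1 (flp_g L103302) (flp_d L103168) L143183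
theorem L143189 : sm gf N18537 = N18544 := ded_29_0 (flp_g L143183) (flp_f L103166) (flp_g L103148) L143147
theorem L143191 : sm ga N13535 = N18545 := rfl
theorem L143195 : sm gd N18545 = N13568 := ded_9_2 (flp_a L103308) (flp_d L103174) L143191
theorem L143197 : sm ge N18545 = N15751 := ded_10_2 L114348 (flp_e L129578) L143191
theorem L143199 : sm gf N13535 = N18546 := rfl
theorem L143201 : sm gc N18546 = N15731 := ded_20_1 (flp_f L114250) (flp_c L129576) L143199
theorem L143203 : sm gd N18546 = N13570 := ded_23_1 (flp_f L103312) (flp_d L103174) L143199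
theorem L143205 : sm ge N18546 = N15764 := ded_25_1 (flp_f L114390) (flp_e L129578) L143199
theorem L143215 : sm gb N13537 = N18548 := rfl
theorem L143217 : sm gd N18548 = N13575 := ded_14_2 (flp_b L103330) (flp_d L103184) L143215
theorem L143219 : sm gb N13539 = N18549 := rfl
theorem L143221 : sm gg N13539 = N18550 := rfl
theorem L143223 : sm ga N18550 = N18489 := ded_12_1 L142891 (flp_a L129592) L143221
theorem L143225 : sm gc N18550 = N13541 := ded_21_1 (flp_g L103200) (flp_c L103192) L143221
theorem L143227 : sm gd N18550 = N14292 := ded_24_1 L106911 (flp_d L129588) L143221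
theorem L143229 : sm gf N14289 = N18550 := ded_29_0 (flp_g L143221) (flp_f L103190) (flp_g L103012) L129594
theorem L143231 : sm ga N13540 = N18551 := rfl
theorem L143233 : sm gd N18551 = N13581 := ded_9_2 (flp_a L103354) (flp_d L103196) L143231
theorem L143235 : sm gf N18551 = N13542 := ded_11_2 (flp_a L103208) (flp_f L103198) L143231
theorem L143237 : sm gc N13540 = N18552 := rfl
theorem L143239 : sm gf N18552 = N13543 := ded_20_2 (flp_c L103212) (flp_f L103198) L143237
theorem L143241 : sm gg N13540 = N18553 := rfl
theorem L143243 : sm gd N18553 = N13583 := ded_24_1 (flp_g L103362) (flp_d L103196) L143241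
theorem L143245 : sm gb N13541 = N18554 := rfl
theorem L143247 : sm gd N18554 = N13584 := ded_14_2 (flp_b L103364) (flp_d L103204) L143245
theorem L143249 : sm gb N13542 = N18555 := rfl
theorem L143251 : sm gd N18555 = N13585 := ded_14_2 (flp_b L103366) (flp_d L103210) L143249
theorem L143253 : sm gc N13542 = N18556 := rfl
theorem L143255 : sm ga N18556 = N13543 := ded_8_1 (flp_c L103212) L103208 L143253
theorem L143257 : sm gg N13542 = N18557 := rfl
theorem L143259 : sm ga N18557 = N13544 := ded_12_1 (flp_g L103216) L103208 L143257
theorem L143261 : sm gd N18557 = N13587 := ded_24_1 (flp_g L103372) (flp_d L103210) L143257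
theorem L143263 : sm gf N18557 = N18553 := ded_29_2 (flp_g L143241) L143231 L143235 L143257
theorem L143265 : sm gb N18557 = N17370 := ded_31_2 (flp_g L124519) (flp_f L99185) L86097 (flp_g L85997) L85995 L119284 (flp_g L88596) (flp_f L88590) L88584 L88588 L88676 L103194 L143241 (flp_f L143263)
theorem L143267 : sm ge N17372 = N18557 := ded_15_0 L143265 L124523 L124537
theorem L143269 : sm gg N15502 = N18555 := ded_17_4 (flp_b L143249) L143257 L143265 (flp_g L124519) (flp_b L113146)
theorem L143271 : sm ga N18534 = N17372 := ded_10_3 L143267 L143259 (flp_e L143135)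
theorem L143273 : sm gg N18532 = N17372 := ded_26_0 L143267 (flp_g L143257) (flp_e L143123)
theorem L143275 : sm ge N18555 = N15508 := ded_26_1 (flp_g L113170) (flp_e L113144) L143269
theorem L143277 : sm gb N15508 = N18532 := ded_17_5 L143273 (flp_b L124537) (flp_g L99197) (flp_b L94132) L113170
theorem L143279 : sm gd N13543 = N18558 := rfl
theorem L143281 : sm gb N18558 = N14692 := ded_14_1 (flp_d L109035) (flp_b L103214) L143279
theorem L143283 : sm gg N13543 = N18559 := rfl
theorem L143285 : sm gc N18559 = N13544 := ded_21_1 (flp_g L103216) L103212 L143283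
theorem L143287 : sm gf N13544 = N18560 := rfl
theorem L143289 : sm ga N18560 = N18553 := ded_11_1 (flp_f L143263) L143259 L143287
theorem L143291 : sm gd N18560 = N13590 := ded_23_1 (flp_f L103388) (flp_d L103218) L143287
theorem L143293 : sm gg N18560 = N18551 := ded_29_3 (flp_a L143231) L103198 L103216 L143287
theorem L143295 : sm gb N13548 = N18561 := rfl
theorem L143297 : sm gd N18561 = N15492 := ded_14_2 (flp_b L113092) (flp_d L120094) L143295
theorem L143299 : sm gg N18561 = N13552 := ded_17_2 (flp_b L103244) (flp_g L88690) L88684 L103228 L143295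
theorem L143301 : sm gg N13549 = N18562 := rfl
theorem L143303 : sm gd N18562 = N16979 := ded_24_1 L122641 (flp_d L120416) L143301
theorem L143305 : sm ge N13550 = N18563 := rfl
theorem L143307 : sm ga N18563 = N13554 := ded_10_1 (flp_e L103248) (flp_a L103234) L143305
theorem L143309 : sm gf N18563 = N15128 := ded_25_2 L111303 L119843 L143305
theorem L143311 : sm gg N13550 = N18564 := rfl
theorem L143313 : sm ga N18564 = N13555 := ded_12_1 (flp_g L103252) (flp_a L103234) L143311
theorem L143315 : sm gc N18564 = N14727 := ded_21_1 L109185 (flp_c L119849) L143311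
theorem L143317 : sm gd N18564 = N13551 := ded_24_1 (flp_g L103236) L103232 L143311
theorem L143319 : sm gf N14724 = N18564 := ded_29_0 (flp_g L143311) (flp_f L119843) L123430 L123432
theorem L143321 : sm gb N13551 = N18565 := rfl
theorem L143323 : sm ga N13552 = N18566 := rfl
theorem L143325 : sm gc N13552 = N18567 := rfl
theorem L143327 : sm gf N13552 = N18568 := rfl
theorem L143329 : sm gb N18568 = N18497 := ded_16_1 (flp_f L142935) (flp_b L103040) (flp_f L88694) L103244 L143327
theorem L143331 : N18498 = N17205 := coi_31_6 (flp_g L123666) (flp_f L98788) (flp_b L85888) (flp_g L82679) L44418 (flp_b L47039) L94044 (flp_f L120096) L143295 L143299 L143327 L143329 L142947 (flp_f L142943) L142937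
theorem L143332 : N18498 = N17205 := eqc rfl L143331 rfl
theorem L143333 : sm gb N17205 = N13506 := trfs L143332 (flp_b L142937) rfl
theorem L143335 : sm gb N18485 = N17341 := ded_14_3 L124387 L143333 (flp_d L142871)
theorem L143337 : sm gg N13554 = N18569 := rfl
theorem L143339 : sm ge N18569 = N13555 := ded_26_1 (flp_g L103252) L103248 L143337
theorem L143341 : sm gb N13555 = N18570 := rfl
theorem L143343 : sm gd N18570 = N13556 := ded_14_2 (flp_b L103256) (flp_d L103254) L143341
theorem L143345 : sm gg N18570 = N13600 := ded_17_2 (flp_b L103435) (flp_g L88781) (flp_b L88698) L103252 L143341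
theorem L143347 : sm ga N13556 = N18571 := rfl
theorem L143349 : sm gg N18571 = N13601 := ded_12_2 (flp_a L103439) (flp_g L103258) L143347
theorem L143351 : sm gf N13556 = N18572 := rfl
theorem L143353 : sm gb N13557 = N18573 := rfl
theorem L143355 : sm gb N13558 = N18574 := rfl
theorem L143357 : sm gc N13558 = N18575 := rfl
theorem L143359 : sm ga N18575 = N13559 := ded_8_1 (flp_c L103272) L103268 L143357
theorem L143361 : sm gg N18575 = N13563 := ded_21_2 (flp_c L103282) (flp_g L103270) L143357
theorem L143363 : sm gd N13559 = N18576 := rfl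
theorem L143365 : sm gg N18576 = N13565 := ded_24_2 (flp_d L103292) (flp_g L103274) L143363
theorem L143367 : sm gf N13559 = N18577 := rfl
theorem L143369 : sm gc N18577 = N13560 := ded_20_1 (flp_f L103276) L103272 L143367
theorem L143371 : sm gb N13560 = N18578 := rfl
theorem L143373 : sm gf N18578 = N13561 := ded_16_2 (flp_b L103278) (flp_f L88708) L88704 L103276 L143371
theorem L143375 : sm ga N13561 = N18579 := rfl
theorem L143377 : sm gc N13561 = N18580 := rfl
theorem L143379 : sm gg N13561 = N18581 := rfl
theorem L143381 : sm gb N18581 = N18493 := ded_17_1 (flp_g L142919) (flp_b L103022) (flp_g L88712) L103278 L143379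
theorem L143383 : sm ga N13562 = N18582 := rfl
theorem L143385 : sm gc N13562 = N18583 := rfl
theorem L143387 : sm gf N13562 = N18584 := rfl
theorem L143389 : sm gd N18584 = N17356 := ded_23_1 (flp_f L143165) L143163 L143387
theorem L143391 : sm gb N18584 = N17351 := ded_16_1 (flp_f L124425) (flp_b L130492) (flp_f L103286) L103280 L143387
theorem L143393 : sm gg N13562 = N18585 := rfl
theorem L143395 : sm gb N13563 = N18586 := rfl
theorem L143397 : sm gd N13563 = N18587 := rfl
theorem L143399 : sm ga N18587 = N13565 := ded_9_1 (flp_d L103292) (flp_a L103284) L143397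
theorem L143401 : sm gf N13563 = N18588 := rfl
theorem L143403 : sm ga N18588 = N13566 := ded_11_1 (flp_f L103296) (flp_a L103284) L143401
theorem L143405 : sm gc N18588 = N13564 := ded_20_1 (flp_f L103286) L103282 L143401
theorem L143407 : sm gg N18577 = N18588 := ded_29_1 (flp_f L143401) (flp_g L143361) L143359 L143367
theorem L143409 : sm gb N17360 = N13937 := ded_30_6 L105177 (flp_f L89756) (flp_c L39643) (flp_b L18823) (flp_a L9123) (flp_f L9121) L4621 L4633 L9145 L81615 L37293 (flp_b L88718) (flp_a L103284) L143401 L143405 L130492 L99145 L99173 (flp_c L124473)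
theorem L143411 : sm gc N13938 = N15497 := ded_13_4 L113122 (flp_c L124473) L143409 L105179 L105183
theorem L143413 : N13935 = N17190 := coi_16_4 (flp_f L123602) (flp_b L99167) L124471 L143409 (flp_f L105175) L105169
theorem L143414 : N17190 = N13935 := (eqc rfl L143413 rfl).symm
theorem L143415 : sm gc N13935 = N12743 := trfs L143414 L123604 rfl
theorem L143417 : sm gf N13935 = N12741 := trfs L143414 (flp_f L123602) rfl
theorem L143419 : sm gf N15496 = N13938 := ded_20_0 L143411 (flp_f L113118) L113114
theorem L143421 : N13575 = N15495 := coi_30_19 (flp_a L113110) L113118 (flp_c L143411) (flp_b L105183) L89748 (flp_f L39647) L39643 L39645 (flp_a L39771) L82700 (flp_c L39769) (flp_b L59391) L18915 (flp_f L17876) L17872 (flp_b L37259) (flp_a L88728) L103322 L103326 L103330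
theorem L143422 : N15495 = N13575 := (eqc rfl L143421 rfl).symm
theorem L143423 : sm ga N13575 = N11813 := trfs L143422 (flp_a L113110) rfl
theorem L143425 : sm gd N13575 = N11817 := trfs L143422 L113112 rfl
theorem L143426 : N11817 = N18548 := eqes L143425 (flp_d L143217)
theorem L143427 : N18548 = N11817 := (eqc rfl L143426 rfl).symm
theorem L143428 : sm gb N11817 = N13537 := trfs L143427 (flp_b L143215) rfl
theorem L143429 : N13537 = N15503 := eqes L143428 L113148
theorem L143430 : N15503 = N13537 := (eqc rfl L143429 rfl).symm
theorem L143431 : sm gd N11817 = N13575 := trfs L143427 L143217 rfl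
theorem L143433 : sm gb N13537 = N11817 := trfs L143430 (flp_b L113148) rfl
theorem L143435 : N15344 = N13932 := coi_13_2 (flp_c L105163) (flp_b L89740) L89742 L105169 L143415 (flp_b L112408)
theorem L143436 : N15344 = N13932 := eqc rfl L143435 rfl
theorem L143437 : sm gb N13932 = N12743 := trfs L143436 L112408 rfl
theorem L143439 : sm gd N13932 = N11737 := trfs L143436 L112406 rfl
theorem L143441 : sm gf N13932 = N11735 := trfs L143436 (flp_f L112404) rfl
theorem L143443 : N13933 = N15343 := coi_16_5 (flp_b L113116) L143419 (flp_b L105183) (flp_f L89746) L89740 L105165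
theorem L143444 : N15343 = N13933 := (eqc rfl L143443 rfl).symm
theorem L143445 : sm gb N13933 = N15496 := trfs L143444 (flp_b L113116) rfl
theorem L143447 : sm gc N13933 = N11735 := trfs L143444 (flp_c L112402) rfl
theorem L143449 : sm ga N15494 = N18424 := ded_10_3 L130312 L143423 (flp_e L113108)
theorem L143451 : sm gb N15360 = N13581 := ded_7_6 (flp_a L103354) (flp_b L88744) (flp_a L88732) L103330 L143423 (flp_b L94098) L47063 L93759 L112478
theorem L143453 : sm gb N15500 = N18528 := ded_15_3 L143089 L143433 (flp_e L113134)
theorem L143455 : sm gb N15505 = N18546 := ded_16_3 (flp_f L143199) (flp_b L103172) L103180 L143433 L113154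
theorem L143457 : sm gb N15458 = N18551 := ded_7_6 (flp_a L143231) (flp_b L103194) (flp_a L103182) L143433 (flp_a L94124) (flp_b L47077) (flp_a L46985) L93984 L112908
theorem L143459 : sm gc N13565 = N18589 := rfl
theorem L143461 : sm ge N13565 = N18590 := rfl
theorem L143463 : sm gb N18590 = N13603 := ded_15_1 (flp_e L103447) (flp_b L103294) L143461
theorem L143465 : sm gf N13565 = N18591 := rfl
theorem L143467 : sm gd N18591 = N13566 := ded_23_1 (flp_f L103296) L103292 L143465
theorem L143469 : sm gb N18591 = N14049 := ded_16_1 (flp_f L105648) L89965 (flp_f L88791) (flp_b L103294) L143465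
theorem L143471 : sm gg N13566 = N18592 := rfl
theorem L143473 : sm ga N18592 = N18577 := ded_12_1 L143407 L143403 L143471
theorem L143475 : sm gc N18592 = N13567 := ded_21_1 (flp_g L103302) (flp_c L103298) L143471
theorem L143477 : sm gf N18575 = N18592 := ded_29_0 (flp_g L143471) (flp_f L103296) (flp_g L103274) (flp_a L143359)
theorem L143479 : sm gb N13567 = N18593 := rfl
theorem L143481 : sm gg N18593 = N18351 := ded_17_2 (flp_b L129842) (flp_g L102489) (flp_b L88722) L103302 L143479
theorem L143483 : sm gf N13568 = N18594 := rfl
theorem L143485 : sm ga N18594 = N13570 := ded_11_1 (flp_f L103312) L103308 L143483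
theorem L143487 : sm gc N18594 = N13570 := ded_20_1 (flp_f L103312) (flp_c L129604) L143483
theorem L143489 : sm gg N13568 = N18595 := rfl
theorem L143491 : sm ga N18595 = N13571 := ded_12_1 (flp_g L103314) L103308 L143489
theorem L143495 : sm gb N13570 = N18596 := rfl
theorem L143497 : sm gd N18596 = N15505 := ded_14_2 L143455 L143203 L143495
theorem L143499 : sm gf N18596 = N13575 := ded_16_2 (flp_b L103330) (flp_f L88730) L88724 L103312 L143495
theorem L143501 : sm ga N15497 = N18596 := ded_9_3 L143497 L113156 (flp_d L113120)
theorem L143503 : sm gg N13570 = N18597 := rfl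
theorem L143505 : sm gf N18595 = N18597 := ded_29_0 (flp_g L143503) (flp_f L103312) L103314 (flp_a L143491)
theorem L143507 : sm gf N13571 = N18598 := rfl
theorem L143509 : sm ga N18598 = N18597 := ded_11_1 (flp_f L143505) L143491 L143507
theorem L143515 : sm gd N13572 = N18599 := rfl
theorem L143517 : sm gb N18599 = N13573 := ded_14_1 (flp_d L103318) L103316 L143515
theorem L143519 : sm gf N13572 = N18600 := rfl
theorem L143521 : sm gg N13572 = N18601 := rfl
theorem L143523 : sm gc N13573 = N18602 := rfl
theorem L143525 : sm ga N18602 = N13576 := ded_8_1 (flp_c L103332) (flp_a L103320) L143523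
theorem L143527 : sm gd N18602 = N14150 := ded_28_7 L106160 L90241 L90734 (flp_c L129567) L88672 L88726 L103318 L143523
theorem L143529 : sm ge N13573 = N18603 := rfl
theorem L143531 : sm ga N18603 = N13577 := ded_10_1 (flp_e L103334) (flp_a L103320) L143529
theorem L143533 : sm gf N13573 = N18604 := rfl
theorem L143535 : sm ga N18604 = N13578 := ded_11_1 (flp_f L103338) (flp_a L103320) L143533
theorem L143537 : sm gd N18604 = N13574 := ded_23_1 (flp_f L103322) L103318 L143533
theorem L143539 : sm gg N18512 = N18604 := ded_29_1 (flp_f L143533) (flp_g L142979) L142977 L142993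
theorem L143541 : sm gb N13574 = N18605 := rfl
theorem L143543 : sm gc N13575 = N18606 := rfl
theorem L143545 : sm ga N18606 = N15496 := ded_8_1 (flp_c L113114) (flp_a L143423) L143543
theorem L143547 : sm gg N13575 = N18607 := rfl
theorem L143549 : sm ga N18607 = N15480 := ded_12_1 L113032 (flp_a L143423) L143547
theorem L143551 : sm gd N18607 = N15489 := ded_24_1 L113082 L143431 L143547
theorem L143553 : sm gb N18607 = N18516 := ded_17_1 (flp_g L143009) (flp_b L103072) L88734 L103330 L143547
theorem L143555 : sm ge N13576 = N18608 := rfl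
theorem L143557 : sm gb N18608 = N14163 := ded_15_1 L106230 (flp_b L129582) L143555
theorem L143559 : sm gc N18608 = N13577 := ded_19_1 (flp_e L103334) L103332 L143555
theorem L143561 : sm gd N18608 = N14154 := ded_22_1 (flp_e L106180) (flp_d L90233) L90237 (flp_d L129584) L143555
theorem L143563 : sm gf N13576 = N18609 := rfl
theorem L143565 : sm gc N18609 = N13578 := ded_20_1 (flp_f L103338) L103332 L143563
theorem L143567 : sm gd N18609 = N14158 := ded_23_1 (flp_f L106196) (flp_d L129584) L143563
theorem L143569 : sm gf N13577 = N18610 := rfl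
theorem L143571 : sm ge N18610 = N13578 := ded_25_1 (flp_f L103338) L103334 L143569
theorem L143573 : sm gb N13578 = N18611 := rfl
theorem L143575 : sm gd N18611 = N13579 := ded_14_2 (flp_b L103342) (flp_d L103340) L143573
theorem L143577 : sm gf N18611 = N13613 := ded_16_2 (flp_b L103496) (flp_f L88810) (flp_b L88738) L103338 L143573
theorem L143579 : sm gg N13578 = N18612 := rfl
theorem L143581 : sm ga N18612 = N18512 := ded_12_1 L143539 L143535 L143579
theorem L143583 : sm gd N18612 = N13580 := ded_24_1 (flp_g L103346) (flp_d L103340) L143579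
theorem L143587 : sm ga N13579 = N18613 := rfl
theorem L143589 : sm gf N18613 = N13614 := ded_11_2 (flp_a L103500) (flp_f L103344) L143587
theorem L143591 : sm gg N13579 = N18614 := rfl
theorem L143593 : sm gb N13580 = N18615 := rfl
theorem L143595 : sm gc N13581 = N18616 := rfl
theorem L143597 : sm ga N18616 = N13582 := ded_8_1 (flp_c L103358) L103354 L143595
theorem L143599 : sm gf N18616 = N13586 := ded_20_2 (flp_c L103368) (flp_f L103356) L143595
theorem L143601 : sm gd N16924 = N18616 := ded_23_3 L143599 L120601 (flp_f L122372)
theorem L143603 : sm gb N16922 = N18616 := ded_16_5 L143599 (flp_b L120599) (flp_f L98009) (flp_b L97993) L122362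
theorem L143605 : sm gd N13582 = N18617 := rfl
theorem L143607 : sm ga N18617 = N16924 := ded_9_1 L143601 L143597 L143605
theorem L143609 : sm gb N18617 = N17049 := ded_14_1 L123804 L103445 L143605
theorem L143611 : sm gf N18617 = N13588 := ded_23_2 (flp_d L103378) (flp_f L103360) L143605
theorem L143613 : sm gc N17052 = N18617 := ded_13_0 L143609 (flp_c L122967) (flp_b L98359) L98361 L122975
theorem L143615 : sm gg N13582 = N18618 := rfl
theorem L143617 : sm gc N18618 = N13583 := ded_21_1 (flp_g L103362) L103358 L143615
theorem L143619 : sm gb N13583 = N18619 := rfl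
theorem L143621 : sm gg N18619 = N13584 := ded_17_2 (flp_b L103364) (flp_g L88748) L88744 L103362 L143619
theorem L143623 : sm ga N13584 = N18620 := rfl
theorem L143625 : sm gc N13584 = N18621 := rfl
theorem L143627 : sm gf N13584 = N18622 := rfl
theorem L143629 : sm gb N18622 = N18506 := ded_16_1 (flp_f L142967) (flp_b L103054) L88752 L103364 L143627
theorem L143631 : sm ga N13585 = N18623 := rfl
theorem L143633 : sm gb N18623 = N18582 := ded_7_2 (flp_a L143383) (flp_b L103280) (flp_a L88714) (flp_b L37253) (flp_a L17842) L37263 L88754 L103366 L143631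
theorem L143635 : sm gc N13585 = N18624 := rfl
theorem L143637 : sm gb N18624 = N16929 := ded_13_1 L122398 L120599 (flp_c L103368) L103366 L143635
theorem L143639 : sm gd N17077 = N18624 := ded_14_0 L143637 L122400 L123085
theorem L143641 : sm gf N13585 = N18625 := rfl
theorem L143643 : sm gg N13585 = N18626 := rfl
theorem L143645 : sm gd N18626 = N15502 := ded_24_1 L143269 L143251 L143643
theorem L143647 : sm gb N17368 = N18626 := ded_14_3 L143645 L113146 (flp_d L124511)
theorem L143649 : sm gf N15499 = N18626 := ded_23_0 L143645 (flp_f L113142) (flp_d L113130)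
theorem L143651 : sm gg N13586 = N18627 := rfl
theorem L143653 : sm ga N18627 = N13589 := ded_12_1 (flp_g L103382) (flp_a L103370) L143651
theorem L143655 : sm gc N18627 = N13587 := ded_21_1 (flp_g L103372) L103368 L143651
theorem L143657 : sm gd N18627 = N16932 := ded_24_1 (flp_g L122416) (flp_d L120601) L143651
theorem L143659 : sm gf N18627 = N18618 := ded_29_2 (flp_g L143615) (flp_a L143597) L143599 L143651
theorem L143661 : sm gb N13587 = N18628 := rfl
theorem L143663 : sm gd N18628 = N17370 := ded_14_2 (flp_b L143265) L143261 L143661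
theorem L143665 : sm gg N18628 = N17368 := ded_17_2 L143647 (flp_g L143643) (flp_b L103366) L103372 L143661
theorem L143667 : sm gc N13588 = N18629 := rfl
theorem L143669 : sm ga N18629 = N16931 := ded_8_1 (flp_c L122412) L120593 L143667
theorem L143671 : sm gf N18629 = N17052 := ded_20_2 L143613 L143611 L143667
theorem L143673 : sm gb N18629 = N17236 := ded_13_1 L123836 (flp_b L105921) L90085 (flp_b L103380) L143667
theorem L143675 : sm ge N13588 = N18630 := rfl
theorem L143677 : sm ga N18630 = N16336 := ded_10_1 L117449 L120593 L143675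
theorem L143679 : sm gb N18630 = N13616 := ded_15_1 (flp_e L103510) (flp_b L103380) L143675
theorem L143681 : sm gg N13588 = N18631 := rfl
theorem L143683 : sm ga N18631 = N16932 := ded_12_1 (flp_g L122416) L120593 L143681
theorem L143685 : sm gd N18631 = N13589 := ded_24_1 (flp_g L103382) L103378 L143681
theorem L143687 : sm gb N18631 = N14003 := ded_17_1 (flp_g L105465) L89877 (flp_g L88826) (flp_b L103380) L143681
theorem L143689 : sm gf N13589 = N18632 := rfl
theorem L143691 : sm ga N18632 = N18618 := ded_11_1 (flp_f L143659) L143653 L143689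
theorem L143693 : sm gc N18632 = N13590 := ded_20_1 (flp_f L103388) (flp_c L103384) L143689
theorem L143695 : sm gg N18632 = N18616 := ded_29_3 L143597 L103360 L103382 L143689
theorem L143697 : sm gb N13590 = N18633 := rfl
theorem L143699 : sm gf N18633 = N18338 := ded_16_2 (flp_b L129791) (flp_f L102463) (flp_b L88762) L103388 L143697
theorem L143701 : sm gb N13591 = N18634 := rfl
theorem L143703 : sm gd N18634 = N15186 := ded_14_2 L111619 (flp_d L119663) L143701
theorem L143705 : sm gf N18634 = N15185 := ded_16_2 L111611 L93247 (flp_b L93439) (flp_f L119665) L143701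
theorem L143707 : sm ge N13596 = N18635 := rfl
theorem L143709 : sm ga N18635 = N14455 := ded_10_1 L107777 (flp_a L119857) L143707
theorem L143711 : sm gb N18635 = N13597 := ded_15_1 (flp_e L103417) L103415 L143707
theorem L143713 : sm gc N18635 = N14106 := ded_19_1 L105911 (flp_c L119859) L143707
theorem L143715 : sm gf N18635 = N14010 := ded_25_2 (flp_e L105829) (flp_f L119864) L143707
theorem L143717 : sm gd N18635 = N13597 := ded_22_1 (flp_e L103417) L88847 (flp_e L119870) L103538 L143707
theorem L143719 : sm gg N13596 = N18636 := rfl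
theorem L143721 : sm ga N18636 = N14599 := ded_12_1 (flp_g L108585) (flp_a L119857) L143719
theorem L143723 : sm gc N18636 = N14110 := ded_21_1 (flp_g L105933) (flp_c L119859) L143719
theorem L143725 : sm gd N18636 = N14112 := ded_24_1 (flp_g L119874) L103538 L143719
theorem L143727 : sm gf N18636 = N14110 := ded_29_2 (flp_g L105933) (flp_a L105827) (flp_f L119864) L143719
theorem L143729 : sm gg N13597 = N18637 := rfl
theorem L143731 : sm gc N18637 = N13599 := ded_21_1 (flp_g L103431) (flp_c L103419) L143729
theorem L143733 : sm ge N18637 = N13598 := ded_26_1 (flp_g L103423) L103417 L143729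
theorem L143735 : sm gf N14107 = N18637 := ded_29_0 (flp_g L143729) L103421 L105491 (flp_a L105915)
theorem L143737 : sm gb N13599 = N18638 := rfl
theorem L143739 : sm ge N18638 = N13600 := ded_15_2 (flp_b L103435) (flp_e L103433) L143737
theorem L143741 : sm ga N13600 = N18639 := rfl
theorem L143743 : sm gd N18639 = N13601 := ded_9_2 (flp_a L103439) (flp_d L103437) L143741
theorem L143745 : sm gb N13601 = N18640 := rfl
theorem L143747 : sm gf N13601 = N18641 := rfl
theorem L143749 : sm ga N18641 = N13602 := ded_11_1 (flp_f L103441) L103439 L143747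
theorem L143751 : sm gc N18641 = N18613 := ded_20_1 L143589 L103502 L143747
theorem L143753 : sm gg N18572 = N18641 := ded_29_1 (flp_f L143747) (flp_g L143349) (flp_a L143347) L143351
theorem L143755 : sm gg N13602 = N18642 := rfl
theorem L143757 : sm ga N18642 = N18572 := ded_12_1 L143753 L143749 L143755
theorem L143759 : sm gc N18642 = N18614 := ded_21_1 (flp_g L143591) (flp_c L103443) L143755
theorem L143761 : sm gf N18571 = N18642 := ded_29_0 (flp_g L143755) (flp_f L103441) (flp_g L103258) L143347
theorem L143763 : sm gb N13604 = N18643 := rfl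
theorem L143769 : sm gf N13604 = N18645 := rfl
theorem L143771 : sm ga N18645 = N13606 := ded_11_1 (flp_f L103460) L103453 L143769
theorem L143779 : sm gc N13605 = N18647 := rfl
theorem L143781 : sm ge N13605 = N18648 := rfl
theorem L143783 : sm gb N18648 = N13608 := ded_15_1 (flp_e L103468) (flp_b L103458) L143781
theorem L143785 : sm gf N13605 = N18649 := rfl
theorem L143787 : sm gd N18649 = N13606 := ded_23_1 (flp_f L103460) L103456 L143785
theorem L143795 : sm gg N13606 = N18651 := rfl
theorem L143807 : sm ge N13609 = N18653 := rfl
theorem L143809 : sm gb N18653 = N13610 := ded_15_1 (flp_e L103476) L103474 L143807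
theorem L143811 : sm gc N18653 = N14163 := ded_19_1 L106230 (flp_c L129610) L143807
theorem L143813 : sm gg N18653 = N14057 := ded_26_2 (flp_e L106148) (flp_g L129615) L143807
theorem L143815 : sm gd N18653 = N13610 := ded_22_1 (flp_e L103476) L88920 (flp_e L129621) L103634 L143807
theorem L143817 : sm gf N13609 = N18654 := rfl
theorem L143819 : sm ga N18654 = N17821 := ded_11_1 L142760 (flp_a L129608) L143817
theorem L143821 : sm gc N18654 = N14167 := ded_20_1 (flp_f L106252) (flp_c L129610) L143817
theorem L143823 : sm gd N18654 = N14169 := ded_23_1 (flp_f L129623) L103634 L143817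
theorem L143825 : sm gg N14167 = N18654 := ded_29_1 (flp_f L143817) L129615 L106146 L106252
theorem L143827 : sm gf N13610 = N18655 := rfl
theorem L143829 : sm gc N18655 = N13612 := ded_20_1 (flp_f L103490) (flp_c L103478) L143827
theorem L143831 : sm ge N18655 = N13611 := ded_25_1 (flp_f L103482) L103476 L143827
theorem L143833 : sm gg N18655 = N14164 := ded_29_3 L106234 (flp_f L105678) (flp_g L103480) L143827
theorem L143835 : sm gb N13611 = N18656 := rfl
theorem L143837 : sm gd N18656 = N14173 := ded_14_2 (flp_b L106278) (flp_d L103486) L143835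
theorem L143839 : sm gb N13612 = N18657 := rfl
theorem L143841 : sm ge N18657 = N13613 := ded_15_2 (flp_b L103496) (flp_e L103492) L143839
theorem L143843 : sm ga N13613 = N18658 := rfl
theorem L143845 : sm gd N18658 = N13614 := ded_9_2 (flp_a L103500) (flp_d L103498) L143843
theorem L143847 : sm gc N13613 = N18659 := rfl
theorem L143849 : sm gg N13613 = N18660 := rfl
theorem L143851 : sm gd N18660 = N13615 := ded_24_1 (flp_g L103504) (flp_d L103498) L143849
theorem L143853 : sm gb N18660 = N18576 := ded_17_1 L143365 L103294 (flp_g L88814) L103496 L143849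
theorem L143855 : sm gb N13614 = N18661 := rfl
theorem L143857 : sm gg N13614 = N18662 := rfl
theorem L143859 : sm ga N18662 = N13615 := ded_12_1 (flp_g L103504) L103500 L143857
theorem L143861 : sm gc N18662 = N18571 := ded_21_1 L143349 (flp_c L103502) L143857
theorem L143863 : sm gf N18662 = N18614 := ded_29_2 (flp_g L143591) L143587 L143589 L143857
theorem L143865 : sm gf N13615 = N18663 := rfl
theorem L143867 : sm ga N18663 = N18614 := ded_11_1 (flp_f L143863) L143859 L143865
theorem L143869 : sm gc N18663 = N18572 := ded_20_1 (flp_f L143351) (flp_c L103506) L143865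
theorem L143871 : sm gg N18663 = N18613 := ded_29_3 (flp_a L143587) L103344 L103504 L143865
theorem L143873 : sm gb N13626 = N18664 := rfl
theorem L143875 : sm ge N18664 = N14688 := ded_15_2 (flp_b L109015) (flp_e L119515) L143873
theorem L143877 : sm gg N18664 = N13631 := ded_17_2 (flp_b L103600) (flp_g L88875) L88857 L103568 L143873
theorem L143879 : sm gg N13627 = N18665 := rfl
theorem L143881 : sm ga N18665 = N18637 := ded_12_1 (flp_g L143729) (flp_a L103574) L143879
theorem L143883 : sm gc N18665 = N14014 := ded_21_1 L105511 (flp_c L103576) L143879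
theorem L143885 : sm ge N18665 = N13628 := ded_26_1 (flp_g L103580) L103572 L143879
theorem L143887 : sm gf N14011 = N18665 := ded_29_0 (flp_g L143879) L103578 L105913 L105915
theorem L143889 : sm gb N13628 = N18666 := rfl
theorem L143891 : sm gd N18666 = N13631 := ded_14_2 (flp_b L103600) (flp_d L103586) L143889
theorem L143893 : sm gf N18666 = N14803 := ded_16_2 L109476 (flp_f L120546) (flp_b L105497) L103588 L143889
theorem L143895 : sm ga N14805 = N18666 := ded_11_3 L143893 (flp_a L109474) L109480
theorem L143897 : sm gc N15432 = N18666 := ded_20_3 L143893 L120555 L112782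
theorem L143899 : sm ga N13631 = N18667 := rfl
theorem L143901 : sm gd N18667 = N14805 := ded_9_2 L143895 L143891 L143899
theorem L143903 : sm gf N14712 = N18667 := ded_23_0 L143901 (flp_f L109480) (flp_d L109119)
theorem L143905 : sm gf N13631 = N18668 := rfl
theorem L143907 : sm ga N18668 = N14712 := ded_11_1 L143903 (flp_a L143899) L143905
theorem L143909 : sm gd N18668 = N14803 := ded_23_1 (flp_f L143893) L143891 L143905
theorem L143911 : sm ga N13632 = N18669 := rfl
theorem L143913 : sm gc N18669 = N14860 := ded_8_2 (flp_a L109747) (flp_c L103604) L143911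
theorem L143915 : sm ge N13632 = N18670 := rfl
theorem L143917 : sm gb N18670 = N13633 := ded_15_1 (flp_e L103606) L103602 L143915
theorem L143919 : sm gc N18670 = N14134 := ded_19_1 L141787 (flp_c L103604) L143915
theorem L143921 : sm gf N13632 = N18671 := rfl
theorem L143923 : sm gc N18671 = N14863 := ded_20_1 (flp_f L109757) (flp_c L103604) L143921
theorem L143925 : sm gb N18671 = N14145 := ded_16_1 (flp_f L106134) (flp_b L90218) (flp_f L88889) L103602 L143921
theorem L143927 : sm gg N13632 = N18672 := rfl
theorem L143929 : sm gc N18672 = N14864 := ded_21_1 (flp_g L109760) (flp_c L103604) L143927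
theorem L143931 : sm gd N13633 = N18673 := rfl
theorem L143933 : sm ga N18673 = N14167 := ded_9_1 L106254 (flp_a L103608) L143931
theorem L143935 : sm gf N18673 = N14147 := ded_23_2 (flp_d L106144) (flp_f L103612) L143931
theorem L143937 : sm gg N18673 = N17821 := ded_24_2 (flp_d L126706) (flp_g L139758) L143931
theorem L143939 : sm gc N17821 = N18673 := ded_28_0 (flp_d L143931) L103610 L88899 (flp_c L139785) L139787 (flp_c L106264) (flp_d L143823) L143819
theorem L143943 : sm gd N13639 = N18675 := rfl
theorem L143945 : sm ga N18675 = N13640 := ded_9_1 (flp_d L103648) L103644 L143943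
theorem L143953 : sm gf N13639 = N18677 := rfl
theorem L143955 : sm ga N18677 = N13642 := ded_11_1 (flp_f L103658) L103644 L143953
theorem L143957 : sm gc N18677 = N14870 := ded_20_1 (flp_f L109782) (flp_c L103646) L143953
theorem L143959 : sm gg N13639 = N18678 := rfl
theorem L143961 : sm ga N18678 = N13643 := ded_12_1 (flp_g L103662) L103644 L143959
theorem L143963 : sm gc N18678 = N14871 := ded_21_1 (flp_g L109786) (flp_c L103646) L143959
theorem L143965 : sm gc N13640 = N18679 := rfl
theorem L143967 : sm gb N18679 = N18647 := ded_13_1 (flp_c L143779) L103458 L88940 (flp_b L103650) L143965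
theorem L143969 : sm ge N13640 = N18680 := rfl
theorem L143971 : sm gb N18680 = N13644 := ded_15_1 (flp_e L103668) (flp_b L103650) L143969
theorem L143973 : sm gf N13640 = N18681 := rfl
theorem L143975 : sm gd N18681 = N13642 := ded_23_1 (flp_f L103658) L103648 L143973
theorem L143977 : sm gg N13640 = N18682 := rfl
theorem L143981 : sm gb N18682 = N14156 := ded_17_1 (flp_g L106188) L90235 (flp_g L88938) (flp_b L103650) L143977
theorem L143987 : sm gf N13641 = N18684 := rfl
theorem L143989 : sm gc N18684 = N14877 := ded_20_1 (flp_f L109814) (flp_c L103656) L143987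
theorem L143991 : sm ge N18684 = N13642 := ded_25_1 (flp_f L103658) L103652 L143987
theorem L144001 : sm gb N13642 = N18686 := rfl
theorem L144003 : sm gf N18686 = N13648 := ded_16_2 (flp_b L103698) (flp_f L88948) L88930 L103658 L144001
theorem L144005 : sm gg N13642 = N18687 := rfl
theorem L144007 : sm gc N18687 = N14879 := ded_21_1 (flp_g L109824) (flp_c L103660) L144005
theorem L144009 : sm gf N18678 = N18687 := ded_29_0 (flp_g L144005) (flp_f L103658) L103662 (flp_a L143961)
theorem L144011 : sm gf N13643 = N18688 := rfl
theorem L144013 : sm ga N18688 = N18687 := ded_11_1 (flp_f L144009) L143961 L144011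
theorem L144015 : sm gc N18688 = N14880 := ded_20_1 (flp_f L109828) (flp_c L103664) L144011
theorem L144019 : sm gd N13644 = N18689 := rfl
theorem L144021 : sm ga N18689 = N18653 := ded_9_1 L143815 (flp_a L103670) L144019
theorem L144023 : sm gg N18689 = N14163 := ded_24_2 (flp_d L106226) (flp_g L103674) L144019
theorem L144025 : sm ge N18689 = N13646 := ded_22_2 (flp_d L103686) (flp_e L88942) L88934 L103668 L144019
theorem L144027 : sm gc N14057 = N18689 := ded_28_0 (flp_d L144019) L103672 (flp_d L104649) L104645 L104462 (flp_c L90255) L106226 L106228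
theorem L144029 : sm gf N13644 = N18690 := rfl
theorem L144031 : sm ga N18690 = N18655 := ded_11_1 (flp_f L143827) (flp_a L103670) L144029
theorem L144033 : sm gc N18690 = N14061 := ded_20_1 (flp_f L105698) (flp_c L103672) L144029
theorem L144035 : sm ge N18690 = N13645 := ded_25_1 (flp_f L103676) L103668 L144029
theorem L144037 : sm gg N18690 = N14058 := ded_29_3 (flp_a L106234) (flp_f L106232) (flp_g L103674) L144029
theorem L144039 : sm gb N13645 = N18691 := rfl
theorem L144041 : sm gd N18691 = N13648 := ded_14_2 (flp_b L103698) (flp_d L103682) L144039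
theorem L144043 : sm ga N13648 = N18692 := rfl
theorem L144045 : sm gg N13648 = N18693 := rfl
theorem L144047 : sm gb N18693 = N18672 := ded_17_1 (flp_g L143927) (flp_b L103602) (flp_g L88952) L103698 L144045
theorem L144049 : sm ga N13649 = N18694 := rfl
theorem L144051 : sm gc N18694 = N14887 := ded_8_2 (flp_a L109878) (flp_c L103702) L144049
theorem L144053 : sm gd N18694 = N14756 := ded_9_2 L120536 L105499 L144049
theorem L144055 : sm gf N14689 = N18694 := ded_23_0 L144053 (flp_f L109289) (flp_d L109021)
theorem L144057 : sm ge N13649 = N18695 := rfl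
theorem L144059 : sm gb N18695 = N13650 := ded_15_1 (flp_e L103704) L103700 L144057
theorem L144061 : sm gc N18695 = N14191 := ded_19_1 L133459 (flp_c L103702) L144057
theorem L144063 : sm gf N13649 = N18696 := rfl
theorem L144065 : sm ga N18696 = N14689 := ded_11_1 L144055 (flp_a L144049) L144063
theorem L144067 : sm gc N18696 = N14890 := ded_20_1 (flp_f L109888) (flp_c L103702) L144063
theorem L144069 : sm gd N18696 = N14754 := ded_23_1 (flp_f L120546) L105499 L144063
theorem L144071 : sm gb N18696 = N18668 := ded_16_1 (flp_f L143905) (flp_b L103600) (flp_f L88966) L103700 L144063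
theorem L144073 : sm gg N13649 = N18697 := rfl
theorem L144075 : sm gc N18697 = N14891 := ded_21_1 (flp_g L109890) (flp_c L103702) L144073
theorem L144077 : sm gb N18697 = N14089 := ded_17_1 (flp_g L105820) (flp_b L90042) (flp_g L88968) L103700 L144073
theorem L144079 : sm gd N13650 = N18698 := rfl
theorem L144081 : sm ga N18698 = N14110 := ded_9_1 L105935 (flp_a L103706) L144079
theorem L144083 : sm gf N18698 = N14599 := ded_23_2 L139049 (flp_f L139030) L144079
theorem L144085 : sm gg N18698 = N14090 := ded_24_2 (flp_d L105825) (flp_g L103712) L144079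
theorem L144087 : sm gc N14599 = N18698 := ded_28_0 (flp_d L144079) L103708 L88980 (flp_c L139285) L139287 (flp_c L105945) (flp_d L143725) L143721
theorem L144089 : sm gf N13653 = N18699 := rfl
theorem L144091 : sm ga N18699 = N13656 := ded_11_1 (flp_f L103750) (flp_a L103730) L144089
theorem L144093 : sm gc N18699 = N15975 := ded_20_1 (flp_f L115450) L103732 L144089
theorem L144095 : sm gd N18699 = N13654 := ded_23_1 (flp_f L103734) L103728 L144089
theorem L144097 : sm gg N13653 = N18700 := rfl
theorem L144099 : sm ga N18700 = N13657 := ded_12_1 (flp_g L103756) (flp_a L103730) L144097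
theorem L144101 : sm gc N18700 = N15976 := ded_21_1 (flp_g L115454) L103732 L144097
theorem L144103 : sm gd N18700 = N13655 := ded_24_1 (flp_g L103742) L103728 L144097
theorem L144105 : sm gb N13654 = N18701 := rfl
theorem L144107 : sm ge N18701 = N13838 := ded_15_2 (flp_b L104805) (flp_e L103740) L144105
theorem L144109 : sm gb N13655 = N18702 := rfl
theorem L144111 : sm ge N18702 = N13839 := ded_15_2 (flp_b L104807) (flp_e L103748) L144109
theorem L144113 : sm gb N13656 = N18703 := rfl
theorem L144115 : sm gd N18703 = N13658 := ded_14_2 (flp_b L103762) (flp_d L103754) L144113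
theorem L144117 : sm gf N18703 = N13662 := ded_16_2 (flp_b L103790) (flp_f L89030) (flp_b L89018) L103750 L144113
theorem L144119 : sm gg N13656 = N18704 := rfl
theorem L144121 : sm gc N18704 = N15980 := ded_21_1 (flp_g L115474) (flp_c L103752) L144119
theorem L144123 : sm gd N18704 = N13659 := ded_24_1 (flp_g L103768) (flp_d L103754) L144119
theorem L144125 : sm gf N18700 = N18704 := ded_29_0 (flp_g L144119) (flp_f L103750) L103756 (flp_a L144099)
theorem L144127 : sm gb N13657 = N18705 := rfl
theorem L144129 : sm gd N18705 = N13660 := ded_14_2 (flp_b L103774) (flp_d L103760) L144127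
theorem L144131 : sm gg N18705 = N13663 := ded_17_2 (flp_b L103794) (flp_g L89038) (flp_b L89018) L103756 L144127
theorem L144133 : sm gf N13657 = N18706 := rfl
theorem L144135 : sm ga N18706 = N18704 := ded_11_1 (flp_f L144125) L144099 L144133
theorem L144137 : sm gc N18706 = N15982 := ded_20_1 (flp_f L115482) (flp_c L103758) L144133
theorem L144139 : sm gd N18706 = N13661 := ded_23_1 (flp_f L103780) (flp_d L103760) L144133
theorem L144141 : sm gg N18706 = N18699 := ded_29_3 L144091 (flp_f L103750) L103756 L144133
theorem L144143 : sm ga N13658 = N18707 := rfl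
theorem L144145 : sm ge N18707 = N13840 := ded_10_2 (flp_a L104809) (flp_e L103764) L144143
theorem L144147 : sm gf N18707 = N13664 := ded_11_2 (flp_a L103798) (flp_f L103766) L144143
theorem L144149 : sm gc N14681 = N18707 := ded_19_3 L144145 L119012 L108985
theorem L144151 : sm gb N18707 = N16282 := ded_13_1 L117125 L118125 (flp_c L129346) (flp_b L129344) L144149
theorem L144153 : sm ga N16269 = N18701 := ded_7_5 (flp_b L144105) L103736 L103762 L144143 L144151 (flp_a L117123) (flp_b L96137) (flp_a L96101) L117039
theorem L144155 : sm gc N13658 = N18708 := rfl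
theorem L144157 : sm ga N18708 = N14681 := ded_8_1 L144149 (flp_a L144143) L144155
theorem L144159 : sm ge N18708 = N13841 := ded_19_2 (flp_c L104813) (flp_e L103764) L144155
theorem L144161 : sm gf N18708 = N13665 := ded_20_2 (flp_c L103802) (flp_f L103766) L144155
theorem L144163 : sm gg N13658 = N18709 := rfl
theorem L144165 : sm ge N18709 = N13842 := ded_26_1 (flp_g L104817) (flp_e L103764) L144163
theorem L144167 : sm gb N13659 = N18710 := rfl
theorem L144169 : sm ge N18710 = N13843 := ded_15_2 (flp_b L104819) (flp_e L103770) L144167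
theorem L144171 : sm ga N13660 = N18711 := rfl
theorem L144173 : sm ge N18711 = N13844 := ded_10_2 (flp_a L104821) (flp_e L103776) L144171
theorem L144175 : sm gg N18711 = N13667 := ded_12_2 (flp_a L103810) (flp_g L103778) L144171
theorem L144177 : sm gc N13660 = N18712 := rfl
theorem L144179 : sm ge N18712 = N13845 := ded_19_2 (flp_c L104825) (flp_e L103776) L144177
theorem L144181 : sm gg N18712 = N13668 := ded_21_2 (flp_c L103814) (flp_g L103778) L144177
theorem L144183 : sm gf N13660 = N18713 := rfl
theorem L144185 : sm ge N18713 = N13846 := ded_25_1 (flp_f L104829) (flp_e L103776) L144183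
theorem L144187 : sm gb N13661 = N18714 := rfl
theorem L144189 : sm ge N18714 = N13847 := ded_15_2 (flp_b L104831) (flp_e L103786) L144187
theorem L144191 : sm ga N13662 = N18715 := rfl
theorem L144193 : sm gd N18715 = N13664 := ded_9_2 (flp_a L103798) (flp_d L103792) L144191
theorem L144195 : sm gc N13662 = N18716 := rfl
theorem L144197 : sm gb N18716 = N15950 := ded_13_1 (flp_c L115309) (flp_b L95302) (flp_c L89034) L103790 L144195
theorem L144199 : sm gg N13662 = N18717 := rfl
theorem L144201 : sm gd N18717 = N13666 := ded_24_1 (flp_g L103806) (flp_d L103792) L144199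
theorem L144203 : sm ga N13663 = N18718 := rfl
theorem L144205 : sm gd N18718 = N13667 := ded_9_2 (flp_a L103810) (flp_d L103796) L144203
theorem L144207 : sm gc N13663 = N18719 := rfl
theorem L144209 : sm gb N18719 = N15954 := ded_13_1 (flp_c L115327) (flp_b L95316) (flp_c L89042) L103794 L144207
theorem L144211 : sm gf N13663 = N18720 := rfl
theorem L144213 : sm gd N18720 = N13669 := ded_23_1 (flp_f L103818) (flp_d L103796) L144211
theorem L144215 : sm gb N13664 = N18721 := rfl
theorem L144217 : sm ge N18721 = N13848 := ded_15_2 (flp_b L104833) (flp_e L103800) L144215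
theorem L144219 : sm gc N13664 = N18722 := rfl
theorem L144221 : sm ga N18722 = N13665 := ded_8_1 (flp_c L103802) L103798 L144219
theorem L144223 : sm ge N18722 = N13849 := ded_19_2 (flp_c L104835) (flp_e L103800) L144219
theorem L144225 : sm gf N18722 = N14681 := ded_20_2 L144149 L144147 L144219
theorem L144227 : sm gg N13664 = N18723 := rfl
theorem L144229 : sm ga N18723 = N13666 := ded_12_1 (flp_g L103806) L103798 L144227
theorem L144231 : sm ge N18723 = N13850 := ded_26_1 (flp_g L104839) (flp_e L103800) L144227
theorem L144233 : sm gf N18723 = N18709 := ded_29_2 (flp_g L144163) L144143 L144147 L144227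
theorem L144235 : sm gg N13665 = N18724 := rfl
theorem L144237 : sm gc N18724 = N13666 := ded_21_1 (flp_g L103806) L103802 L144235
theorem L144239 : sm ge N18724 = N13852 := ded_26_1 (flp_g L104847) (flp_e L103804) L144235
theorem L144241 : sm gf N13666 = N18725 := rfl
theorem L144243 : sm ga N18725 = N18709 := ded_11_1 (flp_f L144233) L144229 L144241
theorem L144245 : sm ge N18725 = N13853 := ded_25_1 (flp_f L104851) (flp_e L103808) L144241
theorem L144247 : sm gg N18725 = N18707 := ded_29_3 (flp_a L144143) L103766 L103806 L144241
theorem L144249 : sm gb N13667 = N18726 := rfl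
theorem L144251 : sm ge N18726 = N13854 := ded_15_2 (flp_b L104857) (flp_e L103812) L144249
theorem L144253 : sm gc N13667 = N18727 := rfl
theorem L144255 : sm ga N18727 = N13668 := ded_8_1 (flp_c L103814) L103810 L144253
theorem L144257 : sm ge N18727 = N13855 := ded_19_2 (flp_c L104859) (flp_e L103812) L144253
theorem L144259 : sm gf N13667 = N18728 := rfl
theorem L144261 : sm ga N18728 = N13669 := ded_11_1 (flp_f L103818) L103810 L144259
theorem L144263 : sm ge N18728 = N13856 := ded_25_1 (flp_f L104863) (flp_e L103812) L144259
theorem L144265 : sm gg N18713 = N18728 := ded_29_1 (flp_f L144259) (flp_g L144175) (flp_a L144171) L144183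
theorem L144267 : sm gd N13668 = N18729 := rfl
theorem L144269 : sm gf N13668 = N18730 := rfl
theorem L144271 : sm gc N18730 = N13669 := ded_20_1 (flp_f L103818) L103814 L144269
theorem L144273 : sm ge N18730 = N13858 := ded_25_1 (flp_f L104871) (flp_e L103816) L144269
theorem L144275 : sm gg N13669 = N18731 := rfl
theorem L144277 : sm ga N18731 = N18713 := ded_12_1 L144265 L144261 L144275
theorem L144279 : sm ge N18731 = N13859 := ded_26_1 (flp_g L104875) (flp_e L103820) L144275
theorem L144281 : sm gf N18711 = N18731 := ded_29_0 (flp_g L144275) (flp_f L103818) (flp_g L103778) L144171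
theorem L144283 : sm ga N13670 = N18732 := rfl
theorem L144285 : sm gd N18732 = N15930 := ded_9_2 (flp_a L115186) (flp_d L103824) L144283
theorem L144287 : sm gb N18193 = N18732 := ded_14_3 L144285 (flp_b L115190) (flp_d L128797)
theorem L144289 : sm gc N18732 = N18190 := ded_13_2 (flp_b L128763) L101903 L101919 L128789 L144287
theorem L144291 : sm gc N13670 = N18733 := rfl
theorem L144293 : sm ga N18733 = N18190 := ded_8_1 (flp_c L144289) (flp_a L144283) L144291
theorem L144295 : sm ge N18733 = N18732 := ded_19_2 L144289 L128767 L144291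
theorem L144297 : sm gf N18733 = N18732 := ded_20_2 L144289 L128769 L144291
theorem L144299 : sm gb N18733 = N13673 := ded_13_1 (flp_c L103847) (flp_b L89070) (flp_c L89058) L103822 L144291
theorem L144301 : sm gb N15975 = N15975 := ded_30_10 L115452 (flp_f L95380) L89020 L89018 L38666 L38682 (flp_c L89058) L103822 L144283 (flp_f L144297) (flp_c L144291) (flp_b L103822) L89056 (flp_f L84306) (flp_c L84359) (flp_b L89018) (flp_a L103730) L144089 L144093
theorem L144302 : sm gd N16244 = N18733 := ded_9_0 L144293 L128765 (flp_a L116881)
theorem L144304 : sm gf N15973 = N15973 := ded_16_4 (flp_b L115441) L115450 L144301 (flp_f L115450) L115441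
theorem L144305 : sm gg N13670 = N18734 := rfl
theorem L144307 : sm gd N18734 = N15932 := ded_24_1 (flp_g L115196) (flp_d L103824) L144305
theorem L144309 : sm ga N13671 = N18735 := rfl
theorem L144311 : sm gd N18735 = N15933 := ded_9_2 (flp_a L115200) (flp_d L103828) L144309
theorem L144313 : sm gb N18197 = N18735 := ded_14_3 L144311 (flp_b L115204) (flp_d L128829)
theorem L144315 : sm gc N18735 = N18191 := ded_13_2 (flp_b L128771) L101913 L101935 L128821 L144313
theorem L144317 : sm gc N13671 = N18736 := rfl
theorem L144319 : sm ga N18736 = N18191 := ded_8_1 (flp_c L144315) (flp_a L144309) L144317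
theorem L144321 : sm ge N18736 = N18735 := ded_19_2 L144315 L128775 L144317
theorem L144323 : sm gg N18736 = N18735 := ded_21_2 L144315 L128777 L144317
theorem L144325 : sm gb N18736 = N13677 := ded_13_1 (flp_c L103871) (flp_b L89082) (flp_c L89066) L103826 L144317
theorem L144327 : sm gd N16349 = N18736 := ded_9_0 L144319 L128773 (flp_a L117525)
theorem L144329 : sm gf N13671 = N18737 := rfl
theorem L144331 : sm gd N18737 = N15935 := ded_23_1 (flp_f L115210) (flp_d L103828) L144329
theorem L144333 : sm gb N13672 = N18738 := rfl
theorem L144335 : sm gd N18738 = N13680 := ded_14_2 (flp_b L103887) (flp_d L103832) L144333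
theorem L144337 : sm gb N13674 = N18739 := rfl
theorem L144339 : sm gd N18739 = N13684 := ded_14_2 (flp_b L103909) (flp_d L103857) L144337
theorem L144341 : sm gg N18739 = N13675 := ded_17_2 (flp_b L103859) (flp_g L89076) L89070 L103855 L144337
theorem L144343 : sm ga N13675 = N18740 := rfl
theorem L144345 : sm gd N18740 = N13685 := ded_9_2 (flp_a L103915) (flp_d L103861) L144343
theorem L144347 : sm gc N13675 = N18741 := rfl
theorem L144349 : sm gf N13675 = N18742 := rfl
theorem L144351 : sm gd N18742 = N13687 := ded_23_1 (flp_f L103923) (flp_d L103861) L144349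
theorem L144353 : sm gb N18742 = N18720 := ded_16_1 (flp_f L144211) (flp_b L103794) L89080 L103859 L144349
theorem L144355 : sm gb N13676 = N18743 := rfl
theorem L144357 : sm gd N18743 = N13688 := ded_14_2 (flp_b L103929) (flp_d L103865) L144355
theorem L144359 : sm gb N13678 = N18744 := rfl
theorem L144361 : sm gd N18744 = N13692 := ded_14_2 (flp_b L103951) (flp_d L103881) L144359
theorem L144363 : sm gf N18744 = N13679 := ded_16_2 (flp_b L103883) (flp_f L89088) L89082 L103879 L144359
theorem L144365 : sm ga N13679 = N18745 := rfl
theorem L144367 : sm gd N18745 = N13693 := ded_9_2 (flp_a L103957) (flp_d L103885) L144365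
theorem L144369 : sm gc N13679 = N18746 := rfl
theorem L144371 : sm gg N13679 = N18747 := rfl
theorem L144373 : sm gd N18747 = N13695 := ded_24_1 (flp_g L103965) (flp_d L103885) L144371
theorem L144375 : sm gb N18747 = N18717 := ded_17_1 (flp_g L144199) (flp_b L103790) (flp_g L89094) L103883 L144371
theorem L144377 : sm ga N13680 = N18748 := rfl
theorem L144379 : sm ge N18748 = N13860 := ded_10_2 (flp_a L104881) (flp_e L103889) L144377
theorem L144381 : sm gc N13680 = N18749 := rfl
theorem L144383 : sm ge N18749 = N13861 := ded_19_2 (flp_c L104883) (flp_e L103889) L144381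
theorem L144385 : sm gf N18748 = N18749 := ded_30_0 (flp_c L144381) (flp_b L103887) (flp_a L89096) L38694 L38744 L38748 (flp_a L38784) (flp_f L72128) (flp_c L38946) L64690 (flp_a L69494) L17662 L18445 (flp_b L38748) (flp_a L89172) (flp_f L103897) (flp_c L103891) L103887 L144377
theorem L144387 : sm gf N13680 = N18750 := rfl
theorem L144389 : sm ga N18750 = N18749 := ded_11_1 (flp_f L144385) (flp_a L144377) L144387
theorem L144391 : sm gc N18750 = N18748 := ded_20_1 L144385 (flp_c L144381) L144387
theorem L144393 : sm ge N18750 = N13862 := ded_25_1 (flp_f L104887) (flp_e L103889) L144387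
theorem L144395 : sm gb N18750 = N13714 := ded_16_1 (flp_f L104089) (flp_b L89166) (flp_f L89100) L103887 L144387
theorem L144397 : sm gg N13680 = N18751 := rfl
theorem L144399 : sm ge N18751 = N13863 := ded_26_1 (flp_g L104895) (flp_e L103889) L144397
theorem L144401 : sm gd N13681 = N18752 := rfl
theorem L144403 : sm ga N18752 = N13682 := ded_9_1 (flp_d L103899) (flp_a L103893) L144401
theorem L144405 : sm gf N18752 = N13717 := ded_23_2 (flp_d L104101) (flp_f L103897) L144401
theorem L144407 : sm ge N13682 = N18753 := rfl
theorem L144409 : sm gc N18753 = N13797 := ded_19_1 (flp_e L120285) L116921 L144407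
theorem L144411 : sm gf N18753 = N13720 := ded_25_2 (flp_e L104119) (flp_f L103901) L144407
theorem L144413 : sm gd N18753 = N13866 := ded_22_1 (flp_e L104907) (flp_d L89634) (flp_e L89104) L103899 L144407
theorem L144415 : sm gg N13682 = N18754 := rfl
theorem L144417 : sm gd N18754 = N13683 := ded_24_1 (flp_g L103903) L103899 L144415
theorem L144419 : sm gb N13683 = N18755 := rfl
theorem L144421 : sm ge N18755 = N13868 := ded_15_2 (flp_b L104915) (flp_e L103907) L144419
theorem L144423 : sm ga N13684 = N18756 := rfl
theorem L144425 : sm ge N18756 = N13869 := ded_10_2 (flp_a L104917) (flp_e L103911) L144423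
theorem L144427 : sm gg N18756 = N13685 := ded_12_2 (flp_a L103915) (flp_g L103913) L144423
theorem L144429 : sm gc N13684 = N18757 := rfl
theorem L144431 : sm ge N18757 = N13870 := ded_19_2 (flp_c L104921) (flp_e L103911) L144429
theorem L144433 : sm gg N18757 = N13686 := ded_21_2 (flp_c L103919) (flp_g L103913) L144429
theorem L144435 : sm gf N13684 = N18758 := rfl
theorem L144437 : sm ge N18758 = N13871 := ded_25_1 (flp_f L104925) (flp_e L103911) L144435
theorem L144439 : sm gb N13685 = N18759 := rfl
theorem L144441 : sm ge N18759 = N13872 := ded_15_2 (flp_b L104927) (flp_e L103917) L144439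
theorem L144443 : sm gc N13685 = N18760 := rfl
theorem L144445 : sm ga N18760 = N13686 := ded_8_1 (flp_c L103919) L103915 L144443
theorem L144447 : sm ge N18760 = N13873 := ded_19_2 (flp_c L104929) (flp_e L103917) L144443
theorem L144449 : sm gf N13685 = N18761 := rfl
theorem L144451 : sm ga N18761 = N13687 := ded_11_1 (flp_f L103923) L103915 L144449
theorem L144453 : sm ge N18761 = N13874 := ded_25_1 (flp_f L104933) (flp_e L103917) L144449
theorem L144455 : sm gg N18758 = N18761 := ded_29_1 (flp_f L144449) (flp_g L144427) (flp_a L144423) L144435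
theorem L144457 : sm gd N13686 = N18762 := rfl
theorem L144459 : sm gf N13686 = N18763 := rfl
theorem L144461 : sm gc N18763 = N13687 := ded_20_1 (flp_f L103923) L103919 L144459
theorem L144463 : sm ge N18763 = N13876 := ded_25_1 (flp_f L104941) (flp_e L103921) L144459
theorem L144465 : sm gg N13687 = N18764 := rfl
theorem L144467 : sm ga N18764 = N18758 := ded_12_1 L144455 L144451 L144465
theorem L144469 : sm ge N18764 = N13877 := ded_26_1 (flp_g L104945) (flp_e L103925) L144465
theorem L144471 : sm gf N18756 = N18764 := ded_29_0 (flp_g L144465) (flp_f L103923) (flp_g L103913) L144423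
theorem L144473 : sm ga N13688 = N18765 := rfl
theorem L144475 : sm ge N18765 = N13878 := ded_10_2 (flp_a L104951) (flp_e L103931) L144473
theorem L144477 : sm gc N13688 = N18766 := rfl
theorem L144479 : sm ge N18766 = N13879 := ded_19_2 (flp_c L104953) (flp_e L103931) L144477
theorem L144481 : sm gf N13688 = N18767 := rfl
theorem L144483 : sm ge N18767 = N13880 := ded_25_1 (flp_f L104955) (flp_e L103931) L144481
theorem L144485 : sm gg N13688 = N18768 := rfl
theorem L144487 : sm ge N18768 = N13881 := ded_26_1 (flp_g L104957) (flp_e L103931) L144485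
theorem L144489 : sm gb N18768 = N13737 := ded_17_1 (flp_g L104214) (flp_b L89224) (flp_g L89120) L103929 L144485
theorem L144491 : sm gb N13689 = N18769 := rfl
theorem L144493 : sm ge N18769 = N13882 := ded_15_2 (flp_b L104961) (flp_e L103937) L144491
theorem L144495 : sm gd N13689 = N18770 := rfl
theorem L144497 : sm ga N18770 = N13690 := ded_9_1 (flp_d L103941) (flp_a L103935) L144495
theorem L144499 : sm gg N18770 = N13739 := ded_24_2 (flp_d L104222) (flp_g L103939) L144495
theorem L144501 : sm ge N13690 = N18771 := rfl
theorem L144503 : sm gg N18771 = N13742 := ded_26_2 (flp_e L104240) (flp_g L103943) L144501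
theorem L144505 : sm gd N18771 = N13884 := ded_22_1 (flp_e L104971) (flp_d L89662) (flp_e L89124) L103941 L144501
theorem L144507 : sm gf N13690 = N18772 := rfl
theorem L144509 : sm gd N18772 = N13691 := ded_23_1 (flp_f L103945) L103941 L144507
theorem L144511 : sm gb N13691 = N18773 := rfl
theorem L144513 : sm ge N18773 = N13886 := ded_15_2 (flp_b L104979) (flp_e L103949) L144511
theorem L144515 : sm ga N13692 = N18774 := rfl
theorem L144517 : sm ge N18774 = N13887 := ded_10_2 (flp_a L104981) (flp_e L103953) L144515
theorem L144519 : sm gf N18774 = N13693 := ded_11_2 (flp_a L103957) (flp_f L103955) L144515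
theorem L144521 : sm gc N13692 = N18775 := rfl
theorem L144523 : sm ge N18775 = N13888 := ded_19_2 (flp_c L104985) (flp_e L103953) L144521
theorem L144525 : sm gf N18775 = N13694 := ded_20_2 (flp_c L103961) (flp_f L103955) L144521
theorem L144527 : sm gg N13692 = N18776 := rfl
theorem L144529 : sm ge N18776 = N13889 := ded_26_1 (flp_g L104989) (flp_e L103953) L144527
theorem L144531 : sm gb N13693 = N18777 := rfl
theorem L144533 : sm ge N18777 = N13890 := ded_15_2 (flp_b L104991) (flp_e L103959) L144531
theorem L144535 : sm gc N13693 = N18778 := rfl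
theorem L144537 : sm ga N18778 = N13694 := ded_8_1 (flp_c L103961) L103957 L144535
theorem L144539 : sm ge N18778 = N13891 := ded_19_2 (flp_c L104993) (flp_e L103959) L144535
theorem L144541 : sm gg N13693 = N18779 := rfl
theorem L144543 : sm ga N18779 = N13695 := ded_12_1 (flp_g L103965) L103957 L144541
theorem L144545 : sm ge N18779 = N13892 := ded_26_1 (flp_g L104997) (flp_e L103959) L144541
theorem L144547 : sm gf N18779 = N18776 := ded_29_2 (flp_g L144527) L144515 L144519 L144541
theorem L144549 : sm gd N13694 = N18780 := rfl
theorem L144551 : sm gg N13694 = N18781 := rfl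
theorem L144553 : sm gc N18781 = N13695 := ded_21_1 (flp_g L103965) L103961 L144551
theorem L144555 : sm ge N18781 = N13894 := ded_26_1 (flp_g L105005) (flp_e L103963) L144551
theorem L144557 : sm gf N13695 = N18782 := rfl
theorem L144559 : sm ga N18782 = N18776 := ded_11_1 (flp_f L144547) L144543 L144557
theorem L144561 : sm ge N18782 = N13895 := ded_25_1 (flp_f L105009) (flp_e L103967) L144557
theorem L144563 : sm gg N18782 = N18774 := ded_29_3 (flp_a L144515) L103955 L103965 L144557
theorem L144565 : sm ga N13696 = N18783 := rfl
theorem L144567 : sm gc N18783 = N16053 := ded_8_2 L115842 (flp_c L103975) L144565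
theorem L144569 : sm gd N18783 = N13712 := ded_9_2 (flp_a L104081) (flp_d L103973) L144565
theorem L144571 : sm ge N18783 = N16052 := ded_10_2 (flp_a L116035) L116041 L144565
theorem L144573 : sm gf N18783 = N16168 := ded_11_2 (flp_a L117155) L117159 L144565
theorem L144575 : sm gb N18783 = N16052 := ded_7_2 (flp_a L116035) L116043 (flp_a L101985) (flp_b L88078) L32830 L38716 L89136 L103971 L144565
theorem L144577 : sm gg N13696 = N18784 := rfl
theorem L144579 : sm gc N18784 = N16161 := ded_21_1 (flp_g L116481) (flp_c L103975) L144577
theorem L144581 : sm gd N18784 = N13715 := ded_24_1 (flp_g L104093) (flp_d L103973) L144577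
theorem L144583 : sm gb N13697 = N18785 := rfl
theorem L144585 : sm gd N18785 = N13719 := ded_14_2 (flp_b L104115) (flp_d L103983) L144583
theorem L144587 : sm gb N13698 = N18786 := rfl
theorem L144589 : sm gd N18786 = N16245 := ded_14_2 (flp_b L116883) (flp_d L103993) L144587
theorem L144591 : sm ga N13699 = N18787 := rfl
theorem L144593 : sm gd N18787 = N13724 := ded_9_2 (flp_a L104145) (flp_d L103997) L144591
theorem L144595 : sm gg N18787 = N13701 := ded_12_2 (flp_a L104009) (flp_g L103999) L144591
theorem L144597 : sm gc N13699 = N18788 := rfl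
theorem L144599 : sm gg N18788 = N13702 := ded_21_2 (flp_c L104013) (flp_g L103999) L144597
theorem L144601 : sm gf N13699 = N18789 := rfl
theorem L144603 : sm gd N18789 = N13726 := ded_23_1 (flp_f L104157) (flp_d L103997) L144601
theorem L144605 : sm gb N13700 = N18790 := rfl
theorem L144607 : sm gd N18790 = N13727 := ded_14_2 (flp_b L104161) (flp_d L104005) L144605
theorem L144609 : sm gb N13701 = N18791 := rfl
theorem L144611 : sm gd N18791 = N13728 := ded_14_2 (flp_b L104165) (flp_d L104011) L144609
theorem L144613 : sm gc N13701 = N18792 := rfl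
theorem L144615 : sm ga N18792 = N13702 := ded_8_1 (flp_c L104013) L104009 L144613
theorem L144617 : sm gf N13701 = N18793 := rfl
theorem L144619 : sm ga N18793 = N13703 := ded_11_1 (flp_f L104015) L104009 L144617
theorem L144621 : sm gd N18793 = N13730 := ded_23_1 (flp_f L104175) (flp_d L104011) L144617
theorem L144623 : sm gg N18789 = N18793 := ded_29_1 (flp_f L144617) (flp_g L144595) (flp_a L144591) L144601
theorem L144627 : sm gf N13702 = N18795 := rfl
theorem L144629 : sm gc N18795 = N13703 := ded_20_1 (flp_f L104015) L104013 L144627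
theorem L144631 : sm gg N13703 = N18796 := rfl
theorem L144633 : sm ga N18796 = N18789 := ded_12_1 L144623 L144619 L144631
theorem L144635 : sm gd N18796 = N13733 := ded_24_1 (flp_g L104194) (flp_d L104017) L144631
theorem L144637 : sm gf N18787 = N18796 := ded_29_0 (flp_g L144631) (flp_f L104015) (flp_g L103999) L144591
theorem L144639 : sm ga N13704 = N18797 := rfl
theorem L144641 : sm gc N18797 = N16202 := ded_8_2 (flp_a L116669) (flp_c L104025) L144639
theorem L144643 : sm gd N18797 = N13734 := ded_9_2 (flp_a L104202) (flp_d L104023) L144639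
theorem L144645 : sm gf N13704 = N18798 := rfl
theorem L144647 : sm gc N18798 = N16204 := ded_20_1 (flp_f L116675) (flp_c L104025) L144645
theorem L144649 : sm gd N18798 = N13736 := ded_23_1 (flp_f L104210) (flp_d L104023) L144645
theorem L144651 : sm gg N13704 = N18799 := rfl
theorem L144653 : sm gc N18799 = N16205 := ded_21_1 (flp_g L116677) (flp_c L104025) L144651
theorem L144655 : sm gd N18799 = N13737 := ded_24_1 (flp_g L104214) (flp_d L104023) L144651
theorem L144657 : sm gb N13705 = N18800 := rfl
theorem L144659 : sm gd N18800 = N13741 := ded_14_2 (flp_b L104236) (flp_d L104033) L144657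
theorem L144661 : sm gb N13706 = N18801 := rfl
theorem L144663 : sm gd N18801 = N16348 := ded_14_2 (flp_b L117511) (flp_d L104043) L144661
theorem L144665 : sm ga N13707 = N18802 := rfl
theorem L144667 : sm gd N18802 = N13746 := ded_9_2 (flp_a L104266) (flp_d L104047) L144665
theorem L144669 : sm ge N18802 = N18793 := ded_10_2 L144619 (flp_e L104049) L144665
theorem L144671 : sm gf N18802 = N13709 := ded_11_2 (flp_a L104061) (flp_f L104051) L144665
theorem L144673 : sm gc N13707 = N18803 := rfl
theorem L144675 : sm ge N18803 = N18795 := ded_19_2 L144629 (flp_e L104049) L144673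
theorem L144677 : sm gf N18803 = N13710 := ded_20_2 (flp_c L104067) (flp_f L104051) L144673
theorem L144679 : sm gg N13707 = N18804 := rfl
theorem L144681 : sm gd N18804 = N13748 := ded_24_1 (flp_g L104278) (flp_d L104047) L144679
theorem L144683 : sm ge N18804 = N18796 := ded_26_1 (flp_g L144631) (flp_e L104049) L144679
theorem L144685 : sm gb N13708 = N18805 := rfl
theorem L144687 : sm gd N18805 = N13749 := ded_14_2 (flp_b L104282) (flp_d L104057) L144685
theorem L144689 : sm gb N13709 = N18806 := rfl
theorem L144691 : sm gd N18806 = N13750 := ded_14_2 (flp_b L104286) (flp_d L104063) L144689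
theorem L144693 : sm ge N18806 = N18791 := ded_15_2 (flp_b L144609) (flp_e L104065) L144689
theorem L144695 : sm gc N13709 = N18807 := rfl
theorem L144697 : sm ga N18807 = N13710 := ded_8_1 (flp_c L104067) L104061 L144695
theorem L144699 : sm ge N18807 = N18792 := ded_19_2 (flp_c L144613) (flp_e L104065) L144695
theorem L144701 : sm gg N13709 = N18808 := rfl
theorem L144703 : sm ga N18808 = N13711 := ded_12_1 (flp_g L104073) L104061 L144701
theorem L144705 : sm gd N18808 = N13752 := ded_24_1 (flp_g L104296) (flp_d L104063) L144701
theorem L144707 : sm ge N18808 = N18787 := ded_26_1 L144595 (flp_e L104065) L144701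
theorem L144709 : sm gf N18808 = N18804 := ded_29_2 (flp_g L144679) L144665 L144671 L144701
theorem L144711 : sm gd N13710 = N18809 := rfl
theorem L144715 : sm gg N13710 = N18810 := rfl
theorem L144717 : sm gc N18810 = N13711 := ded_21_1 (flp_g L104073) L104067 L144715
theorem L144719 : sm ge N18810 = N18788 := ded_26_1 L144599 (flp_e L104069) L144715
theorem L144721 : sm gf N13711 = N18811 := rfl
theorem L144723 : sm ga N18811 = N18804 := ded_11_1 (flp_f L144709) L144703 L144721
theorem L144725 : sm gd N18811 = N13755 := ded_23_1 (flp_f L104315) (flp_d L104075) L144721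
theorem L144727 : sm ge N18811 = N18789 := ded_25_1 (flp_f L144601) (flp_e L104077) L144721
theorem L144729 : sm gg N18811 = N18802 := ded_29_3 (flp_a L144665) L104051 L104073 L144721
theorem L144731 : sm gc N13712 = N18812 := rfl
theorem L144733 : sm ga N18812 = N13713 := ded_8_1 (flp_c L104085) L104081 L144731
theorem L144735 : sm ge N18812 = N13896 := ded_19_2 (flp_c L105015) (flp_e L104083) L144731
theorem L144737 : sm gb N18812 = N13758 := ded_13_1 L116078 L116002 L116014 L116068 L144731
theorem L144739 : sm gf N13712 = N18813 := rfl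
theorem L144741 : sm ga N18813 = N13714 := ded_11_1 (flp_f L104089) L104081 L144739
theorem L144743 : sm gd N18813 = N16168 := ded_23_1 (flp_f L144573) L144569 L144739
theorem L144745 : sm ge N18813 = N13897 := ded_25_1 (flp_f L105019) (flp_e L104083) L144739
theorem L144747 : sm gg N13712 = N18814 := rfl
theorem L144749 : sm ga N18814 = N13715 := ded_12_1 (flp_g L104093) L104081 L144747
theorem L144751 : sm ge N18814 = N13898 := ded_26_1 (flp_g L105023) (flp_e L104083) L144747
theorem L144753 : sm gb N13713 = N18815 := rfl
theorem L144755 : sm ge N18815 = N13899 := ded_15_2 (flp_b L105027) (flp_e L104087) L144753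
theorem L144757 : sm gc N18815 = N13716 := ded_13_2 (flp_b L104097) (flp_c L89170) L89166 L104085 L144753
theorem L144759 : sm ga N18815 = N13716 := ded_7_1 (flp_b L104097) L89172 L38748 (flp_a L38784) L89290 L104337 (flp_b L144737) L144733 L144753
theorem L144761 : sm gd N13713 = N18816 := rfl
theorem L144763 : sm gf N13713 = N18817 := rfl
theorem L144765 : sm gc N18817 = N13714 := ded_20_1 (flp_f L104089) L104085 L144763
theorem L144767 : sm ge N18817 = N13901 := ded_25_1 (flp_f L105033) (flp_e L104087) L144763
theorem L144769 : sm gg N13713 = N18818 := rfl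
theorem L144771 : sm gc N18818 = N13715 := ded_21_1 (flp_g L104093) L104085 L144769
theorem L144773 : sm ge N18818 = N13902 := ded_26_1 (flp_g L105037) (flp_e L104087) L144769
theorem L144775 : sm gg N13714 = N18819 := rfl
theorem L144777 : sm ge N18819 = N13903 := ded_26_1 (flp_g L105041) (flp_e L104091) L144775
theorem L144779 : sm gf N18814 = N18819 := ded_29_0 (flp_g L144775) (flp_f L104089) L104093 (flp_a L144749)
theorem L144781 : sm gb N13715 = N18820 := rfl
theorem L144783 : sm ge N18820 = N13904 := ded_15_2 (flp_b L105045) (flp_e L104095) L144781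
theorem L144785 : sm gg N18820 = N13719 := ded_17_2 (flp_b L104115) (flp_g L89176) L89166 L104093 L144781
theorem L144787 : sm gf N13715 = N18821 := rfl
theorem L144789 : sm ga N18821 = N18819 := ded_11_1 (flp_f L144779) L144749 L144787
theorem L144791 : sm ge N18821 = N13905 := ded_25_1 (flp_f L105049) (flp_e L104095) L144787
theorem L144793 : sm gg N18821 = N18813 := ded_29_3 L144741 (flp_f L104089) L104093 L144787
theorem L144795 : sm gd N13716 = N18822 := rfl
theorem L144797 : sm gb N18822 = N13717 := ded_14_1 (flp_d L104101) L104097 L144795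
theorem L144799 : sm gf N13716 = N18823 := rfl
theorem L144801 : sm ge N18823 = N13908 := ded_25_1 (flp_f L105069) (flp_e L104099) L144799
theorem L144803 : sm gg N13716 = N18824 := rfl
theorem L144805 : sm ge N18824 = N13909 := ded_26_1 (flp_g L105071) (flp_e L104099) L144803
theorem L144807 : sm ge N13717 = N18825 := rfl
theorem L144809 : sm ga N18825 = N13720 := ded_10_1 (flp_e L104119) (flp_a L104103) L144807
theorem L144811 : sm gd N18825 = N13910 := ded_22_1 (flp_e L105073) (flp_d L89692) (flp_e L89174) L104101 L144807
theorem L144813 : sm gg N13717 = N18826 := rfl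
theorem L144815 : sm ga N18826 = N13721 := ded_12_1 (flp_g L104125) (flp_a L104103) L144813
theorem L144817 : sm gd N18826 = N13718 := ded_24_1 (flp_g L104105) L104101 L144813
theorem L144819 : sm gf N18826 = N18754 := ded_29_2 (flp_g L144415) (flp_a L144403) L144405 L144813
theorem L144821 : sm gb N13718 = N18827 := rfl
theorem L144823 : sm ge N18827 = N13912 := ded_15_2 (flp_b L105089) (flp_e L104111) L144821
theorem L144825 : sm ga N13719 = N18828 := rfl
theorem L144827 : sm ge N18828 = N13913 := ded_10_2 (flp_a L105091) (flp_e L104117) L144825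
theorem L144829 : sm gc N13719 = N18829 := rfl
theorem L144831 : sm ge N18829 = N13914 := ded_19_2 (flp_c L105093) (flp_e L104117) L144829
theorem L144833 : sm gf N13719 = N18830 := rfl
theorem L144835 : sm ge N18830 = N13915 := ded_25_1 (flp_f L105095) (flp_e L104117) L144833
theorem L144837 : sm gb N18830 = N18758 := ded_16_1 (flp_f L144435) (flp_b L103909) (flp_f L89182) L104115 L144833
theorem L144839 : sm gg N13720 = N18831 := rfl
theorem L144841 : sm gd N18831 = N13916 := ded_24_1 (flp_g L105099) (flp_d L104123) L144839
theorem L144843 : sm ge N18831 = N13721 := ded_26_1 (flp_g L104125) L104119 L144839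
theorem L144845 : sm gb N13721 = N18832 := rfl
theorem L144847 : sm gd N18832 = N13722 := ded_14_2 (flp_b L104129) (flp_d L104127) L144845
theorem L144849 : sm gg N18832 = N13764 := ded_17_2 (flp_b L104365) (flp_g L89302) (flp_b L89186) L104125 L144845
theorem L144851 : sm gf N13721 = N18833 := rfl
theorem L144853 : sm ga N18833 = N18754 := ded_11_1 (flp_f L144819) L144815 L144851
theorem L144855 : sm gd N18833 = N13723 := ded_23_1 (flp_f L104135) (flp_d L104127) L144851
theorem L144857 : sm gg N18833 = N18752 := ded_29_3 L144403 L103901 L104125 L144851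
theorem L144859 : sm ga N13722 = N18834 := rfl
theorem L144861 : sm ge N18834 = N13919 := ded_10_2 (flp_a L105119) (flp_e L104131) L144859
theorem L144863 : sm gg N18834 = N13766 := ded_12_2 (flp_a L104379) (flp_g L104133) L144859
theorem L144865 : sm gc N13722 = N18835 := rfl
theorem L144867 : sm ge N18835 = N13920 := ded_19_2 (flp_c L105123) (flp_e L104131) L144865
theorem L144869 : sm gg N18835 = N13767 := ded_21_2 (flp_c L104383) (flp_g L104133) L144865
theorem L144871 : sm gb N18835 = N13725 := ded_13_1 (flp_c L104151) (flp_b L89194) (flp_c L89190) L104129 L144865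
theorem L144873 : sm gf N13722 = N18836 := rfl
theorem L144875 : sm ge N18836 = N13921 := ded_25_1 (flp_f L105129) (flp_e L104131) L144873
theorem L144877 : sm gb N13723 = N18837 := rfl
theorem L144879 : sm ge N18837 = N13922 := ded_15_2 (flp_b L105131) (flp_e L104141) L144877
theorem L144881 : sm gb N13724 = N18838 := rfl
theorem L144883 : sm ge N18838 = N13923 := ded_15_2 (flp_b L105133) (flp_e L104147) L144881
theorem L144885 : sm gc N13724 = N18839 := rfl
theorem L144887 : sm ga N18839 = N13725 := ded_8_1 (flp_c L104151) L104145 L144885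
theorem L144889 : sm ge N18839 = N13924 := ded_19_2 (flp_c L105135) (flp_e L104147) L144885
theorem L144891 : sm gg N18839 = N13729 := ded_21_2 (flp_c L104169) (flp_g L104149) L144885
theorem L144893 : sm gd N13725 = N18840 := rfl
theorem L144895 : sm gg N18840 = N13731 := ded_24_2 (flp_d L104183) (flp_g L104155) L144893
theorem L144897 : sm gf N13725 = N18841 := rfl
theorem L144899 : sm gc N18841 = N13726 := ded_20_1 (flp_f L104157) L104151 L144897
theorem L144901 : sm ge N18841 = N13926 := ded_25_1 (flp_f L105145) (flp_e L104153) L144897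
theorem L144903 : sm gb N13726 = N18842 := rfl
theorem L144905 : sm ge N18842 = N13927 := ded_15_2 (flp_b L105149) (flp_e L104159) L144903
theorem L144907 : sm gf N18842 = N13727 := ded_16_2 (flp_b L104161) (flp_f L89200) L89194 L104157 L144903
theorem L144909 : sm ga N13727 = N18843 := rfl
theorem L144911 : sm ge N18843 = N13928 := ded_10_2 (flp_a L105153) (flp_e L104163) L144909
theorem L144913 : sm gc N13727 = N18844 := rfl
theorem L144915 : sm ge N18844 = N13929 := ded_19_2 (flp_c L105155) (flp_e L104163) L144913
theorem L144917 : sm gg N13727 = N18845 := rfl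
theorem L144919 : sm ge N18845 = N13930 := ded_26_1 (flp_g L105157) (flp_e L104163) L144917
theorem L144921 : sm gb N18845 = N18751 := ded_17_1 (flp_g L144397) (flp_b L103887) (flp_g L89206) L104161 L144917
theorem L144923 : sm ga N13728 = N18846 := rfl
theorem L144925 : sm ge N18846 = N13931 := ded_10_2 (flp_a L105161) (flp_e L104167) L144923
theorem L144927 : sm gc N13728 = N18847 := rfl
theorem L144929 : sm ge N18847 = N13932 := ded_19_2 (flp_c L105163) (flp_e L104167) L144927
theorem L144931 : sm gb N17192 = N18847 := ded_15_3 L144929 L143437 (flp_e L123612)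
theorem L144933 : sm gf N15341 = N18847 := ded_25_0 L144929 L143441 (flp_e L112396)
theorem L144935 : sm gf N13728 = N18848 := rfl
theorem L144937 : sm gc N18848 = N15341 := ded_20_1 L144933 (flp_c L144927) L144935
theorem L144939 : sm ge N18848 = N13933 := ded_25_1 (flp_f L105165) (flp_e L104167) L144935
theorem L144941 : sm gg N13728 = N18849 := rfl
theorem L144943 : sm ge N18849 = N13934 := ded_26_1 (flp_g L105167) (flp_e L104167) L144941
theorem L144945 : sm gb N13729 = N18850 := rfl
theorem L144947 : sm ge N18850 = N13935 := ded_15_2 (flp_b L105169) (flp_e L104173) L144945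
theorem L144949 : sm gc N18850 = N17192 := ded_13_2 L144931 (flp_c L144927) (flp_b L104165) L104169 L144945
theorem L144951 : sm gf N17189 = N18850 := ded_25_0 L144947 L143417 L123598
theorem L144953 : sm gd N13729 = N18851 := rfl
theorem L144955 : sm ga N18851 = N13731 := ded_9_1 (flp_d L104183) (flp_a L104171) L144953
theorem L144957 : sm gf N13729 = N18852 := rfl
theorem L144959 : sm ga N18852 = N13732 := ded_11_1 (flp_f L104187) (flp_a L104171) L144957
theorem L144961 : sm gc N18852 = N13730 := ded_20_1 (flp_f L104175) L104169 L144957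
theorem L144963 : sm ge N18852 = N13937 := ded_25_1 (flp_f L105175) (flp_e L104173) L144957
theorem L144965 : sm gg N18841 = N18852 := ded_29_1 (flp_f L144957) (flp_g L144891) L144887 L144897
theorem L144967 : sm gb N13730 = N18853 := rfl
theorem L144969 : sm ge N18853 = N13938 := ded_15_2 (flp_b L105183) (flp_e L104179) L144967
theorem L144971 : sm gc N13731 = N18854 := rfl
theorem L144973 : sm ge N13731 = N18855 := rfl
theorem L144975 : sm gb N18855 = N13775 := ded_15_1 (flp_e L104423) (flp_b L104185) L144973
theorem L144977 : sm gd N18855 = N13940 := ded_22_1 (flp_e L105187) (flp_d L89752) (flp_e L89214) L104183 L144973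
theorem L144979 : sm gf N13731 = N18856 := rfl
theorem L144981 : sm gd N18856 = N13732 := ded_23_1 (flp_f L104187) L104183 L144979
theorem L144983 : sm gb N18856 = N18856 := ded_16_1 (flp_f L144979) L104185 L89345 (flp_b L104185) L144979
theorem L144984 : sm gg N13732 = N18857 := rfl
theorem L144986 : sm ga N18857 = N18841 := ded_12_1 L144965 L144959 L144984
theorem L144988 : sm gc N18857 = N13733 := ded_21_1 (flp_g L104194) (flp_c L104189) L144984
theorem L144990 : sm ge N18857 = N13942 := ded_26_1 (flp_g L105196) (flp_e L104191) L144984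
theorem L144992 : sm gf N18839 = N18857 := ded_29_0 (flp_g L144984) (flp_f L104187) (flp_g L104155) (flp_a L144887)
theorem L144994 : sm gb N13733 = N18858 := rfl
theorem L144996 : sm ge N18858 = N13943 := ded_15_2 (flp_b L105204) (flp_e L104198) L144994
theorem L144998 : sm gg N18858 = N18223 := ded_17_2 (flp_b L128990) (flp_g L102155) (flp_b L89222) L104194 L144994
theorem L145000 : sm gc N13734 = N18859 := rfl
theorem L145002 : sm ga N18859 = N13735 := ded_8_1 (flp_c L104206) L104202 L145000
theorem L145004 : sm ge N18859 = N13944 := ded_19_2 (flp_c L105208) (flp_e L104204) L145000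
theorem L145006 : sm gb N13778 = N18859 := ded_15_3 L145004 (flp_b L105260) (flp_e L104444)
theorem L145008 : sm gf N13734 = N18860 := rfl
theorem L145010 : sm ga N18860 = N13736 := ded_11_1 (flp_f L104210) L104202 L145008
theorem L145012 : sm ge N18860 = N13945 := ded_25_1 (flp_f L105212) (flp_e L104204) L145008
theorem L145014 : sm gg N13734 = N18861 := rfl
theorem L145016 : sm ga N18861 = N13737 := ded_12_1 (flp_g L104214) L104202 L145014
theorem L145018 : sm ge N18861 = N13946 := ded_26_1 (flp_g L105216) (flp_e L104204) L145014
theorem L145020 : sm gb N13735 = N18862 := rfl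
theorem L145022 : sm ge N18862 = N13947 := ded_15_2 (flp_b L105220) (flp_e L104208) L145020
theorem L145024 : sm gc N18862 = N13738 := ded_13_2 (flp_b L104218) (flp_c L89228) L89224 L104206 L145020
theorem L145026 : sm ga N18862 = N13738 := ded_7_1 (flp_b L104218) L89230 L38766 (flp_a L38850) L89354 L104442 L145006 L145002 L145020
theorem L145028 : sm gd N13735 = N18863 := rfl
theorem L145030 : sm gf N13735 = N18864 := rfl
theorem L145032 : sm gc N18864 = N13736 := ded_20_1 (flp_f L104210) L104206 L145030
theorem L145034 : sm ge N18864 = N13949 := ded_25_1 (flp_f L105226) (flp_e L104208) L145030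
theorem L145036 : sm gg N13735 = N18865 := rfl
theorem L145038 : sm gc N18865 = N13737 := ded_21_1 (flp_g L104214) L104206 L145036
theorem L145040 : sm ge N18865 = N13950 := ded_26_1 (flp_g L105230) (flp_e L104208) L145036
theorem L145042 : sm gb N13736 = N18866 := rfl
theorem L145044 : sm ge N18866 = N13951 := ded_15_2 (flp_b L105234) (flp_e L104212) L145042
theorem L145046 : sm gf N18866 = N13741 := ded_16_2 (flp_b L104236) (flp_f L89234) L89224 L104210 L145042
theorem L145048 : sm gg N13736 = N18867 := rfl
theorem L145050 : sm ge N18867 = N13952 := ded_26_1 (flp_g L105238) (flp_e L104212) L145048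
theorem L145052 : sm gf N18861 = N18867 := ded_29_0 (flp_g L145048) (flp_f L104210) L104214 (flp_a L145016)
theorem L145054 : sm gf N13737 = N18868 := rfl
theorem L145056 : sm ga N18868 = N18867 := ded_11_1 (flp_f L145052) L145016 L145054
theorem L145058 : sm ge N18868 = N13953 := ded_25_1 (flp_f L105242) (flp_e L104216) L145054
theorem L145060 : sm gg N18868 = N18860 := ded_29_3 L145010 (flp_f L104210) L104214 L145054
theorem L145062 : sm gd N13738 = N18869 := rfl
theorem L145064 : sm gb N18869 = N13739 := ded_14_1 (flp_d L104222) L104218 L145062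
theorem L145066 : sm gf N13738 = N18870 := rfl
theorem L145068 : sm ge N18870 = N13956 := ded_25_1 (flp_f L105262) (flp_e L104220) L145066
theorem L145070 : sm gg N13738 = N18871 := rfl
theorem L145072 : sm ge N18871 = N13957 := ded_26_1 (flp_g L105264) (flp_e L104220) L145070
theorem L145074 : sm ge N13739 = N18872 := rfl
theorem L145076 : sm ga N18872 = N13742 := ded_10_1 (flp_e L104240) (flp_a L104224) L145074
theorem L145078 : sm gd N18872 = N13958 := ded_22_1 (flp_e L105266) (flp_d L89777) (flp_e L89232) L104222 L145074
theorem L145080 : sm gf N13739 = N18873 := rfl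
theorem L145082 : sm ga N18873 = N13743 := ded_11_1 (flp_f L104246) (flp_a L104224) L145080
theorem L145084 : sm gd N18873 = N13740 := ded_23_1 (flp_f L104226) L104222 L145080
theorem L145086 : sm gg N18772 = N18873 := ded_29_1 (flp_f L145080) (flp_g L144499) L144497 L144507
theorem L145088 : sm gb N13740 = N18874 := rfl
theorem L145090 : sm ge N18874 = N13960 := ded_15_2 (flp_b L105282) (flp_e L104232) L145088
theorem L145092 : sm ga N13741 = N18875 := rfl
theorem L145094 : sm ge N18875 = N13961 := ded_10_2 (flp_a L105284) (flp_e L104238) L145092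
theorem L145096 : sm gc N13741 = N18876 := rfl
theorem L145098 : sm ge N18876 = N13962 := ded_19_2 (flp_c L105286) (flp_e L104238) L145096
theorem L145100 : sm gg N13741 = N18877 := rfl
theorem L145102 : sm ge N18877 = N13963 := ded_26_1 (flp_g L105288) (flp_e L104238) L145100
theorem L145104 : sm gb N18877 = N18776 := ded_17_1 (flp_g L144527) (flp_b L103951) L89240 L104236 L145100
theorem L145106 : sm gf N13742 = N18878 := rfl
theorem L145108 : sm gd N18878 = N13964 := ded_23_1 (flp_f L105292) (flp_d L104244) L145106
theorem L145110 : sm ge N18878 = N13743 := ded_25_1 (flp_f L104246) L104240 L145106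
theorem L145112 : sm gb N13743 = N18879 := rfl
theorem L145114 : sm gd N18879 = N13744 := ded_14_2 (flp_b L104250) (flp_d L104248) L145112
theorem L145116 : sm gf N18879 = N13784 := ded_16_2 (flp_b L104470) (flp_f L89366) (flp_b L89244) L104246 L145112
theorem L145118 : sm gg N13743 = N18880 := rfl
theorem L145120 : sm ga N18880 = N18772 := ded_12_1 L145086 L145082 L145118
theorem L145122 : sm gd N18880 = N13745 := ded_24_1 (flp_g L104256) (flp_d L104248) L145118
theorem L145124 : sm gf N18770 = N18880 := ded_29_0 (flp_g L145118) (flp_f L104246) (flp_g L103943) (flp_a L144497)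
theorem L145126 : sm ga N13744 = N18881 := rfl
theorem L145128 : sm ge N18881 = N13967 := ded_10_2 (flp_a L105312) (flp_e L104252) L145126
theorem L145130 : sm gf N18881 = N13786 := ded_11_2 (flp_a L104484) (flp_f L104254) L145126
theorem L145132 : sm gc N13744 = N18882 := rfl
theorem L145134 : sm ge N18882 = N13968 := ded_19_2 (flp_c L105316) (flp_e L104252) L145132
theorem L145136 : sm gf N18882 = N13787 := ded_20_2 (flp_c L104488) (flp_f L104254) L145132
theorem L145138 : sm gb N18882 = N13747 := ded_13_1 (flp_c L104272) (flp_b L89252) (flp_c L89248) L104250 L145132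
theorem L145140 : sm gg N13744 = N18883 := rfl
theorem L145142 : sm ge N18883 = N13969 := ded_26_1 (flp_g L105322) (flp_e L104252) L145140
theorem L145144 : sm gb N13745 = N18884 := rfl
theorem L145146 : sm ge N18884 = N13970 := ded_15_2 (flp_b L105324) (flp_e L104262) L145144
theorem L145148 : sm gb N13746 = N18885 := rfl
theorem L145150 : sm ge N18885 = N13971 := ded_15_2 (flp_b L105326) (flp_e L104268) L145148
theorem L145152 : sm gc N13746 = N18886 := rfl
theorem L145154 : sm ga N18886 = N13747 := ded_8_1 (flp_c L104272) L104266 L145152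
theorem L145156 : sm ge N18886 = N13972 := ded_19_2 (flp_c L105330) (flp_e L104268) L145152
theorem L145158 : sm gf N18886 = N13751 := ded_20_2 (flp_c L104290) (flp_f L104270) L145152
theorem L145160 : sm gd N13747 = N18887 := rfl
theorem L145162 : sm gf N18887 = N13753 := ded_23_2 (flp_d L104304) (flp_f L104276) L145160
theorem L145164 : sm gg N13747 = N18888 := rfl
theorem L145166 : sm gc N18888 = N13748 := ded_21_1 (flp_g L104278) L104272 L145164
theorem L145168 : sm ge N18888 = N13974 := ded_26_1 (flp_g L105340) (flp_e L104274) L145164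
theorem L145170 : sm gb N13748 = N18889 := rfl
theorem L145172 : sm ge N18889 = N13975 := ded_15_2 (flp_b L105344) (flp_e L104280) L145170
theorem L145174 : sm gg N18889 = N13749 := ded_17_2 (flp_b L104282) (flp_g L89258) L89252 L104278 L145170
theorem L145176 : sm ga N13749 = N18890 := rfl
theorem L145178 : sm ge N18890 = N13976 := ded_10_2 (flp_a L105350) (flp_e L104284) L145176
theorem L145180 : sm gc N13749 = N18891 := rfl
theorem L145182 : sm ge N18891 = N13977 := ded_19_2 (flp_c L105352) (flp_e L104284) L145180
theorem L145184 : sm gf N13749 = N18892 := rfl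
theorem L145186 : sm ge N18892 = N13978 := ded_25_1 (flp_f L105354) (flp_e L104284) L145184
theorem L145188 : sm gb N18892 = N18767 := ded_16_1 (flp_f L144481) (flp_b L103929) L89264 L104282 L145184
theorem L145190 : sm ga N13750 = N18893 := rfl
theorem L145192 : sm ge N18893 = N13979 := ded_10_2 (flp_a L105358) (flp_e L104288) L145190
theorem L145194 : sm gb N18893 = N18846 := ded_7_2 (flp_a L144923) (flp_b L104165) (flp_a L89208) (flp_b L38754) (flp_a L18431) L38772 L89266 L104286 L145190
theorem L145196 : sm gc N13750 = N18894 := rfl
theorem L145198 : sm ge N18894 = N13980 := ded_19_2 (flp_c L105364) (flp_e L104288) L145196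
theorem L145200 : sm gf N13750 = N18895 := rfl
theorem L145202 : sm ge N18895 = N13981 := ded_25_1 (flp_f L105366) (flp_e L104288) L145200
theorem L145204 : sm gg N13750 = N18896 := rfl
theorem L145206 : sm ge N18896 = N13982 := ded_26_1 (flp_g L105370) (flp_e L104288) L145204
theorem L145208 : sm gb N13751 = N18897 := rfl
theorem L145210 : sm ge N18897 = N13983 := ded_15_2 (flp_b L105374) (flp_e L104294) L145208
theorem L145212 : sm gd N13751 = N18898 := rfl
theorem L145214 : sm ga N18898 = N13753 := ded_9_1 (flp_d L104304) (flp_a L104292) L145212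
theorem L145216 : sm gg N13751 = N18899 := rfl
theorem L145218 : sm ga N18899 = N13754 := ded_12_1 (flp_g L104308) (flp_a L104292) L145216
theorem L145220 : sm gc N18899 = N13752 := ded_21_1 (flp_g L104296) L104290 L145216
theorem L145222 : sm ge N18899 = N13985 := ded_26_1 (flp_g L105380) (flp_e L104294) L145216
theorem L145224 : sm gf N18899 = N18888 := ded_29_2 (flp_g L145164) (flp_a L145154) L145158 L145216
theorem L145226 : sm gb N13752 = N18900 := rfl
theorem L145228 : sm ge N18900 = N13986 := ded_15_2 (flp_b L105388) (flp_e L104300) L145226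
theorem L145230 : sm gc N13753 = N18901 := rfl
theorem L145232 : sm ge N13753 = N18902 := rfl
theorem L145234 : sm gb N18902 = N13795 := ded_15_1 (flp_e L104532) (flp_b L104306) L145232
theorem L145236 : sm gd N18902 = N13988 := ded_22_1 (flp_e L105394) (flp_d L89845) (flp_e L89272) L104304 L145232
theorem L145238 : sm gg N13753 = N18903 := rfl
theorem L145240 : sm gd N18903 = N13754 := ded_24_1 (flp_g L104308) L104304 L145238
theorem L145242 : sm gb N18903 = N18903 := ded_17_1 (flp_g L145238) L104306 L89411 (flp_b L104306) L145238
theorem L145243 : sm gf N13754 = N18904 := rfl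
theorem L145245 : sm ga N18904 = N18888 := ded_11_1 (flp_f L145224) L145218 L145243
theorem L145247 : sm gc N18904 = N13755 := ded_20_1 (flp_f L104315) (flp_c L104310) L145243
theorem L145249 : sm ge N18904 = N13990 := ded_25_1 (flp_f L105403) (flp_e L104312) L145243
theorem L145251 : sm gg N18904 = N18886 := ded_29_3 L145154 L104276 L104308 L145243
theorem L145253 : sm gb N13755 = N18905 := rfl
theorem L145255 : sm ge N18905 = N13991 := ded_15_2 (flp_b L105411) (flp_e L104319) L145253
theorem L145257 : sm gf N18905 = N18217 := ded_16_2 (flp_b L128963) (flp_f L102133) (flp_b L89280) L104315 L145253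
theorem L145259 : sm gf N13756 = N18906 := rfl
theorem L145261 : sm gc N18906 = N13760 := ded_20_1 (flp_f L104345) (flp_c L104327) L145259
theorem L145263 : sm ge N18906 = N13994 := ded_25_1 (flp_f L105425) (flp_e L104325) L145259
theorem L145265 : sm gb N18906 = N18906 := ded_16_1 (flp_f L145259) (flp_b L104323) L89287 L104323 L145259
theorem L145266 : sm gg N13756 = N18907 := rfl
theorem L145268 : sm gc N18907 = N13761 := ded_21_1 (flp_g L104349) (flp_c L104327) L145266
theorem L145270 : sm ge N18907 = N13995 := ded_26_1 (flp_g L105430) (flp_e L104325) L145266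
theorem L145272 : sm gb N18907 = N18298 := ded_17_1 (flp_g L129422) L102365 (flp_g L89288) L104323 L145266
theorem L145274 : sm gd N13758 = N18908 := rfl
theorem L145276 : sm ga N18908 = N13759 := ded_9_1 (flp_d L104341) L104337 L145274
theorem L145278 : sm gf N13758 = N18909 := rfl
theorem L145280 : sm ga N18909 = N13760 := ded_11_1 (flp_f L104345) L104337 L145278
theorem L145282 : sm ge N18909 = N13998 := ded_25_1 (flp_f L105447) (flp_e L104339) L145278
theorem L145284 : sm gb N15324 = N18909 := ded_7_0 L145280 (flp_b L119614) (flp_a L111889) L111891 L93456 L46513 (flp_a L46657) (flp_b L93695) (flp_a L112326)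
theorem L145286 : sm gg N13758 = N18910 := rfl
theorem L145288 : sm ga N18910 = N13761 := ded_12_1 (flp_g L104349) L104337 L145286
theorem L145290 : sm ge N18910 = N13999 := ded_26_1 (flp_g L105451) (flp_e L104339) L145286
theorem L145292 : sm gc N13759 = N18911 := rfl
theorem L145294 : sm gb N18911 = N18753 := ded_13_1 L144409 L104544 (flp_c L89423) (flp_b L104343) L145292
theorem L145296 : sm gd N14497 = N18911 := ded_28_3 (flp_c L145292) (flp_d L104341) (flp_c L104327) (flp_d L116080) (flp_a L115996) (flp_c L107921) L107917 L108027
theorem L145298 : sm ge N18369 = N18911 := ded_15_0 L145294 (flp_e L144407) (flp_b L129964)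
theorem L145300 : sm gf N18404 = N18911 := ded_16_0 L145294 L144411 L104121 (flp_f L102757) (flp_b L130196)
theorem L145302 : sm ge N13759 = N18912 := rfl
theorem L145304 : sm gb N18912 = N13762 := ded_15_1 (flp_e L104353) (flp_b L104343) L145302
theorem L145306 : sm gc N18912 = N18369 := ded_19_1 L145298 (flp_c L145292) L145302
theorem L145308 : sm gd N18912 = N14001 := ded_22_1 (flp_e L105457) (flp_d L89875) (flp_e L89292) L104341 L145302
theorem L145310 : sm gf N16246 = N18912 := ded_16_0 L145304 (flp_f L104564) (flp_b L120281) (flp_f L116919) (flp_b L116891)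
theorem L145312 : sm gf N13759 = N18913 := rfl
theorem L145314 : sm gc N18913 = N18404 := ded_20_1 L145300 (flp_c L145292) L145312
theorem L145316 : sm gd N18913 = N13760 := ded_23_1 (flp_f L104345) L104341 L145312
theorem L145318 : sm ge N18913 = N16246 := ded_25_1 L145310 (flp_e L145302) L145312
theorem L145320 : sm gb N18913 = N16249 := ded_16_1 (flp_f L120291) L104544 L89421 (flp_b L104343) L145312
theorem L145322 : sm gg N13759 = N18914 := rfl
theorem L145324 : sm gd N18914 = N13761 := ded_24_1 (flp_g L104349) L104341 L145322
theorem L145326 : sm gg N13760 = N18915 := rfl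
theorem L145328 : sm ge N18915 = N14004 := ded_26_1 (flp_g L105469) (flp_e L104347) L145326
theorem L145330 : sm gf N18910 = N18915 := ded_29_0 (flp_g L145326) (flp_f L104345) L104349 (flp_a L145288)
theorem L145332 : sm gf N13761 = N18916 := rfl
theorem L145334 : sm ga N18916 = N18915 := ded_11_1 (flp_f L145330) L145288 L145332
theorem L145336 : sm ge N18916 = N14005 := ded_25_1 (flp_f L105473) (flp_e L104351) L145332
theorem L145338 : sm gg N18916 = N18909 := ded_29_3 L145280 (flp_f L104345) L104349 L145332
theorem L145340 : sm gb N13763 = N18917 := rfl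
theorem L145342 : sm gd N18917 = N14013 := ded_14_2 (flp_b L105501) (flp_d L104361) L145340
theorem L145344 : sm ge N18917 = N13764 := ded_15_2 (flp_b L104365) (flp_e L104363) L145340
theorem L145346 : sm gf N13763 = N18918 := rfl
theorem L145348 : sm ga N18918 = N18439 := ded_11_1 (flp_f L130464) L130462 L145346
theorem L145350 : sm gc N18918 = N18448 := ded_20_1 L130464 L130402 L145346
theorem L145352 : sm gd N18918 = N14014 := ded_23_1 (flp_f L105505) (flp_d L104361) L145346
theorem L145354 : sm ge N18918 = N13765 := ded_25_1 (flp_f L104369) (flp_e L104363) L145346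
theorem L145356 : sm gg N18918 = N13800 := ded_29_3 L104560 L102757 L104359 L145346
theorem L145358 : sm ga N13764 = N18919 := rfl
theorem L145360 : sm gd N18919 = N13766 := ded_9_2 (flp_a L104379) (flp_d L104367) L145358
theorem L145362 : sm gc N13764 = N18920 := rfl
theorem L145364 : sm gf N13764 = N18921 := rfl
theorem L145366 : sm gd N18921 = N13768 := ded_23_1 (flp_f L104389) (flp_d L104367) L145364
theorem L145368 : sm gb N13765 = N18922 := rfl
theorem L145370 : sm gd N18922 = N13769 := ded_14_2 (flp_b L104393) (flp_d L104375) L145368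
theorem L145372 : sm gb N13766 = N18923 := rfl
theorem L145374 : sm ge N18923 = N14019 := ded_15_2 (flp_b L105527) (flp_e L104381) L145372
theorem L145376 : sm ga N18923 = N15365 := ded_7_1 L112500 (flp_a L122406) L130370 L130366 L102745 L88480 L89306 L104379 L145372
theorem L145378 : sm gf N15363 = N18923 := ded_25_0 L145374 L120589 (flp_e L112490)
theorem L145380 : sm gc N13766 = N18924 := rfl
theorem L145382 : sm ga N18924 = N13767 := ded_8_1 (flp_c L104383) L104379 L145380
theorem L145384 : sm ge N18924 = N14020 := ded_19_2 (flp_c L105529) (flp_e L104381) L145380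
theorem L145386 : sm gf N13766 = N18925 := rfl
theorem L145388 : sm ga N18925 = N13768 := ded_11_1 (flp_f L104389) L104379 L145386
theorem L145390 : sm ge N18925 = N14021 := ded_25_1 (flp_f L105533) (flp_e L104381) L145386
theorem L145392 : sm gg N18836 = N18925 := ded_29_1 (flp_f L145386) (flp_g L144863) (flp_a L144859) L144873
theorem L145394 : sm gd N13767 = N18926 := rfl
theorem L145396 : sm gb N18926 = N13771 := ded_14_1 (flp_d L104407) (flp_b L104387) L145394
theorem L145398 : sm gf N13767 = N18927 := rfl
theorem L145400 : sm gc N18927 = N13768 := ded_20_1 (flp_f L104389) L104383 L145398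
theorem L145402 : sm ge N18927 = N14023 := ded_25_1 (flp_f L105543) (flp_e L104385) L145398
theorem L145404 : sm gb N13768 = N18928 := rfl
theorem L145406 : sm ge N18928 = N14024 := ded_15_2 (flp_b L105547) (flp_e L104391) L145404
theorem L145408 : sm gf N18928 = N13769 := ded_16_2 (flp_b L104393) (flp_f L89310) L89306 L104389 L145404
theorem L145410 : sm gg N13768 = N18929 := rfl
theorem L145412 : sm ga N18929 = N18836 := ded_12_1 L145392 L145388 L145410
theorem L145414 : sm ge N18929 = N14025 := ded_26_1 (flp_g L105551) (flp_e L104391) L145410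
theorem L145416 : sm gf N18834 = N18929 := ded_29_0 (flp_g L145410) (flp_f L104389) (flp_g L104133) L144859
theorem L145418 : sm ga N13769 = N18930 := rfl
theorem L145420 : sm ge N18930 = N14026 := ded_10_2 (flp_a L105557) (flp_e L104395) L145418
theorem L145422 : sm gg N13769 = N18931 := rfl
theorem L145424 : sm ge N18931 = N14027 := ded_26_1 (flp_g L105559) (flp_e L104395) L145422
theorem L145426 : sm gb N18931 = N13799 := ded_17_1 (flp_g L104553) (flp_b L89412) (flp_g L89318) L104393 L145422
theorem L145428 : sm gb N13770 = N18932 := rfl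
theorem L145430 : sm ge N18932 = N14028 := ded_15_2 (flp_b L105563) (flp_e L104401) L145428
theorem L145432 : sm gd N13770 = N18933 := rfl
theorem L145434 : sm ga N18933 = N13771 := ded_9_1 (flp_d L104407) (flp_a L104399) L145432
theorem L145436 : sm gf N18933 = N13771 := ded_23_2 (flp_d L104407) (flp_f L104403) L145432
theorem L145438 : sm gg N18933 = N13773 := ded_24_2 (flp_d L104415) (flp_g L104405) L145432
theorem L145440 : sm gc N13771 = N18934 := rfl
theorem L145442 : sm gg N18934 = N13774 := ded_21_2 (flp_c L104420) (flp_g L104409) L145440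
theorem L145444 : sm ge N13771 = N18935 := rfl
theorem L145446 : sm gg N18935 = N13775 := ded_26_2 (flp_e L104423) (flp_g L104409) L145444
theorem L145448 : sm gd N18935 = N14031 := ded_22_1 (flp_e L105577) (flp_d L89933) (flp_e L89332) L104407 L145444
theorem L145450 : sm ga N13772 = N18936 := rfl
theorem L145452 : sm ge N18936 = N14032 := ded_10_2 (flp_a L105581) (flp_e L104413) L145450
theorem L145454 : sm gd N13772 = N18937 := rfl
theorem L145456 : sm gb N18937 = N13773 := ded_14_1 (flp_d L104415) L104411 L145454
theorem L145458 : sm gf N13772 = N18938 := rfl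
theorem L145460 : sm ge N18938 = N14034 := ded_25_1 (flp_f L105587) (flp_e L104413) L145458
theorem L145462 : sm gb N18938 = N18938 := ded_16_1 (flp_f L145458) (flp_b L104411) L89342 L104411 L145458
theorem L145463 : sm gg N13772 = N18939 := rfl
theorem L145465 : sm ge N18939 = N14035 := ded_26_1 (flp_g L105590) (flp_e L104413) L145463
theorem L145467 : sm ge N13773 = N18940 := rfl
theorem L145469 : sm ga N18940 = N13775 := ded_10_1 (flp_e L104423) (flp_a L104417) L145467
theorem L145471 : sm gf N18940 = N18940 := ded_25_2 (flp_e L145467) L104419 L145467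
theorem L145472 : sm gd N18940 = N14036 := ded_22_1 (flp_e L105592) (flp_d L89939) (flp_e L89340) L104415 L145467
theorem L145474 : sm gb N13774 = N18941 := rfl
theorem L145476 : sm ge N13774 = N18942 := rfl
theorem L145478 : sm gc N18942 = N13775 := ded_19_1 (flp_e L104423) L104420 L145476
theorem L145480 : sm gf N18942 = N18942 := ded_25_2 (flp_e L145476) L104422 L145476
theorem L145481 : sm ga N13776 = N18943 := rfl
theorem L145483 : sm gc N18943 = N13778 := ded_8_2 (flp_a L104442) (flp_c L104432) L145481
theorem L145485 : sm ge N18943 = N14039 := ded_10_2 (flp_a L105604) (flp_e L104430) L145481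
theorem L145487 : sm gd N13776 = N18944 := rfl
theorem L145489 : sm gb N18944 = N13777 := ded_14_1 (flp_d L104434) L104428 L145487
theorem L145491 : sm gf N13776 = N18945 := rfl
theorem L145493 : sm gc N18945 = N13780 := ded_20_1 (flp_f L104450) (flp_c L104432) L145491
theorem L145495 : sm ge N18945 = N14041 := ded_25_1 (flp_f L105612) (flp_e L104430) L145491
theorem L145497 : sm gb N18945 = N18304 := ded_16_1 (flp_f L129460) L102379 (flp_f L89351) L104428 L145491
theorem L145499 : sm gg N13776 = N18946 := rfl
theorem L145501 : sm gc N18946 = N13781 := ded_21_1 (flp_g L104454) (flp_c L104432) L145499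
theorem L145503 : sm ge N18946 = N14042 := ded_26_1 (flp_g L105618) (flp_e L104430) L145499
theorem L145505 : sm gb N18946 = N18946 := ded_17_1 (flp_g L145499) (flp_b L104428) L89353 L104428 L145499
theorem L145506 : sm ge N13777 = N18947 := rfl
theorem L145509 : sm gc N18947 = N18307 := ded_19_1 (flp_e L129488) (flp_c L104440) L145506
theorem L145511 : sm gf N18947 = N18307 := ded_25_2 (flp_e L129488) (flp_f L104437) L145506
theorem L145513 : sm gg N18947 = N18947 := ded_26_2 (flp_e L145506) L104439 L145506
theorem L145514 : sm gd N18947 = N14043 := ded_22_1 (flp_e L105623) (flp_d L89954) (flp_e L89349) L104434 L145506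
theorem L145516 : sm gd N13778 = N18948 := rfl
theorem L145518 : sm ga N18948 = N13779 := ded_9_1 (flp_d L104446) L104442 L145516
theorem L145520 : sm gf N13778 = N18949 := rfl
theorem L145522 : sm ga N18949 = N13780 := ded_11_1 (flp_f L104450) L104442 L145520
theorem L145524 : sm ge N18949 = N14045 := ded_25_1 (flp_f L105634) (flp_e L104444) L145520
theorem L145526 : sm gg N13778 = N18950 := rfl
theorem L145528 : sm ga N18950 = N13781 := ded_12_1 (flp_g L104454) L104442 L145526
theorem L145530 : sm ge N18950 = N14046 := ded_26_1 (flp_g L105638) (flp_e L104444) L145526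
theorem L145532 : sm gc N13779 = N18951 := rfl
theorem L145534 : sm ge N13779 = N18952 := rfl
theorem L145536 : sm gb N18952 = N13782 := ded_15_1 (flp_e L104458) (flp_b L104448) L145534
theorem L145538 : sm gd N18952 = N14048 := ded_22_1 (flp_e L105644) (flp_d L89963) (flp_e L89356) L104446 L145534
theorem L145540 : sm gf N13779 = N18953 := rfl
theorem L145542 : sm gd N18953 = N13780 := ded_23_1 (flp_f L104450) L104446 L145540
theorem L145544 : sm gg N13779 = N18954 := rfl
theorem L145546 : sm gd N18954 = N13781 := ded_24_1 (flp_g L104454) L104446 L145544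
theorem L145548 : sm gg N13780 = N18955 := rfl
theorem L145550 : sm ge N18955 = N14051 := ded_26_1 (flp_g L105656) (flp_e L104452) L145548
theorem L145552 : sm gf N18950 = N18955 := ded_29_0 (flp_g L145548) (flp_f L104450) L104454 (flp_a L145528)
theorem L145554 : sm gf N13781 = N18956 := rfl
theorem L145556 : sm ga N18956 = N18955 := ded_11_1 (flp_f L145552) L145528 L145554
theorem L145558 : sm ge N18956 = N14052 := ded_25_1 (flp_f L105660) (flp_e L104456) L145554
theorem L145560 : sm gg N18956 = N18949 := ded_29_3 L145522 (flp_f L104450) L104454 L145554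
theorem L145562 : sm gb N13783 = N18957 := rfl
theorem L145564 : sm gd N18957 = N14060 := ded_14_2 (flp_b L105688) (flp_d L104466) L145562
theorem L145566 : sm ge N18957 = N13784 := ded_15_2 (flp_b L104470) (flp_e L104468) L145562
theorem L145568 : sm gg N13783 = N18958 := rfl
theorem L145570 : sm ga N18958 = N18444 := ded_12_1 L130440 L130426 L145568
theorem L145572 : sm gc N18958 = N18443 := ded_21_1 (flp_g L130440) L130434 L145568
theorem L145574 : sm gd N18958 = N14061 := ded_24_1 (flp_g L105692) (flp_d L104466) L145568
theorem L145576 : sm ge N18958 = N13785 := ded_26_1 (flp_g L104474) (flp_e L104468) L145568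
theorem L145578 : sm gf N13814 = N18958 := ded_29_0 (flp_g L145568) (flp_f L104464) (flp_g L102781) (flp_a L104643)
theorem L145580 : sm ga N13784 = N18959 := rfl
theorem L145582 : sm gd N18959 = N13786 := ded_9_2 (flp_a L104484) (flp_d L104472) L145580
theorem L145584 : sm gc N13784 = N18960 := rfl
theorem L145586 : sm gg N13784 = N18961 := rfl
theorem L145588 : sm gd N18961 = N13788 := ded_24_1 (flp_g L104494) (flp_d L104472) L145586
theorem L145590 : sm gb N13785 = N18962 := rfl
theorem L145592 : sm gd N18962 = N13789 := ded_14_2 (flp_b L104498) (flp_d L104480) L145590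
theorem L145594 : sm gb N13786 = N18963 := rfl
theorem L145596 : sm ge N18963 = N14066 := ded_15_2 (flp_b L105714) (flp_e L104486) L145594
theorem L145598 : sm gc N13786 = N18964 := rfl
theorem L145600 : sm ga N18964 = N13787 := ded_8_1 (flp_c L104488) L104484 L145598
theorem L145602 : sm ge N18964 = N14067 := ded_19_2 (flp_c L105716) (flp_e L104486) L145598
theorem L145604 : sm gg N13786 = N18965 := rfl
theorem L145606 : sm ga N18965 = N13788 := ded_12_1 (flp_g L104494) L104484 L145604
theorem L145608 : sm ge N18965 = N14068 := ded_26_1 (flp_g L105720) (flp_e L104486) L145604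
theorem L145610 : sm gf N18965 = N18883 := ded_29_2 (flp_g L145140) L145126 L145130 L145604
theorem L145612 : sm gd N13787 = N18966 := rfl
theorem L145614 : sm gb N18966 = N13791 := ded_14_1 (flp_d L104514) (flp_b L104492) L145612
theorem L145616 : sm gg N13787 = N18967 := rfl
theorem L145618 : sm gc N18967 = N13788 := ded_21_1 (flp_g L104494) L104488 L145616
theorem L145620 : sm ge N18967 = N14070 := ded_26_1 (flp_g L105730) (flp_e L104490) L145616
theorem L145622 : sm gb N13788 = N18968 := rfl
theorem L145624 : sm ge N18968 = N14071 := ded_15_2 (flp_b L105734) (flp_e L104496) L145622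
theorem L145626 : sm gg N18968 = N13789 := ded_17_2 (flp_b L104498) (flp_g L89374) L89370 L104494 L145622
theorem L145628 : sm gc N18939 = N18968 := ded_19_3 L145624 (flp_c L105738) (flp_e L145465)
theorem L145630 : sm gf N13788 = N18969 := rfl
theorem L145632 : sm ga N18969 = N18883 := ded_11_1 (flp_f L145610) L145606 L145630
theorem L145634 : sm ge N18969 = N14072 := ded_25_1 (flp_f L105740) (flp_e L104496) L145630
theorem L145636 : sm gg N18969 = N18881 := ded_29_3 (flp_a L145126) L104254 L104494 L145630
theorem L145638 : sm ga N13789 = N18970 := rfl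
theorem L145640 : sm gc N18970 = N18936 := ded_8_2 (flp_a L145450) (flp_c L104502) L145638
theorem L145642 : sm ge N18970 = N14073 := ded_10_2 (flp_a L105746) (flp_e L104500) L145638
theorem L145644 : sm gf N13789 = N18971 := rfl
theorem L145646 : sm gc N18971 = N18938 := ded_20_1 (flp_f L145458) (flp_c L104502) L145644
theorem L145648 : sm ge N18971 = N14074 := ded_25_1 (flp_f L105750) (flp_e L104500) L145644
theorem L145650 : sm gb N18971 = N13812 := ded_16_1 (flp_f L104629) (flp_b L89453) L89382 L104498 L145644
theorem L145652 : sm gb N13790 = N18972 := rfl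
theorem L145654 : sm ge N18972 = N14075 := ded_15_2 (flp_b L105756) (flp_e L104508) L145652
theorem L145656 : sm gc N18972 = N18932 := ded_13_2 (flp_b L145428) (flp_c L104397) (flp_b L89394) L104504 L145652
theorem L145658 : sm gd N13790 = N18973 := rfl
theorem L145660 : sm ga N18973 = N13791 := ded_9_1 (flp_d L104514) (flp_a L104506) L145658
theorem L145662 : sm gf N18973 = N13793 := ded_23_2 (flp_d L104524) (flp_f L104510) L145658
theorem L145664 : sm gg N18973 = N13791 := ded_24_2 (flp_d L104514) (flp_g L104512) L145658
theorem L145666 : sm gc N13791 = N18974 := rfl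
theorem L145668 : sm gf N18974 = N13794 := ded_20_2 (flp_c L104529) (flp_f L104516) L145666
theorem L145670 : sm ge N13791 = N18975 := rfl
theorem L145672 : sm gf N18975 = N13795 := ded_25_2 (flp_e L104532) (flp_f L104516) L145670
theorem L145674 : sm gd N18975 = N14078 := ded_22_1 (flp_e L105772) (flp_d L90023) (flp_e L89398) L104514 L145670
theorem L145676 : sm ga N13792 = N18976 := rfl
theorem L145678 : sm gc N18976 = N18930 := ded_8_2 (flp_a L145418) (flp_c L104522) L145676
theorem L145680 : sm ge N18976 = N14079 := ded_10_2 (flp_a L105776) (flp_e L104520) L145676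
theorem L145682 : sm gd N13792 = N18977 := rfl
theorem L145684 : sm gb N18977 = N13793 := ded_14_1 (flp_d L104524) L104518 L145682
theorem L145686 : sm gf N13792 = N18978 := rfl
theorem L145688 : sm gc N18978 = N18928 := ded_20_1 L145408 (flp_c L104522) L145686
theorem L145690 : sm ge N18978 = N14081 := ded_25_1 (flp_f L105784) (flp_e L104520) L145686
theorem L145692 : sm gg N13792 = N18979 := rfl
theorem L145694 : sm gc N18979 = N18931 := ded_21_1 (flp_g L145422) (flp_c L104522) L145692
theorem L145696 : sm ge N18979 = N14082 := ded_26_1 (flp_g L105788) (flp_e L104520) L145692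
theorem L145698 : sm gb N18979 = N18979 := ded_17_1 (flp_g L145692) (flp_b L104518) L89408 L104518 L145692
theorem L145699 : sm ge N13793 = N18980 := rfl
theorem L145701 : sm ga N18980 = N13795 := ded_10_1 (flp_e L104532) (flp_a L104526) L145699
theorem L145703 : sm gg N18980 = N18980 := ded_26_2 (flp_e L145699) L104528 L145699
theorem L145704 : sm gd N18980 = N14083 := ded_22_1 (flp_e L105793) (flp_d L90031) (flp_e L89406) L104524 L145699
theorem L145706 : sm gb N13794 = N18981 := rfl
theorem L145708 : sm ge N13794 = N18982 := rfl
theorem L145710 : sm gc N18982 = N13795 := ded_19_1 (flp_e L104532) L104529 L145708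
theorem L145712 : sm gg N18982 = N18982 := ded_26_2 (flp_e L145708) L104531 L145708
theorem L145713 : sm gb N13796 = N18983 := rfl
theorem L145715 : sm ge N18983 = N18634 := ded_15_2 (flp_b L143701) (flp_e L104540) L145713
theorem L145717 : sm gd N13796 = N18984 := rfl
theorem L145719 : sm ga N18984 = N13797 := ded_9_1 (flp_d L104542) L104537 L145717
theorem L145721 : sm gg N13796 = N18985 := rfl
theorem L145723 : sm ga N18985 = N13799 := ded_12_1 (flp_g L104553) L104537 L145721
theorem L145725 : sm gc N18985 = N18985 := ded_21_1 (flp_g L145721) L104539 L145721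
theorem L145726 : sm ge N18985 = N16785 := ded_26_1 L121691 (flp_e L104540) L145721
theorem L145728 : sm gf N18985 = N16783 := ded_29_2 (flp_g L121675) (flp_a L111889) (flp_f L120289) L145721
theorem L145730 : sm gg N13797 = N18986 := rfl
theorem L145732 : sm gd N18986 = N13799 := ded_24_1 (flp_g L104553) L104542 L145730
theorem L145734 : sm gf N13799 = N18987 := rfl
theorem L145736 : sm ga N18987 = N16783 := ded_11_1 (flp_f L145728) L145723 L145734
theorem L145738 : sm gc N18987 = N18987 := ded_20_1 (flp_f L145734) L104555 L145734
theorem L145739 : sm ge N18987 = N15247 := ded_25_1 L120287 (flp_e L104556) L145734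
theorem L145741 : sm gg N18987 = N15245 := ded_29_3 L111889 L119617 L104553 L145734
theorem L145743 : sm gd N13801 = N18988 := rfl
theorem L145745 : sm ga N18988 = N18988 := ded_9_1 (flp_d L145743) L104572 L145743
theorem L145746 : sm gb N18988 = N13802 := ded_14_1 (flp_d L104573) L104568 L145743
theorem L145748 : sm ge N18988 = N16515 := ded_22_2 (flp_d L118541) L96796 L141667 (flp_e L104570) L145743
theorem L145750 : sm gc N13802 = N18989 := rfl
theorem L145752 : sm ga N18989 = N13803 := ded_8_1 (flp_c L104581) (flp_a L104575) L145750
theorem L145754 : sm ge N18989 = N16516 := ded_19_2 (flp_c L118546) (flp_e L132471) L145750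
theorem L145756 : sm gf N18989 = N13803 := ded_20_2 (flp_c L104581) (flp_f L104577) L145750
theorem L145758 : sm gg N18989 = N13805 := ded_21_2 (flp_c L104591) (flp_g L104579) L145750
theorem L145760 : sm gd N18934 = N18989 := ded_28_1 (flp_c L145750) (flp_d L104573) (flp_c L89425) (flp_d L89322) L104397 L145432 L145434 L145440
theorem L145762 : sm gb N13803 = N18990 := rfl
theorem L145764 : sm ge N18990 = N16518 := ded_15_2 (flp_b L118566) (flp_e L141633) L145762
theorem L145766 : sm gd N13803 = N18991 := rfl
theorem L145768 : sm ga N18991 = N18934 := ded_9_1 L145760 L145752 L145766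
theorem L145770 : sm gf N18991 = N18934 := ded_23_2 L145760 L145756 L145766
theorem L145772 : sm gg N18991 = N13808 := ded_24_2 (flp_d L104608) (flp_g L104583) L145766
theorem L145774 : sm gc N18933 = N18991 := ded_28_0 (flp_d L145766) (flp_c L104581) (flp_d L89435) (flp_c L38976) (flp_d L38808) L89330 L104407 (flp_a L145434)
theorem L145776 : sm gb N13805 = N18992 := rfl
theorem L145778 : sm gd N18992 = N18941 := ded_14_2 (flp_b L145474) L104596 L145776
theorem L145780 : sm ga N13807 = N18993 := rfl
theorem L145782 : sm gc N18993 = N18993 := ded_8_2 (flp_a L145780) L104607 L145780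
theorem L145783 : sm gd N13807 = N18994 := rfl
theorem L145785 : sm gb N18994 = N13808 := ded_14_1 (flp_d L104608) L104605 L145783
theorem L145787 : sm gf N13807 = N18995 := rfl
theorem L145789 : sm gc N18995 = N18995 := ded_20_1 (flp_f L145787) L104607 L145787
theorem L145790 : sm gb N18995 = N18995 := ded_16_1 (flp_f L145787) (flp_b L104605) L89446 L104605 L145787
theorem L145791 : sm gg N13807 = N18996 := rfl
theorem L145793 : sm gc N18996 = N18996 := ded_21_1 (flp_g L145791) L104607 L145791
theorem L145794 : sm ge N13808 = N18997 := rfl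
theorem L145796 : sm ga N18997 = N18942 := ded_10_1 (flp_e L145476) (flp_a L104610) L145794
theorem L145798 : sm gc N18997 = N18940 := ded_19_1 (flp_e L145467) L104613 L145794
theorem L145800 : sm gf N18997 = N18997 := ded_25_2 (flp_e L145794) L104612 L145794
theorem L145801 : sm gb N13810 = N18998 := rfl
theorem L145803 : sm ge N18998 = N18643 := ded_15_2 (flp_b L143763) (flp_e L104623) L145801
theorem L145805 : sm gd N13810 = N18999 := rfl
theorem L145807 : sm ga N18999 = N13811 := ded_9_1 (flp_d L104625) L104620 L145805
theorem L145809 : sm gf N13810 = N19000 := rfl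
theorem L145811 : sm ga N19000 = N13812 := ded_11_1 (flp_f L104629) L104620 L145809
theorem L145813 : sm gc N19000 = N19000 := ded_20_1 (flp_f L145809) L104622 L145809
theorem L145814 : sm ge N19000 = N18645 := ded_25_1 (flp_f L143769) (flp_e L104623) L145809
theorem L145816 : sm gg N13810 = N19001 := rfl
theorem L145818 : sm ga N19001 = N13813 := ded_12_1 (flp_g L104634) L104620 L145816
theorem L145823 : sm gc N13811 = N19002 := rfl
theorem L145825 : sm gb N19002 = N18951 := ded_13_1 (flp_c L145532) L104448 L89464 (flp_b L104627) L145823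
theorem L145827 : sm ge N13811 = N19003 := rfl
theorem L145829 : sm gb N19003 = N13814 := ded_15_1 (flp_e L104641) (flp_b L104627) L145827
theorem L145831 : sm gd N19003 = N18648 := ded_22_1 (flp_e L143781) (flp_d L103456) (flp_e L89455) L104625 L145827
theorem L145833 : sm gf N13811 = N19004 := rfl
theorem L145835 : sm gd N19004 = N13812 := ded_23_1 (flp_f L104629) L104625 L145833
theorem L145837 : sm gg N13811 = N19005 := rfl
theorem L145839 : sm gd N19005 = N13813 := ded_24_1 (flp_g L104634) L104625 L145837
theorem L145841 : sm gb N19005 = N18954 := ded_17_1 (flp_g L145544) L104448 (flp_g L89462) (flp_b L104627) L145837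
theorem L145843 : sm gg N13812 = N19006 := rfl
theorem L145845 : sm gc N19006 = N19006 := ded_21_1 (flp_g L145843) L104631 L145843
theorem L145846 : sm ge N19006 = N18651 := ded_26_1 (flp_g L143795) (flp_e L104632) L145843
theorem L145848 : sm gf N19001 = N19006 := ded_29_0 (flp_g L145843) (flp_f L104629) L104634 (flp_a L145818)
theorem L145850 : sm gf N13813 = N19007 := rfl
theorem L145852 : sm ga N19007 = N19006 := ded_11_1 (flp_f L145848) L145818 L145850
theorem L145857 : sm gg N19007 = N19000 := ded_29_3 L145811 (flp_f L104629) L104634 L145850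
theorem L145859 : sm gd N13815 = N19008 := rfl
theorem L145861 : sm ga N19008 = N19008 := ded_9_1 (flp_d L145859) L104661 L145859
theorem L145862 : sm gb N19008 = N13816 := ded_14_1 (flp_d L104662) L104651 L145859
theorem L145864 : sm gf N19008 = N18988 := ded_23_2 (flp_d L145743) (flp_f L104657) L145859
theorem L145866 : sm gg N19008 = N18988 := ded_24_2 (flp_d L145743) (flp_g L104659) L145859
theorem L145868 : sm ge N19008 = N16521 := ded_22_2 (flp_d L118584) L96819 (flp_d L137834) (flp_e L104653) L145859
theorem L145870 : sm gc N13816 = N19009 := rfl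
theorem L145872 : sm ga N19009 = N13817 := ded_8_1 (flp_c L104670) (flp_a L104664) L145870
theorem L145874 : sm ge N19009 = N16522 := ded_19_2 (flp_c L118593) (flp_e L137791) L145870
theorem L145876 : sm gf N19009 = N13819 := ded_20_2 (flp_c L104682) (flp_f L104666) L145870
theorem L145878 : sm gg N19009 = N13817 := ded_21_2 (flp_c L104670) (flp_g L104668) L145870
theorem L145880 : sm gd N18974 = N19009 := ded_28_1 (flp_c L145870) (flp_d L104662) (flp_c L89466) (flp_d L89386) L104504 L145658 L145660 L145666
theorem L145882 : sm gb N13817 = N19010 := rfl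
theorem L145884 : sm ge N19010 = N16524 := ded_15_2 (flp_b L118613) (flp_e L141608) L145882
theorem L145886 : sm gc N19010 = N18992 := ded_13_2 (flp_b L145776) (flp_c L104591) (flp_b L89478) L104670 L145882
theorem L145888 : sm gd N13817 = N19011 := rfl
theorem L145890 : sm ga N19011 = N18974 := ded_9_1 L145880 L145872 L145888
theorem L145892 : sm gf N19011 = N13822 := ded_23_2 (flp_d L104701) (flp_f L104672) L145888
theorem L145894 : sm gg N19011 = N18974 := ded_24_2 L145880 L145878 L145888
theorem L145896 : sm gc N18973 = N19011 := ded_28_0 (flp_d L145888) (flp_c L104670) (flp_d L89476) (flp_c L39092) (flp_d L38874) L89396 L104514 (flp_a L145660)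
theorem L145898 : sm gb N13819 = N19012 := rfl
theorem L145900 : sm gd N19012 = N18981 := ded_14_2 (flp_b L145706) L104687 L145898
theorem L145902 : sm gc N19012 = N18990 := ded_13_2 (flp_b L145762) (flp_c L104581) (flp_b L89486) L104682 L145898
theorem L145904 : sm ga N13821 = N19013 := rfl
theorem L145906 : sm gc N19013 = N19013 := ded_8_2 (flp_a L145904) L104700 L145904
theorem L145907 : sm gd N13821 = N19014 := rfl
theorem L145909 : sm gb N19014 = N13822 := ded_14_1 (flp_d L104701) L104698 L145907
theorem L145911 : sm gf N13821 = N19015 := rfl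
theorem L145913 : sm gc N19015 = N19015 := ded_20_1 (flp_f L145911) L104700 L145911
theorem L145914 : sm gg N13821 = N19016 := rfl
theorem L145918 : sm ge N13822 = N19017 := rfl
theorem L145920 : sm ga N19017 = N18982 := ded_10_1 (flp_e L145708) (flp_a L104703) L145918
theorem L145922 : sm gc N19017 = N18980 := ded_19_1 (flp_e L145699) L104706 L145918
theorem L145924 : sm gg N19017 = N19017 := ded_26_2 (flp_e L145918) L104705 L145918
theorem L145925 : sm ga N13838 = N19018 := rfl
theorem L145927 : sm gc N19018 = N15635 := ded_8_2 L120459 (flp_c L120361) L145925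
theorem L145929 : sm ge N19018 = N16269 := ded_10_2 L144153 L144107 L145925
theorem L145931 : sm gb N16270 = N19018 := ded_13_5 L145927 (flp_b L129512) L129510 L117007 (flp_c L117047)
theorem L145933 : sm gg N13838 = N19019 := rfl
theorem L145935 : sm ga N13839 = N19020 := rfl
theorem L145937 : sm gc N13839 = N19021 := rfl
theorem L145939 : sm gb N19021 = N13845 := ded_13_1 (flp_c L104825) (flp_b L89602) (flp_c L89592) L104807 L145937
theorem L145941 : sm gf N13839 = N19022 := rfl
theorem L145943 : sm gb N13840 = N19023 := rfl
theorem L145945 : sm gd N19023 = N13861 := ded_14_2 L119827 (flp_d L119014) L145943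
theorem L145947 : sm ge N19023 = N16282 := ded_15_2 (flp_b L144151) L144145 L145943
theorem L145949 : sm gc N19023 = N16452 := ded_13_2 (flp_b L129669) (flp_c L129661) L118998 (flp_c L119012) L145943
theorem L145951 : sm ga N19023 = N16284 := ded_7_1 L117133 (flp_a L117045) L145931 (flp_a L145925) (flp_b L104805) L89584 L89594 L104809 L145943
theorem L145953 : sm gf N18240 = N19023 := ded_23_0 L145945 (flp_f L104885) (flp_d L129080)
theorem L145955 : sm gg N13841 = N19024 := rfl
theorem L145957 : sm ga N19024 = N14682 := ded_12_1 (flp_g L108987) (flp_a L119359) L145955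
theorem L145959 : sm gc N19024 = N13842 := ded_21_1 (flp_g L104817) L104813 L145955
theorem L145961 : sm gd N19024 = N14678 := ded_24_1 (flp_g L108971) (flp_d L119361) L145955
theorem L145963 : sm gb N18598 = N19024 := ded_31_14 (flp_g L145955) L104815 L119271 (flp_g L99137) (flp_f L140999) L140993 (flp_g L103082) (flp_f L103074) (flp_b L103072) L88734 (flp_f L88730) L88724 L103314 L143507
theorem L145965 : sm gb N13842 = N19025 := rfl
theorem L145967 : sm gg N19025 = N13843 := ded_17_2 (flp_b L104819) (flp_g L89598) L89594 L104817 L145965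
theorem L145969 : sm ga N13843 = N19026 := rfl
theorem L145971 : sm gc N13843 = N19027 := rfl
theorem L145973 : sm gf N13843 = N19028 := rfl
theorem L145975 : sm gb N19028 = N19022 := ded_16_1 (flp_f L145941) (flp_b L104807) L89600 L104819 L145973
theorem L145977 : sm gb N13844 = N19029 := rfl
theorem L145979 : sm gc N13844 = N19030 := rfl
theorem L145981 : sm ga N19030 = N13845 := ded_8_1 (flp_c L104825) L104821 L145979
theorem L145983 : sm gg N19030 = N13855 := ded_21_2 (flp_c L104859) (flp_g L104823) L145979
theorem L145985 : sm gd N13845 = N19031 := rfl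
theorem L145987 : sm gg N19031 = N13857 := ded_24_2 (flp_d L104869) (flp_g L104827) L145985
theorem L145989 : sm gf N13845 = N19032 := rfl
theorem L145991 : sm gc N19032 = N13846 := ded_20_1 (flp_f L104829) L104825 L145989
theorem L145993 : sm gb N13846 = N19033 := rfl
theorem L145995 : sm gf N19033 = N13847 := ded_16_2 (flp_b L104831) (flp_f L89606) L89602 L104829 L145993
theorem L145997 : sm gg N19033 = N15496 := ded_31_3 L143419 (flp_b L105183) (flp_g L89750) (flp_f L89736) (flp_b L39631) (flp_g L18821) (flp_f L18799) (flp_b L18797) L18801 (flp_f L18803) L39585 (flp_g L89604) L104829 L145993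
theorem L145999 : sm gc N15480 = N19033 := ded_21_3 L145997 (flp_c L113114) (flp_g L113032)
theorem L146001 : sm gb N19032 = N15470 := ded_13_3 L112980 L113028 L145999 (flp_b L145993) (flp_c L145991)
theorem L146003 : sm gd N15475 = N19032 := ded_14_0 L146001 L112982 L113006
theorem L146005 : N18450 = N13477 := coi_31_14 L102900 (flp_g L104827) L145989 L146001 (flp_g L112976) L120098 (flp_b L88684) L88690 L88694 L103040 L103042 L103050 L103052 L130592 (flp_f L130596)
theorem L146006 : N18450 = N13477 := eqc rfl L146005 rfl
theorem L146007 : sm ga N13477 = N13464 := trfs L146006 (flp_a L130520) rfl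
theorem L146008 : N13464 = N18461 := eqes L146007 (flp_a L130576)
theorem L146009 : N18461 = N13464 := (eqc rfl L146008 rfl).symm
theorem L146010 : sm gf N13477 = N18465 := trfs L146006 L130596 rfl
theorem L146011 : N18465 = N18464 := eqes L146010 L130588
theorem L146012 : N18465 = N18464 := eqc rfl L146011 rfl
theorem L146013 : sm gg N13477 = N13476 := trfs L146006 L130522 rfl
theorem L146014 : N13476 = N18451 := eqes L146013 (flp_g L130526)
theorem L146015 : N18451 = N13476 := (eqc rfl L146014 rfl).symm
theorem L146018 : sm gg N13476 = N13477 := trfs L146015 L130526 rfl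
theorem L146020 : sm ga N18464 = N18452 := trfs L146012 L130594 rfl
theorem L146024 : sm ga N13464 = N13477 := trfs L146009 L130576 rfl
theorem L146026 : sm gc N13464 = N13476 := trfs L146009 (flp_c L130574) rfl
theorem L146028 : sm gf N19031 = N15475 := ded_23_0 L146003 (flp_f L145989) L145985
theorem L146034 : sm gg N19021 = N18460 := ded_17_4 (flp_b L130572) L146018 L102900 (flp_g L104827) (flp_b L145939)
theorem L146036 : sm gc N18452 = N18462 := ded_8_2 L130580 (flp_c L130590) L146020
theorem L146038 : sm ga N18463 = N18449 := ded_9_3 L130472 L146024 L130584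
theorem L146040 : sm ga N18357 = N18353 := ded_10_3 L129854 L146024 (flp_e L129882)
theorem L146044 : sm gc N18460 = N18224 := ded_13_2 (flp_b L128994) L102176 L102827 L146026 L130572
theorem L146046 : sm ga N13847 = N19034 := rfl
theorem L146048 : sm gg N13938 = N19034 := ded_29_3 (flp_a L146046) (flp_f L145995) L145997 L143419
theorem L146050 : sm gc N13847 = N19035 := rfl
theorem L146052 : sm gf N19035 = N15480 := ded_20_2 L145999 L145995 L146050
theorem L146054 : sm gb N19035 = N19027 := ded_13_1 (flp_c L145971) (flp_b L104819) (flp_c L89610) L104831 L146050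
theorem L146056 : sm gd N15491 = N19035 := ded_23_3 L146052 L113030 L113090
theorem L146058 : sm gg N19035 = N18596 := ded_29_1 L143499 L143547 L143549 (flp_f L146052)
theorem L146060 : sm gf N18561 = N19027 := ded_16_4 (flp_b L146054) L146052 (flp_b L113028) (flp_f L120096) L143295
theorem L146062 : sm gc N19028 = N18561 := ded_20_3 L146060 (flp_c L145971) L145973
theorem L146064 : sm gg N18567 = N19028 := ded_21_0 L146062 L143299 L143325
theorem L146066 : sm gg N13847 = N19036 := rfl
theorem L146068 : sm ga N19036 = N13938 := ded_12_1 L146048 (flp_a L146046) L146066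
theorem L146070 : sm gc N19036 = N18596 := ded_21_1 (flp_g L146058) (flp_c L146050) L146066
theorem L146072 : sm gf N18606 = N19036 := ded_29_0 (flp_g L146066) (flp_f L145995) L145997 (flp_a L143545)
theorem L146074 : sm gb N19036 = N19019 := ded_17_1 (flp_g L145933) (flp_b L104805) (flp_g L89612) L104831 L146066
theorem L146076 : sm ga N18640 = N13932 := ded_30_15 L143441 (flp_c L143447) L143445 (flp_a L143545) L146072 L146070 (flp_b L143495) (flp_a L143485) (flp_f L143483) L129604 (flp_b L88724) (flp_a L37255) L37261 (flp_c L88742) L103342 L143587 L143589 L103502 L143745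
theorem L146078 : sm gc N13931 = N18640 := ded_8_0 L146076 (flp_c L105163) L105161
theorem L146080 : sm gd N15346 = N18640 := ded_9_0 L146076 L143439 (flp_a L112414)
theorem L146082 : sm gf N15342 = N18640 := ded_11_0 L146076 L143441 L112398
theorem L146084 : sm gb N17184 = N14026 := ded_7_4 (flp_a L105557) (flp_b L89923) L39741 L88785 L103439 L143745 L146076 L143437 (flp_a L123582)
theorem L146086 : sm gc N18661 = N13979 := ded_13_4 L105362 L146078 (flp_b L143745) (flp_c L103502) L143855
theorem L146088 : sm gb N18639 = N15346 := ded_14_3 L146080 (flp_b L143745) (flp_d L143743)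
theorem L146090 : sm gd N14026 = N17186 := ded_14_2 (flp_b L123592) (flp_d L123584) L146084
theorem L146092 : sm ga N13980 = N18661 := ded_8_3 L146086 (flp_a L105358) L105364
theorem L146094 : sm ga N17186 = N14018 := ded_7_5 (flp_b L105523) L89909 L103435 L143741 L146088 L112414 L93737 (flp_a L98750) L123592
theorem L146096 : sm ga N13848 = N19037 := rfl
theorem L146098 : sm gb N19037 = N13860 := ded_7_2 (flp_a L104881) (flp_b L89626) (flp_a L39587) (flp_b L18797) (flp_a L18791) L39583 L89614 L104833 L146096
theorem L146100 : sm gc N16549 = N19037 := ded_13_0 L146098 (flp_c L104891) L104893 (flp_c L105035) (flp_b L120509)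
theorem L146102 : sm gf N18231 = N19037 := ded_16_0 L146098 L104885 L119827 L119423 L129024
theorem L146104 : sm gc N13848 = N19038 := rfl
theorem L146106 : sm ga N19038 = N16549 := ded_8_1 L146100 (flp_a L146096) L146104
theorem L146108 : sm gd N16548 = N19038 := ded_9_0 L146106 (flp_d L118766) (flp_a L118762)
theorem L146110 : sm gf N13848 = N19039 := rfl
theorem L146112 : sm ga N19039 = N18231 := ded_11_1 L146102 (flp_a L146096) L146110
theorem L146114 : sm gd N19039 = N19037 := ded_23_1 (flp_f L146102) L129026 L146110
theorem L146116 : sm gb N19039 = N18240 := ded_16_1 L145953 (flp_b L145943) L104811 L104833 L146110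
theorem L146118 : sm gg N13848 = N19040 := rfl
theorem L146120 : sm gg N13849 = N19041 := rfl
theorem L146122 : sm ga N19041 = N13852 := ded_12_1 (flp_g L104847) (flp_a L104837) L146120
theorem L146124 : sm gc N19041 = N13850 := ded_21_1 (flp_g L104839) L104835 L146120
theorem L146126 : sm gd N19041 = N14583 := ded_24_1 (flp_g L108503) (flp_d L119417) L146120
theorem L146128 : sm gf N19024 = N19041 := ded_29_0 (flp_g L146120) L119419 L108987 (flp_a L145957)
theorem L146130 : sm gb N13850 = N19042 := rfl
theorem L146132 : sm gb N13852 = N19043 := rfl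
theorem L146134 : sm gd N19043 = N17340 := ded_14_2 L124383 (flp_d L119761) L146132
theorem L146136 : sm gg N19043 = N17338 := ded_17_2 L124371 L99137 (flp_b L119271) L104847 L146132
theorem L146138 : sm ga N18593 = N19043 := ded_12_3 L146136 L130518 (flp_g L143481)
theorem L146140 : sm gb N13853 = N19044 := rfl
theorem L146142 : sm ga N13854 = N19045 := rfl
theorem L146144 : sm gb N19045 = N13878 := ded_7_2 (flp_a L104951) (flp_b L89654) (flp_a L39599) (flp_b L18805) (flp_a L18795) L39585 L89620 L104857 L146142
theorem L146146 : sm gc N13854 = N19046 := rfl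
theorem L146148 : sm gf N13854 = N19047 := rfl
theorem L146150 : sm gg N13854 = N19048 := rfl
theorem L146152 : sm gb N13855 = N19049 := rfl
theorem L146154 : sm gd N13855 = N19050 := rfl
theorem L146156 : sm ga N19050 = N13857 := ded_9_1 (flp_d L104869) (flp_a L104861) L146154
theorem L146158 : sm gf N13855 = N19051 := rfl
theorem L146160 : sm ga N19051 = N13858 := ded_11_1 (flp_f L104871) (flp_a L104861) L146158
theorem L146162 : sm gc N19051 = N13856 := ded_20_1 (flp_f L104863) L104859 L146158
theorem L146164 : sm gg N19032 = N19051 := ded_29_1 (flp_f L146158) (flp_g L145983) L145981 L145989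
theorem L146166 : N19049 = N18342 := coi_31_3 (flp_g L129805) L129803 L130514 (flp_g L123674) (flp_f L123670) (flp_b L109677) (flp_g L109673) L109667 L109671 L113022 (flp_f L113026) (flp_b L146001) L146164 (flp_f L146158) L146152
theorem L146167 : N19049 = N18342 := eqc rfl L146166 rfl
theorem L146168 : sm gb N18342 = N13855 := trfs L146167 (flp_b L146152) rfl
theorem L146170 : sm gb N19051 = N15331 := ded_17_1 (flp_g L112352) (flp_b L94014) L112976 (flp_b L146001) L146164
theorem L146172 : N19030 = N18322 := coi_17_3 (flp_b L129701) L102432 L102469 L129805 L146168 (flp_g L145983)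
theorem L146173 : N19030 = N18322 := eqc rfl L146172 rfl
theorem L146174 : sm ga N18322 = N13845 := trfs L146173 L145981 rfl
theorem L146178 : sm gg N18322 = N13855 := trfs L146173 L145983 rfl
theorem L146180 : sm ga N19021 = N15763 := ded_7_3 L129600 (flp_a L129529) (flp_b L102411) L88265 L88281 L102430 L129701 L146174 (flp_b L145939)
theorem L146182 : sm gc N15763 = N19020 := ded_8_2 (flp_a L145935) L145937 L146180
theorem L146184 : sm gd N15751 = N19021 := ded_9_0 L146180 (flp_d L114388) (flp_a L114348)
theorem L146186 : N18224 = N15561 := coi_28_2 (flp_c L113472) (flp_d L94299) L47384 L84009 L94783 L114388 (flp_a L146180) (flp_c L145937) (flp_d L128996)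
theorem L146187 : N18224 = N15561 := eqc rfl L146186 rfl
theorem L146188 : sm gb N15561 = N13334 := trfs L146187 (flp_b L128994) rfl
theorem L146190 : sm gc N15561 = N18460 := trfs L146187 (flp_c L146044) rfl
theorem L146191 : N18460 = N11848 := eqes L146190 (flp_c L113472)
theorem L146192 : N18460 = N11848 := eqc rfl L146191 rfl
theorem L146193 : sm gd N15561 = N13839 := trfs L146187 L128996 rfl
theorem L146195 : sm gg N15561 = N13839 := trfs L146187 L128998 rfl
theorem L146197 : sm gb N11848 = N13476 := trfs L146192 (flp_b L130572) rfl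
theorem L146198 : N13476 = N9757 := eqes L146197 L94301
theorem L146199 : N13476 = N9757 := eqc rfl L146198 rfl
theorem L146200 : sm gg N11848 = N19021 := trfs L146192 (flp_g L146034) rfl
theorem L146201 : N19021 = N15563 := eqes L146200 L113478
theorem L146202 : N19021 = N15563 := eqc rfl L146201 rfl
theorem L146203 : sm ga N15563 = N15763 := trfs L146202 L146180 rfl
theorem L146205 : sm gb N15563 = N13845 := trfs L146202 L145939 rfl
theorem L146207 : sm gc N15563 = N13839 := trfs L146202 (flp_c L145937) rfl
theorem L146209 : sm gd N15563 = N15751 := trfs L146202 (flp_d L146184) rfl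
theorem L146210 : N15751 = N11850 := eqes L146209 L113480
theorem L146211 : N15751 = N11850 := eqc rfl L146210 rfl
theorem L146212 : sm ga N11850 = N11947 := trfs L146211 L114348 rfl
theorem L146213 : N11947 = N15552 := eqes L146212 (flp_a L113426)
theorem L146214 : N15552 = N11947 := (eqc rfl L146213 rfl).symm
theorem L146215 : sm gc N11850 = N11942 := trfs L146211 (flp_c L114346) rfl
theorem L146216 : N11942 = N9895 := eqes L146215 L94311
theorem L146217 : N11942 = N9895 := eqc rfl L146216 rfl
theorem L146218 : sm ge N11850 = N18545 := trfs L146211 (flp_e L143197) rfl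
theorem L146219 : N18545 = N9754 := eqes L146218 L94313
theorem L146220 : N18545 = N9754 := eqc rfl L146219 rfl
theorem L146221 : sm ga N9754 = N13535 := trfs L146220 (flp_a L143191) rfl
theorem L146222 : N13535 = N11844 := eqes L146221 (flp_a L94283)
theorem L146223 : N13535 = N11844 := eqc rfl L146222 rfl
theorem L146227 : sm gd N9754 = N13568 := trfs L146220 L143195 rfl
theorem L146228 : N13568 = N11847 := eqes L146227 (flp_d L94297)
theorem L146229 : N13568 = N11847 := eqc rfl L146228 rfl
theorem L146230 : sm ga N11847 = N10780 := trfs L146229 (flp_a L103308) rfl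
theorem L146231 : N10780 = N15549 := eqes L146230 (flp_a L113406)
theorem L146232 : N15549 = N10780 := (eqc rfl L146231 rfl).symm
theorem L146233 : sm gb N11847 = N18339 := trfs L146229 (flp_b L129795) rfl
theorem L146234 : N18339 = N14875 := eqes L146233 (flp_b L109808)
theorem L146235 : N18339 = N14875 := eqc rfl L146234 rfl
theorem L146238 : sm ge N11847 = N18418 := trfs L146229 (flp_e L130280) rfl
theorem L146239 : N18418 = N15557 := eqes L146238 (flp_e L113448)
theorem L146240 : N18418 = N15557 := eqc rfl L146239 rfl
theorem L146241 : sm gf N11847 = N18594 := trfs L146229 L143483 rfl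
theorem L146242 : N18594 = N15560 := eqes L146241 L113462
theorem L146243 : N18594 = N15560 := eqc rfl L146242 rfl
theorem L146244 : sm gg N11847 = N18595 := trfs L146229 L143489 rfl
theorem L146245 : N18595 = N9751 := eqes L146244 (flp_g L94295)
theorem L146246 : N18595 = N9751 := eqc rfl L146245 rfl
theorem L146247 : sm ga N9751 = N13571 := trfs L146246 L143491 rfl
theorem L146248 : N13571 = N11841 := eqes L146247 (flp_a L94261)
theorem L146249 : N13571 = N11841 := eqc rfl L146248 rfl
theorem L146251 : sm gf N9751 = N18597 := trfs L146246 L143505 rfl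
theorem L146252 : N18597 = N11846 := eqes L146251 L94291
theorem L146253 : N18597 = N11846 := eqc rfl L146252 rfl
theorem L146254 : sm ga N11846 = N18598 := trfs L146253 (flp_a L143509) rfl
theorem L146255 : N18598 = N15548 := eqes L146254 (flp_a L113398)
theorem L146256 : N18598 = N15548 := eqc rfl L146255 rfl
theorem L146258 : sm gg N11846 = N13570 := trfs L146253 (flp_g L143503) rfl
theorem L146259 : N13570 = N15559 := eqes L146258 L113456
theorem L146260 : N15559 = N13570 := (eqc rfl L146259 rfl).symm
theorem L146265 : sm gd N13570 = N11852 := trfs L146260 L113458 rfl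
theorem L146266 : N11852 = N18546 := eqes L146265 (flp_d L143203)
theorem L146267 : N18546 = N11852 := (eqc rfl L146266 rfl).symm
theorem L146269 : sm gg N13570 = N11846 := trfs L146260 (flp_g L113456) rfl
theorem L146271 : sm gb N11852 = N15505 := trfs L146267 (flp_b L143455) rfl
theorem L146272 : N15505 = N15570 := eqes L146271 L113518
theorem L146273 : N15570 = N15505 := (eqc rfl L146272 rfl).symm
theorem L146274 : sm gc N11852 = N15731 := trfs L146267 L143201 rfl
theorem L146275 : N15731 = N9897 := eqes L146274 L94321
theorem L146276 : N15731 = N9897 := eqc rfl L146275 rfl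
theorem L146277 : sm gd N11852 = N13570 := trfs L146267 L143203 rfl
theorem L146279 : sm ge N11852 = N15764 := trfs L146267 L143205 rfl
theorem L146280 : N15764 = N15565 := eqes L146279 (flp_e L113492)
theorem L146281 : N15764 = N15565 := eqc rfl L146280 rfl
theorem L146283 : sm gc N15565 = N11948 := trfs L146281 L114392 rfl
theorem L146284 : N11948 = N11951 := eqes L146283 L113490
theorem L146285 : N11951 = N11948 := (eqc rfl L146284 rfl).symm
theorem L146288 : sm ga N11948 = N11952 := trfs L146285 (flp_a L94807) rfl
theorem L146289 : N11952 = N15752 := eqes L146288 (flp_a L114352)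
theorem L146290 : N15752 = N11952 := (eqc rfl L146289 rfl).symm
theorem L146291 : sm gb N11948 = N15772 := trfs L146285 L114434 rfl
theorem L146292 : N15772 = N15766 := eqes L146291 L114398
theorem L146293 : N15772 = N15766 := eqc rfl L146292 rfl
theorem L146294 : sm gc N11948 = N15565 := trfs L146285 (flp_c L113490) rfl
theorem L146296 : sm gd N11948 = N15767 := trfs L146285 (flp_d L114406) rfl
theorem L146297 : N15767 = N9894 := eqes L146296 L94787
theorem L146298 : N15767 = N9894 := eqc rfl L146297 rfl
theorem L146301 : sm gf N11948 = N11944 := trfs L146285 (flp_f L94803) rfl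
theorem L146302 : N11944 = N9893 := eqes L146301 (flp_f L94785)
theorem L146303 : N11944 = N9893 := eqc rfl L146302 rfl
theorem L146315 : sm ge N9893 = N9892 := trfs L146303 L94777 rfl
theorem L146316 : N9892 = N11932 := eqes L146315 (flp_e L94723)
theorem L146317 : N11932 = N9892 := (eqc rfl L146316 rfl).symm
theorem L146318 : sm gg N9893 = N9890 := trfs L146303 (flp_g L94773) rfl
theorem L146319 : N9890 = N11949 := eqes L146318 L94789
theorem L146320 : N11949 = N9890 := (eqc rfl L146319 rfl).symm
theorem L146322 : sm gb N9890 = N14289 := trfs L146320 (flp_b L106891) rfl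
theorem L146323 : N14289 = N11939 := eqes L146322 (flp_b L94757)
theorem L146324 : N14289 = N11939 := eqc rfl L146323 rfl
theorem L146330 : sm ge N9890 = N15732 := trfs L146320 (flp_e L114260) rfl
theorem L146331 : N15732 = N4901 := eqes L146330 (flp_e L83997)
theorem L146332 : N15732 = N4901 := eqc rfl L146331 rfl
theorem L146336 : sm gg N9890 = N9893 := trfs L146320 (flp_g L94789) rfl
theorem L146348 : sm gd N4901 = N11934 := trfs L146332 L114258 rfl
theorem L146349 : N11934 = N9884 := eqes L146348 (flp_d L83970)
theorem L146350 : N11934 = N9884 := eqc rfl L146349 rfl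
theorem L146355 : sm gb N9884 = N12027 := trfs L146350 (flp_b L95187) rfl
theorem L146356 : N12027 = N11928 := eqes L146355 L94696
theorem L146357 : N12027 = N11928 := eqc rfl L146356 rfl
theorem L146359 : sm ge N9884 = N9887 := trfs L146350 L94733 rfl
theorem L146360 : N9887 = N11929 := eqes L146359 L94700
theorem L146361 : N11929 = N9887 := (eqc rfl L146360 rfl).symm
theorem L146362 : sm gf N9884 = N15734 := trfs L146350 L114269 rfl
theorem L146363 : N15734 = N11930 := eqes L146362 L94705
theorem L146364 : N15734 = N11930 := eqc rfl L146363 rfl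
theorem L146365 : sm gg N9884 = N9885 := trfs L146350 (flp_g L94730) rfl
theorem L146366 : N9885 = N11931 := eqes L146365 L94712
theorem L146367 : N11931 = N9885 := (eqc rfl L146366 rfl).symm
theorem L146370 : sm gb N9885 = N15729 := trfs L146367 L114240 rfl
theorem L146371 : N15729 = N4900 := eqes L146370 L83974
theorem L146372 : N15729 = N4900 := eqc rfl L146371 rfl
theorem L146377 : sm gf N9885 = N11935 := trfs L146367 L94740 rfl
theorem L146378 : N11935 = N11933 := eqes L146377 L94725
theorem L146379 : N11935 = N11933 := eqc rfl L146378 rfl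
theorem L146380 : sm gg N9885 = N9884 := trfs L146367 (flp_g L94712) rfl
theorem L146382 : sm ga N11933 = N11936 := trfs L146379 (flp_a L94744) rfl
theorem L146383 : N11936 = N15726 := eqes L146382 (flp_a L114224)
theorem L146384 : N15726 = N11936 := (eqc rfl L146383 rfl).symm
theorem L146385 : sm gb N11933 = N15735 := trfs L146379 L114278 rfl
theorem L146386 : N15735 = N14273 := eqes L146385 (flp_b L106829)
theorem L146387 : N15735 = N14273 := eqc rfl L146386 rfl
theorem L146391 : sm ge N11933 = N15733 := trfs L146379 (flp_e L114265) rfl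
theorem L146392 : N15733 = N9886 := eqes L146391 L94728
theorem L146393 : N15733 = N9886 := eqc rfl L146392 rfl
theorem L146399 : sm gg N9886 = N11933 := trfs L146393 (flp_g L114262) rfl
theorem L146401 : sm gd N14273 = N11956 := trfs L146387 L114280 rfl
theorem L146403 : sm ga N11936 = N11933 := trfs L146384 L114224 rfl
theorem L146410 : sm gd N4900 = N11946 := trfs L146372 L114242 rfl
theorem L146411 : N11946 = N9888 := eqes L146410 L83987
theorem L146412 : N11946 = N9888 := eqc rfl L146411 rfl
theorem L146422 : sm gf N9888 = N15761 := trfs L146412 L114380 rfl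
theorem L146423 : N15761 = N11162 := eqes L146422 (flp_f L90716)
theorem L146424 : N15761 = N11162 := eqc rfl L146423 rfl
theorem L146425 : sm gg N9888 = N15749 := trfs L146412 (flp_g L114338) rfl
theorem L146426 : N15749 = N9899 := eqes L146425 (flp_g L84041)
theorem L146427 : N15749 = N9899 := eqc rfl L146426 rfl
theorem L146428 : sm gb N9899 = N11941 := trfs L146427 (flp_b L114336) rfl
theorem L146429 : N11941 = N11958 := eqes L146428 L94827
theorem L146430 : N11958 = N11941 := (eqc rfl L146429 rfl).symm
theorem L146431 : sm ga N11941 = N13522 := trfs L146430 (flp_a L129539) rfl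
theorem L146432 : N13522 = N15739 := eqes L146431 (flp_a L114296)
theorem L146433 : N15739 = N13522 := (eqc rfl L146432 rfl).symm
theorem L146434 : sm gb N11941 = N9899 := trfs L146430 (flp_b L94827) rfl
theorem L146436 : sm gc N11941 = N13521 := trfs L146430 (flp_c L129574) rfl
theorem L146437 : N13521 = N15743 := eqes L146436 (flp_c L114314)
theorem L146438 : N15743 = N13521 := (eqc rfl L146437 rfl).symm
theorem L146439 : sm gd N11941 = N9939 := trfs L146430 L94829 rfl
theorem L146440 : N9939 = N15724 := eqes L146439 (flp_d L114214)
theorem L146441 : N15724 = N9939 := (eqc rfl L146440 rfl).symm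
theorem L146442 : sm ge N11941 = N11167 := trfs L146430 L94831 rfl
theorem L146443 : N11167 = N15746 := eqes L146442 (flp_e L114326)
theorem L146444 : N15746 = N11167 := (eqc rfl L146443 rfl).symm
theorem L146445 : sm gf N11941 = N15786 := trfs L146430 L114484 rfl
theorem L146446 : N15786 = N15750 := eqes L146445 L114340
theorem L146447 : N15786 = N15750 := eqc rfl L146446 rfl
theorem L146449 : sm ga N15750 = N18529 := trfs L146447 (flp_a L143095) rfl
theorem L146450 : N18529 = N15748 := eqes L146449 L114342
theorem L146451 : N18529 = N15748 := eqc rfl L146450 rfl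
theorem L146452 : sm gc N15750 = N18528 := trfs L146447 (flp_c L143087) rfl
theorem L146454 : sm gd N15750 = N12026 := trfs L146447 L114486 rfl
theorem L146456 : sm ge N15750 = N14288 := trfs L146447 L114488 rfl
theorem L146458 : sm gc N15748 = N13523 := trfs L146451 L143097 rfl
theorem L146460 : sm gd N15748 = N15914 := trfs L146451 L143099 rfl
theorem L146462 : sm ge N15748 = N13539 := trfs L146451 L143101 rfl
theorem L146466 : sm ge N11167 = N11941 := trfs L146444 L114326 rfl
theorem L146470 : sm gd N9939 = N11941 := trfs L146441 L114214 rfl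
theorem L146474 : sm gc N13521 = N11941 := trfs L146438 L114314 rfl
theorem L146476 : sm gg N13521 = N11938 := trfs L146438 (flp_g L114312) rfl
theorem L146477 : N11938 = N18480 := eqes L146476 (flp_g L142833)
theorem L146478 : N18480 = N11938 := (eqc rfl L146477 rfl).symm
theorem L146479 : sm ga N11938 = N13491 := trfs L146478 (flp_a L142829) rfl
theorem L146480 : N13491 = N15527 := eqes L146479 (flp_a L113372)
theorem L146481 : N15527 = N13491 := (eqc rfl L146480 rfl).symm
theorem L146483 : sm ge N11938 = N13497 := trfs L146478 L142831 rfl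
theorem L146484 : N13497 = N15741 := eqes L146483 L114304
theorem L146485 : N15741 = N13497 := (eqc rfl L146484 rfl).symm
theorem L146486 : sm gf N11938 = N18531 := trfs L146478 L143117 rfl
theorem L146487 : N18531 = N15742 := eqes L146486 L114308
theorem L146488 : N18531 = N15742 := eqc rfl L146487 rfl
theorem L146489 : sm gg N11938 = N13521 := trfs L146478 L142833 rfl
theorem L146491 : sm ga N15742 = N18482 := trfs L146488 L143113 rfl
theorem L146493 : sm ge N15742 = N13541 := trfs L146488 L143115 rfl
theorem L146495 : sm gg N15742 = N13523 := trfs L146488 (flp_g L143111) rfl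
theorem L146499 : sm ge N13497 = N11938 := trfs L146485 (flp_e L114304) rfl
theorem L146501 : sm ga N13491 = N11938 := trfs L146481 L113372 rfl
theorem L146503 : sm gb N13491 = N11831 := trfs L146481 (flp_b L113282) rfl
theorem L146504 : N11831 = N10745 := eqes L146503 (flp_b L102972)
theorem L146505 : N11831 = N10745 := eqc rfl L146504 rfl
theorem L146506 : sm gc N13491 = N11937 := trfs L146481 (flp_c L113374) rfl
theorem L146507 : N11937 = N18481 := eqes L146506 L142837
theorem L146508 : N18481 = N11937 := (eqc rfl L146507 rfl).symm
theorem L146509 : sm gd N13491 = N15406 := trfs L146481 L113284 rfl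
theorem L146510 : N15406 = N18308 := eqes L146509 (flp_d L129496)
theorem L146511 : N18308 = N15406 := (eqc rfl L146510 rfl).symm
theorem L146512 : sm gb N15406 = N13381 := trfs L146511 (flp_b L129494) rfl
theorem L146513 : N13381 = N11767 := eqes L146512 (flp_b L112668)
theorem L146514 : N13381 = N11767 := eqc rfl L146513 rfl
theorem L146515 : sm gd N15406 = N13491 := trfs L146511 L129496 rfl
theorem L146517 : sm ge N15406 = N13414 := trfs L146511 L129498 rfl
theorem L146519 : sm gg N15406 = N13383 := trfs L146511 L129500 rfl
theorem L146521 : sm ga N11767 = N15355 := trfs L146514 L119303 rfl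
theorem L146522 : N15355 = N9648 := eqes L146521 (flp_a L93859)
theorem L146523 : N15355 = N9648 := eqc rfl L146522 rfl
theorem L146524 : sm gc N11767 = N15937 := trfs L146514 (flp_c L115228) rfl
theorem L146525 : N15937 = N15297 := eqes L146524 (flp_c L112198)
theorem L146526 : N15937 = N15297 := eqc rfl L146525 rfl
theorem L146529 : sm ge N11767 = N10706 := trfs L146514 L102403 rfl
theorem L146530 : N10706 = N15407 := eqes L146529 L112670
theorem L146531 : N15407 = N10706 := (eqc rfl L146530 rfl).symm
theorem L146532 : sm gf N11767 = N11741 := trfs L146514 L119306 rfl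
theorem L146533 : N11741 = N15408 := eqes L146532 L112674
theorem L146534 : N15408 = N11741 := (eqc rfl L146533 rfl).symm
theorem L146535 : sm gg N11767 = N10686 := trfs L146514 (flp_g L102399) rfl
theorem L146536 : N10686 = N15409 := eqes L146535 L112678
theorem L146537 : N15409 = N10686 := (eqc rfl L146536 rfl).symm
theorem L146544 : sm gf N10686 = N15414 := trfs L146537 L112700 rfl
theorem L146545 : N15414 = N11738 := eqes L146544 L119298
theorem L146546 : N15414 = N11738 := eqc rfl L146545 rfl
theorem L146547 : sm gg N10686 = N11767 := trfs L146537 (flp_g L112678) rfl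
theorem L146552 : sm gd N11738 = N15535 := trfs L146546 (flp_d L113324) rfl
theorem L146553 : N15535 = N10744 := eqes L146552 L119288
theorem L146554 : N15535 = N10744 := eqc rfl L146553 rfl
theorem L146555 : sm gg N11738 = N11769 := trfs L146546 (flp_g L112698) rfl
theorem L146556 : N11769 = N15351 := eqes L146555 L112434
theorem L146557 : N15351 = N11769 := (eqc rfl L146556 rfl).symm
theorem L146560 : sm gc N11769 = N18158 := trfs L146557 (flp_c L128577) rfl
theorem L146561 : N18158 = N15299 := eqes L146560 (flp_c L112208)
theorem L146562 : N18158 = N15299 := eqc rfl L146561 rfl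
theorem L146563 : sm gd N11769 = N13490 := trfs L146557 (flp_d L119107) rfl
theorem L146564 : N13490 = N11833 := eqes L146563 (flp_d L94221)
theorem L146565 : N13490 = N11833 := eqc rfl L146564 rfl
theorem L146566 : sm ge N11769 = N13413 := trfs L146557 L119725 rfl
theorem L146567 : N13413 = N15411 := eqes L146566 (flp_e L112688)
theorem L146568 : N15411 = N13413 := (eqc rfl L146567 rfl).symm
theorem L146570 : sm gg N11769 = N11738 := trfs L146557 (flp_g L112434) rfl
theorem L146572 : sm ge N13413 = N11769 := trfs L146568 L112688 rfl
theorem L146574 : sm gf N13413 = N11768 := trfs L146568 (flp_f L112686) rfl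
theorem L146575 : N11768 = N13409 := eqes L146574 (flp_f L102543)
theorem L146576 : N13409 = N11768 := (eqc rfl L146575 rfl).symm
theorem L146582 : sm gc N11768 = N15927 := trfs L146576 (flp_c L115172) rfl
theorem L146583 : N15927 = N15298 := eqes L146582 (flp_c L112204)
theorem L146584 : N15927 = N15298 := eqc rfl L146583 rfl
theorem L146585 : sm gd N11768 = N10704 := trfs L146576 L102523 rfl
theorem L146586 : N10704 = N15410 := eqes L146585 L112682
theorem L146587 : N15410 = N10704 := (eqc rfl L146586 rfl).symm
theorem L146589 : sm gf N11768 = N13413 := trfs L146576 L102543 rfl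
theorem L146591 : sm gg N11768 = N10702 := trfs L146576 (flp_g L102519) rfl
theorem L146592 : N10702 = N15412 := eqes L146591 L112690
theorem L146593 : N15412 = N10702 := (eqc rfl L146592 rfl).symm
theorem L146595 : sm gg N10702 = N11768 := trfs L146593 (flp_g L112690) rfl
theorem L146597 : sm gb N10704 = N11771 := trfs L146587 L112684 rfl
theorem L146598 : N11771 = N13411 := eqes L146597 L102529
theorem L146599 : N13411 = N11771 := (eqc rfl L146598 rfl).symm
theorem L146600 : sm gd N10704 = N11768 := trfs L146587 (flp_d L112682) rfl
theorem L146602 : sm ge N10704 = N15531 := trfs L146587 (flp_e L113306) rfl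
theorem L146603 : N15531 = N7736 := eqes L146602 L88340
theorem L146604 : N15531 = N7736 := eqc rfl L146603 rfl
theorem L146605 : sm gb N7736 = N11835 := trfs L146604 L113304 rfl
theorem L146606 : N11835 = N10739 := eqes L146605 L88544
theorem L146607 : N11835 = N10739 := eqc rfl L146606 rfl
theorem L146608 : sm gd N7736 = N11832 := trfs L146604 (flp_d L113302) rfl
theorem L146609 : N11832 = N10737 := eqes L146608 (flp_d L88540)
theorem L146610 : N11832 = N10737 := eqc rfl L146609 rfl
theorem L146614 : sm gb N10737 = N9741 := trfs L146610 L94217 rfl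
theorem L146615 : N9741 = N13472 := eqes L146614 L102878
theorem L146616 : N13472 = N9741 := (eqc rfl L146615 rfl).symm
theorem L146617 : sm gc N10737 = N12024 := trfs L146610 L137272 rfl
theorem L146618 : N12024 = N13468 := eqes L146617 (flp_c L102858)
theorem L146619 : N13468 = N12024 := (eqc rfl L146618 rfl).symm
theorem L146620 : sm ge N10737 = N9740 := trfs L146610 (flp_e L94215) rfl
theorem L146621 : N9740 = N13470 := eqes L146620 (flp_e L102872)
theorem L146622 : N13470 = N9740 := (eqc rfl L146621 rfl).symm
theorem L146626 : sm gg N10737 = N15533 := trfs L146610 L113312 rfl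
theorem L146627 : N15533 = N7734 := eqes L146626 (flp_g L88536)
theorem L146628 : N15533 = N7734 := eqc rfl L146627 rfl
theorem L146635 : sm ge N7734 = N11834 := trfs L146628 L113314 rfl
theorem L146636 : N11834 = N10735 := eqes L146635 L88526
theorem L146637 : N11834 = N10735 := eqc rfl L146636 rfl
theorem L146639 : sm gb N10735 = N12842 := trfs L146637 (flp_b L99233) rfl
theorem L146640 : N12842 = N12799 := eqes L146639 L119080
theorem L146641 : N12842 = N12799 := eqc rfl L146640 rfl
theorem L146642 : sm gc N10735 = N15519 := trfs L146637 (flp_c L113240) rfl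
theorem L146643 : N15519 = N13466 := eqes L146642 (flp_c L102844)
theorem L146644 : N15519 = N13466 := eqc rfl L146643 rfl
theorem L146662 : sm gg N13466 = N11824 := trfs L146644 (flp_g L113238) rfl
theorem L146663 : N11824 = N18454 := eqes L146662 L130545
theorem L146664 : N18454 = N11824 := (eqc rfl L146663 rfl).symm
theorem L146665 : sm ga N11824 = N13484 := trfs L146664 L130547 rfl
theorem L146666 : N13484 = N15515 := eqes L146665 L113220
theorem L146667 : N15515 = N13484 := (eqc rfl L146666 rfl).symm
theorem L146670 : sm gf N11824 = N18472 := trfs L146664 L130646 rfl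
theorem L146671 : N18472 = N15518 := eqes L146670 L113234
theorem L146672 : N18472 = N15518 := eqc rfl L146671 rfl
theorem L146673 : sm gg N11824 = N13466 := trfs L146664 (flp_g L130545) rfl
theorem L146675 : sm ga N15518 = N15440 := trfs L146672 L130640 rfl
theorem L146678 : sm ge N15518 = N13486 := trfs L146672 L130644 rfl
theorem L146679 : N13486 = N15906 := eqes L146678 L142730
theorem L146680 : N15906 = N13486 := (eqc rfl L146679 rfl).symm
theorem L146681 : sm gg N15518 = N13483 := trfs L146672 (flp_g L130638) rfl
theorem L146683 : sm gb N13486 = N12020 := trfs L146680 (flp_b L115060) rfl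
theorem L146684 : N12020 = N18474 := eqes L146683 L130652
theorem L146685 : N18474 = N12020 := (eqc rfl L146684 rfl).symm
theorem L146687 : sm ge N13486 = N15518 := trfs L146680 (flp_e L142730) rfl
theorem L146691 : sm gb N12020 = N13486 := trfs L146685 (flp_b L130652) rfl
theorem L146693 : sm gg N12020 = N18477 := trfs L146685 L142686 rfl
theorem L146694 : N18477 = N15907 := eqes L146693 L115064
theorem L146695 : N18477 = N15907 := eqc rfl L146694 rfl
theorem L146696 : sm gb N15907 = N15873 := trfs L146695 L130662 rfl
theorem L146698 : sm gf N15907 = N13487 := trfs L146695 (flp_f L130660) rfl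
theorem L146699 : N13487 = N15901 := eqes L146698 (flp_f L115068)
theorem L146700 : N15901 = N13487 := (eqc rfl L146699 rfl).symm
theorem L146701 : sm ga N13487 = N12021 := trfs L146700 L115040 rfl
theorem L146702 : N12021 = N18475 := eqes L146701 L130654
theorem L146703 : N18475 = N12021 := (eqc rfl L146702 rfl).symm
theorem L146704 : sm gc N13487 = N12030 := trfs L146700 L115042 rfl
theorem L146705 : N12030 = N18476 := eqes L146704 L130656
theorem L146706 : N18476 = N12030 := (eqc rfl L146705 rfl).symm
theorem L146707 : sm gf N13487 = N15907 := trfs L146700 L115068 rfl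
theorem L146709 : sm gg N13487 = N12018 := trfs L146700 (flp_g L115038) rfl
theorem L146710 : N12018 = N14395 := eqes L146709 (flp_g L107495)
theorem L146711 : N14395 = N12018 := (eqc rfl L146710 rfl).symm
theorem L146712 : sm gb N12018 = N11233 := trfs L146711 (flp_b L107493) rfl
theorem L146713 : N11233 = N15898 := eqes L146712 L115026
theorem L146714 : N15898 = N11233 := (eqc rfl L146713 rfl).symm
theorem L146715 : sm gg N12018 = N13487 := trfs L146711 L107495 rfl
theorem L146717 : sm gb N11233 = N12018 := trfs L146714 (flp_b L115026) rfl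
theorem L146719 : sm gb N12030 = N13498 := trfs L146706 L130658 rfl
theorem L146720 : N13498 = N15923 := eqes L146719 L115144
theorem L146721 : N15923 = N13498 := (eqc rfl L146720 rfl).symm
theorem L146722 : sm gc N12030 = N13487 := trfs L146706 (flp_c L130656) rfl
theorem L146724 : sm gb N13498 = N12030 := trfs L146721 (flp_b L115144) rfl
theorem L146726 : sm gd N13498 = N14286 := trfs L146721 L115146 rfl
theorem L146727 : N14286 = N14284 := eqes L146726 L129590
theorem L146728 : N14286 = N14284 := eqc rfl L146727 rfl
theorem L146729 : sm gb N14284 = N11166 := trfs L146728 (flp_b L106879) rfl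
theorem L146731 : sm ga N12021 = N13487 := trfs L146703 (flp_a L130654) rfl
theorem L146733 : sm ga N13484 = N11824 := trfs L146667 (flp_a L113220) rfl
theorem L146742 : sm ga N12799 = N17377 := trfs L146641 (flp_a L124555) rfl
theorem L146743 : N17377 = N10731 := eqes L146742 L119067
theorem L146744 : N17377 = N10731 := eqc rfl L146743 rfl
theorem L146746 : sm gd N12799 = N14831 := trfs L146641 (flp_d L109598) rfl
theorem L146747 : N14831 = N10663 := eqes L146746 L119073
theorem L146748 : N14831 = N10663 := eqc rfl L146747 rfl
theorem L146753 : sm gg N12799 = N10336 := trfs L146641 (flp_g L99230) rfl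
theorem L146754 : N10336 = N17300 := eqes L146753 L124156
theorem L146755 : N17300 = N10336 := (eqc rfl L146754 rfl).symm
theorem L146756 : sm ga N10336 = N13461 := trfs L146755 L124158 rfl
theorem L146757 : N13461 = N12839 := eqes L146756 L99217
theorem L146758 : N13461 = N12839 := eqc rfl L146757 rfl
theorem L146760 : sm gd N10336 = N13337 := trfs L146755 L124161 rfl
theorem L146761 : N13337 = N11438 := eqes L146760 (flp_d L92131)
theorem L146762 : N13337 = N11438 := eqc rfl L146761 rfl
theorem L146763 : sm ge N10336 = N12839 := trfs L146755 L124163 L146758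
theorem L146764 : N12839 = N12840 := eqes L146763 L99220
theorem L146765 : N12840 = N12839 := (eqc rfl L146764 rfl).symm
theorem L146766 : sm gf N10336 = N17299 := trfs L146755 (flp_f L124165) rfl
theorem L146767 : N17299 = N12841 := eqes L146766 L99225
theorem L146768 : N17299 = N12841 := eqc rfl L146767 rfl
theorem L146769 : sm gg N10336 = N12799 := trfs L146755 (flp_g L124156) rfl
theorem L146771 : sm ga N12841 = N12800 := trfs L146768 L124147 rfl
theorem L146772 : N12800 = N17376 := eqes L146771 (flp_a L124550)
theorem L146773 : N17376 = N12800 := (eqc rfl L146772 rfl).symm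
theorem L146774 : sm gb N12841 = N12835 := trfs L146768 L124154 rfl
theorem L146775 : N12835 = N10352 := eqes L146774 L99228
theorem L146776 : N12835 = N10352 := eqc rfl L146775 rfl
theorem L146778 : sm gd N12841 = N13463 := trfs L146768 L124150 rfl
theorem L146779 : N13463 = N14830 := eqes L146778 (flp_d L109592)
theorem L146780 : N14830 = N13463 := (eqc rfl L146779 rfl).symm
theorem L146781 : sm ge N12841 = N12800 := trfs L146768 L124152 rfl
theorem L146782 : N12800 = N17378 := eqes L146781 (flp_e L124561)
theorem L146783 : N17378 = N12800 := (eqc rfl L146782 rfl).symm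
theorem L146784 : sm gg N12841 = N12797 := trfs L146768 (flp_g L124145) rfl
theorem L146785 : N12797 = N17380 := eqes L146784 L124572
theorem L146786 : N17380 = N12797 := (eqc rfl L146785 rfl).symm
theorem L146790 : sm gg N12797 = N12841 := trfs L146786 (flp_g L124572) rfl
theorem L146792 : sm gb N12800 = N12874 := trfs L146783 L124563 rfl
theorem L146793 : N12874 = N10333 := eqes L146792 L98993
theorem L146794 : N12874 = N10333 := eqc rfl L146793 rfl
theorem L146796 : sm ge N12800 = N12841 := trfs L146783 L124561 rfl
theorem L146800 : sm ga N10333 = N17431 := trfs L146794 (flp_a L124836) rfl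
theorem L146801 : N17431 = N12828 := eqes L146800 (flp_a L99161)
theorem L146802 : N17431 = N12828 := eqc rfl L146801 rfl
theorem L146803 : sm gc N10333 = N10453 := trfs L146794 L136957 rfl
theorem L146804 : N10453 = N6003 := eqes L146803 L86107
theorem L146805 : N10453 = N6003 := eqc rfl L146804 rfl
theorem L146806 : sm gd N10333 = N17445 := trfs L146794 (flp_d L124904) rfl
theorem L146807 : N17445 = N12832 := eqes L146806 (flp_d L99179)
theorem L146808 : N17445 = N12832 := eqc rfl L146807 rfl
theorem L146811 : sm gf N10333 = N10351 := trfs L146794 (flp_f L99413) rfl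
theorem L146812 : N10351 = N12837 := eqes L146811 L99203
theorem L146813 : N12837 = N10351 := (eqc rfl L146812 rfl).symm
theorem L146814 : sm gg N10333 = N17447 := trfs L146794 L124910 rfl
theorem L146815 : N17447 = N5703 := eqes L146814 (flp_g L86105)
theorem L146816 : N17447 = N5703 := eqc rfl L146815 rfl
theorem L146826 : sm gf N5703 = N17432 := trfs L146816 (flp_f L124916) rfl
theorem L146827 : N17432 = N10332 := eqes L146826 L86101
theorem L146828 : N17432 = N10332 := eqc rfl L146827 rfl
theorem L146829 : sm ga N10332 = N12875 := trfs L146828 L124844 rfl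
theorem L146830 : N12875 = N12827 := eqes L146829 (flp_a L99155)
theorem L146831 : N12875 = N12827 := eqc rfl L146830 rfl
theorem L146835 : sm ge N10332 = N12868 := trfs L146828 L124848 rfl
theorem L146836 : N12868 = N12834 := eqes L146835 (flp_e L99189)
theorem L146837 : N12868 = N12834 := eqc rfl L146836 rfl
theorem L146838 : sm gg N10332 = N12866 := trfs L146828 (flp_g L124842) rfl
theorem L146839 : N12866 = N12836 := eqes L146838 L99197
theorem L146840 : N12866 = N12836 := eqc rfl L146839 rfl
theorem L146843 : sm gb N12836 = N17423 := trfs L146840 (flp_b L124804) rfl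
theorem L146844 : N17423 = N17372 := eqes L146843 L124537
theorem L146845 : N17423 = N17372 := eqc rfl L146844 rfl
theorem L146846 : sm gc N12836 = N10451 := trfs L146840 (flp_c L136939) rfl
theorem L146847 : N10451 = N10421 := eqes L146846 L99199
theorem L146848 : N10451 = N10421 := eqc rfl L146847 rfl
theorem L146849 : sm gd N12836 = N17430 := trfs L146840 L124830 rfl
theorem L146850 : N17430 = N17365 := eqes L146849 (flp_d L124495)
theorem L146851 : N17430 = N17365 := eqc rfl L146850 rfl
theorem L146852 : sm ge N12836 = N10349 := trfs L146840 (flp_e L99375) rfl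
theorem L146853 : N10349 = N17370 := eqes L146852 (flp_e L124523)
theorem L146854 : N17370 = N10349 := (eqc rfl L146853 rfl).symm
theorem L146859 : sm gb N10349 = N18557 := trfs L146854 (flp_b L143265) rfl
theorem L146860 : N18557 = N12864 := eqes L146859 L99369
theorem L146861 : N18557 = N12864 := eqc rfl L146860 rfl
theorem L146862 : sm gc N10349 = N12940 := trfs L146854 (flp_c L131182) rfl
theorem L146863 : N12940 = N6032 := eqes L146862 L86200
theorem L146864 : N12940 = N6032 := eqc rfl L146863 rfl
theorem L146865 : sm gd N10349 = N18628 := trfs L146854 (flp_d L143663) rfl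
theorem L146866 : N18628 = N12865 := eqes L146865 L99371
theorem L146867 : N18628 = N12865 := eqc rfl L146866 rfl
theorem L146868 : sm ge N10349 = N12836 := trfs L146854 L124523 rfl
theorem L146870 : sm gf N10349 = N17355 := trfs L146854 (flp_f L124525) rfl
theorem L146871 : N17355 = N12867 := eqes L146870 L99381
theorem L146872 : N17355 = N12867 := eqc rfl L146871 rfl
theorem L146876 : sm gc N12867 = N12935 := trfs L146872 L142475 rfl
theorem L146877 : N12935 = N10462 := eqes L146876 L99385
theorem L146878 : N12935 = N10462 := eqc rfl L146877 rfl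
theorem L146881 : sm gg N12867 = N12826 := trfs L146872 (flp_g L124449) rfl
theorem L146882 : N12826 = N12877 := eqes L146881 (flp_g L99437)
theorem L146883 : N12877 = N12826 := (eqc rfl L146882 rfl).symm
theorem L146888 : sm gc N12826 = N10469 := trfs L146883 L99435 rfl
theorem L146889 : N10469 = N10404 := eqes L146888 L142464
theorem L146890 : N10469 = N10404 := eqc rfl L146889 rfl
theorem L146891 : sm gd N12826 = N17443 := trfs L146883 (flp_d L124896) rfl
theorem L146892 : N17443 = N17353 := eqes L146891 L124437
theorem L146893 : N17443 = N17353 := eqc rfl L146892 rfl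
theorem L146895 : sm gf N12826 = N10353 := trfs L146883 (flp_f L99431) rfl
theorem L146896 : N10353 = N17354 := eqes L146895 L124441
theorem L146897 : N17354 = N10353 := (eqc rfl L146896 rfl).symm
theorem L146898 : sm gg N12826 = N12867 := trfs L146883 L99437 rfl
theorem L146902 : sm gc N10353 = N12934 := trfs L146897 L142438 rfl
theorem L146903 : N12934 = N6035 := eqes L146902 L86218
theorem L146904 : N12934 = N6035 := eqc rfl L146903 rfl
theorem L146907 : sm gf N10353 = N12826 := trfs L146897 (flp_f L124441) rfl
theorem L146910 : sm ga N6035 = N10406 := trfs L146904 L99842 rfl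
theorem L146911 : N10406 = N10463 := eqes L146910 (flp_a L86916)
theorem L146912 : N10463 = N10406 := (eqc rfl L146911 rfl).symm
theorem L146913 : sm gb N6035 = N17538 := trfs L146904 L125436 rfl
theorem L146914 : N17538 = N10468 := eqes L146913 L86935
theorem L146915 : N17538 = N10468 := eqc rfl L146914 rfl
theorem L146916 : sm gd N6035 = N10415 := trfs L146904 L99844 rfl
theorem L146917 : N10415 = N10454 := eqes L146916 (flp_d L86873)
theorem L146918 : N10454 = N10415 := (eqc rfl L146917 rfl).symm
theorem L146923 : sm gg N6035 = N12941 := trfs L146904 (flp_g L99885) rfl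
theorem L146924 : N12941 = N2919 := eqes L146923 (flp_g L29256)
theorem L146925 : N12941 = N2919 := eqc rfl L146924 rfl
theorem L146931 : sm gd N2919 = N10422 := trfs L146925 L99883 rfl
theorem L146932 : N10422 = N6025 := eqes L146931 (flp_d L29200)
theorem L146933 : N10422 = N6025 := eqc rfl L146932 rfl
theorem L146935 : sm gf N2919 = N10407 := trfs L146925 (flp_f L99879) rfl
theorem L146936 : N10407 = N6034 := eqes L146935 L29253
theorem L146937 : N10407 = N6034 := eqc rfl L146936 rfl
theorem L146945 : sm gg N6034 = N5993 := trfs L146937 (flp_g L86623) rfl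
theorem L146946 : N5993 = N10467 := eqes L146945 L86931
theorem L146947 : N10467 = N5993 := (eqc rfl L146946 rfl).symm
theorem L146949 : sm gb N5993 = N13050 := trfs L146947 L100408 rfl
theorem L146950 : N13050 = N2900 := eqes L146949 (flp_b L29032)
theorem L146951 : N13050 = N2900 := eqc rfl L146950 rfl
theorem L146956 : sm gg N5993 = N6034 := trfs L146947 (flp_g L86931) rfl
theorem L146968 : sm gf N2900 = N17779 := trfs L146951 L126535 rfl
theorem L146969 : N17779 = N5995 := eqes L146968 L29043
theorem L146970 : N17779 = N5995 := eqc rfl L146969 rfl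
theorem L146972 : sm gb N5995 = N17764 := trfs L146970 L126537 rfl
theorem L146973 : N17764 = N10410 := eqes L146972 L86645
theorem L146974 : N17764 = N10410 := eqc rfl L146973 rfl
theorem L146975 : sm gf N10410 = N13043 := trfs L146974 (flp_f L126468) rfl
theorem L146976 : N13043 = N12939 := eqes L146975 (flp_f L99871)
theorem L146977 : N13043 = N12939 := eqc rfl L146976 rfl
theorem L146989 : sm gg N12939 = N17752 := trfs L146977 (flp_g L126426) rfl
theorem L146990 : N17752 = N17548 := eqes L146989 L125491
theorem L146991 : N17752 = N17548 := eqc rfl L146990 rfl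
theorem L146992 : sm gb N17548 = N13038 := trfs L146991 (flp_b L126424) rfl
theorem L147001 : sm gb N6025 = N12969 := trfs L146933 L99996 rfl
theorem L147002 : N12969 = N2915 := eqes L147001 (flp_b L29198)
theorem L147003 : N12969 = N2915 := eqc rfl L147002 rfl
theorem L147018 : sm gg N2915 = N17611 := trfs L147003 L125751 rfl
theorem L147019 : N17611 = N6027 := eqes L147018 L29209
theorem L147020 : N17611 = N6027 := eqc rfl L147019 rfl
theorem L147021 : sm gb N6027 = N17585 := trfs L147020 L125753 rfl
theorem L147022 : N17585 = N10457 := eqes L147021 L86892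
theorem L147023 : N17585 = N10457 := eqc rfl L147022 rfl
theorem L147024 : sm gg N10457 = N12957 := trfs L147023 (flp_g L125650) rfl
theorem L147025 : N12957 = N13025 := eqes L147024 (flp_g L100301)
theorem L147026 : N13025 = N12957 := (eqc rfl L147025 rfl).symm
theorem L147027 : sm ga N12957 = N17723 := trfs L147026 L126298 rfl
theorem L147028 : N17723 = N17583 := eqes L147027 L125646
theorem L147029 : N17723 = N17583 := eqc rfl L147028 rfl
theorem L147031 : sm gc N12957 = N17724 := trfs L147026 L126304 rfl
theorem L147032 : N17724 = N17584 := eqes L147031 L125648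
theorem L147033 : N17724 = N17584 := eqc rfl L147032 rfl
theorem L147038 : sm gf N12957 = N17725 := trfs L147026 L126308 rfl
theorem L147039 : N17725 = N17574 := eqes L147038 (flp_f L125606)
theorem L147040 : N17725 = N17574 := eqc rfl L147039 rfl
theorem L147041 : sm gg N12957 = N10457 := trfs L147026 L100301 rfl
theorem L147043 : sm ga N17574 = N17736 := trfs L147040 (flp_a L126364) rfl
theorem L147051 : sm ge N17584 = N13052 := trfs L147033 L136821 rfl
theorem L147053 : sm gg N17584 = N13030 := trfs L147033 L126306 rfl
theorem L147055 : sm gd N17583 = N13051 := trfs L147029 L126300 rfl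
theorem L147057 : sm ge N17583 = N13051 := trfs L147029 L136823 rfl
theorem L147059 : sm gf N17583 = N17736 := trfs L147029 L126368 rfl
theorem L147061 : sm gg N17583 = N13029 := trfs L147029 L126302 rfl
theorem L147068 : sm gd N10415 = N6035 := trfs L146918 L86873 rfl
theorem L147070 : sm ge N10415 = N6035 := trfs L146918 L136980 rfl
theorem L147072 : sm gf N10415 = N13026 := trfs L146918 L100303 rfl
theorem L147073 : N13026 = N6000 := eqes L147072 (flp_f L86663)
theorem L147074 : N13026 = N6000 := eqc rfl L147073 rfl
theorem L147075 : sm gg N10415 = N6025 := trfs L146918 (flp_g L86871) rfl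
theorem L147078 : sm gb N6000 = N17726 := trfs L147074 L126312 rfl
theorem L147079 : N17726 = N10413 := eqes L147078 L86657
theorem L147080 : N17726 = N10413 := eqc rfl L147079 rfl
theorem L147084 : sm gg N6000 = N13019 := trfs L147074 L100309 rfl
theorem L147085 : N13019 = N10416 := eqes L147084 L86667
theorem L147086 : N13019 = N10416 := eqc rfl L147085 rfl
theorem L147088 : sm gb N10416 = N17714 := trfs L147086 L126248 rfl
theorem L147089 : N17714 = N12958 := eqes L147088 L99951
theorem L147090 : N17714 = N12958 := eqc rfl L147089 rfl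
theorem L147097 : sm gd N12958 = N13042 := trfs L147090 L126250 rfl
theorem L147098 : N13042 = N17539 := eqes L147097 (flp_d L125442)
theorem L147099 : N17539 = N13042 := (eqc rfl L147098 rfl).symm
theorem L147103 : sm gd N13042 = N12958 := trfs L147099 L125442 rfl
theorem L147105 : sm ge N13042 = N12958 := trfs L147099 L142414 rfl
theorem L147107 : sm gd N10413 = N13054 := trfs L147080 L126314 rfl
theorem L147108 : N13054 = N12932 := eqes L147107 (flp_d L99834)
theorem L147109 : N13054 = N12932 := eqc rfl L147108 rfl
theorem L147118 : sm gf N12932 = N17784 := trfs L147109 (flp_f L126557) rfl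
theorem L147119 : N17784 = N17533 := eqes L147118 L125410
theorem L147120 : N17784 = N17533 := eqc rfl L147119 rfl
theorem L147121 : sm gg N12932 = N17787 := trfs L147109 L126563 rfl
theorem L147122 : N17787 = N17534 := eqes L147121 L125414
theorem L147123 : N17787 = N17534 := eqc rfl L147122 rfl
theorem L147124 : sm gb N17534 = N17761 := trfs L147123 L126565 rfl
theorem L147126 : sm gb N17533 = N13053 := trfs L147120 (flp_b L126555) rfl
theorem L147128 : sm gd N10468 = N12957 := trfs L146915 L125438 rfl
theorem L147130 : sm ge N10468 = N12957 := trfs L146915 L142368 rfl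
theorem L147132 : sm ga N10406 = N6035 := trfs L146912 L86916 rfl
theorem L147139 : sm ga N17353 = N17442 := trfs L146893 L124894 rfl
theorem L147140 : N17442 = N12833 := eqes L147139 L124439
theorem L147141 : N17442 = N12833 := eqc rfl L147140 rfl
theorem L147142 : sm gf N17353 = N12872 := trfs L146893 (flp_f L124892) rfl
theorem L147144 : sm gg N17353 = N17428 := trfs L146893 L124898 rfl
theorem L147147 : sm gf N12833 = N17429 := trfs L147141 (flp_f L124890) rfl
theorem L147148 : N17429 = N17368 := eqes L147147 L124509
theorem L147149 : N17429 = N17368 := eqc rfl L147148 rfl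
theorem L147150 : sm gg N12833 = N12871 := trfs L147141 (flp_g L124886) rfl
theorem L147151 : N12871 = N17369 := eqes L147150 L124513
theorem L147152 : N17369 = N12871 := (eqc rfl L147151 rfl).symm
theorem L147156 : sm gg N12871 = N12833 := trfs L147152 (flp_g L124513) rfl
theorem L147158 : sm ga N17368 = N12872 := trfs L147149 L124826 rfl
theorem L147163 : sm gf N10404 = N6035 := trfs L146890 (flp_f L86939) rfl
theorem L147167 : sm gd N10462 = N10416 := trfs L146878 L99850 rfl
theorem L147169 : sm ge N10462 = N10416 := trfs L146878 (flp_e L142410) rfl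
theorem L147172 : sm gg N10462 = N10404 := trfs L146878 (flp_g L99846) rfl
theorem L147174 : sm gb N12865 = N13587 := trfs L146867 (flp_b L143661) rfl
theorem L147175 : N13587 = N17422 := eqes L147174 (flp_b L124800)
theorem L147176 : N17422 = N13587 := (eqc rfl L147175 rfl).symm
theorem L147177 : sm gg N12865 = N17368 := trfs L146867 L143665 rfl
theorem L147179 : sm gb N13587 = N12865 := trfs L147176 L124800 rfl
theorem L147183 : sm gb N6032 = N17549 := trfs L146864 L125495 rfl
theorem L147184 : N17549 = N10460 := eqes L147183 L86904
theorem L147185 : N17549 = N10460 := eqc rfl L147184 rfl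
theorem L147190 : sm gg N6032 = N10406 := trfs L146864 (flp_g L99873) rfl
theorem L147192 : sm gd N10460 = N12968 := trfs L147185 L125497 rfl
theorem L147193 : N12968 = N13017 := eqes L147192 (flp_d L100258)
theorem L147194 : N13017 = N12968 := (eqc rfl L147193 rfl).symm
theorem L147201 : sm gc N12968 = N17707 := trfs L147194 L126216 rfl
theorem L147202 : N17707 = N17607 := eqes L147201 L125739
theorem L147203 : N17707 = N17607 := eqc rfl L147202 rfl
theorem L147204 : sm gd N12968 = N10460 := trfs L147194 L100258 rfl
theorem L147206 : sm ge N12968 = N10460 := trfs L147194 (flp_e L136934) rfl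
theorem L147208 : sm gf N12968 = N17709 := trfs L147194 L126222 rfl
theorem L147209 : N17709 = N17608 := eqes L147208 L125741
theorem L147210 : N17709 = N17608 := eqc rfl L147209 rfl
theorem L147211 : sm gg N12968 = N17710 := trfs L147194 L126226 rfl
theorem L147212 : N17710 = N17605 := eqes L147211 (flp_g L125735)
theorem L147213 : N17710 = N17605 := eqc rfl L147212 rfl
theorem L147214 : sm gd N17605 = N13038 := trfs L147213 L126228 rfl
theorem L147216 : sm ge N17605 = N13038 := trfs L147213 L136888 rfl
theorem L147218 : sm gd N17608 = N13037 := trfs L147210 L126224 rfl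
theorem L147222 : sm ge N17607 = N13035 := trfs L147203 L136892 rfl
theorem L147230 : sm ga N12864 = N13544 := trfs L146861 L143259 rfl
theorem L147231 : N13544 = N17420 := eqes L147230 L124792
theorem L147232 : N17420 = N13544 := (eqc rfl L147231 rfl).symm
theorem L147233 : sm gd N12864 = N13587 := trfs L146861 L143261 rfl
theorem L147237 : sm gf N12864 = N18553 := trfs L146861 L143263 rfl
theorem L147238 : N18553 = N17424 := eqes L147237 L124806
theorem L147239 : N18553 = N17424 := eqc rfl L147238 rfl
theorem L147240 : sm gg N12864 = N13542 := trfs L146861 (flp_g L143257) rfl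
theorem L147241 : N13542 = N17425 := eqes L147240 L124808
theorem L147242 : N17425 = N13542 := (eqc rfl L147241 rfl).symm
theorem L147243 : sm gg N13542 = N12864 := trfs L147242 (flp_g L124808) rfl
theorem L147245 : sm ga N17424 = N18560 := trfs L147239 (flp_a L143289) rfl
theorem L147247 : sm gd N17424 = N13583 := trfs L147239 L143243 rfl
theorem L147249 : sm gg N17424 = N13540 := trfs L147239 (flp_g L143241) rfl
theorem L147251 : sm ga N13544 = N12864 := trfs L147232 (flp_a L124792) rfl
theorem L147255 : sm ga N17365 = N12873 := trfs L146851 L124832 rfl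
theorem L147256 : N12873 = N17366 := eqes L147255 (flp_a L124501)
theorem L147257 : N17366 = N12873 := (eqc rfl L147256 rfl).symm
theorem L147258 : sm gc N17365 = N17435 := trfs L146851 L136992 rfl
theorem L147260 : sm ga N12873 = N17365 := trfs L147257 L124501 rfl
theorem L147262 : sm gb N12873 = N18452 := trfs L147257 (flp_b L130532) rfl
theorem L147263 : N18452 = N10355 := eqes L147262 L99411
theorem L147264 : N18452 = N10355 := eqc rfl L147263 rfl
theorem L147268 : sm gg N12873 = N17351 := trfs L147257 L124505 rfl
theorem L147269 : N17351 = N17446 := eqes L147268 L124906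
theorem L147270 : N17446 = N17351 := (eqc rfl L147269 rfl).symm
theorem L147272 : sm gg N17351 = N12873 := trfs L147270 (flp_g L124906) rfl
theorem L147277 : sm gc N10355 = N18462 := trfs L147264 L146036 rfl
theorem L147278 : N18462 = N11858 := eqes L147277 (flp_c L94365)
theorem L147279 : N18462 = N11858 := eqc rfl L147278 rfl
theorem L147283 : sm gf N10355 = N13464 := trfs L147264 (flp_f L130528) rfl
theorem L147284 : N13464 = N11857 := eqes L147283 L94361
theorem L147285 : N13464 = N11857 := eqc rfl L147284 rfl
theorem L147287 : sm ga N11857 = N13477 := trfs L147285 L146024 rfl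
theorem L147288 : N13477 = N11464 := eqes L147287 L94355
theorem L147289 : N13477 = N11464 := eqc rfl L147288 rfl
theorem L147290 : sm gb N11857 = N10733 := trfs L147285 (flp_b L102827) rfl
theorem L147291 : N10733 = N15577 := eqes L147290 L113552
theorem L147292 : N15577 = N10733 := (eqc rfl L147291 rfl).symm
theorem L147294 : sm gd N11857 = N18449 := trfs L147285 (flp_d L130472) rfl
theorem L147295 : N18449 = N10337 := eqes L147294 L94359
theorem L147296 : N18449 = N10337 := eqc rfl L147295 rfl
theorem L147297 : sm ge N11857 = N18353 := trfs L147285 (flp_e L129854) rfl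
theorem L147298 : N18353 = N14832 := eqes L147297 (flp_e L109608)
theorem L147299 : N18353 = N14832 := eqc rfl L147298 rfl
theorem L147302 : sm ga N14832 = N18357 := trfs L147299 (flp_a L146040) rfl
theorem L147303 : N18357 = N14881 := eqes L147302 (flp_a L109836)
theorem L147304 : N18357 = N14881 := eqc rfl L147303 rfl
theorem L147305 : sm gb N14832 = N13407 := trfs L147299 (flp_b L129852) rfl
theorem L147314 : sm gb N14881 = N13668 := trfs L147304 L129884 rfl
theorem L147318 : sm ga N10337 = N18463 := trfs L147296 (flp_a L146038) rfl
theorem L147319 : N18463 = N9181 := eqes L147318 L86122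
theorem L147320 : N18463 = N9181 := eqc rfl L147319 rfl
theorem L147325 : sm gb N9181 = N13857 := trfs L147320 L130586 rfl
theorem L147326 : N13857 = N11460 := eqes L147325 (flp_b L92237)
theorem L147327 : N13857 = N11460 := eqc rfl L147326 rfl
theorem L147334 : sm ga N11460 = N19050 := trfs L147327 (flp_a L146156) rfl
theorem L147335 : N19050 = N14869 := eqes L147334 (flp_a L109780)
theorem L147336 : N19050 = N14869 := eqc rfl L147335 rfl
theorem L147337 : sm gd N11460 = N10940 := trfs L147327 (flp_d L104869) rfl
theorem L147338 : N10940 = N14876 := eqes L147337 L109810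
theorem L147339 : N14876 = N10940 := (eqc rfl L147338 rfl).symm
theorem L147340 : sm gg N11460 = N19031 := trfs L147327 (flp_g L145987) rfl
theorem L147341 : N19031 = N14878 := eqes L147340 L109818
theorem L147342 : N19031 = N14878 := eqc rfl L147341 rfl
theorem L147343 : sm gd N14878 = N13845 := trfs L147342 (flp_d L145985) rfl
theorem L147345 : sm gf N14878 = N15475 := trfs L147342 L146028 rfl
theorem L147349 : sm gd N10940 = N11460 := trfs L147339 (flp_d L109810) rfl
theorem L147351 : sm gd N14869 = N13855 := trfs L147336 (flp_d L146154) rfl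
theorem L147353 : sm gb N10733 = N11857 := trfs L147292 (flp_b L113552) rfl
theorem L147357 : sm gb N11464 = N10940 := trfs L147289 L102900 rfl
theorem L147364 : sm ga N11858 = N13478 := trfs L147279 L130580 rfl
theorem L147365 : N13478 = N11987 := eqes L147364 (flp_a L137026)
theorem L147366 : N13478 = N11987 := eqc rfl L147365 rfl
theorem L147368 : sm gb N11987 = N13508 := trfs L147366 (flp_b L103052) rfl
theorem L147369 : N13508 = N15822 := eqes L147368 (flp_b L114652)
theorem L147370 : N15822 = N13508 := (eqc rfl L147369 rfl).symm
theorem L147372 : sm gd N11987 = N18459 := trfs L147366 (flp_d L130570) rfl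
theorem L147373 : N18459 = N9915 := eqes L147372 (flp_d L94975)
theorem L147374 : N18459 = N9915 := eqc rfl L147373 rfl
theorem L147375 : sm ge N11987 = N18358 := trfs L147366 (flp_e L129888) rfl
theorem L147376 : N18358 = N15416 := eqes L147375 L137033
theorem L147377 : N18358 = N15416 := eqc rfl L147376 rfl
theorem L147381 : sm gb N15416 = N18374 := trfs L147377 (flp_b L129994) rfl
theorem L147384 : sm gb N9915 = N18487 := trfs L147374 (flp_b L142879) rfl
theorem L147385 : N18487 = N11973 := eqes L147384 (flp_b L94905)
theorem L147386 : N18487 = N11973 := eqc rfl L147385 rfl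
theorem L147390 : sm gf N11973 = N13496 := trfs L147386 (flp_f L142875) rfl
theorem L147391 : N13496 = N15823 := eqes L147390 L114654
theorem L147392 : N15823 = N13496 := (eqc rfl L147391 rfl).symm
theorem L147394 : sm gc N13496 = N11974 := trfs L147392 L114656 rfl
theorem L147395 : N11974 = N18486 := eqes L147394 L142873
theorem L147396 : N18486 = N11974 := (eqc rfl L147395 rfl).symm
theorem L147397 : sm ge N13496 = N15534 := trfs L147392 L137253 rfl
theorem L147398 : N15534 = N18479 := eqes L147397 (flp_e L142827)
theorem L147399 : N18479 = N15534 := (eqc rfl L147398 rfl).symm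
theorem L147400 : sm gf N13496 = N11973 := trfs L147392 (flp_f L114654) rfl
theorem L147403 : sm ge N15534 = N13496 := trfs L147399 L142827 rfl
theorem L147405 : sm gc N11974 = N13496 := trfs L147396 (flp_c L142873) rfl
theorem L147407 : sm gb N13508 = N11987 := trfs L147370 L114652 rfl
theorem L147409 : sm gd N13508 = N11973 := trfs L147370 (flp_d L114650) rfl
theorem L147411 : sm ga N10421 = N6025 := trfs L146848 (flp_a L86858) rfl
theorem L147413 : sm gd N10421 = N6032 := trfs L146848 L86860 rfl
theorem L147415 : sm ge N10421 = N6032 := trfs L146848 L136941 rfl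
theorem L147418 : sm ge N17372 = N12864 := trfs L146845 (flp_e L124802) rfl
theorem L147420 : sm ga N12834 = N10353 := trfs L146837 L99389 rfl
theorem L147426 : sm gg N12834 = N10349 := trfs L146837 (flp_g L99387) rfl
theorem L147429 : sm gb N12827 = N15581 := trfs L146831 (flp_b L113574) rfl
theorem L147430 : N15581 = N17356 := eqes L147429 L124457
theorem L147431 : N17356 = N15581 := (eqc rfl L147430 rfl).symm
theorem L147432 : sm ge N12827 = N10353 := trfs L146831 L99423 rfl
theorem L147437 : sm gb N15581 = N12827 := trfs L147431 (flp_b L124457) rfl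
theorem L147439 : sm gd N15581 = N18584 := trfs L147431 (flp_d L143389) rfl
theorem L147441 : sm gf N15581 = N18540 := trfs L147431 (flp_f L143165) rfl
theorem L147450 : sm ga N10351 = N12836 := trfs L146813 L99205 rfl
theorem L147452 : sm gf N10351 = N10333 := trfs L146813 (flp_f L99203) rfl
theorem L147454 : sm gg N10351 = N12827 := trfs L146813 L99209 rfl
theorem L147456 : sm gf N12832 = N12873 := trfs L146808 (flp_f L124902) rfl
theorem L147459 : sm gd N6003 = N6034 := trfs L146805 L86868 rfl
theorem L147461 : sm ge N6003 = N6034 := trfs L146805 L136508 rfl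
theorem L147463 : sm gf N6003 = N6025 := trfs L146805 (flp_f L86866) rfl
theorem L147465 : sm ge N12828 = N12867 := trfs L146802 L124840 rfl
theorem L147467 : sm gb N13463 = N12871 := trfs L146780 L109594 rfl
theorem L147469 : sm gd N13463 = N12841 := trfs L146780 L109592 rfl
theorem L147473 : sm ge N10352 = N10333 := trfs L146776 L99195 rfl
theorem L147475 : sm gg N10352 = N10331 := trfs L146776 (flp_g L99191) rfl
theorem L147477 : sm ga N12800 = N12841 := trfs L146773 L124550 rfl
theorem L147483 : sm ga N12839 = N17375 := trfs L146765 (flp_a L124545) rfl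
theorem L147484 : N17375 = N10336 := eqes L147483 (flp_a L99217)
theorem L147485 : N17375 = N10336 := eqc rfl L147484 rfl
theorem L147486 : sm gb N12839 = N10337 := trfs L146765 L99222 rfl
theorem L147487 : N10337 = N17374 := eqes L147486 L124541
theorem L147488 : N17374 = N10337 := (eqc rfl L147487 rfl).symm
theorem L147494 : sm gb N10337 = N12839 := trfs L147488 (flp_b L124541) rfl
theorem L147497 : sm ge N10336 = N12839 := trfs L147485 (flp_e L124543) rfl
theorem L147499 : sm ga N11438 = N10733 := trfs L146762 L102197 rfl
theorem L147500 : N10733 = N14828 := eqes L147499 L109582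
theorem L147501 : N14828 = N10733 := (eqc rfl L147500 rfl).symm
theorem L147505 : sm gc N11438 = N10665 := trfs L146762 L102199 rfl
theorem L147506 : N10665 = N14788 := eqes L147505 (flp_c L109416)
theorem L147507 : N14788 = N10665 := (eqc rfl L147506 rfl).symm
theorem L147508 : sm ge N11438 = N18177 := trfs L146762 (flp_e L128693) rfl
theorem L147509 : N18177 = N14829 := eqes L147508 L109586
theorem L147510 : N18177 = N14829 := eqc rfl L147509 rfl
theorem L147511 : sm gf N11438 = N13463 := trfs L146762 L102825 rfl
theorem L147515 : sm ga N14829 = N13407 := trfs L147510 L128687 rfl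
theorem L147517 : sm gc N14829 = N13304 := trfs L147510 L128689 rfl
theorem L147519 : sm gd N14829 = N13407 := trfs L147510 L128691 rfl
theorem L147521 : sm gf N14829 = N18352 := trfs L147510 L129850 rfl
theorem L147523 : sm gg N14829 = N13301 := trfs L147510 (flp_g L128685) rfl
theorem L147525 : sm gb N10665 = N11418 := trfs L147507 (flp_b L109414) rfl
theorem L147526 : N11418 = N13340 := eqes L147525 L102213
theorem L147527 : N13340 = N11418 := (eqc rfl L147526 rfl).symm
theorem L147528 : sm gc N10665 = N11438 := trfs L147507 L109416 rfl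
theorem L147530 : sm ga N11418 = N18227 := trfs L147527 L129006 rfl
theorem L147531 : N18227 = N14781 := eqes L147530 (flp_a L109388)
theorem L147532 : N18227 = N14781 := eqc rfl L147531 rfl
theorem L147533 : sm gb N11418 = N10665 := trfs L147527 (flp_b L102213) rfl
theorem L147538 : sm gd N11418 = N10934 := trfs L147527 L102215 rfl
theorem L147539 : N10934 = N14789 := eqes L147538 L109418
theorem L147540 : N14789 = N10934 := (eqc rfl L147539 rfl).symm
theorem L147541 : sm ge N11418 = N18181 := trfs L147527 (flp_e L128719) rfl
theorem L147542 : N18181 = N14790 := eqes L147541 L109424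
theorem L147543 : N18181 = N14790 := eqc rfl L147542 rfl
theorem L147544 : sm gf N11418 = N18229 := trfs L147527 L129016 rfl
theorem L147545 : N18229 = N14791 := eqes L147544 L109428
theorem L147546 : N18229 = N14791 := eqc rfl L147545 rfl
theorem L147547 : sm gg N11418 = N10667 := trfs L147527 L102217 rfl
theorem L147548 : N10667 = N14621 := eqes L147547 (flp_g L108669)
theorem L147549 : N14621 = N10667 := (eqc rfl L147548 rfl).symm
theorem L147550 : sm gc N10667 = N11346 := trfs L147549 (flp_c L108667) rfl
theorem L147551 : N11346 = N13346 := eqes L147550 L102241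
theorem L147552 : N13346 = N11346 := (eqc rfl L147551 rfl).symm
theorem L147553 : sm gg N10667 = N11418 := trfs L147549 L108669 rfl
theorem L147555 : sm ga N11346 = N18235 := trfs L147552 (flp_a L129054) rfl
theorem L147556 : N18235 = N14620 := eqes L147555 (flp_a L108663)
theorem L147557 : N18235 = N14620 := eqc rfl L147556 rfl
theorem L147558 : sm gb N11346 = N18161 := trfs L147552 (flp_b L128595) rfl
theorem L147559 : N18161 = N9567 := eqes L147558 L91748
theorem L147560 : N18161 = N9567 := eqc rfl L147559 rfl
theorem L147561 : sm gc N11346 = N10667 := trfs L147552 (flp_c L102241) rfl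
theorem L147566 : sm ge N11346 = N18188 := trfs L147552 (flp_e L128757) rfl
theorem L147567 : N18188 = N14622 := eqes L147566 L108671
theorem L147568 : N18188 = N14622 := eqc rfl L147567 rfl
theorem L147569 : sm gf N11346 = N18238 := trfs L147552 L129066 rfl
theorem L147570 : N18238 = N14623 := eqes L147569 L108677
theorem L147571 : N18238 = N14623 := eqc rfl L147570 rfl
theorem L147573 : sm gc N14623 = N13347 := trfs L147571 L129068 rfl
theorem L147575 : sm gc N14622 = N13308 := trfs L147568 (flp_c L128755) rfl
theorem L147577 : sm gc N9567 = N13293 := trfs L147560 (flp_c L128593) rfl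
theorem L147578 : N13293 = N11652 := eqes L147577 L93335
theorem L147579 : N13293 = N11652 := eqc rfl L147578 rfl
theorem L147583 : sm gb N11652 = N10639 := trfs L147579 (flp_b L101807) rfl
theorem L147584 : N10639 = N15222 := eqes L147583 L111775
theorem L147585 : N15222 = N10639 := (eqc rfl L147584 rfl).symm
theorem L147586 : sm gd N11652 = N18159 := trfs L147579 (flp_d L128589) rfl
theorem L147587 : N18159 = N12467 := eqes L147586 L97425
theorem L147588 : N18159 = N12467 := eqc rfl L147587 rfl
theorem L147589 : sm ge N11652 = N18154 := trfs L147579 (flp_e L128555) rfl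
theorem L147590 : N18154 = N15223 := eqes L147589 L111777
theorem L147591 : N18154 = N15223 := eqc rfl L147590 rfl
theorem L147592 : sm gf N11652 = N18162 := trfs L147579 L128597 rfl
theorem L147593 : N18162 = N15224 := eqes L147592 L111783
theorem L147594 : N18162 = N15224 := eqc rfl L147593 rfl
theorem L147595 : sm gg N11652 = N18157 := trfs L147579 (flp_g L128569) rfl
theorem L147596 : N18157 = N9595 := eqes L147595 L93337
theorem L147597 : N18157 = N9595 := eqc rfl L147596 rfl
theorem L147598 : sm gb N9595 = N13289 := trfs L147597 (flp_b L128567) rfl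
theorem L147599 : N13289 = N11711 := eqes L147598 L93621
theorem L147600 : N13289 = N11711 := eqc rfl L147599 rfl
theorem L147601 : sm gf N9595 = N15265 := trfs L147597 L128571 rfl
theorem L147602 : N15265 = N11713 := eqes L147601 L93629
theorem L147603 : N15265 = N11713 := eqc rfl L147602 rfl
theorem L147604 : sm gb N11713 = N11681 := trfs L147603 (flp_b L111992) rfl
theorem L147605 : N11681 = N15303 := eqes L147604 L112222
theorem L147606 : N15303 = N11681 := (eqc rfl L147605 rfl).symm
theorem L147607 : sm gd N11713 = N16815 := trfs L147603 (flp_d L121859) rfl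
theorem L147608 : N16815 = N12635 := eqes L147607 (flp_d L98250)
theorem L147609 : N16815 = N12635 := eqc rfl L147608 rfl
theorem L147610 : sm gb N12635 = N12523 := trfs L147609 (flp_b L121857) rfl
theorem L147611 : N12523 = N17007 := eqes L147610 L122778
theorem L147612 : N17007 = N12523 := (eqc rfl L147611 rfl).symm
theorem L147613 : sm gb N12523 = N12635 := trfs L147612 (flp_b L122778) rfl
theorem L147616 : sm gb N11681 = N11713 := trfs L147606 (flp_b L112222) rfl
theorem L147620 : sm gd N11711 = N16539 := trfs L147600 (flp_d L118725) rfl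
theorem L147621 : N16539 = N12633 := eqes L147620 (flp_d L98236)
theorem L147622 : N16539 = N12633 := eqc rfl L147621 rfl
theorem L147625 : sm gg N11711 = N10636 := trfs L147600 (flp_g L101791) rfl
theorem L147626 : N10636 = N15300 := eqes L147625 L112210
theorem L147627 : N15300 = N10636 := (eqc rfl L147626 rfl).symm
theorem L147632 : sm gg N10636 = N11711 := trfs L147627 (flp_g L112210) rfl
theorem L147636 : sm ga N12633 = N12362 := trfs L147622 L118723 rfl
theorem L147637 : N12362 = N17001 := eqes L147636 L122746
theorem L147638 : N17001 = N12362 := (eqc rfl L147637 rfl).symm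
theorem L147639 : sm ge N12633 = N12347 := trfs L147622 L118727 rfl
theorem L147640 : N12347 = N17002 := eqes L147639 L122750
theorem L147641 : N17002 = N12347 := (eqc rfl L147640 rfl).symm
theorem L147642 : sm gf N12633 = N16569 := trfs L147622 L118880 rfl
theorem L147643 : N16569 = N17003 := eqes L147642 L122754
theorem L147644 : N17003 = N16569 := (eqc rfl L147643 rfl).symm
theorem L147645 : sm gg N12633 = N12345 := trfs L147622 (flp_g L118721) rfl
theorem L147649 : sm gf N16569 = N12633 := trfs L147644 (flp_f L122754) rfl
theorem L147651 : sm gb N12347 = N12634 := trfs L147641 L122752 rfl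
theorem L147652 : N12634 = N16541 := eqes L147651 L118733
theorem L147653 : N16541 = N12634 := (eqc rfl L147652 rfl).symm
theorem L147654 : sm ge N12347 = N12633 := trfs L147641 (flp_e L122750) rfl
theorem L147656 : sm gb N12634 = N12347 := trfs L147653 (flp_b L118733) rfl
theorem L147658 : sm gd N12634 = N12349 := trfs L147653 L118735 rfl
theorem L147659 : N12349 = N17005 := eqes L147658 L122762
theorem L147660 : N17005 = N12349 := (eqc rfl L147659 rfl).symm
theorem L147661 : sm ga N12349 = N12647 := trfs L147660 L122764 rfl
theorem L147662 : N12647 = N16545 := eqes L147661 L118746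
theorem L147663 : N16545 = N12647 := (eqc rfl L147662 rfl).symm
theorem L147664 : sm gd N12349 = N12634 := trfs L147660 (flp_d L122762) rfl
theorem L147666 : sm ge N12349 = N15301 := trfs L147660 L122766 rfl
theorem L147667 : N15301 = N15929 := eqes L147666 (flp_e L115184)
theorem L147668 : N15929 = N15301 := (eqc rfl L147667 rfl).symm
theorem L147669 : sm gb N15301 = N12035 := trfs L147668 (flp_b L115182) rfl
theorem L147671 : sm ge N15301 = N12349 := trfs L147668 L115184 rfl
theorem L147673 : sm ga N12647 = N12349 := trfs L147663 (flp_a L118746) rfl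
theorem L147676 : sm gg N12647 = N16589 := trfs L147663 (flp_g L120694) rfl
theorem L147677 : N16589 = N16737 := eqes L147676 (flp_g L121462)
theorem L147678 : N16737 = N16589 := (eqc rfl L147677 rfl).symm
theorem L147679 : sm gd N16589 = N12471 := trfs L147678 (flp_d L121460) rfl
theorem L147681 : sm gg N16589 = N12647 := trfs L147678 L121462 rfl
theorem L147683 : sm ga N12362 = N12633 := trfs L147638 (flp_a L122746) rfl
theorem L147687 : sm gb N15224 = N18170 := trfs L147594 (flp_b L128643) rfl
theorem L147689 : sm gb N15223 = N13284 := trfs L147591 (flp_b L128553) rfl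
theorem L147691 : sm gb N12467 = N13291 := trfs L147588 (flp_b L128587) rfl
theorem L147692 : N13291 = N16730 := eqes L147691 L121422
theorem L147693 : N16730 = N13291 := (eqc rfl L147692 rfl).symm
theorem L147694 : sm gb N13291 = N12467 := trfs L147693 (flp_b L121422) rfl
theorem L147697 : sm gb N10639 = N11652 := trfs L147585 (flp_b L111775) rfl
theorem L147699 : sm gc N14620 = N13345 := trfs L147557 (flp_c L129052) rfl
theorem L147701 : sm ga N14791 = N18239 := trfs L147546 (flp_a L129072) rfl
theorem L147703 : sm gd N14791 = N13846 := trfs L147546 L129018 rfl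
theorem L147705 : sm gg N14791 = N18236 := trfs L147546 L129062 rfl
theorem L147707 : sm gb N14790 = N13304 := trfs L147543 (flp_b L128717) rfl
theorem L147709 : sm gg N14790 = N13308 := trfs L147543 L128721 rfl
theorem L147711 : sm ga N10934 = N14703 := trfs L147540 L109420 rfl
theorem L147712 : N14703 = N13844 := eqes L147711 L104821
theorem L147713 : N14703 = N13844 := eqc rfl L147712 rfl
theorem L147714 : sm gc N10934 = N14700 := trfs L147540 (flp_c L109422) rfl
theorem L147715 : N14700 = N13845 := eqes L147714 L104825
theorem L147716 : N14700 = N13845 := eqc rfl L147715 rfl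
theorem L147717 : sm gd N10934 = N11418 := trfs L147540 (flp_d L109418) rfl
theorem L147719 : sm ga N13845 = N11381 := trfs L147716 L109067 rfl
theorem L147720 : N11381 = N18322 := eqes L147719 (flp_a L146174)
theorem L147721 : N18322 = N11381 := (eqc rfl L147720 rfl).symm
theorem L147722 : sm gd N13845 = N11379 := trfs L147716 (flp_d L109065) rfl
theorem L147723 : N11379 = N14878 := eqes L147722 (flp_d L147343)
theorem L147724 : N14878 = N11379 := (eqc rfl L147723 rfl).symm
theorem L147725 : sm gb N11379 = N11850 := trfs L147724 L109822 rfl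
theorem L147726 : N11850 = N14699 := eqes L147725 L109063
theorem L147727 : N14699 = N11850 := (eqc rfl L147726 rfl).symm
theorem L147731 : sm gd N11379 = N13845 := trfs L147724 L147343 rfl
theorem L147733 : sm ge N11379 = N11462 := trfs L147724 L109820 rfl
theorem L147734 : N11462 = N14663 := eqes L147733 (flp_e L108901)
theorem L147735 : N14663 = N11462 := (eqc rfl L147734 rfl).symm
theorem L147736 : sm gf N11379 = N15475 := trfs L147724 L147345 rfl
theorem L147737 : N15475 = N14701 := eqes L147736 L109069
theorem L147738 : N15475 = N14701 := eqc rfl L147737 rfl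
theorem L147739 : sm gg N11379 = N11460 := trfs L147724 (flp_g L109818) rfl
theorem L147740 : N11460 = N14589 := eqes L147739 (flp_g L108533)
theorem L147741 : N14589 = N11460 := (eqc rfl L147740 rfl).symm
theorem L147742 : sm ga N11460 = N11333 := trfs L147741 L108531 rfl
theorem L147743 : N11333 = N14869 := eqes L147742 (flp_a L109780)
theorem L147744 : N14869 = N11333 := (eqc rfl L147743 rfl).symm
theorem L147745 : sm gc N11460 = N11332 := trfs L147741 (flp_c L108529) rfl
theorem L147746 : N11332 = N13641 := eqes L147745 (flp_c L103656)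
theorem L147747 : N13641 = N11332 := (eqc rfl L147746 rfl).symm
theorem L147748 : sm gf N11460 = N14707 := trfs L147741 L109097 rfl
theorem L147749 : N14707 = N14877 := eqes L147748 L109814
theorem L147750 : N14877 = N14707 := (eqc rfl L147749 rfl).symm
theorem L147751 : sm gg N11460 = N11379 := trfs L147741 L108533 rfl
theorem L147753 : sm gb N14707 = N17416 := trfs L147750 (flp_b L124772) rfl
theorem L147755 : sm gc N14707 = N18684 := trfs L147750 (flp_c L143989) rfl
theorem L147756 : N18684 = N11384 := eqes L147755 L109095
theorem L147757 : N18684 = N11384 := eqc rfl L147756 rfl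
theorem L147758 : sm ge N14707 = N11461 := trfs L147750 L109816 rfl
theorem L147760 : sm gf N14707 = N11460 := trfs L147750 (flp_f L109814) rfl
theorem L147762 : sm ge N11384 = N13642 := trfs L147757 L143991 rfl
theorem L147763 : N13642 = N14668 := eqes L147762 (flp_e L108933)
theorem L147764 : N14668 = N13642 := (eqc rfl L147763 rfl).symm
theorem L147766 : sm ga N13642 = N14571 := trfs L147764 L108929 rfl
theorem L147767 : N14571 = N18677 := eqes L147766 (flp_a L143955)
theorem L147768 : N18677 = N14571 := (eqc rfl L147767 rfl).symm
theorem L147769 : sm gd N13642 = N14576 := trfs L147764 L108931 rfl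
theorem L147770 : N14576 = N18681 := eqes L147769 (flp_d L143975)
theorem L147771 : N18681 = N14576 := (eqc rfl L147770 rfl).symm
theorem L147772 : sm ge N13642 = N11384 := trfs L147764 L108933 rfl
theorem L147774 : sm gf N13642 = N14569 := trfs L147764 (flp_f L108935) rfl
theorem L147775 : N14569 = N10819 := eqes L147774 (flp_f L103658)
theorem L147776 : N14569 = N10819 := eqc rfl L147775 rfl
theorem L147777 : sm gg N13642 = N11366 := trfs L147764 (flp_g L108927) rfl
theorem L147778 : N11366 = N18687 := eqes L147777 L144005
theorem L147779 : N18687 = N11366 := (eqc rfl L147778 rfl).symm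
theorem L147780 : sm ga N11366 = N18688 := trfs L147779 (flp_a L144013) rfl
theorem L147781 : N18688 = N14664 := eqes L147780 (flp_a L108905)
theorem L147782 : N18688 = N14664 := eqc rfl L147781 rfl
theorem L147783 : sm gc N11366 = N14879 := trfs L147779 L144007 rfl
theorem L147784 : N14879 = N14666 := eqes L147783 (flp_c L108917)
theorem L147785 : N14879 = N14666 := eqc rfl L147784 rfl
theorem L147786 : sm gf N11366 = N18678 := trfs L147779 (flp_f L144009) rfl
theorem L147787 : N18678 = N9083 := eqes L147786 (flp_f L91836)
theorem L147788 : N18678 = N9083 := eqc rfl L147787 rfl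
theorem L147789 : sm gg N11366 = N13642 := trfs L147779 (flp_g L144005) rfl
theorem L147791 : sm ga N9083 = N13643 := trfs L147788 L143961 rfl
theorem L147792 : N13643 = N11364 := eqes L147791 L91828
theorem L147793 : N13643 = N11364 := eqc rfl L147792 rfl
theorem L147794 : sm gc N9083 = N14871 := trfs L147788 L143963 rfl
theorem L147795 : N14871 = N11365 := eqes L147794 L91832
theorem L147796 : N14871 = N11365 := eqc rfl L147795 rfl
theorem L147797 : sm gg N9083 = N13639 := trfs L147788 (flp_g L143959) rfl
theorem L147798 : N13639 = N11321 := eqes L147797 (flp_g L91619)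
theorem L147799 : N13639 = N11321 := eqc rfl L147798 rfl
theorem L147805 : sm gc N11321 = N11458 := trfs L147799 L103646 rfl
theorem L147806 : N11458 = N14570 := eqes L147805 L108431
theorem L147807 : N14570 = N11458 := (eqc rfl L147806 rfl).symm
theorem L147808 : sm gd N11321 = N18675 := trfs L147799 L143943 rfl
theorem L147809 : N18675 = N9057 := eqes L147808 L91615
theorem L147810 : N18675 = N9057 := eqc rfl L147809 rfl
theorem L147817 : sm ga N9057 = N13640 := trfs L147810 L143945 rfl
theorem L147818 : N13640 = N11325 := eqes L147817 L91660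
theorem L147819 : N13640 = N11325 := eqc rfl L147818 rfl
theorem L147820 : sm gb N11325 = N10820 := trfs L147819 L103650 rfl
theorem L147821 : N10820 = N14574 := eqes L147820 L108459
theorem L147822 : N14574 = N10820 := (eqc rfl L147821 rfl).symm
theorem L147823 : sm gc N11325 = N18679 := trfs L147819 L143965 rfl
theorem L147824 : N18679 = N14575 := eqes L147823 L108461
theorem L147825 : N18679 = N14575 := eqc rfl L147824 rfl
theorem L147828 : sm ge N11325 = N18680 := trfs L147819 L143969 rfl
theorem L147829 : N18680 = N14452 := eqes L147828 (flp_e L107757)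
theorem L147830 : N18680 = N14452 := eqc rfl L147829 rfl
theorem L147832 : sm gg N11325 = N18682 := trfs L147819 L143977 rfl
theorem L147833 : N18682 = N14473 := eqes L147832 (flp_g L107895)
theorem L147834 : N18682 = N14473 := eqc rfl L147833 rfl
theorem L147835 : sm gb N14473 = N14156 := trfs L147834 L143981 rfl
theorem L147838 : sm gb N14452 = N13644 := trfs L147830 L143971 rfl
theorem L147840 : sm gb N14575 = N18647 := trfs L147825 L143967 rfl
theorem L147842 : sm gb N10820 = N11325 := trfs L147822 (flp_b L108459) rfl
theorem L147844 : sm gb N11458 = N11333 := trfs L147807 L108437 rfl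
theorem L147845 : N11333 = N14867 := eqes L147844 L109772
theorem L147846 : N14867 = N11333 := (eqc rfl L147845 rfl).symm
theorem L147847 : sm gc N11458 = N11321 := trfs L147807 (flp_c L108431) rfl
theorem L147853 : sm gb N11333 = N11458 := trfs L147846 (flp_b L109772) rfl
theorem L147858 : sm gg N11365 = N11458 := trfs L147796 (flp_g L109786) rfl
theorem L147860 : sm gb N11364 = N11084 := trfs L147793 L103666 rfl
theorem L147861 : N11084 = N14662 := eqes L147860 L108893
theorem L147862 : N14662 = N11084 := (eqc rfl L147861 rfl).symm
theorem L147869 : sm gb N11084 = N11364 := trfs L147862 (flp_b L108893) rfl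
theorem L147871 : sm ge N11084 = N11378 := trfs L147862 L108895 rfl
theorem L147872 : N11378 = N14159 := eqes L147871 (flp_e L106206)
theorem L147873 : N14159 = N11378 := (eqc rfl L147872 rfl).symm
theorem L147875 : sm gc N11378 = N11169 := trfs L147873 L106204 rfl
theorem L147876 : N11169 = N14696 := eqes L147875 L109053
theorem L147877 : N14696 = N11169 := (eqc rfl L147876 rfl).symm
theorem L147881 : sm ge N11378 = N11084 := trfs L147873 L106206 rfl
theorem L147883 : sm gg N11378 = N11082 := trfs L147873 (flp_g L106202) rfl
theorem L147884 : N11082 = N14698 := eqes L147883 L109059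
theorem L147885 : N14698 = N11082 := (eqc rfl L147884 rfl).symm
theorem L147886 : sm gd N11082 = N11413 := trfs L147885 L109061 rfl
theorem L147887 : N11413 = N13576 := eqes L147886 (flp_d L129584)
theorem L147888 : N13576 = N11413 := (eqc rfl L147887 rfl).symm
theorem L147889 : sm gf N11082 = N14104 := trfs L147885 L120303 rfl
theorem L147890 : N14104 = N14158 := eqes L147889 L106196
theorem L147891 : N14158 = N14104 := (eqc rfl L147890 rfl).symm
theorem L147892 : sm gg N11082 = N11378 := trfs L147885 (flp_g L109059) rfl
theorem L147894 : sm gc N14104 = N11168 := trfs L147891 L106198 rfl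
theorem L147896 : sm gd N14104 = N18609 := trfs L147891 (flp_d L143567) rfl
theorem L147897 : N18609 = N14776 := eqes L147896 L120465
theorem L147898 : N18609 = N14776 := eqc rfl L147897 rfl
theorem L147899 : sm ge N14104 = N11083 := trfs L147891 L106200 rfl
theorem L147901 : sm gf N14104 = N11082 := trfs L147891 (flp_f L106196) rfl
theorem L147903 : sm gc N14776 = N13578 := trfs L147898 L143565 rfl
theorem L147906 : sm ga N11413 = N18602 := trfs L147888 (flp_a L143525) rfl
theorem L147907 : N18602 = N14769 := eqes L147906 (flp_a L109346)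
theorem L147908 : N18602 = N14769 := eqc rfl L147907 rfl
theorem L147909 : sm gb N11413 = N11087 := trfs L147888 L129582 rfl
theorem L147910 : N11087 = N14618 := eqes L147909 (flp_b L108657)
theorem L147911 : N14618 = N11087 := (eqc rfl L147910 rfl).symm
theorem L147912 : sm gc N11413 = N10783 := trfs L147888 (flp_c L103332) rfl
theorem L147913 : N10783 = N14773 := eqes L147912 (flp_c L109360)
theorem L147914 : N14773 = N10783 := (eqc rfl L147913 rfl).symm
theorem L147915 : sm gd N11413 = N11082 := trfs L147888 L129584 rfl
theorem L147917 : sm ge N11413 = N18608 := trfs L147888 L143555 rfl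
theorem L147918 : N18608 = N14521 := eqes L147917 (flp_e L108156)
theorem L147919 : N18608 = N14521 := eqc rfl L147918 rfl
theorem L147921 : sm gb N14521 = N14163 := trfs L147919 L143557 rfl
theorem L147923 : sm gc N14521 = N13577 := trfs L147919 L143559 rfl
theorem L147925 : sm gd N14521 = N14154 := trfs L147919 L143561 rfl
theorem L147927 : sm ga N10783 = N17237 := trfs L147914 (flp_a L123840) rfl
theorem L147928 : N17237 = N13573 := eqes L147927 (flp_a L103320)
theorem L147929 : N17237 = N13573 := eqc rfl L147928 rfl
theorem L147930 : sm gc N10783 = N11413 := trfs L147914 L109360 rfl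
theorem L147932 : sm gg N10783 = N11411 := trfs L147914 (flp_g L109358) rfl
theorem L147933 : N11411 = N13511 := eqes L147932 (flp_g L103066)
theorem L147934 : N13511 = N11411 := (eqc rfl L147933 rfl).symm
theorem L147935 : sm ga N11411 = N18509 := trfs L147934 (flp_a L142977) rfl
theorem L147936 : N18509 = N12765 := eqes L147935 (flp_a L112133)
theorem L147937 : N18509 = N12765 := eqc rfl L147936 rfl
theorem L147938 : sm gb N11411 = N10952 := trfs L147934 L103064 rfl
theorem L147939 : N10952 = N14770 := eqes L147938 L109348
theorem L147940 : N14770 = N10952 := (eqc rfl L147939 rfl).symm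
theorem L147942 : sm gd N11411 = N10755 := trfs L147934 (flp_d L103062) rfl
theorem L147943 : N10755 = N14771 := eqes L147942 L109352
theorem L147944 : N14771 = N10755 := (eqc rfl L147943 rfl).symm
theorem L147945 : sm ge N11411 = N18511 := trfs L147934 L142987 rfl
theorem L147946 : N18511 = N14519 := eqes L147945 (flp_e L108148)
theorem L147947 : N18511 = N14519 := eqc rfl L147946 rfl
theorem L147948 : sm gf N11411 = N18512 := trfs L147934 L142993 rfl
theorem L147949 : N18512 = N14772 := eqes L147948 L109354
theorem L147950 : N18512 = N14772 := eqc rfl L147949 rfl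
theorem L147951 : sm gg N11411 = N10783 := trfs L147934 L103066 rfl
theorem L147953 : sm ga N14772 = N18612 := trfs L147950 (flp_a L143581) rfl
theorem L147954 : N18612 = N17236 := eqes L147953 (flp_a L123834)
theorem L147955 : N18612 = N17236 := eqc rfl L147954 rfl
theorem L147956 : sm gd N14772 = N13512 := trfs L147950 L142995 rfl
theorem L147958 : sm gg N14772 = N18604 := trfs L147950 L143539 rfl
theorem L147960 : sm gd N17236 = N13580 := trfs L147955 L143583 rfl
theorem L147963 : sm gg N17236 = N13578 := trfs L147955 (flp_g L143579) rfl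
theorem L147965 : sm gb N14519 = N13884 := trfs L147947 L142989 rfl
theorem L147967 : sm gg N14519 = N13577 := trfs L147947 L142991 rfl
theorem L147969 : sm ga N10755 = N17235 := trfs L147944 (flp_a L123828) rfl
theorem L147970 : N17235 = N13510 := eqes L147969 (flp_a L103058)
theorem L147971 : N17235 = N13510 := eqc rfl L147970 rfl
theorem L147972 : sm gd N10755 = N11411 := trfs L147944 (flp_d L109352) rfl
theorem L147974 : sm gb N13510 = N12766 := trfs L147971 L123830 rfl
theorem L147975 : N12766 = N18508 := eqes L147974 L142973
theorem L147976 : N18508 = N12766 := (eqc rfl L147975 rfl).symm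
theorem L147979 : sm gb N12766 = N13510 := trfs L147976 (flp_b L142973) rfl
theorem L147981 : sm ga N10952 = N11414 := trfs L147940 L112143 rfl
theorem L147982 : N11414 = N13883 := eqes L147981 (flp_a L104965)
theorem L147983 : N13883 = N11414 := (eqc rfl L147982 rfl).symm
theorem L147984 : sm gb N10952 = N11411 := trfs L147940 (flp_b L109348) rfl
theorem L147988 : sm ga N11414 = N10952 := trfs L147983 L104965 rfl
theorem L147990 : sm gc N11414 = N10952 := trfs L147983 (flp_c L104969) rfl
theorem L147992 : sm gd N11414 = N10951 := trfs L147983 (flp_d L104963) rfl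
theorem L147993 : N10951 = N14778 := eqes L147992 L109378
theorem L147994 : N14778 = N10951 := (eqc rfl L147993 rfl).symm
theorem L147995 : sm gf N11414 = N13966 := trfs L147983 L105310 rfl
theorem L147996 : N13966 = N14779 := eqes L147995 L109382
theorem L147997 : N14779 = N13966 := (eqc rfl L147996 rfl).symm
theorem L147998 : sm gg N11414 = N10985 := trfs L147983 L104967 rfl
theorem L147999 : N10985 = N14780 := eqes L147998 L109384
theorem L148000 : N14780 = N10985 := (eqc rfl L147999 rfl).symm
theorem L148001 : sm gg N10985 = N11414 := trfs L148000 (flp_g L109384) rfl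
theorem L148003 : sm gf N13966 = N11414 := trfs L147997 (flp_f L109382) rfl
theorem L148005 : sm gb N10951 = N11415 := trfs L147994 L109380 rfl
theorem L148006 : N11415 = N13882 := eqes L148005 L104961
theorem L148007 : N13882 = N11415 := (eqc rfl L148006 rfl).symm
theorem L148008 : sm gd N10951 = N11414 := trfs L147994 (flp_d L109378) rfl
theorem L148010 : sm gb N11415 = N10951 := trfs L148007 (flp_b L104961) rfl
theorem L148012 : sm ge N11415 = N18769 := trfs L148007 (flp_e L144493) rfl
theorem L148013 : N18769 = N14782 := eqes L148012 L109392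
theorem L148014 : N18769 = N14782 := eqc rfl L148013 rfl
theorem L148015 : sm gb N14782 = N13689 := trfs L148014 (flp_b L144491) rfl
theorem L148017 : sm gd N12765 = N13510 := trfs L147937 (flp_d L142975) rfl
theorem L148023 : sm gg N13573 = N12765 := trfs L147929 (flp_g L123838) rfl
theorem L148025 : sm gb N11087 = N11413 := trfs L147911 L108657 rfl
theorem L148027 : sm gg N11087 = N11344 := trfs L147911 (flp_g L108655) rfl
theorem L148028 : N11344 = N13646 := eqes L148027 (flp_g L103688)
theorem L148029 : N13646 = N11344 := (eqc rfl L148028 rfl).symm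
theorem L148030 : sm ga N11344 = N13609 := trfs L148029 (flp_a L129608) rfl
theorem L148031 : N13609 = N14615 := eqes L148030 L108649
theorem L148032 : N14615 = N13609 := (eqc rfl L148031 rfl).symm
theorem L148036 : sm gc N11344 = N14147 := trfs L148029 (flp_c L106150) rfl
theorem L148037 : N14147 = N14616 := eqes L148036 L108651
theorem L148038 : N14616 = N14147 := (eqc rfl L148037 rfl).symm
theorem L148039 : sm gd N11344 = N10821 := trfs L148029 (flp_d L103686) rfl
theorem L148040 : N10821 = N14588 := eqes L148039 (flp_d L108527)
theorem L148041 : N14588 = N10821 := (eqc rfl L148040 rfl).symm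
theorem L148042 : sm ge N11344 = N18689 := trfs L148029 (flp_e L144025) rfl
theorem L148043 : N18689 = N14463 := eqes L148042 (flp_e L107823)
theorem L148044 : N18689 = N14463 := eqc rfl L148043 rfl
theorem L148045 : sm gf N11344 = N17821 := trfs L148029 (flp_f L142760) rfl
theorem L148046 : N17821 = N14617 := eqes L148045 L108653
theorem L148047 : N17821 = N14617 := eqc rfl L148046 rfl
theorem L148048 : sm gg N11344 = N11087 := trfs L148029 L103688 rfl
theorem L148050 : sm ga N14617 = N18654 := trfs L148047 (flp_a L143819) rfl
theorem L148052 : sm gc N14617 = N18673 := trfs L148047 L143939 rfl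
theorem L148054 : sm gd N14617 = N13071 := trfs L148047 (flp_d L126706) rfl
theorem L148056 : sm gg N14617 = N18673 := trfs L148047 (flp_g L143937) rfl
theorem L148058 : sm ga N14463 = N18653 := trfs L148044 L144021 rfl
theorem L148060 : sm gc N14463 = N14057 := trfs L148044 (flp_c L144027) rfl
theorem L148062 : sm gd N14463 = N13644 := trfs L148044 (flp_d L144019) rfl
theorem L148064 : sm gg N14463 = N14163 := trfs L148044 L144023 rfl
theorem L148068 : sm gd N10821 = N11344 := trfs L148041 L108527 rfl
theorem L148070 : sm gc N14147 = N11344 := trfs L148038 (flp_c L108651) rfl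
theorem L148073 : sm ga N13609 = N11344 := trfs L148032 (flp_a L108649) rfl
theorem L148075 : sm gc N14769 = N13573 := trfs L147908 (flp_c L143523) rfl
theorem L148077 : sm gd N14769 = N14150 := trfs L147908 L143527 rfl
theorem L148079 : sm gc N11169 = N11378 := trfs L147877 (flp_c L109053) rfl
theorem L148081 : sm ga N14666 = N14880 := trfs L147785 (flp_a L109830) rfl
theorem L148083 : sm gg N14666 = N11461 := trfs L147785 (flp_g L109824) rfl
theorem L148085 : sm gc N14664 = N14880 := trfs L147782 L144015 rfl
theorem L148088 : sm ga N10819 = N11321 := trfs L147776 (flp_a L108423) rfl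
theorem L148090 : sm gd N10819 = N11325 := trfs L147776 L108425 rfl
theorem L148094 : sm gg N10819 = N11364 := trfs L147776 L108429 rfl
theorem L148096 : sm gd N14576 = N13642 := trfs L147771 L143975 rfl
theorem L148098 : sm ga N14571 = N13642 := trfs L147768 L143955 rfl
theorem L148100 : sm gc N14571 = N14870 := trfs L147768 L143957 rfl
theorem L148102 : sm gb N11332 = N10821 := trfs L147747 L103654 rfl
theorem L148104 : sm gc N11332 = N11460 := trfs L147747 L103656 rfl
theorem L148106 : sm ge N11332 = N10819 := trfs L147747 (flp_e L103652) rfl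
theorem L148109 : sm ga N11333 = N11460 := trfs L147744 L109780 rfl
theorem L148111 : sm gd N11333 = N13855 := trfs L147744 L147351 rfl
theorem L148112 : N13855 = N14590 := eqes L148111 L108535
theorem L148113 : N14590 = N13855 := (eqc rfl L148112 rfl).symm
theorem L148114 : sm ge N11333 = N11458 := trfs L147744 (flp_e L109778) rfl
theorem L148116 : sm gd N13855 = N11333 := trfs L148113 (flp_d L108535) rfl
theorem L148120 : sm gb N14701 = N11801 := trfs L147738 (flp_b L113006) rfl
theorem L148122 : sm gd N14701 = N19032 := trfs L147738 L146003 rfl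
theorem L148124 : sm ga N11462 = N11365 := trfs L147735 L108899 rfl
theorem L148126 : sm gc N11462 = N11364 := trfs L147735 (flp_c L108897) rfl
theorem L148128 : sm ge N11462 = N11379 := trfs L147735 L108901 rfl
theorem L148130 : sm gb N11850 = N11379 := trfs L147727 (flp_b L109063) rfl
theorem L148132 : sm ga N11381 = N13845 := trfs L147721 L146174 rfl
theorem L148134 : sm gb N11381 = N13388 := trfs L147721 (flp_b L129701) rfl
theorem L148135 : N13388 = N14649 := eqes L148134 (flp_b L108817)
theorem L148136 : N14649 = N13388 := (eqc rfl L148135 rfl).symm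
theorem L148139 : sm gg N11381 = N13855 := trfs L147721 L146178 rfl
theorem L148141 : sm gb N13388 = N11381 := trfs L148136 L108817 rfl
theorem L148143 : sm gd N13388 = N11358 := trfs L148136 (flp_d L108815) rfl
theorem L148144 : N11358 = N14637 := eqes L148143 (flp_d L108745)
theorem L148145 : N14637 = N11358 := (eqc rfl L148144 rfl).symm
theorem L148146 : sm ga N11358 = N11353 := trfs L148145 (flp_a L108743) rfl
theorem L148147 : N11353 = N14647 := eqes L148146 (flp_a L108805)
theorem L148148 : N14647 = N11353 := (eqc rfl L148147 rfl).symm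
theorem L148149 : sm gd N11358 = N13388 := trfs L148145 L108745 rfl
theorem L148151 : sm ge N11358 = N11357 := trfs L148145 L108747 rfl
theorem L148152 : N11357 = N14638 := eqes L148151 (flp_e L108753)
theorem L148153 : N14638 = N11357 := (eqc rfl L148152 rfl).symm
theorem L148154 : sm gf N11358 = N14651 := trfs L148145 L108831 rfl
theorem L148155 : N14651 = N14650 := eqes L148154 L108819
theorem L148156 : N14651 = N14650 := eqc rfl L148155 rfl
theorem L148159 : sm ga N14650 = N14639 := trfs L148156 L108825 rfl
theorem L148161 : sm gb N14650 = N17335 := trfs L148156 (flp_b L130510) rfl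
theorem L148163 : sm gd N14650 = N13403 := trfs L148156 L108827 rfl
theorem L148165 : sm ge N14650 = N14648 := trfs L148156 L108829 rfl
theorem L148167 : sm gg N14650 = N11359 := trfs L148156 (flp_g L108823) rfl
theorem L148169 : sm gb N11357 = N11365 := trfs L148153 L108757 rfl
theorem L148170 : N11365 = N14646 := eqes L148169 L108799
theorem L148171 : N14646 = N11365 := (eqc rfl L148170 rfl).symm
theorem L148174 : sm ge N11357 = N11358 := trfs L148153 L108753 rfl
theorem L148176 : sm gg N11357 = N11358 := trfs L148153 L108755 rfl
theorem L148178 : sm gb N11365 = N11357 := trfs L148171 (flp_b L108799) rfl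
theorem L148180 : sm gd N11365 = N13398 := trfs L148171 L108801 rfl
theorem L148181 : N13398 = N14665 := eqes L148180 L108913
theorem L148182 : N14665 = N13398 := (eqc rfl L148181 rfl).symm
theorem L148183 : sm gd N13398 = N11365 := trfs L148182 (flp_d L108913) rfl
theorem L148185 : sm ga N11353 = N11358 := trfs L148148 L108805 rfl
theorem L148187 : sm gc N11353 = N11357 := trfs L148148 (flp_c L108803) rfl
theorem L148189 : sm gc N13844 = N11381 := trfs L147713 (flp_c L109081) rfl
theorem L148193 : sm gd N14781 = N13844 := trfs L147532 L129008 rfl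
theorem L148195 : sm gf N14781 = N18239 := trfs L147532 L129076 rfl
theorem L148197 : sm gg N14781 = N13345 := trfs L147532 L129010 rfl
theorem L148199 : sm ga N10733 = N11438 := trfs L147501 (flp_a L109582) rfl
theorem L148204 : sm gd N12839 = N10733 := trfs L146758 L102815 rfl
theorem L148206 : sm gf N12839 = N12800 := trfs L146758 (flp_f L119701) rfl
theorem L148212 : sm gg N10663 = N11438 := trfs L146748 (flp_g L109596) rfl
theorem L148215 : sm gg N10731 = N12839 := trfs L146744 (flp_g L124553) rfl
theorem L148229 : sm ge N9740 = N10737 := trfs L146622 L102872 rfl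
theorem L148232 : sm gg N9740 = N10735 := trfs L146622 (flp_g L102868) rfl
theorem L148235 : sm ga N12024 = N10743 := trfs L146619 L102856 rfl
theorem L148240 : sm gc N12024 = N10737 := trfs L146619 L102858 rfl
theorem L148242 : sm gd N12024 = N13295 := trfs L146619 L102860 rfl
theorem L148243 : N13295 = N15910 := eqes L148242 (flp_d L115087)
theorem L148244 : N15910 = N13295 := (eqc rfl L148243 rfl).symm
theorem L148245 : sm gf N12024 = N13486 := trfs L146619 L102948 rfl
theorem L148247 : sm gg N12024 = N10734 := trfs L146619 (flp_g L102854) rfl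
theorem L148249 : sm gb N13295 = N12023 := trfs L148244 (flp_b L115085) rfl
theorem L148250 : N12023 = N18164 := eqes L148249 L128607
theorem L148251 : N18164 = N12023 := (eqc rfl L148250 rfl).symm
theorem L148252 : sm gd N13295 = N12024 := trfs L148244 L115087 rfl
theorem L148254 : sm gb N12023 = N13295 := trfs L148251 (flp_b L128607) rfl
theorem L148260 : sm gb N9741 = N10737 := trfs L146616 (flp_b L102878) rfl
theorem L148270 : sm gc N10739 = N11464 := trfs L146607 L94233 rfl
theorem L148272 : sm gd N10739 = N9741 := trfs L146607 (flp_d L94227) rfl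
theorem L148276 : sm gf N10739 = N11987 := trfs L146607 L137262 rfl
theorem L148278 : sm gg N10739 = N11857 := trfs L146607 (flp_g L94357) rfl
theorem L148280 : sm gb N11771 = N10704 := trfs L146599 (flp_b L102529) rfl
theorem L148283 : sm ge N11771 = N10739 := trfs L146599 L102531 rfl
theorem L148285 : sm ga N15298 = N12040 := trfs L146584 L115170 rfl
theorem L148287 : sm gd N15298 = N12035 := trfs L146584 L115174 rfl
theorem L148289 : sm gf N15298 = N15939 := trfs L146584 L115246 rfl
theorem L148291 : sm gg N15298 = N12033 := trfs L146584 (flp_g L115168) rfl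
theorem L148293 : sm ga N11833 = N11791 := trfs L146565 (flp_a L119316) rfl
theorem L148295 : sm ge N11833 = N10747 := trfs L146565 L102968 rfl
theorem L148299 : sm ga N15299 = N15262 := trfs L146562 L128575 rfl
theorem L148301 : sm gb N15299 = N15266 := trfs L146562 L128585 rfl
theorem L148303 : sm gd N15299 = N16569 := trfs L146562 L128579 rfl
theorem L148305 : sm ge N15299 = N15939 := trfs L146562 L128581 rfl
theorem L148307 : sm gg N15299 = N15259 := trfs L146562 L128583 rfl
theorem L148310 : sm gg N10744 = N11833 := trfs L146554 (flp_g L113322) rfl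
theorem L148317 : sm ga N11741 = N11769 := trfs L146534 L112676 rfl
theorem L148319 : sm gf N11741 = N11767 := trfs L146534 (flp_f L112674) rfl
theorem L148321 : sm ga N10706 = N11768 := trfs L146531 L112672 rfl
theorem L148323 : sm ge N10706 = N11767 := trfs L146531 (flp_e L112670) rfl
theorem L148325 : sm gd N15297 = N12362 := trfs L146526 L115230 rfl
theorem L148327 : sm ge N15297 = N12040 := trfs L146526 L115232 rfl
theorem L148329 : sm gf N15297 = N15262 := trfs L146526 L119737 rfl
theorem L148331 : sm gg N15297 = N12038 := trfs L146526 (flp_g L115224) rfl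
theorem L148333 : sm gg N9648 = N11740 := trfs L146523 (flp_g L112450) rfl
theorem L148336 : sm gc N11937 = N13491 := trfs L146508 (flp_c L142837) rfl
theorem L148338 : sm gd N11937 = N15915 := trfs L146508 (flp_d L142845) rfl
theorem L148339 : N15915 = N15720 := eqes L148338 (flp_d L114197)
theorem L148340 : N15915 = N15720 := eqc rfl L148339 rfl
theorem L148341 : sm ge N11937 = N13498 := trfs L146508 L142841 rfl
theorem L148342 : N13498 = N15737 := eqes L148341 L114286
theorem L148343 : N15737 = N13498 := (eqc rfl L148342 rfl).symm
theorem L148348 : sm ge N13498 = N11937 := trfs L148343 (flp_e L114286) rfl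
theorem L148351 : sm ge N15720 = N12030 := trfs L148340 L115108 rfl
theorem L148353 : sm gf N15720 = N15916 := trfs L148340 L115114 rfl
theorem L148355 : sm gg N15720 = N12025 := trfs L148340 (flp_g L115104) rfl
theorem L148357 : sm ga N10745 = N9740 := trfs L146505 (flp_a L94211) rfl
theorem L148359 : sm gd N10745 = N11767 := trfs L146505 L94213 rfl
theorem L148361 : sm ga N13522 = N11941 := trfs L146433 L114296 rfl
theorem L148363 : sm gf N13522 = N15748 := trfs L146433 L114334 rfl
theorem L148365 : sm gg N13522 = N11937 := trfs L146433 (flp_g L114294) rfl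
theorem L148367 : sm gb N11162 = N15781 := trfs L146424 (flp_b L114468) rfl
theorem L148368 : N15781 = N14272 := eqes L148367 (flp_b L106821)
theorem L148369 : N15781 = N14272 := eqc rfl L148368 rfl
theorem L148370 : sm gf N14272 = N11956 := trfs L148369 (flp_f L114466) rfl
theorem L148373 : sm ge N11930 = N11936 := trfs L146364 L114274 rfl
theorem L148375 : sm ga N9887 = N9885 := trfs L146361 L94702 rfl
theorem L148382 : sm ge N9887 = N9884 := trfs L146361 (flp_e L94700) rfl
theorem L148387 : sm gc N11928 = N15894 := trfs L146357 (flp_c L115003) rfl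
theorem L148388 : N15894 = N15721 := eqes L148387 L114201
theorem L148389 : N15894 = N15721 := eqc rfl L148388 rfl
theorem L148391 : sm ge N11928 = N9942 := trfs L146357 L95185 rfl
theorem L148393 : sm gf N11928 = N15917 := trfs L146357 L115116 rfl
theorem L148394 : N15917 = N15723 := eqes L148393 L114208
theorem L148395 : N15917 = N15723 := eqc rfl L148394 rfl
theorem L148396 : sm gg N11928 = N9939 := trfs L146357 (flp_g L95183) rfl
theorem L148398 : sm ga N15723 = N15916 := trfs L148395 L115118 rfl
theorem L148400 : sm ge N15723 = N12032 := trfs L148395 L115120 rfl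
theorem L148402 : sm gg N15723 = N15914 := trfs L148395 L115122 rfl
theorem L148405 : sm ge N15721 = N12021 := trfs L148389 L115005 rfl
theorem L148407 : sm gg N15721 = N12015 := trfs L148389 (flp_g L115001) rfl
theorem L148416 : sm ga N11939 = N13498 := trfs L146324 (flp_a L129594) rfl
theorem L148418 : sm gc N11939 = N13497 := trfs L146324 L129598 rfl
theorem L148420 : sm gd N11939 = N11169 := trfs L146324 L106889 rfl
theorem L148421 : N11169 = N15744 := eqes L148420 L114316
theorem L148422 : N15744 = N11169 := (eqc rfl L148421 rfl).symm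
theorem L148423 : sm gf N11939 = N18550 := trfs L146324 L143229 rfl
theorem L148424 : N18550 = N15745 := eqes L148423 L114320
theorem L148425 : N18550 = N15745 := eqc rfl L148424 rfl
theorem L148426 : sm gg N11939 = N11167 := trfs L146324 (flp_g L106887) rfl
theorem L148428 : sm ga N15745 = N18489 := trfs L148425 L143223 rfl
theorem L148430 : sm gc N15745 = N13541 := trfs L148425 L143225 rfl
theorem L148432 : sm gd N15745 = N14292 := trfs L148425 L143227 rfl
theorem L148434 : sm gg N15745 = N13539 := trfs L148425 (flp_g L143221) rfl
theorem L148437 : sm gd N11169 = N11939 := trfs L148422 (flp_d L114316) rfl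
theorem L148440 : sm gb N9892 = N9888 := trfs L146317 L94721 rfl
theorem L148443 : sm gd N9892 = N9885 := trfs L146317 (flp_d L94719) rfl
theorem L148445 : sm ge N9892 = N9893 := trfs L146317 L94723 rfl
theorem L148450 : sm gg N9894 = N11948 := trfs L146298 (flp_g L114404) rfl
theorem L148452 : sm ge N15766 = N11956 := trfs L146293 L114436 rfl
theorem L148454 : sm ga N11952 = N11948 := trfs L146290 L114352 rfl
theorem L148456 : sm gd N11952 = N11943 := trfs L146290 L114354 rfl
theorem L148459 : sm gd N9897 = N11933 := trfs L146276 L114252 rfl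
theorem L148461 : sm ge N9897 = N11948 := trfs L146276 L114254 rfl
theorem L148463 : sm gb N15505 = N11852 := trfs L146273 (flp_b L113518) rfl
theorem L148465 : sm gb N15548 = N19024 := trfs L146256 L145963 rfl
theorem L148469 : sm gb N11841 = N18507 := trfs L146249 (flp_b L142971) rfl
theorem L148470 : N18507 = N11756 := eqes L148469 L94265
theorem L148471 : N18507 = N11756 := eqc rfl L148470 rfl
theorem L148472 : sm ge N11841 = N18420 := trfs L146249 (flp_e L130290) rfl
theorem L148473 : N18420 = N15547 := eqes L148472 L113388
theorem L148474 : N18420 = N15547 := eqc rfl L148473 rfl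
theorem L148477 : sm gg N15547 = N13442 := trfs L148474 (flp_g L130288) rfl
theorem L148479 : sm gg N11756 = N13509 := trfs L148471 (flp_g L142969) rfl
theorem L148480 : N13509 = N15389 := eqes L148479 L112596
theorem L148481 : N15389 = N13509 := (eqc rfl L148480 rfl).symm
theorem L148482 : sm gc N13509 = N11759 := trfs L148481 L112598 rfl
theorem L148483 : N11759 = N18505 := eqes L148482 L142965
theorem L148484 : N18505 = N11759 := (eqc rfl L148483 rfl).symm
theorem L148485 : sm gd N13509 = N15546 := trfs L148481 (flp_d L113386) rfl
theorem L148486 : N15546 = N18488 := eqes L148485 (flp_d L142883)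
theorem L148487 : N18488 = N15546 := (eqc rfl L148486 rfl).symm
theorem L148488 : sm gg N13509 = N11756 := trfs L148481 (flp_g L112596) rfl
theorem L148490 : sm gb N15546 = N13497 := trfs L148487 (flp_b L142881) rfl
theorem L148492 : sm gd N15546 = N13509 := trfs L148487 L142883 rfl
theorem L148494 : sm gc N11759 = N13509 := trfs L148484 (flp_c L142965) rfl
theorem L148496 : sm ga N15560 = N13570 := trfs L146243 L143485 rfl
theorem L148498 : sm gc N15560 = N13570 := trfs L146243 L143487 rfl
theorem L148500 : sm ga N15557 = N13442 := trfs L146240 (flp_a L130278) rfl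
theorem L148502 : sm gc N15557 = N13442 := trfs L146240 L130282 rfl
theorem L148504 : sm ga N14875 = N13398 := trfs L146235 (flp_a L129793) rfl
theorem L148506 : sm gc N14875 = N13572 := trfs L146235 (flp_c L129797) rfl
theorem L148508 : sm ga N10780 = N11847 := trfs L146232 L113406 rfl
theorem L148510 : sm gc N10780 = N11847 := trfs L146232 L113408 rfl
theorem L148514 : sm gg N10780 = N11841 := trfs L146232 (flp_g L113404) rfl
theorem L148517 : sm gb N11844 = N10766 := trfs L146223 (flp_b L103172) rfl
theorem L148518 : N10766 = N15554 := eqes L148517 L113434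
theorem L148519 : N15554 = N10766 := (eqc rfl L148518 rfl).symm
theorem L148520 : sm gd N11844 = N10780 := trfs L146223 L103174 rfl
theorem L148524 : sm gb N10766 = N11844 := trfs L148519 (flp_b L113434) rfl
theorem L148526 : sm ga N9895 = N9893 := trfs L146217 L94765 rfl
theorem L148528 : sm gd N9895 = N9890 := trfs L146217 (flp_d L94763) rfl
theorem L148530 : sm ga N11947 = N11850 := trfs L146214 L113426 rfl
theorem L148532 : sm ge N11947 = N11844 := trfs L146214 L113430 rfl
theorem L148534 : sm gf N11947 = N15565 := trfs L146214 L113494 rfl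
theorem L148536 : sm gg N11947 = N11842 := trfs L146214 (flp_g L113424) rfl
theorem L148538 : sm ga N9757 = N10739 := trfs L146199 (flp_a L102896) rfl
theorem L148540 : sm gg N15550 = N15763 := ded_12_0 (flp_a L146203) (flp_g L113478) (flp_a L113414)
theorem L148542 : sm ge N19020 = N16372 := ded_19_2 (flp_c L130111) L130109 L146182
theorem L148544 : sm gb N19020 = N16373 := ded_13_1 L117681 (flp_b L117641) L129535 (flp_b L129600) L146182
theorem L148546 : sm gg N15556 = N18419 := ded_26_2 L130286 L146269 (flp_e L113444)
theorem L148548 : sm gg N15558 = N19027 := ded_17_2 (flp_b L146054) L146058 (flp_b L143495) L146269 L113450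
theorem L148550 : N17298 = N18517 := coi_31_8 (flp_b L143011) L143017 L143023 (flp_b L143553) (flp_g L143547) (flp_f L143499) (flp_b L143495) L146269 (flp_f L94291) L47378 (flp_g L44579) L82721 L85980 L98973 L124139
theorem L148551 : N18517 = N17298 := (eqc rfl L148550 rfl).symm
theorem L148552 : sm gb N17298 = N13514 := trfs L148551 (flp_b L143011) rfl
theorem L148554 : sm gc N18482 = N15738 := ded_21_3 (flp_g L114344) L146452 (flp_g L143091)
theorem L148556 : sm gd N15916 = N15738 := ded_24_3 (flp_g L114344) L146454 L115110
theorem L148558 : sm ge N18489 = N15738 := ded_26_3 (flp_g L114344) L146456 (flp_g L142891)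
theorem L148560 : sm gg N18312 = N15740 := ded_24_2 (flp_d L114298) L146489 (flp_d L129531)
theorem L148562 : sm gg N15544 = N15543 := ded_17_4 (flp_b L113370) L146489 L129572 L148536 (flp_b L113378)
theorem L148564 : sm ge N15543 = N15546 := ded_15_2 L148490 L146499 L113370
theorem L148566 : sm ge N15740 = N18363 := ded_22_2 L129918 L102583 (flp_d L103006) L146499 L114298
theorem L148568 : sm ge N15413 = N18362 := ded_15_2 (flp_b L129912) L146572 L112694
theorem L148570 : sm gf N18362 = N15417 := ded_16_2 (flp_b L112718) (flp_f L93871) (flp_b L93863) L146589 L129912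
theorem L148572 : sm gg N18453 = N15516 := ded_24_2 (flp_d L113224) L146673 L130534
theorem L148574 : sm gb N18165 = N15904 := ded_14_3 L115053 L146691 (flp_d L128617)
theorem L148576 : sm gc N15890 = N15924 := ded_13_4 (flp_b L115148) (flp_c L115066) L146696 L114901 L114981
theorem L148578 : sm gg N18468 = N15899 := ded_24_2 (flp_d L115028) L146715 (flp_d L130616)
theorem L148580 : sm gg N18473 = N15891 := ded_26_2 L114989 L146715 (flp_e L130650)
theorem L148582 : sm gb N15899 = N14390 := ded_14_3 L107469 L146717 L115028
theorem L148584 : sm gb N15891 = N14392 := ded_15_3 L107481 L146717 (flp_e L114989)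
theorem L148586 : N15919 = N11238 := coi_13_5 (flp_b L91167) (flp_c L91141) L146717 L95146 L95189 L115130
theorem L148587 : N15919 = N11238 := eqc rfl L148586 rfl
theorem L148588 : sm gc N11238 = N12028 := trfs L148587 (flp_c L115130) rfl
theorem L148589 : N12028 = N14406 := eqes L148588 L107563
theorem L148590 : N14406 = N12028 := (eqc rfl L148589 rfl).symm
theorem L148591 : sm gc N12028 = N11238 := trfs L148590 (flp_c L107563) rfl
theorem L148593 : sm gg N12028 = N11252 := trfs L148590 L107565 rfl
theorem L148594 : N11252 = N15921 := eqes L148593 L115136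
theorem L148595 : N15921 = N11252 := (eqc rfl L148594 rfl).symm
theorem L148596 : sm gd N11252 = N14281 := trfs L148595 L115138 rfl
theorem L148597 : N14281 = N14279 := eqes L148596 (flp_d L129557)
theorem L148598 : N14281 = N14279 := eqc rfl L148597 rfl
theorem L148599 : sm gg N11252 = N12028 := trfs L148595 (flp_g L115136) rfl
theorem L148601 : sm gg N14279 = N11163 := trfs L148598 (flp_g L106859) rfl
theorem L148603 : sm gc N18473 = N15720 := ded_19_3 L148351 L146722 (flp_e L130650)
theorem L148605 : sm ga N18468 = N15905 := ded_9_3 L115057 L146731 (flp_d L130616)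
theorem L148607 : sm ga N18473 = N15721 := ded_10_3 L148405 L146731 (flp_e L130650)
theorem L148609 : sm ga N15516 = N18470 := ded_9_3 L130626 L146733 L113224
theorem L148611 : sm gb N15491 = N15569 := ded_31_8 (flp_g L113516) L94317 (flp_b L47416) (flp_g L77867) (flp_f L27832) L86117 L146769 (flp_f L98985) (flp_b L85986) L27498 (flp_f L75726) L47077 (flp_g L94072) L113090
theorem L148613 : sm gb N18525 = N15587 := ded_16_3 (flp_f L113598) L94383 L146907 (flp_b L124411) L143065
theorem L148615 : N17566 = N6006 := coi_31_11 (flp_b L29097) (flp_g L29051) (flp_f L29043) L29032 L146956 (flp_f L29253) (flp_b L14109) L14116 L29217 L86892 (flp_g L147041) (flp_f L125606) (flp_b L125604) L125608 (flp_f L125610)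
theorem L148616 : N17566 = N6006 := eqc rfl L148615 rfl
theorem L148617 : sm ga N6006 = N12953 := trfs L148616 L125576 rfl
theorem L148618 : N12953 = N10426 := eqes L148617 L86711
theorem L148619 : N12953 = N10426 := eqc rfl L148618 rfl
theorem L148620 : sm gf N6006 = N17575 := trfs L148616 L125610 rfl
theorem L148621 : N17575 = N10420 := eqes L148620 (flp_f L86686)
theorem L148622 : N17575 = N10420 := eqc rfl L148621 rfl
theorem L148623 : sm gg N6006 = N12949 := trfs L148616 (flp_g L125574) rfl
theorem L148624 : N12949 = N10428 := eqes L148623 L86717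
theorem L148625 : N12949 = N10428 := eqc rfl L148624 rfl
theorem L148626 : sm ga N10428 = N10413 := trfs L148625 (flp_a L99921) rfl
theorem L148627 : N10413 = N12978 := eqes L148626 (flp_a L100035)
theorem L148628 : N12978 = N10413 := (eqc rfl L148627 rfl).symm
theorem L148629 : sm gb N10428 = N17530 := trfs L148625 (flp_b L125402) rfl
theorem L148630 : N17530 = N12946 := eqes L148629 (flp_b L99913)
theorem L148631 : N17530 = N12946 := eqc rfl L148630 rfl
theorem L148632 : sm gc N10428 = N17563 := trfs L148625 L125562 rfl
theorem L148633 : N17563 = N12980 := eqes L148632 (flp_c L100045)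
theorem L148634 : N17563 = N12980 := eqc rfl L148633 rfl
theorem L148637 : sm gf N10428 = N17565 := trfs L148625 L125570 rfl
theorem L148638 : N17565 = N12981 := eqes L148637 L100047
theorem L148639 : N17565 = N12981 := eqc rfl L148638 rfl
theorem L148640 : sm ga N12981 = N12952 := trfs L148639 L125572 rfl
theorem L148641 : N12952 = N12967 := eqes L148640 L100049
theorem L148642 : N12967 = N12952 := (eqc rfl L148641 rfl).symm
theorem L148648 : sm ga N12952 = N12981 := trfs L148642 (flp_a L100049) rfl
theorem L148650 : sm gb N12952 = N17605 := trfs L148642 L125733 rfl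
theorem L148651 : N17605 = N17574 := eqes L148650 L125604
theorem L148652 : N17605 = N17574 := eqc rfl L148651 rfl
theorem L148653 : sm gc N12952 = N17604 := trfs L148642 (flp_c L125731) rfl
theorem L148654 : N17604 = N17569 := eqes L148653 (flp_c L125586)
theorem L148655 : N17604 = N17569 := eqc rfl L148654 rfl
theorem L148656 : sm gd N12952 = N17548 := trfs L148642 (flp_d L125493) rfl
theorem L148657 : N17548 = N17533 := eqes L148656 (flp_d L125412)
theorem L148658 : N17548 = N17533 := eqc rfl L148657 rfl
theorem L148663 : sm ga N17533 = N17560 := trfs L148658 (flp_a L125552) rfl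
theorem L148665 : sm gb N17533 = N13038 := trfs L148658 L146992 rfl
theorem L148666 : N13038 = N13053 := eqes L148665 L147126
theorem L148667 : N13053 = N13038 := (eqc rfl L148666 rfl).symm
theorem L148668 : sm gf N17533 = N17557 := trfs L148658 (flp_f L125540) rfl
theorem L148669 : N17557 = N12932 := eqes L148668 (flp_f L125410)
theorem L148670 : N17557 = N12932 := eqc rfl L148669 rfl
theorem L148671 : sm gg N17533 = N12939 := trfs L148658 (flp_g L125491) rfl
theorem L148677 : sm gg N12932 = N12944 := trfs L148670 (flp_g L125534) rfl
theorem L148678 : N12944 = N17534 := eqes L148677 L125414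
theorem L148679 : N17534 = N12944 := (eqc rfl L148678 rfl).symm
theorem L148680 : sm gb N12944 = N17761 := trfs L148679 L147124 rfl
theorem L148681 : N17761 = N17555 := eqes L148680 L125526
theorem L148682 : N17761 = N17555 := eqc rfl L148681 rfl
theorem L148685 : sm gg N12944 = N12932 := trfs L148679 (flp_g L125414) rfl
theorem L148687 : sm gg N17555 = N13042 := trfs L148682 (flp_g L126462) rfl
theorem L148689 : sm ga N13038 = N13066 := trfs L148667 (flp_a L100473) rfl
theorem L148690 : N13066 = N17742 := eqes L148689 (flp_a L126388)
theorem L148691 : N17742 = N13066 := (eqc rfl L148690 rfl).symm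
theorem L148692 : sm gb N13038 = N17533 := trfs L148667 (flp_b L147126) rfl
theorem L148694 : sm gc N13038 = N17783 := trfs L148667 (flp_c L126553) rfl
theorem L148695 : N17783 = N17746 := eqes L148694 (flp_c L126402)
theorem L148696 : N17783 = N17746 := eqc rfl L148695 rfl
theorem L148701 : sm gf N13038 = N10468 := trfs L148667 (flp_f L100419) rfl
theorem L148702 : N10468 = N17753 := eqes L148701 L126428
theorem L148703 : N17753 = N10468 := (eqc rfl L148702 rfl).symm
theorem L148704 : sm gg N13038 = N13063 := trfs L148667 L100461 rfl
theorem L148705 : N13063 = N10460 := eqes L148704 (flp_g L100355)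
theorem L148706 : N13063 = N10460 := eqc rfl L148705 rfl
theorem L148707 : sm ga N10460 = N10475 := trfs L148706 L100459 rfl
theorem L148708 : N10475 = N13034 := eqes L148707 L100345
theorem L148709 : N13034 = N10475 := (eqc rfl L148708 rfl).symm
theorem L148713 : sm gc N10460 = N17807 := trfs L148706 (flp_c L126648) rfl
theorem L148714 : N17807 = N13035 := eqes L148713 L100347
theorem L148715 : N17807 = N13035 := eqc rfl L148714 rfl
theorem L148716 : sm gd N10460 = N17733 := trfs L148706 (flp_d L126350) rfl
theorem L148717 : N17733 = N12968 := eqes L148716 (flp_d L147204)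
theorem L148718 : N17733 = N12968 := eqc rfl L148717 rfl
theorem L148720 : sm gf N10460 = N10473 := trfs L148706 (flp_f L100457) rfl
theorem L148721 : N10473 = N13037 := eqes L148720 L100353
theorem L148722 : N13037 = N10473 := (eqc rfl L148721 rfl).symm
theorem L148726 : sm gb N10473 = N17750 := trfs L148722 L126416 rfl
theorem L148727 : N17750 = N13061 := eqes L148726 L100451
theorem L148728 : N17750 = N13061 := eqc rfl L148727 rfl
theorem L148732 : sm gd N10473 = N17608 := trfs L148722 (flp_d L147218) rfl
theorem L148733 : N17608 = N13029 := eqes L148732 (flp_d L100327)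
theorem L148734 : N17608 = N13029 := eqc rfl L148733 rfl
theorem L148736 : sm gf N10473 = N10460 := trfs L148722 (flp_f L100353) rfl
theorem L148743 : sm gb N13029 = N17588 := trfs L148734 L125743 rfl
theorem L148744 : N17588 = N17731 := eqes L148743 L126338
theorem L148745 : N17731 = N17588 := (eqc rfl L148744 rfl).symm
theorem L148748 : sm gb N17588 = N13029 := trfs L148745 (flp_b L126338) rfl
theorem L148750 : sm gd N17588 = N13061 := trfs L148745 L126340 rfl
theorem L148752 : sm ge N17588 = N13061 := trfs L148745 L136811 rfl
theorem L148756 : sm gf N13061 = N13042 := trfs L148728 L126418 rfl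
theorem L148757 : N13042 = N17803 := eqes L148756 L126634
theorem L148758 : N17803 = N13042 := (eqc rfl L148757 rfl).symm
theorem L148759 : sm gf N13042 = N13061 := trfs L148758 (flp_f L126634) rfl
theorem L148763 : sm ga N12968 = N13031 := trfs L148718 L126348 rfl
theorem L148764 : N13031 = N17606 := eqes L148763 L125737
theorem L148765 : N17606 = N13031 := (eqc rfl L148764 rfl).symm
theorem L148766 : sm gf N12968 = N13029 := trfs L148718 (flp_f L126346) rfl
theorem L148770 : sm ga N13031 = N12968 := trfs L148765 (flp_a L125737) rfl
theorem L148775 : sm ga N13035 = N13065 := trfs L148715 L126646 rfl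
theorem L148776 : N13065 = N17739 := eqes L148775 (flp_a L126376)
theorem L148777 : N17739 = N13065 := (eqc rfl L148776 rfl).symm
theorem L148778 : sm gf N13035 = N13062 := trfs L148715 (flp_f L126644) rfl
theorem L148781 : sm ga N13065 = N13035 := trfs L148777 L126376 rfl
theorem L148784 : sm ga N10475 = N10460 := trfs L148709 (flp_a L100345) rfl
theorem L148787 : sm gf N10468 = N13038 := trfs L148703 (flp_f L126428) rfl
theorem L148789 : sm ga N17746 = N17813 := trfs L148696 (flp_a L126670) rfl
theorem L148791 : sm gf N17746 = N13052 := trfs L148696 (flp_f L126551) rfl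
theorem L148793 : sm ga N13066 = N13038 := trfs L148691 L126388 rfl
theorem L148795 : sm ga N17569 = N17637 := trfs L148655 (flp_a L125858) rfl
theorem L148797 : sm gf N17569 = N17631 := trfs L148655 (flp_f L125838) rfl
theorem L148798 : N17631 = N12950 := eqes L148797 (flp_f L125584)
theorem L148799 : N17631 = N12950 := eqc rfl L148798 rfl
theorem L148800 : sm gg N17569 = N12966 := trfs L148655 (flp_g L125729) rfl
theorem L148805 : sm gg N12950 = N12977 := trfs L148799 (flp_g L125832) rfl
theorem L148806 : N12977 = N17570 := eqes L148805 L125588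
theorem L148807 : N17570 = N12977 := (eqc rfl L148806 rfl).symm
theorem L148809 : sm gg N12977 = N12950 := trfs L148807 (flp_g L125588) rfl
theorem L148811 : sm gd N17574 = N13038 := trfs L148652 L147214 rfl
theorem L148813 : sm ge N17574 = N13038 := trfs L148652 L147216 rfl
theorem L148815 : sm gg N17574 = N12968 := trfs L148652 L125735 rfl
theorem L148817 : sm ga N12980 = N12950 := trfs L148634 L125564 rfl
theorem L148819 : sm ga N12946 = N12932 := trfs L148631 (flp_a L125398) rfl
theorem L148821 : sm ga N10413 = N10428 := trfs L148628 L100035 rfl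
theorem L148828 : sm gg N10420 = N12952 := trfs L148622 (flp_g L125608) rfl
theorem L148830 : sm gb N10426 = N17576 := trfs L148619 L125612 rfl
theorem L148831 : N17576 = N12976 := eqes L148830 L100027
theorem L148832 : N17576 = N12976 := eqc rfl L148831 rfl
theorem L148833 : sm gg N10426 = N10413 := trfs L148619 (flp_g L99931) rfl
theorem L148835 : sm gg N12976 = N12958 := trfs L148832 L125614 rfl
theorem L148836 : N12958 = N17628 := eqes L148835 L125824
theorem L148837 : N17628 = N12958 := (eqc rfl L148836 rfl).symm
theorem L148838 : sm gg N12958 = N12976 := trfs L148837 (flp_g L125824) rfl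
theorem L148840 : sm gd N17360 = N17438 := ded_28_1 L124870 L99407 L86218 (flp_d L147068) (flp_c L99157) (flp_d L124429) L124427 (flp_c L124473)
theorem L148842 : sm gd N17586 = N17759 := ded_9_2 (flp_a L126458) L147103 L125652
theorem L148844 : sm ge N17586 = N17759 := ded_10_2 (flp_a L126458) L147105 L125652
theorem L148846 : sm ge N17587 = N17760 := ded_19_2 (flp_c L126460) L147105 L125654
theorem L148848 : sm gf N17438 = N17358 := ded_20_2 (flp_c L142453) L147142 (flp_c L124870)
theorem L148850 : sm gg N17367 = N17437 := ded_21_2 L124866 L147156 L124507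
theorem L148852 : sm gg N17362 = N17440 := ded_26_2 L124880 L147156 (flp_e L124483)
theorem L148854 : sm gb N17427 = N18435 := ded_15_3 L130376 L147179 L124814
theorem L148856 : N17290 = N13394 := coi_7_7 L102451 (flp_b L88762) (flp_a L103374) L147179 L99373 L86204 L27942 L85980 L98965 L124109
theorem L148857 : N17290 = N13394 := eqc rfl L148856 rfl
theorem L148858 : sm gb N13394 = N12792 := trfs L148857 (flp_b L124109) rfl
theorem L148859 : N12792 = N18334 := eqes L148858 L129765
theorem L148860 : N18334 = N12792 := (eqc rfl L148859 rfl).symm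
theorem L148861 : sm gd N13394 = N17411 := trfs L148857 (flp_d L124744) rfl
theorem L148862 : N17411 = N14642 := eqes L148861 (flp_d L108777)
theorem L148863 : N17411 = N14642 := eqc rfl L148862 rfl
theorem L148864 : sm gb N14642 = N12859 := trfs L148863 (flp_b L124742) rfl
theorem L148866 : sm gb N12792 = N13394 := trfs L148860 (flp_b L129765) rfl
theorem L148868 : sm ga N17735 = N17607 := ded_10_3 L147222 (flp_a L148781) (flp_e L136722)
theorem L148870 : sm gf N17732 = N17607 := ded_25_0 L147222 L148778 (flp_e L136706)
theorem L148872 : sm gg N17421 = N18556 := ded_21_2 (flp_c L143253) L147243 L124794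
theorem L148874 : sm ga N17421 = N18559 := ded_8_3 L143285 L147251 L124794
theorem L148876 : sm gg N17435 = N17360 := ded_21_2 L124473 L124493 L147258
theorem L148878 : sm gg N15578 = N18584 := ded_17_4 L143391 L147272 L99411 L94369 L113556
theorem L148880 : sm gf N17364 = N17439 := ded_16_4 L124874 (flp_f L109604) L147305 L129858 (flp_b L129870)
theorem L148882 : N18729 = N14873 := coi_14_3 L109796 L109834 L147314 L144267
theorem L148883 : N18729 = N14873 := eqc rfl L148882 rfl
theorem L148884 : sm gd N14873 = N13668 := trfs L148883 (flp_d L144267) rfl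
theorem L148886 : sm gd N14707 = N13858 := ded_23_3 (flp_f L104871) L147349 (flp_f L147760)
theorem L148888 : N9993 = N18219 := coi_32_28 (flp_c L128973) (flp_d L128921) L128925 (flp_b L110679) L110683 L111009 (flp_d L111005) (flp_c L92897) L45337 (flp_d L21865) (flp_c L10529) L5298 L5320 L5324 L80048 (flp_c L12177) L79744 (flp_c L25304) (flp_b L25094) (flp_d L25092) (flp_c L12077) (flp_d L12042) L25003 L25005 (flp_e L45272) L92764 L110703 L110969 (flp_c L110965) (flp_b L110945) (flp_d L110941) L102082 (flp_d L96442) (flp_c L89154) (flp_b L38726) L18411 L8943 L4559 L66638 L4573 (flp_d L8963) L18467 L38864 (flp_c L88468) (flp_b L102715) (flp_d L102713) (flp_c L88430) (flp_d L88395) L102624 L102626 (flp_e L129650) L129653 L122658 (flp_d L114991) L95129 (flp_b L84249) (flp_d L84043) (flp_c L84035) (flp_d L23717) L11412 (flp_b L10976) L10978 (flp_c L82587) (flp_d L21414) (flp_c L44585) (flp_b L92237) (flp_d L147349) (flp_c L89622) (flp_d L88132) (flp_c L147561) L91748 (flp_d L46449) (flp_c L22345) L10763 L12845 L12849 (flp_e L24971) L84529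
theorem L148889 : N18219 = N9993 := (eqc rfl L148888 rfl).symm
theorem L148891 : sm gc N9993 = N13330 := trfs L148889 (flp_c L128973) rfl
theorem L148892 : N13330 = N12134 := eqes L148891 L95741
theorem L148893 : N13330 = N12134 := eqc rfl L148892 rfl
theorem L148894 : sm ge N9993 = N13365 := trfs L148889 L128975 rfl
theorem L148895 : N13365 = N12135 := eqes L148894 L95745
theorem L148896 : N13365 = N12135 := eqc rfl L148895 rfl
theorem L148897 : sm ga N12135 = N18273 := trfs L148896 (flp_a L129261) rfl
theorem L148898 : N18273 = N16130 := eqes L148897 (flp_a L116297)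
theorem L148899 : N18273 = N16130 := eqc rfl L148898 rfl
theorem L148901 : sm gc N12135 = N10677 := trfs L148896 (flp_c L102322) rfl
theorem L148902 : N10677 = N16133 := eqes L148901 (flp_c L116316)
theorem L148903 : N16133 = N10677 := (eqc rfl L148902 rfl).symm
theorem L148907 : sm gf N12135 = N18277 := trfs L148896 L129280 rfl
theorem L148908 : N18277 = N16135 := eqes L148907 L116324
theorem L148909 : N18277 = N16135 := eqc rfl L148908 rfl
theorem L148910 : sm gg N12135 = N18278 := trfs L148896 L129284 rfl
theorem L148911 : N18278 = N10051 := eqes L148910 L95748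
theorem L148912 : N18278 = N10051 := eqc rfl L148911 rfl
theorem L148913 : sm gc N10051 = N13367 := trfs L148912 L129286 rfl
theorem L148914 : N13367 = N12267 := eqes L148913 (flp_c L96446)
theorem L148915 : N13367 = N12267 := eqc rfl L148914 rfl
theorem L148916 : sm ga N12267 = N18275 := trfs L148915 (flp_a L129273) rfl
theorem L148917 : N18275 = N16373 := eqes L148916 (flp_a L117679)
theorem L148918 : N18275 = N16373 := eqc rfl L148917 rfl
theorem L148919 : sm gb N12267 = N18254 := trfs L148915 (flp_b L129150) rfl
theorem L148920 : N18254 = N16386 := eqes L148919 (flp_b L117755)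
theorem L148921 : N18254 = N16386 := eqc rfl L148920 rfl
theorem L148922 : sm gd N12267 = N10983 := trfs L148915 L102331 rfl
theorem L148923 : N10983 = N16391 := eqes L148922 L117781
theorem L148924 : N16391 = N10983 := (eqc rfl L148923 rfl).symm
theorem L148928 : sm gf N12267 = N18281 := trfs L148915 L129300 rfl
theorem L148929 : N18281 = N16392 := eqes L148928 L117783
theorem L148930 : N18281 = N16392 := eqc rfl L148929 rfl
theorem L148933 : sm ga N16392 = N18280 := trfs L148930 L129302 rfl
theorem L148935 : sm gd N16392 = N13953 := trfs L148930 L129304 rfl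
theorem L148937 : sm gg N16392 = N18274 := trfs L148930 L129306 rfl
theorem L148940 : sm gd N10983 = N12267 := trfs L148924 (flp_d L117781) rfl
theorem L148942 : sm gd N16386 = N13881 := trfs L148921 L129148 rfl
theorem L148944 : sm gg N16386 = N13353 := trfs L148921 (flp_g L129146) rfl
theorem L148946 : sm gd N16373 = N13946 := trfs L148918 L129275 rfl
theorem L148948 : sm gf N16373 = N18280 := trfs L148918 L129298 rfl
theorem L148950 : sm gg N16373 = N13364 := trfs L148918 (flp_g L129271) rfl
theorem L148952 : sm gc N16135 = N13366 := trfs L148909 L129282 rfl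
theorem L148955 : sm gc N10677 = N12135 := trfs L148903 L116316 rfl
theorem L148959 : sm gg N10677 = N12267 := trfs L148903 L116318 rfl
theorem L148961 : sm gb N16130 = N14039 := trfs L148899 L129263 rfl
theorem L148963 : sm gc N16130 = N13364 := trfs L148899 (flp_c L129259) rfl
theorem L148965 : sm ga N12134 = N18218 := trfs L148893 L128967 rfl
theorem L148966 : N18218 = N16129 := eqes L148965 (flp_a L116289)
theorem L148967 : N18218 = N16129 := eqc rfl L148966 rfl
theorem L148968 : sm gb N12134 = N10660 := trfs L148893 (flp_b L102142) rfl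
theorem L148969 : N10660 = N16131 := eqes L148968 L116303
theorem L148970 : N16131 = N10660 := (eqc rfl L148969 rfl).symm
theorem L148971 : sm gd N12134 = N18212 := trfs L148893 (flp_d L128921) rfl
theorem L148972 : N18212 = N16132 := eqes L148971 L116306
theorem L148973 : N18212 = N16132 := eqc rfl L148972 rfl
theorem L148974 : sm ge N12134 = N10677 := trfs L148893 L102144 rfl
theorem L148976 : sm gf N12134 = N18220 := trfs L148893 L128978 rfl
theorem L148977 : N18220 = N16134 := eqes L148976 L116320
theorem L148978 : N18220 = N16134 := eqc rfl L148977 rfl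
theorem L148979 : sm ge N16134 = N13366 := trfs L148978 L128980 rfl
theorem L148981 : sm gb N16132 = N13324 := trfs L148973 (flp_b L128919) rfl
theorem L148983 : sm gc N16132 = N15024 := trfs L148973 L128925 rfl
theorem L148984 : N15024 = N16070 := eqes L148983 (flp_c L116312)
theorem L148985 : N16070 = N15024 := (eqc rfl L148984 rfl).symm
theorem L148986 : sm ge N16132 = N13704 := trfs L148973 L128923 rfl
theorem L148988 : sm ga N15024 = N12105 := trfs L148985 L115916 rfl
theorem L148990 : sm gc N15024 = N16132 := trfs L148985 L116312 rfl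
theorem L148992 : sm gd N15024 = N12104 := trfs L148985 (flp_d L115914) rfl
theorem L148994 : sm gf N15024 = N16217 := trfs L148985 L116731 rfl
theorem L148996 : sm gg N15024 = N12175 := trfs L148985 L115918 rfl
theorem L148998 : sm gb N10660 = N12134 := trfs L148970 (flp_b L116303) rfl
theorem L149001 : sm gb N16129 = N13734 := trfs L148967 L128971 rfl
theorem L149003 : sm ge N16129 = N13364 := trfs L148967 L128969 rfl
theorem L149005 : N18342 = N14868 := coi_7_5 L109776 L92233 L44577 L92129 (flp_a L148199) L147353 L94355 L147357 (flp_a L104861) (flp_b L146168)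
theorem L149006 : N18342 = N14868 := eqc rfl L149005 rfl
theorem L149007 : sm gb N14868 = N13855 := trfs L149006 L146168 rfl
theorem L149009 : sm gg N14868 = N13398 := trfs L149006 (flp_g L129805) rfl
theorem L149011 : sm gd N18374 = N15417 := ded_14_2 (flp_b L112718) (flp_d L112712) L147381
theorem L149013 : sm gf N15820 = N18485 := ded_11_2 (flp_a L142869) L147400 (flp_a L114640)
theorem L149015 : sm gc N18485 = N15821 := ded_8_2 L114644 L147405 L142869
theorem L149017 : sm gc N18484 = N15824 := ded_21_3 (flp_g L114658) L147405 (flp_g L142867)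
theorem L149019 : sm gd N15820 = N18500 := ded_9_2 L142945 L147409 (flp_a L114640)
theorem L149021 : sm gd N15816 = N18503 := ded_24_3 (flp_g L142957) L147409 (flp_g L114626)
theorem L149023 : sm ge N18540 = N15587 := ded_25_1 (flp_f L113598) (flp_e L113572) L147441
theorem L149025 : sm gb N14644 = N17412 := ded_7_6 L124748 L99349 L86192 (flp_b L86208) L147450 L124537 (flp_a L143271) L143137 (flp_a L118990)
theorem L149027 : N15566 = N15488 := coi_31_8 (flp_b L113078) (flp_g L94064) (flp_f L47047) (flp_b L22645) L22659 L75726 L27604 L86105 (flp_f L147452) L86208 (flp_g L82719) (flp_f L47410) (flp_b L47382) L94309 L113496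
theorem L149028 : N15566 = N15488 := eqc rfl L149027 rfl
theorem L149029 : sm ga N15488 = N15565 := trfs L149028 L113498 rfl
theorem L149031 : sm gc N15488 = N11952 := trfs L149028 L113500 rfl
theorem L149033 : sm ge N15488 = N11853 := trfs L149028 L113502 rfl
theorem L149035 : sm gf N15488 = N11850 := trfs L149028 (flp_f L113496) rfl
theorem L149037 : sm gg N15488 = N15551 := trfs L149028 L113504 rfl
theorem L149039 : sm gf N17444 = N17361 := ded_20_2 L124477 L147456 L124900
theorem L149041 : sm ge N17433 = N17357 := ded_15_2 (flp_b L124459) L147465 L124850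
theorem L149043 : sm gb N17440 = N18352 := ded_15_3 L129848 L147467 (flp_e L124880)
theorem L149045 : sm gd N17364 = N17440 := ded_22_3 L124880 L99403 L147473 (flp_d L99179) (flp_e L124491)
theorem L149047 : N15571 = N15485 := coi_31_9 (flp_g L113054) (flp_f L94052) L47043 L47071 (flp_f L82683) (flp_b L86097) (flp_g L147475) (flp_f L86212) (flp_b L27936) L77867 (flp_f L22836) L22822 L47390 L94325 L113520
theorem L149048 : N15571 = N15485 := eqc rfl L149047 rfl
theorem L149049 : sm gb N15485 = N11853 := trfs L149048 (flp_b L113520) rfl
theorem L149051 : sm gc N18236 = N14793 := ded_8_2 L109438 L147573 (flp_a L129058)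
theorem L149053 : sm gc N18239 = N14783 := ded_21_3 (flp_g L109402) L147573 L129070
theorem L149055 : sm gd N14591 = N19051 := ded_28_5 L146162 (flp_d L129060) L129058 (flp_c L147573) L108679 L91754 (flp_d L91698) (flp_c L108541)
theorem L149057 : sm gb N17006 = N16814 := ded_15_3 L121853 L147613 (flp_e L122774)
theorem L149059 : N17010 = N12525 := coi_13_5 (flp_b L97688) (flp_c L97674) L147613 L98248 L98262 L122790
theorem L149060 : N17010 = N12525 := eqc rfl L149059 rfl
theorem L149061 : sm gc N12525 = N12637 := trfs L149060 (flp_c L122790) rfl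
theorem L149062 : N12637 = N16818 := eqes L149061 L121869
theorem L149063 : N16818 = N12637 := (eqc rfl L149062 rfl).symm
theorem L149064 : sm gc N12637 = N12525 := trfs L149063 (flp_c L121869) rfl
theorem L149066 : N16739 = N16571 := coi_17_4 (flp_g L119211) (flp_b L97660) L97670 L147613 (flp_g L98252) L121470
theorem L149067 : N16739 = N16571 := eqc rfl L149066 rfl
theorem L149068 : sm gb N16571 = N12472 := trfs L149067 (flp_b L121470) rfl
theorem L149070 : N16735 = N16570 := coi_31_8 (flp_b L118882) (flp_g L96975) L96971 L118870 (flp_g L120629) L97265 (flp_b L97262) L97280 (flp_f L97678) L147613 (flp_g L98252) (flp_f L97451) L97433 L97436 L121449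
theorem L149071 : N16735 = N16570 := eqc rfl L149070 rfl
theorem L149073 : sm gf N16570 = N12469 := trfs L149071 (flp_f L121449) rfl
theorem L149075 : sm gb N15302 = N15264 := ded_15_3 L111990 L147616 (flp_e L112220)
theorem L149077 : N15308 = N11683 := coi_13_5 (flp_b L93498) (flp_c L93492) L147616 L93631 L93637 L112254
theorem L149078 : N15308 = N11683 := eqc rfl L149077 rfl
theorem L149079 : sm gc N11683 = N11715 := trfs L149078 (flp_c L112254) rfl
theorem L149080 : N11715 = N15270 := eqes L149079 L112024
theorem L149081 : N15270 = N11715 := (eqc rfl L149080 rfl).symm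
theorem L149082 : sm gf N11683 = N11776 := trfs L149078 L112256 rfl
theorem L149083 : N11776 = N15271 := eqes L149082 L112028
theorem L149084 : N15271 = N11776 := (eqc rfl L149083 rfl).symm
theorem L149085 : sm ga N11776 = N15371 := trfs L149084 (flp_a L112526) rfl
theorem L149086 : N15371 = N15425 := eqes L149085 (flp_a L112752)
theorem L149087 : N15425 = N15371 := (eqc rfl L149086 rfl).symm
theorem L149088 : sm gd N11776 = N11686 := trfs L149084 L112030 rfl
theorem L149089 : N11686 = N15427 := eqes L149088 L112762
theorem L149090 : N15427 = N11686 := (eqc rfl L149089 rfl).symm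
theorem L149091 : sm gf N11776 = N11683 := trfs L149084 (flp_f L112028) rfl
theorem L149093 : sm gg N11776 = N14019 := trfs L149084 (flp_g L120591) rfl
theorem L149094 : N14019 = N15428 := eqes L149093 L112764
theorem L149095 : N15428 = N14019 := (eqc rfl L149094 rfl).symm
theorem L149096 : sm gc N14019 = N11777 := trfs L149095 L112766 rfl
theorem L149098 : sm gg N14019 = N11776 := trfs L149095 (flp_g L112764) rfl
theorem L149100 : sm gd N11686 = N11776 := trfs L149090 (flp_d L112762) rfl
theorem L149102 : sm ga N15371 = N11776 := trfs L149087 L112752 rfl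
theorem L149104 : sm gc N15371 = N11775 := trfs L149087 (flp_c L112750) rfl
theorem L149106 : sm gc N11715 = N11683 := trfs L149081 (flp_c L112024) rfl
theorem L149108 : sm gg N11715 = N11747 := trfs L149081 L112026 rfl
theorem L149109 : N11747 = N15309 := eqes L149108 L112258
theorem L149110 : N15309 = N11747 := (eqc rfl L149109 rfl).symm
theorem L149111 : sm ga N11747 = N15429 := trfs L149110 (flp_a L112770) rfl
theorem L149112 : N15429 = N15367 := eqes L149111 (flp_a L112508)
theorem L149113 : N15429 = N15367 := eqc rfl L149112 rfl
theorem L149114 : sm gd N11747 = N11718 := trfs L149110 L112260 rfl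
theorem L149115 : N11718 = N15369 := eqes L149114 L112518
theorem L149116 : N15369 = N11718 := (eqc rfl L149115 rfl).symm
theorem L149117 : sm gf N11747 = N15426 := trfs L149110 (flp_f L112760) rfl
theorem L149118 : N15426 = N15370 := eqes L149117 L112520
theorem L149119 : N15426 = N15370 := eqc rfl L149118 rfl
theorem L149120 : sm gg N11747 = N11715 := trfs L149110 (flp_g L112258) rfl
theorem L149122 : sm ga N15370 = N11777 := trfs L149119 L112756 rfl
theorem L149124 : sm gd N15370 = N11779 := trfs L149119 L112758 rfl
theorem L149126 : sm gg N15370 = N11775 := trfs L149119 (flp_g L112754) rfl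
theorem L149128 : sm gd N11718 = N11747 := trfs L149116 (flp_d L112518) rfl
theorem L149130 : sm gd N15367 = N11780 := trfs L149113 L112772 rfl
theorem L149132 : sm gf N15367 = N11777 := trfs L149113 (flp_f L112768) rfl
theorem L149134 : sm gg N15367 = N15307 := trfs L149113 L112774 rfl
theorem L149136 : sm gb N15304 = N15262 := ded_17_3 (flp_g L111980) (flp_b L93482) L93490 L147616 L112224
theorem L149138 : sm gg N16535 = N16986 := ded_21_2 L122680 L147645 (flp_c L118693)
theorem L149140 : sm gg N17035 = N16842 := ded_31_6 (flp_f L121992) (flp_b L97746) (flp_g L85475) (flp_f L85266) L97262 L120629 L118874 (flp_b L118870) L118876 L147649 (flp_b L98234) (flp_g L97423) L98325 L122907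
theorem L149142 : sm ge N16986 = N16537 := ded_19_2 L118709 L147654 (flp_c L122680)
theorem L149144 : sm gb N16537 = N16988 := ded_13_3 L122692 L98210 (flp_c L98242) L147656 (flp_c L118709)
theorem L149146 : sm gb N14333 = N16731 := ded_17_5 L121432 L147656 (flp_g L96926) (flp_b L90922) L107135
theorem L149148 : N16578 = N16738 := coi_31_0 L122776 (flp_f L122768) L147656 (flp_g L96926) L96920 (flp_b L119741) L121845 L121855 (flp_b L118905) (flp_g L96984) (flp_f L85142) L26662 L85146 L96995 L118921
theorem L149149 : N16738 = N16578 := (eqc rfl L149148 rfl).symm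
theorem L149150 : sm ga N16578 = N17031 := trfs L149149 (flp_a L122889) rfl
theorem L149152 : sm gc N16578 = N12473 := trfs L149149 L121466 rfl
theorem L149154 : sm ge N16578 = N12472 := trfs L149149 L121468 rfl
theorem L149156 : sm gf N16578 = N12471 := trfs L149149 (flp_f L121464) rfl
theorem L149158 : sm gg N16578 = N17006 := trfs L149149 L122776 rfl
theorem L149160 : sm gd N17006 = N16547 := ded_23_3 (flp_f L118752) L147664 L122768
theorem L149162 : sm gd N16731 = N14335 := ded_24_3 L107149 L147664 (flp_g L121432)
theorem L149164 : sm gd N13950 = N16546 := ded_28_5 (flp_c L118748) L147664 L98240 L85674 (flp_d L84835) (flp_c L96446) (flp_d L148940) (flp_c L105232)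
theorem L149166 : sm ga N16546 = N17028 := ded_8_3 (flp_c L122876) L147673 L118748
theorem L149168 : sm ga N16547 = N17029 := ded_11_3 (flp_f L122878) L147673 L118752
theorem L149170 : sm gg N17029 = N16590 := ded_29_1 L120712 L107149 (flp_a L147673) L122878
theorem L149172 : N16734 = N16577 := coi_14_2 L118919 L120663 L147679 (flp_b L121445)
theorem L149173 : N16734 = N16577 := eqc rfl L149172 rfl
theorem L149174 : sm gb N16577 = N12471 := trfs L149173 L121445 rfl
theorem L149177 : sm ge N16577 = N12469 := trfs L149173 (flp_e L121443) rfl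
theorem L149180 : sm gc N14335 = N13948 := ded_28_0 (flp_d L105224) (flp_c L89769) (flp_d L88190) L148955 L95750 (flp_c L97447) (flp_d L147679) (flp_a L120696)
theorem L149182 : sm ga N16986 = N16563 := ded_8_3 L118848 L147683 (flp_c L122680)
theorem L149184 : sm gd N18170 = N17035 := ded_14_2 (flp_b L122907) (flp_d L111787) L147687
theorem L149186 : N16724 = N18468 := coi_13_5 (flp_b L130614) L102922 L147694 (flp_c L97419) (flp_b L97411) L121396
theorem L149187 : N18468 = N16724 := (eqc rfl L149186 rfl).symm
theorem L149188 : sm ga N16724 = N15905 := trfs L149187 L148605 rfl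
theorem L149190 : sm gb N16724 = N13481 := trfs L149187 (flp_b L130614) rfl
theorem L149192 : sm gd N16724 = N13487 := trfs L149187 L130616 rfl
theorem L149194 : sm gg N16724 = N15899 := trfs L149187 L148578 rfl
theorem L149196 : sm gf N17035 = N18166 := ded_16_4 (flp_b L128621) (flp_f L101821) L147694 L98325 L122907
theorem L149198 : N16732 = N12469 := coi_7_4 (flp_b L97433) (flp_a L97421) (flp_b L147694) L101801 L87989 (flp_a L101801) L147694 L97421 L97433 L121434
theorem L149199 : N16732 = N12469 := eqc rfl L149198 rfl
theorem L149200 : sm ga N12469 = N12469 := trfs L149199 (flp_a L121434) rfl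
theorem L149203 : sm gb N16842 = N17034 := ded_31_11 (flp_g L122905) L98318 (flp_b L98316) L98319 (flp_f L98325) (flp_b L147694) (flp_g L101799) L101793 L119745 (flp_g L97755) (flp_f L97749) L97746 L97748 L121992
theorem L149205 : sm ga N16733 = N16733 := ded_7_3 L121440 L97439 (flp_b L147697) L87973 L83336 (flp_a L87973) L147697 (flp_a L97439) (flp_b L121440)
theorem L149206 : sm gd N16066 = N14526 := ded_32_29 (flp_c L108180) L91469 (flp_d L43484) (flp_c L20817) L10003 (flp_c L82472) L82417 (flp_d L10525) L21849 L45459 L45805 (flp_b L93083) (flp_d L93081) (flp_c L79741) (flp_d L84980) (flp_c L96424) (flp_b L96422) L96426 (flp_c L96430) (flp_d L95929) (flp_c L84615) L84611 (flp_e L92746) L92744 (flp_c L102019) (flp_d L102112) (flp_c L102104) (flp_b L88084) L32840 L15812 L7767 L54652 L76774 (flp_d L7767) (flp_c L15812) (flp_d L32840) L56088 L38726 L38728 L38762 L89242 (flp_c L96432) (flp_b L117529) (flp_d L117527) L96331 L96372 (flp_c L117537) L130105 L130109 (flp_d L114388) (flp_c L94783) (flp_d L84009) (flp_c L47384) L47382 L47408 L94353 L94359 L86124 L27836 L27839 L79362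 (flp_d L22796) (flp_c L47318) L148260 L88540 L37173 (flp_d L33080) (flp_c L87975) L147697 L97425 (flp_c L97419) (flp_d L85327) (flp_c L26735) L26733 (flp_e L84519) (flp_d L95588) L115900
theorem L149208 : sm gc N14705 = N13859 := ded_28_6 (flp_d L129074) (flp_a L147701) L109430 L92053 L44213 (flp_d L44149) (flp_c L91912) (flp_d L109087)
theorem L149210 : sm ga N14705 = N19032 := ded_28_8 L145991 (flp_d L147703) L109430 L92053 L44213 (flp_d L44149) (flp_c L91912) (flp_d L109087)
theorem L149212 : sm gc N17823 = N14711 := ded_13_4 (flp_b L109113) (flp_c L109095) L147753 L137022 (flp_b L126712)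
theorem L149214 : sm ge N14870 = N14591 := ded_10_2 (flp_a L109093) L147758 (flp_a L109784)
theorem L149216 : sm ge N14711 = N18686 := ded_15_2 (flp_b L144001) L147772 L109113
theorem L149218 : N18668 = N18672 := coi_31_11 (flp_b L144047) (flp_g L144045) (flp_f L144003) (flp_b L144001) (flp_g L147789) (flp_f L91836) (flp_b L44115) (flp_g L21173) L21169 L44105 L91820 (flp_f L119517) L143873 L143877 L143905
theorem L149219 : N18672 = N18668 := (eqc rfl L149218 rfl).symm
theorem L149220 : sm gb N18668 = N18693 := trfs L149219 (flp_b L144047) rfl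
theorem L149221 : N18693 = N18696 := eqes L149220 (flp_b L144071)
theorem L149222 : N18696 = N18693 := (eqc rfl L149221 rfl).symm
theorem L149223 : sm gc N18668 = N14864 := trfs L149219 L143929 rfl
theorem L149225 : sm gg N18668 = N13632 := trfs L149219 (flp_g L143927) rfl
theorem L149227 : sm ga N18693 = N14689 := trfs L149222 L144065 rfl
theorem L149229 : sm gb N18693 = N18668 := trfs L149222 L144071 rfl
theorem L149231 : sm gc N18693 = N14890 := trfs L149222 L144067 rfl
theorem L149233 : sm gd N18693 = N14754 := trfs L149222 L144069 rfl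
theorem L149235 : sm gf N18693 = N13649 := trfs L149222 (flp_f L144063) rfl
theorem L149237 : sm ge N14156 = N14486 := ded_15_2 (flp_b L107973) (flp_e L107893) L147835
theorem L149239 : sm gb N14155 = N14725 := ded_31_5 (flp_g L109173) (flp_f L91944) (flp_b L44155) L44161 L44165 L91724 L91726 L91734 L91736 L108481 (flp_f L108487) L147835 (flp_g L106188) L106184
theorem L149241 : sm gg N14154 = N14486 := ded_17_4 (flp_b L107973) (flp_g L107759) L147838 L103674 (flp_b L106182)
theorem L149243 : sm gd N17207 = N18323 := ded_32_27 (flp_c L129703) (flp_d L148149) (flp_c L91802) (flp_b L44101) L21167 L17537 L8555 L4383 L74933 (flp_d L5021) (flp_c L9883) (flp_d L20543) L20541 L37231 L37233 L37257 L88736 L147930 (flp_b L148025) (flp_d L90265) L40243 L19101 L82583 L18073 (flp_e L10409) (flp_d L5243) (flp_c L2721) (flp_d L2656) L82444 L73145 L2773 L2867 L5569 (flp_c L82630) L6779 (flp_d L6777) (flp_c L3468) L82636 (flp_c L2775) (flp_b L1422) L671 L301 L149 L78 L154 (flp_d L323) L721 L1536 L65398 (flp_b L4735) L9389 (flp_d L19101) (flp_c L40243) L90265 (flp_c L129610) (flp_b L103474)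 L88920 (flp_c L88914) (flp_d L37470) (flp_c L17934) L81757 (flp_d L17868) L37305 L88796 L88940 L147842 (flp_d L148090) L88932 L92231 L109790 L109792 L123874 (flp_c L123878) (flp_d L123728) (flp_c L98812) L98808 (flp_e L123678)
theorem L149245 : sm gb N14666 = N17336 := ded_31_5 (flp_g L124397) (flp_f L124391) L99131 (flp_g L92170) L92166 L92168 L94064 (flp_f L94068) (flp_b L148120) (flp_g L109075) (flp_f L108539) L147853 (flp_g L147858) L108915
theorem L149247 : N14160 = N14102 := coi_31_6 (flp_g L105883) (flp_f L119564) (flp_b L91844) L91852 L91858 L108507 L108511 L108519 L108523 L108911 (flp_f L108903) (flp_b L147869) (flp_g L90247) L90243 L106208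
theorem L149248 : N14160 = N14102 := eqc rfl L149247 rfl
theorem L149249 : sm gb N14102 = N11083 := trfs L149248 (flp_b L106208) rfl
theorem L149251 : sm gf N14102 = N11089 := trfs L149248 L106210 rfl
theorem L149253 : N14118 = N14296 := coi_30_18 (flp_b L106923) (flp_a L90758) (flp_f L90756) (flp_c L90249) L147869 (flp_a L91828) L91836 (flp_c L108917) L149245 L124359 (flp_f L99123) (flp_c L99081) (flp_b L99079) (flp_a L99055) (flp_f L141116) (flp_c L94634) (flp_b L141120) (flp_a L90125) L139079 L105971
theorem L149254 : N14296 = N14118 := (eqc rfl L149253 rfl).symm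
theorem L149255 : sm gb N14118 = N11171 := trfs L149254 (flp_b L106923) rfl
theorem L149257 : sm gd N14118 = N15924 := trfs L149254 (flp_d L115150) rfl
theorem L149259 : sm ge N14152 = N14115 := ded_10_2 L120475 L147881 (flp_a L106172)
theorem L149261 : sm ge N14162 = N14113 := ded_25_3 L120471 L147881 L106218
theorem L149263 : sm gg N14115 = N14150 := ded_12_2 L106160 L147892 (flp_a L120475)
theorem L149265 : N14291 = N14114 := coi_21_3 (flp_c L105953) (flp_g L105897) L147894 L106899
theorem L149266 : N14291 = N14114 := eqc rfl L149265 rfl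
theorem L149267 : sm ga N14114 = N14292 := trfs L149266 (flp_a L106907) rfl
theorem L149269 : sm gd N14114 = N18489 := trfs L149266 (flp_d L142889) rfl
theorem L149271 : sm ge N14114 = N11171 := trfs L149266 L106901 rfl
theorem L149273 : sm gf N14114 = N14284 := trfs L149266 (flp_f L106903) rfl
theorem L149275 : sm gg N14114 = N11168 := trfs L149266 (flp_g L106899) rfl
theorem L149277 : N14290 = N14244 := coi_13_2 (flp_c L106689) (flp_b L90632) (flp_c L90073) L105895 L147894 L106893
theorem L149278 : N14290 = N14244 := eqc rfl L149277 rfl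
theorem L149279 : sm gb N14244 = N11168 := trfs L149278 (flp_b L106893) rfl
theorem L149281 : sm ge N14244 = N11170 := trfs L149278 L106895 rfl
theorem L149283 : sm gf N14244 = N11174 := trfs L149278 L106897 rfl
theorem L149285 : sm gc N14775 = N18604 := ded_28_0 L143537 L103326 (flp_d L103184) (flp_c L129596) L106885 (flp_c L147894) L120465 L109372
theorem L149287 : N14161 = N14111 := coi_26_3 L105939 (flp_g L105897) L147899 L106212
theorem L149288 : N14161 = N14111 := eqc rfl L149287 rfl
theorem L149289 : sm ga N14111 = N14162 := trfs L149288 (flp_a L106220) rfl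
theorem L149291 : sm gc N14111 = N11171 := trfs L149288 L106214 rfl
theorem L149293 : sm gf N14111 = N14152 := trfs L149288 (flp_f L106216) rfl
theorem L149295 : sm gg N14111 = N11083 := trfs L149288 (flp_g L106212) rfl
theorem L149297 : N14168 = N14105 := coi_16_4 (flp_f L105899) L105895 L147901 L90239 L90267 L106256
theorem L149298 : N14168 = N14105 := eqc rfl L149297 rfl
theorem L149299 : sm gb N14105 = N11088 := trfs L149298 (flp_b L106256) rfl
theorem L149301 : sm ge N14105 = N11089 := trfs L149298 L106258 rfl
theorem L149303 : sm gc N14292 = N14113 := ded_28_4 L120469 (flp_c L109356) L147956 (flp_a L103348) L103350 (flp_d L103204) (flp_c L148430) L148432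
theorem L149305 : sm gd N18615 = N18629 := ded_14_2 L143673 L147960 L143593
theorem L149307 : sm gc N13884 = N14522 := ded_13_2 (flp_b L108158) (flp_c L91453) L91449 L108146 L147965
theorem L149309 : sm ga N13884 = N14522 := ded_7_1 (flp_b L108158) L91455 L43410 L82452 L45797 L93075 L111365 (flp_a L112139) L147965
theorem L149311 : sm gg N18603 = N15138 := ded_12_2 (flp_a L112139) L147967 (flp_a L143531)
theorem L149313 : sm gc N14115 = N14284 := ded_28_2 (flp_d L129590) (flp_c L103010) L88586 L88616 L147972 (flp_a L112133) L112135 (flp_d L120477)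
theorem L149315 : sm gb N18376 = N17239 := ded_15_3 (flp_e L123850) L147979 (flp_e L130004)
theorem L149317 : N17247 = N12766 := coi_13_1 L147979 (flp_c L103056) L103054 (flp_c L148494) (flp_b L98874) (flp_c L123886)
theorem L149318 : N17247 = N12766 := eqc rfl L149317 rfl
theorem L149319 : sm gc N12766 = N12771 := trfs L149318 L123886 rfl
theorem L149320 : N12771 = N17238 := eqes L149319 L123844
theorem L149321 : N17238 = N12771 := (eqc rfl L149320 rfl).symm
theorem L149322 : sm gg N12766 = N12769 := trfs L149318 (flp_g L123884) rfl
theorem L149323 : N12769 = N17240 := eqes L149322 L123854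
theorem L149324 : N17240 = N12769 := (eqc rfl L149323 rfl).symm
theorem L149327 : sm gd N12769 = N12767 := trfs L149324 L123858 rfl
theorem L149328 : N12767 = N17245 := eqes L149327 L123874
theorem L149329 : N17245 = N12767 := (eqc rfl L149328 rfl).symm
theorem L149330 : sm gf N12769 = N17056 := trfs L149324 L123860 rfl
theorem L149331 : N17056 = N17054 := eqes L149330 (flp_f L122985)
theorem L149332 : N17056 = N17054 := eqc rfl L149331 rfl
theorem L149333 : sm gg N12769 = N12766 := trfs L149324 (flp_g L123854) rfl
theorem L149335 : sm ga N17054 = N17249 := trfs L149332 (flp_a L123896) rfl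
theorem L149337 : sm gd N17054 = N12660 := trfs L149332 L122995 rfl
theorem L149339 : sm gg N17054 = N12659 := trfs L149332 (flp_g L122993) rfl
theorem L149344 : sm gc N12767 = N17218 := trfs L149329 (flp_c L123878) rfl
theorem L149345 : N17218 = N10299 := eqes L149344 L98858
theorem L149346 : N17218 = N10299 := eqc rfl L149345 rfl
theorem L149347 : sm gd N12767 = N12769 := trfs L149329 (flp_d L123874) rfl
theorem L149349 : sm ga N10299 = N12758 := trfs L149346 L123730 rfl
theorem L149350 : N12758 = N5638 := eqes L149349 L85918
theorem L149351 : N12758 = N5638 := eqc rfl L149350 rfl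
theorem L149352 : sm gd N10299 = N12756 := trfs L149346 (flp_d L123728) rfl
theorem L149353 : N12756 = N12757 := eqes L149352 (flp_d L98820)
theorem L149354 : N12757 = N12756 := (eqc rfl L149353 rfl).symm
theorem L149355 : sm ga N12756 = N10296 := trfs L149354 L98818 rfl
theorem L149356 : N10296 = N10295 := eqes L149355 L98814
theorem L149357 : N10296 = N10295 := eqc rfl L149356 rfl
theorem L149358 : sm gb N12756 = N17220 := trfs L149354 L123740 rfl
theorem L149359 : N17220 = N17217 := eqes L149358 L123726
theorem L149360 : N17220 = N17217 := eqc rfl L149359 rfl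
theorem L149361 : sm gc N12756 = N17219 := trfs L149354 (flp_c L123736) rfl
theorem L149362 : N17219 = N10294 := eqes L149361 (flp_c L98812)
theorem L149363 : N17219 = N10294 := eqc rfl L149362 rfl
theorem L149364 : sm gd N12756 = N10299 := trfs L149354 L98820 rfl
theorem L149366 : sm ge N12756 = N17209 := trfs L149354 (flp_e L123690) rfl
theorem L149367 : N17209 = N17208 := eqes L149366 (flp_e L123684)
theorem L149368 : N17209 = N17208 := eqc rfl L149367 rfl
theorem L149369 : sm gf N12756 = N12655 := trfs L149354 L98822 rfl
theorem L149370 : N12655 = N17041 := eqes L149369 (flp_f L122937)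
theorem L149371 : N17041 = N12655 := (eqc rfl L149370 rfl).symm
theorem L149374 : sm ga N12655 = N12654 := trfs L149371 L122935 rfl
theorem L149375 : N12654 = N12760 := eqes L149374 (flp_a L98833)
theorem L149376 : N12760 = N12654 := (eqc rfl L149375 rfl).symm
theorem L149377 : sm gc N12655 = N12653 := trfs L149371 (flp_c L122933) rfl
theorem L149378 : N12653 = N17043 := eqes L149377 (flp_c L122945)
theorem L149379 : N17043 = N12653 := (eqc rfl L149378 rfl).symm
theorem L149380 : sm gf N12655 = N12756 := trfs L149371 L122937 rfl
theorem L149382 : sm gg N12655 = N17225 := trfs L149371 (flp_g L123763) rfl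
theorem L149383 : N17225 = N10245 := eqes L149382 (flp_g L98351)
theorem L149384 : N17225 = N10245 := eqc rfl L149383 rfl
theorem L149387 : sm gf N10245 = N12759 := trfs L149384 (flp_f L123757) rfl
theorem L149388 : N12759 = N5635 := eqes L149387 L85688
theorem L149389 : N12759 = N5635 := eqc rfl L149388 rfl
theorem L149398 : sm ge N5635 = N17211 := trfs L149389 (flp_e L123701) rfl
theorem L149399 : N17211 = N10293 := eqes L149398 (flp_e L85896)
theorem L149400 : N17211 = N10293 := eqc rfl L149399 rfl
theorem L149403 : sm gc N10293 = N12754 := trfs L149400 L123699 rfl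
theorem L149404 : N12754 = N12753 := eqes L149403 L98798
theorem L149405 : N12754 = N12753 := eqc rfl L149404 rfl
theorem L149410 : sm gd N12753 = N16485 := trfs L149405 (flp_d L118372) rfl
theorem L149411 : N16485 = N17210 := eqes L149410 L123694
theorem L149412 : N17210 = N16485 := (eqc rfl L149411 rfl).symm
theorem L149414 : sm gf N12753 = N17212 := trfs L149405 L123703 rfl
theorem L149415 : N17212 = N17037 := eqes L149414 (flp_f L122919)
theorem L149416 : N17212 = N17037 := eqc rfl L149415 rfl
theorem L149417 : sm gg N12753 = N10293 := trfs L149405 (flp_g L98803) rfl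
theorem L149419 : sm ga N17037 = N17038 := trfs L149416 L123705 rfl
theorem L149422 : sm gg N17037 = N17036 := trfs L149416 L123709 rfl
theorem L149425 : sm gd N16485 = N12753 := trfs L149412 (flp_d L123694) rfl
theorem L149430 : sm gc N12653 = N12655 := trfs L149379 L122945 rfl
theorem L149435 : sm ga N12654 = N12655 := trfs L149376 L98833 rfl
theorem L149437 : sm gb N12654 = N17226 := trfs L149376 L123765 rfl
theorem L149438 : N17226 = N17033 := eqes L149437 (flp_b L122903)
theorem L149439 : N17226 = N17033 := eqc rfl L149438 rfl
theorem L149440 : sm gd N12654 = N10302 := trfs L149376 L98835 rfl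
theorem L149441 : N10302 = N17042 := eqes L149440 L122939
theorem L149442 : N17042 = N10302 := (eqc rfl L149441 rfl).symm
theorem L149444 : sm gg N12654 = N12653 := trfs L149376 L98837 rfl
theorem L149446 : sm gd N10302 = N12654 := trfs L149442 (flp_d L122939) rfl
theorem L149449 : sm gd N17033 = N12773 := trfs L149439 L123767 rfl
theorem L149452 : sm gf N17208 = N17038 := trfs L149368 L123692 rfl
theorem L149454 : sm gg N17208 = N12752 := trfs L149368 (flp_g L123686) rfl
theorem L149456 : sm gg N10294 = N12756 := trfs L149363 (flp_g L123732) rfl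
theorem L149458 : sm gd N17217 = N12768 := trfs L149360 L123742 rfl
theorem L149463 : sm gg N10295 = N5635 := trfs L149357 (flp_g L85905) rfl
theorem L149467 : sm gd N5638 = N10295 := trfs L149351 (flp_d L98824) rfl
theorem L149474 : sm ga N12771 = N12769 := trfs L149321 L123846 rfl
theorem L149476 : sm gc N12771 = N12766 := trfs L149321 (flp_c L123844) rfl
theorem L149478 : N18601 = N14872 := coi_17_5 L109792 L149333 L147979 L103060 L103316 L143521
theorem L149479 : N18601 = N14872 := eqc rfl L149478 rfl
theorem L149480 : sm gg N14872 = N13572 := trfs L149479 (flp_g L143521) rfl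
theorem L149482 : sm gg N14522 = N13958 := ded_26_2 (flp_e L105266) L148001 (flp_e L108160)
theorem L149484 : sm gg N14619 = N13955 := ded_17_4 L105252 L148001 (flp_b L92029) (flp_g L91744) L108659
theorem L149486 : sm gb N13879 = N14781 := ded_13_5 (flp_c L109386) L148010 (flp_c L89656) L89654 L104953
theorem L149488 : sm gb N13957 = N14620 := ded_17_5 L108665 L148010 L89660 L89775 L105264
theorem L149490 : sm gg N17241 = N18599 := ded_17_4 L143517 L148023 (flp_b L98848) L98854 L123862
theorem L149492 : sm gd N17820 = N14802 := ded_14_2 L109472 L148054 L126702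
theorem L149494 : sm gc N14619 = N14056 := ded_13_4 (flp_b L129627) L148070 (flp_b L91738) L91740 L108659
theorem L149496 : sm ga N14706 = N17339 := ded_30_7 (flp_f L124375) (flp_c L141060) (flp_b L94686) (flp_a L86755) (flp_f L86759) (flp_c L83947) L83941 L139156 (flp_f L139079) L90133 (flp_b L105955) L149267 (flp_f L106905) L148079 (flp_b L91892) (flp_a L44141) L44147 (flp_c L91912) L109089
theorem L149498 : sm ge N14880 = N14701 := ded_10_2 L109071 (flp_e L108919) L148081
theorem L149500 : sm gb N17418 = N17342 := ded_17_3 L124397 (flp_b L149245) L148083 (flp_b L99355) L124778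
theorem L149502 : sm gf N17820 = N14711 := ded_16_4 (flp_b L109113) (flp_f L91926) L148102 L139761 L126702
theorem L149504 : sm gb N15473 = N14880 := ded_15_3 L149498 L148120 (flp_e L113002)
theorem L149506 : N15632 = N14702 := coi_13_5 (flp_b L109077) (flp_c L109073) L148120 L94034 L94502 L113817
theorem L149507 : N15632 = N14702 := eqc rfl L149506 rfl
theorem L149508 : sm gc N14702 = N11885 := trfs L149507 (flp_c L113817) rfl
theorem L149510 : sm gb N15467 = N14591 := ded_17_5 L109075 L148120 (flp_g L94030) L94006 L112956
theorem L149512 : sm ga N18712 = N14704 := ded_10_3 (flp_e L109083) L148132 (flp_e L144179)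
theorem L149514 : sm gg N14705 = N13858 := ded_29_1 (flp_f L104871) (flp_g L104827) (flp_a L148132) L109085
theorem L149516 : sm gg N18727 = N14704 := ded_26_2 (flp_e L109083) L148139 (flp_e L144257)
theorem L149518 : sm gb N14704 = N18291 := ded_15_3 L129369 L148141 L109083
theorem L149520 : N18324 = N18347 := coi_28_2 (flp_c L129823) (flp_d L102481) (flp_c L88302) (flp_d L44103) L91802 L148149 (flp_a L102430) L102434 L129709
theorem L149521 : N18347 = N18324 := (eqc rfl L149520 rfl).symm
theorem L149523 : sm gc N18324 = N13401 := trfs L149521 (flp_c L129823) rfl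
theorem L149525 : sm ga N17207 = N18324 := ded_28_8 L149523 (flp_d L102481) (flp_c L88302) (flp_d L44103) L91802 L148149 L129703 (flp_d L149243)
theorem L149527 : sm gc N18344 = N17207 := ded_28_0 L149243 (flp_c L129703) (flp_d L148149) (flp_c L91802) L44103 L88302 L102481 (flp_a L129811)
theorem L149529 : sm gc N14639 = N14648 := ded_8_2 L108809 (flp_c L108821) L148159
theorem L149531 : sm gb N15715 = N18543 := ded_13_3 L143181 L103170 (flp_c L108821) L148161 L140974
theorem L149533 : sm gf N17335 = N14706 := ded_16_2 (flp_b L109089) (flp_f L91910) (flp_b L91804) L108819 L148161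
theorem L149535 : sm gd N14666 = N18341 := ded_23_3 (flp_f L129803) L148183 L108915
theorem L149537 : sm gd N14704 = N18300 := ded_22_5 L129440 L148183 L91834 L91908 L109083
theorem L149539 : sm gc N14704 = N18711 := ded_19_3 L144173 L148189 L109083
theorem L149541 : N16485 = N18252 := coi_32_2 (flp_c L129139) L102271 L104953 L149486 L148193 L148189 (flp_d L91908) (flp_c L44145) (flp_b L21187) L10167 L5137 L2677 (flp_c L2306) L4457 (flp_d L8695) L17872 L37311 L88802 L103474 (flp_d L103634) L129619 L88928 L82585 L81714 (flp_e L19441) (flp_d L9373) (flp_c L4723) (flp_d L4601) (flp_c L82512) (flp_b L4417) L2292 L1184 (flp_d L1364) L1363 L2654 L2656 L2721 L5243 L82593 L2879 (flp_d L1536) (flp_c L721) L323 L344 L347 L767 L1572 L3052 (flp_c L3056) L82156 L5761 (flp_d L11406) (flp_c L23705) L83987 L83993 (flp_b L90736) (flp_d L90734) (flp_c L90241) (flp_d L147915) (flp_c L147930) L88738 (flp_d L37311) (flp_c L17872) L8695 L8735 L8741 L10279 L21406 L44575 (flp_c L80557) (flp_b L85924) (flp_d L85922) (flp_c L27233) (flp_d L27229) L85902 L85904 (flp_e L98800) (flp_d L149425)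
theorem L149542 : N18252 = N16485 := (eqc rfl L149541 rfl).symm
theorem L149544 : sm gc N16485 = N13353 := trfs L149542 (flp_c L129139) rfl
theorem L149546 : sm gd N19029 = N13879 := ded_14_2 L149486 L148193 L145977
theorem L149548 : sm gc N14577 = N17241 := ded_32_61 (flp_b L123862) L149347 (flp_c L98864) (flp_d L85922) (flp_c L27233) (flp_b L13072) (flp_d L13070) L76217 L13070 L6438 L6440 L6442 L6561 L13369 L27830 L86117 L147497 L148204 (flp_c L102176) L102178 L89592 L89602 L147717 (flp_c L92045) (flp_d L44207) (flp_c L21211) (flp_b L10177) (flp_d L10167) (flp_c L21165) L21167 L17537 L17543 L17545 L78764 (flp_d L17545) L36628 (flp_b L88304) L102481 (flp_c L149523) (flp_d L129709) (flp_c L102434) (flp_b L88281) (flp_e L88226) L88224 L36496 L17489 L8529 L8615 (flp_d L17674) L36885 L88464 L88468 (flp_b L89244) (flp_d L89242) (flp_c L38762) (flp_d L38728) L89154 (flp_b L102110) L102112 L102019 (flp_d L92744) L102015 (flp_b L148981) (flp_d L116306) (flp_c L95741) (flp_d L84529) (flp_c L24969) (flp_b L12014) L5956 (flp_d L5404) (flp_c L10151) (flp_d L21119) (flp_c L43986) L91613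 L91615 L91662 L108473
theorem L149550 : sm gb N14338 = N15909 := ded_15_3 L115082 L148254 (flp_e L107164)
theorem L149552 : sm ga N15546 = N15544 := ded_7_5 L113378 L94271 L47382 (flp_a L47316) L148260 L88538 L88584 L103004 (flp_b L148490)
theorem L149554 : sm gc N15272 = N15413 := ded_13_4 (flp_b L112694) (flp_c L112208) L148301 L111998 L112032
theorem L149556 : sm gb N17206 = N17297 := ded_31_8 (flp_g L124135) (flp_f L98971) (flp_b L85980) (flp_g L82723) (flp_f L46813) L46807 L148333 (flp_f L93745) (flp_b L46679) L46685 L82677 L85888 L98790 L123670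
theorem L149558 : sm gg N15913 = N14423 := ded_17_2 L107627 L148365 (flp_b L114199) L148355 L115094
theorem L149560 : sm ge N15736 = N15728 := ded_15_2 (flp_b L114236) L148373 L114282
theorem L149562 : sm gc N15546 = N15544 := ded_13_2 L113378 L94273 (flp_b L94757) L148418 (flp_b L148490)
theorem L149564 : sm gd N15754 = N15773 := ded_14_2 (flp_b L114438) L148456 L114362
theorem L149566 : N14678 = N15553 := coi_14_3 (flp_b L113432) (flp_d L113402) L148465 L145961
theorem L149567 : N15553 = N14678 := (eqc rfl L149566 rfl).symm
theorem L149568 : sm gb N14678 = N11843 := trfs L149567 (flp_b L113432) rfl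
theorem L149570 : sm gc N19025 = N15558 := ded_13_4 (flp_b L113450) (flp_c L113400) L148465 L145959 L145965
theorem L149572 : sm gb N19041 = N15388 := ded_16_3 (flp_f L112592) (flp_b L94265) L113396 L148465 L146128
theorem L149574 : sm gb N17293 = N18330 := ded_31_11 (flp_g L129731) L120245 (flp_b L119757) L146120 (flp_f L146128) (flp_b L148465) (flp_g L113470) (flp_f L113462) (flp_b L109808) (flp_g L109804) L109798 L109802 L124135 (flp_f L124137)
theorem L149576 : sm gg N18375 = N15387 := ded_17_4 (flp_b L113392) L148477 (flp_b L102695) (flp_g L102585) L129996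
theorem L149578 : sm gg N15381 = N18504 := ded_12_2 (flp_a L142963) L148488 (flp_a L112566)
theorem L149580 : sm gb N15545 = N14583 := ded_31_5 (flp_g L108503) L91676 (flp_b L91792) L108785 L118996 (flp_b L103220) (flp_g L103216) (flp_f L103198) (flp_b L103194) L103200 (flp_f L103206) (flp_b L148490) (flp_g L113384) L113380
theorem L149582 : sm gd N18504 = N15544 := ded_9_2 (flp_a L149552) L148492 L142963
theorem L149584 : sm gc N18504 = N15384 := ded_28_4 L112582 L93810 (flp_d L112582) L112580 L148494 (flp_d L148492) L149562 (flp_d L149582)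
theorem L149586 : sm gc N18375 = N15391 := ded_19_3 L112606 L148494 (flp_e L129998)
theorem L149588 : sm gc N18506 = N15394 := ded_20_3 (flp_f L112620) L148494 L142967
theorem L149590 : sm gg N18341 = N14874 := ded_29_1 (flp_f L109798) L109804 L148504 L129803
theorem L149592 : sm gb N18504 = N15550 := ded_7_8 L113414 L94301 L148538 (flp_b L88544) L37171 L37199 L88612 L103054 L142963
theorem L149594 : sm ga N16372 = N18702 := ded_10_1 L144111 L145935 L148542
theorem L149596 : sm ga N16386 = N19029 := ded_7_3 (flp_b L145977) (flp_a L104821) (flp_b L89602) (flp_a L89590) L104807 L145935 L148544 L117679 (flp_b L117755)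
theorem L149598 : sm gd N19027 = N15569 := ded_24_1 (flp_g L113516) (flp_d L113452) L148548
theorem L149600 : sm ga N15576 = N18561 := ded_29_4 L146060 (flp_g L148548) L113454 L113546
theorem L149602 : N18566 = N11856 := coi_29_0 (flp_f L113454) L148548 (flp_f L146060) L143299 L143323
theorem L149603 : N18566 = N11856 := eqc rfl L149602 rfl
theorem L149604 : sm ga N11856 = N13552 := trfs L149603 (flp_a L143323) rfl
theorem L149605 : N13552 = N15574 := eqes L149604 L113538
theorem L149606 : N15574 = N13552 := (eqc rfl L149605 rfl).symm
theorem L149607 : sm ga N13552 = N11856 := trfs L149606 (flp_a L113538) rfl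
theorem L149609 : sm gd N13552 = N11860 := trfs L149606 L113540 rfl
theorem L149610 : N11860 = N18535 := eqes L149609 (flp_d L143141)
theorem L149611 : N18535 = N11860 := (eqc rfl L149610 rfl).symm
theorem L149612 : sm gb N11860 = N13527 := trfs L149611 (flp_b L143139) rfl
theorem L149613 : N13527 = N15582 := eqes L149612 L113576
theorem L149614 : N15582 = N13527 := (eqc rfl L149613 rfl).symm
theorem L149615 : sm gd N11860 = N13552 := trfs L149611 L143141 rfl
theorem L149617 : sm gg N11860 = N15492 := trfs L149611 L143143 rfl
theorem L149618 : N15492 = N15584 := eqes L149617 L113582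
theorem L149619 : N15584 = N15492 := (eqc rfl L149618 rfl).symm
theorem L149620 : sm ga N15492 = N11862 := trfs L149619 L113584 rfl
theorem L149622 : sm gf N15492 = N15569 := trfs L149619 L113586 rfl
theorem L149624 : sm gg N15492 = N11860 := trfs L149619 (flp_g L113582) rfl
theorem L149626 : sm gb N13527 = N11860 := trfs L149614 (flp_b L113576) rfl
theorem L149628 : sm ga N15558 = N18568 := ded_29_4 (flp_f L143327) (flp_g L143299) L146060 (flp_g L148548)
theorem L149630 : sm gb N18491 = N17419 := ded_14_3 L124788 L148552 (flp_d L142905)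
theorem L149632 : N14175 = N14246 := coi_28_5 (flp_d L114983) L148576 (flp_d L149257) L139116 (flp_c L94662) L83943 (flp_c L40277) (flp_d L141867) L106290
theorem L149633 : N14246 = N14175 := (eqc rfl L149632 rfl).symm
theorem L149634 : sm gb N14175 = N11145 := trfs L149633 (flp_b L106695) rfl
theorem L149636 : sm gd N14175 = N15890 := trfs L149633 (flp_d L114983) rfl
theorem L149638 : sm ga N15833 = N15890 := ded_28_8 L148576 (flp_d L149257) (flp_c L105971) (flp_d L139086) (flp_c L71381) (flp_d L84099) L94943 L114706
theorem L149640 : sm ga N15705 = N15924 := ded_8_3 (flp_c L148576) (flp_a L149638) L114710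
theorem L149642 : sm gc N14399 = N15913 := ded_13_4 (flp_b L115094) (flp_c L114987) L148584 L107479 L107521
theorem L149644 : sm gc N14405 = N15918 := ded_8_2 (flp_a L115124) L148591 L107557
theorem L149646 : sm gc N14407 = N15920 := ded_20_3 (flp_f L115132) L148591 L107567
theorem L149648 : N14278 = N14277 := coi_28_3 (flp_d L115126) (flp_c L149644) L107559 L91193 (flp_d L107559) (flp_a L107557) (flp_c L148591) L95191 L106851
theorem L149649 : N14278 = N14277 := eqc rfl L149648 rfl
theorem L149650 : sm gc N14277 = N11163 := trfs L149649 (flp_c L106851) rfl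
theorem L149652 : sm gg N15918 = N14432 := ded_12_2 L107671 L148599 L115124
theorem L149654 : sm gg N17531 = N17556 := ded_21_2 (flp_c L125530) L148685 L125404
theorem L149656 : sm gf N17801 = N17759 := ded_11_2 (flp_a L126458) L148759 L126630
theorem L149658 : sm gf N17802 = N17760 := ded_20_2 (flp_c L126460) L148759 L126632
theorem L149660 : sm gf N17806 = N17743 := ded_23_2 (flp_d L126390) L148778 L126640
theorem L149662 : sm ga N17743 = N17811 := ded_9_3 L126662 L148781 L126390
theorem L149664 : sm gb N18559 = N15843 := ded_7_4 (flp_a L114752) (flp_b L94973) (flp_a L87002) L100519 (flp_a L142764) (flp_b L126664) L148781 (flp_b L124796) L148874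
theorem L149666 : sm gg N17567 = N17630 := ded_24_2 (flp_d L125828) L148809 L125578
theorem L149668 : sm ga N17567 = N17635 := ded_9_3 L125850 L148817 L125578
theorem L149670 : sm ga N17531 = N17559 := ded_10_3 L134547 L148817 (flp_e L142406)
theorem L149672 : N17653 = N17636 := coi_7_0 (flp_b L125852) L148817 (flp_b L124403) (flp_a L143179) (flp_b L149531) (flp_a L114179) (flp_b L94686) (flp_a L86755) L100093 L125932
theorem L149673 : N17653 = N17636 := eqc rfl L149672 rfl
theorem L149674 : sm ga N17636 = N12990 := trfs L149673 (flp_a L125932) rfl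
theorem L149676 : sm gg N17625 = N17586 := ded_12_2 (flp_a L125652) L148838 L125818
theorem L149678 : sm gg N17626 = N17587 := ded_21_2 (flp_c L125654) L148838 L125820
theorem L149680 : sm gb N18296 = N17291 := ded_7_4 L124113 L98969 (flp_a L86222) (flp_b L99399) (flp_a L124816) L148854 L130374 L102751 (flp_a L129406)
theorem L149682 : sm gb N17414 = N14656 := ded_17_3 (flp_g L108857) L118969 L108773 L148864 L124756
theorem L149684 : sm gc N18280 = N16375 := ded_8_2 L117695 (flp_c L117785) L148933
theorem L149686 : sm ge N18280 = N16374 := ded_10_2 L117685 (flp_e L117787) L148933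
theorem L149688 : sm gc N18274 = N16396 := ded_21_1 (flp_g L117807) (flp_c L117785) L148937
theorem L149690 : sm ge N18274 = N16394 := ded_26_1 (flp_g L117791) (flp_e L117787) L148937
theorem L149692 : N16389 = N18799 := coi_22_5 L144655 L104216 L148940 (flp_e L96444) L96426 L117767
theorem L149693 : N18799 = N16389 := (eqc rfl L149692 rfl).symm
theorem L149694 : sm gc N16389 = N16205 := trfs L149693 L144653 rfl
theorem L149695 : N16205 = N16206 := eqes L149694 L117771
theorem L149696 : N16206 = N16205 := (eqc rfl L149695 rfl).symm
theorem L149697 : sm gd N16389 = N13737 := trfs L149693 L144655 rfl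
theorem L149699 : sm gg N16389 = N13704 := trfs L149693 (flp_g L144651) rfl
theorem L149701 : sm ga N16205 = N12179 := trfs L149696 L116681 rfl
theorem L149703 : sm gc N16205 = N16389 := trfs L149696 (flp_c L117771) rfl
theorem L149705 : sm ge N16205 = N12175 := trfs L149696 (flp_e L116679) rfl
theorem L149707 : sm ga N13881 = N13879 := ded_9_1 (flp_d L149546) (flp_a L149596) L148942
theorem L149709 : sm gc N13878 = N13881 := ded_28_0 (flp_d L148942) L117757 L96703 L98798 (flp_d L149425) L149544 L102271 L104951
theorem L149711 : sm gg N18251 = N19029 := ded_12_2 (flp_a L149596) L148944 L129135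
theorem L149713 : N18204 = N16388 := coi_26_2 (flp_g L117763) L117753 L148944 (flp_e L128865)
theorem L149714 : N18204 = N16388 := eqc rfl L149713 rfl
theorem L149715 : sm gb N16388 = N13318 := trfs L149714 (flp_b L128863) rfl
theorem L149717 : sm ge N16388 = N13353 := trfs L149714 L128865 rfl
theorem L149719 : sm gd N18861 = N16213 := ded_22_3 (flp_e L116708) L96388 L117677 L148946 (flp_e L145018)
theorem L149721 : sm gd N14039 = N16725 := ded_14_2 L121400 (flp_d L116301) L148961
theorem L149723 : N18943 = N16126 := coi_15_3 L116275 L116295 L148961 (flp_e L145485)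
theorem L149724 : N18943 = N16126 := eqc rfl L149723 rfl
theorem L149725 : sm ga N16126 = N13776 := trfs L149724 (flp_a L145481) rfl
theorem L149727 : sm gc N16126 = N13778 := trfs L149724 L145483 rfl
theorem L149729 : sm ge N16126 = N14039 := trfs L149724 L145485 rfl
theorem L149731 : sm gb N18797 = N16071 := ded_7_8 (flp_a L116308) L148981 (flp_a L102009) (flp_b L88084) L32838 L38726 L89150 L104021 L144639
theorem L149733 : sm ge N18797 = N16071 := ded_10_2 (flp_a L116308) L148986 L144639
theorem L149735 : N16072 = N16202 := coi_10_3 (flp_a L116669) (flp_e L110681) L148988 L115924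
theorem L149736 : N16202 = N16072 := (eqc rfl L149735 rfl).symm
theorem L149737 : sm ga N16072 = N12174 := trfs L149736 (flp_a L116669) rfl
theorem L149739 : sm gc N16072 = N18797 := trfs L149736 (flp_c L144641) rfl
theorem L149741 : sm ga N16043 = N16043 := ded_7_3 L115791 (flp_a L148988) (flp_b L110679) L92750 L45274 (flp_a L92750) L110679 L148988 (flp_b L115791)
theorem L149742 : N16069 = N15025 := coi_14_2 (flp_d L110683) L110679 L148992 L115912
theorem L149743 : N16069 = N15025 := eqc rfl L149742 rfl
theorem L149744 : sm gb N15025 = N12104 := trfs L149743 (flp_b L115912) rfl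
theorem L149746 : sm ge N16217 = N16204 := ded_25_1 (flp_f L116675) (flp_e L110681) L148994
theorem L149748 : sm gd N17412 = N18338 := ded_14_2 (flp_b L129791) (flp_d L118992) L149025
theorem L149750 : sm gg N17412 = N14683 := ded_17_2 (flp_b L108991) (flp_g L91862) (flp_b L91792) L108785 L149025
theorem L149752 : N15773 = N15647 := coi_13_2 (flp_c L113883) (flp_b L94534) (flp_c L94066) L113078 L149031 L114438
theorem L149753 : N15773 = N15647 := eqc rfl L149752 rfl
theorem L149754 : sm gb N15647 = N11952 := trfs L149753 (flp_b L114438) rfl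
theorem L149756 : sm gd N15647 = N15754 := trfs L149753 (flp_d L149564) rfl
theorem L149758 : sm ge N15647 = N11957 := trfs L149753 L114440 rfl
theorem L149760 : sm gb N15551 = N14852 := ded_17_1 (flp_g L109693) L92168 L94064 L113078 L149037
theorem L149762 : N15783 = N15641 := coi_13_5 (flp_b L113857) (flp_c L113056) L149049 L94329 L94825 L114472
theorem L149763 : N15783 = N15641 := eqc rfl L149762 rfl
theorem L149764 : sm gc N15641 = N11957 := trfs L149763 (flp_c L114472) rfl
theorem L149766 : sm gc N16816 = N17008 := ded_13_4 (flp_b L122782) (flp_c L122772) L149057 L121849 L121861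
theorem L149768 : sm gc N16817 = N17009 := ded_8_2 (flp_a L122786) L149064 L121865
theorem L149770 : sm gc N16819 = N16993 := ded_20_3 L122716 L149064 L121871
theorem L149772 : sm gc N16809 = N17011 := ded_21_3 (flp_g L122792) L149064 (flp_g L121823)
theorem L149774 : sm gf N17034 = N16843 := ded_31_7 (flp_b L121994) L97755 L97252 L97660 L119211 (flp_f L118887) L118882 L118886 L149073 (flp_b L97433) L85335 L85676 L98316 L122905
theorem L149776 : sm gc N15267 = N15305 := ded_13_4 (flp_b L112234) (flp_c L112218) L149075 L111988 L112004
theorem L149778 : sm gf N15267 = N15422 := ded_25_2 L112738 L149091 (flp_e L112006)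
theorem L149780 : sm gf N15272 = N15419 := ded_16_4 L112726 L149091 (flp_b L93498) L93504 L112032
theorem L149782 : sm gc N15423 = N18923 := ded_19_3 L145374 L149096 (flp_e L112742)
theorem L149784 : N17134 = N14020 := coi_13_4 (flp_c L105529) L105527 L149096 L93895 (flp_c L98581) L123329
theorem L149785 : N17134 = N14020 := eqc rfl L149784 rfl
theorem L149786 : sm gb N14020 = N12702 := trfs L149785 (flp_b L123329) rfl
theorem L149788 : sm gc N15307 = N15269 := ded_28_4 L112020 (flp_c L93903) (flp_d L149124) L149122 (flp_c L149096) L120587 L93783 (flp_d L112250)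
theorem L149790 : sm gg N15422 = N18923 := ded_26_2 L145374 L149098 (flp_e L112738)
theorem L149792 : sm gd N15419 = N15274 := ded_14_2 (flp_b L112038) L149100 (flp_b L112726)
theorem L149794 : sm gg N15305 = N15364 := ded_26_2 L112494 L149120 (flp_e L112236)
theorem L149796 : sm gg N15310 = N15361 := ded_17_4 L112482 L149120 (flp_b L93637) L93643 L112262
theorem L149798 : sm gd N15361 = N15312 := ded_14_2 (flp_b L112268) L149128 (flp_b L112482)
theorem L149800 : sm gc N15356 = N15310 := ded_13_4 (flp_b L112262) (flp_c L112228) L149136 L111982 L112454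
theorem L149802 : sm ga N16842 = N17035 := ded_29_4 L149196 L128625 (flp_f L149196) L149140
theorem L149804 : N18166 = N16840 := coi_29_3 L121984 (flp_a L121982) L121992 (flp_g L149140) L149196
theorem L149805 : N18166 = N16840 := eqc rfl L149804 rfl
theorem L149806 : sm gb N16840 = N13296 := trfs L149805 (flp_b L128621) rfl
theorem L149808 : sm gd N16840 = N13298 := trfs L149805 L128623 rfl
theorem L149810 : sm gf N16840 = N17035 := trfs L149805 (flp_f L149196) rfl
theorem L149813 : sm gd N17031 = N16590 := ded_9_2 (flp_a L120710) (flp_d L118923) L149150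
theorem L149815 : sm gb N16552 = N13950 := ded_14_3 L149164 L118750 L118778
theorem L149817 : sm gg N16546 = N13948 := ded_24_2 (flp_d L105224) L105230 L149164
theorem L149819 : sm gb N13948 = N14385 := ded_13_1 (flp_c L107445) (flp_b L91123) (flp_c L90936) L107147 L149180
theorem L149821 : sm gc N15905 = N16721 := ded_8_2 L121386 L121396 L149188
theorem L149823 : sm gd N16708 = N14152 := ded_28_3 L106174 (flp_d L95203) L146722 (flp_d L149192) L149188 L149821 (flp_d L121384) (flp_c L121335)
theorem L149825 : N12457 = N14156 := coi_28_3 L106190 L90249 (flp_d L84263) (flp_c L95158) (flp_d L115057) (flp_a L149188) (flp_c L121396) (flp_d L97409) (flp_c L97385)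
theorem L149826 : N14156 = N12457 := (eqc rfl L149825 rfl).symm
theorem L149827 : sm gb N12457 = N14473 := trfs L149826 (flp_b L147835) rfl
theorem L149828 : N14473 = N10150 := eqes L149827 (flp_b L97383)
theorem L149829 : N14473 = N10150 := eqc rfl L149828 rfl
theorem L149830 : sm gd N12457 = N11084 := trfs L149826 L106190 rfl
theorem L149831 : N11084 = N16709 := eqes L149830 L121337
theorem L149832 : N16709 = N11084 := (eqc rfl L149831 rfl).symm
theorem L149833 : sm ge N12457 = N14486 := trfs L149826 L149237 rfl
theorem L149834 : N14486 = N16119 := eqes L149833 (flp_e L116237)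
theorem L149835 : N16119 = N14486 := (eqc rfl L149834 rfl).symm
theorem L149836 : sm gg N12457 = N11081 := trfs L149826 (flp_g L106188) rfl
theorem L149837 : N11081 = N16711 := eqes L149836 L121345
theorem L149838 : N16711 = N11081 := (eqc rfl L149837 rfl).symm
theorem L149839 : sm gc N11081 = N12466 := trfs L149838 L121347 rfl
theorem L149840 : N12466 = N14153 := eqes L149839 L106176
theorem L149841 : N14153 = N12466 := (eqc rfl L149840 rfl).symm
theorem L149842 : sm gg N11081 = N12457 := trfs L149838 (flp_g L121345) rfl
theorem L149844 : sm gb N12466 = N14047 := trfs L149841 L106178 rfl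
theorem L149845 : N14047 = N10233 := eqes L149844 L97417
theorem L149846 : N14047 = N10233 := eqc rfl L149845 rfl
theorem L149847 : sm gc N12466 = N11081 := trfs L149841 (flp_c L106176) rfl
theorem L149849 : sm gc N10233 = N11028 := trfs L149846 (flp_c L105642) rfl
theorem L149850 : N11028 = N12610 := eqes L149849 (flp_c L98131)
theorem L149851 : N12610 = N11028 := (eqc rfl L149850 rfl).symm
theorem L149852 : sm ga N11028 = N15380 := trfs L149851 (flp_a L112560) rfl
theorem L149853 : N15380 = N14044 := eqes L149852 (flp_a L105632)
theorem L149854 : N15380 = N14044 := eqc rfl L149853 rfl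
theorem L149858 : sm gc N11028 = N10233 := trfs L149851 L98131 rfl
theorem L149863 : sm ge N11028 = N16352 := trfs L149851 (flp_e L117549) rfl
theorem L149864 : N16352 = N14048 := eqes L149863 L105644
theorem L149865 : N16352 = N14048 := eqc rfl L149864 rfl
theorem L149866 : sm gf N11028 = N16962 := trfs L149851 L122559 rfl
theorem L149867 : N16962 = N14049 := eqes L149866 L105648
theorem L149868 : N16962 = N14049 := eqc rfl L149867 rfl
theorem L149869 : sm gg N11028 = N10223 := trfs L149851 (flp_g L98129) rfl
theorem L149870 : N10223 = N14050 := eqes L149869 L105652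
theorem L149871 : N14050 = N10223 := (eqc rfl L149870 rfl).symm
theorem L149875 : sm gd N10223 = N11030 := trfs L149871 L105654 rfl
theorem L149876 : N11030 = N12608 := eqes L149875 L98121
theorem L149877 : N12608 = N11030 := (eqc rfl L149876 rfl).symm
theorem L149878 : sm gg N10223 = N11028 := trfs L149871 (flp_g L105652) rfl
theorem L149880 : sm ga N11030 = N15378 := trfs L149877 (flp_a L112548) rfl
theorem L149881 : N15378 = N14046 := eqes L149880 (flp_a L105640)
theorem L149882 : N15378 = N14046 := eqc rfl L149881 rfl
theorem L149883 : sm gb N11030 = N10224 := trfs L149877 L98123 rfl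
theorem L149884 : N10224 = N13607 := eqes L149883 (flp_b L103466)
theorem L149885 : N13607 = N10224 := (eqc rfl L149884 rfl).symm
theorem L149889 : sm gd N11030 = N10223 := trfs L149877 (flp_d L98121) rfl
theorem L149891 : sm ge N11030 = N16956 := trfs L149877 L122533 rfl
theorem L149892 : N16956 = N13781 := eqes L149891 (flp_e L104456)
theorem L149893 : N16956 = N13781 := eqc rfl L149892 rfl
theorem L149894 : sm gf N11030 = N16957 := trfs L149877 L122537 rfl
theorem L149895 : N16957 = N14052 := eqes L149894 L105660
theorem L149896 : N16957 = N14052 := eqc rfl L149895 rfl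
theorem L149898 : sm gd N14052 = N12609 := trfs L149896 L122539 rfl
theorem L149900 : sm gb N13781 = N12612 := trfs L149893 L122535 rfl
theorem L149901 : N12612 = N13813 := eqes L149900 (flp_b L104639)
theorem L149902 : N13813 = N12612 := (eqc rfl L149901 rfl).symm
theorem L149903 : sm ga N12612 = N19001 := trfs L149902 (flp_a L145818) rfl
theorem L149904 : N19001 = N15284 := eqes L149903 (flp_a L112088)
theorem L149905 : N19001 = N15284 := eqc rfl L149904 rfl
theorem L149906 : sm gb N12612 = N13781 := trfs L149902 L104639 rfl
theorem L149909 : sm gd N12612 = N19005 := trfs L149902 (flp_d L145839) rfl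
theorem L149910 : N19005 = N16353 := eqes L149909 (flp_d L117555)
theorem L149911 : N19005 = N16353 := eqc rfl L149910 rfl
theorem L149913 : sm gf N12612 = N19007 := trfs L149902 L145850 rfl
theorem L149914 : N19007 = N16963 := eqes L149913 L122567
theorem L149915 : N19007 = N16963 := eqc rfl L149914 rfl
theorem L149916 : sm gg N12612 = N10909 := trfs L149902 (flp_g L104634) rfl
theorem L149917 : N10909 = N16964 := eqes L149916 L122572
theorem L149918 : N16964 = N10909 := (eqc rfl L149917 rfl).symm
theorem L149920 : sm ge N10909 = N12614 := trfs L149918 L122575 rfl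
theorem L149921 : N12614 = N10797 := eqes L149920 L89455
theorem L149922 : N12614 = N10797 := eqc rfl L149921 rfl
theorem L149923 : sm gg N10909 = N12612 := trfs L149918 (flp_g L122572) rfl
theorem L149925 : sm ga N10797 = N15286 := trfs L149922 (flp_a L112102) rfl
theorem L149926 : N15286 = N13604 := eqes L149925 L103453
theorem L149927 : N15286 = N13604 := eqc rfl L149926 rfl
theorem L149932 : sm gd N10797 = N10226 := trfs L149922 L98143 rfl
theorem L149933 : N10226 = N13605 := eqes L149932 L103456
theorem L149934 : N13605 = N10226 := (eqc rfl L149933 rfl).symm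
theorem L149935 : sm gf N10797 = N16968 := trfs L149922 L122592 rfl
theorem L149936 : N16968 = N13606 := eqes L149935 L103460
theorem L149937 : N16968 = N13606 := eqc rfl L149936 rfl
theorem L149940 : sm ga N13606 = N16966 := trfs L149937 L122594 rfl
theorem L149941 : N16966 = N18645 := eqes L149940 (flp_a L143771)
theorem L149942 : N18645 = N16966 := (eqc rfl L149941 rfl).symm
theorem L149944 : sm gd N13606 = N12618 := trfs L149937 L122597 rfl
theorem L149945 : N12618 = N18649 := eqes L149944 (flp_d L143787)
theorem L149946 : N18649 = N12618 := (eqc rfl L149945 rfl).symm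
theorem L149947 : sm gg N13606 = N15285 := trfs L149937 L122599 rfl
theorem L149948 : N15285 = N18651 := eqes L149947 L143795
theorem L149949 : N18651 = N15285 := (eqc rfl L149948 rfl).symm
theorem L149954 : sm ge N15285 = N19006 := trfs L149949 (flp_e L145846) rfl
theorem L149959 : sm gg N15285 = N13606 := trfs L149949 (flp_g L143795) rfl
theorem L149970 : sm gd N12618 = N13606 := trfs L149946 L143787 rfl
theorem L149973 : sm ga N16966 = N13606 := trfs L149942 L143771 rfl
theorem L149976 : sm ge N16966 = N19000 := trfs L149942 (flp_e L145814) rfl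
theorem L149983 : sm gb N10226 = N10798 := trfs L149934 L103458 rfl
theorem L149984 : N10798 = N12617 := eqes L149983 L98153
theorem L149985 : N12617 = N10798 := (eqc rfl L149984 rfl).symm
theorem L149986 : sm gc N10226 = N18647 := trfs L149934 L143779 rfl
theorem L149987 : N18647 = N5551 := eqes L149986 L85609
theorem L149988 : N18647 = N5551 := eqc rfl L149987 rfl
theorem L149989 : sm gd N10226 = N10797 := trfs L149934 (flp_d L103456) rfl
theorem L149991 : sm ge N10226 = N18648 := trfs L149934 L143781 rfl
theorem L149992 : N18648 = N12250 := eqes L149991 (flp_e L96345)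
theorem L149993 : N18648 = N12250 := eqc rfl L149992 rfl
theorem L149995 : sm gb N12250 = N13608 := trfs L149993 L143783 rfl
theorem L149996 : N13608 = N16358 := eqes L149995 L117581
theorem L149997 : N16358 = N13608 := (eqc rfl L149996 rfl).symm
theorem L149998 : sm gd N12250 = N19003 := trfs L149993 (flp_d L145831) rfl
theorem L149999 : N19003 = N16355 := eqes L149998 (flp_d L117567)
theorem L150000 : N19003 = N16355 := eqc rfl L149999 rfl
theorem L150001 : sm gb N16355 = N13814 := trfs L150000 L145829 rfl
theorem L150003 : sm ge N16355 = N13811 := trfs L150000 (flp_e L145827) rfl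
theorem L150005 : sm gb N13608 = N12250 := trfs L149997 (flp_b L117581) rfl
theorem L150008 : sm gb N5551 = N14575 := trfs L149988 (flp_b L147840) rfl
theorem L150009 : N14575 = N10152 := eqes L150008 (flp_b L85323)
theorem L150010 : N14575 = N10152 := eqc rfl L150009 rfl
theorem L150011 : sm ga N10152 = N11326 := trfs L150010 L108463 rfl
theorem L150012 : N11326 = N12456 := eqes L150011 (flp_a L97381)
theorem L150013 : N12456 = N11326 := (eqc rfl L150012 rfl).symm
theorem L150014 : sm gc N10152 = N11325 := trfs L150010 (flp_c L108461) rfl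
theorem L150015 : N11325 = N12460 := eqes L150014 (flp_c L97395)
theorem L150016 : N12460 = N11325 := (eqc rfl L150015 rfl).symm
theorem L150023 : sm gc N11325 = N10152 := trfs L150016 L97395 rfl
theorem L150028 : sm ge N11325 = N16122 := trfs L150016 (flp_e L116253) rfl
theorem L150029 : N16122 = N14452 := eqes L150028 (flp_e L107757)
theorem L150030 : N16122 = N14452 := eqc rfl L150029 rfl
theorem L150031 : sm gf N11325 = N16719 := trfs L150016 L121373 rfl
theorem L150032 : N16719 = N14576 := eqes L150031 L108465
theorem L150033 : N16719 = N14576 := eqc rfl L150032 rfl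
theorem L150036 : sm ga N14576 = N16717 := trfs L150033 L121375 rfl
theorem L150037 : N16717 = N11327 := eqes L150036 L108467
theorem L150038 : N16717 = N11327 := eqc rfl L150037 rfl
theorem L150039 : sm gc N14576 = N12462 := trfs L150033 L121377 rfl
theorem L150041 : sm gg N14576 = N16706 := trfs L150033 L121379 rfl
theorem L150042 : N16706 = N14475 := eqes L150041 (flp_g L108471)
theorem L150043 : N16706 = N14475 := eqc rfl L150042 rfl
theorem L150044 : sm ga N14475 = N12459 := trfs L150043 L121323 rfl
theorem L150045 : N12459 = N14579 := eqes L150044 (flp_a L108483)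
theorem L150046 : N14579 = N12459 := (eqc rfl L150045 rfl).symm
theorem L150047 : sm gc N14475 = N12455 := trfs L150043 L121325 rfl
theorem L150049 : sm gf N14475 = N12454 := trfs L150043 (flp_f L121321) rfl
theorem L150050 : N12454 = N11272 := eqes L150049 (flp_f L107903)
theorem L150051 : N12454 = N11272 := eqc rfl L150050 rfl
theorem L150057 : sm gc N11272 = N10149 := trfs L150051 (flp_c L97371) rfl
theorem L150058 : N10149 = N14474 := eqes L150057 L107897
theorem L150059 : N14474 = N10149 := (eqc rfl L150058 rfl).symm
theorem L150063 : sm ge N11272 = N16116 := trfs L150051 (flp_e L116217) rfl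
theorem L150064 : N16116 = N8932 := eqes L150063 L91347
theorem L150065 : N16116 = N8932 := eqc rfl L150064 rfl
theorem L150067 : sm ga N8932 = N12129 := trfs L150065 L116215 rfl
theorem L150068 : N12129 = N11278 := eqes L150067 L91377
theorem L150069 : N12129 = N11278 := eqc rfl L150068 rfl
theorem L150070 : sm gc N8932 = N12128 := trfs L150065 (flp_c L116213) rfl
theorem L150071 : N12128 = N11279 := eqes L150070 L91381
theorem L150072 : N12128 = N11279 := eqc rfl L150071 rfl
theorem L150073 : sm ga N11279 = N9991 := trfs L150072 (flp_a L95713) rfl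
theorem L150074 : N9991 = N14487 := eqes L150073 (flp_a L107979)
theorem L150075 : N14487 = N9991 := (eqc rfl L150074 rfl).symm
theorem L150076 : sm gb N11279 = N16014 := trfs L150072 (flp_b L115643) rfl
theorem L150077 : N16014 = N14363 := eqes L150076 (flp_b L107334)
theorem L150078 : N16014 = N14363 := eqc rfl L150077 rfl
theorem L150079 : sm gd N11279 = N16065 := trfs L150072 (flp_d L115898) rfl
theorem L150080 : N16065 = N14489 := eqes L150079 L107989
theorem L150081 : N16065 = N14489 := eqc rfl L150080 rfl
theorem L150084 : sm gf N11279 = N16117 := trfs L150072 L116219 rfl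
theorem L150085 : N16117 = N14490 := eqes L150084 L107991
theorem L150086 : N16117 = N14490 := eqc rfl L150085 rfl
theorem L150087 : sm gg N11279 = N16118 := trfs L150072 L116227 rfl
theorem L150088 : N16118 = N14453 := eqes L150087 (flp_g L107765)
theorem L150089 : N16118 = N14453 := eqc rfl L150088 rfl
theorem L150090 : sm ga N14453 = N12131 := trfs L150089 L116229 rfl
theorem L150092 : sm gb N14453 = N14924 := trfs L150089 L116233 rfl
theorem L150093 : N14924 = N11507 := eqes L150092 L107767
theorem L150094 : N14924 = N11507 := eqc rfl L150093 rfl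
theorem L150096 : sm gf N14453 = N16123 := trfs L150089 L116259 rfl
theorem L150098 : sm ga N11507 = N11496 := trfs L150094 (flp_a L110107) rfl
theorem L150099 : N11496 = N14944 := eqes L150098 (flp_a L110226)
theorem L150100 : N14944 = N11496 := (eqc rfl L150099 rfl).symm
theorem L150101 : sm ge N11507 = N11614 := trfs L150094 L110109 rfl
theorem L150102 : N11614 = N9555 := eqes L150101 L92527
theorem L150103 : N11614 = N9555 := eqc rfl L150102 rfl
theorem L150104 : sm gf N11507 = N14948 := trfs L150094 L110252 rfl
theorem L150105 : N14948 = N14947 := eqes L150104 L110240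
theorem L150106 : N14948 = N14947 := eqc rfl L150105 rfl
theorem L150107 : sm gg N11507 = N11506 := trfs L150094 L110111 rfl
theorem L150108 : N11506 = N14925 := eqes L150107 (flp_g L110117)
theorem L150109 : N14925 = N11506 := (eqc rfl L150108 rfl).symm
theorem L150112 : sm ge N11506 = N11615 := trfs L150109 L110115 rfl
theorem L150113 : N11615 = N9554 := eqes L150112 L92523
theorem L150114 : N11615 = N9554 := eqc rfl L150113 rfl
theorem L150115 : sm gg N11506 = N11507 := trfs L150109 L110117 rfl
theorem L150120 : sm gb N9554 = N15156 := trfs L150114 (flp_b L111467) rfl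
theorem L150121 : N15156 = N11621 := eqes L150120 L93195
theorem L150122 : N15156 = N11621 := eqc rfl L150121 rfl
theorem L150123 : sm gc N9554 = N9549 := trfs L150114 (flp_c L93157) rfl
theorem L150124 : N9549 = N11622 := eqes L150123 L93199
theorem L150125 : N11622 = N9549 := (eqc rfl L150124 rfl).symm
theorem L150129 : sm gf N9554 = N15163 := trfs L150114 L111495 rfl
theorem L150130 : N15163 = N11623 := eqes L150129 L93203
theorem L150131 : N15163 = N11623 := eqc rfl L150130 rfl
theorem L150134 : sm ga N11623 = N15176 := trfs L150131 (flp_a L111561) rfl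
theorem L150135 : N15176 = N9556 := eqes L150134 L93205
theorem L150136 : N15176 = N9556 := eqc rfl L150135 rfl
theorem L150137 : sm gc N11623 = N11616 := trfs L150131 L111497 rfl
theorem L150138 : N11616 = N15171 := eqes L150137 (flp_c L111545)
theorem L150139 : N15171 = N11616 := (eqc rfl L150138 rfl).symm
theorem L150141 : sm ga N11616 = N11625 := trfs L150139 L111543 rfl
theorem L150142 : N11625 = N11626 := eqes L150141 (flp_a L93219)
theorem L150143 : N11626 = N11625 := (eqc rfl L150142 rfl).symm
theorem L150144 : sm gc N11616 = N11623 := trfs L150139 L111545 rfl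
theorem L150147 : sm ga N11625 = N11616 := trfs L150143 L93219 rfl
theorem L150149 : sm gb N11625 = N10204 := trfs L150143 L97881 rfl
theorem L150150 : N10204 = N15175 := eqes L150149 L111557
theorem L150151 : N15175 = N10204 := (eqc rfl L150150 rfl).symm
theorem L150153 : sm gd N11625 = N10129 := trfs L150143 L93221 rfl
theorem L150154 : N10129 = N15174 := eqes L150153 (flp_d L111555)
theorem L150155 : N15174 = N10129 := (eqc rfl L150154 rfl).symm
theorem L150160 : sm gd N10129 = N11625 := trfs L150155 L111555 rfl
theorem L150162 : sm gf N10129 = N11624 := trfs L150155 (flp_f L111553) rfl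
theorem L150163 : N11624 = N10114 := eqes L150162 (flp_f L85244)
theorem L150164 : N11624 = N10114 := eqc rfl L150163 rfl
theorem L150168 : sm gb N10114 = N14577 := trfs L150164 (flp_b L108475) rfl
theorem L150169 : N14577 = N12383 := eqes L150168 L97076
theorem L150170 : N14577 = N12383 := eqc rfl L150169 rfl
theorem L150171 : sm gc N10114 = N15172 := trfs L150164 L111549 rfl
theorem L150172 : N15172 = N12384 := eqes L150171 L97078
theorem L150173 : N15172 = N12384 := eqc rfl L150172 rfl
theorem L150183 : sm gd N12384 = N16638 := trfs L150173 L120979 rfl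
theorem L150184 : N16638 = N16604 := eqes L150183 L120786
theorem L150185 : N16638 = N16604 := eqc rfl L150184 rfl
theorem L150186 : sm ga N16604 = N12412 := trfs L150185 L120977 rfl
theorem L150187 : N12412 = N12385 := eqes L150186 L120788
theorem L150188 : N12412 = N12385 := eqc rfl L150187 rfl
theorem L150189 : sm gc N16604 = N12409 := trfs L150185 (flp_c L120975) rfl
theorem L150194 : sm gc N12385 = N10127 := trfs L150188 (flp_c L97186) rfl
theorem L150195 : N10127 = N16605 := eqes L150194 L120792
theorem L150196 : N16605 = N10127 := (eqc rfl L150195 rfl).symm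
theorem L150198 : sm ge N12385 = N16645 := trfs L150188 L121008 rfl
theorem L150199 : N16645 = N16606 := eqes L150198 L120796
theorem L150200 : N16645 = N16606 := eqc rfl L150199 rfl
theorem L150201 : sm gf N12385 = N16646 := trfs L150188 L121012 rfl
theorem L150202 : N16646 = N16607 := eqes L150201 L120800
theorem L150203 : N16646 = N16607 := eqc rfl L150202 rfl
theorem L150205 : sm gc N16607 = N12414 := trfs L150203 L121014 rfl
theorem L150207 : sm gc N16606 = N12413 := trfs L150200 L121010 rfl
theorem L150210 : sm gc N10127 = N12385 := trfs L150196 (flp_c L120792) rfl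
theorem L150215 : sm gc N12383 = N17241 := trfs L150170 L149548 rfl
theorem L150216 : N17241 = N16602 := eqes L150215 L120778
theorem L150217 : N17241 = N16602 := eqc rfl L150216 rfl
theorem L150220 : sm gb N16602 = N12767 := trfs L150217 (flp_b L123862) rfl
theorem L150222 : sm gg N16602 = N18599 := trfs L150217 L149490 rfl
theorem L150223 : N18599 = N15210 := eqes L150222 L120782
theorem L150224 : N18599 = N15210 := eqc rfl L150223 rfl
theorem L150225 : sm gb N15210 = N13573 := trfs L150224 L143517 rfl
theorem L150227 : sm gd N15210 = N13572 := trfs L150224 (flp_d L143515) rfl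
theorem L150230 : sm gb N10204 = N11625 := trfs L150151 (flp_b L111557) rfl
theorem L150232 : sm gc N10204 = N15208 := trfs L150151 (flp_c L111711) rfl
theorem L150233 : N15208 = N12568 := eqes L150232 L97865
theorem L150234 : N15208 = N12568 := eqc rfl L150233 rfl
theorem L150235 : sm gb N12568 = N11644 := trfs L150234 (flp_b L111709) rfl
theorem L150236 : N11644 = N16892 := eqes L150235 L122240
theorem L150237 : N16892 = N11644 := (eqc rfl L150236 rfl).symm
theorem L150238 : sm gb N11644 = N12568 := trfs L150237 (flp_b L122240) rfl
theorem L150241 : sm gg N9556 = N11625 := trfs L150136 (flp_g L111559) rfl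
theorem L150248 : sm gc N9549 = N9554 := trfs L150125 (flp_c L93199) rfl
theorem L150252 : sm gc N11621 = N11610 := trfs L150122 (flp_c L111465) rfl
theorem L150253 : N11610 = N15167 := eqes L150252 L111523
theorem L150254 : N15167 = N11610 := (eqc rfl L150253 rfl).symm
theorem L150255 : sm ga N11610 = N16633 := trfs L150254 (flp_a L120961) rfl
theorem L150256 : N16633 = N15155 := eqes L150255 L111463
theorem L150257 : N16633 = N15155 := eqc rfl L150256 rfl
theorem L150258 : sm gc N11610 = N11621 := trfs L150254 (flp_c L111523) rfl
theorem L150260 : sm gg N11610 = N16629 := trfs L150254 (flp_g L120947) rfl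
theorem L150261 : N16629 = N14358 := eqes L150260 (flp_g L107306)
theorem L150262 : N16629 = N14358 := eqc rfl L150261 rfl
theorem L150263 : sm ga N14358 = N12405 := trfs L150262 L120945 rfl
theorem L150265 : sm gc N14358 = N12404 := trfs L150262 (flp_c L120943) rfl
theorem L150267 : sm gc N15155 = N12407 := trfs L150257 L120963 rfl
theorem L150269 : sm gf N15155 = N16780 := trfs L150257 (flp_f L121657) rfl
theorem L150271 : sm gg N15155 = N12405 := trfs L150257 (flp_g L120959) rfl
theorem L150274 : sm ga N14947 = N14926 := trfs L150106 L110248 rfl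
theorem L150276 : sm gb N14947 = N12228 := trfs L150106 (flp_b L110254) rfl
theorem L150278 : sm gg N14947 = N11508 := trfs L150106 (flp_g L110246) rfl
theorem L150280 : sm ga N9555 = N9549 := trfs L150103 (flp_a L93151) rfl
theorem L150283 : sm gd N9555 = N10114 := trfs L150103 L93153 rfl
theorem L150285 : sm gg N9555 = N9554 := trfs L150103 L93155 rfl
theorem L150287 : sm ga N11496 = N11507 := trfs L150100 L110226 rfl
theorem L150289 : sm gc N11496 = N11506 := trfs L150100 (flp_c L110224) rfl
theorem L150291 : sm ga N14490 = N12130 := trfs L150086 L116221 rfl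
theorem L150293 : sm gb N14490 = N15036 := trfs L150086 (flp_b L116225) rfl
theorem L150295 : sm ge N14490 = N12455 := trfs L150086 L116223 rfl
theorem L150297 : sm gg N14490 = N16124 := trfs L150086 (flp_g L116267) rfl
theorem L150299 : sm ga N14489 = N12103 := trfs L150081 (flp_a L115896) rfl
theorem L150301 : sm ga N14363 = N12077 := trfs L150078 (flp_a L115639) rfl
theorem L150303 : sm ge N14363 = N12404 := trfs L150078 L115641 rfl
theorem L150305 : sm gg N14363 = N14943 := trfs L150078 (flp_g L115645) rfl
theorem L150307 : sm ga N9991 = N11279 := trfs L150075 L107979 rfl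
theorem L150312 : sm gc N11278 = N9991 := trfs L150069 (flp_c L95717) rfl
theorem L150319 : sm gf N11278 = N16121 := trfs L150069 L116243 rfl
theorem L150320 : N16121 = N14488 := eqes L150319 L107981
theorem L150321 : N16121 = N14488 := eqc rfl L150320 rfl
theorem L150323 : sm gc N14488 = N12130 := trfs L150321 L116245 rfl
theorem L150345 : sm gc N10149 = N11272 := trfs L150059 (flp_c L107897) rfl
theorem L150347 : sm ge N10149 = N11279 := trfs L150059 L107899 rfl
theorem L150351 : sm ga N12459 = N14475 := trfs L150046 L108483 rfl
theorem L150353 : sm gd N12459 = N14664 := trfs L150046 (flp_d L108907) rfl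
theorem L150355 : sm ge N12459 = N14488 := trfs L150046 L108485 rfl
theorem L150360 : sm gc N11327 = N12461 := trfs L150038 L121365 rfl
theorem L150361 : N12461 = N14578 := eqes L150360 (flp_c L108479)
theorem L150362 : N14578 = N12461 := (eqc rfl L150361 rfl).symm
theorem L150364 : sm gg N11327 = N12459 := trfs L150038 (flp_g L121363) rfl
theorem L150366 : sm gc N12461 = N11327 := trfs L150362 L108479 rfl
theorem L150370 : sm gc N14452 = N12131 := trfs L150030 L116251 rfl
theorem L150374 : sm ga N11326 = N10152 := trfs L150013 L97381 rfl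
theorem L150376 : sm gd N11326 = N12383 := trfs L150013 (flp_d L97895) rfl
theorem L150378 : sm gf N11326 = N12461 := trfs L150013 L97399 rfl
theorem L150380 : sm gg N11326 = N10149 := trfs L150013 (flp_g L97379) rfl
theorem L150385 : sm gb N10798 = N10226 := trfs L149985 (flp_b L98153) rfl
theorem L150395 : sm gd N13604 = N11704 := trfs L149927 L112105 rfl
theorem L150397 : sm gf N13604 = N16966 := trfs L149927 L122586 rfl
theorem L150399 : sm gg N13604 = N11702 := trfs L149927 (flp_g L112100) rfl
theorem L150401 : sm ga N16963 = N19006 := trfs L149915 L145852 rfl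
theorem L150404 : sm gg N16963 = N19000 := trfs L149915 L145857 rfl
theorem L150406 : sm gb N16353 = N18954 := trfs L149911 L145841 rfl
theorem L150408 : sm gg N16353 = N13811 := trfs L149911 (flp_g L145837) rfl
theorem L150411 : sm gf N15284 = N19006 := trfs L149905 L145848 rfl
theorem L150413 : sm gg N15284 = N13810 := trfs L149905 (flp_g L145816) rfl
theorem L150416 : sm gb N10224 = N11030 := trfs L149885 L103466 rfl
theorem L150420 : sm gg N10224 = N10797 := trfs L149885 (flp_g L103463) rfl
theorem L150422 : sm gb N14046 = N11753 := trfs L149882 L112550 rfl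
theorem L150424 : sm gd N14046 = N11752 := trfs L149882 (flp_d L112546) rfl
theorem L150426 : sm ga N14049 = N16960 := trfs L149868 L122561 rfl
theorem L150428 : sm gc N14049 = N12632 := trfs L149868 L122563 rfl
theorem L150430 : sm gg N14049 = N15379 := trfs L149868 L122565 rfl
theorem L150432 : sm gc N14048 = N12257 := trfs L149865 L117547 rfl
theorem L150434 : sm gg N14048 = N12247 := trfs L149865 (flp_g L117545) rfl
theorem L150436 : sm gc N14044 = N12625 := trfs L149854 L112562 rfl
theorem L150438 : sm gf N14044 = N16960 := trfs L149854 L122553 rfl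
theorem L150440 : sm gg N14044 = N11752 := trfs L149854 (flp_g L112558) rfl
theorem L150442 : sm gc N14486 = N12132 := trfs L149835 L116239 rfl
theorem L150444 : sm ge N14486 = N12457 := trfs L149835 L116237 rfl
theorem L150446 : sm gd N11084 = N12457 := trfs L149832 (flp_d L121337) rfl
theorem L150448 : sm ga N10150 = N11272 := trfs L149829 (flp_a L107889) rfl
theorem L150450 : sm gd N10150 = N11364 := trfs L149829 L107891 rfl
theorem L150452 : sm ge N10150 = N11278 := trfs L149829 L107893 rfl
theorem L150454 : sm gg N10150 = N11325 := trfs L149829 L107895 rfl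
theorem L150456 : sm gc N15899 = N16727 := ded_21_1 (flp_g L121406) L121396 L149194
theorem L150458 : sm ga N17034 = N16843 := ded_7_1 (flp_b L121994) L97751 L120631 (flp_a L118889) L149068 (flp_a L98321) L122907 (flp_a L149802) L149203
theorem L150460 : sm gb N15076 = N16066 := ded_14_3 L149206 L108182 L111005
theorem L150462 : sm gd N14519 = N18951 := ded_32_18 (flp_c L145532) L104448 (flp_d L89358) (flp_c L38848) L18463 L78637 (flp_b L8615) L4403 L2292 L1184 (flp_d L1364) L1363 L2654 L2656 L2721 L5243 L82593 L2879 (flp_d L1536) (flp_c L721) L323 L344 L347 L767 L1572 L3052 (flp_c L3056) L82156 (flp_d L2995) (flp_c L1532) L719 L65308 (flp_b L265) L129 (flp_d L253) (flp_c L560) (flp_d L1200) L66683 L2380 L2382 L2440 L4733 (flp_c L82581) L8793 (flp_d L5243) (flp_c L2721) (flp_d L2656) L82444 L73145 L2773 L2867 L5569 (flp_c L82630) L6779 (flp_d L6777) (flp_c L3468) L82636 (flp_c L2775) (flp_b L1422) (flp_e L1416) (flp_d L2747) (flp_c L5286) (flp_d L10495) L10494 L21769 L21771 L21793 L45335 L92897 (flp_b L108182) (flp_d L149206) (flp_c L115900) L95588 (flp_c L150312) L107973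 L107975 L108146
theorem L150464 : sm gf N14864 = N17333 := ded_20_2 L124347 L143905 L149223
theorem L150466 : sm gc N17312 = N17390 := ded_13_2 L124626 (flp_c L149231) L149229 L149223 (flp_b L124227)
theorem L150468 : sm gg N18669 = N14712 := ded_12_2 (flp_a L143907) L149225 L143911
theorem L150470 : sm gg N14059 = N14803 := ded_24_2 (flp_d L143909) L149225 (flp_d L105686)
theorem L150472 : sm gf N18669 = N18664 := ded_29_0 L143877 L143905 L149225 L143911
theorem L150474 : sm ga N18664 = N18671 := ded_29_4 (flp_f L143921) (flp_g L149225) (flp_f L143905) (flp_g L143877)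
theorem L150476 : sm gg N18671 = N18667 := ded_29_3 (flp_a L143899) L143905 L149225 L143921
theorem L150478 : sm gg N14689 = N18692 := ded_12_2 (flp_a L144043) L144045 L149227
theorem L150480 : sm gg N18694 = N18686 := ded_29_1 L144003 L144045 L149227 L144055
theorem L150482 : sm gf N18697 = N18692 := ded_29_2 (flp_g L150478) (flp_a L149227) L149235 L144073
theorem L150484 : sm gg N14890 = N17409 := ded_21_2 L124738 L144045 L149231
theorem L150486 : sm gg N14754 = N18691 := ded_24_2 L144041 L144045 L149233
theorem L150488 : sm ga N18697 = N18686 := ded_29_4 L144003 L144045 L149235 L144073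
theorem L150490 : N14720 = N14165 := coi_16_3 (flp_b L106240) (flp_f L90257) (flp_b L90235) L106184 L149239 (flp_f L109175)
theorem L150491 : N14720 = N14165 := eqc rfl L150490 rfl
theorem L150492 : sm ga N14165 = N11391 := trfs L150491 L109157 rfl
theorem L150494 : sm gc N14165 = N17152 := trfs L150491 (flp_c L123434) rfl
theorem L150496 : sm gf N14165 = N14725 := trfs L150491 L109175 rfl
theorem L150498 : sm gg N14165 = N11388 := trfs L150491 (flp_g L109155) rfl
theorem L150500 : sm gc N16128 = N14154 := ded_21_3 L149241 L150442 L116281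
theorem L150502 : sm gb N18323 = N16483 := ded_14_1 L118360 L123676 L149243
theorem L150504 : sm gg N18344 = N17207 := ded_24_0 L149243 L129707 L129809
theorem L150506 : sm ge N18323 = N16482 := ded_22_2 L118354 L96712 (flp_d L98810) (flp_e L123678) L149243
theorem L150508 : sm ge N17336 = N14706 := ded_15_2 (flp_b L109089) (flp_e L108919) L149245
theorem L150510 : N14294 = N14240 := coi_13_5 (flp_b L106667) (flp_c L105885) L149249 L90245 L90748 L106917
theorem L150511 : N14294 = N14240 := eqc rfl L150510 rfl
theorem L150512 : sm gc N14240 = N11170 := trfs L150511 (flp_c L106917) rfl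
theorem L150514 : sm gf N14240 = N11176 := trfs L150511 L106919 rfl
theorem L150516 : N14171 = N14241 := coi_20_2 (flp_f L106673) (flp_c L105885) L149251 L106272
theorem L150517 : N14241 = N14171 := (eqc rfl L150516 rfl).symm
theorem L150518 : sm ga N14171 = N14239 := trfs L150517 L106675 rfl
theorem L150520 : sm gd N14171 = N18483 := trfs L150517 (flp_d L142857) rfl
theorem L150522 : sm ge N14171 = N11145 := trfs L150517 L106677 rfl
theorem L150524 : sm gf N14171 = N11142 := trfs L150517 (flp_f L106673) rfl
theorem L150526 : sm gg N14171 = N14232 := trfs L150517 L106679 rfl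
theorem L150528 : N14675 = N14170 := coi_29_4 (flp_a L106270) (flp_f L149251) (flp_g L105883) (flp_f L119564) L108961
theorem L150529 : N14675 = N14170 := eqc rfl L150528 rfl
theorem L150530 : sm gc N14170 = N14239 := trfs L150529 L120273 rfl
theorem L150532 : sm gd N14170 = N11391 := trfs L150529 L108963 rfl
theorem L150534 : sm ge N14170 = N14103 := trfs L150529 L120307 rfl
theorem L150536 : sm gg N14170 = N11368 := trfs L150529 (flp_g L108961) rfl
theorem L150538 : N14172 = N14672 := coi_29_4 (flp_a L108951) L119564 L105883 L149251 L106276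
theorem L150539 : N14672 = N14172 := (eqc rfl L150538 rfl).symm
theorem L150540 : sm ga N14172 = N11368 := trfs L150539 (flp_a L108951) rfl
theorem L150542 : sm gb N14172 = N17149 := trfs L150539 (flp_b L123414) rfl
theorem L150544 : sm gc N14172 = N14232 := trfs L150539 L120243 rfl
theorem L150546 : sm gd N14172 = N11388 := trfs L150539 L108953 rfl
theorem L150548 : sm ge N14172 = N14094 := trfs L150539 L120305 rfl
theorem L150550 : sm gf N14172 = N14093 := trfs L150539 (flp_f L120271) rfl
theorem L150552 : N14295 = N14249 := coi_17_5 L106709 (flp_g L105975) L149255 (flp_g L90752) L90748 L106921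
theorem L150553 : N14295 = N14249 := eqc rfl L150552 rfl
theorem L150554 : sm ga N14249 = N14307 := trfs L150553 (flp_a L106971) rfl
theorem L150556 : sm gd N14249 = N15824 := trfs L150553 (flp_d L114662) rfl
theorem L150558 : sm gf N14249 = N14304 := trfs L150553 (flp_f L106959) rfl
theorem L150560 : sm gg N14249 = N11170 := trfs L150553 (flp_g L106921) rfl
theorem L150562 : sm gg N15818 = N14255 := ded_31_12 (flp_f L106731) L90654 (flp_g L90135) (flp_f L139118) L149255 (flp_g L90752) (flp_f L41408) (flp_b L19678) L9486 L11414 L23725 L84069 L94893 L114632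
theorem L150564 : sm gf N15924 = N14122 := ded_23_2 (flp_d L106001) (flp_f L139118) L149257
theorem L150566 : sm gg N15924 = N14259 := ded_24_2 (flp_d L106759) (flp_g L105975) L149257
theorem L150568 : sm gb N18489 = N14122 := ded_14_1 (flp_d L106001) (flp_b L105955) L149269
theorem L150570 : N15798 = N14302 := coi_31_8 (flp_b L106949) L106955 (flp_f L150558) L106709 (flp_g L105975) L139118 (flp_b L105955) L149275 (flp_f L90738) L41406 L19684 L23719 L84049 L94859 L114548
theorem L150571 : N15798 = N14302 := eqc rfl L150570 rfl
theorem L150572 : sm ga N14302 = N15771 := trfs L150571 L114550 rfl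
theorem L150574 : sm ge N14302 = N11971 := trfs L150571 L114552 rfl
theorem L150576 : sm gf N14302 = N11963 := trfs L150571 (flp_f L114548) rfl
theorem L150578 : sm gg N14302 = N15769 := trfs L150571 L114554 rfl
theorem L150580 : N14300 = N14245 := coi_20_2 (flp_f L106693) L106689 L149283 L106937
theorem L150581 : N14300 = N14245 := eqc rfl L150580 rfl
theorem L150582 : sm gb N14245 = N11179 := trfs L150581 L106941 rfl
theorem L150584 : sm gc N14245 = N11174 := trfs L150581 (flp_c L106937) rfl
theorem L150586 : sm ge N14245 = N11176 := trfs L150581 L106939 rfl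
theorem L150588 : N15818 = N14299 := coi_29_4 (flp_a L106933) (flp_f L149283) L106691 L106731 (flp_g L150562)
theorem L150589 : N15818 = N14299 := eqc rfl L150588 rfl
theorem L150590 : sm gb N14299 = N11971 := trfs L150589 (flp_b L114632) rfl
theorem L150592 : sm gg N14299 = N14255 := trfs L150589 L150562 rfl
theorem L150594 : sm ga N14301 = N14255 := ded_29_4 (flp_f L106731) (flp_g L106691) L149283 L106943
theorem L150596 : sm gf N14252 = N14301 := ded_29_0 (flp_g L106943) (flp_f L149283) L106691 (flp_a L106719)
theorem L150598 : N14405 = N14148 := coi_31_14 (flp_b L106152) L106170 (flp_f L149293) (flp_b L105937) (flp_g L90091) (flp_f L88873) L119526 (flp_g L91878) (flp_f L91872) L91866 L91870 L91886 L91890 L107689 (flp_f L107695)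
theorem L150599 : N14405 = N14148 := eqc rfl L150598 rfl
theorem L150600 : sm ga N14148 = N11238 := trfs L150599 (flp_a L107557) rfl
theorem L150602 : sm gc N14148 = N15918 := trfs L150599 L149644 rfl
theorem L150604 : sm gd N14148 = N11243 := trfs L150599 L107559 rfl
theorem L150606 : sm gf N14148 = N14436 := trfs L150599 L107695 rfl
theorem L150608 : sm gg N14148 = N11251 := trfs L150599 L107561 rfl
theorem L150610 : sm gc N17239 = N17248 := ded_13_2 L123892 (flp_c L149586) (flp_b L129996) L130000 L149315
theorem L150612 : sm gg N17239 = N17246 := ded_26_2 (flp_e L123880) L149333 L123850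
theorem L150614 : sm gc N17249 = N17053 := ded_8_2 L122979 L122983 L149335
theorem L150616 : sm gd N14872 = N16602 := ded_14_2 L150220 L149347 (flp_b L109792)
theorem L150618 : N10299 = N16603 := coi_32_5 (flp_b L120784) L120786 L150189 (flp_d L97172) (flp_c L85223) L85221 (flp_d L93197) (flp_c L150258) (flp_d L107523) L149642 (flp_b L115094) (flp_d L129541) (flp_c L103108) (flp_d L102413) L129646 L129652 L129653 L122658 (flp_d L114991) L95129 (flp_b L84249) L24694 (flp_d L65501) (flp_c L9484) (flp_d L4787) (flp_c L2476) (flp_b L1248) L569 (flp_c L1212) (flp_d L2400) (flp_c L4621) L9119 (flp_d L15930) L79053 L15930 L18827 L18829 L18901 L39827 L40207 (flp_c L40203) L74195 (flp_d L19077) (flp_c L9221) (flp_d L9147) L18889 L39809 (flp_e L89356) L104446 L145532 (flp_d L150462) (flp_c L108146) (flp_b L91449) (flp_d L91379) L150312 (flp_d L95588) L115900 (flp_b L150460) (flp_d L111005) (flp_c L92897) (flp_d L45335) (flp_c L21793) (flp_b L10503) (flp_d L10495) L10494 L10495 L5286 L5296 L5298 L5320 L10593 L21995 L45797 L83362 L85922 L98864 (flp_d L149347) L98858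
theorem L150619 : N16603 = N10299 := (eqc rfl L150618 rfl).symm
theorem L150620 : sm gb N10299 = N12384 := trfs L150619 (flp_b L120784) rfl
theorem L150621 : N12384 = N12768 := eqes L150620 L98862
theorem L150622 : N12768 = N12384 := (eqc rfl L150621 rfl).symm
theorem L150626 : sm gb N12384 = N10299 := trfs L150622 (flp_b L98862) rfl
theorem L150631 : sm gd N12384 = N17217 := trfs L150622 (flp_d L149458) rfl
theorem L150632 : N17217 = N16604 := eqes L150631 L120786
theorem L150633 : N17217 = N16604 := eqc rfl L150632 rfl
theorem L150634 : sm ge N12384 = N16491 := trfs L150622 (flp_e L118410) rfl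
theorem L150635 : N16491 = N15966 := eqes L150634 (flp_e L115403)
theorem L150636 : N16491 = N15966 := eqc rfl L150635 rfl
theorem L150637 : sm gf N12384 = N17244 := trfs L150622 L123868 rfl
theorem L150638 : N17244 = N12416 := eqes L150637 L97204
theorem L150639 : N17244 = N12416 := eqc rfl L150638 rfl
theorem L150640 : sm gg N12384 = N17233 := trfs L150622 (flp_g L123818) rfl
theorem L150641 : N17233 = N10125 := eqes L150640 L97082
theorem L150642 : N17233 = N10125 := eqc rfl L150641 rfl
theorem L150643 : sm gb N10125 = N12764 := trfs L150642 (flp_b L123816) rfl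
theorem L150644 : N12764 = N12408 := eqes L150643 L97170
theorem L150645 : N12764 = N12408 := eqc rfl L150644 rfl
theorem L150646 : sm ga N12408 = N17228 := trfs L150645 (flp_a L123778) rfl
theorem L150647 : N17228 = N16634 := eqes L150646 L120965
theorem L150648 : N17228 = N16634 := eqc rfl L150647 rfl
theorem L150649 : sm gc N12408 = N17231 := trfs L150645 (flp_c L123810) rfl
theorem L150650 : N17231 = N16630 := eqes L150649 (flp_c L120951)
theorem L150651 : N17231 = N16630 := eqc rfl L150650 rfl
theorem L150652 : sm gd N12408 = N17216 := trfs L150645 (flp_d L123724) rfl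
theorem L150653 : N17216 = N16635 := eqes L150652 L120967
theorem L150654 : N17216 = N16635 := eqc rfl L150653 rfl
theorem L150655 : sm ge N12408 = N16490 := trfs L150645 (flp_e L118406) rfl
theorem L150656 : N16490 = N16018 := eqes L150655 (flp_e L115665)
theorem L150657 : N16490 = N16018 := eqc rfl L150656 rfl
theorem L150658 : sm gf N12408 = N17234 := trfs L150645 L123820 rfl
theorem L150659 : N17234 = N16636 := eqes L150658 L120971
theorem L150660 : N17234 = N16636 := eqc rfl L150659 rfl
theorem L150661 : sm gg N12408 = N10297 := trfs L150645 (flp_g L98846) rfl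
theorem L150662 : N10297 = N16637 := eqes L150661 L120973
theorem L150663 : N16637 = N10297 := (eqc rfl L150662 rfl).symm
theorem L150664 : sm gg N10297 = N12408 := trfs L150663 (flp_g L120973) rfl
theorem L150666 : sm ga N16636 = N17232 := trfs L150660 L123822 rfl
theorem L150668 : sm gg N16636 = N17227 := trfs L150660 L123824 rfl
theorem L150670 : sm gg N16018 = N12315 := trfs L150657 (flp_g L118404) rfl
theorem L150672 : sm gg N16635 = N12755 := trfs L150654 (flp_g L123722) rfl
theorem L150674 : sm ga N16630 = N14446 := trfs L150651 L123808 rfl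
theorem L150676 : sm gg N16630 = N12762 := trfs L150651 (flp_g L123806) rfl
theorem L150678 : sm gc N16634 = N14446 := trfs L150648 L123780 rfl
theorem L150680 : sm gf N16634 = N17232 := trfs L150648 L123814 rfl
theorem L150682 : sm gg N16634 = N12761 := trfs L150648 (flp_g L123776) rfl
theorem L150684 : sm gb N12416 = N17060 := trfs L150639 L123870 rfl
theorem L150685 : N17060 = N16652 := eqes L150684 L121038
theorem L150686 : N17060 = N16652 := eqc rfl L150685 rfl
theorem L150687 : sm gg N12416 = N16744 := trfs L150639 (flp_g L123872) rfl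
theorem L150688 : N16744 = N10128 := eqes L150687 (flp_g L97198)
theorem L150689 : N16744 = N10128 := eqc rfl L150688 rfl
theorem L150690 : sm gb N10128 = N12475 := trfs L150689 (flp_b L121489) rfl
theorem L150691 : N12475 = N12415 := eqes L150690 L97195
theorem L150692 : N12475 = N12415 := eqc rfl L150691 rfl
theorem L150693 : sm ga N12415 = N10158 := trfs L150692 (flp_a L97464) rfl
theorem L150694 : N10158 = N16650 := eqes L150693 L121033
theorem L150695 : N16650 = N10158 := (eqc rfl L150694 rfl).symm
theorem L150696 : sm gc N12415 = N16745 := trfs L150692 L121491 rfl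
theorem L150697 : N16745 = N12451 := eqes L150696 (flp_c L97356)
theorem L150698 : N16745 = N12451 := eqc rfl L150697 rfl
theorem L150699 : sm gd N12415 = N16741 := trfs L150692 (flp_d L121479) rfl
theorem L150700 : N16741 = N16648 := eqes L150699 (flp_d L121022)
theorem L150701 : N16741 = N16648 := eqc rfl L150700 rfl
theorem L150702 : sm ge N12415 = N16137 := trfs L150692 (flp_e L116337) rfl
theorem L150703 : N16137 = N16025 := eqes L150702 (flp_e L115700)
theorem L150704 : N16137 = N16025 := eqc rfl L150703 rfl
theorem L150706 : sm gg N12415 = N16746 := trfs L150692 L121496 rfl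
theorem L150707 : N16746 = N16651 := eqes L150706 L121036
theorem L150708 : N16746 = N16651 := eqc rfl L150707 rfl
theorem L150709 : sm ga N16651 = N12477 := trfs L150708 L121498 rfl
theorem L150711 : sm gb N16651 = N17063 := trfs L150708 L123023 rfl
theorem L150713 : sm gf N16651 = N12477 := trfs L150708 (flp_f L121500) rfl
theorem L150715 : sm ga N16025 = N12137 := trfs L150704 (flp_a L116335) rfl
theorem L150718 : sm ga N16648 = N12474 := trfs L150701 (flp_a L121477) rfl
theorem L150721 : sm ga N12451 = N12476 := trfs L150698 L121493 rfl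
theorem L150722 : N12476 = N16700 := eqes L150721 L121298
theorem L150723 : N16700 = N12476 := (eqc rfl L150722 rfl).symm
theorem L150725 : sm ga N12476 = N12451 := trfs L150723 (flp_a L121298) rfl
theorem L150729 : sm ga N10158 = N12415 := trfs L150695 (flp_a L121033) rfl
theorem L150732 : sm ga N16652 = N17066 := trfs L150686 (flp_a L123039) rfl
theorem L150734 : sm gf N16652 = N12661 := trfs L150686 (flp_f L123009) rfl
theorem L150736 : sm gg N16652 = N17063 := trfs L150686 L123021 rfl
theorem L150738 : sm gb N15966 = N12316 := trfs L150636 (flp_b L118408) rfl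
theorem L150740 : sm gb N16604 = N12756 := trfs L150633 (flp_b L123726) rfl
theorem L150742 : sm gc N17038 = N17036 := ded_8_2 (flp_a L122909) L122915 L149419
theorem L150744 : sm gc N16483 = N19029 := ded_28_2 L149546 (flp_c L104953) (flp_d L102271) (flp_c L149544) L149425 (flp_a L123682) (flp_c L123680) (flp_d L118360)
theorem L150746 : sm ga N17246 = N17248 := ded_10_3 L123890 L149474 L123880
theorem L150748 : sm gd N13957 = N14619 := ded_24_3 L149484 (flp_d L105250) L105264
theorem L150750 : sm ge N16635 = N18344 := ded_32_26 (flp_d L129809) (flp_c L102471) (flp_d L91800) (flp_c L148187) (flp_b L91778) L44072 L71916 (flp_d L44072) L72348 L44115 (flp_d L91345) (flp_c L150345) (flp_d L93313) L111721 L150225 (flp_d L103318) (flp_c L88726) (flp_d L88672) L129567 L90736 (flp_d L41414) L19682 L9492 L65482 (flp_b L5587) (flp_e L5585) (flp_d L2877) (flp_c L1462) (flp_d L1424) L2775 L2777 L82407 L876 (flp_d L82407) (flp_c L1658) (flp_b L806) L360 L171 L95 L51 L53 (flp_d L95) (flp_c L171) (flp_d L360) (flp_c L669) L1422 L1424 L1462 L2877 (flp_c L82593) (flp_b L8793) L18071 (flp_d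 L37486) (flp_c L88944) L148068 (flp_c L148070) L129627 (flp_d L129642) L106133 L129642 (flp_c L149494) (flp_b L108659) L108661 L147699 L102239 L104859 (flp_b L149007) (flp_d L109774) L147847 L91615 L91662 L91664 L150283 L97078 L120786 L150189 (flp_b L120969)
theorem L150752 : sm ge N18324 = N17213 := ded_10_2 (flp_a L123711) (flp_e L123678) L149525
theorem L150754 : N17214 = N16635 := coi_19_0 L150750 L149527 L123678 L123716
theorem L150755 : N17214 = N16635 := eqc rfl L150754 rfl
theorem L150756 : sm gc N16635 = N12755 := trfs L150755 (flp_c L123716) rfl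
theorem L150758 : sm gg N13879 = N13878 := ded_24_2 (flp_d L129137) L149711 L149546
theorem L150760 : N15757 = N14679 := coi_13_5 (flp_b L108979) (flp_c L108975) L149568 L94279 L94779 L114372
theorem L150761 : N15757 = N14679 := eqc rfl L150760 rfl
theorem L150762 : sm gc N14679 = N11945 := trfs L150761 (flp_c L114372) rfl
theorem L150764 : sm gf N15575 = N19025 := ded_20_0 L149570 L113454 L113542
theorem L150766 : sm gc N15392 = N19042 := ded_13_4 (flp_b L146130) (flp_c L146124) L149572 L112594 L112608
theorem L150768 : sm gb N18711 = N16384 := ded_7_6 (flp_a L117745) (flp_b L96422) (flp_a L96386) L117673 L149594 (flp_b L144109) L103744 L103774 L144171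
theorem L150770 : sm ge N19029 = N16384 := ded_10_2 (flp_a L117745) L117753 L149596
theorem L150772 : sm ga N15575 = N18567 := ded_8_3 (flp_c L143325) L149607 L113542
theorem L150774 : sm ga N15573 = N18403 := ded_10_3 L130192 L149607 (flp_e L113536)
theorem L150776 : N15418 = N18574 := coi_7_6 (flp_b L143355) (flp_a L103268) (flp_b L88704) (flp_a L88692) L103244 L149607 (flp_b L94349) L47402 L93879 L112722
theorem L150777 : N18574 = N15418 := (eqc rfl L150776 rfl).symm
theorem L150778 : sm gb N15418 = N13558 := trfs L150777 (flp_b L143355) rfl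
theorem L150780 : sm gd N18568 = N15567 := ded_23_3 L113508 L149615 L143327
theorem L150782 : sm gb N15579 = N18523 := ded_15_3 L143047 L149626 (flp_e L113562)
theorem L150784 : sm gb N15537 = N18537 := ded_7_6 (flp_a L143147) (flp_b L103144) (flp_a L103132) L149626 (flp_a L94375) (flp_b L47416) (flp_a L47322) L94235 L113336
theorem L150786 : sm gf N14306 = N15690 := ded_31_7 (flp_b L114071) (flp_g L94614) (flp_f L83913) (flp_b L23521) (flp_g L11332) (flp_f L9451) L19591 L41276 L90636 (flp_b L149634) L132210 L90311 (flp_b L90778) L106965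
theorem L150788 : sm gf N15890 = N14310 := ded_23_2 (flp_d L106993) (flp_f L106294) L149636
theorem L150790 : sm gg N15890 = N14179 := ded_24_2 (flp_d L106320) (flp_g L132210) L149636
theorem L150792 : N16631 = N14422 := coi_28_8 (flp_a L107619) L107623 (flp_d L129586) (flp_c L149642) L107523 L150258 L93197 L97164 L120953
theorem L150793 : N16631 = N14422 := eqc rfl L150792 rfl
theorem L150794 : sm gd N14422 = N12405 := trfs L150793 (flp_d L120953) rfl
theorem L150796 : sm gg N17654 = N17654 := ded_29_1 (flp_f L125934) (flp_g L125854) L149674 L125934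
theorem L150797 : sm ge N14683 = N17414 := ded_15_0 L149682 L108861 L108991
theorem L150799 : sm gg N18797 = N16213 := ded_12_2 (flp_a L117769) L149699 L144639
theorem L150801 : sm gg N16215 = N16204 := ded_29_1 (flp_f L116675) L116677 L149701 L116716
theorem L150803 : sm ga N18766 = N18768 := ded_10_3 L144487 L149707 (flp_e L144479)
theorem L150805 : sm gc N18768 = N18765 := ded_19_3 L144475 L149709 (flp_e L144487)
theorem L150807 : sm gc N16552 = N19045 := ded_13_4 L146144 L149709 L104959 (flp_c L105232) (flp_b L149815)
theorem L150809 : sm gb N19048 = N18251 := ded_17_5 L149711 (flp_b L145977) L104823 L104857 L146150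
theorem L150811 : sm ga N16725 = N14040 := ded_9_1 (flp_d L105608) L105604 L149721
theorem L150813 : N18944 = N16125 := coi_9_3 (flp_a L116269) L116273 L149725 L145487
theorem L150814 : N18944 = N16125 := eqc rfl L150813 rfl
theorem L150815 : sm gb N16125 = N13777 := trfs L150814 L145489 rfl
theorem L150817 : sm gd N16125 = N13776 := trfs L150814 (flp_d L145487) rfl
theorem L150819 : N16041 = N12092 := coi_9_0 L115789 L149741 (flp_d L115789) (flp_a L115780)
theorem L150820 : N16041 = N12092 := eqc rfl L150819 rfl
theorem L150821 : sm ga N12092 = N12092 := trfs L150820 L115780 rfl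
theorem L150822 : sm gc N12092 = N12091 := trfs L150820 (flp_c L115778) rfl
theorem L150823 : N12091 = N9973 := eqes L150822 (flp_c L95541)
theorem L150824 : N12091 = N9973 := eqc rfl L150823 rfl
theorem L150826 : sm ga N9973 = N9973 := trfs L150824 (flp_a L95538) rfl
theorem L150830 : sm gd N9973 = N16030 := trfs L150824 (flp_d L115732) rfl
theorem L150831 : N16030 = N12085 := eqes L150830 (flp_d L95511)
theorem L150832 : N16030 = N12085 := eqc rfl L150831 rfl
theorem L150833 : sm ge N9973 = N14952 := trfs L150824 (flp_e L110279) rfl
theorem L150834 : N14952 = N11511 := eqes L150833 (flp_e L92551)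
theorem L150835 : N14952 = N11511 := eqc rfl L150834 rfl
theorem L150836 : sm gf N9973 = N16042 := trfs L150824 L115783 rfl
theorem L150837 : N16042 = N12093 := eqes L150836 L95546
theorem L150838 : N16042 = N12093 := eqc rfl L150837 rfl
theorem L150840 : sm ga N12093 = N12093 := trfs L150838 L115785 rfl
theorem L150841 : sm gg N12093 = N12093 := trfs L150838 L115787 rfl
theorem L150842 : sm ga N11511 = N11511 := trfs L150835 (flp_a L110276) rfl
theorem L150845 : sm ga N12085 = N12085 := trfs L150832 (flp_a L115730) rfl
theorem L150848 : sm ga N18338 = N17415 := ded_9_1 (flp_d L124762) (flp_a L124748) L149748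
theorem L150850 : sm ga N14683 = N17417 := ded_12_1 (flp_g L124774) (flp_a L124748) L149750
theorem L150852 : N18167 = N17032 := coi_29_4 (flp_a L122897) L98318 L122905 L149774 (flp_g L128631)
theorem L150853 : N18167 = N17032 := eqc rfl L150852 rfl
theorem L150854 : sm gb N17032 = N13297 := trfs L150853 (flp_b L128626) rfl
theorem L150856 : sm gd N17032 = N13299 := trfs L150853 L128628 rfl
theorem L150859 : sm gg N17032 = N16843 := trfs L150853 L128631 rfl
theorem L150861 : sm gb N18924 = N17133 := ded_13_3 L123325 (flp_b L112744) L149782 (flp_b L145372) L145380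
theorem L150863 : N18168 = N16836 := coi_9_2 L121954 L121982 L149808 L128633
theorem L150864 : N18168 = N16836 := eqc rfl L150863 rfl
theorem L150865 : sm ga N16836 = N13298 := trfs L150864 (flp_a L128633) rfl
theorem L150868 : sm gd N14385 = N13947 := ded_14_2 (flp_b L105220) L105224 L149819
theorem L150870 : sm gg N16721 = N15902 := ded_21_2 (flp_c L115044) L115055 L149821
theorem L150872 : sm gb N16721 = N14043 := ded_32_20 (flp_d L145514) L145509 L129492 L102503 (flp_b L129828) (flp_e L129826) (flp_d L102481) (flp_c L88302) (flp_d L44103) L91802 L91804 L91908 (flp_c L148189) (flp_d L148193) (flp_c L109386) L148010 L148008 L147990 (flp_d L89662) (flp_c L39603) (flp_b L18805) (flp_d L15922) (flp_c L32498) (flp_d L87987) (flp_c L101815) (flp_b L148254) L95170 L84246 L24647 L11851 L137229 (flp_e L11210) (flp_d L5569) (flp_c L2867) (flp_d L2773) (flp_c L82444) (flp_b L2654) L1364 (flp_c L1184) (flp_d L2292) (flp_c L4363) L8537 L8539 L78706 (flp_d L8539) L78774 (flp_b L9057) L4601 L4723 L9373 (flp_c L82555) (flp_b L37972) (flp_d L37970) L81755 L37970 L37985 L37972 L37986 (flp_d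 L88928) (flp_c L129619) L103634 L129610 L148025 L147915 L90241 L90734 (flp_c L129567) L148524 L148520 L148510 L94297 L47392 (flp_b L41412) (flp_d L84263) (flp_c L95158) (flp_d L115057) L149821
theorem L150874 : sm gg N14149 = N16708 := ded_24_0 L149823 (flp_g L106170) L106154
theorem L150876 : sm gc N14149 = N16723 := ded_8_2 L121394 L149847 (flp_a L106156)
theorem L150878 : sm gc N14155 = N16729 := ded_20_3 (flp_f L121416) L149847 L106184
theorem L150880 : sm ga N16727 = N15902 := ded_28_8 (flp_c L115044) (flp_d L95148) L84236 L65450 (flp_c L40233) L90233 (flp_c L149847) (flp_d L121408)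
theorem L150882 : sm gd N15902 = N16723 := ded_28_7 L121394 L149847 (flp_d L90233) L40233 (flp_d L65450) (flp_c L84236) L95148 L115044
theorem L150884 : N14149 = N14414 := coi_32_5 (flp_b L107589) (flp_d L150604) L150602 L115126 L149650 (flp_b L90720) (flp_d L84255) (flp_c L95146) L115028 L150456 L121410 L98218 (flp_c L149858) (flp_d L89963) (flp_c L89952) (flp_b L89950) L89954 L89960 (flp_d L89954) (flp_c L39799) (flp_b L18885) (flp_e L18465) L18463 L78637 (flp_d L17674) L36885 (flp_b L88434) L102713 (flp_c L117531) (flp_d L117527) L96331 (flp_b L84807) L84811 L96384 (flp_d L96388) (flp_c L95945) L84629 (flp_d L84627) (flp_c L25003) L12042 L12077 L12081 L12172 L25304 (flp_d L79744) L12177 (flp_b L80621) L80627 L6442 L6561 L13369 L27830 L86117 (flp_d L92131) (flp_c L147528) L88124 (flp_c L89592) L104807 (flp_d L146193) (flp_c L113472) (flp_d L94299) L47384 L23711 L23717 L84035 L84043 (flp_c L24690) (flp_b L24611) (flp_d L24609) L82131 L24609 L84220 L95125 L95127 L95148 L115044 L150882 (flp_c L150876)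
theorem L150885 : N14414 = N14149 := (eqc rfl L150884 rfl).symm
theorem L150886 : sm gb N14149 = N11243 := trfs L150885 (flp_b L107589) rfl
theorem L150888 : sm ge N16350 = N18954 := ded_22_4 L145546 L104456 L149889 (flp_e L96329) L117527
theorem L150890 : sm gd N15379 = N14051 := ded_9_2 (flp_a L105662) L149898 (flp_a L112554)
theorem L150892 : sm gd N16960 = N14045 := ded_24_3 (flp_g L105664) L149898 L122549
theorem L150894 : sm gb N18950 = N15382 := ded_7_2 L112570 L93815 L46785 (flp_b L46573) (flp_a L93595) (flp_b L112090) L112088 L149906 (flp_a L145528)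
theorem L150896 : sm gd N14074 = N16975 := ded_14_2 (flp_b L122615) L149970 (flp_b L105754)
theorem L150898 : sm gc N18952 = N18377 := ded_13_4 L130010 (flp_c L117565) L150001 L104645 (flp_b L145536)
theorem L150900 : sm gg N18952 = N16350 := ded_17_4 L117529 L117563 L150001 L104647 (flp_b L145536)
theorem L150902 : N19002 = N18771 := coi_19_2 (flp_e L144501) (flp_c L117565) L150003 L145823
theorem L150903 : N19002 = N18771 := eqc rfl L150902 rfl
theorem L150904 : sm gb N18771 = N18951 := trfs L150903 L145825 rfl
theorem L150906 : sm gc N18771 = N13811 := trfs L150903 (flp_c L145823) rfl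
theorem L150908 : sm gc N16124 = N14492 := ded_19_3 (flp_e L108469) L150039 (flp_e L116265)
theorem L150910 : sm gc N16123 = N14454 := ded_20_1 (flp_f L107769) L107761 L150096
theorem L150912 : sm gg N14946 = N14936 := ded_24_2 L110170 L150115 L110238
theorem L150914 : sm gc N14945 = N14926 := ded_19_3 L110121 L150144 (flp_e L110234)
theorem L150916 : sm gc N16649 = N16640 := ded_28_0 L120989 L97180 (flp_d L93207) (flp_c L150144) L93163 (flp_c L97090) (flp_d L120802) (flp_a L121027)
theorem L150918 : N15386 = N17028 := coi_7_5 (flp_a L149166) L118750 (flp_a L118774) L118776 (flp_a L120780) L150220 L98856 L85930 (flp_a L93808) L112586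
theorem L150919 : N17028 = N15386 := (eqc rfl L150918 rfl).symm
theorem L150920 : sm ga N15386 = N16546 := trfs L150919 (flp_a L149166) rfl
theorem L150922 : sm gc N15386 = N12647 := trfs L150919 (flp_c L122876) rfl
theorem L150924 : sm gb N14769 = N15155 := ded_13_3 L150267 L97913 L111721 L150225 (flp_c L148075)
theorem L150926 : sm ga N15220 = N15211 := ded_7_7 (flp_b L111725) (flp_a L111723) L150225 L103320 L88738 (flp_a L88798) L150385 (flp_a L102068) (flp_b L111767)
theorem L150928 : N18340 = N15212 := coi_9_2 (flp_d L111729) (flp_a L111723) L150227 (flp_a L129801)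
theorem L150929 : N18340 = N15212 := eqc rfl L150928 rfl
theorem L150930 : sm ga N15212 = N13572 := trfs L150929 L129801 rfl
theorem L150932 : sm gc N15212 = N13398 := trfs L150929 (flp_c L129799) rfl
theorem L150934 : sm gd N18600 = N16791 := ded_23_3 L121713 L150227 L143519
theorem L150936 : sm gb N16893 = N15207 := ded_14_3 L111707 L150238 L122242
theorem L150938 : sm gb N16315 = N14989 := ded_15_3 L110489 L150238 (flp_e L117323)
theorem L150940 : sm gb N16889 = N14613 := ded_16_3 (flp_f L108639) L91732 L93299 L150238 (flp_f L122230)
theorem L150942 : sm gc N14943 = N14349 := ded_19_3 L107240 L150258 (flp_e L110222)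
theorem L150944 : sm gc N15168 = N15157 := ded_20_3 (flp_f L111469) L150258 L111525
theorem L150946 : N16015 = N14362 := coi_10_3 (flp_a L107328) (flp_e L107304) L150263 (flp_e L115649)
theorem L150947 : N16015 = N14362 := eqc rfl L150946 rfl
theorem L150948 : sm gc N14362 = N12077 := trfs L150947 (flp_c L115647) rfl
theorem L150950 : sm ge N14362 = N12405 := trfs L150947 L115649 rfl
theorem L150952 : sm gg N16632 = N15157 := ded_29_1 (flp_f L111469) (flp_g L107306) L150263 L120955
theorem L150954 : sm gb N14446 = N16708 := ded_7_4 (flp_a L121333) (flp_b L97383) L150448 (flp_b L91343) (flp_a L91049) L107300 L150263 L120949 L150674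
theorem L150956 : sm ga N16780 = N15157 := ded_11_1 (flp_f L111469) L111463 L150269
theorem L150958 : sm ga N16790 = N16876 := ded_30_7 (flp_f L122170) (flp_c L122148) (flp_b L122146) (flp_a L122142) L122144 (flp_c L111483) (flp_b L93147) (flp_a L46377) (flp_f L46375) (flp_c L46355) L93133 L111463 L150269 (flp_c L121655) (flp_b L97552) L85394 L85418 (flp_c L97593) L121707
theorem L150960 : sm ge N15953 = N14946 := ded_22_4 (flp_d L110238) L92527 L150283 (flp_e L95354) (flp_d L115323)
theorem L150962 : sm ga N14946 = N14920 := ded_9_3 L110081 L150287 L110238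
theorem L150964 : N14476 = N16682 := coi_30_7 L121218 (flp_f L112194) L112192 L93617 (flp_a L93391) (flp_f L93389) (flp_c L93387) (flp_b L98453) L98451 L98467 L98469 L85742 (flp_a L97377) (flp_f L97375) L150345 (flp_b L91343) (flp_a L91049) L91341 (flp_c L91355) L107909
theorem L150965 : N16682 = N14476 := (eqc rfl L150964 rfl).symm
theorem L150966 : sm ga N14476 = N12443 := trfs L150965 L121218 rfl
theorem L150968 : sm gc N14476 = N12442 := trfs L150965 (flp_c L121216) rfl
theorem L150970 : sm gg N14476 = N15283 := trfs L150965 L121220 rfl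
theorem L150972 : sm gf N16975 = N14065 := ded_16_4 (flp_b L105710) (flp_f L90001) L150385 L98155 L122615
theorem L150974 : sm gd N15220 = N18643 := ded_14_2 (flp_b L143763) L150395 (flp_b L111767)
theorem L150976 : sm gg N15218 = N18643 := ded_17_4 (flp_b L143763) L150399 L93586 (flp_g L93333) (flp_b L111761)
theorem L150978 : sm gc N18954 = N18425 := ded_13_2 L130316 L102779 (flp_b L104242) (flp_c L117553) L150406
theorem L150980 : sm gd N16710 = N14162 := ded_23_3 (flp_f L106218) L150446 L121341
theorem L150982 : sm gg N18951 = N18425 := ded_24_2 L130318 (flp_g L147967) L150462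
theorem L150984 : sm ge N18951 = N18377 := ded_22_2 (flp_d L130008) L102589 L147972 (flp_e L108148) L150462
theorem L150986 : sm ge N17649 = N14864 := ded_25_3 L150464 L141048 L125914
theorem L150988 : sm gf N17384 = N17312 := ded_16_4 L124227 L150464 (flp_b L124345) (flp_f L99259) L124600
theorem L150990 : sm gg N17390 = N17303 := ded_21_2 L124185 L124225 L150466
theorem L150992 : sm gd N14806 = N18669 := ded_24_3 L150468 L109119 L109482
theorem L150994 : sm ga N14806 = N14059 := ded_12_3 L150470 (flp_a L109474) L109482
theorem L150996 : sm gc N15433 = N14059 := ded_21_3 L150470 L120555 L112784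
theorem L150998 : sm gd N18692 = N14757 := ded_24_1 (flp_g L109291) (flp_d L109021) L150478
theorem L151000 : sm ge N17824 = N14890 := ded_26_3 L150484 L142003 L126714
theorem L151002 : sm ga N18691 = N14757 := ded_12_1 (flp_g L109291) L109285 L150486
theorem L151004 : sm gc N18691 = N15375 := ded_21_1 (flp_g L112538) (flp_c L120553) L150486
theorem L151006 : sm gb N17152 = N18589 := ded_13_1 (flp_c L143459) L103294 (flp_c L90261) L106240 L150494
theorem L151008 : N17150 = N18656 := coi_17_3 (flp_b L143835) L103488 L106240 L150498 (flp_b L120414) L123416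
theorem L151009 : N18656 = N17150 := (eqc rfl L151008 rfl).symm
theorem L151010 : sm gb N17150 = N13611 := trfs L151009 (flp_b L143835) rfl
theorem L151012 : sm gd N17150 = N14173 := trfs L151009 L143837 rfl
theorem L151014 : sm ga N16482 = N18292 := ded_10_1 L129375 (flp_a L129705) L150506
theorem L151016 : sm gc N16482 = N18291 := ded_19_1 L129369 L129703 L150506
theorem L151018 : sm gg N16482 = N18301 := ded_26_2 L129446 (flp_g L129707) L150506
theorem L151020 : sm gg N14250 = N14303 := ded_29_3 L106953 (flp_f L150514) L106671 L106711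
theorem L151022 : sm ga N14306 = N14250 := ded_29_4 (flp_f L106711) (flp_g L106671) L150514 L106965
theorem L151024 : N14248 = N15690 := coi_29_0 (flp_f L150786) (flp_g L106965) (flp_f L150514) L106671 L106701
theorem L151025 : N15690 = N14248 := (eqc rfl L151024 rfl).symm
theorem L151026 : sm gb N14248 = N11910 := trfs L151025 (flp_b L114071) rfl
theorem L151028 : sm gf N14248 = N14306 := trfs L151025 (flp_f L150786) rfl
theorem L151030 : sm gb N18483 = N14179 := ded_14_1 (flp_d L106320) (flp_b L106274) L150520
theorem L151032 : N14251 = N15670 := coi_31_9 (flp_g L113987) (flp_f L94580) (flp_b L83893) (flp_g L23515) (flp_f L19597) (flp_b L41270) L90624 (flp_f L150524) L106274 (flp_g L132210) L106294 (flp_b L150582) L106725 (flp_f L106721) L106715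
theorem L151033 : N15670 = N14251 := (eqc rfl L151032 rfl).symm
theorem L151034 : sm ga N14251 = N15644 := trfs L151033 L113989 rfl
theorem L151036 : sm ge N14251 = N11910 := trfs L151033 L113991 rfl
theorem L151038 : sm gf N14251 = N15642 := trfs L151033 (flp_f L113993) rfl
theorem L151040 : sm gg N14251 = N11902 := trfs L151033 (flp_g L113987) rfl
theorem L151042 : sm gg N17149 = N14173 := ded_17_2 (flp_b L106278) (flp_g L90275) L90273 L106276 L150542
theorem L151044 : sm gc N14307 = N14248 := ded_8_2 (flp_a L106701) L106705 L150554
theorem L151046 : sm ge N14307 = N14252 := ded_10_2 L106719 (flp_e L106707) L150554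
theorem L151048 : sm gb N15824 = N14259 := ded_14_1 (flp_d L106759) (flp_b L106709) L150556
theorem L151050 : sm gc N14304 = N14250 := ded_20_1 (flp_f L106711) L106705 L150558
theorem L151052 : sm ge N14304 = N14255 := ded_25_1 (flp_f L106731) (flp_e L106707) L150558
theorem L151054 : sm gf N15791 = N15819 := ded_31_10 (flp_b L114634) (flp_g L114622) L114664 L151048 (flp_g L150566) L150564 (flp_b L150568) L142891 (flp_f L106883) L90736 L41416 L84045 L94845 L114510
theorem L151056 : sm gb N14310 = N15696 := ded_13_3 L142899 (flp_b L142893) (flp_c L142887) L150568 L142694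
theorem L151058 : sm gc N14299 = N14256 := ded_8_2 L106737 L150584 L106933
theorem L151060 : sm gc N14301 = N14253 := ded_21_3 (flp_g L106725) L150584 L106943
theorem L151062 : sm ge N14303 = N14256 := ded_10_2 L106737 L150586 (flp_a L106953)
theorem L151064 : sm ge N14306 = N14253 := ded_26_3 (flp_g L106725) L150586 L106965
theorem L151066 : N14380 = N14143 := coi_7_5 (flp_a L106124) (flp_b L90218) L40205 L40231 L90229 L106152 L150600 (flp_b L91167) (flp_a L91117) L107433
theorem L151067 : N14380 = N14143 := eqc rfl L151066 rfl
theorem L151068 : sm gb N14143 = N11227 := trfs L151067 (flp_b L107433) rfl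
theorem L151071 : sm gd N14143 = N11229 := trfs L151067 L107435 rfl
theorem L151072 : N11229 = N14053 := eqes L151071 L106127
theorem L151073 : N14053 = N11229 := (eqc rfl L151072 rfl).symm
theorem L151074 : sm ga N11229 = N11032 := trfs L151073 (flp_a L105666) rfl
theorem L151075 : N11032 = N14384 := eqes L151074 L107443
theorem L151076 : N14384 = N11032 := (eqc rfl L151075 rfl).symm
theorem L151077 : sm gd N11229 = N14143 := trfs L151073 (flp_d L106127) rfl
theorem L151079 : sm ga N11032 = N11229 := trfs L151076 (flp_a L107443) rfl
theorem L151081 : N16641 = N16998 := coi_31_6 (flp_g L122740) L98222 (flp_b L85654) (flp_g L26867) (flp_f L26746) L12849 L12847 L12910 L26881 L85708 (flp_f L85920) (flp_b L150626) L97082 L97176 L120993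
theorem L151082 : N16998 = N16641 := (eqc rfl L151081 rfl).symm
theorem L151083 : sm ga N16641 = N17017 := trfs L151082 (flp_a L122820) rfl
theorem L151085 : sm gf N16641 = N17014 := trfs L151082 (flp_f L122808) rfl
theorem L151087 : sm gg N16641 = N12630 := trfs L151082 (flp_g L122740) rfl
theorem L151089 : sm gd N18301 = N16018 := ded_24_3 L150670 (flp_d L118354) L151018
theorem L151091 : sm ga N16748 = N16701 := ded_8_3 L121305 L150709 (flp_c L121509)
theorem L151093 : sm gf N16748 = N16701 := ded_20_2 L121305 L150713 (flp_c L121509)
theorem L151095 : N16985 = N16588 := coi_31_10 (flp_f L120659) L97021 L85190 L85236 L97195 L121036 L150713 (flp_b L98274) (flp_g L98272) (flp_f L98222) (flp_b L98220) L98224 (flp_f L98226) L122675 L122677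
theorem L151096 : N16985 = N16588 := eqc rfl L151095 rfl
theorem L151097 : sm gb N16588 = N12625 := trfs L151096 (flp_b L122675) rfl
theorem L151100 : sm ga N16138 = N16113 := ded_8_3 L116192 L150715 L116340
theorem L151102 : sm ga N16698 = N16747 := ded_9_3 (flp_d L121502) L150725 (flp_d L121287)
theorem L151104 : N12386 = N16999 := coi_31_8 (flp_b L122742) (flp_g L98224) (flp_f L85632) (flp_b L26855) (flp_g L26739) L26891 L85710 (flp_g L98379) (flp_f L150734) (flp_b L121038) (flp_g L97198) (flp_f L85236) L26700 (flp_g L85190) L97088
theorem L151105 : N16999 = N12386 := (eqc rfl L151104 rfl).symm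
theorem L151106 : sm gb N12386 = N12631 := trfs L151105 (flp_b L122742) rfl
theorem L151107 : N12631 = N16608 := eqes L151106 L120804
theorem L151108 : N16608 = N12631 := (eqc rfl L151107 rfl).symm
theorem L151109 : sm gb N12631 = N12386 := trfs L151108 (flp_b L120804) rfl
theorem L151111 : sm ga N18348 = N16635 := ded_10_3 L150750 L129811 L129826
theorem L151113 : sm gb N18344 = N16639 := ded_15_1 (flp_e L120981) (flp_b L120969) L150750
theorem L151115 : sm gc N17213 = N18348 := ded_19_1 (flp_e L129826) (flp_c L149523) L150752
theorem L151117 : sm gg N17213 = N18348 := ded_26_2 (flp_e L129826) (flp_g L129712) L150752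
theorem L151119 : sm gd N16487 = N18292 := ded_22_3 L129375 L129709 L150752 L123713 (flp_e L118387)
theorem L151121 : sm gg N18765 = N18766 := ded_26_2 L144479 L150758 (flp_e L144475)
theorem L151123 : sm gg N19045 = N18234 := ded_17_2 (flp_b L129048) (flp_g L148197) (flp_b L149486) L150758 (flp_b L146144)
theorem L151125 : sm gf N19042 = N15401 := ded_16_4 (flp_b L113544) L150764 (flp_b L145965) (flp_f L104843) L146130
theorem L151127 : sm gg N13986 = N15575 := ded_31_0 L150764 (flp_b L145965) (flp_g L104817) L89596 (flp_b L39583) (flp_g L18813) (flp_f L18809) L18805 L18807 L18831 L39671 L89823 (flp_f L89843) L105388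
theorem L151129 : sm ga N13986 = N19028 := ded_29_4 (flp_f L145973) (flp_g L145967) (flp_f L150764) (flp_g L151127)
theorem L151131 : sm gf N19026 = N13986 := ded_29_0 L151127 L150764 L145967 L145969
theorem L151133 : sm gg N15691 = N15663 := ded_31_6 (flp_f L113949) (flp_b L94566) (flp_g L83889) (flp_f L41280) (flp_b L90616) L106657 L142861 L151030 (flp_g L150790) L150788 L151056 L114103 L114061 L114073
theorem L151135 : sm ga N19046 = N16552 := ded_8_3 L150807 (flp_a L146142) L146146
theorem L151137 : sm gd N19045 = N19048 := ded_14_0 L150809 L129137 (flp_b L146144)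
theorem L151139 : sm ga N18234 = N19048 := ded_7_9 L150809 (flp_a L129135) (flp_b L102269) (flp_a L88150) (flp_b L33094) (flp_a L33078) L88130 L102237 L129048
theorem L151141 : sm ge N14040 = N16721 := ded_10_2 L121386 L121398 L150811
theorem L151143 : N18947 = N16720 := coi_15_3 (flp_b L121381) (flp_e L116271) L150815 L145506
theorem L151144 : N18947 = N16720 := eqc rfl L151143 rfl
theorem L151146 : sm gc N16720 = N18307 := trfs L151144 L145509 rfl
theorem L151148 : sm gd N16720 = N14043 := trfs L151144 L145514 rfl
theorem L151150 : sm ge N16720 = N13777 := trfs L151144 (flp_e L145506) rfl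
theorem L151152 : sm gf N16720 = N18307 := trfs L151144 L145511 rfl
theorem L151154 : sm gg N16720 = N16720 := trfs L151144 L145513 L151144
theorem L151155 : sm ga N14953 = N14953 := ded_10_3 L110284 L150821 (flp_e L110284)
theorem L151156 : sm ga N16044 = N16044 := ded_11_3 (flp_f L115794) L150821 L115794
theorem L151157 : sm gg N16044 = N16044 := ded_29_1 (flp_f L115794) L95543 L150821 L115794
theorem L151158 : sm gb N15988 = N15988 := ded_7_6 (flp_a L115507) (flp_b L95404) L84369 L84426 L150826 (flp_b L84426) (flp_a L84369) L95404 L115507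
theorem L151160 : sm ga N14954 = N14954 := ded_10_3 L110292 L150840 (flp_e L110292)
theorem L151162 : sm gg N14954 = N14954 := ded_26_2 L110292 L150841 (flp_e L110292)
theorem L151163 : N16039 = N15987 := coi_31_11 (flp_b L115810) (flp_g L115808) (flp_f L115800) (flp_b L115798) L150841 (flp_f L95546) (flp_b L84426) (flp_g L24912) L24908 L84417 L95534 L103846 L115762 L115764 L115772
theorem L151164 : N16039 = N15987 := eqc rfl L151163 rfl
theorem L151165 : sm gb N15987 = N15990 := trfs L151164 L115774 rfl
theorem L151166 : N15990 = N16048 := eqes L151165 (flp_b L115810)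
theorem L151167 : N16048 = N15990 := (eqc rfl L151166 rfl).symm
theorem L151168 : sm gf N15987 = N12090 := trfs L151164 (flp_f L115772) rfl
theorem L151170 : sm gb N15990 = N15987 := trfs L151167 L115810 rfl
theorem L151172 : sm gg N15990 = N12094 := trfs L151167 (flp_g L115808) rfl
theorem L151174 : sm ga N16031 = N16031 := ded_8_3 (flp_c L115736) L150845 L115736
theorem L151175 : N18171 = N17027 := coi_9_2 L122873 L122897 L150856 L128645
theorem L151176 : N18171 = N17027 := eqc rfl L151175 rfl
theorem L151177 : sm ga N17027 = N13299 := trfs L151176 (flp_a L128645) rfl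
theorem L151180 : sm ga N13955 = N14385 := ded_9_3 L150868 L105258 L105250
theorem L151182 : sm gb N16723 = N16723 := ded_13_1 (flp_c L150876) L150886 L91193 (flp_b L150886) L150876
theorem L151183 : sm ga N14374 = N14056 := ded_7_5 (flp_b L129627) L106146 L148025 (flp_a L109346) L150924 (flp_a L111463) (flp_b L93133) (flp_a L91101) L107404
theorem L151185 : sm gc N15217 = N15220 := ded_8_0 L150926 L111727 L111757
theorem L151187 : sm gg N15211 = N15217 := ded_12_2 (flp_a L111757) L111765 L150926
theorem L151189 : sm gb N18307 = N16634 := ded_13_5 L150678 L150954 L121335 L121381 L151146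
theorem L151191 : sm gf N16874 = N16790 := ded_11_0 L150958 (flp_f L122170) L122164
theorem L151193 : N16684 = N14669 := coi_9_3 (flp_a L108937) (flp_d L107911) L150966 L121228
theorem L151194 : N16684 = N14669 := eqc rfl L151193 rfl
theorem L151195 : sm gd N14669 = N12443 := trfs L151194 (flp_d L121228) rfl
theorem L151197 : N16105 = N14493 := coi_10_3 (flp_a L108009) (flp_e L107913) L150966 (flp_e L116149)
theorem L151198 : N16105 = N14493 := eqc rfl L151197 rfl
theorem L151199 : sm gc N14493 = N12122 := trfs L151198 (flp_c L116147) rfl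
theorem L151201 : sm ge N14493 = N12443 := trfs L151198 L116149 rfl
theorem L151203 : N16104 = N14494 := coi_19_3 (flp_c L108013) (flp_e L107913) L150968 (flp_e L116143)
theorem L151204 : N16104 = N14494 := eqc rfl L151203 rfl
theorem L151205 : sm ga N14494 = N12122 := trfs L151204 (flp_a L116141) rfl
theorem L151207 : sm gb N14494 = N16144 := trfs L151204 (flp_b L116379) rfl
theorem L151208 : N16144 = N14484 := eqes L151207 L108015
theorem L151209 : N16144 = N14484 := eqc rfl L151208 rfl
theorem L151210 : sm ge N14494 = N12442 := trfs L151204 L116143 rfl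
theorem L151212 : sm gg N14494 = N15063 := trfs L151204 (flp_g L116145) rfl
theorem L151214 : sm ga N14484 = N12141 := trfs L151209 (flp_a L116373) rfl
theorem L151216 : sm ge N14484 = N12482 := trfs L151209 L116375 rfl
theorem L151218 : sm gf N14484 = N15037 := trfs L151209 L116377 rfl
theorem L151220 : N16757 = N14472 := coi_13_3 (flp_b L107883) (flp_c L91355) L107909 L150968 (flp_b L97494) L121545
theorem L151221 : N16757 = N14472 := eqc rfl L151220 rfl
theorem L151222 : sm ga N14472 = N12483 := trfs L151221 L121547 rfl
theorem L151224 : sm gc N14472 = N12482 := trfs L151221 (flp_c L121545) rfl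
theorem L151226 : sm gf N14472 = N15243 := trfs L151221 L121549 rfl
theorem L151228 : sm gd N15283 = N14671 := ded_24_1 (flp_g L108945) (flp_d L107911) L150970
theorem L151230 : sm ge N15283 = N14495 := ded_26_1 (flp_g L108017) (flp_e L107913) L150970
theorem L151232 : sm gg N14134 = N17649 := ded_26_0 L150986 (flp_g L109760) (flp_e L141787)
theorem L151234 : sm gb N14063 = N15433 := ded_13_5 L150996 (flp_b L105684) L89983 L89991 L105704
theorem L151236 : sm gf N14191 = N17824 := ded_25_0 L151000 (flp_f L109888) (flp_e L133459)
theorem L151238 : sm gd N18589 = N18573 := ded_14_2 (flp_b L143353) (flp_d L123436) L151006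
theorem L151240 : sm gg N18589 = N16857 := ded_17_2 (flp_b L122080) L97795 L98669 L123430 L151006
theorem L151242 : N18659 = N16856 := coi_13_5 L122078 (flp_c L123420) L151010 L103484 L103496 L143847
theorem L151243 : N18659 = N16856 := eqc rfl L151242 rfl
theorem L151244 : sm gc N16856 = N13613 := trfs L151243 (flp_c L143847) rfl
theorem L151246 : sm ga N14346 = N14054 := ded_10_3 (flp_e L105668) L151079 (flp_e L107216)
theorem L151248 : sm ga N14386 = N14055 := ded_11_3 (flp_f L105672) L151079 L107447
theorem L151250 : sm gb N17014 = N16636 := ded_16_1 (flp_f L120971) (flp_b L97170) L97176 L120993 L151085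
theorem L151252 : sm gb N17232 = N16722 := ded_31_8 (flp_g L121420) (flp_f L121416) L97417 (flp_g L85634) L85632 L98220 (flp_g L151087) L151085 L151250 L150668 (flp_f L123770) L98841 (flp_g L150682) L150680
theorem L151254 : sm ga N16018 = N18303 := ded_9_1 (flp_d L129456) (flp_a L129444) L151089
theorem L151256 : sm gb N16019 = N18301 := ded_14_3 L151089 (flp_b L115663) L115667
theorem L151258 : sm ga N18591 = N17126 := ded_30_7 (flp_f L123297) L123293 L123295 (flp_a L120766) (flp_f L120764) (flp_c L97070) (flp_b L85182) (flp_a L26685) (flp_f L26683) (flp_c L26669) L85159 L120674 L97023 (flp_c L120661) L151097 L98204 L98228 (flp_c L150428) (flp_b L143469)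
theorem L151260 : sm gb N16607 = N16994 := ded_14_3 L122720 L151109 (flp_d L120802)
theorem L151262 : sm gb N15968 = N16370 := ded_15_3 L117661 L151109 (flp_e L115415)
theorem L151264 : sm gb N16609 = N16960 := ded_13_5 L122551 L151109 L97090 L97092 L120806
theorem L151266 : sm gd N16634 = N18348 := ded_9_0 L151111 (flp_d L120967) L120965
theorem L151268 : sm gd N16639 = N18343 := ded_14_2 (flp_b L129807) L129809 L151113
theorem L151270 : sm gg N18303 = N16487 := ded_24_0 L151119 L129377 L129456
theorem L151272 : sm gc N15576 = N13986 := ded_21_3 L151127 (flp_c L113542) L113546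
theorem L151274 : N15401 = N13982 := coi_17_2 (flp_g L105370) (flp_b L89829) L89837 L105388 L151127 L113544
theorem L151275 : N15401 = N13982 := eqc rfl L151274 rfl
theorem L151276 : sm gb N13982 = N15575 := trfs L151275 (flp_b L113544) rfl
theorem L151278 : sm gc N13982 = N11764 := trfs L151275 (flp_c L112646) rfl
theorem L151280 : sm gf N13982 = N19042 := trfs L151275 (flp_f L151125) rfl
theorem L151282 : sm gd N16551 = N19046 := ded_9_0 L151135 (flp_d L118778) (flp_a L118774)
theorem L151284 : sm gg N15979 = N16037 := ded_29_3 (flp_a L115766) (flp_f L151168) (flp_g L115505) (flp_f L115472)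
theorem L151286 : sm ga N16036 = N15979 := ded_29_4 L115472 L115505 L151168 (flp_g L115764)
theorem L151288 : sm gf N15985 = N16036 := ded_29_0 L115764 (flp_f L151168) (flp_g L115505) L115498
theorem L151290 : sm gb N15976 = N15976 := ded_31_8 (flp_g L115454) L115450 L144301 (flp_g L115486) (flp_f L115482) L115478 L115480 L115513 L151170 (flp_g L115505) (flp_f L115472) (flp_b L115470) L115474 (flp_f L115476)
theorem L151291 : sm gf N16046 = N15981 := ded_29_0 L115480 L115513 L151172 L115802
theorem L151293 : sm ga N15981 = N16045 := ded_29_4 L115800 (flp_g L151172) (flp_f L115513) (flp_g L115480)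
theorem L151295 : sm gg N16045 = N15988 := ded_29_3 (flp_a L115507) L115513 L151172 (flp_f L115800)
theorem L151297 : sm gb N16954 = N15217 := ded_13_5 L151185 L111767 L102070 L98103 L122522
theorem L151299 : sm ge N16634 = N18303 := ded_15_2 L129458 L129488 L151189
theorem L151301 : sm gb N16789 = N16874 := ded_16_5 L151191 (flp_b L121707) (flp_f L97589) L97587 L121705
theorem L151303 : sm gc N15063 = N14495 := ded_21_1 (flp_g L108017) L108013 L151212
theorem L151305 : N16145 = N14483 := coi_8_3 (flp_a L107961) L107965 L151214 L116381
theorem L151306 : N16145 = N14483 := eqc rfl L151305 rfl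
theorem L151307 : sm gc N14483 = N12141 := trfs L151306 (flp_c L116381) rfl
theorem L151309 : sm ge N14483 = N12483 := trfs L151306 L116383 rfl
theorem L151311 : sm gc N15037 = N14485 := ded_20_1 (flp_f L107967) L107965 L151218
theorem L151313 : N16759 = N14659 := coi_9_3 (flp_a L108879) (flp_d L107885) L151222 L121555
theorem L151314 : N16759 = N14659 := eqc rfl L151313 rfl
theorem L151315 : sm gd N14659 = N12483 := trfs L151314 (flp_d L121555) rfl
theorem L151317 : sm gd N15243 = N14661 := ded_23_1 (flp_f L108887) (flp_d L107885) L151226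
theorem L151319 : sm ge N15243 = N14485 := ded_25_1 (flp_f L107967) (flp_e L107887) L151226
theorem L151321 : sm gf N14671 = N15295 := ded_23_2 (flp_d L112188) (flp_f L112084) L151228
theorem L151323 : sm gf N14495 = N15074 := ded_25_2 L110995 (flp_f L112084) L151230
theorem L151325 : sm gg N15434 = N14063 := ded_17_0 L151234 (flp_g L112784) (flp_b L93897) L93899 L112786
theorem L151327 : sm gc N16857 = N18576 := ded_21_1 L143365 L143459 L151240
theorem L151329 : N18660 = N16854 := coi_21_3 (flp_c L122072) L122076 L151244 L143849
theorem L151330 : N18660 = N16854 := eqc rfl L151329 rfl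
theorem L151331 : sm gb N16854 = N18576 := trfs L151330 L143853 rfl
theorem L151333 : sm gd N16854 = N13615 := trfs L151330 L143851 rfl
theorem L151335 : sm gg N16854 = N13613 := trfs L151330 (flp_g L143849) rfl
theorem L151337 : sm ge N18343 = N16019 := ded_15_0 L151256 L129446 L129807
theorem L151339 : sm gd N17126 = N18588 := ded_9_2 L143403 (flp_d L143467) L151258
theorem L151341 : N17124 = N13565 := coi_11_0 L143465 L151258 (flp_f L123297) L123291
theorem L151342 : N17124 = N13565 := eqc rfl L151341 rfl
theorem L151343 : sm ga N13565 = N12698 := trfs L151342 (flp_a L123291) rfl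
theorem L151344 : N12698 = N18587 := eqes L151343 (flp_a L143399)
theorem L151345 : N18587 = N12698 := (eqc rfl L151344 rfl).symm
theorem L151346 : sm ga N12698 = N13565 := trfs L151345 L143399 rfl
theorem L151348 : sm gd N12698 = N13563 := trfs L151345 (flp_d L143397) rfl
theorem L151349 : N13563 = N17123 := eqes L151348 (flp_d L123289)
theorem L151350 : N17123 = N13563 := (eqc rfl L151349 rfl).symm
theorem L151351 : sm gb N13563 = N12697 := trfs L151350 (flp_b L123287) rfl
theorem L151352 : N12697 = N18586 := eqes L151351 L143395
theorem L151353 : N18586 = N12697 := (eqc rfl L151352 rfl).symm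
theorem L151354 : sm gd N13563 = N12698 := trfs L151350 L123289 rfl
theorem L151356 : sm gb N12697 = N13563 := trfs L151353 (flp_b L143395) rfl
theorem L151358 : sm ga N18343 = N16023 := ded_9_1 L115692 (flp_a L120983) L151268
theorem L151360 : sm gb N13985 = N17438 := ded_13_3 L124870 (flp_b L113550) L151272 (flp_b L105388) (flp_c L105384)
theorem L151362 : sm gc N15399 = N18896 := ded_19_3 L145206 L151278 (flp_e L112640)
theorem L151364 : N15402 = N13980 := coi_21_3 (flp_c L105364) L105370 L151278 L112648
theorem L151365 : N15402 = N13980 := eqc rfl L151364 rfl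
theorem L151366 : sm gb N13980 = N12789 := trfs L151365 L112652 rfl
theorem L151368 : sm gd N13980 = N11766 := trfs L151365 L112650 rfl
theorem L151370 : sm gg N13980 = N11764 := trfs L151365 (flp_g L112648) rfl
theorem L151372 : sm gg N15973 = N15973 := ded_17_4 (flp_b L115441) L115454 L151290 (flp_g L115454) L115441
theorem L151373 : sm gg N14485 = N15047 := ded_21_2 (flp_c L110825) (flp_g L110761) L151311
theorem L151375 : sm gg N14661 = N15257 := ded_24_2 (flp_d L111958) (flp_g L111875) L151317
theorem L151377 : sm ge N15295 = N14717 := ded_25_1 (flp_f L109139) (flp_e L108947) L151321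
theorem L151379 : sm gd N15074 = N14539 := ded_23_1 (flp_f L108253) (flp_d L108019) L151323
theorem L151381 : sm gc N14064 = N15434 := ded_21_3 L151325 (flp_c L105704) L105706
theorem L151383 : sm ga N18589 = N17125 := ded_8_3 (flp_c L123293) L151346 L143459
theorem L151385 : sm ga N18590 = N16439 := ded_10_3 L118063 L151346 L143461
theorem L151387 : sm ga N18576 = N17120 := ded_12_3 L123271 L151346 (flp_g L143365)
theorem L151389 : N14062 = N15434 := coi_7_6 (flp_b L112786) L93901 L83384 (flp_a L85768) L98567 L151346 L103294 L88789 L89991 L105700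
theorem L151390 : N15434 = N14062 := (eqc rfl L151389 rfl).symm
theorem L151391 : sm gb N14062 = N11779 := trfs L151390 (flp_b L112786) rfl
theorem L151393 : sm gc N14062 = N14064 := trfs L151390 (flp_c L151381) rfl
theorem L151395 : sm gg N14062 = N14063 := trfs L151390 L151325 rfl
theorem L151397 : sm gd N17120 = N18575 := ded_24_3 L143361 L151354 (flp_g L123271)
theorem L151399 : sm gb N18413 = N17122 := ded_15_3 L123283 L151356 (flp_e L130248)
theorem L151401 : sm gb N18583 = N16881 := ded_13_5 (flp_c L122198) L151356 (flp_c L103282) L103280 L143385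
theorem L151403 : sm gb N18575 = N17118 := ded_17_3 (flp_g L123261) L98549 L98559 L151356 (flp_g L143361)
theorem L151405 : N14066 = N15370 := coi_7_7 L149122 L93895 (flp_a L98561) L151356 L103284 L88718 L81623 L39835 L90003 L105714
theorem L151406 : N15370 = N14066 := (eqc rfl L151405 rfl).symm
theorem L151407 : sm ga N14066 = N11777 := trfs L151406 L149122 rfl
theorem L151409 : sm gc N14066 = N11748 := trfs L151406 L112522 rfl
theorem L151411 : sm gd N14066 = N11779 := trfs L151406 L149124 rfl
theorem L151413 : sm gf N14066 = N11747 := trfs L151406 (flp_f L112520) rfl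
theorem L151415 : sm gg N14066 = N11775 := trfs L151406 L149126 rfl
theorem L151417 : sm gd N13937 = N13985 := ded_14_0 L151360 (flp_d L148840) L143409
theorem L151419 : N17283 = N13983 := coi_17_5 (flp_b L105374) L105380 L151360 (flp_g L124868) L99395 L124075
theorem L151420 : N17283 = N13983 := eqc rfl L151419 rfl
theorem L151421 : sm gc N13983 = N12789 := trfs L151420 L124077 rfl
theorem L151423 : sm gg N13983 = N12786 := trfs L151420 (flp_g L124075) rfl
theorem L151425 : sm gg N18894 = N15399 := ded_21_0 L151362 (flp_g L145204) L145196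
theorem L151427 : sm gb N17285 = N18894 := ded_15_3 L145198 L151366 (flp_e L124087)
theorem L151429 : sm gb N17277 = N14073 := ded_7_2 (flp_a L105746) (flp_b L90011) L39839 L88816 L103500 L143855 (flp_a L146092) L151366 (flp_a L124049)
theorem L151431 : sm gd N15404 = N18661 := ded_9_2 (flp_a L146092) L151368 (flp_a L112658)
theorem L151433 : sm gg N15400 = N18661 := ded_12_2 (flp_a L146092) L151370 L112642
theorem L151435 : sm gd N15047 = N14517 := ded_24_1 (flp_g L108134) (flp_d L107969) L151373
theorem L151437 : sm ge N15257 = N14694 := ded_26_1 (flp_g L109041) (flp_e L108889) L151375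
theorem L151439 : sm ga N14063 = N14064 := ded_8_3 (flp_c L151393) (flp_a L105700) L105704
theorem L151441 : sm gd N14063 = N14068 := ded_24_1 (flp_g L105720) (flp_d L105702) L151395
theorem L151443 : sm ga N15423 = N18963 := ded_7_3 (flp_b L145594) (flp_a L104484) (flp_b L89370) (flp_a L88458) (flp_b L102687) (flp_a L130246) L151399 L123281 (flp_b L112744)
theorem L151445 : sm gd N16880 = N18583 := ded_14_0 L151401 (flp_d L122192) L122190
theorem L151447 : sm gc N15365 = N18963 := ded_19_3 L145596 L151409 (flp_e L112498)
theorem L151449 : N16943 = N14067 := coi_13_4 (flp_c L105716) L105714 L151409 L93775 (flp_c L98037) L122466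
theorem L151450 : N16943 = N14067 := eqc rfl L151449 rfl
theorem L151451 : sm gb N14067 = N12594 := trfs L151450 (flp_b L122466) rfl
theorem L151453 : sm gf N15364 = N18963 := ded_25_2 L145596 L151413 (flp_e L112494)
theorem L151455 : sm gg N15421 = N18963 := ded_26_2 L145596 L151415 (flp_e L112734)
theorem L151457 : N13989 = N10978 := coi_9_3 (flp_a L105177) L151417 L105382 (flp_d L105400)
theorem L151458 : N13989 = N10978 := eqc rfl L151457 rfl
theorem L151460 : sm gd N10978 = N11000 := trfs L151458 L105400 rfl
theorem L151461 : N11000 = N13941 := eqes L151460 (flp_d L105193)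
theorem L151462 : N13941 = N11000 := (eqc rfl L151461 rfl).symm
theorem L151463 : sm gg N10978 = N10999 := trfs L151458 (flp_g L105398) rfl
theorem L151464 : N10999 = N13942 := eqes L151463 L105196
theorem L151465 : N13942 = N10999 := (eqc rfl L151464 rfl).symm
theorem L151466 : sm ga N10999 = N13926 := trfs L151465 L105198 rfl
theorem L151467 : N13926 = N13984 := eqes L151466 (flp_a L105378)
theorem L151468 : N13984 = N13926 := (eqc rfl L151467 rfl).symm
theorem L151469 : sm gc N10999 = N10979 := trfs L151465 L105200 rfl
theorem L151470 : N10979 = N13987 := eqes L151469 L105392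
theorem L151471 : N13987 = N10979 := (eqc rfl L151470 rfl).symm
theorem L151472 : sm ge N10999 = N18857 := trfs L151465 (flp_e L144990) rfl
theorem L151473 : N18857 = N13988 := eqes L151472 L105394
theorem L151474 : N18857 = N13988 := eqc rfl L151473 rfl
theorem L151475 : sm gf N10999 = N13924 := trfs L151465 (flp_f L105202) rfl
theorem L151476 : N13924 = N13973 := eqes L151475 (flp_f L105338)
theorem L151477 : N13973 = N13924 := (eqc rfl L151476 rfl).symm
theorem L151478 : sm gg N10999 = N10978 := trfs L151465 (flp_g L105196) rfl
theorem L151480 : sm gd N13924 = N10993 := trfs L151477 (flp_d L105336) rfl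
theorem L151482 : sm gf N13924 = N10999 := trfs L151477 L105338 rfl
theorem L151484 : sm ga N13988 = N18841 := trfs L151474 L144986 rfl
theorem L151486 : sm gc N13988 = N13733 := trfs L151474 L144988 rfl
theorem L151488 : sm gf N13988 = N18839 := trfs L151474 (flp_f L144992) rfl
theorem L151490 : sm gg N13988 = N13732 := trfs L151474 (flp_g L144984) rfl
theorem L151492 : sm gc N10979 = N10999 := trfs L151471 (flp_c L105392) rfl
theorem L151494 : sm ga N13926 = N10999 := trfs L151468 L105378 rfl
theorem L151496 : sm gd N13926 = N10997 := trfs L151468 (flp_d L105376) rfl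
theorem L151499 : sm gd N11000 = N10978 := trfs L151462 L105193 rfl
theorem L151501 : sm gf N11000 = N10977 := trfs L151462 (flp_f L105191) rfl
theorem L151502 : N10977 = N13990 := eqes L151501 L105403
theorem L151503 : N13990 = N10977 := (eqc rfl L151502 rfl).symm
theorem L151504 : sm ga N10977 = N13974 := trfs L151503 L105405 rfl
theorem L151505 : N13974 = N13936 := eqes L151504 (flp_a L105173)
theorem L151506 : N13974 = N13936 := eqc rfl L151505 rfl
theorem L151507 : sm gc N10977 = N11001 := trfs L151503 L105407 rfl
theorem L151508 : N11001 = N13939 := eqes L151507 L105185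
theorem L151509 : N13939 = N11001 := (eqc rfl L151508 rfl).symm
theorem L151510 : sm ge N10977 = N18904 := trfs L151503 (flp_e L145249) rfl
theorem L151511 : N18904 = N13940 := eqes L151510 L105187
theorem L151512 : N18904 = N13940 := eqc rfl L151511 rfl
theorem L151513 : sm gf N10977 = N11000 := trfs L151503 (flp_f L105403) rfl
theorem L151515 : sm gg N10977 = N13972 := trfs L151503 L105409 rfl
theorem L151516 : N13972 = N13925 := eqes L151515 (flp_g L105143)
theorem L151517 : N13972 = N13925 := eqc rfl L151516 rfl
theorem L151518 : sm ga N13925 = N10993 := trfs L151517 L105332 rfl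
theorem L151520 : sm gc N13925 = N10992 := trfs L151517 (flp_c L105330) rfl
theorem L151522 : sm ge N13925 = N18886 := trfs L151517 (flp_e L145156) rfl
theorem L151524 : sm gf N13925 = N10997 := trfs L151517 L105334 rfl
theorem L151526 : sm ga N13940 = N18888 := trfs L151512 L145245 rfl
theorem L151528 : sm gc N13940 = N13755 := trfs L151512 L145247 rfl
theorem L151530 : sm gf N13940 = N13754 := trfs L151512 (flp_f L145243) rfl
theorem L151532 : sm gg N13940 = N18886 := trfs L151512 L145251 rfl
theorem L151534 : sm gc N11001 = N10977 := trfs L151509 (flp_c L105185) rfl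
theorem L151536 : sm gc N13936 = N10994 := trfs L151506 L105342 rfl
theorem L151538 : sm ge N13936 = N18888 := trfs L151506 (flp_e L145168) rfl
theorem L151540 : sm gf N13936 = N13985 := trfs L151506 (flp_f L105386) rfl
theorem L151542 : sm gg N13936 = N10993 := trfs L151506 (flp_g L105340) rfl
theorem L151544 : sm gc N17285 = N18897 := ded_19_3 L145210 L151421 (flp_e L124087)
theorem L151546 : sm gg N17281 = N18897 := ded_26_2 L145210 L151423 L124067
theorem L151548 : sm gd N14073 = N17279 := ded_14_2 (flp_b L124063) (flp_d L124051) L151429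
theorem L151550 : sm gb N18658 = N15404 := ded_14_3 L151431 (flp_b L143855) (flp_d L143845)
theorem L151552 : sm gb N18964 = N16942 := ded_13_3 L122462 (flp_b L112500) L151447 (flp_b L145594) L145598
theorem L151554 : sm gg N18856 = N18902 := ded_24_2 L145236 L151490 (flp_d L144981)
theorem L151556 : sm gc N14084 = N13943 := ded_13_4 (flp_b L105204) L151492 L89847 L90036 L105798
theorem L151558 : sm ge N18856 = N18903 := ded_22_4 L145240 L104312 L151499 (flp_e L104191) (flp_d L144981)
theorem L151560 : sm gf N18903 = N18855 := ded_23_2 L144977 L151530 (flp_d L145240)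
theorem L151562 : sm gc N14037 = N13991 := ded_13_4 (flp_b L105411) L151534 L89754 L89944 L105597
theorem L151564 : sm ga N17279 = N14065 := ded_9_1 L105712 L105746 L151548
theorem L151566 : sm gg N18286 = N14084 := ded_21_0 L151556 L105206 L129327
theorem L151568 : sm gf N18271 = N14037 := ded_20_0 L151562 L105415 L129250
theorem L151570 : sm gb N13856 = N19052 := rfl
theorem L151572 : sm gc N19052 = N15335 := ded_13_2 (flp_b L112370) (flp_c L112354) (flp_b L146170) L146162 L151570
theorem L151574 : sm gg N19052 = N13933 := ded_17_2 L143445 (flp_g L145997) (flp_b L145993) L104867 L151570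
theorem L151576 : sm gb N13858 = N19053 := rfl
theorem L151578 : sm gd N19053 = N17416 := ded_14_2 (flp_b L147753) L148886 L151576
theorem L151580 : sm gf N19053 = N17415 := ded_16_2 L124764 L99365 L147357 L104871 L151576
theorem L151582 : sm ga N18633 = N19053 := ded_11_3 L151580 (flp_a L150848) (flp_f L143699)
theorem L151584 : sm gb N13859 = N19054 := rfl
theorem L151586 : sm gg N13860 = N19055 := rfl
theorem L151588 : sm ga N19055 = N13863 := ded_12_1 (flp_g L104895) L104881 L151586
theorem L151590 : sm gb N16392 = N19055 := ded_31_14 (flp_g L151586) L104885 L119827 (flp_g L129046) (flp_f L129038) (flp_b L102289) (flp_g L102285) (flp_f L102277) (flp_b L102273) L88199 (flp_f L88192) L88188 L148959 L117783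
theorem L151592 : sm ge N19055 = N16393 := ded_15_2 (flp_b L117789) (flp_e L117787) L151590
theorem L151594 : sm ga N16393 = N18751 := ded_10_1 L144399 (flp_a L151588) L151592
theorem L151596 : sm gg N16393 = N18748 := ded_26_2 L144379 L151586 L151592
theorem L151598 : sm gg N13861 = N19056 := rfl
theorem L151600 : sm gc N19056 = N13863 := ded_21_1 (flp_g L104895) L104883 L151598
theorem L151602 : sm gf N13863 = N19056 := ded_29_0 (flp_g L151598) (flp_f L104885) L151586 L151588
theorem L151604 : sm gg N13862 = N19057 := rfl
theorem L151606 : sm ga N19057 = N19056 := ded_12_1 (flp_g L151598) (flp_a L104889) L151604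
theorem L151608 : sm gc N19057 = N19055 := ded_21_1 (flp_g L151586) (flp_c L104891) L151604
theorem L151610 : sm gf N19055 = N19057 := ded_29_0 (flp_g L151604) (flp_f L104887) L104895 (flp_a L151588)
theorem L151612 : sm gg N13866 = N19058 := rfl
theorem L151614 : sm ge N19058 = N13867 := ded_26_1 (flp_g L104911) L104907 L151612
theorem L151616 : sm gb N13867 = N19059 := rfl
theorem L151618 : sm gd N19059 = N13868 := ded_14_2 (flp_b L104915) (flp_d L104913) L151616
theorem L151620 : sm ga N13868 = N19060 := rfl
theorem L151622 : sm gc N13868 = N19061 := rfl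
theorem L151624 : sm gb N19061 = N13870 := ded_13_1 (flp_c L104921) (flp_b L89642) (flp_c L89640) L104915 L151622
theorem L151626 : sm gf N13868 = N19062 := rfl
theorem L151628 : sm gb N13869 = N19063 := rfl
theorem L151630 : sm gc N13869 = N19064 := rfl
theorem L151632 : sm ga N19064 = N13870 := ded_8_1 (flp_c L104921) L104917 L151630
theorem L151634 : sm gg N19064 = N13873 := ded_21_2 (flp_c L104929) (flp_g L104919) L151630
theorem L151636 : sm gd N13870 = N19065 := rfl
theorem L151638 : sm gg N19065 = N13875 := ded_24_2 (flp_d L104939) (flp_g L104923) L151636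
theorem L151640 : sm gf N13870 = N19066 := rfl
theorem L151642 : sm gc N19066 = N13871 := ded_20_1 (flp_f L104925) L104921 L151640
theorem L151644 : sm ga N13872 = N19067 := rfl
theorem L151646 : sm gg N18279 = N19067 := ded_29_3 (flp_a L151644) L129321 (flp_g L129315) (flp_f L129292)
theorem L151648 : sm gc N13872 = N19068 := rfl
theorem L151650 : sm gg N13872 = N19069 := rfl
theorem L151652 : sm ga N19069 = N18279 := ded_12_1 L151646 (flp_a L151644) L151650
theorem L151654 : sm gf N18282 = N19069 := ded_29_0 (flp_g L151650) L129321 (flp_g L129315) L129308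
theorem L151656 : sm gb N13873 = N19070 := rfl
theorem L151658 : sm gd N13873 = N19071 := rfl
theorem L151660 : sm ga N19071 = N13875 := ded_9_1 (flp_d L104939) (flp_a L104931) L151658
theorem L151662 : sm gf N13873 = N19072 := rfl
theorem L151664 : sm ga N19072 = N13876 := ded_11_1 (flp_f L104941) (flp_a L104931) L151662
theorem L151666 : sm gc N19072 = N13874 := ded_20_1 (flp_f L104933) L104929 L151662
theorem L151668 : sm gg N19066 = N19072 := ded_29_1 (flp_f L151662) (flp_g L151634) L151632 L151640
theorem L151670 : sm gc N13875 = N19073 := rfl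
theorem L151672 : sm ge N13875 = N19074 := rfl
theorem L151674 : sm gf N13875 = N19075 := rfl
theorem L151676 : sm gd N19075 = N13876 := ded_23_1 (flp_f L104941) L104939 L151674
theorem L151678 : sm gb N13876 = N19076 := rfl
theorem L151680 : sm gc N19076 = N19053 := ded_13_2 (flp_b L151576) L104873 (flp_b L89652) (flp_c L104943) L151678
theorem L151682 : sm gg N13876 = N19077 := rfl
theorem L151684 : sm ga N19077 = N19066 := ded_12_1 L151668 L151664 L151682
theorem L151686 : sm gc N19077 = N13877 := ded_21_1 (flp_g L104945) (flp_c L104943) L151682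
theorem L151688 : sm gf N19064 = N19077 := ded_29_0 (flp_g L151682) (flp_f L104941) (flp_g L104923) (flp_a L151632)
theorem L151690 : sm gb N13877 = N19078 := rfl
theorem L151692 : sm gg N19078 = N19054 := ded_17_2 (flp_b L151584) (flp_g L104875) (flp_b L89652) L104945 L151690
theorem L151694 : sm gf N13878 = N19079 := rfl
theorem L151696 : sm ga N19079 = N13880 := ded_11_1 (flp_f L104955) L104951 L151694
theorem L151698 : sm gb N19079 = N16289 := ded_31_2 (flp_g L117171) L116066 (flp_b L88166) L88170 L88177 L102251 L102255 L102263 L102267 L129070 (flp_f L148195) (flp_b L149486) L150758 L151694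
theorem L151700 : sm ge N16290 = N19079 := ded_15_0 L151698 L117177 L117179
theorem L151702 : sm ga N18767 = N16290 := ded_10_3 L151700 L151696 (flp_e L144483)
theorem L151704 : sm gf N18765 = N16290 := ded_25_0 L151700 (flp_f L151694) (flp_e L144475)
theorem L151706 : sm gf N13879 = N19080 := rfl

end Cfsg.Agent.Helper28.SzbA
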