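import Cfsg.Agent.Helper28.SzbB13

/-! # The Suzuki group presentation, cosets of the subgroup generated by a, b, c, d, f, g: the coset enumeration, part 14 (helper28; generated) -/

set_option autoImplicit false

noncomputable section

namespace Cfsg.Agent.Helper28.SzbA

open Cfsg.Agent.Helper28.CosetTable

theorem L151708 : sm gc N19080 = N13880 := ded_20_1 (flp_f L104955) L104953 L151706
theorem L151710 : sm gg N19080 = N13880 := ded_29_3 (flp_a L151696) (flp_f L151694) (flp_g L150758) L151706
theorem L151712 : sm gf N13881 = N19081 := rfl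
theorem L151714 : sm ga N19081 = N19080 := ded_11_1 (flp_f L151706) (flp_a L149707) L151712
theorem L151716 : sm gc N19081 = N19079 := ded_20_1 (flp_f L151694) L149709 L151712
theorem L151718 : sm gg N19081 = N19079 := ded_29_3 L151696 (flp_f L104955) L104957 L151712
theorem L151720 : sm gf N13884 = N19082 := rfl
theorem L151722 : sm ge N19082 = N13885 := ded_25_1 (flp_f L104975) L104971 L151720
theorem L151724 : sm gb N13885 = N19083 := rfl
theorem L151726 : sm gd N19083 = N13886 := ded_14_2 (flp_b L104979) (flp_d L104977) L151724
theorem L151728 : sm ga N13886 = N19084 := rfl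
theorem L151730 : sm gc N13886 = N19085 := rfl
theorem L151732 : sm gb N19085 = N13888 := ded_13_1 (flp_c L104985) (flp_b L89670) (flp_c L89668) L104979 L151730
theorem L151734 : sm gg N13886 = N19086 := rfl
theorem L151736 : sm gb N13887 = N19087 := rfl
theorem L151738 : sm gc N13887 = N19088 := rfl
theorem L151740 : sm ga N19088 = N13888 := ded_8_1 (flp_c L104985) L104981 L151738
theorem L151742 : sm gf N19088 = N13891 := ded_20_2 (flp_c L104993) (flp_f L104983) L151738
theorem L151744 : sm gd N13888 = N19089 := rfl
theorem L151746 : sm gf N19089 = N13893 := ded_23_2 (flp_d L105003) (flp_f L104987) L151744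
theorem L151748 : sm gg N13888 = N19090 := rfl
theorem L151750 : sm gc N19090 = N13889 := ded_21_1 (flp_g L104989) L104985 L151748
theorem L151752 : sm ga N13890 = N19091 := rfl
theorem L151754 : sm gf N19091 = N18265 := ded_29_0 L129217 L129238 (flp_g L129244) L151752
theorem L151756 : sm gb N19091 = N19067 := ded_7_2 (flp_a L151644) (flp_b L104927) (flp_a L89646) (flp_b L39597) (flp_a L18811) L39609 L89674 L104991 L151752
theorem L151758 : sm gc N13890 = N19092 := rfl
theorem L151760 : sm gf N13890 = N19093 := rfl
theorem L151762 : sm ga N19093 = N18265 := ded_11_1 (flp_f L151754) (flp_a L151752) L151760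
theorem L151764 : sm gg N19093 = N18267 := ded_29_3 (flp_a L129231) L129238 (flp_g L129244) L151760
theorem L151766 : sm gb N13891 = N19094 := rfl
theorem L151768 : sm gd N13891 = N19095 := rfl
theorem L151770 : sm ga N19095 = N13893 := ded_9_1 (flp_d L105003) (flp_a L104995) L151768
theorem L151772 : sm gg N13891 = N19096 := rfl
theorem L151774 : sm ga N19096 = N13894 := ded_12_1 (flp_g L105005) (flp_a L104995) L151772
theorem L151776 : sm gc N19096 = N13892 := ded_21_1 (flp_g L104997) L104993 L151772
theorem L151778 : sm gf N19096 = N19090 := ded_29_2 (flp_g L151748) (flp_a L151740) L151742 L151772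
theorem L151780 : sm gc N13893 = N19097 := rfl
theorem L151782 : sm ge N13893 = N19098 := rfl
theorem L151784 : sm gg N13893 = N19099 := rfl
theorem L151786 : sm gd N19099 = N13894 := ded_24_1 (flp_g L105005) L105003 L151784
theorem L151788 : sm gb N13894 = N19100 := rfl
theorem L151790 : sm gc N19100 = N19043 := ded_13_2 (flp_b L146132) L104849 (flp_b L89680) (flp_c L105007) L151788
theorem L151792 : sm gf N13894 = N19101 := rfl
theorem L151794 : sm ga N19101 = N19090 := ded_11_1 (flp_f L151778) L151774 L151792
theorem L151796 : sm gc N19101 = N13895 := ded_20_1 (flp_f L105009) (flp_c L105007) L151792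
theorem L151798 : sm gg N19101 = N19088 := ded_29_3 L151740 L104987 L105005 L151792
theorem L151800 : sm gb N13895 = N19102 := rfl
theorem L151802 : sm gf N19102 = N19044 := ded_16_2 (flp_b L146140) (flp_f L104851) (flp_b L89680) L105009 L151800
theorem L151804 : sm gd N13896 = N19103 := rfl
theorem L151806 : sm ga N19103 = N13900 := ded_9_1 (flp_d L105031) (flp_a L105017) L151804
theorem L151808 : sm gb N19103 = N13997 := ded_14_1 (flp_d L105443) L105067 L151804
theorem L151810 : sm gc N16581 = N19103 := ded_28_0 (flp_d L151804) (flp_c L105015) (flp_d L102293) (flp_c L116070) L116028 (flp_c L121141) L121145 (flp_a L120615)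
theorem L151812 : sm gf N15327 = N19103 := ded_11_0 L151806 (flp_f L120511) (flp_a L120540)
theorem L151814 : sm gg N16583 = N19103 := ded_17_0 L151808 (flp_g L121671) (flp_b L121673) L120754 (flp_b L120639)
theorem L151816 : sm gg N17187 = N16600 := ded_31_12 (flp_f L120764) (flp_b L120639) L151814 (flp_f L151812) (flp_b L112340) (flp_g L93719) (flp_f L93714) L93710 L93712 L93735 L93737 L98772 (flp_f L98774) L123594
theorem L151818 : sm ga N17110 = N17187 := ded_12_3 L151816 L120766 (flp_g L123233)
theorem L151820 : sm gc N16601 = N17187 := ded_21_3 L151816 L120768 L120770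
theorem L151822 : sm gb N16600 = N17181 := ded_17_1 (flp_g L123570) (flp_b L98742) L98752 L123594 L151816
theorem L151824 : sm gb N17169 = N16792 := ded_13_3 (flp_c L121715) (flp_b L120776) L151820 (flp_b L123594) (flp_c L123522)
theorem L151826 : sm gg N16827 = N17099 := ded_17_4 L123979 L123518 L151824 L121721 L121911
theorem L151828 : sm ga N17102 = N16827 := ded_12_3 L151826 (flp_a L123189) L123201
theorem L151830 : sm gc N17114 = N16827 := ded_21_3 L151826 L123191 L123247
theorem L151832 : sm gb N16826 = N17114 := ded_13_5 L151830 (flp_b L121911) (flp_c L97704) L97702 L121907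
theorem L151834 : sm gf N13896 = N19104 := rfl
theorem L151836 : sm ga N19104 = N13901 := ded_11_1 (flp_f L105033) (flp_a L105017) L151834
theorem L151838 : sm gc N19104 = N13897 := ded_20_1 (flp_f L105019) L105015 L151834
theorem L151840 : sm gd N19104 = N15327 := ded_23_1 L151812 (flp_d L151804) L151834
theorem L151842 : sm gb N19104 = N15325 := ded_16_1 (flp_f L112328) (flp_b L119658) (flp_f L105447) L105067 L151834
theorem L151844 : sm gg N13896 = N19105 := rfl
theorem L151846 : sm ga N19105 = N13902 := ded_12_1 (flp_g L105037) (flp_a L105017) L151844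
theorem L151848 : sm gc N19105 = N13898 := ded_21_1 (flp_g L105023) L105015 L151844
theorem L151850 : sm gd N19105 = N16583 := ded_24_1 L151814 (flp_d L151804) L151844
theorem L151852 : sm gb N16599 = N19105 := ded_14_3 L151850 L120639 L120762
theorem L151854 : sm gb N13897 = N19106 := rfl
theorem L151856 : sm gd N19106 = N19018 := ded_14_2 (flp_b L145931) (flp_d L117051) L151854
theorem L151858 : sm gc N19106 = N15471 := ded_13_2 (flp_b L142917) L142911 (flp_b L151842) L151838 L151854
theorem L151860 : sm gf N19106 = N19018 := ded_16_2 (flp_b L145931) L117049 L102295 L105019 L151854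
theorem L151862 : sm ga N19106 = N15482 := ded_7_1 L119755 L102166 L119037 (flp_a L109199) (flp_b L119827) (flp_a L104889) L104893 (flp_a L105021) L151854
theorem L151864 : sm gb N13898 = N19107 := rfl
theorem L151866 : sm gf N13899 = N19108 := rfl
theorem L151868 : sm ga N19108 = N13908 := ded_11_1 (flp_f L105069) (flp_a L105065) L151866
theorem L151870 : sm gc N19108 = N13908 := ded_20_1 (flp_f L105069) (flp_c L105029) L151866
theorem L151872 : sm gg N13899 = N19109 := rfl
theorem L151874 : sm ga N19109 = N13909 := ded_12_1 (flp_g L105071) (flp_a L105065) L151872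
theorem L151876 : sm gc N19109 = N13909 := ded_21_1 (flp_g L105071) (flp_c L105029) L151872
theorem L151878 : sm ge N13900 = N19110 := rfl
theorem L151880 : sm gg N13900 = N19111 := rfl
theorem L151882 : sm ga N19111 = N16583 := ded_12_1 L151814 L151806 L151880
theorem L151884 : sm gc N19111 = N16582 := ded_21_1 L120635 (flp_c L120538) L151880
theorem L151886 : sm gd N19111 = N13902 := ded_24_1 (flp_g L105037) L105031 L151880
theorem L151888 : sm gg N13901 = N19112 := rfl
theorem L151890 : sm gc N19112 = N13903 := ded_21_1 (flp_g L105041) (flp_c L105035) L151888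
theorem L151892 : sm gf N19105 = N19112 := ded_29_0 (flp_g L151888) (flp_f L105033) L105037 (flp_a L151846)
theorem L151894 : sm gb N13902 = N19113 := rfl
theorem L151896 : sm gf N13902 = N19114 := rfl
theorem L151898 : sm ga N19114 = N19112 := ded_11_1 (flp_f L151892) L151846 L151896
theorem L151900 : sm gc N19114 = N13905 := ded_20_1 (flp_f L105049) (flp_c L105039) L151896
theorem L151902 : sm gg N19114 = N19104 := ded_29_3 L151836 (flp_f L105033) L105037 L151896
theorem L151904 : sm gb N13903 = N19115 := rfl
theorem L151906 : sm gd N19115 = N19079 := ded_14_2 L151698 L117175 L151904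
theorem L151908 : sm gf N18251 = N19115 := ded_31_1 (flp_b L151904) (flp_g L105041) (flp_f L89686) (flp_b L39611) L39617 L39621 L89642 L89644 L89650 L89652 L104875 (flp_f L104879) L145977 (flp_g L149711)
theorem L151910 : sm gf N19107 = N19048 := ded_16_4 L150809 L151908 (flp_b L151904) (flp_f L105043) L151864
theorem L151912 : sm ga N18253 = N19115 := ded_9_3 L151906 L151696 (flp_d L129144)
theorem L151914 : sm ga N13904 = N19116 := rfl
theorem L151916 : sm gd N19116 = N19093 := ded_9_2 L151762 L129215 L151914
theorem L151918 : sm gg N19116 = N13913 := ded_12_2 (flp_a L105091) (flp_g L105047) L151914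
theorem L151920 : sm gf N19116 = N18258 := ded_29_0 L129185 (flp_f L105095) (flp_g L105047) L151914
theorem L151922 : sm gb N19116 = N18567 := ded_31_2 L146064 (flp_f L145973) (flp_b L104819) (flp_g L89598) (flp_f L39579) (flp_b L18787) L18793 L18803 L39597 (flp_g L89644) L104925 (flp_b L105097) (flp_g L129185) (flp_f L151920)
theorem L151924 : sm gc N18565 = N19116 := ded_13_0 L151922 (flp_c L143325) (flp_b L103244) (flp_c L103240) L143321
theorem L151926 : sm gc N13904 = N19117 := rfl
theorem L151928 : sm ga N19117 = N18565 := ded_8_1 L151924 (flp_a L151914) L151926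
theorem L151930 : sm gg N19117 = N13914 := ded_21_2 (flp_c L105093) (flp_g L105047) L151926
theorem L151932 : sm gf N13904 = N19118 := rfl
theorem L151934 : sm ga N19118 = N18258 := ded_11_1 (flp_f L151920) (flp_a L151914) L151932
theorem L151936 : sm gd N19118 = N19091 := ded_23_1 L151754 L129215 L151932
theorem L151938 : sm gb N13905 = N19119 := rfl
theorem L151940 : sm ge N13907 = N19120 := rfl
theorem L151942 : sm gb N19120 = N13910 := ded_15_1 (flp_e L105073) (flp_b L105059) L151940
theorem L151944 : sm gc N19120 = N14007 := ded_19_1 (flp_e L105481) L105061 L151940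
theorem L151946 : sm gg N13907 = N19121 := rfl
theorem L151948 : sm gc N19121 = N14009 := ded_21_1 (flp_g L105487) L105061 L151946
theorem L151950 : sm gd N19121 = N13909 := ded_24_1 (flp_g L105071) L105057 L151946
theorem L151952 : sm gg N13908 = N19122 := rfl
theorem L151954 : sm gf N19109 = N19122 := ded_29_0 (flp_g L151952) (flp_f L105069) L105071 (flp_a L151874)
theorem L151956 : sm gb N13909 = N19123 := rfl
theorem L151958 : sm gg N19123 = N13912 := ded_17_2 (flp_b L105089) (flp_g L89698) L89690 L105071 L151956
theorem L151960 : sm gf N13909 = N19124 := rfl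
theorem L151962 : sm ga N19124 = N19122 := ded_11_1 (flp_f L151954) L151874 L151960
theorem L151964 : sm gc N19124 = N19122 := ded_20_1 (flp_f L151954) L151876 L151960
theorem L151966 : sm gg N19124 = N19108 := ded_29_3 L151868 (flp_f L105069) L105071 L151960
theorem L151968 : sm gg N13910 = N19125 := rfl
theorem L151970 : sm ga N19125 = N13916 := ded_12_1 (flp_g L105099) (flp_a L105075) L151968
theorem L151972 : sm gc N19125 = N13916 := ded_21_1 (flp_g L105099) (flp_c L105077) L151968
theorem L151974 : sm ge N19125 = N13911 := ded_26_1 (flp_g L105079) L105073 L151968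
theorem L151976 : sm gf N19125 = N19058 := ded_29_2 (flp_g L151612) (flp_a L119833) L119819 L151968
theorem L151978 : sm gb N13911 = N19126 := rfl
theorem L151980 : sm gd N19126 = N13912 := ded_14_2 (flp_b L105089) (flp_d L105085) L151978
theorem L151982 : sm ga N13912 = N19127 := rfl
theorem L151984 : sm gc N13912 = N19128 := rfl
theorem L151986 : sm gb N19128 = N13914 := ded_13_1 (flp_c L105093) (flp_b L89706) (flp_c L89702) L105089 L151984
theorem L151988 : sm gf N13912 = N19129 := rfl
theorem L151990 : sm gb N19129 = N19062 := ded_16_1 (flp_f L151626) (flp_b L104915) (flp_f L89704) L105089 L151988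
theorem L151992 : sm gb N13913 = N19130 := rfl
theorem L151994 : sm gg N19130 = N19022 := ded_17_2 (flp_b L145975) (flp_g L146064) (flp_b L151922) L151918 L151992
theorem L151996 : sm gc N13913 = N19131 := rfl
theorem L151998 : sm ga N19131 = N13914 := ded_8_1 (flp_c L105093) L105091 L151996
theorem L152000 : sm gg N19131 = N18565 := ded_21_2 L151924 L151918 L151996
theorem L152002 : sm gb N18562 = N19131 := ded_17_5 L152000 (flp_b L143321) (flp_g L103236) L103230 L143301
theorem L152004 : sm gf N13913 = N19132 := rfl
theorem L152006 : sm ga N19132 = N13915 := ded_11_1 (flp_f L105095) L105091 L152004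
theorem L152008 : sm gg N19132 = N19118 := ded_29_3 L151934 (flp_f L151920) L151918 L152004
theorem L152010 : sm gb N13952 = N19132 := ded_31_14 L152008 (flp_f L151932) (flp_b L105045) (flp_g L89688) L89686 (flp_b L104893) L151604 (flp_f L151610) (flp_b L151590) L148937 (flp_f L129265) L102320 L105216 L105240
theorem L152012 : sm gd N13914 = N19133 := rfl
theorem L152014 : sm gf N13914 = N19134 := rfl
theorem L152016 : sm gc N19134 = N13915 := ded_20_1 (flp_f L105095) L105093 L152014
theorem L152018 : sm gb N13916 = N19135 := rfl
theorem L152020 : sm ge N19135 = N13917 := ded_15_2 (flp_b L105103) (flp_e L105101) L152018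
theorem L152022 : sm gg N19135 = N14013 := ded_17_2 (flp_b L105501) (flp_g L89899) (flp_b L89710) L105099 L152018
theorem L152024 : sm gf N13916 = N19136 := rfl
theorem L152026 : sm ga N19136 = N19058 := ded_11_1 (flp_f L151976) L151970 L152024
theorem L152028 : sm gc N19136 = N19058 := ded_20_1 (flp_f L151976) L151972 L152024
theorem L152030 : sm ge N19136 = N13918 := ded_25_1 (flp_f L105109) (flp_e L105101) L152024
theorem L152032 : sm gg N19136 = N14500 := ded_29_3 L119833 L104909 L105099 L152024
theorem L152034 : sm ga N13917 = N19137 := rfl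
theorem L152036 : sm gd N19137 = N13919 := ded_9_2 (flp_a L105119) (flp_d L105105) L152034
theorem L152038 : sm gg N19137 = N14015 := ded_12_2 (flp_a L105513) (flp_g L105107) L152034
theorem L152040 : sm gc N13917 = N19138 := rfl
theorem L152042 : sm gg N19138 = N14016 := ded_21_2 (flp_c L105517) (flp_g L105107) L152040
theorem L152044 : sm gd N13921 = N19138 := ded_24_3 L152042 L120597 (flp_g L105537)
theorem L152046 : sm gf N13917 = N19138 := ded_29_2 L152042 (flp_a L120595) (flp_f L105519) (flp_g L105107)
theorem L152048 : sm gb N13918 = N19139 := rfl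
theorem L152050 : sm gd N19139 = N13922 := ded_14_2 (flp_b L105131) (flp_d L105115) L152048
theorem L152052 : sm gg N19139 = N14735 := ded_17_2 (flp_b L109215) (flp_g L91954) L91948 (flp_g L119385) L152048
theorem L152054 : sm gb N13919 = N19140 := rfl
theorem L152056 : sm gg N19140 = N15419 := ded_17_2 L112726 (flp_g L149098) (flp_b L105527) (flp_g L105121) L152054
theorem L152058 : sm gc N15420 = N19140 := ded_21_3 L152056 (flp_c L112724) L112728
theorem L152060 : sm gc N13919 = N19141 := rfl
theorem L152062 : sm ga N19141 = N13920 := ded_8_1 (flp_c L105123) L105119 L152060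
theorem L152064 : sm gg N19141 = N14020 := ded_21_2 (flp_c L105529) (flp_g L105121) L152060
theorem L152066 : sm gb N19141 = N17131 := ded_13_1 L123319 (flp_b L112730) L152058 (flp_b L152054) L152060
theorem L152068 : sm gd N13920 = N19142 := rfl
theorem L152070 : sm gb N19142 = N13925 := ded_14_1 (flp_d L105141) (flp_b L105127) L152068
theorem L152072 : sm gg N19142 = N14022 := ded_24_2 (flp_d L105539) (flp_g L105125) L152068
theorem L152074 : sm gf N13920 = N19143 := rfl
theorem L152076 : sm gc N19143 = N13921 := ded_20_1 (flp_f L105129) L105123 L152074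
theorem L152078 : sm gb N13921 = N19144 := rfl
theorem L152080 : sm gf N19144 = N13922 := ded_16_2 (flp_b L105131) (flp_f L89720) L89716 L105129 L152078
theorem L152082 : sm ga N13922 = N19145 := rfl
theorem L152084 : sm gc N13922 = N19146 := rfl
theorem L152086 : sm gb N19146 = N13929 := ded_13_1 (flp_c L105155) (flp_b L89738) (flp_c L89724) L105131 L152084
theorem L152088 : sm gg N13922 = N19147 := rfl
theorem L152090 : sm gd N19147 = N14735 := ded_24_1 (flp_g L152052) L152050 L152088
theorem L152092 : sm gb N19147 = N14734 := ded_17_1 (flp_g L109207) L119394 (flp_g L89726) L105131 L152088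
theorem L152094 : sm ga N13923 = N19148 := rfl
theorem L152096 : sm gd N19148 = N19028 := ded_9_2 (flp_a L151129) L105390 L152094
theorem L152098 : sm gf N18226 = N19148 := ded_23_0 L152096 (flp_f L145973) (flp_d L129004)
theorem L152100 : sm gc N13923 = N19149 := rfl
theorem L152102 : sm gf N13923 = N19150 := rfl
theorem L152104 : sm ga N19150 = N18226 := ded_11_1 L152098 (flp_a L152094) L152102
theorem L152106 : sm gd N19150 = N19026 := ded_23_1 L151131 L105390 L152102
theorem L152108 : sm gg N13923 = N19151 := rfl
theorem L152110 : sm gd N19151 = N15575 := ded_24_1 (flp_g L151127) L105390 L152108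
theorem L152112 : sm gb N19151 = N13934 := ded_17_1 (flp_g L105167) (flp_b L89740) (flp_g L89730) L105133 L152108
theorem L152114 : sm gb N13924 = N19152 := rfl
theorem L152116 : sm gd N19152 = N13968 := ded_14_2 L105320 (flp_d L151480) L152114
theorem L152118 : sm gf N19152 = N14069 := ded_16_2 L105728 L90025 (flp_b L89847) (flp_f L151482) L152114
theorem L152120 : sm gb N13926 = N19153 := rfl
theorem L152122 : sm gd N19153 = N13983 := ded_14_2 (flp_b L105374) (flp_d L151496) L152120
theorem L152124 : sm gg N19153 = N17280 := ded_17_2 (flp_b L124856) L148876 L143409 (flp_g L105181) L152120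
theorem L152126 : sm ga N13927 = N19154 := rfl
theorem L152128 : sm gf N19154 = N13928 := ded_11_2 (flp_a L105153) (flp_f L105151) L152126
theorem L152130 : sm gc N13927 = N19155 := rfl
theorem L152132 : sm gf N19155 = N13929 := ded_20_2 (flp_c L105155) (flp_f L105151) L152130
theorem L152134 : sm gg N13927 = N19156 := rfl
theorem L152136 : sm gb N19156 = N19034 := ded_17_1 (flp_g L146048) (flp_b L105183) (flp_g L89750) L105149 L152134
theorem L152138 : sm gb N13928 = N19157 := rfl
theorem L152140 : sm gc N13928 = N19158 := rfl
theorem L152142 : sm ga N19158 = N13929 := ded_8_1 (flp_c L105155) L105153 L152140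
theorem L152144 : sm gg N13928 = N19159 := rfl
theorem L152146 : sm ga N19159 = N13930 := ded_12_1 (flp_g L105157) L105153 L152144
theorem L152148 : sm gf N19159 = N19156 := ded_29_2 (flp_g L152134) L152126 L152128 L152144
theorem L152150 : sm gb N19159 = N18250 := ded_31_2 (flp_g L129127) (flp_f L102263) (flp_b L88146) (flp_g L33088) (flp_f L15916) (flp_b L7799) L7811 L9117 L18823 (flp_g L39633) L89736 L105149 L152134 (flp_f L152148)
theorem L152152 : sm gd N19078 = N19159 := ded_14_0 L152150 L129131 L151690
theorem L152154 : N18239 = N19157 := coi_17_5 (flp_b L152138) L152144 L152150 (flp_g L129127) L102267 L129070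
theorem L152155 : N19157 = N18239 := (eqc rfl L152154 rfl).symm
theorem L152156 : sm gb N18239 = N13928 := trfs L152155 (flp_b L152138) rfl
theorem L152158 : sm gb N19154 = N19080 := ded_31_5 L151710 (flp_f L104955) (flp_b L89654) L39601 L39657 L89791 L105288 (flp_f L129119) (flp_b L129101) (flp_g L129090) L129133 (flp_b L152150) (flp_g L152144) (flp_f L152128)
theorem L152160 : sm ga N18272 = N19078 := ded_9_3 L152152 L152146 (flp_d L129255)
theorem L152162 : N18270 = N19054 := coi_24_0 (flp_g L151692) L152152 (flp_g L152144) (flp_d L129248)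
theorem L152163 : N19054 = N18270 := (eqc rfl L152162 rfl).symm
theorem L152164 : sm gb N18270 = N13859 := trfs L152163 (flp_b L151584) rfl
theorem L152166 : sm gg N18270 = N19078 := trfs L152163 (flp_g L151692) rfl
theorem L152168 : sm gd N13929 = N19160 := rfl
theorem L152170 : sm gg N13929 = N19161 := rfl
theorem L152172 : sm gc N19161 = N13930 := ded_21_1 (flp_g L105157) L105155 L152170
theorem L152174 : sm gf N13930 = N19162 := rfl
theorem L152176 : sm ga N19162 = N19156 := ded_11_1 (flp_f L152148) L152146 L152174
theorem L152178 : sm gg N19162 = N19154 := ded_29_3 (flp_a L152126) L105151 L105157 L152174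
theorem L152180 : sm gf N13931 = N19163 := rfl
theorem L152182 : sm ga N19163 = N13933 := ded_11_1 (flp_f L105165) L105161 L152180
theorem L152184 : sm gc N19163 = N15342 := ded_20_1 L146082 (flp_c L146078) L152180
theorem L152186 : sm gg N13931 = N19164 := rfl
theorem L152188 : sm ga N19164 = N13934 := ded_12_1 (flp_g L105167) L105161 L152186
theorem L152190 : sm gf N19164 = N19052 := ded_29_2 L151574 (flp_a L152182) (flp_f L152180) L152186
theorem L152192 : sm gb N19047 = N19164 := ded_16_5 L152190 (flp_b L151570) (flp_f L104863) L104857 L146148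
theorem L152194 : sm gg N13932 = N19165 := rfl
theorem L152196 : sm gc N19165 = N13934 := ded_21_1 (flp_g L105167) L105163 L152194
theorem L152198 : sm gd N19165 = N15347 := ded_24_1 (flp_g L112418) (flp_d L143439) L152194
theorem L152200 : sm gc N15339 = N14822 := ded_28_0 (flp_d L109557) L92116 (flp_d L93851) (flp_c L151278) L105372 (flp_c L152196) L152198 L112420
theorem L152202 : sm gf N14822 = N14836 := ded_20_2 L109626 L112390 L152200
theorem L152204 : sm gd N14836 = N14823 := ded_23_1 (flp_f L109561) L109557 L152202
theorem L152206 : sm gg N14823 = N14834 := ded_24_2 (flp_d L109616) L109624 L152204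
theorem L152208 : sm gc N14834 = N15396 := ded_21_1 (flp_g L112632) (flp_c L109563) L152206
theorem L152210 : sm gf N13934 = N19166 := rfl
theorem L152212 : sm ga N19166 = N19052 := ded_11_1 (flp_f L152190) L152188 L152210
theorem L152214 : sm gd N19166 = N19042 := ded_23_1 (flp_f L151280) L105372 L152210
theorem L152216 : sm gg N19166 = N19163 := ded_29_3 L152182 (flp_f L105165) L105167 L152210
theorem L152218 : sm gb N19166 = N18232 := ded_31_2 (flp_g L129028) (flp_f L119423) (flp_b L119827) L151598 (flp_f L151602) (flp_b L105159) (flp_g L105157) (flp_f L105151) (flp_b L105149) L89750 (flp_f L89746) L89740 L105167 L152210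
theorem L152220 : sm ga N13935 = N19167 := rfl
theorem L152222 : sm gc N19167 = N17184 := ded_8_2 L123582 (flp_c L143415) L152220
theorem L152224 : sm gf N19167 = N17182 := ded_11_2 L123574 (flp_f L143417) L152220
theorem L152226 : sm gd N13935 = N19168 := rfl
theorem L152228 : sm gb N19168 = N13936 := ded_14_1 (flp_d L105171) L105169 L152226
theorem L152230 : sm gf N19168 = N17188 := ded_23_2 (flp_d L123596) (flp_f L143417) L152226
theorem L152232 : sm gg N13935 = N19169 := rfl
theorem L152234 : sm gc N19169 = N17194 := ded_21_1 (flp_g L123620) (flp_c L143415) L152232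
theorem L152236 : sm ga N13943 = N19170 := rfl
theorem L152238 : sm gg N19170 = N18285 := ded_12_2 (flp_a L129323) (flp_g L105206) L152236
theorem L152240 : sm gf N13943 = N19171 := rfl
theorem L152242 : sm gb N19171 = N19150 := ded_16_1 (flp_f L152102) (flp_b L105133) L89765 L105204 L152240
theorem L152244 : sm gg N19102 = N19171 := ded_31_0 (flp_f L152240) (flp_b L105204) (flp_g L89761) (flp_f L39647) (flp_b L18823) (flp_g L9113) (flp_f L4615) L4613 L9109 L18809 L39609 L89678 L105009 L151800
theorem L152246 : N19044 = N18285 := coi_29_3 (flp_g L152238) (flp_a L152236) L152240 (flp_g L152244) L151802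
theorem L152247 : N19044 = N18285 := eqc rfl L152246 rfl
theorem L152248 : sm gb N18285 = N13853 := trfs L152247 (flp_b L146140) rfl
theorem L152250 : sm gf N18285 = N19102 := trfs L152247 (flp_f L151802) rfl
theorem L152252 : sm ga N19102 = N18287 := ded_29_4 (flp_f L129330) (flp_g L105206) L152240 (flp_g L152244)
theorem L152254 : sm gg N19150 = N19087 := ded_17_2 (flp_b L151736) (flp_g L105013) L151800 L152244 L152242
theorem L152256 : sm gb N18233 = N13976 := ded_14_3 (flp_d L129325) L152248 (flp_d L129044)
theorem L152258 : sm ga N19119 = N13963 := ded_7_7 L105290 (flp_a L105011) L151800 L152252 L129334 L151912 (flp_b L151904) (flp_a L105051) L151938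
theorem L152260 : sm gg N13961 = N19119 := ded_12_0 L152258 (flp_g L105288) L105284
theorem L152262 : sm gd N13944 = N19172 := rfl
theorem L152264 : sm ga N19172 = N13948 := ded_9_1 (flp_d L105224) (flp_a L105210) L152262
theorem L152266 : sm gb N19172 = N14044 := ded_14_1 (flp_d L105630) L105260 L152262
theorem L152268 : sm gc N16589 = N19172 := ded_28_0 (flp_d L152262) (flp_c L105208) (flp_d L102318) (flp_c L148963) L116301 (flp_c L121430) L149162 L120696
theorem L152270 : sm gg N15386 = N19172 := ded_12_0 L152264 (flp_g L149817) (flp_a L150920)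
theorem L152272 : sm gf N16591 = N19172 := ded_16_0 L152266 L150438 (flp_b L151264) L120808 (flp_b L120716)
theorem L152274 : sm gf N13944 = N19173 := rfl
theorem L152276 : sm ga N19173 = N13949 := ded_11_1 (flp_f L105226) (flp_a L105210) L152274
theorem L152278 : sm gc N19173 = N13945 := ded_20_1 (flp_f L105212) L105208 L152274
theorem L152280 : sm gd N19173 = N16591 := ded_23_1 L152272 (flp_d L152262) L152274
theorem L152282 : sm gb N16611 = N19173 := ded_14_3 L152280 L120716 L120816
theorem L152284 : sm gg N13944 = N19174 := rfl
theorem L152286 : sm ga N19174 = N13950 := ded_12_1 (flp_g L105230) (flp_a L105210) L152284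
theorem L152288 : sm gc N19174 = N13946 := ded_21_1 (flp_g L105216) L105208 L152284
theorem L152290 : sm gd N19174 = N15386 := ded_24_1 L152270 (flp_d L152262) L152284
theorem L152292 : sm gb N19174 = N15384 := ded_17_1 (flp_g L112578) (flp_b L150422) (flp_g L105638) L105260 L152284
theorem L152294 : sm gb N13945 = N19175 := rfl
theorem L152296 : sm gb N13946 = N19176 := rfl
theorem L152298 : sm gd N19176 = N19020 := ded_14_2 L148544 L148946 L152296
theorem L152300 : sm gc N19176 = N15550 := ded_13_2 (flp_b L149592) L149584 (flp_b L152292) L152288 L152296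
theorem L152302 : sm gf N19176 = N19130 := ded_16_2 (flp_b L151992) L152004 (flp_b L152010) (flp_f L105240) L152296
theorem L152304 : sm gg N19176 = N19020 := ded_17_2 L148544 L148950 L102320 L105216 L152296
theorem L152306 : sm ga N19176 = N15561 := ded_7_1 L146188 L102174 (flp_b L147533) (flp_a L109388) (flp_b L149486) (flp_a L149707) L104959 (flp_a L105218) L152296
theorem L152308 : sm gg N19175 = N19039 := ded_31_6 (flp_f L146110) (flp_b L104833) L104839 L104843 L145965 L145967 L145973 L145975 (flp_g L151994) (flp_f L152302) (flp_b L152296) (flp_g L105216) L105212 L152294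
theorem L152310 : sm gf N13947 = N19177 := rfl
theorem L152312 : sm ga N19177 = N13956 := ded_11_1 (flp_f L105262) (flp_a L105258) L152310
theorem L152314 : sm gc N19177 = N13956 := ded_20_1 (flp_f L105262) (flp_c L105222) L152310
theorem L152316 : sm gg N13947 = N19178 := rfl
theorem L152318 : sm ga N19178 = N13957 := ded_12_1 (flp_g L105264) (flp_a L105258) L152316
theorem L152320 : sm gc N19178 = N13957 := ded_21_1 (flp_g L105264) (flp_c L105222) L152316
theorem L152322 : sm ge N13948 = N19179 := rfl
theorem L152324 : sm gf N13948 = N19180 := rfl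
theorem L152326 : sm ga N19180 = N16591 := ded_11_1 L152272 L152264 L152324
theorem L152328 : sm gc N19180 = N16590 := ded_20_1 L120712 L149180 L152324
theorem L152330 : sm gd N19180 = N13949 := ded_23_1 (flp_f L105226) L105224 L152324
theorem L152332 : sm gb N13949 = N19181 := rfl
theorem L152334 : sm gg N13949 = N19182 := rfl
theorem L152336 : sm gc N19182 = N13952 := ded_21_1 (flp_g L105238) (flp_c L105228) L152334
theorem L152338 : sm gf N19174 = N19182 := ded_29_0 (flp_g L152334) (flp_f L105226) L105230 (flp_a L152286)
theorem L152340 : sm gf N13950 = N19183 := rfl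
theorem L152342 : sm ga N19183 = N19182 := ded_11_1 (flp_f L152338) L152286 L152340
theorem L152344 : sm gc N19183 = N13953 := ded_20_1 (flp_f L105242) (flp_c L105232) L152340
theorem L152346 : sm gg N19183 = N19173 := ded_29_3 L152276 (flp_f L105226) L105230 L152340
theorem L152348 : sm ga N13951 = N19184 := rfl
theorem L152350 : sm gd N19184 = N19069 := ded_9_2 L151652 L129290 L152348
theorem L152352 : sm gf N19184 = N13961 := ded_11_2 (flp_a L105284) (flp_f L105236) L152348
theorem L152354 : sm gg N18245 = N19184 := ded_29_3 (flp_a L152348) L105236 L105288 (flp_f L129119)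
theorem L152356 : sm gc N19184 = N18605 := ded_30_1 (flp_b L143541) L103324 (flp_f L88740) (flp_c L37257) (flp_b L17838) (flp_a L17535) L17836 L17834 L17862 (flp_a L81630) (flp_f L9151) L9149 (flp_b L18829) (flp_a L39655) L89783 L89787 L89791 L105284 (flp_f L152352)
theorem L152358 : sm gb N18606 = N19184 := ded_31_14 (flp_g L152354) L129119 L105290 (flp_g L104989) L89672 (flp_b L39609) L18813 (flp_f L18789) L18787 L39581 L89606 L104831 L146066 (flp_f L146072)
theorem L152360 : sm gc N13951 = N19185 := rfl
theorem L152362 : sm ga N19185 = N18605 := ded_8_1 (flp_c L152356) (flp_a L152348) L152360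
theorem L152364 : sm gf N19185 = N13962 := ded_20_2 (flp_c L105286) (flp_f L105236) L152360
theorem L152366 : sm gg N13951 = N19186 := rfl
theorem L152368 : sm ga N19186 = N18245 := ded_12_1 L152354 (flp_a L152348) L152366
theorem L152370 : sm gd N19186 = N19067 := ded_24_1 (flp_g L151646) L129290 L152366
theorem L152372 : sm gf N19119 = N19186 := ded_29_0 (flp_g L152366) L105236 L105288 (flp_a L152258)
theorem L152374 : sm gb N19186 = N19118 := ded_17_1 (flp_g L152008) (flp_b L152010) (flp_g L105238) L105234 L152366
theorem L152376 : sm gb N13953 = N19187 := rfl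
theorem L152378 : sm gd N19187 = N19055 := ded_14_2 (flp_b L151590) L148935 L152376
theorem L152380 : sm gg N19187 = N18240 := ded_17_2 (flp_b L146116) (flp_g L152308) (flp_b L152294) (flp_g L105246) L152376
theorem L152382 : sm ga N19187 = N18241 := ded_7_1 (flp_b L129257) L152160 (flp_b L151690) L104947 (flp_b L105097) (flp_a L152006) (flp_b L152010) (flp_a L105244) L152376
theorem L152384 : sm ge N13955 = N19188 := rfl
theorem L152386 : sm gb N19188 = N13958 := ded_15_1 (flp_e L105266) (flp_b L105252) L152384
theorem L152388 : sm gc N19188 = N14054 := ded_19_1 (flp_e L105668) L105254 L152384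
theorem L152390 : sm gf N13955 = N19189 := rfl
theorem L152392 : sm gc N19189 = N14055 := ded_20_1 (flp_f L105672) L105254 L152390
theorem L152394 : sm gd N19189 = N13956 := ded_23_1 (flp_f L105262) L105250 L152390
theorem L152396 : sm gb N13956 = N19190 := rfl
theorem L152398 : sm gf N19190 = N13960 := ded_16_2 (flp_b L105282) (flp_f L89783) L89775 L105262 L152396
theorem L152400 : sm gg N13956 = N19191 := rfl
theorem L152402 : sm gf N19178 = N19191 := ded_29_0 (flp_g L152400) (flp_f L105262) L105264 (flp_a L152318)
theorem L152404 : sm gf N13957 = N19192 := rfl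
theorem L152406 : sm ga N19192 = N19191 := ded_11_1 (flp_f L152402) L152318 L152404
theorem L152408 : sm gc N19192 = N19191 := ded_20_1 (flp_f L152402) L152320 L152404
theorem L152410 : sm gg N19192 = N19177 := ded_29_3 L152312 (flp_f L105262) L105264 L152404
theorem L152412 : sm gf N13958 = N19193 := rfl
theorem L152414 : sm ga N19193 = N13964 := ded_11_1 (flp_f L105292) (flp_a L105268) L152412
theorem L152416 : sm gc N19193 = N13964 := ded_20_1 (flp_f L105292) (flp_c L105270) L152412
theorem L152418 : sm ge N19193 = N13959 := ded_25_1 (flp_f L105272) L105266 L152412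
theorem L152420 : sm gg N19082 = N19193 := ded_29_1 (flp_f L152412) (flp_g L149482) (flp_a L149309) L151720
theorem L152422 : sm gb N13959 = N19194 := rfl
theorem L152424 : sm gd N19194 = N13960 := ded_14_2 (flp_b L105282) (flp_d L105278) L152422
theorem L152426 : sm ga N13960 = N19195 := rfl
theorem L152428 : sm gc N13960 = N19196 := rfl
theorem L152430 : sm gb N19196 = N13962 := ded_13_1 (flp_c L105286) (flp_b L89791) (flp_c L89787) L105282 L152428
theorem L152432 : sm gg N13960 = N19197 := rfl
theorem L152434 : sm gb N19197 = N19086 := ded_17_1 (flp_g L151734) (flp_b L104979) L89789 L105282 L152432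
theorem L152436 : sm gb N13961 = N19198 := rfl
theorem L152438 : sm gf N19198 = N19019 := ded_16_2 (flp_b L146074) (flp_f L146072) L152358 L152352 L152436
theorem L152440 : sm gg N19198 = N19106 := ded_17_2 (flp_b L151854) (flp_g L105053) L151938 (flp_g L152260) L152436
theorem L152442 : sm gc N13961 = N19199 := rfl
theorem L152444 : sm ga N19199 = N13962 := ded_8_1 (flp_c L105286) L105284 L152442
theorem L152446 : sm gf N19199 = N18605 := ded_20_2 (flp_c L152356) L152352 L152442
theorem L152448 : sm gb N18600 = N19199 := ded_16_5 L152446 (flp_b L143541) (flp_f L103322) L103316 L143519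
theorem L152450 : sm gd N13962 = N19200 := rfl
theorem L152452 : sm gg N13962 = N19201 := rfl
theorem L152454 : sm gc N19201 = N13963 := ded_21_1 (flp_g L105288) L105286 L152452
theorem L152456 : sm gb N13964 = N19202 := rfl
theorem L152458 : sm ge N19202 = N13965 := ded_15_2 (flp_b L105296) (flp_e L105294) L152456
theorem L152460 : sm gf N19202 = N14060 := ded_16_2 (flp_b L105688) (flp_f L89987) (flp_b L89795) L105292 L152456
theorem L152462 : sm gg N13964 = N19203 := rfl
theorem L152464 : sm ga N19203 = N19082 := ded_12_1 L152420 L152414 L152462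
theorem L152466 : sm gc N19203 = N19082 := ded_21_1 L152420 L152416 L152462
theorem L152468 : sm ge N19203 = N13966 := ded_26_1 (flp_g L105302) (flp_e L105294) L152462
theorem L152470 : sm gf N14522 = N19203 := ded_29_0 (flp_g L152462) (flp_f L105292) (flp_g L104973) L149309
theorem L152472 : sm ga N13965 = N19204 := rfl
theorem L152474 : sm gd N19204 = N13967 := ded_9_2 (flp_a L105312) (flp_d L105298) L152472
theorem L152476 : sm gf N19204 = N14062 := ded_11_2 (flp_a L105700) (flp_f L105300) L152472
theorem L152478 : sm gc N13965 = N19205 := rfl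
theorem L152480 : sm gf N19205 = N14063 := ded_20_2 (flp_c L105704) (flp_f L105300) L152478
theorem L152482 : sm gd N13969 = N19205 := ded_23_3 L152480 L151441 L105724
theorem L152484 : sm gg N19205 = N13965 := ded_29_1 L105300 L105706 (flp_a L151439) (flp_f L152480)
theorem L152486 : sm gb N13966 = N19206 := rfl
theorem L152488 : sm gd N19206 = N13970 := ded_14_2 (flp_b L105324) (flp_d L105308) L152486
theorem L152490 : sm gf N19206 = N14784 := ded_16_2 (flp_b L109404) (flp_f L92035) L92029 (flp_f L148003) L152486
theorem L152492 : sm gb N13967 = N19207 := rfl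
theorem L152494 : sm gf N19207 = N15361 := ded_16_2 L112482 (flp_f L151413) (flp_b L105714) (flp_f L105314) L152492
theorem L152496 : sm gc N15362 = N19207 := ded_30_1 (flp_b L152492) (flp_a L105312) L89803 L90005 L90007 (flp_a L90017) L90019 (flp_c L39867) (flp_b L81612) L18867 (flp_f L74393) L37329 (flp_b L88758) (flp_a L103370) (flp_f L143599) (flp_c L143595) (flp_b L143451) (flp_a L112478) L112484
theorem L152498 : sm gc N13967 = N19208 := rfl
theorem L152500 : sm ga N19208 = N13968 := ded_8_1 (flp_c L105316) L105312 L152498
theorem L152502 : sm gf N19208 = N14067 := ded_20_2 (flp_c L105716) (flp_f L105314) L152498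
theorem L152504 : sm gb N19208 = N16937 := ded_13_1 L122438 (flp_b L112486) L152496 (flp_b L152492) L152498
theorem L152506 : sm gg N13968 = N19209 := rfl
theorem L152508 : sm gc N19209 = N13969 := ded_21_1 (flp_g L105322) L105316 L152506
theorem L152510 : sm gb N13969 = N19210 := rfl
theorem L152512 : sm gg N19210 = N13970 := ded_17_2 (flp_b L105324) (flp_g L89805) L89801 L105322 L152510
theorem L152514 : sm ga N13970 = N19211 := rfl
theorem L152516 : sm gc N13970 = N19212 := rfl
theorem L152518 : sm gb N19212 = N13977 := ded_13_1 (flp_c L105352) (flp_b L89827) (flp_c L89809) L105324 L152516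
theorem L152520 : sm gf N13970 = N19213 := rfl
theorem L152522 : sm gd N19213 = N14784 := ded_23_1 (flp_f L152490) L152488 L152520
theorem L152524 : sm gb N19213 = N14783 := ded_16_1 (flp_f L109396) L148010 L89811 L105324 L152520
theorem L152526 : sm ga N13971 = N19214 := rfl
theorem L152528 : sm gd N19214 = N19036 := ded_9_2 L146068 (flp_d L105328) L152526
theorem L152530 : sm gg N18230 = N19214 := ded_24_0 L152528 (flp_g L146066) (flp_d L129022)
theorem L152532 : sm gc N13971 = N19215 := rfl
theorem L152534 : sm gf N13971 = N19216 := rfl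
theorem L152536 : sm gd N19216 = N15496 := ded_23_1 L143419 (flp_d L105328) L152534
theorem L152538 : sm gb N19216 = N13981 := ded_16_1 (flp_f L105366) (flp_b L89829) (flp_f L89817) L105326 L152534
theorem L152540 : sm gg N13971 = N19217 := rfl
theorem L152542 : sm ga N19217 = N18230 := ded_12_1 L152530 (flp_a L152526) L152540
theorem L152544 : sm gd N19217 = N19034 := ded_24_1 (flp_g L146048) (flp_d L105328) L152540
theorem L152546 : sm ga N13975 = N19218 := rfl
theorem L152548 : sm gd N19218 = N19170 := ded_9_2 (flp_a L152236) (flp_d L105346) L152546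
theorem L152550 : sm gg N19218 = N13976 := ded_12_2 (flp_a L105350) (flp_g L105348) L152546
theorem L152552 : sm gb N19056 = N19218 := ded_17_5 L152550 (flp_b L152256) L129046 (flp_b L119827) L151598
theorem L152554 : sm gc N13975 = N19219 := rfl
theorem L152556 : sm gg N19219 = N13977 := ded_21_2 (flp_c L105352) (flp_g L105348) L152554
theorem L152558 : sm gf N13975 = N19220 := rfl
theorem L152560 : sm gd N19220 = N19171 := ded_23_1 (flp_f L152240) (flp_d L105346) L152558
theorem L152562 : sm gb N19220 = N19026 := ded_16_1 L151131 (flp_b L105388) L89843 L105344 L152558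
theorem L152564 : sm gc N13976 = N19221 := rfl
theorem L152566 : sm ga N19221 = N13977 := ded_8_1 (flp_c L105352) L105350 L152564
theorem L152568 : sm gf N13976 = N19222 := rfl
theorem L152570 : sm ga N19222 = N13978 := ded_11_1 (flp_f L105354) L105350 L152568
theorem L152572 : sm gd N19222 = N19102 := ded_23_1 (flp_f L152250) L129325 L152568
theorem L152574 : sm gg N19220 = N19222 := ded_29_1 (flp_f L152568) (flp_g L152550) (flp_a L152546) L152558
theorem L152576 : sm gb N19222 = N18263 := ded_16_1 (flp_f L129193) L102289 L129038 L152256 L152568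
theorem L152578 : sm gd N13977 = N19223 := rfl
theorem L152580 : sm gf N13977 = N19224 := rfl
theorem L152582 : sm gc N19224 = N13978 := ded_20_1 (flp_f L105354) L105352 L152580
theorem L152584 : sm gg N13978 = N19225 := rfl
theorem L152586 : sm ga N19225 = N19220 := ded_12_1 L152574 L152570 L152584
theorem L152588 : sm gf N19218 = N19225 := ded_29_0 (flp_g L152584) (flp_f L105354) (flp_g L105348) L152546
theorem L152590 : sm gb N19225 = N19162 := ded_17_1 L152178 L152158 L151710 (flp_b L105356) L152584
theorem L152592 : sm gf N13979 = N19226 := rfl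
theorem L152594 : sm ga N19226 = N13981 := ded_11_1 (flp_f L105366) L105358 L152592
theorem L152596 : sm gd N19226 = N19163 := ded_23_1 (flp_f L152180) (flp_d L105360) L152592
theorem L152598 : sm gg N19226 = N19042 := ded_29_1 (flp_f L151280) (flp_g L105370) L105358 L152592
theorem L152600 : sm gb N19040 = N19226 := ded_17_5 L152598 (flp_b L146130) (flp_g L104839) L104833 L146118
theorem L152602 : sm gg N13979 = N19227 := rfl
theorem L152604 : sm ga N19227 = N13982 := ded_12_1 (flp_g L105370) L105358 L152602
theorem L152606 : sm gc N19227 = N15400 := ded_21_1 L151433 L146086 L152602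
theorem L152608 : sm gd N19227 = N19164 := ded_24_1 (flp_g L152186) (flp_d L105360) L152602
theorem L152610 : sm gf N13980 = N19228 := rfl
theorem L152612 : sm gc N19228 = N13981 := ded_20_1 (flp_f L105366) L105364 L152610
theorem L152614 : sm gd N19228 = N15405 := ded_23_1 (flp_f L112662) (flp_d L151368) L152610
theorem L152616 : sm gg N13981 = N19229 := rfl
theorem L152618 : sm ga N19229 = N19042 := ded_12_1 (flp_g L152598) L152594 L152616
theorem L152620 : sm gd N19229 = N19052 := ded_24_1 L151574 (flp_d L105368) L152616
theorem L152622 : sm gf N19227 = N19229 := ded_29_0 (flp_g L152616) (flp_f L105366) L105370 (flp_a L152604)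
theorem L152624 : sm gb N18236 = N19229 := ded_31_14 (flp_g L152616) (flp_f L105366) (flp_b L89829) L89837 L89843 L105344 L105348 L105354 L105356 (flp_g L151710) (flp_f L151706) L149486 L148197 L129056
theorem L152626 : sm ga N13983 = N19230 := rfl
theorem L152628 : sm gc N19230 = N17277 := ded_8_2 L124049 (flp_c L151421) L152626
theorem L152630 : sm gg N19230 = N17274 := ded_12_2 L124035 (flp_g L151423) L152626
theorem L152632 : sm gf N13983 = N19231 := rfl
theorem L152634 : sm gc N19231 = N17287 := ded_20_1 (flp_f L124095) (flp_c L151421) L152632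
theorem L152636 : sm ga N13991 = N19232 := rfl
theorem L152638 : sm gd N19232 = N19154 := ded_9_2 (flp_a L152126) (flp_d L105413) L152636
theorem L152640 : sm gf N19232 = N18270 := ded_11_2 (flp_a L129246) (flp_f L105415) L152636
theorem L152642 : sm gg N13991 = N19233 := rfl
theorem L152644 : sm gd N19233 = N19156 := ded_24_1 (flp_g L152134) (flp_d L105413) L152642
theorem L152646 : sm gf N19078 = N19233 := ded_29_0 (flp_g L152642) L105415 L129253 L152160
theorem L152648 : sm gb N19233 = N19217 := ded_17_1 (flp_g L152540) (flp_b L105326) (flp_g L89860) L105411 L152642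
theorem L152650 : sm gf N19217 = N19063 := ded_16_2 (flp_b L151628) L104949 L151690 L152646 L152648
theorem L152652 : sm gf N13992 = N19234 := rfl
theorem L152654 : sm ga N19234 = N13994 := ded_11_1 (flp_f L105425) L105417 L152652
theorem L152656 : sm gc N19234 = N13998 := ded_20_1 (flp_f L105447) (flp_c L105419) L152652
theorem L152658 : sm gg N13992 = N19235 := rfl
theorem L152660 : sm ga N19235 = N13995 := ded_12_1 (flp_g L105430) L105417 L152658
theorem L152662 : sm gc N19235 = N13999 := ded_21_1 (flp_g L105451) (flp_c L105419) L152658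
theorem L152664 : sm gc N13993 = N19236 := rfl
theorem L152666 : sm ge N19236 = N15869 := ded_19_2 (flp_c L121074) L121072 L152664
theorem L152668 : sm gb N19236 = N19236 := ded_13_1 (flp_c L152664) L105423 L89872 (flp_b L105423) L152664
theorem L152669 : sm gf N15868 = N19236 := ded_25_0 L152666 (flp_f L114878) L114874
theorem L152671 : sm gf N13993 = N19237 := rfl
theorem L152673 : sm gc N19237 = N15868 := ded_20_1 L152669 (flp_c L152664) L152671
theorem L152675 : sm gd N19237 = N13994 := ded_23_1 (flp_f L105425) L105421 L152671
theorem L152677 : sm ge N19237 = N15867 := ded_25_1 L121076 L121072 L152671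
theorem L152679 : sm gb N19237 = N19237 := ded_16_1 (flp_f L152671) L105423 L89869 (flp_b L105423) L152671
theorem L152680 : sm gg N13993 = N19238 := rfl
theorem L152682 : sm gd N19238 = N13995 := ded_24_1 (flp_g L105430) L105421 L152680
theorem L152684 : sm gb N19238 = N18336 := ded_17_1 (flp_g L129779) L102457 (flp_g L89870) (flp_b L105423) L152680
theorem L152686 : sm gg N13994 = N19239 := rfl
theorem L152688 : sm gc N19239 = N14004 := ded_21_1 (flp_g L105469) (flp_c L105427) L152686
theorem L152690 : sm gf N19235 = N19239 := ded_29_0 (flp_g L152686) (flp_f L105425) L105430 (flp_a L152660)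
theorem L152692 : sm gf N13995 = N19240 := rfl
theorem L152694 : sm ga N19240 = N19239 := ded_11_1 (flp_f L152690) L152660 L152692
theorem L152696 : sm gc N19240 = N14005 := ded_20_1 (flp_f L105473) (flp_c L105432) L152692
theorem L152698 : sm gg N19240 = N19234 := ded_29_3 L152654 (flp_f L105425) L105430 L152692
theorem L152700 : sm ge N13997 = N19241 := rfl
theorem L152702 : sm ga N19241 = N14001 := ded_10_1 (flp_e L105457) (flp_a L105445) L152700
theorem L152704 : sm gc N19241 = N16261 := ded_19_1 L116997 (flp_c L119654) L152700
theorem L152706 : sm gf N19241 = N15088 := ded_25_2 L111071 (flp_f L119656) L152700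
theorem L152708 : sm gb N13999 = N19242 := rfl
theorem L152710 : sm gd N19242 = N16597 := ded_14_2 L121673 L121669 L152708
theorem L152712 : sm gg N19242 = N16599 := ded_17_2 L151852 (flp_g L151844) (flp_b L105067) L105451 L152708
theorem L152714 : sm gg N14001 = N19243 := rfl
theorem L152716 : sm gc N19243 = N16266 := ded_21_1 (flp_g L117019) (flp_c L119643) L152714
theorem L152718 : sm ge N19243 = N14003 := ded_26_1 (flp_g L105465) L105457 L152714
theorem L152720 : sm gb N14004 = N19244 := rfl
theorem L152722 : sm gd N19244 = N16781 := ded_14_2 (flp_b L121659) (flp_d L120293) L152720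
theorem L152724 : sm gg N19244 = N16784 := ded_17_2 (flp_b L121680) (flp_g L97574) (flp_b L119622) L105469 L152720
theorem L152726 : sm gb N14005 = N19245 := rfl
theorem L152728 : sm gd N14007 = N19246 := rfl
theorem L152730 : sm gb N19246 = N14010 := ded_14_1 (flp_d L105489) (flp_b L105483) L152728
theorem L152732 : sm ge N19246 = N14008 := ded_22_2 (flp_d L120437) (flp_e L105810) L90044 L105481 L152728
theorem L152734 : sm gf N14007 = N19246 := ded_16_0 L152730 (flp_f L143715) L143711 L103421 (flp_b L105483)
theorem L152736 : sm gg N14007 = N19247 := rfl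
theorem L152738 : sm ge N19247 = N14009 := ded_26_1 (flp_g L105487) L105481 L152736
theorem L152740 : sm gg N14008 = N19248 := rfl
theorem L152742 : sm gf N14383 = N19248 := ded_29_0 (flp_g L152740) (flp_f L105485) L105487 (flp_a L120525)
theorem L152744 : sm gb N14009 = N19249 := rfl
theorem L152746 : sm gd N19249 = N18697 := ded_14_2 L144077 L105823 L152744
theorem L152748 : sm gg N19249 = N14012 := ded_17_2 (flp_b L105497) (flp_g L89893) L89887 L105487 L152744
theorem L152750 : sm gf N14757 = N19249 := ded_31_1 (flp_b L152744) (flp_g L105487) L105485 (flp_b L120265) (flp_g L144085) L144083 (flp_b L109283) (flp_g L109281) (flp_f L109275) (flp_b L109273) L92004 (flp_f L92000) L91994 L109291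
theorem L152752 : sm gf N14009 = N19250 := rfl
theorem L152754 : sm ga N19250 = N19248 := ded_11_1 (flp_f L152742) L120525 L152752
theorem L152756 : sm gg N19250 = N14373 := ded_29_3 L119817 (flp_f L105485) L105487 L152752
theorem L152758 : sm gg N14010 = N19251 := rfl
theorem L152760 : sm gd N19251 = N14011 := ded_24_1 (flp_g L105491) L105489 L152758
theorem L152762 : sm ge N19251 = N18698 := ded_26_1 L144085 L105829 L152758
theorem L152764 : sm gb N14011 = N19252 := rfl
theorem L152766 : sm ge N19252 = N14012 := ded_15_2 (flp_b L105497) (flp_e L105495) L152764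
theorem L152768 : sm ga N14013 = N19253 := rfl
theorem L152770 : sm ge N19253 = N14015 := ded_10_2 (flp_a L105513) (flp_e L105503) L152768
theorem L152772 : sm gb N19253 = N15106 := ded_7_2 L111167 L92980 (flp_a L96269) L117447 (flp_a L143677) L143679 L103512 L105501 L152768
theorem L152774 : sm gc N14013 = N19254 := rfl
theorem L152776 : sm ge N19254 = N14016 := ded_19_2 (flp_c L105517) (flp_e L105503) L152774
theorem L152778 : sm gf N19253 = N19254 := ded_25_0 L152776 (flp_f L120581) (flp_e L152770)
theorem L152780 : sm gf N14013 = N19255 := rfl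
theorem L152782 : sm ga N19255 = N19254 := ded_11_1 (flp_f L152778) (flp_a L152768) L152780
theorem L152784 : sm gc N19255 = N19253 := ded_20_1 L152778 (flp_c L152774) L152780
theorem L152786 : sm ge N19255 = N14017 := ded_25_1 (flp_f L105519) (flp_e L105503) L152780
theorem L152788 : sm gb N14014 = N19256 := rfl
theorem L152790 : sm ge N19256 = N14018 := ded_15_2 (flp_b L105523) (flp_e L105509) L152788
theorem L152792 : sm gb N14017 = N19257 := rfl
theorem L152794 : sm gd N19257 = N14024 := ded_14_2 (flp_b L105547) (flp_d L105521) L152792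
theorem L152796 : sm gc N19257 = N15311 := ded_13_2 (flp_b L112266) (flp_c L93783) (flp_b L120577) L120579 L152792
theorem L152798 : sm gf N19257 = N14018 := ded_16_2 (flp_b L105523) (flp_f L89907) L89903 L105519 L152792
theorem L152800 : sm gg N14017 = N19258 := rfl
theorem L152802 : sm ga N19258 = N19138 := ded_12_1 L152042 (flp_a L120595) L152800
theorem L152804 : sm gc N19258 = N19137 := ded_21_1 L152038 L120579 L152800
theorem L152806 : sm gd N19258 = N14025 := ded_24_1 (flp_g L105551) (flp_d L105521) L152800
theorem L152808 : sm gf N19137 = N19258 := ded_29_0 (flp_g L152800) (flp_f L105519) (flp_g L105107) L152034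
theorem L152810 : sm gc N14018 = N19259 := rfl
theorem L152812 : sm gf N19259 = N15311 := ded_20_2 (flp_c L152796) L152798 L152810
theorem L152814 : sm gb N19259 = N15432 := ded_13_1 L143897 (flp_b L143889) L103584 L105523 L152810
theorem L152816 : sm gd N14020 = N19260 := rfl
theorem L152818 : sm ga N19260 = N14022 := ded_9_1 (flp_d L105539) (flp_a L105531) L152816
theorem L152820 : sm gb N19260 = N16878 := ded_14_1 (flp_d L122182) (flp_b L149786) L152816
theorem L152822 : sm gf N14020 = N19261 := rfl
theorem L152824 : sm ga N19261 = N14023 := ded_11_1 (flp_f L105543) (flp_a L105531) L152822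
theorem L152826 : sm gc N19261 = N14021 := ded_20_1 (flp_f L105533) L105529 L152822
theorem L152828 : sm gg N19143 = N19261 := ded_29_1 (flp_f L152822) (flp_g L152064) L152062 L152074
theorem L152830 : sm gb N14021 = N19262 := rfl
theorem L152832 : sm gd N19262 = N15374 := ded_14_2 (flp_b L120569) L120597 L152830
theorem L152834 : sm gf N19262 = N15366 := ded_16_2 (flp_b L112502) (flp_f L120589) (flp_b L105527) L105533 L152830
theorem L152836 : sm gc N14022 = N19263 := rfl
theorem L152838 : sm gd N19263 = N14023 := ded_28_7 (flp_a L152824) L152826 (flp_d L120597) (flp_c L105517) L89905 L89917 L105539 L152836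
theorem L152840 : sm gf N14022 = N19263 := ded_23_0 L152838 (flp_f L105543) L105539
theorem L152842 : sm ge N14022 = N19264 := rfl
theorem L152844 : sm gb N19264 = N14031 := ded_15_1 (flp_e L105577) (flp_b L105541) L152842
theorem L152846 : sm gb N14023 = N19265 := rfl
theorem L152848 : sm gf N19265 = N14028 := ded_16_2 (flp_b L105563) L89929 (flp_b L89919) L105543 L152846
theorem L152850 : sm gg N14023 = N19266 := rfl
theorem L152852 : sm ga N19266 = N19143 := ded_12_1 L152828 L152824 L152850
theorem L152854 : sm gc N19266 = N14025 := ded_21_1 (flp_g L105551) (flp_c L105545) L152850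
theorem L152856 : sm gf N19141 = N19266 := ded_29_0 (flp_g L152850) (flp_f L105543) (flp_g L105125) (flp_a L152062)
theorem L152858 : sm ga N14024 = N19267 := rfl
theorem L152860 : sm gf N19267 = N14026 := ded_11_2 (flp_a L105557) (flp_f L105549) L152858
theorem L152862 : sm gg N14024 = N19268 := rfl
theorem L152864 : sm gb N14025 = N19269 := rfl
theorem L152866 : sm gg N14026 = N19270 := rfl
theorem L152868 : sm ga N19270 = N14027 := ded_12_1 (flp_g L105559) L105557 L152866
theorem L152870 : sm gf N19270 = N19268 := ded_29_2 (flp_g L152862) L152858 L152860 L152866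
theorem L152872 : sm gf N14027 = N19271 := rfl
theorem L152874 : sm ga N19271 = N19268 := ded_11_1 (flp_f L152870) L152868 L152872
theorem L152876 : sm gg N19271 = N19267 := ded_29_3 (flp_a L152858) L105549 L105559 L152872
theorem L152878 : sm ga N14028 = N19272 := rfl
theorem L152880 : sm gd N14028 = N19273 := rfl
theorem L152882 : sm gb N19273 = N14029 := ded_14_1 (flp_d L105565) L105563 L152880
theorem L152884 : sm gg N14028 = N19274 := rfl
theorem L152886 : sm gb N19274 = N14035 := ded_17_1 (flp_g L105590) (flp_b L89937) (flp_g L89931) L105563 L152884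
theorem L152888 : sm ge N14029 = N19275 := rfl
theorem L152890 : sm ga N19275 = N14031 := ded_10_1 (flp_e L105577) (flp_a L105567) L152888
theorem L152892 : sm gf N19275 = N14031 := ded_25_2 (flp_e L105577) (flp_f L105569) L152888
theorem L152894 : sm gg N19275 = N14036 := ded_26_2 (flp_e L105592) (flp_g L105571) L152888
theorem L152896 : sm gb N14030 = N19276 := rfl
theorem L152898 : sm gd N19276 = N17310 := ded_14_2 L124221 (flp_d L141783) L152896
theorem L152900 : sm ge N14030 = N19277 := rfl
theorem L152902 : sm gc N19277 = N14031 := ded_19_1 (flp_e L105577) L105573 L152900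
theorem L152904 : sm gg N19277 = N14038 := ded_26_2 (flp_e L105599) (flp_g L105575) L152900
theorem L152906 : sm gd N19277 = N17313 := ded_22_1 (flp_e L124229) (flp_d L99037) L99047 (flp_d L141783) L152900
theorem L152908 : sm gb N14032 = N19278 := rfl
theorem L152910 : sm gd N14032 = N19279 := rfl
theorem L152912 : sm ga N19279 = N14033 := ded_9_1 (flp_d L105583) L105581 L152910
theorem L152914 : sm gf N14032 = N19280 := rfl
theorem L152916 : sm ga N19280 = N14034 := ded_11_1 (flp_f L105587) L105581 L152914
theorem L152918 : sm gg N14032 = N19281 := rfl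
theorem L152920 : sm ga N19281 = N14035 := ded_12_1 (flp_g L105590) L105581 L152918
theorem L152922 : sm gc N14033 = N19282 := rfl
theorem L152924 : sm ge N14033 = N19283 := rfl
theorem L152926 : sm gb N19283 = N14036 := ded_15_1 (flp_e L105592) (flp_b L105585) L152924
theorem L152928 : sm gf N14033 = N19284 := rfl
theorem L152930 : sm gd N19284 = N14034 := ded_23_1 (flp_f L105587) L105583 L152928
theorem L152933 : sm gg N14033 = N19285 := rfl
theorem L152935 : sm gd N19285 = N14035 := ded_24_1 (flp_g L105590) L105583 L152933
theorem L152937 : sm gg N14034 = N19286 := rfl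
theorem L152939 : sm gf N19281 = N19286 := ded_29_0 (flp_g L152937) (flp_f L105587) L105590 (flp_a L152920)
theorem L152941 : sm gf N14035 = N19287 := rfl
theorem L152943 : sm ga N19287 = N19286 := ded_11_1 (flp_f L152939) L152920 L152941
theorem L152945 : sm gg N19287 = N19280 := ded_29_3 L152916 (flp_f L105587) L105590 L152941
theorem L152947 : sm ga N14037 = N19288 := rfl
theorem L152949 : sm gc N19288 = N19232 := ded_8_2 (flp_a L152636) (flp_c L151562) L152947
theorem L152951 : sm ge N14037 = N19289 := rfl
theorem L152953 : sm gb N19289 = N14038 := ded_15_1 (flp_e L105599) L105597 L152951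
theorem L152955 : sm gc N19289 = N18905 := ded_19_1 L145255 (flp_c L151562) L152951
theorem L152957 : sm gg N14037 = N19290 := rfl
theorem L152959 : sm gc N19290 = N19233 := ded_21_1 (flp_g L152642) (flp_c L151562) L152957
theorem L152961 : sm gd N19290 = N17649 := ded_24_1 (flp_g L151232) L106082 L152957
theorem L152963 : sm gf N15839 = N19290 := ded_23_0 L152961 (flp_f L125914) (flp_d L114730)
theorem L152965 : sm gc N19078 = N15839 := ded_20_3 L152963 L152959 (flp_f L152646)
theorem L152967 : N15810 = N13877 := coi_13_5 L151690 L152965 (flp_b L114728) (flp_c L94955) (flp_b L94881) L114596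
theorem L152968 : N15810 = N13877 := eqc rfl L152967 rfl
theorem L152969 : sm gc N13877 = N11968 := trfs L152968 (flp_c L114596) rfl
theorem L152970 : N11968 = N19077 := eqes L152969 (flp_c L151686)
theorem L152971 : N19077 = N11968 := (eqc rfl L152970 rfl).symm
theorem L152972 : sm ga N11968 = N19066 := trfs L152971 L151684 rfl
theorem L152973 : N19066 = N15807 := eqes L152972 (flp_a L114584)
theorem L152974 : N19066 = N15807 := eqc rfl L152973 rfl
theorem L152975 : sm gc N11968 = N13877 := trfs L152971 L151686 rfl
theorem L152977 : sm gf N11968 = N19064 := trfs L152971 (flp_f L151688) rfl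
theorem L152978 : N19064 = N15776 := eqes L152977 (flp_f L114452)
theorem L152979 : N19064 = N15776 := eqc rfl L152978 rfl
theorem L152980 : sm gg N11968 = N13876 := trfs L152971 (flp_g L151682) rfl
theorem L152981 : N13876 = N15812 := eqes L152980 L114602
theorem L152982 : N15812 = N13876 := (eqc rfl L152981 rfl).symm
theorem L152983 : sm gd N13876 = N11969 := trfs L152982 L114604 rfl
theorem L152984 : N11969 = N19075 := eqes L152983 (flp_d L151676)
theorem L152985 : N19075 = N11969 := (eqc rfl L152984 rfl).symm
theorem L152986 : sm gg N13876 = N11968 := trfs L152982 (flp_g L114602) rfl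
theorem L152988 : sm gd N11969 = N13876 := trfs L152985 L151676 rfl
theorem L152990 : sm gf N11969 = N13875 := trfs L152985 (flp_f L151674) rfl
theorem L152991 : N13875 = N15814 := eqes L152990 L114610
theorem L152992 : N15814 = N13875 := (eqc rfl L152991 rfl).symm
theorem L152993 : sm ga N13875 = N15777 := trfs L152992 L114612 rfl
theorem L152994 : N15777 = N19071 := eqes L152993 (flp_a L151660)
theorem L152995 : N19071 = N15777 := (eqc rfl L152994 rfl).symm
theorem L152996 : sm gc N13875 = N11971 := trfs L152992 L114614 rfl
theorem L152997 : N11971 = N19073 := eqes L152996 L151670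
theorem L152998 : N19073 = N11971 := (eqc rfl L152997 rfl).symm
theorem L152999 : sm gf N13875 = N11969 := trfs L152992 (flp_f L114610) rfl
theorem L153001 : sm gg N13875 = N15775 := trfs L152992 L114616 rfl
theorem L153002 : N15775 = N19065 := eqes L153001 (flp_g L151638)
theorem L153003 : N19065 = N15775 := (eqc rfl L153002 rfl).symm
theorem L153004 : sm gd N15775 = N13870 := trfs L153003 (flp_d L151636) rfl
theorem L153006 : sm gg N15775 = N13875 := trfs L153003 L151638 rfl
theorem L153008 : sm gc N11971 = N13875 := trfs L152998 (flp_c L151670) rfl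
theorem L153010 : sm ga N15777 = N13875 := trfs L152995 L151660 rfl
theorem L153012 : sm gd N15777 = N13873 := trfs L152995 (flp_d L151658) rfl
theorem L153014 : sm ga N15776 = N13870 := trfs L152979 L151632 rfl
theorem L153016 : sm gc N15776 = N13869 := trfs L152979 (flp_c L151630) rfl
theorem L153018 : sm gg N15776 = N13873 := trfs L152979 L151634 rfl
theorem L153020 : sm gc N15807 = N13871 := trfs L152974 L151642 rfl
theorem L153022 : sm gf N15807 = N13870 := trfs L152974 (flp_f L151640) rfl
theorem L153024 : sm gg N15807 = N19072 := trfs L152974 L151668 rfl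
theorem L153026 : sm gc N18764 = N15811 := ded_19_3 (flp_e L114598) L152975 (flp_e L144469)
theorem L153028 : sm gc N14137 = N18244 := ded_28_6 L129099 (flp_a L104947) (flp_c L152975) (flp_d L94879) (flp_c L84065) (flp_d L41324) (flp_c L90204) L106095
theorem L153030 : sm gg N15811 = N18763 := ded_26_2 L144463 L152986 L114598
theorem L153032 : sm gg N15842 = N19076 := ded_17_4 (flp_b L151678) L152986 L94881 L94965 L114748
theorem L153034 : sm gd N19072 = N15808 := ded_9_2 L114588 L152988 (flp_a L151664)
theorem L153036 : sm gd N19076 = N15813 := ded_14_2 (flp_b L114606) L152988 L151678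
theorem L153038 : sm gf N15796 = N19074 := ded_25_2 (flp_e L151672) L152999 (flp_e L114540)
theorem L153040 : sm gd N14139 = N18243 := ded_28_1 (flp_c L129092) L102253 L104921 (flp_d L153004) (flp_c L114444) (flp_d L106811) L106809 (flp_c L106107)
theorem L153042 : sm gc N19074 = N14302 := ded_19_3 L150574 L153008 L151672
theorem L153044 : sm gc N14275 = N18248 := ded_28_0 (flp_d L129121) (flp_c L102261) L88148 L89648 L104939 (flp_c L153008) (flp_d L106845) L106843
theorem L153046 : sm gf N18243 = N14137 := ded_20_0 L153028 (flp_f L129097) L129092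
theorem L153048 : N18269 = N19282 := coi_13_2 (flp_c L152922) L105585 L90211 (flp_b L106097) L153028 (flp_b L129242)
theorem L153049 : N19282 = N18269 := (eqc rfl L153048 rfl).symm
theorem L153050 : sm gc N18269 = N14033 := trfs L153049 (flp_c L152922) rfl
theorem L153052 : sm gg N18248 = N14139 := ded_24_0 L153040 L129094 L129121
theorem L153054 : N19284 = N18268 := coi_20_3 (flp_c L129235) L129238 L153050 L152928
theorem L153055 : N19284 = N18268 := eqc rfl L153054 rfl
theorem L153057 : sm gd N18268 = N14034 := trfs L153055 L152930 rfl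
theorem L153059 : sm gf N18268 = N14033 := trfs L153055 (flp_f L152928) rfl
theorem L153061 : N19285 = N19092 := coi_21_3 (flp_c L151758) L129244 L153050 L152933
theorem L153062 : N19285 = N19092 := eqc rfl L153061 rfl
theorem L153063 : sm gd N19092 = N14035 := trfs L153062 L152935 rfl
theorem L153065 : sm gg N19092 = N14033 := trfs L153062 (flp_g L152933) rfl
theorem L153067 : sm gf N14039 = N19291 := rfl
theorem L153069 : sm ga N19291 = N14041 := ded_11_1 (flp_f L105612) L105604 L153067
theorem L153071 : sm gc N19291 = N14045 := ded_20_1 (flp_f L105634) (flp_c L105606) L153067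
theorem L153073 : sm gg N14039 = N19292 := rfl
theorem L153075 : sm ga N19292 = N14042 := ded_12_1 (flp_g L105618) L105604 L153073
theorem L153077 : sm gc N19292 = N14046 := ded_21_1 (flp_g L105638) (flp_c L105606) L153073
theorem L153079 : sm gc N14040 = N19293 := rfl
theorem L153081 : sm ge N19293 = N15905 := ded_19_2 L149821 (flp_e L151141) L153079
theorem L153083 : sm gb N19293 = N19293 := ded_13_1 (flp_c L153079) L105610 L89960 (flp_b L105610) L153079
theorem L153084 : sm gg N15903 = N19293 := ded_26_0 L153081 (flp_g L115055) L115047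
theorem L153086 : sm gf N14040 = N19294 := rfl
theorem L153088 : sm gd N19294 = N14041 := ded_23_1 (flp_f L105612) L105608 L153086
theorem L153090 : sm gb N19294 = N18349 := ded_16_1 (flp_f L129830) L102483 (flp_f L89957) (flp_b L105610) L153086
theorem L153092 : sm gg N14040 = N19295 := rfl
theorem L153094 : sm gc N19295 = N15903 := ded_21_1 L153084 (flp_c L153079) L153092
theorem L153096 : sm gd N19295 = N14042 := ded_24_1 (flp_g L105618) L105608 L153092
theorem L153098 : sm ge N19295 = N15902 := ded_26_1 (flp_g L150870) (flp_e L151141) L153092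
theorem L153100 : sm gb N19295 = N19295 := ded_17_1 (flp_g L153092) L105610 L89959 (flp_b L105610) L153092
theorem L153101 : sm gg N14041 = N19296 := rfl
theorem L153103 : sm gc N19296 = N14051 := ded_21_1 (flp_g L105656) (flp_c L105614) L153101
theorem L153105 : sm gf N19292 = N19296 := ded_29_0 (flp_g L153101) (flp_f L105612) L105618 (flp_a L153075)
theorem L153107 : sm gf N14042 = N19297 := rfl
theorem L153109 : sm ga N19297 = N19296 := ded_11_1 (flp_f L153105) L153075 L153107
theorem L153111 : sm gc N19297 = N14052 := ded_20_1 (flp_f L105660) (flp_c L105620) L153107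
theorem L153113 : sm gg N19297 = N19291 := ded_29_3 L153069 (flp_f L105612) L105618 L153107
theorem L153115 : sm ge N14044 = N19298 := rfl
theorem L153117 : sm ga N19298 = N14048 := ded_10_1 (flp_e L105644) (flp_a L105632) L153115
theorem L153119 : sm gc N19298 = N16365 := ded_19_1 L117637 (flp_c L150436) L153115
theorem L153121 : sm gg N19298 = N15108 := ded_26_2 L111187 (flp_g L150440) L153115
theorem L153123 : sm gb N14045 = N19299 := rfl
theorem L153125 : sm gd N19299 = N16609 := ded_14_2 L151264 L150892 L153123
theorem L153127 : sm gf N19299 = N16611 := ded_16_2 L152282 (flp_f L152274) (flp_b L105260) L105634 L153123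
theorem L153129 : sm gf N14048 = N19300 := rfl
theorem L153131 : sm gc N19300 = N16371 := ded_20_1 (flp_f L117665) (flp_c L150432) L153129
theorem L153133 : sm ge N19300 = N14049 := ded_25_1 (flp_f L105648) L105644 L153129
theorem L153135 : sm gb N14051 = N19301 := rfl
theorem L153137 : sm gb N14052 = N19302 := rfl
theorem L153139 : sm gd N19302 = N16959 := ded_14_2 (flp_b L122545) (flp_d L149898) L153137
theorem L153141 : sm gf N19302 = N16965 := ded_16_2 (flp_b L122577) (flp_f L98137) L150416 L105660 L153137
theorem L153143 : sm gd N14054 = N19303 := rfl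
theorem L153145 : sm gb N19303 = N14057 := ded_14_1 (flp_d L105676) (flp_b L105670) L153143
theorem L153147 : sm ge N19303 = N14056 := ded_22_2 (flp_d L129642) (flp_e L106129) L90220 L105668 L153143
theorem L153149 : sm gg N14054 = N19303 := ded_17_0 L153145 (flp_g L143813) L143809 L103480 (flp_b L105670)
theorem L153151 : sm gf N14054 = N19304 := rfl
theorem L153153 : sm ge N19304 = N14055 := ded_25_1 (flp_f L105672) L105668 L153151
theorem L153155 : sm gb N14055 = N19305 := rfl
theorem L153157 : sm gd N19305 = N18671 := ded_14_2 L143925 L106137 L153155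
theorem L153159 : sm gf N19305 = N14059 := ded_16_2 (flp_b L105684) (flp_f L89981) L89975 L105672 L153155
theorem L153161 : sm gg N19305 = N14805 := ded_31_3 (flp_f L109480) (flp_b L92075) L92081 L92085 L109462 L109464 L109470 L109472 L148056 L143935 L129627 (flp_g L105674) L105672 L153155
theorem L153163 : sm gg N14055 = N19306 := rfl
theorem L153165 : sm gf N14374 = N19306 := ded_29_0 (flp_g L153163) (flp_f L105672) L105674 (flp_a L151183)
theorem L153167 : sm gf N14056 = N19307 := rfl
theorem L153169 : sm ga N19307 = N19306 := ded_11_1 (flp_f L153165) L151183 L153167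
theorem L153171 : sm gg N19307 = N14386 := ded_29_3 L151248 (flp_f L105672) L105674 L153167
theorem L153173 : sm gf N14057 = N19308 := rfl
theorem L153175 : sm gd N19308 = N14058 := ded_23_1 (flp_f L105678) L105676 L153173
theorem L153177 : sm ge N19308 = N18673 := ded_25_1 L143935 L106148 L153173
theorem L153179 : sm gb N14058 = N19309 := rfl
theorem L153181 : sm ge N19309 = N14059 := ded_15_2 (flp_b L105684) (flp_e L105682) L153179
theorem L153183 : sm ga N14060 = N19310 := rfl
theorem L153185 : sm ge N19310 = N14062 := ded_10_2 (flp_a L105700) (flp_e L105690) L153183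
theorem L153187 : sm gb N19310 = N15126 := ded_7_2 L111283 L93035 (flp_a L96556) L118061 (flp_a L151385) L143463 L103449 L105688 L153183
theorem L153189 : sm gc N14060 = N19311 := rfl
theorem L153191 : sm ge N19311 = N14063 := ded_19_2 (flp_c L105704) (flp_e L105690) L153189
theorem L153193 : sm gg N19310 = N19311 := ded_26_0 L153191 (flp_g L151395) (flp_e L153185)
theorem L153195 : sm gg N14060 = N19312 := rfl
theorem L153197 : sm ga N19312 = N19311 := ded_12_1 (flp_g L153193) (flp_a L153183) L153195
theorem L153199 : sm gc N19312 = N19310 := ded_21_1 L153193 (flp_c L153189) L153195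
theorem L153201 : sm ge N19312 = N14064 := ded_26_1 (flp_g L105706) (flp_e L105690) L153195
theorem L153203 : sm gb N14061 = N19313 := rfl
theorem L153205 : sm ge N19313 = N14065 := ded_15_2 (flp_b L105710) (flp_e L105696) L153203
theorem L153207 : sm gb N14064 = N19314 := rfl
theorem L153209 : sm gd N19314 = N14071 := ded_14_2 (flp_b L105734) (flp_d L105708) L153207
theorem L153211 : sm gc N19314 = N15273 := ded_13_2 (flp_b L112036) (flp_c L93903) (flp_b L151391) L151393 L153207
theorem L153213 : sm gg N19314 = N14065 := ded_17_2 (flp_b L105710) (flp_g L89995) L89991 L105706 L153207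
theorem L153215 : sm gf N14064 = N19315 := rfl
theorem L153217 : sm ga N19315 = N19205 := ded_11_1 L152480 L151439 L153215
theorem L153219 : sm gc N19315 = N19204 := ded_20_1 L152476 L151393 L153215
theorem L153221 : sm gd N19315 = N14072 := ded_23_1 (flp_f L105740) (flp_d L105708) L153215
theorem L153223 : sm gg N19315 = N19204 := ded_29_3 (flp_a L152472) L105300 L105706 L153215
theorem L153225 : sm gc N14065 = N19316 := rfl
theorem L153227 : sm gg N19316 = N15273 := ded_21_2 (flp_c L153211) L153213 L153225
theorem L153229 : sm gb N19316 = N15375 := ded_13_1 (flp_c L151004) (flp_b L144039) L103680 L105710 L153225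
theorem L153231 : sm gd N14067 = N19317 := rfl
theorem L153233 : sm ga N19317 = N14069 := ded_9_1 (flp_d L105726) (flp_a L105718) L153231
theorem L153235 : sm gb N19317 = N16940 := ded_14_1 L122456 (flp_b L151451) L153231
theorem L153237 : sm gg N14067 = N19318 := rfl
theorem L153239 : sm ga N19318 = N14070 := ded_12_1 (flp_g L105730) (flp_a L105718) L153237
theorem L153241 : sm gc N19318 = N14068 := ded_21_1 (flp_g L105720) L105716 L153237
theorem L153243 : sm gf N19318 = N19209 := ded_29_2 (flp_g L152506) (flp_a L152500) L152502 L153237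
theorem L153245 : sm gb N14068 = N19319 := rfl
theorem L153247 : sm gd N19319 = N15433 := ded_14_2 (flp_b L151234) L151441 L153245
theorem L153249 : sm gg N19319 = N15424 := ded_17_2 (flp_b L112746) (flp_g L151415) (flp_b L105714) L105720 L153245
theorem L153251 : sm gc N14069 = N19320 := rfl
theorem L153253 : sm gd N19320 = N14070 := ded_28_7 (flp_a L153239) L153241 (flp_d L151441) (flp_c L105704) L89993 L90005 L105726 L153251
theorem L153255 : sm gg N14069 = N19320 := ded_24_0 L153253 (flp_g L105730) L105726
theorem L153257 : sm ge N14069 = N19321 := rfl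
theorem L153259 : sm gb N19321 = N14078 := ded_15_1 (flp_e L105772) (flp_b L105728) L153257
theorem L153261 : sm gb N14070 = N19322 := rfl
theorem L153263 : sm gc N19322 = N19274 := ded_13_2 L152886 L105738 (flp_b L105734) (flp_c L105732) L153261
theorem L153265 : sm gg N19322 = N14075 := ded_17_2 (flp_b L105756) L90021 (flp_b L90007) L105730 L153261
theorem L153267 : sm gf N14070 = N19323 := rfl
theorem L153269 : sm ga N19323 = N19209 := ded_11_1 (flp_f L153243) L153239 L153267
theorem L153271 : sm gc N19323 = N14072 := ded_20_1 (flp_f L105740) (flp_c L105732) L153267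
theorem L153273 : sm gg N19323 = N19208 := ded_29_3 L152500 L105318 L105730 L153267
theorem L153275 : sm ga N14071 = N19324 := rfl
theorem L153277 : sm gc N19324 = N19281 := ded_8_2 L152920 L105738 L153275
theorem L153279 : sm gg N19324 = N14073 := ded_12_2 (flp_a L105746) (flp_g L105736) L153275
theorem L153281 : sm gf N14071 = N19325 := rfl
theorem L153283 : sm gc N19325 = N19287 := ded_20_1 (flp_f L152941) L105738 L153281
theorem L153285 : sm gb N14072 = N19326 := rfl
theorem L153287 : sm gf N14073 = N19327 := rfl
theorem L153289 : sm ga N19327 = N14074 := ded_11_1 (flp_f L105750) L105746 L153287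
theorem L153291 : sm gc N19327 = N19280 := ded_20_1 (flp_f L152914) (flp_c L105748) L153287
theorem L153293 : sm gg N19325 = N19327 := ded_29_1 (flp_f L153287) (flp_g L153279) (flp_a L153275) L153281
theorem L153295 : sm gg N14074 = N19328 := rfl
theorem L153297 : sm ga N19328 = N19325 := ded_12_1 L153293 L153289 L153295
theorem L153299 : sm gc N19328 = N19286 := ded_21_1 (flp_g L152937) (flp_c L105752) L153295
theorem L153301 : sm gf N19324 = N19328 := ded_29_0 (flp_g L153295) (flp_f L105750) (flp_g L105736) L153275
theorem L153303 : sm ga N14075 = N19329 := rfl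
theorem L153305 : sm gc N19329 = N19272 := ded_8_2 (flp_a L152878) (flp_c L105758) L153303
theorem L153307 : sm gd N14075 = N19330 := rfl
theorem L153309 : sm gb N19330 = N14076 := ded_14_1 (flp_d L105760) L105756 L153307
theorem L153311 : sm gf N14075 = N19331 := rfl
theorem L153313 : sm gc N19331 = N19265 := ded_20_1 L152848 (flp_c L105758) L153311
theorem L153315 : sm gb N19331 = N14081 := ded_16_1 (flp_f L105784) (flp_b L90027) (flp_f L90019) L105756 L153311
theorem L153317 : sm ge N14076 = N19332 := rfl
theorem L153319 : sm ga N19332 = N14078 := ded_10_1 (flp_e L105772) (flp_a L105762) L153317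
theorem L153321 : sm gf N19332 = N14083 := ded_25_2 (flp_e L105793) (flp_f L105764) L153317
theorem L153323 : sm gg N19332 = N14078 := ded_26_2 (flp_e L105772) (flp_g L105766) L153317
theorem L153325 : sm gb N14077 = N19333 := rfl
theorem L153327 : sm gd N19333 = N17389 := ded_14_2 L124622 L141147 L153325
theorem L153329 : sm ge N14077 = N19334 := rfl
theorem L153331 : sm gc N19334 = N14078 := ded_19_1 (flp_e L105772) L105768 L153329
theorem L153333 : sm gf N19334 = N14085 := ded_25_2 (flp_e L105800) (flp_f L105770) L153329
theorem L153335 : sm gd N19334 = N17392 := ded_22_1 (flp_e L124630) (flp_d L99271) L99281 L141147 L153329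
theorem L153337 : sm gb N14079 = N19335 := rfl
theorem L153339 : sm gd N14079 = N19336 := rfl
theorem L153341 : sm ga N19336 = N14080 := ded_9_1 (flp_d L105780) L105776 L153339
theorem L153343 : sm gf N14079 = N19337 := rfl
theorem L153345 : sm ga N19337 = N14081 := ded_11_1 (flp_f L105784) L105776 L153343
theorem L153347 : sm gc N19337 = N19267 := ded_20_1 L152860 (flp_c L105778) L153343
theorem L153349 : sm gg N14079 = N19338 := rfl
theorem L153351 : sm ga N19338 = N14082 := ded_12_1 (flp_g L105788) L105776 L153349
theorem L153353 : sm gc N19338 = N19270 := ded_21_1 (flp_g L152866) (flp_c L105778) L153349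
theorem L153355 : sm gc N14080 = N19339 := rfl
theorem L153357 : sm ge N14080 = N19340 := rfl
theorem L153359 : sm gb N19340 = N14083 := ded_15_1 (flp_e L105793) (flp_b L105782) L153357
theorem L153361 : sm gf N14080 = N19341 := rfl
theorem L153363 : sm gd N19341 = N14081 := ded_23_1 (flp_f L105784) L105780 L153361
theorem L153365 : sm gg N14080 = N19342 := rfl
theorem L153367 : sm gd N19342 = N14082 := ded_24_1 (flp_g L105788) L105780 L153365
theorem L153370 : sm gg N14081 = N19343 := rfl
theorem L153372 : sm gc N19343 = N19268 := ded_21_1 (flp_g L152862) (flp_c L105786) L153370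
theorem L153374 : sm gf N19338 = N19343 := ded_29_0 (flp_g L153370) (flp_f L105784) L105788 (flp_a L153351)
theorem L153376 : sm gf N14082 = N19344 := rfl
theorem L153378 : sm ga N19344 = N19343 := ded_11_1 (flp_f L153374) L153351 L153376
theorem L153380 : sm gc N19344 = N19271 := ded_20_1 (flp_f L152872) (flp_c L105790) L153376
theorem L153382 : sm gg N19344 = N19337 := ded_29_3 L153345 (flp_f L105784) L105788 L153376
theorem L153384 : sm ga N14084 = N19345 := rfl
theorem L153386 : sm gc N19345 = N19170 := ded_8_2 (flp_a L152236) (flp_c L151556) L153384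
theorem L153388 : sm ge N14084 = N19346 := rfl
theorem L153390 : sm gb N19346 = N14085 := ded_15_1 (flp_e L105800) L105798 L153388
theorem L153392 : sm gc N19346 = N18858 := ded_19_1 L144996 (flp_c L151556) L153388
theorem L153394 : sm gf N14084 = N19347 := rfl
theorem L153396 : sm gc N19347 = N19171 := ded_20_1 (flp_f L152240) (flp_c L151556) L153394
theorem L153398 : sm gd N19347 = N17824 := ded_23_1 (flp_f L151236) L106405 L153394
theorem L153400 : sm gg N15711 = N19347 := ded_24_0 L153398 (flp_g L126714) (flp_d L114163)
theorem L153402 : sm gc N19102 = N15711 := ded_21_3 L153400 L153396 (flp_g L152244)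
theorem L153404 : N15682 = N13895 := coi_13_5 L151800 L153402 (flp_b L114161) (flp_c L94674) (flp_b L94602) L114035
theorem L153405 : N15682 = N13895 := eqc rfl L153404 rfl
theorem L153406 : sm gc N13895 = N11907 := trfs L153405 (flp_c L114035) rfl
theorem L153407 : N11907 = N19101 := eqes L153406 (flp_c L151796)
theorem L153408 : N19101 = N11907 := (eqc rfl L153407 rfl).symm
theorem L153409 : sm ga N11907 = N19090 := trfs L153408 L151794 rfl
theorem L153410 : N19090 = N15679 := eqes L153409 (flp_a L114023)
theorem L153411 : N19090 = N15679 := eqc rfl L153410 rfl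
theorem L153412 : sm gc N11907 = N13895 := trfs L153408 L151796 rfl
theorem L153414 : sm gf N11907 = N13894 := trfs L153408 (flp_f L151792) rfl
theorem L153415 : N13894 = N15684 := eqes L153414 L114041
theorem L153416 : N15684 = N13894 := (eqc rfl L153415 rfl).symm
theorem L153417 : sm gg N11907 = N19088 := trfs L153408 L151798 rfl
theorem L153418 : N19088 = N15651 := eqes L153417 (flp_g L113899)
theorem L153419 : N19088 = N15651 := eqc rfl L153418 rfl
theorem L153420 : sm ga N15651 = N13888 := trfs L153419 L151740 rfl
theorem L153422 : sm gc N15651 = N13887 := trfs L153419 (flp_c L151738) rfl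
theorem L153424 : sm gf N15651 = N13891 := trfs L153419 L151742 rfl
theorem L153426 : sm gd N13894 = N11908 := trfs L153416 L114043 rfl
theorem L153427 : N11908 = N19099 := eqes L153426 (flp_d L151786)
theorem L153428 : N19099 = N11908 := (eqc rfl L153427 rfl).symm
theorem L153429 : sm gf N13894 = N11907 := trfs L153416 (flp_f L114041) rfl
theorem L153431 : sm gd N11908 = N13894 := trfs L153428 L151786 rfl
theorem L153433 : sm gg N11908 = N13893 := trfs L153428 (flp_g L151784) rfl
theorem L153434 : N13893 = N15686 := eqes L153433 L114049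
theorem L153435 : N15686 = N13893 := (eqc rfl L153434 rfl).symm
theorem L153436 : sm ga N13893 = N15652 := trfs L153435 L114051 rfl
theorem L153437 : N15652 = N19095 := eqes L153436 (flp_a L151770)
theorem L153438 : N19095 = N15652 := (eqc rfl L153437 rfl).symm
theorem L153439 : sm gc N13893 = N11910 := trfs L153435 L114053 rfl
theorem L153440 : N11910 = N19097 := eqes L153439 L151780
theorem L153441 : N19097 = N11910 := (eqc rfl L153440 rfl).symm
theorem L153442 : sm gf N13893 = N15650 := trfs L153435 (flp_f L114055) rfl
theorem L153443 : N15650 = N19089 := eqes L153442 (flp_f L151746)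
theorem L153444 : N19089 = N15650 := (eqc rfl L153443 rfl).symm
theorem L153445 : sm gg N13893 = N11908 := trfs L153435 (flp_g L114049) rfl
theorem L153447 : sm gd N15650 = N13888 := trfs L153444 (flp_d L151744) rfl
theorem L153449 : sm gf N15650 = N13893 := trfs L153444 L151746 rfl
theorem L153451 : sm gc N11910 = N13893 := trfs L153441 (flp_c L151780) rfl
theorem L153453 : sm ga N15652 = N13893 := trfs L153438 L151770 rfl
theorem L153455 : sm gd N15652 = N13891 := trfs L153438 (flp_d L151768) rfl
theorem L153457 : sm gc N15679 = N13889 := trfs L153411 L151750 rfl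
theorem L153459 : sm gf N15679 = N19096 := trfs L153411 (flp_f L151778) rfl
theorem L153461 : sm gg N15679 = N13888 := trfs L153411 (flp_g L151748) rfl
theorem L153463 : sm gc N18782 = N15683 := ded_19_3 (flp_e L114037) L153412 (flp_e L144561)
theorem L153465 : sm gc N14194 = N18257 := ded_28_6 L129165 (flp_a L105011) (flp_c L153412) (flp_d L94600) (flp_c L83909) (flp_d L41472) (flp_c L90388) L106418
theorem L153467 : sm gd N18256 = N14197 := ded_28_3 L106434 L90836 L94540 L113897 L153420 (flp_c L104985) (flp_d L102275) L129158
theorem L153469 : sm gf N15683 = N18781 := ded_25_2 L144555 L153429 L114037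
theorem L153471 : sm gf N15714 = N19100 := ded_16_4 (flp_b L151788) L153429 L94602 L94682 L114175
theorem L153473 : sm gd N19096 = N15680 := ded_9_2 L114027 L153431 (flp_a L151774)
theorem L153475 : sm gd N19100 = N15685 := ded_14_2 (flp_b L114045) L153431 L151788
theorem L153477 : sm gg N15668 = N19098 := ded_26_2 (flp_e L151782) L153445 (flp_e L113979)
theorem L153479 : sm gc N19098 = N14251 := ded_19_3 L151036 L153451 L151782
theorem L153481 : sm gc N14325 = N18261 := ded_28_0 (flp_d L129187) (flp_c L102283) L88164 L89676 L105003 (flp_c L153451) (flp_d L107061) (flp_a L107067)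
theorem L153483 : sm gg N18256 = N14194 := ded_21_0 L153465 (flp_g L129163) L129158
theorem L153485 : N18284 = N19339 := coi_13_2 (flp_c L153355) L105782 L90395 (flp_b L106420) L153465 (flp_b L129319)
theorem L153486 : N19339 = N18284 := (eqc rfl L153485 rfl).symm
theorem L153487 : sm gc N18284 = N14080 := trfs L153486 (flp_c L153355) rfl
theorem L153489 : sm gf N14197 = N18261 := ded_23_2 (flp_d L129187) (flp_f L129160) L153467
theorem L153491 : N19341 = N19068 := coi_20_3 (flp_c L151648) L129321 L153487 L153361
theorem L153492 : N19341 = N19068 := eqc rfl L153491 rfl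
theorem L153493 : sm gd N19068 = N14081 := trfs L153492 L153363 rfl
theorem L153495 : sm gf N19068 = N14080 := trfs L153492 (flp_f L153361) rfl
theorem L153497 : N19342 = N18283 := coi_21_3 (flp_c L129312) L129315 L153487 L153365
theorem L153498 : N19342 = N18283 := eqc rfl L153497 rfl
theorem L153500 : sm gd N18283 = N14082 := trfs L153498 L153367 rfl
theorem L153502 : sm gg N18283 = N14080 := trfs L153498 (flp_g L153365) rfl
theorem L153504 : sm ge N14086 = N19348 := rfl
theorem L153506 : sm ga N19348 = N14087 := ded_10_1 (flp_e L105810) L105805 L153504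
theorem L153508 : sm gb N19348 = N14371 := ded_15_1 L107390 (flp_b L120387) L153504
theorem L153510 : sm gc N19348 = N19348 := ded_19_1 (flp_e L153504) L105807 L153504
theorem L153511 : sm gd N14373 = N19348 := ded_9_0 L153506 L120437 (flp_a L119817)
theorem L153513 : sm gf N14086 = N19348 := ded_11_0 L153506 L120439 L105805
theorem L153515 : sm gg N14086 = N19349 := rfl
theorem L153517 : sm ga N19349 = N14089 := ded_12_1 (flp_g L105820) L105805 L153515
theorem L153519 : sm gc N19349 = N19349 := ded_21_1 (flp_g L153515) L105807 L153515
theorem L153520 : sm gd N19349 = N14383 := ded_24_1 (flp_g L107441) (flp_d L120390) L153515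
theorem L153522 : sm gg N14087 = N19350 := rfl
theorem L153524 : sm gc N19350 = N19350 := ded_21_1 (flp_g L153522) L105814 L153522
theorem L153525 : sm gd N19350 = N19248 := ded_24_1 (flp_g L152740) (flp_d L120437) L153522
theorem L153527 : sm ge N19350 = N14089 := ded_26_1 (flp_g L105820) L105810 L153522
theorem L153529 : sm gf N19349 = N19350 := ded_29_0 (flp_g L153522) L120439 L105820 (flp_a L153517)
theorem L153531 : sm gf N14089 = N19351 := rfl
theorem L153533 : sm ga N19351 = N19350 := ded_11_1 (flp_f L153529) L153517 L153531
theorem L153535 : sm gc N19351 = N19351 := ded_20_1 (flp_f L153531) L105822 L153531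
theorem L153536 : sm gd N19351 = N19250 := ded_23_1 (flp_f L152752) (flp_d L105823) L153531
theorem L153538 : sm ge N19351 = N19349 := ded_25_1 L153529 L153527 L153531
theorem L153540 : sm gg N19351 = N19348 := ded_29_3 L153506 L120439 L105820 L153531
theorem L153542 : sm ge N14091 = N19352 := rfl
theorem L153544 : sm ga N19352 = N14397 := ded_10_1 L107509 (flp_a L120489) L153542
theorem L153546 : sm gb N19352 = N14093 := ded_15_1 (flp_e L105839) L105833 L153542
theorem L153548 : sm gf N19352 = N14419 := ded_25_2 L107607 (flp_f L120493) L153542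
theorem L153550 : sm gd N15152 = N19352 := ded_9_0 L153544 L107507 L111453
theorem L153552 : sm ge N14092 = N19353 := rfl
theorem L153554 : sm ga N19353 = N14097 := ded_10_1 (flp_e L105861) (flp_a L105837) L153552
theorem L153556 : sm gb N19353 = N14351 := ded_15_1 L107259 (flp_b L120315) L153552
theorem L153558 : sm gg N14092 = N19354 := rfl
theorem L153560 : sm ga N19354 = N14099 := ded_12_1 (flp_g L105869) (flp_a L105837) L153558
theorem L153562 : sm gc N19354 = N16665 := ded_21_1 L121133 L121082 L153558
theorem L153564 : sm gd N19354 = N14095 := ded_24_1 (flp_g L105851) L105835 L153558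
theorem L153566 : sm gf N19354 = N16654 := ded_29_2 (flp_g L121050) L121040 L121046 L153558
theorem L153568 : sm gg N14093 = N19355 := rfl
theorem L153570 : sm ga N19355 = N14102 := ded_12_1 (flp_g L105883) (flp_a L105841) L153568
theorem L153572 : sm gc N19355 = N14233 := ded_21_1 (flp_g L106639) (flp_c L105843) L153568
theorem L153574 : sm gd N19355 = N14727 := ded_24_1 L109185 (flp_d L120235) L153568
theorem L153576 : sm ge N19355 = N14095 := ded_26_1 (flp_g L105851) L105839 L153568
theorem L153578 : sm gf N14170 = N19355 := ded_29_0 (flp_g L153568) (flp_f L150550) (flp_g L106276) L106270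
theorem L153580 : sm gb N14094 = N19356 := rfl
theorem L153582 : sm gd N19356 = N14439 := ded_14_2 (flp_b L121048) L121044 L153580
theorem L153584 : sm ge N19356 = N17149 := ded_15_2 (flp_b L150542) L150548 L153580
theorem L153586 : sm gc N19356 = N17149 := ded_13_2 (flp_b L150542) L150544 L120324 (flp_c L105849) L153580
theorem L153588 : sm gf N19356 = N14425 := ded_16_2 (flp_b L107633) (flp_f L120493) (flp_b L105833) L105845 L153580
theorem L153590 : sm gb N14095 = N19357 := rfl
theorem L153592 : sm gg N14097 = N19358 := rfl
theorem L153594 : sm ge N19358 = N14099 := ded_26_1 (flp_g L105869) L105861 L153592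
theorem L153596 : sm gf N14099 = N19359 := rfl
theorem L153598 : sm ga N19359 = N16654 := ded_11_1 (flp_f L153566) L153560 L153596
theorem L153600 : sm gc N19359 = N16659 := ded_20_1 L121127 L121125 L153596
theorem L153602 : sm gd N19359 = N14105 := ded_23_1 (flp_f L105899) (flp_d L105871) L153596
theorem L153604 : sm gg N19359 = N16653 := ded_29_3 (flp_a L121040) L119676 L105869 L153596
theorem L153606 : sm gb N19359 = N14167 := ded_16_1 (flp_f L106252) L148025 L109370 L120311 L153596
theorem L153608 : sm gb N14103 = N19360 := rfl
theorem L153610 : sm ga N14104 = N19361 := rfl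
theorem L153612 : sm gc N19361 = N14283 := ded_8_2 L106867 (flp_c L147894) L153610
theorem L153614 : sm gd N19361 = N14775 := ded_9_2 (flp_a L109372) (flp_d L120465) L153610
theorem L153616 : sm ge N19361 = N14151 := ded_10_2 L106166 (flp_e L147899) L153610
theorem L153618 : sm gf N19361 = N14150 := ded_11_2 L106160 (flp_f L147901) L153610
theorem L153620 : sm gg N19361 = N14113 := ded_12_2 (flp_a L105951) (flp_g L105897) L153610
theorem L153622 : sm gg N14106 = N19362 := rfl
theorem L153624 : sm ga N19362 = N19251 := ded_12_1 (flp_g L152758) (flp_a L105909) L153622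
theorem L153626 : sm gd N19362 = N14107 := ded_24_1 (flp_g L105913) L105907 L153622
theorem L153628 : sm ge N19362 = N14110 := ded_26_1 (flp_g L105933) (flp_e L105911) L153622
theorem L153630 : sm gb N14107 = N19363 := rfl
theorem L153632 : sm ge N19363 = N14108 := ded_15_2 (flp_b L105921) (flp_e L105919) L153630
theorem L153634 : sm ga N14520 = N19363 := ded_10_3 L153632 L120481 (flp_e L108152)
theorem L153636 : sm gf N14518 = N19363 := ded_25_0 L153632 L120483 (flp_e L108144)
theorem L153638 : sm gb N14110 = N19364 := rfl
theorem L153640 : sm gd N19364 = N14111 := ded_14_2 (flp_b L105937) (flp_d L105935) L153638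
theorem L153642 : sm gg N19364 = N14155 := ded_17_2 L149239 (flp_g L109173) L119549 L105933 L153638
theorem L153644 : sm gf N16708 = N19364 := ded_31_1 (flp_b L153638) (flp_g L105933) L119547 (flp_b L91706) (flp_g L44183) (flp_f L44179) L44175 L44177 L44191 L44193 L91258 (flp_f L91263) (flp_b L150886) L150874
theorem L153646 : sm ga N16710 = N19364 := ded_9_3 L153640 L149289 (flp_d L150980)
theorem L153648 : sm gc N16722 = N19364 := ded_21_3 L153642 L150878 L121420
theorem L153650 : sm gb N14112 = N19365 := rfl
theorem L153652 : sm ge N19365 = N14116 := ded_15_2 (flp_b L105959) (flp_e L105947) L153650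
theorem L153654 : sm gc N19365 = N14116 := ded_13_2 (flp_b L105959) L90103 L139281 (flp_c L105945) L153650
theorem L153656 : sm gg N19365 = N14116 := ded_17_2 (flp_b L105959) L90105 L103536 L119874 L153650
theorem L153658 : sm gb N14113 = N19366 := rfl
theorem L153660 : sm gd N19366 = N14774 := ded_14_2 (flp_b L109362) (flp_d L120469) L153658
theorem L153662 : sm gf N19366 = N14702 := ded_16_2 (flp_b L109077) (flp_f L91900) L91892 (flp_f L120471) L153658
theorem L153664 : sm gc N15633 = N19366 := ded_20_3 L153662 L149508 L113819
theorem L153666 : sm ga N14116 = N19367 := rfl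
theorem L153668 : sm gd N19367 = N14445 := ded_9_2 (flp_a L123792) L123796 L153666
theorem L153670 : sm gf N19367 = N14431 := ded_11_2 (flp_a L123784) (flp_f L123788) L153666
theorem L153672 : sm gb N14121 = N19368 := rfl
theorem L153674 : sm ge N19368 = N15704 := ded_15_2 (flp_b L114137) (flp_e L139141) L153672
theorem L153676 : sm gc N19368 = N15697 := ded_13_2 (flp_b L114105) (flp_c L94634) (flp_b L141120) L105993 L153672
theorem L153678 : sm gd N14121 = N19369 := rfl
theorem L153680 : sm ga N19369 = N14122 := ded_9_1 (flp_d L106001) (flp_a L105995) L153678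
theorem L153682 : sm gf N19369 = N15705 := ded_23_2 (flp_d L114141) (flp_f L105997) L153678
theorem L153684 : sm gg N19369 = N14262 := ded_24_2 (flp_d L106769) (flp_g L105999) L153678
theorem L153686 : sm gc N14315 = N19369 := ded_28_0 (flp_d L153678) (flp_c L105993) L90127 L141861 (flp_d L41430) L90790 L106993 (flp_a L142692)
theorem L153688 : sm ge N14122 = N19370 := rfl
theorem L153690 : sm gb N19370 = N15738 := ded_15_1 (flp_e L148558) L150568 L153688
theorem L153692 : sm gg N19370 = N14265 := ded_26_2 (flp_e L106789) (flp_g L106003) L153688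
theorem L153694 : sm ga N14128 = N19371 := rfl
theorem L153696 : sm gd N14128 = N19372 := rfl
theorem L153698 : sm gb N19372 = N14129 := ded_14_1 (flp_d L106047) L106045 L153696
theorem L153700 : sm gf N14128 = N19373 := rfl
theorem L153702 : sm gg N14128 = N19374 := rfl
theorem L153704 : sm gb N19374 = N14140 := ded_17_1 (flp_g L106110) (flp_b L90202) (flp_g L90169) L106045 L153702
theorem L153706 : sm ge N14129 = N19375 := rfl
theorem L153708 : sm ga N19375 = N19277 := ded_10_1 (flp_e L152900) (flp_a L106049) L153706
theorem L153710 : sm gc N19375 = N19275 := ded_19_1 (flp_e L152888) L106055 L153706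
theorem L153712 : sm gf N19375 = N19277 := ded_25_2 (flp_e L152900) (flp_f L106051) L153706
theorem L153714 : sm gg N19375 = N14141 := ded_26_2 (flp_e L106114) (flp_g L106053) L153706
theorem L153716 : sm gd N19375 = N17177 := ded_22_1 (flp_e L123556) L99003 (flp_e L141816) L106047 L153706
theorem L153718 : sm ga N14134 = N19376 := rfl
theorem L153720 : sm gd N19376 = N19288 := ded_9_2 (flp_a L152947) (flp_d L106082) L153718
theorem L153722 : sm ge N19376 = N14860 := ded_10_2 (flp_a L109747) (flp_e L141787) L153718
theorem L153724 : sm gf N19376 = N17650 := ded_29_0 (flp_g L125916) L125914 (flp_g L151232) L153718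
theorem L153726 : sm gf N14134 = N19377 := rfl
theorem L153728 : sm ga N19377 = N17650 := ded_11_1 (flp_f L153724) (flp_a L153718) L153726
theorem L153730 : sm gd N19377 = N18271 := ded_23_1 L151568 (flp_d L106082) L153726
theorem L153732 : sm ge N19377 = N14863 := ded_25_1 (flp_f L109757) (flp_e L141787) L153726
theorem L153734 : sm gg N19377 = N17648 := ded_29_3 (flp_a L125912) L125914 (flp_g L151232) L153726
theorem L153736 : sm gb N19377 = N19377 := ded_16_1 (flp_f L153726) (flp_b L106080) L90192 L106080 L153726
theorem L153737 : N14752 = N19160 := coi_28_3 (flp_d L152168) (flp_c L105155) (flp_d L102314) L129250 (flp_d L153730) L153728 L142770 L109017 L109279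
theorem L153738 : N19160 = N14752 := (eqc rfl L153737 rfl).symm
theorem L153739 : sm gd N14752 = N13929 := trfs L153738 (flp_d L152168) rfl
theorem L153741 : sm gd N19155 = N16688 := ded_23_3 (flp_f L121242) L153739 (flp_f L152132)
theorem L153743 : sm gg N16686 = N19155 := ded_24_0 L153741 (flp_g L121238) L121232
theorem L153745 : sm gc N19156 = N16686 := ded_21_3 L153743 (flp_c L152130) L152134
theorem L153747 : sm gb N14136 = N19378 := rfl
theorem L153749 : sm gd N14136 = N19379 := rfl
theorem L153751 : sm ga N19379 = N14137 := ded_9_1 (flp_d L106095) L106091 L153749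
theorem L153753 : sm gc N18250 = N19379 := ded_28_0 (flp_d L153749) L106093 L90696 L94869 L114582 L153020 (flp_d L129099) (flp_a L129129)
theorem L153755 : sm gg N18249 = N19379 := ded_29_3 L153751 (flp_f L153046) L129094 L129123
theorem L153757 : sm ge N14136 = N19380 := rfl
theorem L153759 : sm ga N19380 = N14138 := ded_10_1 (flp_e L106099) L106091 L153757
theorem L153761 : sm gc N19380 = N14269 := ded_19_1 (flp_e L106803) (flp_c L106093) L153757
theorem L153763 : sm gf N14136 = N19381 := rfl
theorem L153765 : sm ga N19381 = N14139 := ded_11_1 (flp_f L106105) L106091 L153763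
theorem L153767 : sm gc N19381 = N14270 := ded_20_1 (flp_f L106807) (flp_c L106093) L153763
theorem L153769 : sm gg N14136 = N19382 := rfl
theorem L153771 : sm ga N19382 = N14140 := ded_12_1 (flp_g L106110) L106091 L153769
theorem L153773 : sm gc N19382 = N14271 := ded_21_1 (flp_g L106813) (flp_c L106093) L153769
theorem L153775 : sm gd N19382 = N18249 := ded_24_1 L153755 (flp_d L153749) L153769
theorem L153777 : sm gf N19382 = N18248 := ded_29_2 L153052 (flp_a L153765) (flp_f L153763) L153769
theorem L153779 : sm ge N14137 = N19383 := rfl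
theorem L153781 : sm gb N19383 = N14141 := ded_15_1 (flp_e L106114) (flp_b L106097) L153779
theorem L153783 : sm gg N14137 = N19384 := rfl
theorem L153785 : sm ga N19384 = N18249 := ded_12_1 L153755 L153751 L153783
theorem L153787 : sm gc N19384 = N18247 := ded_21_1 (flp_g L129115) (flp_c L153028) L153783
theorem L153789 : sm gd N19384 = N14140 := ded_24_1 (flp_g L106110) L106095 L153783
theorem L153791 : sm gf N18246 = N19384 := ded_29_0 (flp_g L153783) (flp_f L153046) L129094 (flp_a L129107)
theorem L153793 : sm gf N14138 = N19385 := rfl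
theorem L153795 : sm gc N19385 = N14273 := ded_20_1 (flp_f L106825) (flp_c L106103) L153793
theorem L153797 : sm ge N19385 = N14139 := ded_25_1 (flp_f L106105) L106099 L153793
theorem L153799 : sm gb N19385 = N19385 := ded_16_1 (flp_f L153793) L106101 L90217 (flp_b L106101) L153793
theorem L153800 : sm gg N14138 = N19386 := rfl
theorem L153802 : sm gc N19386 = N14274 := ded_21_1 (flp_g L106831) (flp_c L106103) L153800
theorem L153804 : sm ge N19386 = N14140 := ded_26_1 (flp_g L106110) L106099 L153800
theorem L153806 : sm gf N14140 = N19387 := rfl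
theorem L153808 : sm ga N19387 = N18248 := ded_11_1 (flp_f L153777) L153771 L153806
theorem L153810 : sm gc N19387 = N14276 := ded_20_1 (flp_f L106841) (flp_c L106112) L153806
theorem L153812 : sm gd N19387 = N18246 := ded_23_1 L153791 L153789 L153806
theorem L153814 : sm gg N19387 = N19381 := ded_29_3 L153765 (flp_f L106105) L106110 L153806
theorem L153816 : sm ge N14143 = N19388 := rfl
theorem L153818 : sm ga N19388 = N14144 := ded_10_1 (flp_e L106129) L106124 L153816
theorem L153820 : sm gb N19388 = N14372 := ded_15_1 L107398 (flp_b L151068) L153816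
theorem L153822 : sm gc N19388 = N19388 := ded_19_1 (flp_e L153816) L106126 L153816
theorem L153823 : sm gd N14374 = N19388 := ded_9_0 L153818 L129642 (flp_a L151183)
theorem L153825 : sm gg N14143 = N19388 := ded_12_0 L153818 L129644 L106124
theorem L153827 : sm gf N14143 = N19389 := rfl
theorem L153829 : sm ga N19389 = N14145 := ded_11_1 (flp_f L106134) L106124 L153827
theorem L153831 : sm gc N19389 = N19389 := ded_20_1 (flp_f L153827) L106126 L153827
theorem L153832 : sm gd N19389 = N14386 := ded_23_1 (flp_f L107447) L151077 L153827
theorem L153834 : sm gf N14144 = N19390 := rfl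
theorem L153836 : sm gc N19390 = N19390 := ded_20_1 (flp_f L153834) L106133 L153834
theorem L153837 : sm gd N19390 = N19307 := ded_23_1 (flp_f L153167) (flp_d L129642) L153834
theorem L153839 : sm ge N19390 = N14145 := ded_25_1 (flp_f L106134) L106129 L153834
theorem L153841 : sm gg N19390 = N19389 := ded_29_3 L153829 (flp_f L106134) (flp_g L129644) L153834
theorem L153843 : sm gg N14145 = N19391 := rfl
theorem L153845 : sm ga N19391 = N19390 := ded_12_1 L153841 L153829 L153843
theorem L153847 : sm gc N19391 = N19391 := ded_21_1 (flp_g L153843) L106136 L153843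
theorem L153848 : sm gd N19391 = N19306 := ded_24_1 (flp_g L153163) (flp_d L106137) L153843
theorem L153850 : sm ge N19391 = N19389 := ded_26_1 (flp_g L153841) L153839 L153843
theorem L153852 : sm gf N19388 = N19391 := ded_29_0 (flp_g L153843) (flp_f L106134) (flp_g L129644) (flp_a L153818)
theorem L153854 : sm ge N14148 = N19392 := rfl
theorem L153856 : sm ga N19392 = N14399 := ded_10_1 L107525 (flp_a L150600) L153854
theorem L153858 : sm gb N19392 = N14150 := ded_15_1 (flp_e L106158) L106152 L153854
theorem L153860 : sm gg N19392 = N14422 := ded_26_2 L107621 (flp_g L150608) L153854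
theorem L153862 : sm gd N15155 = N19392 := ded_9_0 L153856 L107523 L111463
theorem L153864 : sm ge N14149 = N19393 := rfl
theorem L153866 : sm ga N19393 = N14154 := ded_10_1 (flp_e L106180) (flp_a L106156) L153864
theorem L153868 : sm gb N19393 = N14354 := ded_15_1 L107275 (flp_b L150886) L153864
theorem L153870 : sm gf N14149 = N19394 := rfl
theorem L153872 : sm ga N19394 = N14155 := ded_11_1 (flp_f L106184) (flp_a L106156) L153870
theorem L153874 : sm gc N19394 = N16728 := ded_20_1 (flp_f L121414) (flp_c L150876) L153870
theorem L153876 : sm gd N19394 = N14151 := ded_23_1 (flp_f L106164) L106154 L153870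
theorem L153878 : sm gg N19394 = N16710 := ded_29_3 L153646 (flp_f L153644) (flp_g L150874) L153870
theorem L153880 : sm gb N14151 = N19395 := rfl
theorem L153882 : sm gb N14152 = N19396 := rfl
theorem L153884 : sm gd N19396 = N14446 := ded_14_2 L150954 L149823 L153882
theorem L153886 : sm ge N19396 = N17229 := ded_15_2 L123786 (flp_e L149259) L153882
theorem L153888 : sm gc N19396 = N17229 := ded_13_2 L123786 L149313 L146729 (flp_c L106174) L153882
theorem L153890 : sm gf N19396 = N19365 := ded_16_2 (flp_b L153650) (flp_f L105941) L105937 L149293 L153882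
theorem L153892 : sm gg N19396 = N14431 := ded_17_2 (flp_b L107665) (flp_g L150608) (flp_b L106152) L106170 L153882
theorem L153894 : sm gf N14154 = N19397 := rfl
theorem L153896 : sm ge N19397 = N14155 := ded_25_1 (flp_f L106184) L106180 L153894
theorem L153898 : sm gb N14162 = N19398 := rfl
theorem L153900 : sm ge N19398 = N19366 := ded_15_2 (flp_b L153658) (flp_e L149261) L153898
theorem L153902 : sm gf N14163 = N19399 := rfl
theorem L153904 : sm ga N19399 = N19308 := ded_11_1 (flp_f L153173) (flp_a L106228) L153902
theorem L153906 : sm gd N19399 = N14164 := ded_23_1 (flp_f L106232) L106226 L153902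
theorem L153908 : sm ge N19399 = N14167 := ded_25_1 (flp_f L106252) (flp_e L106230) L153902
theorem L153910 : sm gb N14164 = N19400 := rfl
theorem L153912 : sm ge N19400 = N14165 := ded_15_2 (flp_b L106240) (flp_e L106238) L153910
theorem L153914 : sm ga N14499 = N19400 := ded_10_3 L153912 L150492 (flp_e L108037)
theorem L153916 : sm gg N14496 = N19400 := ded_26_0 L153912 L150498 (flp_e L108025)
theorem L153918 : sm gb N14169 = N19401 := rfl
theorem L153920 : sm ge N19401 = N14173 := ded_15_2 (flp_b L106278) (flp_e L106266) L153918
theorem L153922 : sm gc N19401 = N14173 := ded_13_2 (flp_b L106278) L90279 L139767 (flp_c L106264) L153918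
theorem L153924 : sm gf N19401 = N14173 := ded_16_2 (flp_b L106278) (flp_f L90281) L103632 L129623 L153918
theorem L153926 : sm gg N19401 = N19356 := ded_17_2 (flp_b L153580) (flp_g L105905) L149299 L106260 L153918
theorem L153928 : sm gb N14170 = N19402 := rfl
theorem L153930 : sm gd N19402 = N14726 := ded_14_2 (flp_b L109177) (flp_d L150532) L153928
theorem L153932 : sm ge N19402 = N19360 := ded_15_2 (flp_b L153608) (flp_e L150534) L153928
theorem L153934 : sm gg N19402 = N14679 := ded_17_2 (flp_b L108979) (flp_g L91852) L91844 (flp_g L150536) L153928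
theorem L153936 : sm gc N15758 = N19402 := ded_21_3 L153934 L150762 L114374
theorem L153938 : sm ga N14173 = N19403 := rfl
theorem L153940 : sm gd N19403 = N14440 := ded_9_2 (flp_a L123418) L151012 L153938
theorem L153942 : sm gg N19403 = N14425 := ded_12_2 (flp_a L123412) L151042 L153938
theorem L153944 : sm gb N14178 = N19404 := rfl
theorem L153946 : sm ge N19404 = N15832 := ded_15_2 (flp_b L114702) (flp_e L141837) L153944
theorem L153948 : sm gc N19404 = N15825 := ded_13_2 (flp_b L114666) (flp_c L94913) (flp_b L142025) L106312 L153944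
theorem L153950 : sm gd N14178 = N19405 := rfl
theorem L153952 : sm ga N19405 = N14179 := ded_9_1 (flp_d L106320) (flp_a L106314) L153950
theorem L153954 : sm gf N19405 = N14264 := ded_23_2 L106787 (flp_f L106316) L153950
theorem L153956 : sm gg N19405 = N15833 := ded_24_2 (flp_d L114706) (flp_g L106318) L153950
theorem L153958 : sm gc N14266 = N19405 := ded_28_0 (flp_d L153950) (flp_c L106312) L90303 L141888 (flp_d L41292) L90664 L106759 L142754
theorem L153960 : sm ge N14179 = N19406 := rfl
theorem L153962 : sm gb N19406 = N15611 := ded_15_1 (flp_e L142859) L151030 L153960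
theorem L153964 : sm gf N19406 = N14314 := ded_25_2 (flp_e L107011) (flp_f L106322) L153960
theorem L153966 : sm ga N14185 = N19407 := rfl
theorem L153968 : sm gd N14185 = N19408 := rfl
theorem L153970 : sm gb N19408 = N14186 := ded_14_1 (flp_d L106368) L106366 L153968
theorem L153972 : sm gf N14185 = N19409 := rfl
theorem L153974 : sm gb N19409 = N14196 := ded_16_1 (flp_f L106428) (flp_b L90386) (flp_f L90349) L106366 L153972
theorem L153976 : sm gg N14185 = N19410 := rfl
theorem L153978 : sm ge N14186 = N19411 := rfl
theorem L153980 : sm ga N19411 = N19334 := ded_10_1 (flp_e L153329) (flp_a L106370) L153978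
theorem L153982 : sm gc N19411 = N19332 := ded_19_1 (flp_e L153317) L106376 L153978
theorem L153984 : sm gf N19411 = N14198 := ded_25_2 (flp_e L106437) (flp_f L106372) L153978
theorem L153986 : sm gg N19411 = N19334 := ded_26_2 (flp_e L153329) (flp_g L106374) L153978
theorem L153988 : sm gd N19411 = N17270 := ded_22_1 (flp_e L124019) L99243 L133407 L106368 L153978
theorem L153990 : sm ga N14191 = N19412 := rfl
theorem L153992 : sm gd N19412 = N19345 := ded_9_2 (flp_a L153384) (flp_d L106405) L153990
theorem L153994 : sm ge N19412 = N14887 := ded_10_2 (flp_a L109878) (flp_e L133459) L153990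
theorem L153996 : sm gg N17823 = N19412 := ded_29_3 (flp_a L153990) L151236 (flp_g L126714) L126710
theorem L153998 : sm gg N14191 = N19413 := rfl
theorem L154000 : sm ga N19413 = N17823 := ded_12_1 L153996 (flp_a L153990) L153998
theorem L154002 : sm gd N19413 = N18286 := ded_24_1 L151566 (flp_d L106405) L153998
theorem L154004 : sm ge N19413 = N14891 := ded_26_1 (flp_g L109890) (flp_e L133459) L153998
theorem L154006 : sm gf N17822 = N19413 := ded_29_0 (flp_g L153998) L151236 (flp_g L126714) L126708
theorem L154008 : sm gb N19413 = N19413 := ded_17_1 (flp_g L153998) (flp_b L106403) L90376 L106403 L153998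
theorem L154009 : N14801 = N19223 := coi_28_3 (flp_d L152578) (flp_c L105352) (flp_d L102339) L129327 (flp_d L154002) L154000 L149212 L109115 L109468
theorem L154010 : N19223 = N14801 := (eqc rfl L154009 rfl).symm
theorem L154011 : sm gd N14801 = N13977 := trfs L154010 (flp_d L152578) rfl
theorem L154013 : sm gb N14193 = N19414 := rfl
theorem L154015 : sm gd N14193 = N19415 := rfl
theorem L154017 : sm ga N19415 = N14194 := ded_9_1 (flp_d L106418) L106414 L154015
theorem L154019 : sm gc N18263 = N19415 := ded_28_0 (flp_d L154015) L106416 L90822 L94590 L114021 L153457 (flp_d L129165) (flp_a L129195)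
theorem L154021 : sm gf N19415 = N18262 := ded_29_0 (flp_g L129189) (flp_f L129160) L153483 (flp_a L154017)
theorem L154023 : sm ge N14193 = N19416 := rfl
theorem L154025 : sm ga N19416 = N14195 := ded_10_1 (flp_e L106422) L106414 L154023
theorem L154027 : sm gc N19416 = N14318 := ded_19_1 (flp_e L107025) (flp_c L106416) L154023
theorem L154029 : sm gf N14193 = N19417 := rfl
theorem L154031 : sm ga N19417 = N14196 := ded_11_1 (flp_f L106428) L106414 L154029
theorem L154033 : sm gc N19417 = N14319 := ded_20_1 (flp_f L107029) (flp_c L106416) L154029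
theorem L154035 : sm gd N19417 = N18262 := ded_23_1 (flp_f L154021) (flp_d L154015) L154029
theorem L154037 : sm gg N19417 = N18261 := ded_29_1 (flp_f L153489) (flp_g L106432) L106414 L154029
theorem L154039 : sm gb N17813 = N19417 := ded_30_2 L154031 (flp_f L106428) L90388 (flp_b L41470) L19720 L23523 L23527 L23559 L142517 (flp_f L80832) (flp_c L27616) (flp_b L86097) (flp_a L99149) (flp_f L146907) L86218 L86935 L100411 L100475 (flp_c L126672)
theorem L154041 : sm gg N14193 = N19418 := rfl
theorem L154043 : sm ga N19418 = N14197 := ded_12_1 (flp_g L106432) L106414 L154041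
theorem L154045 : sm gc N19418 = N14320 := ded_21_1 (flp_g L107035) (flp_c L106416) L154041
theorem L154047 : sm ge N14194 = N19419 := rfl
theorem L154049 : sm gb N19419 = N14198 := ded_15_1 (flp_e L106437) (flp_b L106420) L154047
theorem L154051 : sm gf N14194 = N19420 := rfl
theorem L154053 : sm ga N19420 = N18262 := ded_11_1 (flp_f L154021) L154017 L154051
theorem L154055 : sm gc N19420 = N18260 := ded_20_1 L129181 (flp_c L153465) L154051
theorem L154057 : sm gd N19420 = N14196 := ded_23_1 (flp_f L106428) L106418 L154051
theorem L154059 : sm gg N19420 = N18259 := ded_29_3 L129173 (flp_f L129160) L153483 L154051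
theorem L154061 : sm gf N14195 = N19421 := rfl
theorem L154063 : sm gc N19421 = N14322 := ded_20_1 (flp_f L107047) (flp_c L106426) L154061
theorem L154065 : sm ge N19421 = N14196 := ded_25_1 (flp_f L106428) L106422 L154061
theorem L154067 : sm gg N14195 = N19422 := rfl
theorem L154069 : sm gc N19422 = N14323 := ded_21_1 (flp_g L107053) (flp_c L106426) L154067
theorem L154071 : sm ge N19422 = N14197 := ded_26_1 (flp_g L106432) L106422 L154067
theorem L154073 : sm gb N19422 = N19422 := ded_17_1 (flp_g L154067) L106424 L90401 (flp_b L106424) L154067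
theorem L154074 : sm gg N14196 = N19423 := rfl
theorem L154076 : sm ga N19423 = N18261 := ded_12_1 (flp_g L154037) L154031 L154074
theorem L154078 : sm gc N19423 = N14324 := ded_21_1 (flp_g L107059) (flp_c L106430) L154074
theorem L154080 : sm gd N19423 = N18259 := ded_24_1 (flp_g L154059) L154057 L154074
theorem L154082 : sm gf N19418 = N19423 := ded_29_0 (flp_g L154074) (flp_f L106428) L106432 (flp_a L154043)
theorem L154084 : sm ge N14226 = N19424 := rfl
theorem L154086 : sm ga N19424 = N14228 := ded_10_1 (flp_e L106621) L106617 L154084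
theorem L154088 : sm gc N19424 = N14228 := ded_19_1 (flp_e L106621) (flp_c L120505) L154084
theorem L154090 : sm gd N14426 = N19424 := ded_9_0 L154086 L120233 (flp_a L107639)
theorem L154092 : sm gf N14226 = N19424 := ded_11_0 L154086 L120345 L106617
theorem L154094 : sm gg N14226 = N19425 := rfl
theorem L154096 : sm ga N19425 = N14230 := ded_12_1 (flp_g L106627) L106617 L154094
theorem L154098 : sm gc N19425 = N14230 := ded_21_1 (flp_g L106627) (flp_c L120505) L154094
theorem L154100 : sm gg N14228 = N19426 := rfl
theorem L154102 : sm gd N19426 = N14429 := ded_24_1 (flp_g L107653) (flp_d L120233) L154100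
theorem L154104 : sm ge N19426 = N14230 := ded_26_1 (flp_g L106627) L106621 L154100
theorem L154106 : sm gf N19425 = N19426 := ded_29_0 (flp_g L154100) L120345 L106627 (flp_a L154096)
theorem L154108 : sm gb N14230 = N19427 := rfl
theorem L154110 : sm gg N19427 = N14235 := ded_17_2 (flp_b L106647) (flp_g L90610) L90600 L106627 L154108
theorem L154112 : sm gf N14230 = N19428 := rfl
theorem L154114 : sm ga N19428 = N19426 := ded_11_1 (flp_f L154106) L154096 L154112
theorem L154116 : sm gc N19428 = N19426 := ded_20_1 (flp_f L154106) L154098 L154112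
theorem L154118 : sm ge N19428 = N19425 := ded_25_1 L154106 L154104 L154112
theorem L154120 : sm gg N19428 = N19424 := ded_29_3 L154086 L120345 L106627 L154112
theorem L154122 : sm gb N14233 = N19429 := rfl
theorem L154124 : sm gd N19429 = N18536 := ded_14_2 (flp_b L143145) L120418 L154122
theorem L154126 : sm ge N19429 = N14235 := ded_15_2 (flp_b L106647) (flp_e L106643) L154122
theorem L154128 : sm ga N14235 = N19430 := rfl
theorem L154130 : sm gc N14235 = N19431 := rfl
theorem L154132 : sm gf N19430 = N19431 := ded_30_0 (flp_c L154130) (flp_b L106647) L90612 L90636 (flp_c L105903) L149299 (flp_a L103608) L103612 L90227 L82662 L40211 L40249 (flp_c L90269) (flp_b L149299) L105901 (flp_f L105893) L105855 L106647 L154128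
theorem L154134 : sm gf N14235 = N19432 := rfl
theorem L154136 : sm ga N19432 = N19431 := ded_11_1 (flp_f L154132) (flp_a L154128) L154134
theorem L154138 : sm gc N19432 = N19430 := ded_20_1 L154132 (flp_c L154130) L154134
theorem L154140 : sm gb N14238 = N19433 := rfl
theorem L154142 : sm gd N19433 = N14240 := ded_14_2 (flp_b L106667) (flp_d L106659) L154140
theorem L154144 : sm gf N19433 = N14305 := ded_16_2 L106963 (flp_f L106322) (flp_b L151030) (flp_f L142861) L154140
theorem L154146 : sm gg N19433 = N14247 := ded_17_2 (flp_b L106697) (flp_g L90642) (flp_b L90616) L106657 L154140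
theorem L154148 : sm gb N14239 = N19434 := rfl
theorem L154150 : sm ge N19434 = N14242 := ded_15_2 (flp_b L106681) (flp_e L106663) L154148
theorem L154152 : sm gc N19434 = N15784 := ded_13_2 L114476 L153936 (flp_b L153928) L150530 L154148
theorem L154154 : sm gg N19434 = N15641 := ded_17_2 (flp_b L113857) (flp_g L94514) (flp_b L90622) L106661 L154148
theorem L154156 : sm ga N14240 = N19435 := rfl
theorem L154158 : sm gc N19435 = N14293 := ded_8_2 (flp_a L106913) (flp_c L150512) L154156
theorem L154160 : sm ge N19435 = N14243 := ded_10_2 (flp_a L106685) (flp_e L106669) L154156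
theorem L154162 : sm gf N19435 = N14303 := ded_11_2 L106953 (flp_f L150514) L154156
theorem L154164 : sm gg N19435 = N14248 := ded_12_2 (flp_a L106701) (flp_g L106671) L154156
theorem L154166 : sm gb N19435 = N15689 := ded_30_2 (flp_a L114099) (flp_f L114097) (flp_c L133810) (flp_b L103018) L88592 (flp_f L88582) (flp_c L148240) (flp_b L95173) L84245 (flp_f L84243) (flp_c L24643) L11847 L65645 L9494 (flp_c L19688) L41426 L90774 (flp_f L106915) (flp_c L154158)
theorem L154168 : sm ga N14242 = N19436 := rfl
theorem L154170 : sm gg N19436 = N15646 := ded_12_2 (flp_a L113881) (flp_g L106683) L154168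
theorem L154172 : sm gc N14242 = N19437 := rfl
theorem L154174 : sm ge N19437 = N15784 := ded_19_2 (flp_c L154152) L154150 L154172
theorem L154176 : sm gg N19437 = N15647 := ded_21_2 (flp_c L113883) (flp_g L106683) L154172
theorem L154178 : sm gf N14242 = N19438 := rfl
theorem L154180 : sm gb N19438 = N19432 := ded_16_1 (flp_f L154134) (flp_b L106647) L90630 L106681 L154178
theorem L154182 : sm gb N14243 = N19439 := rfl
theorem L154184 : sm ge N19439 = N15689 := ded_15_2 (flp_b L154166) L154160 L154182
theorem L154186 : sm gg N19439 = N15669 := ded_17_2 (flp_b L113981) (flp_g L151040) (flp_b L106715) (flp_g L106687) L154182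
theorem L154188 : sm gc N14243 = N19440 := rfl
theorem L154190 : sm ga N19440 = N14244 := ded_8_1 (flp_c L106689) L106685 L154188
theorem L154192 : sm ge N19440 = N14293 := ded_19_2 (flp_c L154158) L154160 L154188
theorem L154194 : sm gf N19440 = N14299 := ded_20_2 L151058 (flp_f L106739) L154188
theorem L154196 : sm gg N19440 = N14252 := ded_21_2 (flp_c L106717) (flp_g L106687) L154188
theorem L154198 : sm gb N15817 = N19440 := ded_16_5 L154194 L150590 (flp_f L94893) L94887 L114628
theorem L154200 : sm gd N14244 = N19441 := rfl
theorem L154202 : sm gb N19441 = N14288 := ded_14_1 L106885 (flp_b L149279) L154200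
theorem L154204 : sm gf N19441 = N14298 := ded_23_2 L106931 (flp_f L149283) L154200
theorem L154206 : sm gg N19441 = N14254 := ded_24_2 (flp_d L106727) (flp_g L106691) L154200
theorem L154208 : sm ga N14247 = N19442 := rfl
theorem L154210 : sm gd N19442 = N14248 := ded_9_2 (flp_a L106701) (flp_d L106699) L154208
theorem L154212 : sm gb N14324 = N19442 := ded_14_3 L154210 L151026 (flp_d L107061)
theorem L154214 : sm gc N14247 = N19443 := rfl
theorem L154216 : sm gf N14247 = N19444 := rfl
theorem L154218 : sm gd N19444 = N14250 := ded_23_1 (flp_f L106711) (flp_d L106699) L154216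
theorem L154220 : sm gb N14252 = N19445 := rfl
theorem L154222 : sm gd N14252 = N19446 := rfl
theorem L154224 : sm ga N19446 = N14254 := ded_9_1 (flp_d L106727) (flp_a L106719) L154222
theorem L154226 : sm gb N14253 = N19447 := rfl
theorem L154228 : sm gg N19447 = N14312 := ded_17_2 (flp_b L107001) L141834 (flp_b L150582) L106725 L154226
theorem L154230 : sm gc N14254 = N19448 := rfl
theorem L154232 : sm ge N14254 = N19449 := rfl
theorem L154234 : sm gb N19449 = N14265 := ded_15_1 (flp_e L106789) (flp_b L106729) L154232
theorem L154236 : sm gf N14254 = N19450 := rfl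
theorem L154238 : sm gd N19450 = N14255 := ded_23_1 (flp_f L106731) L106727 L154236
theorem L154240 : sm gb N14255 = N19451 := rfl
theorem L154242 : sm gc N19451 = N19409 := ded_13_2 L153974 L106430 L90832 (flp_c L106733) L154240
theorem L154244 : sm gf N19451 = N14267 := ded_16_2 (flp_b L106795) (flp_f L90690) (flp_b L90654) L106731 L154240
theorem L154246 : sm gg N19451 = N15774 := ded_17_2 (flp_b L114442) (flp_g L94897) (flp_b L150590) L150592 L154240
theorem L154248 : sm gb N14256 = N19452 := rfl
theorem L154250 : sm gd N19452 = N19435 := ded_14_2 L154166 L114069 L154248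
theorem L154252 : sm gc N19452 = N18501 := ded_13_2 L142951 (flp_c L153008) (flp_b L150590) L151058 L154248
theorem L154254 : sm gg N19452 = N19442 := ded_17_2 (flp_b L154212) (flp_g L107059) L90832 L106735 L154248
theorem L154256 : sm ga N19433 = N19452 := ded_9_3 L154250 (flp_a L154156) (flp_d L154142)
theorem L154258 : sm ga N14316 = N18536 := ded_7_7 (flp_b L143145) (flp_a L120420) L154140 L154256 (flp_b L154248) L106737 L150582 L132199 L107017
theorem L154260 : sm gc N18536 = N19371 := ded_8_2 (flp_a L153694) (flp_c L107019) L154258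
theorem L154262 : sm gb N19371 = N18538 := ded_13_1 (flp_c L143153) (flp_b L103144) (flp_c L103142) L143145 L154260
theorem L154264 : sm ge N14259 = N19453 := rfl
theorem L154266 : sm gc N19453 = N19406 := ded_19_1 (flp_e L153960) L142756 L154264
theorem L154268 : sm gd N19453 = N14265 := ded_22_1 (flp_e L106789) (flp_d L90688) (flp_e L90666) L106759 L154264
theorem L154270 : sm ga N14261 = N19454 := rfl
theorem L154272 : sm gd N14261 = N19455 := rfl
theorem L154274 : sm gb N19455 = N14262 := ded_14_1 (flp_d L106769) L106767 L154272
theorem L154276 : sm gf N14261 = N19456 := rfl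
theorem L154278 : sm ge N19456 = N19451 := ded_25_1 L154244 (flp_e L142758) L154276
theorem L154280 : sm gb N19456 = N14304 := ded_16_1 (flp_f L150558) L106709 (flp_f L139135) L106767 L154276
theorem L154282 : sm gg N14261 = N19457 := rfl
theorem L154284 : sm ge N14262 = N19458 := rfl
theorem L154286 : sm ga N19458 = N14265 := ded_10_1 (flp_e L106789) (flp_a L106771) L154284
theorem L154288 : sm gc N19458 = N14314 := ded_19_1 (flp_e L107011) (flp_c L106773) L154284
theorem L154290 : sm gf N19458 = N19453 := ded_25_2 (flp_e L154264) L142752 L154284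
theorem L154292 : sm gb N14264 = N19459 := rfl
theorem L154294 : sm gd N19459 = N14312 := ded_14_2 (flp_b L107001) (flp_d L106787) L154292
theorem L154296 : sm ge N14264 = N19460 := rfl
theorem L154298 : sm ga N19460 = N14314 := ded_10_1 (flp_e L107011) (flp_a L106785) L154296
theorem L154300 : sm gc N19460 = N14265 := ded_19_1 (flp_e L106789) L106783 L154296
theorem L154302 : sm gf N14265 = N19461 := rfl
theorem L154304 : sm ga N19461 = N19453 := ded_11_1 (flp_f L154290) L154286 L154302
theorem L154306 : sm gd N19461 = N19458 := ded_23_1 L154290 L154268 L154302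
theorem L154308 : sm ge N19461 = N14266 := ded_25_1 (flp_f L106791) L106789 L154302
theorem L154310 : sm gb N14266 = N19462 := rfl
theorem L154312 : sm gd N19462 = N14267 := ded_14_2 (flp_b L106795) (flp_d L106793) L154310
theorem L154314 : sm ga N14267 = N19463 := rfl
theorem L154316 : sm gc N19463 = N19407 := ded_8_2 (flp_a L153966) (flp_c L106797) L154314
theorem L154318 : sm ge N19463 = N19454 := ded_10_2 (flp_a L154270) L142758 L154314
theorem L154320 : sm gg N14267 = N19464 := rfl
theorem L154322 : sm gc N19464 = N19410 := ded_21_1 (flp_g L153976) (flp_c L106797) L154320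
theorem L154324 : sm ge N19464 = N19457 := ded_26_1 (flp_g L154282) L142758 L154320
theorem L154326 : sm ga N14268 = N19465 := rfl
theorem L154328 : sm gd N19465 = N15802 := ded_9_2 (flp_a L114572) (flp_d L106801) L154326
theorem L154330 : sm gb N19465 = N15802 := ded_7_2 (flp_a L114572) (flp_b L94867) (flp_a L84063) (flp_b L23725) (flp_a L19627) L41322 L90694 L106799 L154326
theorem L154332 : sm gc N14268 = N19466 := rfl
theorem L154334 : sm ge N14268 = N19467 := rfl
theorem L154336 : sm gb N19467 = N14269 := ded_15_1 (flp_e L106803) L106799 L154334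
theorem L154338 : sm gf N14268 = N19468 := rfl
theorem L154340 : sm gd N19468 = N15804 := ded_23_1 (flp_f L114576) (flp_d L106801) L154338
theorem L154342 : sm gg N14268 = N19469 := rfl
theorem L154344 : sm gd N19469 = N15805 := ded_24_1 (flp_g L114578) (flp_d L106801) L154342
theorem L154346 : sm gd N14269 = N19470 := rfl
theorem L154348 : sm ga N19470 = N14272 := ded_9_1 (flp_d L106819) (flp_a L106805) L154346
theorem L154350 : sm ge N19470 = N15789 := ded_22_2 L114506 L94851 (flp_d L90696) L106803 L154346
theorem L154352 : sm gf N15779 = N19470 := ded_11_0 L154348 L148370 L114462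
theorem L154354 : sm gf N14269 = N19471 := rfl
theorem L154356 : sm ga N19471 = N14273 := ded_11_1 (flp_f L106825) (flp_a L106805) L154354
theorem L154358 : sm gd N19471 = N15779 := ded_23_1 L154352 (flp_d L154346) L154354
theorem L154360 : sm ge N19471 = N14270 := ded_25_1 (flp_f L106807) L106803 L154354
theorem L154362 : sm gg N14269 = N19472 := rfl
theorem L154364 : sm ga N19472 = N14274 := ded_12_1 (flp_g L106831) (flp_a L106805) L154362
theorem L154366 : sm ge N19472 = N14271 := ded_26_1 (flp_g L106813) L106803 L154362
theorem L154368 : sm gb N14270 = N19473 := rfl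
theorem L154370 : sm gd N19473 = N15774 := ded_14_2 (flp_b L114442) (flp_d L106811) L154368
theorem L154372 : sm gb N14271 = N19474 := rfl
theorem L154374 : sm gd N19474 = N15809 := ded_14_2 (flp_b L114594) (flp_d L106817) L154372
theorem L154376 : sm gc N14272 = N19475 := rfl
theorem L154378 : sm ge N19475 = N15790 := ded_19_2 (flp_c L114508) (flp_e L106823) L154376
theorem L154380 : sm gf N19475 = N15780 := ded_20_2 (flp_c L114464) (flp_f L148370) L154376
theorem L154382 : sm gg N14272 = N19476 := rfl
theorem L154384 : sm gd N19476 = N14274 := ded_24_1 (flp_g L106831) L106819 L154382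
theorem L154386 : sm ge N19476 = N15791 := ded_26_1 (flp_g L114510) (flp_e L106823) L154382
theorem L154388 : sm gg N14273 = N19477 := rfl
theorem L154390 : sm gd N19477 = N15778 := ded_24_1 L114460 (flp_d L146401) L154388
theorem L154392 : sm ge N19477 = N14275 := ded_26_1 (flp_g L106835) (flp_e L106827) L154388
theorem L154394 : sm gf N19472 = N19477 := ded_29_0 (flp_g L154388) (flp_f L106825) L106831 (flp_a L154364)
theorem L154396 : sm gb N19477 = N14275 := ded_17_1 (flp_g L106835) L90706 L146399 (flp_b L106829) L154388
theorem L154398 : sm gf N14274 = N19478 := rfl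
theorem L154400 : sm ga N19478 = N19477 := ded_11_1 (flp_f L154394) L154364 L154398
theorem L154402 : sm ge N19478 = N14276 := ded_25_1 (flp_f L106841) (flp_e L106833) L154398
theorem L154404 : sm gg N19478 = N19471 := ded_29_3 L154356 (flp_f L106825) L106831 L154398
theorem L154406 : sm gb N14276 = N19479 := rfl
theorem L154408 : sm gd N19479 = N14299 := ded_14_2 L150590 (flp_d L106845) L154406
theorem L154410 : sm gg N19479 = N19450 := ded_31_3 (flp_f L154236) L106729 (flp_g L106003) (flp_f L150564) (flp_b L115148) (flp_g L95205) (flp_f L84257) (flp_b L24720) (flp_g L65461) (flp_f L19629) L41322 L90708 L106841 L154406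
theorem L154412 : sm ga N14298 = N19479 := ded_9_3 L154408 (flp_a L106933) (flp_d L106931)
theorem L154414 : sm ge N14277 = N19480 := rfl
theorem L154416 : sm ga N19480 = N14279 := ded_10_1 (flp_e L106853) L106849 L154414
theorem L154418 : sm gc N19480 = N14279 := ded_19_1 (flp_e L106853) (flp_c L149650) L154414
theorem L154420 : sm gd N14432 = N19480 := ded_9_0 L154416 L129557 (flp_a L107671)
theorem L154422 : sm gg N14277 = N19480 := ded_12_0 L154416 L148601 L106849
theorem L154424 : sm gf N14277 = N19481 := rfl
theorem L154426 : sm ga N19481 = N14280 := ded_11_1 (flp_f L106857) L106849 L154424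
theorem L154428 : sm gc N19481 = N14280 := ded_20_1 (flp_f L106857) (flp_c L149650) L154424
theorem L154430 : sm gf N14279 = N19482 := rfl
theorem L154432 : sm gd N19482 = N14435 := ded_23_1 (flp_f L107685) (flp_d L129557) L154430
theorem L154434 : sm ge N19482 = N14280 := ded_25_1 (flp_f L106857) L106853 L154430
theorem L154436 : sm gg N19482 = N19481 := ded_29_3 L154426 (flp_f L106857) (flp_g L148601) L154430
theorem L154438 : sm gb N14280 = N19483 := rfl
theorem L154440 : sm gf N19483 = N14285 := ded_16_2 (flp_b L106877) (flp_f L90726) L90720 L106857 L154438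
theorem L154442 : sm gg N14280 = N19484 := rfl
theorem L154444 : sm ga N19484 = N19482 := ded_12_1 L154436 L154426 L154442
theorem L154446 : sm gc N19484 = N19482 := ded_21_1 L154436 L154428 L154442
theorem L154448 : sm ge N19484 = N19481 := ded_26_1 (flp_g L154436) L154434 L154442
theorem L154450 : sm gf N19480 = N19484 := ded_29_0 (flp_g L154442) (flp_f L106857) (flp_g L148601) (flp_a L154416)
theorem L154452 : sm gb N14283 = N19485 := rfl
theorem L154454 : sm gd N19485 = N18549 := ded_14_2 (flp_b L143219) L129588 L154452
theorem L154456 : sm ge N19485 = N14285 := ded_15_2 (flp_b L106877) (flp_e L106869) L154452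
theorem L154458 : sm ga N19485 = N19462 := ded_7_1 (flp_b L154310) (flp_a L142754) (flp_b L151048) L114660 L154198 L154190 L149279 (flp_a L106867) L154452
theorem L154460 : N18549 = N19463 := coi_9_1 (flp_a L154314) (flp_d L154312) (flp_a L154458) L154454
theorem L154461 : N19463 = N18549 := (eqc rfl L154460 rfl).symm
theorem L154462 : sm ga N18549 = N14267 := trfs L154461 (flp_a L154314) rfl
theorem L154464 : sm gc N18549 = N19407 := trfs L154461 L154316 rfl
theorem L154466 : sm ge N18549 = N19454 := trfs L154461 L154318 rfl
theorem L154468 : sm gb N19407 = N18552 := ded_13_1 (flp_c L143237) (flp_b L103194) (flp_c L103192) L143219 L154464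
theorem L154470 : sm gb N19454 = N15748 := ded_15_1 L146462 L143219 L154466
theorem L154472 : sm ga N14285 = N19486 := rfl
theorem L154474 : sm ge N19486 = N19462 := ded_10_2 (flp_a L154458) L154456 L154472
theorem L154476 : sm gb N19461 = N19486 := ded_15_3 L154474 (flp_b L154310) (flp_e L154308)
theorem L154478 : sm gc N14285 = N19487 := rfl
theorem L154480 : sm gg N14285 = N19488 := rfl
theorem L154482 : sm gb N14292 = N19489 := rfl
theorem L154484 : sm ge N19489 = N14297 := ded_15_2 (flp_b L106925) (flp_e L106909) L154482
theorem L154486 : sm gc N19489 = N15648 := ded_13_2 L113887 L153664 (flp_b L153658) (flp_c L149303) L154482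
theorem L154488 : sm gf N19489 = N15647 := ded_16_2 L149754 (flp_f L94805) (flp_b L90746) L106905 L154482
theorem L154490 : sm gg N19489 = N19468 := ded_31_3 (flp_f L154338) (flp_b L106799) L106813 L106839 (flp_b L154396) (flp_g L154388) (flp_f L106825) L90700 (flp_g L41424) (flp_f L41418) (flp_b L41406) L90742 L106905 L154482
theorem L154492 : sm ga N19469 = N15647 := ded_29_4 (flp_f L154488) L154490 (flp_f L154338) L154342
theorem L154494 : N19437 = N19465 := coi_29_4 (flp_a L154326) L154338 (flp_g L154490) L154488 (flp_g L154176)
theorem L154495 : N19465 = N19437 := (eqc rfl L154494 rfl).symm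
theorem L154496 : sm ga N19437 = N14268 := trfs L154495 (flp_a L154326) rfl
theorem L154498 : sm gb N19437 = N15802 := trfs L154495 L154330 rfl
theorem L154500 : sm gd N19437 = N15802 := trfs L154495 L154328 rfl
theorem L154502 : sm gc N15646 = N19469 := ded_8_0 L154492 (flp_c L113883) L113881
theorem L154504 : sm ga N15754 = N15805 := ded_9_3 (flp_d L154344) L154492 L149756
theorem L154506 : sm ge N15782 = N19469 := ded_10_0 L154492 L149758 L114470
theorem L154508 : N19466 = N19436 := coi_8_3 (flp_a L154168) L154172 L154496 L154332
theorem L154509 : N19466 = N19436 := eqc rfl L154508 rfl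
theorem L154510 : sm gc N19436 = N14268 := trfs L154509 (flp_c L154332) rfl
theorem L154512 : sm ga N19467 = N15784 := ded_10_3 (flp_e L154174) L154496 L154334
theorem L154514 : sm ge N15802 = N15758 := ded_15_2 (flp_b L114476) (flp_e L154174) L154498
theorem L154516 : sm gc N15802 = N19360 := ded_13_2 (flp_b L153608) L105891 L106681 L154172 L154498
theorem L154518 : sm gg N15802 = N15754 := ded_17_2 (flp_b L114362) (flp_g L94811) (flp_b L149754) (flp_g L154176) L154498
theorem L154520 : sm ge N15805 = N15756 := ded_10_2 (flp_a L114370) (flp_e L114364) L154504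
theorem L154522 : sm gg N19467 = N15782 := ded_26_0 L154506 (flp_g L154342) L154334
theorem L154524 : sm ga N15758 = N15792 := ded_7_3 (flp_b L114514) (flp_a L94849) (flp_b L84049) (flp_a L41328) (flp_b L90700) (flp_a L106805) (flp_b L154336) L154512 L114476
theorem L154526 : sm ga N19360 = N15803 := ded_8_1 (flp_c L114574) L114572 L154516
theorem L154528 : sm gg N15756 = N15792 := ded_26_2 L114516 L114578 L154520
theorem L154530 : sm gb N14293 = N19490 := rfl
theorem L154532 : sm ge N19490 = N15817 := ded_15_2 L154198 L154192 L154530
theorem L154534 : sm gf N19490 = N15797 := ded_16_2 (flp_b L114542) (flp_f L150576) (flp_b L106949) (flp_f L106915) L154530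
theorem L154536 : sm ga N14297 = N19491 := rfl
theorem L154538 : sm gf N19491 = N15782 := ded_11_2 (flp_a L114470) (flp_f L106927) L154536
theorem L154540 : sm gc N14297 = N19492 := rfl
theorem L154542 : sm ge N19492 = N15648 := ded_19_2 (flp_c L154486) L154484 L154540
theorem L154544 : sm gf N19492 = N15641 := ded_20_2 L149764 (flp_f L106927) L154540
theorem L154546 : sm ga N14317 = N19492 := ded_30_19 L154544 L149764 (flp_b L94825) L84031 (flp_f L84027) (flp_c L94285) (flp_b L148524) (flp_a L88670) L88676 (flp_c L103192) L143219 L154462 (flp_f L154244) L154242 L153974 (flp_a L154031) (flp_f L154029) L106416 L107021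
theorem L154548 : sm gc N19491 = N14317 := ded_8_0 L154546 (flp_c L154540) L154536
theorem L154550 : sm gd N19492 = N15674 := ded_9_2 (flp_a L114011) (flp_d L107023) L154546
theorem L154552 : sm gb N19492 = N15674 := ded_7_2 (flp_a L114011) (flp_b L94588) (flp_a L83907) (flp_b L23521) (flp_a L19720) L41470 L90820 L107021 L154546
theorem L154554 : sm gf N15674 = N15627 := ded_23_2 (flp_d L120445) (flp_f L154544) L154550
theorem L154556 : sm ge N15674 = N15633 := ded_15_2 (flp_b L113887) (flp_e L154542) L154552
theorem L154558 : sm gc N15674 = N19398 := ded_13_2 (flp_b L153898) L106222 L106925 L154540 L154552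
theorem L154560 : sm ga N15627 = N15676 := ded_11_1 (flp_f L114015) L114011 L154554
theorem L154562 : sm ga N15633 = N15664 := ded_10_1 L113955 L114011 L154556
theorem L154564 : sm ga N19398 = N15675 := ded_8_1 (flp_c L114013) L114011 L154558
theorem L154566 : sm ge N15676 = N15631 := ded_10_2 (flp_a L113815) (flp_e L113801) L154560
theorem L154568 : sm gf N15664 = N15631 := ded_11_2 (flp_a L113815) L113819 L154562
theorem L154570 : sm gg N14297 = N19493 := rfl
theorem L154572 : sm ge N19493 = N19468 := ded_26_1 (flp_g L154490) L154484 L154570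
theorem L154574 : sm gf N19467 = N19493 := ded_29_0 (flp_g L154570) L106927 L114474 (flp_a L154512)
theorem L154576 : sm gb N19493 = N19488 := ded_17_1 (flp_g L154480) (flp_b L106877) (flp_g L90760) L106925 L154570
theorem L154578 : sm gc N14298 = N19494 := rfl
theorem L154580 : sm gb N19494 = N19475 := ded_13_1 (flp_c L154376) L106821 (flp_c L90764) L106929 L154578
theorem L154582 : sm gg N14298 = N19495 := rfl
theorem L154584 : sm ga N19495 = N19450 := ded_12_1 (flp_g L154410) (flp_a L154412) L154582
theorem L154586 : sm gd N19495 = N14301 := ded_24_1 (flp_g L106943) (flp_d L106931) L154582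
theorem L154588 : sm gf N19446 = N19495 := ded_29_0 (flp_g L154582) (flp_f L154204) L154206 (flp_a L154224)
theorem L154590 : sm gb N19495 = N19476 := ded_17_1 (flp_g L154382) L106821 (flp_g L90768) L106929 L154582
theorem L154592 : sm gb N14303 = N19496 := rfl
theorem L154594 : sm ge N19496 = N19452 := ded_15_2 (flp_b L154248) (flp_e L151062) L154592
theorem L154596 : sm gd N14303 = N19497 := rfl
theorem L154598 : sm ga N19497 = N14305 := ded_9_1 (flp_d L106961) (flp_a L106953) L154596
theorem L154600 : sm gf N19497 = N19452 := ded_23_2 L154250 L154162 L154596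
theorem L154602 : sm gg N19497 = N19444 := ded_24_2 L154218 L151020 L154596
theorem L154604 : sm gc N14305 = N19498 := rfl
theorem L154606 : sm ge N14305 = N19499 := rfl
theorem L154608 : sm gb N19499 = N14314 := ded_15_1 (flp_e L107011) (flp_b L106963) L154606
theorem L154610 : sm gg N14305 = N19500 := rfl
theorem L154612 : sm ga N19500 = N19444 := ded_12_1 (flp_g L154602) L154598 L154610
theorem L154614 : sm gd N19500 = N14306 := ded_24_1 (flp_g L106965) L106961 L154610
theorem L154616 : sm gf N19442 = N19500 := ded_29_0 (flp_g L154610) (flp_f L154144) L154146 L154208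
theorem L154618 : sm gb N14306 = N19501 := rfl
theorem L154620 : sm ge N19501 = N19447 := ded_15_2 (flp_b L154226) (flp_e L151064) L154618
theorem L154622 : sm gc N19501 = N19374 := ded_13_2 L153704 L106112 (flp_b L90782) (flp_c L106967) L154618
theorem L154624 : sm gf N19501 = N15649 := ded_16_2 (flp_b L113889) L94618 (flp_b L151026) L151028 L154618
theorem L154626 : sm gg N19501 = N14316 := ded_17_2 (flp_b L107017) (flp_g L90816) (flp_b L90778) L106965 L154618
theorem L154628 : sm gb N14307 = N19502 := rfl
theorem L154630 : sm gd N19502 = N19440 := ded_14_2 (flp_b L154198) L114630 L154628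
theorem L154632 : sm ge N19502 = N19445 := ded_15_2 (flp_b L154220) (flp_e L151046) L154628
theorem L154634 : sm gc N19502 = N18520 := ded_13_2 L143027 (flp_c L153451) (flp_b L151026) (flp_c L151044) L154628
theorem L154636 : sm gf N19502 = N19479 := ded_16_2 (flp_b L154406) (flp_f L106841) (flp_b L90782) L106969 L154628
theorem L154638 : sm ga N19502 = N19441 := ded_7_1 L154202 (flp_a L129592) L143219 L154462 (flp_b L106795) L139151 (flp_b L106709) L150554 L154628
theorem L154640 : sm gg N19502 = N19446 := ded_31_3 L154588 L154590 (flp_g L154382) L148370 (flp_b L94823) (flp_g L84025) (flp_f L23713) (flp_b L11408) (flp_g L9486) L19686 L41426 L90780 L106969 L154628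
theorem L154642 : sm ge N14310 = N19503 := rfl
theorem L154644 : sm gc N19503 = N19370 := ded_19_1 (flp_e L153688) L142694 L154642
theorem L154646 : sm gg N19503 = N19460 := ded_26_2 (flp_e L154296) (flp_g L142800) L154642
theorem L154648 : sm gd N19503 = N14314 := ded_22_1 (flp_e L107011) (flp_d L90814) (flp_e L90792) L106993 L154642
theorem L154650 : sm ga N14312 = N19504 := rfl
theorem L154652 : sm ge N19504 = N18536 := ded_10_2 (flp_a L154258) L142798 L154650
theorem L154654 : sm gb N15622 = N19504 := ded_15_3 L154652 (flp_b L143145) (flp_e L120377)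
theorem L154656 : sm gf N14312 = N19505 := rfl
theorem L154658 : sm gg N14314 = N19506 := rfl
theorem L154660 : sm ga N19506 = N19503 := ded_12_1 L154646 L154298 L154658
theorem L154662 : sm gd N19506 = N19460 := ded_24_1 (flp_g L154646) L154648 L154658
theorem L154664 : sm ge N19506 = N14315 := ded_26_1 (flp_g L107013) L107011 L154658
theorem L154666 : sm gb N14315 = N19507 := rfl
theorem L154668 : sm gd N19507 = N14316 := ded_14_2 (flp_b L107017) (flp_d L107015) L154666
theorem L154670 : sm ga N19507 = N19429 := ded_7_1 (flp_b L154122) L106641 L106667 L154156 L154166 (flp_a L114099) (flp_b L151056) (flp_a L142692) L154666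
theorem L154672 : sm ge N19430 = N19507 := ded_10_0 L154670 L154126 L154128
theorem L154674 : sm gb N19506 = N19430 := ded_15_3 L154672 (flp_b L154666) (flp_e L154664)
theorem L154676 : sm gf N14316 = N19508 := rfl
theorem L154678 : sm gc N19508 = N19373 := ded_20_1 (flp_f L153700) (flp_c L107019) L154676
theorem L154680 : sm ge N19508 = N19505 := ded_25_1 (flp_f L154656) (flp_e L142798) L154676
theorem L154682 : sm ge N14317 = N19509 := rfl
theorem L154684 : sm ga N19509 = N15648 := ded_10_1 (flp_e L154542) (flp_a L154546) L154682
theorem L154686 : sm gb N19509 = N14318 := ded_15_1 (flp_e L107025) L107021 L154682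
theorem L154688 : sm gf N15646 = N19509 := ded_11_0 L154684 (flp_f L113885) L113881
theorem L154690 : sm gg N19438 = N19509 := ded_29_3 L154684 (flp_f L113885) (flp_g L106683) L154178
theorem L154692 : sm gf N14317 = N19510 := rfl
theorem L154694 : sm ga N19510 = N15641 := ded_11_1 (flp_f L154544) (flp_a L154546) L154692
theorem L154696 : sm gc N19510 = N15782 := ded_20_1 (flp_f L154538) L154548 L154692
theorem L154698 : sm gd N19510 = N15676 := ded_23_1 (flp_f L114015) (flp_d L107023) L154692
theorem L154700 : sm ge N19510 = N15646 := ded_25_1 L154688 (flp_e L154682) L154692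
theorem L154702 : sm gg N14317 = N19511 := rfl
theorem L154704 : sm gd N19511 = N15677 := ded_24_1 (flp_g L114017) (flp_d L107023) L154702
theorem L154706 : sm ge N19511 = N19438 := ded_26_1 L154690 (flp_e L154682) L154702
theorem L154708 : sm gf N19511 = N19434 := ded_29_2 L154154 (flp_a L154694) (flp_f L154692) L154702
theorem L154710 : sm gd N14318 = N19512 := rfl
theorem L154712 : sm ga N19512 = N14321 := ded_9_1 (flp_d L107041) (flp_a L107027) L154710
theorem L154714 : sm ge N19512 = N15661 := ded_22_2 L113945 L94572 (flp_d L90822) L107025 L154710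
theorem L154716 : sm gg N15654 = N19512 := ded_12_0 L154712 L120124 L113909
theorem L154718 : sm gf N14318 = N19513 := rfl
theorem L154720 : sm ga N19513 = N14322 := ded_11_1 (flp_f L107047) (flp_a L107027) L154718
theorem L154722 : sm ge N19513 = N14319 := ded_25_1 (flp_f L107029) L107025 L154718
theorem L154724 : sm gg N14318 = N19514 := rfl
theorem L154726 : sm ga N19514 = N14323 := ded_12_1 (flp_g L107053) (flp_a L107027) L154724
theorem L154728 : sm gd N19514 = N15654 := ded_24_1 L154716 (flp_d L154710) L154724
theorem L154730 : sm ge N19514 = N14320 := ded_26_1 (flp_g L107035) L107025 L154724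
theorem L154732 : sm gb N14319 = N19515 := rfl
theorem L154734 : sm gd N19515 = N15681 := ded_14_2 (flp_b L114033) (flp_d L107033) L154732
theorem L154736 : sm gc N19515 = N17814 := ded_13_2 (flp_b L126676) (flp_c L126672) L154039 L154033 L154732
theorem L154738 : sm gb N14320 = N19516 := rfl
theorem L154740 : sm gd N19516 = N15649 := ded_14_2 (flp_b L113889) (flp_d L107039) L154738
theorem L154742 : sm gc N14321 = N19517 := rfl
theorem L154744 : sm ge N19517 = N15662 := ded_19_2 (flp_c L113947) (flp_e L107045) L154742
theorem L154746 : sm gg N19517 = N15655 := ded_21_2 (flp_c L113911) (flp_g L120124) L154742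
theorem L154748 : sm gb N19517 = N19443 := ded_13_1 (flp_c L154214) (flp_b L106697) (flp_c L90850) (flp_b L107043) L154742
theorem L154750 : sm gf N14321 = N19518 := rfl
theorem L154752 : sm gd N19518 = N14322 := ded_23_1 (flp_f L107047) L107041 L154750
theorem L154754 : sm ge N19518 = N15663 := ded_25_1 (flp_f L113949) (flp_e L107045) L154750
theorem L154756 : sm gb N19518 = N19444 := ded_16_1 (flp_f L154216) (flp_b L106697) (flp_f L90844) (flp_b L107043) L154750
theorem L154758 : sm gg N14322 = N19519 := rfl
theorem L154760 : sm ge N19519 = N14324 := ded_26_1 (flp_g L107059) (flp_e L107049) L154758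
theorem L154762 : sm gf N19514 = N19519 := ded_29_0 (flp_g L154758) (flp_f L107047) L107053 (flp_a L154726)
theorem L154764 : sm gf N14323 = N19520 := rfl
theorem L154766 : sm ga N19520 = N19519 := ded_11_1 (flp_f L154762) L154726 L154764
theorem L154768 : sm gd N19520 = N15653 := ded_23_1 L113907 (flp_d L120140) L154764
theorem L154770 : sm ge N19520 = N14325 := ded_25_1 (flp_f L107065) (flp_e L107055) L154764
theorem L154772 : sm gg N19520 = N19513 := ded_29_3 L154720 (flp_f L107047) L107053 L154764
theorem L154774 : sm gb N19520 = N14325 := ded_16_1 (flp_f L107065) L90838 (flp_f L120138) (flp_b L107057) L154764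
theorem L154776 : sm gb N14328 = N19521 := rfl
theorem L154778 : sm gd N19521 = N15190 := ded_14_2 (flp_b L119735) (flp_d L107091) L154776
theorem L154780 : sm ge N19521 = N14334 := ded_15_2 (flp_b L107143) (flp_e L107093) L154776
theorem L154782 : sm gf N19521 = N15263 := ded_16_2 L119731 (flp_f L95229) L90898 L107085 L154776
theorem L154784 : sm gc N19110 = N19521 := ded_19_3 L154780 (flp_c L120538) L151878
theorem L154786 : sm gb N14329 = N19522 := rfl
theorem L154788 : sm gd N19522 = N15223 := ded_14_2 L147689 (flp_d L107101) L154786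
theorem L154790 : sm ge N19522 = N14335 := ded_15_2 (flp_b L107147) (flp_e L107103) L154786
theorem L154792 : sm gg N19522 = N15301 := ded_17_2 L147669 (flp_g L95237) L90898 L107095 L154786
theorem L154794 : sm gc N19179 = N19522 := ded_19_3 L154790 L149180 L152322
theorem L154796 : sm gb N14330 = N19523 := rfl
theorem L154798 : sm gd N19523 = N18155 := ded_14_2 (flp_b L128557) (flp_d L107109) L154796
theorem L154800 : sm ge N19523 = N14341 := ded_15_2 (flp_b L107184) (flp_e L107111) L154796
theorem L154802 : sm gg N19523 = N19523 := ded_17_2 (flp_b L154796) (flp_g L107105) L90908 L107105 L154796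
theorem L154803 : sm gb N14331 = N19524 := rfl
theorem L154805 : sm gd N19524 = N18156 := ded_14_2 (flp_b L128562) (flp_d L107121) L154803
theorem L154807 : sm ge N19524 = N14342 := ded_15_2 (flp_b L107187) (flp_e L107123) L154803
theorem L154809 : sm gf N19524 = N19524 := ded_16_2 (flp_b L154803) (flp_f L107115) L90917 L107115 L154803
theorem L154810 : sm gf N14336 = N19525 := rfl
theorem L154812 : sm gd N19525 = N14337 := ded_23_1 (flp_f L107154) L107151 L154810
theorem L154814 : sm ge N19525 = N15437 := ded_25_1 (flp_f L130539) L130541 L154810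
theorem L154816 : sm gb N15441 = N19525 := ded_14_3 L154812 L142812 (flp_d L142814)
theorem L154818 : sm gg N14336 = N19526 := rfl
theorem L154820 : sm gd N19526 = N14338 := ded_24_1 (flp_g L107160) L107151 L154818
theorem L154822 : sm ge N19526 = N15516 := ded_26_1 (flp_g L148572) L130541 L154818
theorem L154824 : sm gb N15520 = N19526 := ded_14_3 L154820 L149550 (flp_d L142734)
theorem L154826 : sm gg N14337 = N19527 := rfl
theorem L154828 : sm gc N19527 = N14339 := ded_21_1 (flp_g L107166) (flp_c L107156) L154826
theorem L154830 : sm ge N19527 = N18163 := ded_26_1 (flp_g L128599) (flp_e L107158) L154826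
theorem L154832 : sm gf N18467 = N19527 := ded_29_0 (flp_g L154826) (flp_f L107154) L107160 (flp_a L130608)
theorem L154834 : sm gf N14338 = N19528 := rfl
theorem L154836 : sm ga N19528 = N19527 := ded_11_1 (flp_f L154832) L130608 L154834
theorem L154838 : sm gc N19528 = N14340 := ded_20_1 (flp_f L107174) (flp_c L107162) L154834
theorem L154840 : sm ge N19528 = N18165 := ded_25_1 (flp_f L128611) (flp_e L107164) L154834
theorem L154842 : sm gg N19528 = N18466 := ded_29_3 L130600 (flp_f L107154) L107160 L154834
theorem L154844 : sm gb N14339 = N19529 := rfl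
theorem L154846 : sm gd N19529 = N14341 := ded_14_2 (flp_b L107184) (flp_d L107168) L154844
theorem L154848 : sm ge N19529 = N16840 := ded_15_2 L149806 (flp_e L107170) L154844
theorem L154850 : sm gg N19529 = N19529 := ded_17_2 (flp_b L154844) (flp_g L107166) L90949 L107166 L154844
theorem L154851 : sm ga N16838 = N19529 := ded_10_3 L154848 (flp_a L121982) (flp_e L121967)
theorem L154853 : sm gb N14340 = N19530 := rfl
theorem L154855 : sm gd N19530 = N14342 := ded_14_2 (flp_b L107187) (flp_d L107178) L154853
theorem L154857 : sm ge N19530 = N17032 := ded_15_2 L150854 (flp_e L107180) L154853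
theorem L154859 : sm gf N19530 = N19530 := ded_16_2 (flp_b L154853) (flp_f L107174) L90956 L107174 L154853
theorem L154860 : sm ga N19530 = N17030 := ded_7_1 (flp_b L122882) (flp_a L122770) L149057 L121847 L121965 L154851 (flp_b L154844) (flp_a L107176) L154853
theorem L154862 : sm ga N14341 = N19531 := rfl
theorem L154864 : sm gd N19531 = N16838 := ded_9_2 L154851 L154846 L154862
theorem L154866 : sm gg N19531 = N19531 := ded_12_2 (flp_a L154862) L107186 L154862
theorem L154867 : sm gb N16837 = N19531 := ded_14_3 L154864 (flp_b L121965) (flp_d L121961)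
theorem L154869 : sm gc N14341 = N19532 := rfl
theorem L154871 : sm gg N19532 = N19532 := ded_21_2 (flp_c L154869) L107186 L154869
theorem L154872 : sm gb N19532 = N14412 := ded_13_1 (flp_c L107583) (flp_b L91189) (flp_c L90959) L107184 L154869
theorem L154874 : sm gf N14341 = N19533 := rfl
theorem L154876 : sm gb N19533 = N16590 := ded_16_1 L120712 (flp_b L107147) L90961 L107184 L154874
theorem L154878 : sm ga N14342 = N19534 := rfl
theorem L154880 : sm gd N19534 = N17030 := ded_9_2 (flp_a L154860) L154855 L154878
theorem L154882 : sm gf N19534 = N19534 := ded_11_2 (flp_a L154878) L107189 L154878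
theorem L154883 : sm gb N19534 = N17029 := ded_7_2 (flp_a L149168) L118754 (flp_a L121959) L154867 (flp_a L154862) (flp_b L107184) (flp_a L90965) L107187 L154878
theorem L154885 : sm gc N14342 = N19535 := rfl
theorem L154887 : sm gf N19535 = N19535 := ded_20_2 (flp_c L154885) L107189 L154885
theorem L154888 : sm gb N19535 = N14417 := ded_13_1 (flp_c L107597) (flp_b L91199) (flp_c L90967) L107187 L154885
theorem L154890 : sm gg N14342 = N19536 := rfl
theorem L154892 : sm gb N19536 = N16582 := ded_17_1 L120635 (flp_b L107143) (flp_g L90969) L107187 L154890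
theorem L154894 : sm gb N14343 = N19537 := rfl
theorem L154896 : sm gd N19537 = N14345 := ded_14_2 (flp_b L107210) (flp_d L107196) L154894
theorem L154898 : sm ge N19537 = N14373 := ded_15_2 (flp_b L107400) (flp_e L107198) L154894
theorem L154900 : sm gf N19537 = N14345 := ded_16_2 (flp_b L107210) (flp_f L90981) L90971 L107190 L154894
theorem L154902 : sm ga N19537 = N19246 := ded_30_3 (flp_f L152734) (flp_c L151944) L151942 L105075 (flp_f L104909) L119815 (flp_b L108039) L91397 (flp_f L91291) (flp_c L91287) (flp_b L43318) (flp_a L43288) (flp_f L43286) L20725 L21698 L45104 L92418 (flp_c L107194) L154894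
theorem L154904 : sm gb N14344 = N19538 := rfl
theorem L154906 : sm gd N19538 = N14346 := ded_14_2 (flp_b L107214) (flp_d L107206) L154904
theorem L154908 : sm ge N19538 = N14374 := ded_15_2 (flp_b L107404) (flp_e L107208) L154904
theorem L154910 : sm gg N19538 = N14346 := ded_17_2 (flp_b L107214) (flp_g L90987) L90971 L107200 L154904
theorem L154912 : sm ga N19303 = N19538 := ded_9_3 L154906 L151246 L153143
theorem L154914 : sm gc N14345 = N19539 := rfl
theorem L154916 : sm ga N19539 = N19120 := ded_8_1 L151944 (flp_a L120523) L154914
theorem L154918 : sm ge N19539 = N14382 := ded_19_2 (flp_c L107439) (flp_e L107212) L154914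
theorem L154920 : sm gb N19539 = N19110 := ded_13_1 L154784 (flp_b L154776) L107089 L107210 L154914
theorem L154922 : sm gg N14345 = N19540 := rfl
theorem L154924 : sm ga N19540 = N19247 := ded_12_1 (flp_g L152736) (flp_a L120523) L154922
theorem L154926 : sm ge N19540 = N14383 := ded_26_1 (flp_g L107441) (flp_e L107212) L154922
theorem L154928 : sm gc N14346 = N19541 := rfl
theorem L154930 : sm ga N19541 = N19188 := ded_8_1 L152388 (flp_a L151246) L154928
theorem L154932 : sm ge N19541 = N14385 := ded_19_2 (flp_c L107445) (flp_e L107216) L154928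
theorem L154934 : sm gb N19541 = N19179 := ded_13_1 L154794 (flp_b L154786) L107099 L107214 L154928
theorem L154936 : sm gf N14346 = N19542 := rfl
theorem L154938 : sm ga N19542 = N19304 := ded_11_1 (flp_f L153151) (flp_a L151246) L154936
theorem L154940 : sm ge N19542 = N14386 := ded_25_1 (flp_f L107447) (flp_e L107216) L154936
theorem L154942 : sm ga N14347 = N19543 := rfl
theorem L154944 : sm gc N19543 = N16003 := ded_8_2 L115577 L110188 L154942
theorem L154946 : sm gd N19543 = N14351 := ded_9_2 (flp_a L107256) (flp_d L107220) L154942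
theorem L154948 : sm ge N19543 = N15152 := ded_10_2 (flp_a L111453) (flp_e L107222) L154942
theorem L154950 : sm gf N19543 = N14359 := ded_11_2 (flp_a L107308) (flp_f L107224) L154942
theorem L154952 : sm gg N14347 = N19544 := rfl
theorem L154954 : sm gd N19544 = N14352 := ded_24_1 (flp_g L107263) (flp_d L107220) L154952
theorem L154956 : sm ge N19544 = N15153 := ded_26_1 (flp_g L111459) (flp_e L107222) L154952
theorem L154958 : sm gb N14348 = N19545 := rfl
theorem L154960 : sm gd N19545 = N14353 := ded_14_2 (flp_b L107268) (flp_d L107230) L154958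
theorem L154962 : sm ge N19545 = N15154 := ded_15_2 (flp_b L111461) (flp_e L107232) L154958
theorem L154964 : sm ga N14349 = N19546 := rfl
theorem L154966 : sm gc N19546 = N16017 := ded_8_2 L115657 L150942 L154964
theorem L154968 : sm gd N19546 = N14354 := ded_9_2 (flp_a L107272) (flp_d L107238) L154964
theorem L154970 : sm ge N19546 = N15155 := ded_10_2 (flp_a L111463) (flp_e L107240) L154964
theorem L154972 : sm gg N19546 = N14362 := ded_12_2 (flp_a L107328) (flp_g L107242) L154964
theorem L154974 : sm gf N14349 = N19547 := rfl
theorem L154976 : sm gd N19547 = N14355 := ded_23_1 (flp_f L107279) (flp_d L107238) L154974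
theorem L154978 : sm ge N19547 = N15157 := ded_25_1 (flp_f L111469) (flp_e L107240) L154974
theorem L154980 : sm gb N14350 = N19548 := rfl
theorem L154982 : sm gd N19548 = N14356 := ded_14_2 (flp_b L107284) (flp_d L107250) L154980
theorem L154984 : sm ge N19548 = N15158 := ded_15_2 (flp_b L111471) (flp_e L107252) L154980
theorem L154986 : sm gb N14352 = N19549 := rfl
theorem L154988 : sm ge N19549 = N14410 := ded_15_2 (flp_b L107577) (flp_e L107266) L154986
theorem L154990 : sm gg N19549 = N14353 := ded_17_2 (flp_b L107268) (flp_g L91016) L91009 L107263 L154986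
theorem L154992 : sm ga N14353 = N19550 := rfl
theorem L154994 : sm ge N19550 = N14411 := ded_10_2 (flp_a L107581) (flp_e L107270) L154992
theorem L154996 : sm gc N14353 = N19551 := rfl
theorem L154998 : sm ge N19551 = N14412 := ded_19_2 (flp_c L107583) (flp_e L107270) L154996
theorem L155000 : sm gf N14353 = N19552 := rfl
theorem L155002 : sm ge N19552 = N14413 := ded_25_1 (flp_f L107585) (flp_e L107270) L155000
theorem L155004 : sm gb N19552 = N19542 := ded_16_1 (flp_f L154936) (flp_b L107214) L91020 L107268 L155000
theorem L155006 : sm gb N14355 = N19553 := rfl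
theorem L155008 : sm ge N19553 = N14415 := ded_15_2 (flp_b L107591) (flp_e L107282) L155006
theorem L155010 : sm gf N19553 = N14356 := ded_16_2 (flp_b L107284) (flp_f L91029) L91022 L107279 L155006
theorem L155012 : sm ga N14356 = N19554 := rfl
theorem L155014 : sm ge N19554 = N14416 := ded_10_2 (flp_a L107595) (flp_e L107286) L155012
theorem L155016 : sm gc N14356 = N19555 := rfl
theorem L155018 : sm ge N19555 = N14417 := ded_19_2 (flp_c L107597) (flp_e L107286) L155016
theorem L155020 : sm gg N14356 = N19556 := rfl
theorem L155022 : sm ge N19556 = N14418 := ded_26_1 (flp_g L107599) (flp_e L107286) L155020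
theorem L155024 : sm gb N19556 = N19540 := ded_17_1 (flp_g L154922) (flp_b L107210) (flp_g L91035) L107284 L155020
theorem L155026 : sm gg N14357 = N19557 := rfl
theorem L155028 : sm ga N19557 = N16615 := ded_12_1 (flp_g L120840) L107298 L155026
theorem L155030 : sm gc N19557 = N15282 := ded_21_1 L112076 (flp_c L107294) L155026
theorem L155032 : sm gd N19557 = N14421 := ded_24_1 (flp_g L107615) (flp_d L107290) L155026
theorem L155034 : sm ge N19557 = N14361 := ded_26_1 (flp_g L107324) (flp_e L107292) L155026
theorem L155036 : sm gf N16953 = N19557 := ded_29_0 (flp_g L155026) L107296 L111459 (flp_a L122516)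
theorem L155038 : sm gb N19557 = N15283 := ded_17_1 (flp_g L150970) (flp_b L107909) L91361 L107288 L155026
theorem L155040 : sm gf N14358 = N19558 := rfl
theorem L155042 : sm ga N19558 = N16632 := ded_11_1 (flp_f L120955) (flp_a L150263) L155040
theorem L155044 : sm gc N19558 = N15242 := ded_20_1 L111867 (flp_c L150265) L155040
theorem L155046 : sm gd N19558 = N14424 := ded_23_1 (flp_f L107629) (flp_d L107302) L155040
theorem L155048 : sm ge N19558 = N14364 := ded_25_1 (flp_f L107336) (flp_e L107304) L155040
theorem L155050 : sm gg N19558 = N16780 := ded_29_3 L150956 (flp_f L111469) (flp_g L107306) L155040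
theorem L155052 : sm gb N19558 = N15243 := ded_16_1 (flp_f L151226) (flp_b L107883) (flp_f L91341) L107300 L155040
theorem L155054 : sm gb N14359 = N19559 := rfl
theorem L155056 : sm gd N19559 = N14365 := ded_14_2 (flp_b L107340) (flp_d L107310) L155054
theorem L155058 : sm ge N19559 = N16614 := ded_15_2 (flp_b L120832) (flp_e L107312) L155054
theorem L155060 : sm gc N19559 = N16005 := ded_13_2 (flp_b L115587) (flp_c L95430) L95426 L107314 L155054
theorem L155062 : sm gf N16457 = N19559 := ded_25_0 L155058 L120836 (flp_e L118219)
theorem L155064 : sm gg N14359 = N19560 := rfl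
theorem L155066 : sm ga N19560 = N14361 := ded_12_1 (flp_g L107324) L107308 L155064
theorem L155068 : sm gc N19560 = N16004 := ded_21_1 (flp_g L115583) L107314 L155064
theorem L155070 : sm gd N19560 = N14366 := ded_24_1 (flp_g L107344) (flp_d L107310) L155064
theorem L155072 : sm ge N19560 = N16615 := ded_26_1 (flp_g L120840) (flp_e L107312) L155064
theorem L155074 : sm gf N19560 = N19544 := ded_29_2 (flp_g L154952) L154942 L154950 L155064
theorem L155076 : sm gd N14360 = N19561 := rfl
theorem L155078 : sm ga N19561 = N15991 := ded_9_1 L115517 (flp_a L107318) L155076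
theorem L155080 : sm gb N19561 = N14479 := ded_14_1 (flp_d L107935) (flp_b L107322) L155076
theorem L155082 : sm gc N15991 = N19561 := ded_28_0 (flp_d L155076) (flp_c L107316) L91059 L70998 (flp_d L91059) L107316 L155076 L155078
theorem L155084 : sm gg N14360 = N19562 := rfl
theorem L155086 : sm ga N19562 = N16004 := ded_12_1 (flp_g L115583) (flp_a L107318) L155084
theorem L155088 : sm gc N19562 = N14361 := ded_21_1 (flp_g L107324) L107316 L155084
theorem L155090 : sm ge N19562 = N15282 := ded_26_1 L112076 (flp_e L107320) L155084
theorem L155092 : sm gf N19562 = N16348 := ded_29_2 (flp_g L117515) L115577 L110190 L155084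
theorem L155094 : sm gb N19562 = N15061 := ded_17_1 (flp_g L110937) L110939 (flp_g L107939) (flp_b L107322) L155084
theorem L155096 : sm gf N14361 = N19563 := rfl
theorem L155098 : sm ga N19563 = N19544 := ded_11_1 (flp_f L155074) L155066 L155096
theorem L155100 : sm gc N19563 = N16348 := ded_20_1 (flp_f L155092) L155088 L155096
theorem L155102 : sm gd N19563 = N14367 := ded_23_1 (flp_f L107353) (flp_d L107326) L155096
theorem L155104 : sm ge N19563 = N16953 := ded_25_1 L155036 L155034 L155096
theorem L155106 : sm gg N19563 = N19543 := ded_29_3 (flp_a L154942) L107224 L107324 L155096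
theorem L155108 : sm gb N14362 = N19564 := rfl
theorem L155110 : sm gd N19564 = N14368 := ded_14_2 (flp_b L107362) (flp_d L107330) L155108
theorem L155112 : sm ge N19564 = N16630 := ded_15_2 (flp_b L120949) (flp_e L150950) L155108
theorem L155114 : sm gc N19564 = N16018 := ded_13_2 (flp_b L115663) (flp_c L95465) L95461 (flp_c L150948) L155108
theorem L155116 : sm gg N16488 = N19564 := ded_26_0 L155112 L150676 (flp_e L118396)
theorem L155118 : sm gf N14362 = N19565 := rfl
theorem L155120 : sm ga N19565 = N14364 := ded_11_1 (flp_f L107336) L107328 L155118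
theorem L155122 : sm gc N19565 = N16016 := ded_20_1 (flp_f L115651) (flp_c L150948) L155118
theorem L155124 : sm gd N19565 = N14369 := ded_23_1 (flp_f L107366) (flp_d L107330) L155118
theorem L155126 : sm ge N19565 = N16632 := ded_25_1 (flp_f L120955) (flp_e L150950) L155118
theorem L155128 : sm gg N19547 = N19565 := ded_29_1 (flp_f L155118) (flp_g L154972) (flp_a L154964) L154974
theorem L155130 : sm gd N14363 = N19566 := rfl
theorem L155132 : sm ga N19566 = N15997 := ded_9_1 L115547 (flp_a L150301) L155130
theorem L155134 : sm gb N19566 = N14489 := ded_14_1 (flp_d L107989) (flp_b L107334) L155130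
theorem L155136 : sm gc N15997 = N19566 := ded_28_0 (flp_d L155130) (flp_c L107332) L91063 L83392 (flp_d L91063) L107332 L155130 L155132
theorem L155138 : sm gf N14363 = N19567 := rfl
theorem L155140 : sm ga N19567 = N16016 := ded_11_1 (flp_f L115651) (flp_a L150301) L155138
theorem L155142 : sm gc N19567 = N14364 := ded_20_1 (flp_f L107336) L107332 L155138
theorem L155144 : sm ge N19567 = N15242 := ded_25_1 L111867 (flp_e L150303) L155138
theorem L155146 : sm gg N16245 = N19567 := ded_29_1 (flp_f L155138) L150305 (flp_a L115657) L116887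
theorem L155148 : sm gb N19567 = N15035 := ded_16_1 L110755 (flp_b L150293) (flp_f L107991) (flp_b L107334) L155138
theorem L155150 : sm gg N14364 = N19568 := rfl
theorem L155152 : sm ga N19568 = N19547 := ded_12_1 L155128 L155120 L155150
theorem L155154 : sm gc N19568 = N16245 := ded_21_1 L155146 L155142 L155150
theorem L155156 : sm gd N19568 = N14370 := ded_24_1 (flp_g L107375) (flp_d L107338) L155150
theorem L155158 : sm ge N19568 = N16780 := ded_26_1 (flp_g L155050) L155048 L155150
theorem L155160 : sm gf N19546 = N19568 := ded_29_0 (flp_g L155150) (flp_f L107336) (flp_g L107242) L154964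
theorem L155162 : sm gf N14365 = N19569 := rfl
theorem L155164 : sm ga N19569 = N19559 := ded_11_1 (flp_f L155062) (flp_a L120534) L155162
theorem L155166 : sm gc N19569 = N18297 := ded_20_1 L129418 (flp_c L120544) L155162
theorem L155168 : sm gd N19569 = N16457 := ded_23_1 L155062 L155056 L155162
theorem L155170 : sm ge N19569 = N14439 := ded_25_1 (flp_f L107704) (flp_e L107342) L155162
theorem L155172 : sm gg N14365 = N19570 := rfl
theorem L155174 : sm ge N19570 = N14440 := ded_26_1 (flp_g L107706) (flp_e L107342) L155172
theorem L155176 : sm gb N14366 = N19571 := rfl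
theorem L155178 : sm ge N19571 = N14441 := ded_15_2 (flp_b L107708) (flp_e L107349) L155176
theorem L155180 : sm gb N14367 = N19572 := rfl
theorem L155182 : sm ge N19572 = N14442 := ded_15_2 (flp_b L107710) (flp_e L107358) L155180
theorem L155184 : sm gf N14368 = N19573 := rfl
theorem L155186 : sm ge N19573 = N14445 := ded_25_1 (flp_f L107719) (flp_e L107364) L155184
theorem L155188 : sm gg N14368 = N19574 := rfl
theorem L155190 : sm ga N19574 = N19564 := ded_12_1 (flp_g L155116) L118394 L155188
theorem L155192 : sm gc N19574 = N18303 := ded_21_1 L151270 (flp_c L118390) L155188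
theorem L155194 : sm gd N19574 = N16488 := ded_24_1 L155116 L155110 L155188
theorem L155196 : sm ge N19574 = N14446 := ded_26_1 (flp_g L107721) (flp_e L107364) L155188
theorem L155198 : sm gb N14369 = N19575 := rfl
theorem L155200 : sm ge N19575 = N14447 := ded_15_2 (flp_b L107723) (flp_e L107371) L155198
theorem L155202 : sm gb N14370 = N19576 := rfl
theorem L155204 : sm ge N19576 = N14448 := ded_15_2 (flp_b L107725) (flp_e L107380) L155202
theorem L155206 : sm gc N14373 = N19577 := rfl
theorem L155208 : sm ga N19577 = N14600 := ded_8_1 L120277 (flp_a L119817) L155206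
theorem L155210 : sm gf N19577 = N14382 := ded_20_2 (flp_c L107439) (flp_f L107402) L155206
theorem L155212 : sm gb N19577 = N15148 := ded_13_1 (flp_c L111429) (flp_b L93113) (flp_c L91097) L107400 L155206
theorem L155214 : sm gd N19577 = N19108 := ded_28_5 L151870 L120394 (flp_a L155208) (flp_c L155206) L153511 L153510 (flp_d L153511) L155206
theorem L155216 : sm gc N14374 = N19578 := rfl
theorem L155218 : sm ga N19578 = N14619 := ded_8_1 L149494 (flp_a L151183) L155216
theorem L155220 : sm gg N19578 = N14385 := ded_21_2 (flp_c L107445) (flp_g L107406) L155216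
theorem L155222 : sm gb N19578 = N15150 := ded_13_1 (flp_c L111441) (flp_b L93119) (flp_c L91103) L107404 L155216
theorem L155224 : sm gd N19578 = N19178 := ded_28_5 L152320 L150748 (flp_a L155218) (flp_c L155216) L153823 L153822 (flp_d L153823) L155216
theorem L155226 : sm gd N14375 = N19579 := rfl
theorem L155228 : sm ga N19579 = N19579 := ded_9_1 (flp_d L155226) L107410 L155226
theorem L155229 : sm gb N19579 = N14376 := ded_14_1 (flp_d L107411) L107408 L155226
theorem L155231 : sm gf N19579 = N19579 := ded_23_2 (flp_d L155226) L119004 L155226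
theorem L155232 : sm gg N19579 = N19579 := ded_24_2 (flp_d L155226) L122033 L155226
theorem L155233 : sm gc N19579 = N19579 := ded_28_0 (flp_d L155226) L118793 (flp_d L118787) L96950 L118787 (flp_c L118793) L155226 L155228
theorem L155234 : sm gf N14376 = N19580 := rfl
theorem L155236 : sm ga N19580 = N14389 := ded_11_1 (flp_f L107463) (flp_a L107413) L155234
theorem L155238 : sm gc N19580 = N19525 := ded_20_1 (flp_f L154810) (flp_c L107415) L155234
theorem L155240 : sm gd N19580 = N14377 := ded_23_1 (flp_f L107417) L107411 L155234
theorem L155242 : sm gb N19580 = N19580 := ded_16_1 (flp_f L155234) (flp_b L155229) L155231 L155229 L155234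
theorem L155243 : sm gg N14376 = N19581 := rfl
theorem L155245 : sm ga N19581 = N14390 := ded_12_1 (flp_g L107467) (flp_a L107413) L155243
theorem L155247 : sm gc N19581 = N19526 := ded_21_1 (flp_g L154818) (flp_c L107415) L155243
theorem L155249 : sm gd N19581 = N14378 := ded_24_1 (flp_g L107423) L107411 L155243
theorem L155251 : sm gb N19581 = N19581 := ded_17_1 (flp_g L155243) (flp_b L155229) L155232 L155229 L155243
theorem L155252 : sm gg N14382 = N19582 := rfl
theorem L155254 : sm ga N19582 = N19121 := ded_12_1 (flp_g L151946) L120521 L155252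
theorem L155256 : sm gc N19582 = N14383 := ded_21_1 (flp_g L107441) L107439 L155252
theorem L155258 : sm gd N19582 = N19109 := ded_24_1 (flp_g L151872) L120519 L155252
theorem L155260 : sm gf N14385 = N19583 := rfl
theorem L155262 : sm ga N19583 = N19189 := ded_11_1 (flp_f L152390) L151180 L155260
theorem L155264 : sm gc N19583 = N14386 := ded_20_1 (flp_f L107447) L107445 L155260
theorem L155266 : sm gd N19583 = N19177 := ded_23_1 (flp_f L152310) (flp_d L150868) L155260
theorem L155268 : sm gf N14387 = N19584 := rfl
theorem L155270 : sm ga N19584 = N19525 := ded_11_1 (flp_f L154810) (flp_a L107451) L155268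
theorem L155272 : sm gc N19584 = N14389 := ded_20_1 (flp_f L107463) L107449 L155268
theorem L155274 : sm gd N19584 = N18466 := ded_23_1 (flp_f L130598) (flp_d L107453) L155268
theorem L155276 : sm ge N19584 = N18469 := ded_25_1 (flp_f L130618) L107455 L155268
theorem L155278 : sm gb N19584 = N16804 := ded_16_1 (flp_f L121797) L121771 (flp_f L121779) L118691 L155268
theorem L155280 : sm gg N14387 = N19585 := rfl
theorem L155282 : sm ga N19585 = N19526 := ded_12_1 (flp_g L154818) (flp_a L107451) L155280
theorem L155284 : sm gc N19585 = N14390 := ded_21_1 (flp_g L107467) L107449 L155280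
theorem L155286 : sm gd N19585 = N18467 := ded_24_1 (flp_g L130606) (flp_d L107453) L155280
theorem L155288 : sm ge N19585 = N18470 := ded_26_1 (flp_g L130624) L107455 L155280
theorem L155290 : sm gb N19585 = N16990 := ded_17_1 (flp_g L122700) L122678 (flp_g L149138) L118691 L155280
theorem L155292 : sm gf N14388 = N19586 := rfl
theorem L155294 : sm gc N19586 = N18469 := ded_20_1 (flp_f L130618) (flp_c L107461) L155292
theorem L155296 : sm gd N19586 = N16801 := ded_23_1 (flp_f L121779) L118695 L155292
theorem L155298 : sm ge N19586 = N14389 := ded_25_1 (flp_f L107463) L107457 L155292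
theorem L155300 : sm gb N16802 = N19586 := ded_14_3 L155296 (flp_b L121771) L121781
theorem L155302 : sm gg N14388 = N19587 := rfl
theorem L155304 : sm gc N19587 = N18470 := ded_21_1 (flp_g L130624) (flp_c L107461) L155302
theorem L155306 : sm gd N19587 = N16986 := ded_24_1 (flp_g L149138) L118695 L155302
theorem L155308 : sm ge N19587 = N14390 := ded_26_1 (flp_g L107467) L107457 L155302
theorem L155310 : sm gb N16987 = N19587 := ded_14_3 L155306 (flp_b L122678) L122682
theorem L155312 : sm gg N14389 = N19588 := rfl
theorem L155314 : sm gd N19588 = N14394 := ded_24_1 (flp_g L107487) (flp_d L107465) L155312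
theorem L155316 : sm gf N19581 = N19588 := ded_29_0 (flp_g L155312) (flp_f L107463) L107467 (flp_a L155245)
theorem L155318 : sm gf N14390 = N19589 := rfl
theorem L155320 : sm ga N19589 = N19588 := ded_11_1 (flp_f L155316) L155245 L155318
theorem L155322 : sm gd N19589 = N14396 := ded_23_1 (flp_f L107497) (flp_d L107469) L155318
theorem L155324 : sm gg N19589 = N19580 := ded_29_3 L155236 (flp_f L107463) L107467 L155318
theorem L155326 : sm gg N14391 = N19590 := rfl
theorem L155328 : sm gc N19590 = N14398 := ded_21_1 (flp_g L107513) (flp_c L107473) L155326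
theorem L155330 : sm gd N19590 = N16567 := ded_24_1 L118868 L118703 L155326
theorem L155332 : sm ge N19590 = N14394 := ded_26_1 (flp_g L107487) (flp_e L107475) L155326
theorem L155334 : sm gf N16560 = N19590 := ded_29_0 (flp_g L155326) (flp_f L107471) L107477 (flp_a L118826)
theorem L155336 : sm gf N14392 = N19591 := rfl
theorem L155338 : sm ga N19591 = N19590 := ded_11_1 (flp_f L155334) L118826 L155336
theorem L155340 : sm gc N19591 = N14400 := ded_20_1 (flp_f L107529) (flp_c L107479) L155336
theorem L155342 : sm gd N19591 = N16565 := ded_23_1 (flp_f L118858) L118711 L155336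
theorem L155344 : sm ge N19591 = N14396 := ded_25_1 (flp_f L107497) (flp_e L107481) L155336
theorem L155346 : sm gg N19591 = N16559 := ded_29_3 L118816 (flp_f L107471) L107477 L155336
theorem L155348 : sm gb N14394 = N19592 := rfl
theorem L155350 : sm gf N19592 = N19592 := ded_16_2 (flp_b L155348) (flp_f L107491) L122026 L107491 L155348
theorem L155351 : sm gb N14396 = N19593 := rfl
theorem L155353 : sm gg N19593 = N19593 := ded_17_2 (flp_b L155351) L107503 L118950 (flp_g L107503) L155351
theorem L155354 : sm gg N14397 = N19594 := rfl
theorem L155356 : sm gd N19594 = N15153 := ded_24_1 (flp_g L111459) (flp_d L107507) L155354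
theorem L155358 : sm ge N19594 = N14403 := ded_26_1 (flp_g L107549) (flp_e L107509) L155354
theorem L155360 : sm gb N14398 = N19595 := rfl
theorem L155362 : sm gd N19595 = N15154 := ded_14_2 (flp_b L111461) (flp_d L107515) L155360
theorem L155364 : sm ge N19595 = N14404 := ded_15_2 (flp_b L107553) (flp_e L107517) L155360
theorem L155366 : sm gf N14399 = N19596 := rfl
theorem L155368 : sm gd N19596 = N15157 := ded_23_1 (flp_f L111469) (flp_d L107523) L155366
theorem L155370 : sm ge N19596 = N14407 := ded_25_1 (flp_f L107567) (flp_e L107525) L155366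
theorem L155372 : sm gb N14400 = N19597 := rfl
theorem L155374 : sm gd N19597 = N15158 := ded_14_2 (flp_b L111471) (flp_d L107533) L155372
theorem L155376 : sm ge N19597 = N14408 := ded_15_2 (flp_b L107571) (flp_e L107535) L155372
theorem L155378 : sm gb N14403 = N19598 := rfl
theorem L155380 : sm gd N19598 = N14410 := ded_14_2 (flp_b L107577) (flp_d L107551) L155378
theorem L155382 : sm gg N19598 = N14404 := ded_17_2 (flp_b L107553) (flp_g L91161) L91155 L107549 L155378
theorem L155384 : sm ga N14404 = N19599 := rfl
theorem L155386 : sm gd N19599 = N14411 := ded_9_2 (flp_a L107581) (flp_d L107555) L155384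
theorem L155388 : sm gc N14404 = N19600 := rfl
theorem L155390 : sm gf N14404 = N19601 := rfl
theorem L155392 : sm gd N19601 = N14413 := ded_23_1 (flp_f L107585) (flp_d L107555) L155390
theorem L155394 : sm gb N19601 = N19389 := ded_16_1 (flp_f L153827) L151068 L91165 L107553 L155390
theorem L155396 : sm gb N14407 = N19602 := rfl
theorem L155398 : sm gd N19602 = N14415 := ded_14_2 (flp_b L107591) (flp_d L107569) L155396
theorem L155400 : sm gf N19602 = N14408 := ded_16_2 (flp_b L107571) (flp_f L91173) L91167 L107567 L155396
theorem L155402 : sm ga N14408 = N19603 := rfl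
theorem L155404 : sm gd N19603 = N14416 := ded_9_2 (flp_a L107595) (flp_d L107573) L155402
theorem L155406 : sm gc N14408 = N19604 := rfl
theorem L155408 : sm gg N14408 = N19605 := rfl
theorem L155410 : sm gd N19605 = N14418 := ded_24_1 (flp_g L107599) (flp_d L107573) L155408
theorem L155412 : sm gb N19605 = N19349 := ded_17_1 (flp_g L153515) L120387 (flp_g L91179) L107571 L155408
theorem L155414 : sm ga N14410 = N19606 := rfl
theorem L155416 : sm gg N19606 = N14411 := ded_12_2 (flp_a L107581) (flp_g L107579) L155414
theorem L155418 : sm gc N14410 = N19607 := rfl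
theorem L155420 : sm gg N19607 = N14412 := ded_21_2 (flp_c L107583) (flp_g L107579) L155418
theorem L155422 : sm gb N19607 = N19607 := ded_13_1 (flp_c L155418) (flp_b L107577) L91188 L107577 L155418
theorem L155423 : sm gf N14410 = N19608 := rfl
theorem L155425 : sm gb N14411 = N19609 := rfl
theorem L155427 : sm gc N14411 = N19610 := rfl
theorem L155429 : sm ga N19610 = N14412 := ded_8_1 (flp_c L107583) L107581 L155427
theorem L155431 : sm gf N14411 = N19611 := rfl
theorem L155433 : sm ga N19611 = N14413 := ded_11_1 (flp_f L107585) L107581 L155431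
theorem L155435 : sm gg N19608 = N19611 := ded_29_1 (flp_f L155431) (flp_g L155416) (flp_a L155414) L155423
theorem L155437 : sm gb N14630 = N19611 := ded_31_14 (flp_g L155435) (flp_f L155423) (flp_b L107577) (flp_g L91186) L42926 (flp_b L20545) (flp_g L10185) (flp_f L10179) L10177 (flp_g L21133) L44054 L91756 L108693 (flp_f L108705)
theorem L155439 : sm gf N19609 = N14787 := ded_16_4 L109412 (flp_f L108705) L155437 (flp_f L155431) L155425
theorem L155441 : sm gg N15291 = N19609 := ded_29_1 L155439 (flp_g L109410) L109406 (flp_f L112162)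
theorem L155443 : sm gc N19609 = N15292 := ded_21_1 (flp_g L112166) L112158 L155441
theorem L155445 : sm gb N19606 = N15296 := ded_17_3 (flp_g L112190) (flp_b L112164) L155441 (flp_b L155425) (flp_g L155416)
theorem L155447 : sm gd N14412 = N19612 := rfl
theorem L155449 : sm gf N14412 = N19613 := rfl
theorem L155451 : sm gc N19613 = N14413 := ded_20_1 (flp_f L107585) L107583 L155449
theorem L155453 : sm gg N14413 = N19614 := rfl
theorem L155455 : sm ga N19614 = N19608 := ded_12_1 L155435 L155433 L155453
theorem L155457 : sm gf N19606 = N19614 := ded_29_0 (flp_g L155453) (flp_f L107585) (flp_g L107579) L155414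
theorem L155459 : sm ga N14415 = N19615 := rfl
theorem L155461 : sm gf N19615 = N14416 := ded_11_2 (flp_a L107595) (flp_f L107593) L155459
theorem L155463 : sm gc N14415 = N19616 := rfl
theorem L155465 : sm gf N19616 = N14417 := ded_20_2 (flp_c L107597) (flp_f L107593) L155463
theorem L155467 : sm gb N19616 = N19616 := ded_13_1 (flp_c L155463) (flp_b L107591) L91198 L107591 L155463
theorem L155468 : sm gg N14415 = N19617 := rfl
theorem L155470 : sm gb N14416 = N19618 := rfl
theorem L155472 : sm gc N14416 = N19619 := rfl
theorem L155474 : sm ga N19619 = N14417 := ded_8_1 (flp_c L107597) L107595 L155472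
theorem L155476 : sm gg N14416 = N19620 := rfl
theorem L155478 : sm ga N19620 = N14418 := ded_12_1 (flp_g L107599) L107595 L155476
theorem L155480 : sm gf N19620 = N19617 := ded_29_2 (flp_g L155468) L155459 L155461 L155476
theorem L155482 : sm gb N19620 = N14611 := ded_31_2 (flp_g L108633) (flp_f L108621) (flp_b L91724) (flp_g L44040) L21123 (flp_b L10169) L10171 (flp_f L10175) L20547 (flp_g L42934) L91196 L107591 L155468 (flp_f L155480)
theorem L155484 : sm gg N14738 = N19618 := ded_17_4 (flp_b L155470) L155476 L155482 (flp_g L108633) (flp_b L109223)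
theorem L155486 : sm gf N19618 = N15252 := ded_31_1 L111928 (flp_g L111875) (flp_f L151226) (flp_b L107883) (flp_g L91335) (flp_f L43348) L72386 L21103 L21129 L44042 (flp_g L91726) L108621 (flp_b L109223) L155484
theorem L155488 : sm gg N15252 = N14736 := ded_29_3 (flp_a L109217) L109221 L155484 L155486
theorem L155490 : sm ga N14726 = N15252 := ded_29_4 (flp_f L155486) (flp_g L155484) (flp_f L109221) (flp_g L109179)
theorem L155492 : sm gc N15253 = N19618 := ded_20_3 L155486 (flp_c L111926) L111930
theorem L155494 : sm gb N15258 = N19615 := ded_16_3 L155461 L155470 L155486 L111928 L111960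
theorem L155496 : sm gc N14736 = N15248 := ded_21_1 L111910 L111926 L155488
theorem L155498 : sm gb N14736 = N16780 := ded_17_1 (flp_g L155050) L155052 L111875 (flp_b L111928) L155488
theorem L155500 : sm gc N15251 = N14726 := ded_8_0 L155490 (flp_c L111926) L111924
theorem L155502 : sm gb N15255 = N14806 := ded_7_4 L150994 (flp_b L105684) (flp_a L90259) L106240 L150492 L109177 L155490 L111928 (flp_a L111946)
theorem L155504 : sm ga N15248 = N14737 := ded_8_1 (flp_c L109219) L109217 L155496
theorem L155506 : sm gg N14737 = N15251 := ded_21_0 L155500 L109179 L109219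
theorem L155508 : N14810 = N16760 := coi_17_0 L121563 L155502 (flp_g L109482) (flp_b L92075) L92081 L109498
theorem L155509 : N16760 = N14810 := (eqc rfl L155508 rfl).symm
theorem L155510 : sm ga N14810 = N15243 := trfs L155509 L121559 rfl
theorem L155512 : sm gc N14810 = N12484 := trfs L155509 L121561 rfl
theorem L155514 : sm gf N14810 = N12483 := trfs L155509 (flp_f L121557) rfl
theorem L155516 : sm gg N14810 = N15255 := trfs L155509 L121563 rfl
theorem L155518 : sm gf N16758 = N14799 := ded_16_2 (flp_b L109462) (flp_f L92085) L109498 L155514 L121551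
theorem L155520 : sm gc N14799 = N16763 := ded_20_1 (flp_f L121571) (flp_c L121553) L155518
theorem L155522 : sm gg N16763 = N14801 := ded_21_2 (flp_c L109468) (flp_g L109464) L155520
theorem L155524 : sm gd N19219 = N16763 := ded_24_3 L155522 L154011 (flp_g L152556)
theorem L155526 : sm gf N16762 = N19219 := ded_23_0 L155524 (flp_f L121571) L121567
theorem L155528 : sm gc N19220 = N16762 := ded_20_3 L155526 (flp_c L152554) L152558
theorem L155530 : sm gd N14417 = N19621 := rfl
theorem L155532 : sm gg N14417 = N19622 := rfl
theorem L155534 : sm gc N19622 = N14418 := ded_21_1 (flp_g L107599) L107597 L155532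
theorem L155536 : sm gf N14418 = N19623 := rfl
theorem L155538 : sm ga N19623 = N19617 := ded_11_1 (flp_f L155480) L155478 L155536
theorem L155540 : sm gg N19623 = N19615 := ded_29_3 (flp_a L155459) L107593 L107599 L155536
theorem L155542 : sm gb N14419 = N19624 := rfl
theorem L155544 : sm gd N19624 = N16614 := ded_14_2 (flp_b L120832) (flp_d L107605) L155542
theorem L155546 : sm ge N19624 = N14425 := ded_15_2 (flp_b L107633) (flp_e L107607) L155542
theorem L155548 : sm gf N19624 = N17149 := ded_16_2 (flp_b L150542) L150550 (flp_b L153546) L153548 L155542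
theorem L155550 : sm ga N19624 = N19356 := ded_7_1 (flp_b L153580) L105847 L119667 (flp_a L91810) (flp_b L44105) (flp_a L42944) L91201 L107603 L155542
theorem L155552 : sm gc N14425 = N19624 := ded_28_6 L155544 L120838 (flp_c L120848) (flp_d L129777) L129773 L123395 L120532 (flp_d L107635)
theorem L155554 : sm gc N14419 = N19625 := rfl
theorem L155556 : sm ga N19625 = N14420 := ded_8_1 (flp_c L107609) L107603 L155554
theorem L155558 : sm ge N19625 = N14426 := ded_19_2 (flp_c L107637) (flp_e L107607) L155554
theorem L155560 : sm gb N19625 = N14426 := ded_13_1 (flp_c L107637) L107633 L155552 (flp_b L155542) L155554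
theorem L155562 : sm gg N14419 = N19626 := rfl
theorem L155564 : sm ga N19626 = N14421 := ded_12_1 (flp_g L107615) L107603 L155562
theorem L155566 : sm gd N19626 = N16615 := ded_24_1 (flp_g L120840) (flp_d L107605) L155562
theorem L155568 : sm ge N19626 = N14427 := ded_26_1 (flp_g L107641) (flp_e L107607) L155562
theorem L155570 : sm gf N19626 = N19594 := ded_29_2 (flp_g L155354) (flp_a L153544) L153548 L155562
theorem L155572 : sm gg N14420 = N19627 := rfl
theorem L155574 : sm gc N19627 = N14421 := ded_21_1 (flp_g L107615) L107609 L155572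
theorem L155576 : sm ge N19627 = N14429 := ded_26_1 (flp_g L107653) (flp_e L107611) L155572
theorem L155578 : sm gf N14421 = N19628 := rfl
theorem L155580 : sm ga N19628 = N19594 := ded_11_1 (flp_f L155570) L155564 L155578
theorem L155582 : sm gd N19628 = N16953 := ded_23_1 L155036 L155032 L155578
theorem L155584 : sm ge N19628 = N14430 := ded_25_1 (flp_f L107657) (flp_e L107617) L155578
theorem L155586 : sm gg N19628 = N19352 := ded_29_3 L153544 L107511 L107615 L155578
theorem L155588 : sm gb N14422 = N19629 := rfl
theorem L155590 : sm gd N19629 = N16630 := ded_14_2 (flp_b L120949) (flp_d L150794) L155588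
theorem L155592 : sm ge N19629 = N14431 := ded_15_2 (flp_b L107665) (flp_e L107621) L155588
theorem L155594 : sm gg N19629 = N17229 := ded_17_2 L123786 L149263 (flp_b L153858) L153860 L155588
theorem L155596 : sm ga N19629 = N19396 := ded_7_1 (flp_b L153882) L106172 L147869 (flp_a L91828) (flp_b L44115) (flp_a L42952) L91205 L107619 L155588
theorem L155598 : sm gc N14431 = N19629 := ded_28_6 L155590 L150674 (flp_c L150678) L151266 (flp_c L151115) L123713 L112156 (flp_d L107667)
theorem L155600 : sm gc N14422 = N19630 := rfl
theorem L155602 : sm ga N19630 = N14423 := ded_8_1 (flp_c L107623) L107619 L155600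
theorem L155604 : sm ge N19630 = N14432 := ded_19_2 (flp_c L107669) (flp_e L107621) L155600
theorem L155606 : sm gb N19630 = N14432 := ded_13_1 (flp_c L107669) L107665 L155598 (flp_b L155588) L155600
theorem L155608 : sm gf N14422 = N19631 := rfl
theorem L155610 : sm ga N19631 = N14424 := ded_11_1 (flp_f L107629) L107619 L155608
theorem L155612 : sm gd N19631 = N16632 := ded_23_1 (flp_f L120955) (flp_d L150794) L155608
theorem L155614 : sm ge N19631 = N14433 := ded_25_1 (flp_f L107673) (flp_e L107621) L155608
theorem L155616 : sm gg N19596 = N19631 := ded_29_1 (flp_f L155608) (flp_g L153860) L153856 L155366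
theorem L155618 : sm gf N14423 = N19632 := rfl
theorem L155620 : sm gc N19632 = N14424 := ded_20_1 (flp_f L107629) L107623 L155618
theorem L155622 : sm ge N19632 = N14435 := ded_25_1 (flp_f L107685) (flp_e L107625) L155618
theorem L155624 : sm gg N14424 = N19633 := rfl
theorem L155626 : sm ga N19633 = N19596 := ded_12_1 L155616 L155610 L155624
theorem L155628 : sm gd N19633 = N16780 := ded_24_1 (flp_g L155050) L155046 L155624
theorem L155630 : sm ge N19633 = N14436 := ded_26_1 (flp_g L107689) (flp_e L107631) L155624
theorem L155632 : sm gf N19392 = N19633 := ded_29_0 (flp_g L155624) (flp_f L107629) (flp_g L107527) (flp_a L153856)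
theorem L155634 : sm gg N14426 = N19634 := rfl
theorem L155636 : sm ga N19634 = N14429 := ded_12_1 (flp_g L107653) (flp_a L107639) L155634
theorem L155638 : sm gc N19634 = N14427 := ded_21_1 (flp_g L107641) L107637 L155634
theorem L155640 : sm gd N19634 = N19428 := ded_24_1 L154120 (flp_d L154090) L155634
theorem L155642 : sm gf N19634 = N15886 := ded_29_2 (flp_g L114963) L114951 L120507 L155634
theorem L155644 : sm gb N14427 = N19635 := rfl
theorem L155646 : sm gd N19635 = N14441 := ded_14_2 (flp_b L107708) (flp_d L107645) L155644
theorem L155648 : sm gb N14429 = N19636 := rfl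
theorem L155650 : sm gg N19636 = N18536 := ded_17_2 (flp_b L143145) (flp_g L103140) (flp_b L91215) L107653 L155648
theorem L155652 : sm ga N19501 = N19636 := ded_12_3 L155650 (flp_a L154258) (flp_g L154626)
theorem L155654 : sm gf N14429 = N19637 := rfl
theorem L155656 : sm ga N19637 = N15886 := ded_11_1 (flp_f L155642) L155636 L155654
theorem L155658 : sm gc N19637 = N14430 := ded_20_1 (flp_f L107657) (flp_c L107655) L155654
theorem L155660 : sm gd N19637 = N19425 := ded_23_1 L154106 L154102 L155654
theorem L155662 : sm gg N19637 = N15883 := ded_29_3 (flp_a L114951) (flp_f L120343) L107653 L155654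
theorem L155664 : sm gb N14430 = N19638 := rfl
theorem L155666 : sm gd N19638 = N14442 := ded_14_2 (flp_b L107710) (flp_d L107661) L155664
theorem L155668 : sm gg N19638 = N19357 := ded_17_2 (flp_b L153590) (flp_g L105851) L105833 L120495 L155664
theorem L155670 : sm gf N14432 = N19639 := rfl
theorem L155672 : sm ga N19639 = N14435 := ded_11_1 (flp_f L107685) (flp_a L107671) L155670
theorem L155674 : sm gc N19639 = N14433 := ded_20_1 (flp_f L107673) L107669 L155670
theorem L155676 : sm gd N19639 = N19484 := ded_23_1 (flp_f L154450) (flp_d L154420) L155670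
theorem L155678 : sm gg N15920 = N19639 := ded_29_1 (flp_f L155670) (flp_g L149652) (flp_a L115124) L115132
theorem L155680 : sm gb N14433 = N19640 := rfl
theorem L155682 : sm gd N19640 = N14447 := ded_14_2 (flp_b L107723) (flp_d L107677) L155680
theorem L155684 : sm gb N14435 = N19641 := rfl
theorem L155686 : sm gf N19641 = N18549 := ded_16_2 (flp_b L143219) (flp_f L103190) (flp_b L91227) L107685 L155684
theorem L155688 : sm ga N19451 = N19641 := ded_11_3 L155686 L154462 (flp_f L154244)
theorem L155690 : sm gg N14435 = N19642 := rfl
theorem L155692 : sm ga N19642 = N15920 := ded_12_1 L155678 L155672 L155690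
theorem L155694 : sm gc N19642 = N14436 := ded_21_1 (flp_g L107689) (flp_c L107687) L155690
theorem L155696 : sm gd N19642 = N19481 := ded_24_1 (flp_g L154436) L154432 L155690
theorem L155698 : sm gf N15918 = N19642 := ded_29_0 (flp_g L155690) (flp_f L107685) L148599 L115124
theorem L155700 : sm gb N14436 = N19643 := rfl
theorem L155702 : sm gd N19643 = N14448 := ded_14_2 (flp_b L107725) (flp_d L107693) L155700
theorem L155704 : sm gf N19643 = N19395 := ded_16_2 (flp_b L153880) (flp_f L106164) L106152 L150606 L155700
theorem L155706 : sm gg N14439 = N19644 := rfl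
theorem L155708 : sm gc N19644 = N17151 := ded_21_1 L123426 L120848 L155706
theorem L155710 : sm gd N19644 = N19401 := ded_24_1 L153926 L153582 L155706
theorem L155712 : sm gf N17150 = N19644 := ded_29_0 (flp_g L155706) (flp_f L107704) L107706 (flp_a L123418)
theorem L155714 : sm gb N19644 = N18654 := ded_17_1 (flp_g L143825) (flp_b L153606) L153604 L121048 L155706
theorem L155716 : sm gb N14440 = N19645 := rfl
theorem L155718 : sm gg N19645 = N14441 := ded_17_2 (flp_b L107708) (flp_g L91235) L91233 L107706 L155716
theorem L155720 : sm gf N14440 = N19646 := rfl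
theorem L155722 : sm ga N19646 = N19644 := ded_11_1 (flp_f L155712) L123418 L155720
theorem L155724 : sm gc N19646 = N16618 := ded_20_1 (flp_f L123408) L123406 L155720
theorem L155726 : sm gg N19646 = N16614 := ded_29_3 L120838 (flp_f L107704) L107706 L155720
theorem L155728 : sm ga N14441 = N19647 := rfl
theorem L155730 : sm gb N19647 = N16632 := ded_7_2 (flp_a L155042) L155052 (flp_a L155510) (flp_b L109498) L92083 L44233 (flp_a L91237) L107708 L155728
theorem L155732 : sm gc N14441 = N19648 := rfl
theorem L155734 : sm gb N19648 = N19648 := ded_13_1 (flp_c L155732) (flp_b L107708) L91239 L107708 L155732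
theorem L155735 : sm gf N14441 = N19649 := rfl
theorem L155737 : sm gb N19649 = N19608 := ded_16_1 (flp_f L155423) (flp_b L107577) (flp_f L91240) L107708 L155735
theorem L155739 : sm gg N14628 = N19649 := ded_17_0 L155737 L155435 (flp_b L155437) (flp_g L108701) L108695
theorem L155741 : sm ga N14442 = N19650 := rfl
theorem L155743 : sm gc N14442 = N19651 := rfl
theorem L155745 : sm gb N19651 = N19651 := ded_13_1 (flp_c L155743) (flp_b L107710) L91246 L107710 L155743
theorem L155746 : sm gg N14442 = N19652 := rfl
theorem L155748 : sm gd N19652 = N19357 := ded_24_1 (flp_g L155668) L155666 L155746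
theorem L155750 : sm gb N19652 = N19354 := ded_17_1 (flp_g L153558) L120315 (flp_g L91247) L107710 L155746
theorem L155752 : sm gb N14445 = N19653 := rfl
theorem L155754 : sm gf N19653 = N14447 := ded_16_2 (flp_b L107723) (flp_f L91251) L91249 L107719 L155752
theorem L155756 : sm gg N14445 = N19654 := rfl
theorem L155758 : sm gc N19654 = N16636 := ded_21_1 L150668 L123774 L155756
theorem L155760 : sm gf N16630 = N19654 := ded_29_0 (flp_g L155756) (flp_f L107719) L107721 (flp_a L150674)
theorem L155762 : sm gf N14446 = N19655 := rfl
theorem L155764 : sm ga N19655 = N19654 := ded_11_1 (flp_f L155760) L150674 L155762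
theorem L155766 : sm gc N19655 = N17232 := ded_20_1 (flp_f L150680) L150678 L155762
theorem L155768 : sm gd N19655 = N19365 := ded_23_1 (flp_f L153890) L153884 L155762
theorem L155770 : sm gg N19655 = N17230 := ded_29_3 L123792 (flp_f L107719) L107721 L155762
theorem L155772 : sm gb N19655 = N18636 := ded_16_1 L143727 L153638 (flp_f L153644) (flp_b L150954) L155762
theorem L155774 : sm ga N14447 = N19656 := rfl
theorem L155776 : sm gb N19656 = N16615 := ded_7_2 (flp_a L155028) L155038 L112082 (flp_b L109307) L92002 L44193 (flp_a L91253) L107723 L155774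
theorem L155778 : sm gc N14447 = N19657 := rfl
theorem L155780 : sm gb N19657 = N19657 := ded_13_1 (flp_c L155778) (flp_b L107723) L91255 L107723 L155778
theorem L155781 : sm gg N14447 = N19658 := rfl
theorem L155783 : sm gb N19658 = N19617 := ded_17_1 (flp_g L155468) (flp_b L107591) L91256 L107723 L155781
theorem L155785 : sm gf N14609 = N19658 := ded_16_0 L155783 (flp_f L155480) L155482 (flp_f L108629) L108623
theorem L155787 : sm ga N14448 = N19659 := rfl
theorem L155789 : sm gc N14448 = N19660 := rfl
theorem L155791 : sm gb N19660 = N19660 := ded_13_1 (flp_c L155789) (flp_b L107725) L91262 L107725 L155789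
theorem L155792 : sm gf N14448 = N19661 := rfl
theorem L155794 : sm gd N19661 = N19395 := ded_23_1 (flp_f L155704) L155702 L155792
theorem L155796 : sm gb N19661 = N19394 := ded_16_1 (flp_f L153870) L150886 L91263 L107725 L155792
theorem L155798 : sm gd N14450 = N19662 := rfl
theorem L155800 : sm ga N19662 = N16050 := ded_9_1 L115828 (flp_a L107739) L155798
theorem L155802 : sm gb N19662 = N14941 := ded_14_1 (flp_d L110202) (flp_b L107745) L155798
theorem L155804 : sm gf N19662 = N14479 := ded_23_2 (flp_d L107935) (flp_f L107743) L155798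
theorem L155806 : sm gd N14453 = N19663 := rfl
theorem L155808 : sm ga N19663 = N16068 := ded_9_1 L115908 (flp_a L150090) L155806
theorem L155810 : sm gb N19663 = N14946 := ded_14_1 (flp_d L110238) (flp_b L107767) L155806
theorem L155812 : sm gg N19663 = N14489 := ded_24_2 (flp_d L107989) (flp_g L107765) L155806
theorem L155814 : sm gg N14455 = N19664 := rfl
theorem L155816 : sm gc N19664 = N19251 := ded_21_1 (flp_g L152758) (flp_c L120275) L155814
theorem L155818 : sm gd N19664 = N18665 := ded_24_1 (flp_g L143879) L120259 L155814
theorem L155820 : sm ge N19664 = N14599 := ded_26_1 (flp_g L108585) (flp_e L107777) L155814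
theorem L155822 : sm gf N19251 = N19664 := ded_29_0 (flp_g L155814) L120261 L153622 L153624
theorem L155824 : sm gb N14456 = N19665 := rfl
theorem L155826 : sm ge N19665 = N14600 := ded_15_2 (flp_b L108587) (flp_e L107783) L155824
theorem L155828 : sm gc N19665 = N19246 := ded_13_2 L152730 (flp_c L120275) (flp_b L107775) L107779 L155824
theorem L155830 : sm gf N19665 = N19120 := ded_16_2 L151942 (flp_f L119819) (flp_b L108039) (flp_f L107785) L155824
theorem L155832 : sm gd N14456 = N19666 := rfl
theorem L155834 : sm ga N19666 = N14457 := ded_9_1 (flp_d L107787) (flp_a L107781) L155832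
theorem L155836 : sm gf N19666 = N14501 := ded_23_2 (flp_d L108043) (flp_f L107785) L155832
theorem L155838 : sm gc N14457 = N19667 := rfl
theorem L155840 : sm gf N19667 = N14504 := ded_20_2 (flp_c L108061) (flp_f L107791) L155838
theorem L155842 : sm ge N14457 = N19668 := rfl
theorem L155844 : sm gb N19668 = N14979 := ded_15_1 (flp_e L110431) (flp_b L107789) L155842
theorem L155846 : sm gf N19668 = N14505 := ded_25_2 (flp_e L108065) (flp_f L107791) L155842
theorem L155848 : sm gd N19668 = N14603 := ded_22_1 (flp_e L108599) (flp_d L91714) (flp_e L91289) L107787 L155842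
theorem L155850 : sm gg N14457 = N19669 := rfl
theorem L155852 : sm gd N19669 = N14458 := ded_24_1 (flp_g L107793) L107787 L155850
theorem L155854 : sm gb N14458 = N19670 := rfl
theorem L155856 : sm ge N19670 = N14605 := ded_15_2 (flp_b L108609) (flp_e L107797) L155854
theorem L155858 : sm gg N19670 = N14981 := ded_17_2 (flp_b L110441) (flp_g L92633) (flp_b L91293) L107793 L155854
theorem L155860 : sm ga N14459 = N19671 := rfl
theorem L155862 : sm ge N19671 = N14606 := ded_10_2 (flp_a L108613) (flp_e L107801) L155860
theorem L155864 : sm gg N19671 = N14460 := ded_12_2 (flp_a L107805) (flp_g L107803) L155860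
theorem L155866 : sm gc N14459 = N19672 := rfl
theorem L155868 : sm ge N19672 = N14607 := ded_19_2 (flp_c L108617) (flp_e L107801) L155866
theorem L155870 : sm gg N19672 = N14461 := ded_21_2 (flp_c L107809) (flp_g L107803) L155866
theorem L155872 : sm gf N14459 = N19673 := rfl
theorem L155874 : sm ge N19673 = N14608 := ded_25_1 (flp_f L108621) (flp_e L107801) L155872
theorem L155876 : sm gb N14460 = N19674 := rfl
theorem L155878 : sm ge N19674 = N14609 := ded_15_2 (flp_b L108623) (flp_e L107807) L155876
theorem L155880 : sm gc N14460 = N19675 := rfl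
theorem L155882 : sm ga N19675 = N14461 := ded_8_1 (flp_c L107809) L107805 L155880
theorem L155884 : sm ge N19675 = N14610 := ded_19_2 (flp_c L108625) (flp_e L107807) L155880
theorem L155886 : sm gf N14460 = N19676 := rfl
theorem L155888 : sm ga N19676 = N14462 := ded_11_1 (flp_f L107815) L107805 L155886
theorem L155890 : sm ge N19676 = N14611 := ded_25_1 (flp_f L108629) (flp_e L107807) L155886
theorem L155892 : sm gg N19673 = N19676 := ded_29_1 (flp_f L155886) (flp_g L155864) (flp_a L155860) L155872
theorem L155894 : sm gd N14461 = N19677 := rfl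
theorem L155896 : sm gb N19677 = N14988 := ded_14_1 (flp_d L110483) (flp_b L107813) L155894
theorem L155898 : sm gf N14461 = N19678 := rfl
theorem L155900 : sm gc N19678 = N14462 := ded_20_1 (flp_f L107815) L107809 L155898
theorem L155902 : sm ge N19678 = N14613 := ded_25_1 (flp_f L108639) (flp_e L107811) L155898
theorem L155904 : sm gg N14462 = N19679 := rfl
theorem L155906 : sm ga N19679 = N19673 := ded_12_1 L155892 L155888 L155904
theorem L155908 : sm ge N19679 = N14614 := ded_26_1 (flp_g L108643) (flp_e L107817) L155904
theorem L155910 : sm gf N19671 = N19679 := ded_29_0 (flp_g L155904) (flp_f L107815) (flp_g L107803) L155860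
theorem L155912 : sm gf N14463 = N19680 := rfl
theorem L155914 : sm gc N19680 = N19308 := ded_20_1 (flp_f L153173) (flp_c L148060) L155912
theorem L155916 : sm gd N19680 = N18690 := ded_23_1 (flp_f L144029) (flp_d L148062) L155912
theorem L155918 : sm ge N19680 = N14617 := ded_25_1 (flp_f L108653) (flp_e L107823) L155912
theorem L155920 : sm gg N19680 = N19308 := ded_29_3 (flp_a L153904) (flp_f L153902) (flp_g L148064) L155912
theorem L155922 : sm gb N14464 = N19681 := rfl
theorem L155924 : sm ge N19681 = N14619 := ded_15_2 (flp_b L108659) (flp_e L107829) L155922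
theorem L155926 : sm gc N19681 = N19303 := ded_13_2 L153145 (flp_c L148060) (flp_b L107821) L107825 L155922
theorem L155928 : sm gg N19681 = N19188 := ded_17_2 L152386 (flp_g L149482) (flp_b L108158) (flp_g L107831) L155922
theorem L155930 : sm gd N14464 = N19682 := rfl
theorem L155932 : sm ga N19682 = N14465 := ded_9_1 (flp_d L107833) (flp_a L107827) L155930
theorem L155934 : sm gg N19682 = N14523 := ded_24_2 (flp_d L108162) (flp_g L107831) L155930
theorem L155936 : sm gc N14465 = N19683 := rfl
theorem L155938 : sm gg N19683 = N14526 := ded_21_2 (flp_c L108180) (flp_g L107837) L155936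
theorem L155940 : sm ge N14465 = N19684 := rfl
theorem L155942 : sm gb N19684 = N14998 := ded_15_1 (flp_e L110531) (flp_b L107835) L155940
theorem L155944 : sm gg N19684 = N14527 := ded_26_2 (flp_e L108184) (flp_g L107837) L155940
theorem L155946 : sm gd N19684 = N14622 := ded_22_1 (flp_e L108671) (flp_d L91746) (flp_e L91311) L107833 L155940
theorem L155948 : sm gf N14465 = N19685 := rfl
theorem L155950 : sm gd N19685 = N14466 := ded_23_1 (flp_f L107839) L107833 L155948
theorem L155952 : sm gb N14466 = N19686 := rfl
theorem L155954 : sm ge N19686 = N14624 := ded_15_2 (flp_b L108681) (flp_e L107843) L155952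
theorem L155956 : sm gf N19686 = N15000 := ded_16_2 (flp_b L110541) (flp_f L92675) (flp_b L91315) L107839 L155952
theorem L155958 : sm ga N14467 = N19687 := rfl
theorem L155960 : sm gd N19687 = N19676 := ded_9_2 L155888 (flp_d L107847) L155958
theorem L155962 : sm ge N19687 = N14625 := ded_10_2 (flp_a L108685) (flp_e L107849) L155958
theorem L155964 : sm gf N19687 = N14468 := ded_11_2 (flp_a L107853) (flp_f L107851) L155958
theorem L155966 : sm gc N14467 = N19688 := rfl
theorem L155968 : sm ge N19688 = N14626 := ded_19_2 (flp_c L108689) (flp_e L107849) L155966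
theorem L155970 : sm gf N19688 = N14469 := ded_20_2 (flp_c L107859) (flp_f L107851) L155966
theorem L155972 : sm gg N14467 = N19689 := rfl
theorem L155974 : sm gd N19689 = N19679 := ded_24_1 (flp_g L155904) (flp_d L107847) L155972
theorem L155976 : sm ge N19689 = N14627 := ded_26_1 (flp_g L108693) (flp_e L107849) L155972
theorem L155978 : sm gb N14468 = N19690 := rfl
theorem L155980 : sm gd N19690 = N19674 := ded_14_2 (flp_b L155876) (flp_d L107855) L155978
theorem L155982 : sm ge N19690 = N14628 := ded_15_2 (flp_b L108695) (flp_e L107857) L155978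
theorem L155984 : sm gc N14468 = N19691 := rfl
theorem L155986 : sm ga N19691 = N14469 := ded_8_1 (flp_c L107859) L107853 L155984
theorem L155988 : sm ge N19691 = N14629 := ded_19_2 (flp_c L108697) (flp_e L107857) L155984
theorem L155990 : sm gg N14468 = N19692 := rfl
theorem L155992 : sm ga N19692 = N14470 := ded_12_1 (flp_g L107865) L107853 L155990
theorem L155994 : sm gd N19692 = N19671 := ded_24_1 L155864 (flp_d L107855) L155990
theorem L155996 : sm ge N19692 = N14630 := ded_26_1 (flp_g L108701) (flp_e L107857) L155990
theorem L155998 : sm gf N19692 = N19689 := ded_29_2 (flp_g L155972) L155958 L155964 L155990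
theorem L156000 : sm gd N14469 = N19693 := rfl
theorem L156002 : sm gb N19693 = N15007 := ded_14_1 (flp_d L110583) (flp_b L107863) L156000
theorem L156004 : sm gg N14469 = N19694 := rfl
theorem L156006 : sm gc N19694 = N14470 := ded_21_1 (flp_g L107865) L107859 L156004
theorem L156008 : sm ge N19694 = N14632 := ded_26_1 (flp_g L108711) (flp_e L107861) L156004
theorem L156010 : sm gf N14470 = N19695 := rfl
theorem L156012 : sm ga N19695 = N19689 := ded_11_1 (flp_f L155998) L155992 L156010
theorem L156014 : sm gd N19695 = N19673 := ded_23_1 (flp_f L155872) (flp_d L107867) L156010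
theorem L156016 : sm ge N19695 = N14633 := ded_25_1 (flp_f L108715) (flp_e L107869) L156010
theorem L156018 : sm gg N19695 = N19687 := ded_29_3 (flp_a L155958) L107851 L107865 L156010
theorem L156020 : sm gb N14471 = N19696 := rfl
theorem L156022 : sm gd N19696 = N14657 := ded_14_2 (flp_b L108863) (flp_d L107879) L156020
theorem L156024 : sm ge N19696 = N14481 := ded_15_2 (flp_b L107947) (flp_e L107881) L156020
theorem L156026 : sm gc N19696 = N15256 := ded_13_2 L111956 (flp_c L102090) L97212 (flp_c L107877) L156020
theorem L156028 : sm gg N19696 = N14472 := ded_17_2 (flp_b L107883) (flp_g L91335) L91327 L107873 L156020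
theorem L156030 : sm gf N15255 = N19696 := ded_31_1 (flp_b L156020) (flp_g L107873) L91333 (flp_b L43990) (flp_g L21141) (flp_f L21135) L21131 L21133 L21215 L44215 L92071 (flp_f L92085) L109498 L155516
theorem L156032 : sm ga N15258 = N19696 := ded_8_3 L156026 L111950 (flp_c L111962)
theorem L156034 : N16655 = N19659 := coi_7_5 (flp_a L155787) (flp_b L107725) L91260 L107591 L155459 (flp_b L155494) L156032 (flp_b L156020) L107875 L121056
theorem L156035 : N19659 = N16655 := (eqc rfl L156034 rfl).symm
theorem L156036 : sm ga N16655 = N14448 := trfs L156035 (flp_a L155787) rfl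
theorem L156038 : sm ga N19660 = N16898 := ded_8_3 L122264 L156036 L155789
theorem L156040 : sm gb N14475 = N19697 := rfl
theorem L156042 : sm gd N19697 = N14667 := ded_14_2 (flp_b L108921) (flp_d L107905) L156040
theorem L156044 : sm ge N19697 = N14491 := ded_15_2 (flp_b L107995) (flp_e L107907) L156040
theorem L156046 : sm gc N19697 = N15244 := ded_13_2 (flp_b L111877) L93429 (flp_b L97899) (flp_c L150047) L156040
theorem L156048 : sm gf N19697 = N14476 := ded_16_2 (flp_b L107909) (flp_f L91351) L91343 L107903 L156040
theorem L156050 : sm gg N19697 = N15294 := ded_31_3 L112184 (flp_b L109307) (flp_g L92004) (flp_f L91990) (flp_b L44175) (flp_g L21205) (flp_f L21123) (flp_b L21121) L21125 (flp_f L21129) L43992 (flp_g L91349) L107903 L156040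
theorem L156052 : sm ga N19697 = N15296 := ded_30_3 L112194 (flp_c L97323) (flp_b L85290) (flp_a L26724) L26729 (flp_c L85307) L97354 (flp_a L150725) L97469 (flp_c L97467) (flp_b L85346) (flp_a L26887) (flp_f L26891) (flp_c L26735) L26733 L85315 L97375 (flp_c L150047) L156040
theorem L156054 : N16716 = N19650 := coi_7_3 (flp_a L155741) (flp_b L107710) L91244 L107577 L155414 L155445 (flp_a L156052) (flp_b L156040) (flp_a L150351) L121361
theorem L156055 : N19650 = N16716 := (eqc rfl L156054 rfl).symm
theorem L156056 : sm ga N16716 = N14442 := trfs L156055 (flp_a L155741) rfl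
theorem L156058 : sm ga N19651 = N17093 := ded_8_3 L123157 L156056 L155743
theorem L156060 : sm ga N14477 = N19698 := rfl
theorem L156062 : sm gc N19698 = N16086 := ded_8_2 (flp_a L115996) (flp_c L107921) L156060
theorem L156064 : sm gd N19698 = N14496 := ded_9_2 (flp_a L108023) (flp_d L107917) L156060
theorem L156066 : sm ge N19698 = N16653 := ded_10_2 (flp_a L121040) (flp_e L107919) L156060
theorem L156068 : sm gf N19698 = N19353 := ded_11_2 L153554 L120309 L156060
theorem L156070 : sm gb N19698 = N19569 := ded_7_2 L155164 (flp_b L155054) (flp_a L107308) (flp_b L91057) L42678 L43360 L91363 L107915 L156060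
theorem L156072 : sm gg N14477 = N19699 := rfl
theorem L156074 : sm gc N19699 = N16089 := ded_21_1 (flp_g L116010) (flp_c L107921) L156072
theorem L156076 : sm gd N19699 = N14499 := ded_24_1 (flp_g L108035) (flp_d L107917) L156072
theorem L156078 : sm ge N19699 = N16654 := ded_26_1 (flp_g L121050) (flp_e L107919) L156072
theorem L156080 : sm gb N14478 = N19700 := rfl
theorem L156082 : sm gd N19700 = N14503 := ded_14_2 (flp_b L108057) (flp_d L107929) L156080
theorem L156084 : sm ge N19700 = N16655 := ded_15_2 (flp_b L121056) (flp_e L107931) L156080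
theorem L156086 : sm ga N19576 = N19700 := ded_10_3 L156084 L156036 (flp_e L155204)
theorem L156088 : sm gc N14479 = N19701 := rfl
theorem L156090 : sm ga N19701 = N16049 := ded_8_1 (flp_c L115812) (flp_a L107937) L156088
theorem L156092 : sm gb N19701 = N15992 := ded_13_1 (flp_c L115519) L115515 L155082 L155080 L156088
theorem L156094 : sm ge N14479 = N19702 := rfl
theorem L156096 : sm ga N19702 = N14956 := ded_10_1 L110303 (flp_a L107937) L156094
theorem L156098 : sm gd N19702 = N14972 := ded_22_1 L110401 L93227 (flp_e L91644) L107935 L156094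
theorem L156100 : sm gg N14479 = N19703 := rfl
theorem L156102 : sm ga N19703 = N16051 := ded_12_1 (flp_g L115832) (flp_a L107937) L156100
theorem L156104 : sm gd N19703 = N14480 := ded_24_1 (flp_g L107939) L107935 L156100
theorem L156106 : sm ga N14481 = N19704 := rfl
theorem L156108 : sm gd N19704 = N14508 := ded_9_2 (flp_a L108085) (flp_d L107949) L156106
theorem L156110 : sm ge N19704 = N15258 := ded_10_2 L156032 L156024 L156106
theorem L156112 : sm gg N19704 = N14483 := ded_12_2 (flp_a L107961) (flp_g L107951) L156106
theorem L156114 : sm gf N19704 = N15047 := ded_29_0 (flp_g L151373) (flp_f L107967) (flp_g L107951) L156106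
theorem L156116 : sm gc N15048 = N19704 := ded_19_3 L156110 L111962 (flp_e L110831)
theorem L156118 : sm gc N14481 = N19705 := rfl
theorem L156120 : sm ga N19705 = N15048 := ded_8_1 L156116 (flp_a L156106) L156118
theorem L156122 : sm ge N19705 = N15256 := ded_19_2 (flp_c L156026) L156024 L156118
theorem L156124 : sm gg N19705 = N14484 := ded_21_2 (flp_c L107965) (flp_g L107951) L156118
theorem L156126 : sm gb N19705 = N15064 := ded_13_1 (flp_c L110933) L110939 L107943 L107947 L156118
theorem L156128 : sm gf N15046 = N19705 := ded_11_0 L156120 (flp_f L110829) L110821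
theorem L156130 : sm gf N14481 = N19706 := rfl
theorem L156132 : sm ga N19706 = N15047 := ded_11_1 (flp_f L156114) (flp_a L156106) L156130
theorem L156134 : sm gc N19706 = N15046 := ded_20_1 L156128 (flp_c L156118) L156130
theorem L156136 : sm gd N19706 = N14510 := ded_23_1 (flp_f L108097) (flp_d L107949) L156130
theorem L156138 : sm ge N19706 = N15255 := ded_25_1 L156030 L156024 L156130
theorem L156140 : sm gb N14482 = N19707 := rfl
theorem L156142 : sm gd N19707 = N14511 := ded_14_2 (flp_b L108101) (flp_d L107957) L156140
theorem L156144 : sm gb N14483 = N19708 := rfl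
theorem L156146 : sm gd N19708 = N14512 := ded_14_2 (flp_b L108105) (flp_d L107963) L156144
theorem L156148 : sm ge N19708 = N16758 := ded_15_2 (flp_b L121551) (flp_e L151309) L156144
theorem L156150 : sm gc N19708 = N16147 := ded_13_2 (flp_b L116393) (flp_c L95781) L95777 (flp_c L151307) L156144
theorem L156152 : sm gf N14483 = N19709 := rfl
theorem L156154 : sm ga N19709 = N14485 := ded_11_1 (flp_f L107967) L107961 L156152
theorem L156156 : sm gc N19709 = N16146 := ded_20_1 (flp_f L116385) (flp_c L151307) L156152
theorem L156158 : sm gd N19709 = N14514 := ded_23_1 (flp_f L108115) (flp_d L107963) L156152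
theorem L156160 : sm ge N19709 = N14810 := ded_25_1 L155514 (flp_e L151309) L156152
theorem L156162 : sm gg N19709 = N19706 := ded_29_3 L156132 (flp_f L156114) L156112 L156152
theorem L156164 : sm gb N14536 = N19709 := ded_15_3 L156160 (flp_b L109498) (flp_e L108238)
theorem L156166 : sm gd N14484 = N19710 := rfl
theorem L156168 : sm ga N19710 = N16078 := ded_9_1 L115950 (flp_a L151214) L156166
theorem L156170 : sm ga N14486 = N19711 := rfl
theorem L156172 : sm gc N19711 = N16125 := ded_8_2 (flp_a L116269) (flp_c L150442) L156170
theorem L156174 : sm gd N19711 = N14518 := ded_9_2 (flp_a L108142) (flp_d L107975) L156170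
theorem L156176 : sm ge N19711 = N16708 := ded_10_2 (flp_a L121333) (flp_e L150444) L156170
theorem L156178 : sm gg N19711 = N19393 := ded_12_2 L153866 L149241 L156170
theorem L156180 : sm gb N19711 = N19574 := ded_7_2 L155190 (flp_b L155108) (flp_a L107328) (flp_b L91061) L42686 L43370 L91377 L107973 L156170
theorem L156182 : sm gf N14486 = N19712 := rfl
theorem L156184 : sm gc N19712 = N16127 := ded_20_1 (flp_f L116277) (flp_c L150442) L156182
theorem L156186 : sm gd N19712 = N14520 := ded_23_1 (flp_f L108150) (flp_d L107975) L156182
theorem L156188 : sm ge N19712 = N16710 := ded_25_1 (flp_f L121341) (flp_e L150444) L156182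
theorem L156190 : sm gb N14488 = N19713 := rfl
theorem L156192 : sm gd N19713 = N14525 := ded_14_2 (flp_b L108176) (flp_d L107985) L156190
theorem L156194 : sm ge N19713 = N16716 := ded_15_2 (flp_b L121361) L150355 L156190
theorem L156196 : sm ga N19572 = N19713 := ded_10_3 L156194 L156056 (flp_e L155182)
theorem L156198 : sm gc N14489 = N19714 := rfl
theorem L156200 : sm ga N19714 = N16066 := ded_8_1 (flp_c L115900) (flp_a L150299) L156198
theorem L156202 : sm gb N19714 = N15998 := ded_13_1 (flp_c L115549) L115545 L155136 L155134 L156198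
theorem L156204 : sm ge N14489 = N19715 := rfl
theorem L156206 : sm ga N19715 = N14964 := ded_10_1 L110353 (flp_a L150299) L156204
theorem L156208 : sm gd N19715 = N14991 := ded_22_1 L110501 L93313 L150347 L107989 L156204
theorem L156210 : sm gf N14489 = N19716 := rfl
theorem L156212 : sm ga N19716 = N16067 := ded_11_1 (flp_f L115902) (flp_a L150299) L156210
theorem L156214 : sm gd N19716 = N14490 := ded_23_1 (flp_f L107991) L107989 L156210
theorem L156216 : sm ga N14491 = N19717 := rfl
theorem L156218 : sm gd N19717 = N14530 := ded_9_2 (flp_a L108204) (flp_d L107997) L156216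
theorem L156220 : sm ge N19717 = N15296 := ded_10_2 (flp_a L156052) L156044 L156216
theorem L156222 : sm gf N19717 = N14493 := ded_11_2 (flp_a L108009) (flp_f L107999) L156216
theorem L156224 : sm gg N15074 = N19717 := ded_29_3 (flp_a L156216) L107999 L108017 L151323
theorem L156226 : sm gc N15075 = N19717 := ded_19_3 L156220 L112192 (flp_e L110999)
theorem L156228 : sm gc N14491 = N19718 := rfl
theorem L156230 : sm ga N19718 = N15075 := ded_8_1 L156226 (flp_a L156216) L156228
theorem L156232 : sm ge N19718 = N15244 := ded_19_2 (flp_c L156046) L156044 L156228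
theorem L156234 : sm gf N19718 = N14494 := ded_20_2 (flp_c L108013) (flp_f L107999) L156228
theorem L156236 : sm gb N19718 = N15038 := ded_13_1 L110767 (flp_b L150293) L107993 L107995 L156228
theorem L156238 : sm gg N15073 = N19718 := ded_12_0 L156230 (flp_g L110997) L110989
theorem L156240 : sm gg N14491 = N19719 := rfl
theorem L156242 : sm ga N19719 = N15074 := ded_12_1 L156224 (flp_a L156216) L156240
theorem L156244 : sm gc N19719 = N15073 := ded_21_1 L156238 (flp_c L156228) L156240
theorem L156246 : sm gd N19719 = N14532 := ded_24_1 (flp_g L108216) (flp_d L107997) L156240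
theorem L156248 : sm ge N19719 = N15294 := ded_26_1 (flp_g L156050) L156044 L156240
theorem L156250 : sm gb N14492 = N19720 := rfl
theorem L156252 : sm gd N19720 = N14533 := ded_14_2 (flp_b L108220) (flp_d L108005) L156250
theorem L156254 : sm gb N14493 = N19721 := rfl
theorem L156256 : sm gd N19721 = N14534 := ded_14_2 (flp_b L108224) (flp_d L108011) L156254
theorem L156258 : sm ge N19721 = N16683 := ded_15_2 (flp_b L121222) (flp_e L151201) L156254
theorem L156260 : sm gc N19721 = N16107 := ded_13_2 (flp_b L116159) (flp_c L95682) L95678 (flp_c L151199) L156254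
theorem L156262 : sm gg N14493 = N19722 := rfl
theorem L156264 : sm ga N19722 = N14495 := ded_12_1 (flp_g L108017) L108009 L156262
theorem L156266 : sm gc N19722 = N16106 := ded_21_1 (flp_g L116151) (flp_c L151199) L156262
theorem L156268 : sm gd N19722 = N14536 := ded_24_1 (flp_g L108234) (flp_d L108011) L156262
theorem L156270 : sm ge N19722 = N14761 := ded_26_1 L109311 (flp_e L151201) L156262
theorem L156272 : sm gf N19719 = N19722 := ded_29_0 (flp_g L156262) (flp_f L156222) (flp_g L156224) (flp_a L156242)
theorem L156274 : sm gb N19722 = N14514 := ded_30_2 L108117 (flp_f L91443) L91437 L91441 (flp_a L91517) L91521 (flp_c L91515) L70506 L21857 (flp_f L10533) L10529 (flp_b L21797) (flp_a L45323) L92883 L92887 L92893 L110989 L116157 (flp_c L156266)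
theorem L156276 : sm gd N14494 = N19723 := rfl
theorem L156278 : sm ga N19723 = N16059 := ded_9_1 L115868 (flp_a L151205) L156276
theorem L156280 : sm gb N19723 = N19710 := ded_14_1 (flp_d L156166) (flp_b L108015) L156276
theorem L156282 : sm gf N14496 = N19724 := rfl
theorem L156284 : sm ga N19724 = N14498 := ded_11_1 (flp_f L108031) L108023 L156282
theorem L156286 : sm gc N19724 = N18563 := ded_20_1 L143309 (flp_c L120408) L156282
theorem L156288 : sm gd N19724 = N19353 := ded_23_1 (flp_f L156068) L156064 L156282
theorem L156290 : sm ge N19724 = N14719 := ded_25_1 (flp_f L109151) (flp_e L108025) L156282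
theorem L156292 : sm gb N19724 = N19543 := ded_16_1 L154950 L155054 (flp_f L155062) L120527 L156282
theorem L156294 : sm gg N14497 = N19725 := rfl
theorem L156296 : sm gc N19725 = N14499 := ded_21_1 (flp_g L108035) L108027 L156294
theorem L156298 : sm ge N19725 = N14724 := ded_26_1 (flp_g L109169) (flp_e L108029) L156294
theorem L156300 : sm gg N14498 = N19726 := rfl
theorem L156302 : sm gc N19726 = N18569 := ded_21_1 (flp_g L143337) L119851 L156300
theorem L156304 : sm gd N19726 = N19358 := ded_24_1 (flp_g L153592) (flp_d L120269) L156300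
theorem L156306 : sm ge N19726 = N14725 := ded_26_1 (flp_g L109173) (flp_e L108033) L156300
theorem L156308 : sm gf N19400 = N19726 := ded_29_0 (flp_g L156300) (flp_f L108031) L108035 L153914
theorem L156310 : sm gb N19397 = N19726 := ded_31_14 (flp_g L156300) (flp_f L108031) (flp_b L91391) L91401 L91407 L107799 L107803 L107815 L107819 L107987 (flp_f L107981) L107973 (flp_g L149241) L153894
theorem L156312 : sm gb N14499 = N19727 := rfl
theorem L156314 : sm ge N19727 = N14726 := ded_15_2 (flp_b L109177) (flp_e L108037) L156312
theorem L156316 : sm gg N19727 = N14503 := ded_17_2 (flp_b L108057) (flp_g L91401) L91391 L108035 L156312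
theorem L156318 : sm gf N14499 = N19728 := rfl
theorem L156320 : sm ga N19728 = N19726 := ded_11_1 (flp_f L156308) (flp_a L153914) L156318
theorem L156322 : sm ge N19728 = N14727 := ded_25_1 (flp_f L109181) (flp_e L108037) L156318
theorem L156324 : sm gg N19728 = N19724 := ded_29_3 L156284 (flp_f L108031) L108035 L156318
theorem L156326 : sm gd N14500 = N19729 := rfl
theorem L156328 : sm ga N19729 = N18753 := ded_9_1 L144413 (flp_a L119833) L156326
theorem L156330 : sm gb N19729 = N14501 := ded_14_1 (flp_d L108043) L108039 L156326
theorem L156332 : sm gf N19729 = N18825 := ded_23_2 L144811 (flp_f L119819) L156326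
theorem L156334 : sm ge N19729 = N18752 := ded_22_2 (flp_d L144401) L103895 L119392 (flp_e L108041) L156326
theorem L156336 : sm gc N18984 = N19729 := ded_28_0 (flp_d L156326) (flp_c L119815) (flp_d L144413) L144409 (flp_d L104542) L89416 L104542 (flp_a L145719)
theorem L156338 : sm gc N14501 = N19730 := rfl
theorem L156340 : sm ga N19730 = N14504 := ded_8_1 (flp_c L108061) (flp_a L108045) L156338
theorem L156342 : sm gd N19730 = N19701 := ded_28_7 L156090 (flp_c L115812) L95552 (flp_c L91646) L91365 L91395 L108043 L156338
theorem L156344 : sm ge N14501 = N19731 := rfl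
theorem L156346 : sm ga N19731 = N14505 := ded_10_1 (flp_e L108065) (flp_a L108045) L156344
theorem L156348 : sm gb N19731 = N18752 := ded_15_1 (flp_e L156334) L156330 L156344
theorem L156350 : sm gd N19731 = N14733 := ded_22_1 (flp_e L109203) (flp_d L91950) (flp_e L91399) L108043 L156344
theorem L156352 : sm gg N14501 = N19732 := rfl
theorem L156354 : sm ga N19732 = N14506 := ded_12_1 (flp_g L108071) (flp_a L108045) L156352
theorem L156356 : sm gd N19732 = N14502 := ded_24_1 (flp_g L108047) L108043 L156352
theorem L156358 : sm gf N19732 = N19669 := ded_29_2 (flp_g L155850) (flp_a L155834) L155836 L156352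
theorem L156360 : sm gb N14502 = N19733 := rfl
theorem L156362 : sm ge N19733 = N14735 := ded_15_2 (flp_b L109215) (flp_e L108053) L156360
theorem L156364 : sm ga N14503 = N19734 := rfl
theorem L156366 : sm gd N19734 = N19576 := ded_9_2 L156086 L156082 L156364
theorem L156368 : sm ge N19734 = N14736 := ded_10_2 (flp_a L109217) (flp_e L108059) L156364
theorem L156370 : sm gb N19568 = N19734 := ded_14_3 L156366 (flp_b L155202) (flp_d L155156)
theorem L156372 : sm gc N14503 = N19735 := rfl
theorem L156374 : sm ge N19735 = N14737 := ded_19_2 (flp_c L109219) (flp_e L108059) L156372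
theorem L156376 : sm gf N14503 = N19736 := rfl
theorem L156378 : sm ge N19736 = N14738 := ded_25_1 (flp_f L109221) (flp_e L108059) L156376
theorem L156380 : sm gb N19736 = N19673 := ded_16_1 (flp_f L155872) (flp_b L107799) (flp_f L91407) L108057 L156376
theorem L156382 : sm ge N14504 = N19737 := rfl
theorem L156384 : sm gb N19737 = N15050 := ded_15_1 (flp_e L110843) (flp_b L108063) L156382
theorem L156386 : sm gc N19737 = N14505 := ded_19_1 (flp_e L108065) L108061 L156382
theorem L156388 : sm gg N14504 = N19738 := rfl
theorem L156390 : sm gc N19738 = N14506 := ded_21_1 (flp_g L108071) L108061 L156388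
theorem L156392 : sm gg N14505 = N19739 := rfl
theorem L156394 : sm gd N19739 = N14743 := ded_24_1 (flp_g L109243) (flp_d L108069) L156392
theorem L156396 : sm ge N19739 = N14506 := ded_26_1 (flp_g L108071) L108065 L156392
theorem L156398 : sm gf N14506 = N19740 := rfl
theorem L156400 : sm ga N19740 = N19669 := ded_11_1 (flp_f L156358) L156354 L156398
theorem L156402 : sm gd N19740 = N14507 := ded_23_1 (flp_f L108075) (flp_d L108073) L156398
theorem L156404 : sm gg N19740 = N19666 := ded_29_3 L155834 L107791 L108071 L156398
theorem L156406 : sm gb N14507 = N19741 := rfl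
theorem L156408 : sm ge N19741 = N14745 := ded_15_2 (flp_b L109255) (flp_e L108081) L156406
theorem L156410 : sm gb N14508 = N19742 := rfl
theorem L156412 : sm ge N19742 = N14746 := ded_15_2 (flp_b L109257) (flp_e L108087) L156410
theorem L156414 : sm gc N14508 = N19743 := rfl
theorem L156416 : sm ga N19743 = N14509 := ded_8_1 (flp_c L108091) L108085 L156414
theorem L156418 : sm ge N19743 = N14747 := ded_19_2 (flp_c L109259) (flp_e L108087) L156414
theorem L156420 : sm gg N19743 = N14513 := ded_21_2 (flp_c L108109) (flp_g L108089) L156414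
theorem L156422 : sm gd N14509 = N19744 := rfl
theorem L156424 : sm gg N19744 = N14515 := ded_24_2 (flp_d L108123) (flp_g L108095) L156422
theorem L156426 : sm gf N14509 = N19745 := rfl
theorem L156428 : sm gc N19745 = N14510 := ded_20_1 (flp_f L108097) L108091 L156426
theorem L156430 : sm ge N19745 = N14749 := ded_25_1 (flp_f L109269) (flp_e L108093) L156426
theorem L156432 : sm gb N14510 = N19746 := rfl
theorem L156434 : sm ge N19746 = N14750 := ded_15_2 (flp_b L109273) (flp_e L108099) L156432
theorem L156436 : sm gf N19746 = N14511 := ded_16_2 (flp_b L108101) (flp_f L91425) L91419 L108097 L156432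
theorem L156438 : sm gg N19746 = N19721 := ded_17_2 (flp_b L156254) L156262 L156274 (flp_g L108121) L156432
theorem L156440 : sm ga N14511 = N19747 := rfl
theorem L156442 : sm ge N19747 = N14751 := ded_10_2 (flp_a L109277) (flp_e L108103) L156440
theorem L156444 : sm gc N14511 = N19748 := rfl
theorem L156446 : sm ge N19748 = N14752 := ded_19_2 (flp_c L109279) (flp_e L108103) L156444
theorem L156448 : sm gg N14511 = N19749 := rfl
theorem L156450 : sm ge N19749 = N14753 := ded_26_1 (flp_g L109281) (flp_e L108103) L156448
theorem L156452 : sm gb N19749 = N19664 := ded_17_1 (flp_g L155814) (flp_b L107775) (flp_g L91431) L108101 L156448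
theorem L156454 : sm ga N14512 = N19750 := rfl
theorem L156456 : sm ge N19750 = N14754 := ded_10_2 (flp_a L109285) (flp_e L108107) L156454
theorem L156458 : sm gc N15105 = N19750 := ded_19_3 L156456 L120553 (flp_e L111163)
theorem L156460 : sm gf N19252 = N19750 := ded_25_0 L156456 (flp_f L120546) (flp_e L152766)
theorem L156462 : sm gc N14512 = N19751 := rfl
theorem L156464 : sm ga N19751 = N15105 := ded_8_1 L156458 (flp_a L156454) L156462
theorem L156466 : sm ge N19751 = N14755 := ded_19_2 (flp_c L109287) (flp_e L108107) L156462
theorem L156468 : sm gf N14512 = N19752 := rfl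
theorem L156470 : sm ga N19752 = N19252 := ded_11_1 L156460 (flp_a L156454) L156468
theorem L156472 : sm ge N19752 = N14756 := ded_25_1 (flp_f L109289) (flp_e L108107) L156468
theorem L156474 : sm gb N19752 = N19719 := ded_16_1 L156272 L156274 (flp_f L108115) L108105 L156468
theorem L156476 : sm gg N19720 = N19752 := ded_17_0 L156474 (flp_g L156240) (flp_b L107995) L108001 L156250
theorem L156478 : sm gg N14512 = N19753 := rfl
theorem L156480 : sm ge N19753 = N14757 := ded_26_1 (flp_g L109291) (flp_e L108107) L156478
theorem L156482 : sm gb N14513 = N19754 := rfl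
theorem L156484 : sm ge N19754 = N14758 := ded_15_2 (flp_b L109293) (flp_e L108113) L156482
theorem L156486 : sm gd N14513 = N19755 := rfl
theorem L156488 : sm ga N19755 = N14515 := ded_9_1 (flp_d L108123) (flp_a L108111) L156486
theorem L156490 : sm gf N14513 = N19756 := rfl
theorem L156492 : sm ga N19756 = N14516 := ded_11_1 (flp_f L108127) (flp_a L108111) L156490
theorem L156494 : sm gc N19756 = N14514 := ded_20_1 (flp_f L108115) L108109 L156490
theorem L156496 : sm ge N19756 = N14760 := ded_25_1 (flp_f L109299) (flp_e L108113) L156490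
theorem L156498 : sm gg N19745 = N19756 := ded_29_1 (flp_f L156490) (flp_g L156420) L156416 L156426
theorem L156500 : sm gc N14515 = N19757 := rfl
theorem L156502 : sm ge N14515 = N19758 := rfl
theorem L156504 : sm gb N19758 = N14543 := ded_15_1 (flp_e L108275) (flp_b L108125) L156502
theorem L156506 : sm gd N19758 = N14763 := ded_22_1 (flp_e L109315) (flp_d L92006) (flp_e L91439) L108123 L156502
theorem L156508 : sm gf N14515 = N19759 := rfl
theorem L156510 : sm gd N19759 = N14516 := ded_23_1 (flp_f L108127) L108123 L156508
theorem L156512 : sm gb N19759 = N19759 := ded_16_1 (flp_f L156508) L108125 L91524 (flp_b L108125) L156508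
theorem L156513 : sm gg N14516 = N19760 := rfl
theorem L156515 : sm ga N19760 = N19745 := ded_12_1 L156498 L156492 L156513
theorem L156517 : sm gc N19760 = N14517 := ded_21_1 (flp_g L108134) (flp_c L108129) L156513
theorem L156519 : sm ge N19760 = N14765 := ded_26_1 (flp_g L109324) (flp_e L108131) L156513
theorem L156521 : sm gf N19743 = N19760 := ded_29_0 (flp_g L156513) (flp_f L108127) (flp_g L108095) (flp_a L156416)
theorem L156523 : sm gb N14517 = N19761 := rfl
theorem L156525 : sm ge N19761 = N14766 := ded_15_2 (flp_b L109332) (flp_e L108138) L156523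
theorem L156527 : sm gg N19761 = N19576 := ded_17_2 (flp_b L155202) (flp_g L107375) (flp_b L91447) L108134 L156523
theorem L156529 : sm gg N14518 = N19762 := rfl
theorem L156531 : sm ga N19762 = N14521 := ded_12_1 (flp_g L108154) L108142 L156529
theorem L156533 : sm gc N19762 = N18603 := ded_21_1 L149311 (flp_c L112145) L156529
theorem L156535 : sm gd N19762 = N19393 := ded_24_1 (flp_g L156178) L156174 L156529
theorem L156537 : sm ge N19762 = N14769 := ded_26_1 (flp_g L109344) (flp_e L108144) L156529
theorem L156539 : sm gb N19762 = N19546 := ded_17_1 L154972 L155108 (flp_g L155116) L118398 L156529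
theorem L156541 : sm gf N14519 = N19763 := rfl
theorem L156543 : sm gc N19763 = N14520 := ded_20_1 (flp_f L108150) L108146 L156541
theorem L156545 : sm ge N19763 = N14772 := ded_25_1 (flp_f L109354) (flp_e L108148) L156541
theorem L156547 : sm gb N14520 = N19764 := rfl
theorem L156549 : sm ge N19764 = N14774 := ded_15_2 (flp_b L109362) (flp_e L108152) L156547
theorem L156551 : sm gf N19764 = N14525 := ded_16_2 (flp_b L108176) (flp_f L91459) L91449 L108150 L156547
theorem L156553 : sm gg N14520 = N19765 := rfl
theorem L156555 : sm ge N19765 = N14775 := ded_26_1 (flp_g L109366) (flp_e L108152) L156553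
theorem L156557 : sm gf N19762 = N19765 := ded_29_0 (flp_g L156553) (flp_f L108150) L108154 (flp_a L156531)
theorem L156559 : sm gf N14521 = N19766 := rfl
theorem L156561 : sm ga N19766 = N19765 := ded_11_1 (flp_f L156557) L156531 L156559
theorem L156563 : sm gc N19766 = N18610 := ded_20_1 (flp_f L143569) (flp_c L147923) L156559
theorem L156565 : sm gd N19766 = N19397 := ded_23_1 (flp_f L153894) (flp_d L147925) L156559
theorem L156567 : sm ge N19766 = N14776 := ded_25_1 (flp_f L109370) (flp_e L108156) L156559
theorem L156569 : sm gg N19766 = N19363 := ded_29_3 (flp_a L153634) (flp_f L108150) L108154 L156559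
theorem L156571 : sm gb N19766 = N19358 := ded_31_2 (flp_g L153592) L120309 (flp_b L107915) L107923 L107933 (flp_b L107871) (flp_g L107865) (flp_f L107851) (flp_b L107845) L91465 (flp_f L91459) L91449 L108154 L156559
theorem L156573 : sm gd N14522 = N19767 := rfl
theorem L156575 : sm ga N19767 = N18771 := ded_9_1 L144505 L149309 L156573
theorem L156577 : sm gb N19767 = N14523 := ded_14_1 (flp_d L108162) L108158 L156573
theorem L156579 : sm gg N19767 = N18872 := ded_24_2 L145078 (flp_g L149482) L156573
theorem L156581 : sm ge N19767 = N18770 := ded_22_2 (flp_d L144495) L103937 L148008 (flp_e L108160) L156573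
theorem L156583 : sm gc N18999 = N19767 := ded_28_0 (flp_d L156573) (flp_c L149307) (flp_d L144505) L150906 (flp_d L104625) L89457 L104625 (flp_a L145807)
theorem L156585 : sm gc N14523 = N19768 := rfl
theorem L156587 : sm ga N19768 = N14526 := ded_8_1 (flp_c L108180) (flp_a L108164) L156585
theorem L156589 : sm gd N19768 = N19714 := ded_28_7 L156200 (flp_c L115900) L95588 (flp_c L150312) L91379 L91453 L108162 L156585
theorem L156591 : sm ge N14523 = N19769 := rfl
theorem L156593 : sm ga N19769 = N14527 := ded_10_1 (flp_e L108184) (flp_a L108164) L156591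
theorem L156595 : sm gb N19769 = N18770 := ded_15_1 (flp_e L156581) L156577 L156591
theorem L156597 : sm gd N19769 = N14782 := ded_22_1 (flp_e L109392) (flp_d L92031) (flp_e L91457) L108162 L156591
theorem L156599 : sm gf N14523 = N19770 := rfl
theorem L156601 : sm ga N19770 = N14528 := ded_11_1 (flp_f L108190) (flp_a L108164) L156599
theorem L156603 : sm gd N19770 = N14524 := ded_23_1 (flp_f L108166) L108162 L156599
theorem L156605 : sm gg N19685 = N19770 := ded_29_1 (flp_f L156599) (flp_g L155934) L155932 L155948
theorem L156607 : sm gb N14524 = N19771 := rfl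
theorem L156609 : sm ge N19771 = N14784 := ded_15_2 (flp_b L109404) (flp_e L108172) L156607
theorem L156611 : sm ga N14525 = N19772 := rfl
theorem L156613 : sm gd N19772 = N19572 := ded_9_2 L156196 L156192 L156611
theorem L156615 : sm ge N19772 = N14785 := ded_10_2 (flp_a L109406) (flp_e L108178) L156611
theorem L156617 : sm gb N19563 = N19772 := ded_14_3 L156613 (flp_b L155180) (flp_d L155102)
theorem L156619 : sm gc N14525 = N19773 := rfl
theorem L156621 : sm ge N19773 = N14786 := ded_19_2 (flp_c L109408) (flp_e L108178) L156619
theorem L156623 : sm gg N14525 = N19774 := rfl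
theorem L156625 : sm ge N19774 = N14787 := ded_26_1 (flp_g L109410) (flp_e L108178) L156623
theorem L156627 : sm gb N19774 = N19689 := ded_17_1 (flp_g L155972) (flp_b L107845) L91465 L108176 L156623
theorem L156629 : sm ge N14526 = N19775 := rfl
theorem L156631 : sm gb N19775 = N15077 := ded_15_1 (flp_e L111011) (flp_b L108182) L156629
theorem L156633 : sm gc N19775 = N14527 := ded_19_1 (flp_e L108184) L108180 L156629
theorem L156635 : sm gf N14526 = N19776 := rfl
theorem L156637 : sm gc N19776 = N14528 := ded_20_1 (flp_f L108190) L108180 L156635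
theorem L156639 : sm gf N14527 = N19777 := rfl
theorem L156641 : sm gd N19777 = N14792 := ded_23_1 (flp_f L109432) (flp_d L108188) L156639
theorem L156643 : sm ge N19777 = N14528 := ded_25_1 (flp_f L108190) L108184 L156639
theorem L156645 : sm gg N14528 = N19778 := rfl
theorem L156647 : sm ga N19778 = N19685 := ded_12_1 L156605 L156601 L156645
theorem L156649 : sm gd N19778 = N14529 := ded_24_1 (flp_g L108194) (flp_d L108192) L156645
theorem L156651 : sm gf N19682 = N19778 := ded_29_0 (flp_g L156645) (flp_f L108190) (flp_g L107837) (flp_a L155932)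
theorem L156653 : sm gb N14529 = N19779 := rfl
theorem L156655 : sm ge N19779 = N14794 := ded_15_2 (flp_b L109444) (flp_e L108200) L156653
theorem L156657 : sm gb N14530 = N19780 := rfl
theorem L156659 : sm ge N19780 = N14795 := ded_15_2 (flp_b L109446) (flp_e L108206) L156657
theorem L156661 : sm gc N14530 = N19781 := rfl
theorem L156663 : sm ga N19781 = N14531 := ded_8_1 (flp_c L108210) L108204 L156661
theorem L156665 : sm ge N19781 = N14796 := ded_19_2 (flp_c L109448) (flp_e L108206) L156661
theorem L156667 : sm gf N19781 = N14535 := ded_20_2 (flp_c L108228) (flp_f L108208) L156661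
theorem L156669 : sm gd N14531 = N19782 := rfl
theorem L156671 : sm gf N19782 = N14537 := ded_23_2 (flp_d L108242) (flp_f L108214) L156669
theorem L156673 : sm gg N14531 = N19783 := rfl
theorem L156675 : sm gc N19783 = N14532 := ded_21_1 (flp_g L108216) L108210 L156673
theorem L156677 : sm ge N19783 = N14798 := ded_26_1 (flp_g L109458) (flp_e L108212) L156673
theorem L156679 : sm gb N14532 = N19784 := rfl
theorem L156681 : sm gd N19784 = N19752 := ded_14_2 L156474 L156246 L156679
theorem L156683 : sm ge N19784 = N14799 := ded_15_2 (flp_b L109462) (flp_e L108218) L156679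
theorem L156685 : sm gf N19784 = N19708 := ded_16_2 (flp_b L156144) L156152 (flp_b L156164) L108240 L156679
theorem L156687 : sm gg N19784 = N14533 := ded_17_2 (flp_b L108220) (flp_g L91483) L91477 L108216 L156679
theorem L156689 : sm ga N14533 = N19785 := rfl
theorem L156691 : sm ge N19785 = N14800 := ded_10_2 (flp_a L109466) (flp_e L108222) L156689
theorem L156693 : sm gc N14533 = N19786 := rfl
theorem L156695 : sm ge N19786 = N14801 := ded_19_2 (flp_c L109468) (flp_e L108222) L156693
theorem L156697 : sm gf N14533 = N19787 := rfl
theorem L156699 : sm ge N19787 = N14802 := ded_25_1 (flp_f L109470) (flp_e L108222) L156697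
theorem L156701 : sm gb N19787 = N19680 := ded_16_1 (flp_f L155912) (flp_b L107821) L91489 L108220 L156697
theorem L156703 : sm ga N14534 = N19788 := rfl
theorem L156705 : sm ge N19788 = N14803 := ded_10_2 (flp_a L109474) (flp_e L108226) L156703
theorem L156707 : sm gb N19788 = N19750 := ded_7_2 (flp_a L156454) (flp_b L108105) (flp_a L91433) (flp_b L43398) (flp_a L20775) L43416 L91491 L108224 L156703
theorem L156709 : sm gc N15125 = N19788 := ded_19_3 L156705 L120555 (flp_e L111279)
theorem L156711 : sm gg N19309 = N19788 := ded_26_0 L156705 (flp_g L150470) (flp_e L153181)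
theorem L156713 : sm gc N14534 = N19789 := rfl
theorem L156715 : sm ga N19789 = N15125 := ded_8_1 L156709 (flp_a L156703) L156713
theorem L156717 : sm ge N19789 = N14804 := ded_19_2 (flp_c L109478) (flp_e L108226) L156713
theorem L156719 : sm gf N14534 = N19790 := rfl
theorem L156721 : sm ge N19790 = N14805 := ded_25_1 (flp_f L109480) (flp_e L108226) L156719
theorem L156723 : sm gg N14534 = N19791 := rfl
theorem L156725 : sm ga N19791 = N19309 := ded_12_1 L156711 (flp_a L156703) L156723
theorem L156727 : sm gd N19791 = N19746 := ded_24_1 L156438 L156256 L156723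
theorem L156729 : sm ge N19791 = N14806 := ded_26_1 (flp_g L109482) (flp_e L108226) L156723
theorem L156731 : sm gb N19791 = N19706 := ded_17_1 (flp_g L156162) (flp_b L156164) (flp_g L108234) L108224 L156723
theorem L156733 : sm gf N19707 = N19791 := ded_23_0 L156727 L156436 (flp_d L156142)
theorem L156735 : sm gb N14535 = N19792 := rfl
theorem L156737 : sm ge N19792 = N14807 := ded_15_2 (flp_b L109484) (flp_e L108232) L156735
theorem L156739 : sm gd N14535 = N19793 := rfl
theorem L156741 : sm ga N19793 = N14537 := ded_9_1 (flp_d L108242) (flp_a L108230) L156739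
theorem L156743 : sm gg N14535 = N19794 := rfl
theorem L156745 : sm ga N19794 = N14538 := ded_12_1 (flp_g L108246) (flp_a L108230) L156743
theorem L156747 : sm gc N19794 = N14536 := ded_21_1 (flp_g L108234) L108228 L156743
theorem L156749 : sm ge N19794 = N14809 := ded_26_1 (flp_g L109490) (flp_e L108232) L156743
theorem L156751 : sm gf N19794 = N19783 := ded_29_2 (flp_g L156673) (flp_a L156663) L156667 L156743
theorem L156753 : sm gc N14537 = N19795 := rfl
theorem L156755 : sm ge N14537 = N19796 := rfl
theorem L156757 : sm gb N19796 = N14547 := ded_15_1 (flp_e L108294) (flp_b L108244) L156755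
theorem L156759 : sm gd N19796 = N14812 := ded_22_1 (flp_e L109502) (flp_d L92087) (flp_e L91497) L108242 L156755
theorem L156761 : sm gg N14537 = N19797 := rfl
theorem L156763 : sm gd N19797 = N14538 := ded_24_1 (flp_g L108246) L108242 L156761
theorem L156765 : sm gb N19797 = N19797 := ded_17_1 (flp_g L156761) L108244 L91542 (flp_b L108244) L156761
theorem L156766 : sm gf N14538 = N19798 := rfl
theorem L156768 : sm ga N19798 = N19783 := ded_11_1 (flp_f L156751) L156745 L156766
theorem L156770 : sm gc N19798 = N14539 := ded_20_1 (flp_f L108253) (flp_c L108248) L156766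
theorem L156772 : sm ge N19798 = N14814 := ded_25_1 (flp_f L109511) (flp_e L108250) L156766
theorem L156774 : sm gg N19798 = N19781 := ded_29_3 L156663 L108214 L108246 L156766
theorem L156776 : sm gb N14539 = N19799 := rfl
theorem L156778 : sm ge N19799 = N14815 := ded_15_2 (flp_b L109519) (flp_e L108257) L156776
theorem L156780 : sm gf N19799 = N19572 := ded_16_2 (flp_b L155180) (flp_f L107353) (flp_b L91505) L108253 L156776
theorem L156782 : sm ga N14540 = N19800 := rfl
theorem L156784 : sm gc N19800 = N15119 := ded_8_2 (flp_a L111249) (flp_c L108265) L156782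
theorem L156786 : sm ge N19800 = N14821 := ded_10_2 (flp_a L109553) (flp_e L108263) L156782
theorem L156788 : sm gd N14540 = N19801 := rfl
theorem L156790 : sm gb N19801 = N14541 := ded_14_1 (flp_d L108267) L108261 L156788
theorem L156792 : N16427 = N18854 := coi_32_19 (flp_c L144971) L104185 (flp_d L89343) (flp_c L38830) L18457 L18527 L58920 L18529 (flp_d L141660) (flp_c L10090) L5104 L5229 (flp_b L8777) L18035 (flp_c L81726) L19491 L9405 (flp_b L64752) (flp_d L9047) L18663 L132431 (flp_c L20986) (flp_b L70532) L5374 (flp_c L5577) (flp_d L140375) (flp_c L140496) L140494 (flp_d L140501) (flp_c L910) L422 L443 L447 L445 L140459 (flp_c L443) (flp_d L422) L910 (flp_b L1774) L3487 L140496 L140375 L5577 L70553 (flp_d L10088) L20986 (flp_d L132431) (flp_c L18663) (flp_b L82526) L82528 (flp_c L9405) (flp_d L19491) L81726 L139795 (flp_d L141713) (flp_c L5229) (flp_d L5104) L10090 L10092 (flp_e L20870) L43599 L91550 L108318 (flp_c L108323) (flp_b L156790) (flp_d L156788) L108265 (flp_d L96780) (flp_c L118071) (flp_b L118069) L118073 (flp_c L118077) (flp_d L116819) (flp_c L95995)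 L95989 L95991 L96534 L117993
theorem L156793 : N18854 = N16427 := (eqc rfl L156792 rfl).symm
theorem L156794 : sm gc N16427 = N13731 := trfs L156793 (flp_c L144971) rfl
theorem L156796 : N12187 = N18792 := coi_28_4 (flp_c L144613) L104011 L104169 L144953 L144955 (flp_c L156794) (flp_d L117993) (flp_c L96534) (flp_d L95991)
theorem L156797 : N18792 = N12187 := (eqc rfl L156796 rfl).symm
theorem L156798 : sm ga N12187 = N13702 := trfs L156797 L144615 rfl
theorem L156799 : N13702 = N16230 := eqes L156798 L116791
theorem L156800 : N16230 = N13702 := (eqc rfl L156799 rfl).symm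
theorem L156801 : sm gc N12187 = N13701 := trfs L156797 (flp_c L144613) rfl
theorem L156802 : N13701 = N16231 := eqes L156801 L116799
theorem L156803 : N16231 = N13701 := (eqc rfl L156802 rfl).symm
theorem L156804 : sm ge N12187 = N18807 := trfs L156797 (flp_e L144699) rfl
theorem L156805 : N18807 = N12164 := eqes L156804 L95993
theorem L156806 : N18807 = N12164 := eqc rfl L156805 rfl
theorem L156807 : sm ga N12164 = N13710 := trfs L156806 L144697 rfl
theorem L156808 : N13710 = N16185 := eqes L156807 L116585
theorem L156809 : N16185 = N13710 := (eqc rfl L156808 rfl).symm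
theorem L156810 : sm gc N12164 = N13709 := trfs L156806 (flp_c L144695) rfl
theorem L156811 : N13709 = N16186 := eqes L156810 L116589
theorem L156812 : N16186 = N13709 := (eqc rfl L156811 rfl).symm
theorem L156813 : sm gc N13709 = N12164 := trfs L156812 (flp_c L116589) rfl
theorem L156816 : sm ga N13710 = N12164 := trfs L156809 (flp_a L116585) rfl
theorem L156819 : sm gd N13710 = N12231 := trfs L156809 L116587 rfl
theorem L156820 : N12231 = N18809 := eqes L156819 L144711
theorem L156821 : N18809 = N12231 := (eqc rfl L156820 rfl).symm
theorem L156826 : sm gd N12231 = N13710 := trfs L156821 (flp_d L144711) rfl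
theorem L156830 : sm gc N13701 = N12187 := trfs L156803 (flp_c L116799) rfl
theorem L156832 : sm ga N13702 = N12187 := trfs L156800 (flp_a L116791) rfl
theorem L156834 : sm gd N13702 = N12283 := trfs L156800 L116793 rfl
theorem L156836 : sm gc N16187 = N18802 := ded_20_3 L144671 L156813 L116591
theorem L156838 : sm gc N16188 = N18808 := ded_21_3 (flp_g L144701) L156813 L116595
theorem L156840 : sm gc N16189 = N18806 := ded_13_4 (flp_b L144689) L156813 (flp_b L95882) L95886 L116599
theorem L156842 : N18901 = N16324 := coi_28_1 (flp_d L117379) (flp_c L96247) (flp_d L95884) (flp_c L156813) L104063 L104290 L145212 L145214 L145230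
theorem L156843 : N18901 = N16324 := eqc rfl L156842 rfl
theorem L156844 : sm gc N16324 = N13753 := trfs L156843 (flp_c L145230) rfl
theorem L156846 : sm ga N16196 = N16219 := ded_30_7 L116740 (flp_c L116736) (flp_b L95954) (flp_a L95935) (flp_f L95933) (flp_c L84615) L84611 (flp_a L96440) L104037 L104041 L104045 L144665 L144671 L156813 (flp_b L95882) (flp_a L84598) L84605 (flp_c L95903) L116626
theorem L156848 : sm ga N16187 = N18803 := ded_11_3 L144677 L156816 L116591
theorem L156850 : sm ga N16188 = N18810 := ded_12_3 (flp_g L144715) L156816 L116595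
theorem L156852 : N16218 = N15031 := coi_30_16 L110718 (flp_c L116628) (flp_b L116626) (flp_a L116607) (flp_f L116605) (flp_c L95886) L95882 (flp_a L156816) (flp_f L144677) (flp_c L144673) (flp_b L104045) (flp_a L104029) (flp_f L104027) L96436 (flp_b L84611) (flp_a L24999) L25006 (flp_c L84632) L95954 L116733
theorem L156853 : N16218 = N15031 := eqc rfl L156852 rfl
theorem L156854 : sm ga N15031 = N12181 := trfs L156853 (flp_a L116733) rfl
theorem L156857 : sm gd N18803 = N16321 := ded_23_3 (flp_f L117357) L156826 (flp_f L144677)
theorem L156859 : sm gd N18810 = N16322 := ded_24_3 (flp_g L117363) L156826 L144715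
theorem L156861 : sm gc N16232 = N18793 := ded_20_3 (flp_f L144617) L156830 L116803
theorem L156863 : sm gc N16233 = N18787 := ded_21_3 L144595 L156830 L116809
theorem L156865 : sm gc N16234 = N18791 := ded_13_4 (flp_b L144609) L156830 (flp_b L95989) L95995 L116815
theorem L156867 : sm ga N16232 = N18795 := ded_11_3 (flp_f L144627) L156832 L116803
theorem L156869 : sm ga N16233 = N18788 := ded_12_3 L144599 L156832 L116809
theorem L156871 : sm gd N16424 = N18795 := ded_23_3 (flp_f L144627) L156834 L117971
theorem L156873 : sm gd N16425 = N18788 := ded_24_3 L144599 L156834 L117981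
theorem L156875 : sm gf N14540 = N19802 := rfl
theorem L156877 : sm gc N19802 = N15116 := ded_20_1 L111231 (flp_c L108265) L156875
theorem L156879 : sm ge N19802 = N14823 := ded_25_1 (flp_f L109561) (flp_e L108263) L156875
theorem L156881 : sm gb N19802 = N19802 := ded_16_1 (flp_f L156875) (flp_b L108261) L91521 L108261 L156875
theorem L156882 : sm gg N14540 = N19803 := rfl
theorem L156884 : sm gc N19803 = N15120 := ded_21_1 (flp_g L111253) (flp_c L108265) L156882
theorem L156886 : sm ge N19803 = N14824 := ded_26_1 (flp_g L109566) (flp_e L108263) L156882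
theorem L156888 : sm ge N14541 = N19804 := rfl
theorem L156890 : sm ga N19804 = N14543 := ded_10_1 (flp_e L108275) (flp_a L108269) L156888
theorem L156892 : sm gf N19804 = N19804 := ded_25_2 (flp_e L156888) L108271 L156888
theorem L156893 : sm gd N19804 = N14825 := ded_22_1 (flp_e L109570) (flp_d L92118) (flp_e L91519) L108267 L156888
theorem L156895 : sm gb N14542 = N19805 := rfl
theorem L156897 : sm ge N14542 = N19806 := rfl
theorem L156899 : sm gc N19806 = N14543 := ded_19_1 (flp_e L108275) L108272 L156897
theorem L156901 : sm gf N19806 = N19806 := ded_25_2 (flp_e L156897) L108274 L156897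
theorem L156902 : sm gd N19806 = N18942 := ded_22_1 (flp_e L145476) L104596 (flp_e L142788) (flp_d L108304) L156897
theorem L156904 : sm ga N14544 = N19807 := rfl
theorem L156906 : sm gc N19807 = N15099 := ded_8_2 (flp_a L111133) (flp_c L108284) L156904
theorem L156908 : sm ge N19807 = N14833 := ded_10_2 (flp_a L109612) (flp_e L108282) L156904
theorem L156910 : sm gd N14544 = N19808 := rfl
theorem L156912 : sm gb N19808 = N14545 := ded_14_1 (flp_d L108286) L108280 L156910
theorem L156914 : sm gf N14544 = N19809 := rfl
theorem L156916 : sm gc N19809 = N15100 := ded_20_1 (flp_f L111137) (flp_c L108284) L156914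
theorem L156918 : sm ge N19809 = N14835 := ded_25_1 (flp_f L109620) (flp_e L108282) L156914
theorem L156920 : sm gg N14544 = N19810 := rfl
theorem L156922 : sm gc N19810 = N15097 := ded_21_1 L111122 (flp_c L108284) L156920
theorem L156924 : sm ge N19810 = N14836 := ded_26_1 (flp_g L109624) (flp_e L108282) L156920
theorem L156926 : sm gb N19810 = N19810 := ded_17_1 (flp_g L156920) (flp_b L108280) L91539 L108280 L156920
theorem L156927 : sm ge N14545 = N19811 := rfl
theorem L156929 : sm ga N19811 = N14547 := ded_10_1 (flp_e L108294) (flp_a L108288) L156927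
theorem L156931 : sm gg N19811 = N19811 := ded_26_2 (flp_e L156927) L108290 L156927
theorem L156932 : sm gd N19811 = N14837 := ded_22_1 (flp_e L109629) (flp_d L92145) (flp_e L91537) L108286 L156927
theorem L156934 : sm gb N14546 = N19812 := rfl
theorem L156936 : sm ge N14546 = N19813 := rfl
theorem L156938 : sm gc N19813 = N14547 := ded_19_1 (flp_e L108294) L108291 L156936
theorem L156940 : sm gg N19813 = N19813 := ded_26_2 (flp_e L156936) L108293 L156936
theorem L156941 : sm gd N19813 = N18982 := ded_22_1 (flp_e L145708) L104687 L142784 (flp_d L108335) L156936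
theorem L156943 : sm gb N14548 = N19814 := rfl
theorem L156945 : sm gd N19814 = N19805 := ded_14_2 (flp_b L156895) L108304 L156943
theorem L156947 : sm ge N19814 = N18992 := ded_15_2 (flp_b L145776) (flp_e L142788) L156943
theorem L156949 : sm gc N19814 = N16524 := ded_13_2 (flp_b L118613) (flp_c L96836) (flp_b L91547) L108299 L156943
theorem L156951 : sm ga N14550 = N19815 := rfl
theorem L156953 : sm gc N19815 = N19815 := ded_8_2 (flp_a L156951) L108317 L156951
theorem L156954 : sm ge N19815 = N18993 := ded_10_2 (flp_a L145780) (flp_e L142790) L156951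
theorem L156956 : sm gd N14550 = N19816 := rfl
theorem L156958 : sm gb N19816 = N14551 := ded_14_1 (flp_d L108318) L108315 L156956
theorem L156960 : sm gf N14550 = N19817 := rfl
theorem L156962 : sm gc N19817 = N19817 := ded_20_1 (flp_f L156960) L108317 L156960
theorem L156963 : sm ge N19817 = N18995 := ded_25_1 (flp_f L145787) (flp_e L142790) L156960
theorem L156965 : sm gb N19817 = N19817 := ded_16_1 (flp_f L156960) (flp_b L108315) L91552 L108315 L156960
theorem L156966 : sm gg N14550 = N19818 := rfl
theorem L156968 : sm gc N19818 = N19818 := ded_21_1 (flp_g L156966) L108317 L156966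
theorem L156969 : sm ge N19818 = N18996 := ded_26_1 (flp_g L145791) (flp_e L142790) L156966
theorem L156971 : sm ge N14551 = N19819 := rfl
theorem L156973 : sm ga N19819 = N19806 := ded_10_1 (flp_e L156897) (flp_a L108320) L156971
theorem L156975 : sm gc N19819 = N19804 := ded_19_1 (flp_e L156888) L108323 L156971
theorem L156977 : sm gf N19819 = N19819 := ded_25_2 (flp_e L156971) L108322 L156971
theorem L156978 : sm gd N19819 = N18997 := ded_22_1 (flp_e L145794) (flp_d L104608) L141626 L108318 L156971
theorem L156980 : sm gb N14553 = N19820 := rfl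
theorem L156982 : sm gd N19820 = N19812 := ded_14_2 (flp_b L156934) L108335 L156980
theorem L156984 : sm ge N19820 = N19012 := ded_15_2 (flp_b L145898) L142784 L156980
theorem L156986 : sm gc N19820 = N16518 := ded_13_2 (flp_b L118566) (flp_c L96807) (flp_b L91563) L108330 L156980
theorem L156988 : sm ga N14555 = N19821 := rfl
theorem L156990 : sm gc N19821 = N19821 := ded_8_2 (flp_a L156988) L108348 L156988
theorem L156991 : sm ge N19821 = N19013 := ded_10_2 (flp_a L145904) L142786 L156988
theorem L156993 : sm gd N14555 = N19822 := rfl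
theorem L156995 : sm gb N19822 = N14556 := ded_14_1 (flp_d L108349) L108346 L156993
theorem L156997 : sm gf N14555 = N19823 := rfl
theorem L156999 : sm gc N19823 = N19823 := ded_20_1 (flp_f L156997) L108348 L156997
theorem L157000 : sm ge N19823 = N19015 := ded_25_1 (flp_f L145911) L142786 L156997
theorem L157002 : sm gg N14555 = N19824 := rfl
theorem L157005 : sm ge N19824 = N19016 := ded_26_1 (flp_g L145914) L142786 L157002
theorem L157008 : sm ge N14556 = N19825 := rfl
theorem L157010 : sm ga N19825 = N19813 := ded_10_1 (flp_e L156936) (flp_a L108351) L157008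
theorem L157012 : sm gc N19825 = N19811 := ded_19_1 (flp_e L156927) L108354 L157008
theorem L157014 : sm gg N19825 = N19825 := ded_26_2 (flp_e L157008) L108353 L157008
theorem L157015 : sm gd N19825 = N19017 := ded_22_1 (flp_e L145918) (flp_d L104701) (flp_e L141613) L108349 L157008
theorem L157017 : sm gb N14573 = N19826 := rfl
theorem L157019 : sm gd N19826 = N18664 := ded_14_2 (flp_b L143873) L119513 L157017
theorem L157021 : sm ge N19826 = N19707 := ded_15_2 (flp_b L156140) (flp_e L108455) L157017
theorem L157023 : sm gf N19826 = N14806 := ded_16_2 (flp_b L155502) L156030 (flp_b L156020) L108457 L157017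
theorem L157025 : sm gg N19826 = N18666 := ded_17_2 (flp_b L143889) (flp_g L103580) L119578 L108449 L157017
theorem L157027 : sm ga N19826 = N19305 := ded_7_1 (flp_b L153155) (flp_a L151248) (flp_b L107587) (flp_a L155433) (flp_b L155437) L108703 L91768 (flp_a L108451) L157017
theorem L157029 : sm gb N14576 = N19827 := rfl
theorem L157031 : sm gd N19827 = N18686 := ded_14_2 (flp_b L144001) (flp_d L148096) L157029
theorem L157033 : sm ge N19827 = N19720 := ded_15_2 (flp_b L156250) (flp_e L108469) L157029
theorem L157035 : sm gf N19827 = N18691 := ded_16_2 (flp_b L144039) (flp_f L103676) L147842 L108465 L157029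
theorem L157037 : sm gg N19827 = N14756 := ded_17_2 L112186 (flp_g L156050) (flp_b L156040) L108471 L157029
theorem L157039 : sm ga N19827 = N19249 := ded_7_1 (flp_b L152744) (flp_a L120525) (flp_b L107601) (flp_a L155478) L155482 L108631 L91736 (flp_a L108467) L157029
theorem L157041 : sm ga N14584 = N19828 := rfl
theorem L157043 : sm gd N19828 = N14606 := ded_9_2 (flp_a L108613) (flp_d L108509) L157041
theorem L157045 : sm gg N19828 = N14585 := ded_12_2 (flp_a L108513) (flp_g L108511) L157041
theorem L157047 : sm gc N14584 = N19829 := rfl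
theorem L157049 : sm gg N19829 = N14586 := ded_21_2 (flp_c L108517) (flp_g L108511) L157047
theorem L157051 : sm gf N14584 = N19830 := rfl
theorem L157053 : sm gd N19830 = N14608 := ded_23_1 (flp_f L108621) (flp_d L108509) L157051
theorem L157055 : sm gb N14585 = N19831 := rfl
theorem L157057 : sm gd N19831 = N14609 := ded_14_2 (flp_b L108623) (flp_d L108515) L157055
theorem L157059 : sm gc N14585 = N19832 := rfl
theorem L157061 : sm ga N19832 = N14586 := ded_8_1 (flp_c L108517) L108513 L157059
theorem L157063 : sm gf N14585 = N19833 := rfl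
theorem L157065 : sm ga N19833 = N14587 := ded_11_1 (flp_f L108519) L108513 L157063
theorem L157067 : sm gd N19833 = N14611 := ded_23_1 (flp_f L108629) (flp_d L108515) L157063
theorem L157069 : sm gg N19830 = N19833 := ded_29_1 (flp_f L157063) (flp_g L157045) (flp_a L157041) L157051
theorem L157071 : N19832 = N17357 := coi_30_2 (flp_b L124459) L99161 (flp_f L147452) L136985 (flp_b L29198) L14083 L6898 (flp_c L6896) (flp_b L6592) (flp_a L13406) L77879 L21406 L44573 L92229 L109782 (flp_c L148100) (flp_b L108523) (flp_a L157065) (flp_f L157063) L157059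
theorem L157072 : N19832 = N17357 := eqc rfl L157071 rfl
theorem L157073 : sm ga N17357 = N14586 := trfs L157072 L157061 rfl
theorem L157075 : sm gc N17357 = N14585 := trfs L157072 (flp_c L157059) rfl
theorem L157077 : sm ga N14594 = N17433 := ded_10_3 L149041 L157073 (flp_e L108559)
theorem L157079 : sm gc N14593 = N17433 := ded_19_3 L149041 L157075 (flp_e L108555)
theorem L157081 : N19831 = N17587 := coi_13_2 (flp_c L125654) (flp_b L99951) (flp_c L99163) L124459 L157075 L157055
theorem L157082 : N19831 = N17587 := eqc rfl L157081 rfl
theorem L157083 : sm gb N17587 = N14585 := trfs L157082 (flp_b L157055) rfl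
theorem L157085 : sm gd N17587 = N14609 := trfs L157082 L157057 rfl
theorem L157087 : sm gb N17760 = N14593 := ded_13_5 L157079 (flp_b L124850) L99385 L100373 L126460
theorem L157089 : sm gd N14628 = N17760 := ded_22_5 (flp_e L148846) L157085 (flp_e L155878) (flp_d L155980) L155982
theorem L157091 : sm gd N14586 = N19834 := rfl
theorem L157093 : sm gf N14586 = N19835 := rfl
theorem L157095 : sm gc N19835 = N14587 := ded_20_1 (flp_f L108519) L108517 L157093
theorem L157097 : sm gg N14587 = N19836 := rfl
theorem L157099 : sm ga N19836 = N19830 := ded_12_1 L157069 L157065 L157097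
theorem L157101 : sm gd N19836 = N14614 := ded_24_1 (flp_g L108643) (flp_d L108521) L157097
theorem L157103 : sm gf N19828 = N19836 := ded_29_0 (flp_g L157097) (flp_f L108519) (flp_g L108511) L157041
theorem L157105 : sm ga N14592 = N19837 := rfl
theorem L157107 : sm gd N19837 = N14625 := ded_9_2 (flp_a L108685) (flp_d L108545) L157105
theorem L157109 : sm ge N19837 = N19833 := ded_10_2 L157065 (flp_e L108547) L157105
theorem L157111 : sm gf N19837 = N14593 := ded_11_2 (flp_a L108551) (flp_f L108549) L157105
theorem L157113 : sm gc N14592 = N19838 := rfl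
theorem L157115 : sm ge N19838 = N19835 := ded_19_2 L157095 (flp_e L108547) L157113
theorem L157117 : sm gf N19838 = N14594 := ded_20_2 (flp_c L108557) (flp_f L108549) L157113
theorem L157119 : sm gg N14592 = N19839 := rfl
theorem L157121 : sm gd N19839 = N14627 := ded_24_1 (flp_g L108693) (flp_d L108545) L157119
theorem L157123 : sm ge N19839 = N19836 := ded_26_1 (flp_g L157097) (flp_e L108547) L157119
theorem L157125 : sm gg N14593 = N19840 := rfl
theorem L157127 : sm ga N19840 = N14595 := ded_12_1 (flp_g L108563) L108551 L157125
theorem L157129 : sm gd N19840 = N14630 := ded_24_1 (flp_g L108701) (flp_d L108553) L157125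
theorem L157131 : sm ge N19840 = N19828 := ded_26_1 L157045 (flp_e L108555) L157125
theorem L157133 : sm gf N19840 = N19839 := ded_29_2 (flp_g L157119) L157105 L157111 L157125
theorem L157135 : sm gd N14594 = N19841 := rfl
theorem L157137 : sm gb N19841 = N19834 := ded_14_1 (flp_d L157091) (flp_b L108561) L157135
theorem L157139 : sm gg N14594 = N19842 := rfl
theorem L157141 : sm gc N19842 = N14595 := ded_21_1 (flp_g L108563) L108557 L157139
theorem L157143 : sm ge N19842 = N19829 := ded_26_1 L157049 (flp_e L108559) L157139
theorem L157145 : sm gf N14595 = N19843 := rfl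
theorem L157147 : sm ga N19843 = N19839 := ded_11_1 (flp_f L157133) L157127 L157145
theorem L157149 : sm gd N19843 = N14633 := ded_23_1 (flp_f L108715) (flp_d L108565) L157145
theorem L157151 : sm ge N19843 = N19830 := ded_25_1 (flp_f L157051) (flp_e L108567) L157145
theorem L157153 : sm gg N19843 = N19837 := ded_29_3 (flp_a L157105) L108549 L108563 L157145
theorem L157155 : sm gg N14600 = N19844 := rfl
theorem L157157 : sm gc N19844 = N19248 := ded_21_1 (flp_g L152740) (flp_c L120277) L157155
theorem L157159 : sm gd N19844 = N19122 := ded_24_1 (flp_g L151952) L120394 L157155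
theorem L157161 : sm gf N19582 = N19844 := ded_29_0 (flp_g L157155) L119821 L151946 (flp_a L155254)
theorem L157163 : sm ge N14601 = N19845 := rfl
theorem L157165 : sm ga N19845 = N14603 := ded_10_1 (flp_e L108599) (flp_a L108591) L157163
theorem L157167 : sm gb N19845 = N18823 := ded_15_1 L144801 L119829 L157163
theorem L157169 : sm gc N19845 = N18185 := ded_19_1 L128745 L119429 L157163
theorem L157171 : sm gf N19845 = N14733 := ded_25_2 (flp_e L109203) (flp_f L108593) L157163
theorem L157173 : sm gg N14603 = N19846 := rfl
theorem L157175 : sm gc N19846 = N18186 := ded_21_1 (flp_g L128747) L119431 L157173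
theorem L157177 : sm ge N19846 = N14604 := ded_26_1 (flp_g L108605) L108599 L157173
theorem L157179 : sm gb N14604 = N19847 := rfl
theorem L157181 : sm gd N19847 = N14605 := ded_14_2 (flp_b L108609) (flp_d L108607) L157179
theorem L157183 : sm gg N19847 = N15193 := ded_17_2 (flp_b L111649) (flp_g L93257) (flp_b L91716) L108605 L157179
theorem L157185 : sm ga N14605 = N19848 := rfl
theorem L157187 : sm gg N19848 = N15194 := ded_12_2 (flp_a L111653) (flp_g L108611) L157185
theorem L157189 : sm gc N14605 = N19849 := rfl
theorem L157191 : sm gg N19849 = N15195 := ded_21_2 (flp_c L111655) (flp_g L108611) L157189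
theorem L157193 : sm gb N19849 = N14607 := ded_13_1 (flp_c L108617) (flp_b L91724) (flp_c L91722) L108609 L157189
theorem L157195 : sm gf N14605 = N19850 := rfl
theorem L157197 : sm gb N14606 = N19851 := rfl
theorem L157199 : sm gc N14606 = N19852 := rfl
theorem L157201 : sm ga N19852 = N14607 := ded_8_1 (flp_c L108617) L108613 L157199
theorem L157203 : sm gg N19852 = N14610 := ded_21_2 (flp_c L108625) (flp_g L108615) L157199
theorem L157205 : sm gd N14607 = N19853 := rfl
theorem L157207 : sm gg N19853 = N14612 := ded_24_2 (flp_d L108635) (flp_g L108619) L157205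
theorem L157209 : sm gf N14607 = N19854 := rfl
theorem L157211 : sm gc N19854 = N14608 := ded_20_1 (flp_f L108621) L108617 L157209
theorem L157213 : sm ga N14609 = N19855 := rfl
theorem L157215 : sm gg N19653 = N19855 := ded_29_3 (flp_a L157213) L155785 (flp_g L155781) (flp_f L155754)
theorem L157217 : sm gc N14609 = N19856 := rfl
theorem L157219 : sm gg N14609 = N19857 := rfl
theorem L157221 : sm ga N19857 = N19653 := ded_12_1 L157215 (flp_a L157213) L157219
theorem L157223 : sm gd N19857 = N17626 := ded_24_1 L149678 L157085 L157219
theorem L157225 : sm gf N19656 = N19857 := ded_29_0 (flp_g L157219) L155785 (flp_g L155781) L155774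
theorem L157227 : sm gb N14610 = N19858 := rfl
theorem L157229 : sm gd N14610 = N19859 := rfl
theorem L157231 : sm ga N19859 = N14612 := ded_9_1 (flp_d L108635) (flp_a L108627) L157229
theorem L157233 : sm gf N14610 = N19860 := rfl
theorem L157235 : sm ga N19860 = N14613 := ded_11_1 (flp_f L108639) (flp_a L108627) L157233
theorem L157237 : sm gc N19860 = N14611 := ded_20_1 (flp_f L108629) L108625 L157233
theorem L157239 : sm gg N19854 = N19860 := ded_29_1 (flp_f L157233) (flp_g L157203) L157201 L157209
theorem L157241 : sm gc N14612 = N19861 := rfl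
theorem L157243 : sm ge N14612 = N19862 := rfl
theorem L157245 : sm gb N19862 = N15206 := ded_15_1 (flp_e L111703) (flp_b L108637) L157243
theorem L157247 : sm gf N14612 = N19863 := rfl
theorem L157249 : sm gd N19863 = N14613 := ded_23_1 (flp_f L108639) L108635 L157247
theorem L157251 : sm gg N14613 = N19864 := rfl
theorem L157253 : sm ga N19864 = N19854 := ded_12_1 L157239 L157235 L157251
theorem L157255 : sm gc N19864 = N14614 := ded_21_1 (flp_g L108643) (flp_c L108641) L157251
theorem L157257 : sm gf N19852 = N19864 := ded_29_0 (flp_g L157251) (flp_f L108639) (flp_g L108619) (flp_a L157201)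
theorem L157259 : sm gb N14614 = N19865 := rfl
theorem L157261 : sm gg N19865 = N16716 := ded_17_2 (flp_b L121361) (flp_g L150364) (flp_b L91736) L108643 L157259
theorem L157263 : sm ga N19652 = N19865 := ded_12_3 L157261 L156056 L155746
theorem L157265 : sm gf N14619 = N19866 := rfl
theorem L157267 : sm gc N19866 = N19307 := ded_20_1 (flp_f L153167) (flp_c L149494) L157265
theorem L157269 : sm gd N19866 = N19192 := ded_23_1 (flp_f L152404) L150748 L157265
theorem L157271 : sm gg N19866 = N19583 := ded_29_3 L155262 (flp_f L152390) (flp_g L149484) L157265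
theorem L157273 : sm ge N14620 = N19867 := rfl
theorem L157275 : sm ga N19867 = N14622 := ded_10_1 (flp_e L108671) (flp_a L108663) L157273
theorem L157277 : sm gb N19867 = N18871 := ded_15_1 L145072 L149488 L157273
theorem L157279 : sm gc N19867 = N18187 := ded_19_1 L128753 (flp_c L147699) L157273
theorem L157281 : sm gg N19867 = N14782 := ded_26_2 (flp_e L109392) (flp_g L108665) L157273
theorem L157283 : sm gf N14622 = N19868 := rfl
theorem L157285 : sm gc N19868 = N18189 := ded_20_1 (flp_f L128759) (flp_c L147575) L157283
theorem L157287 : sm ge N19868 = N14623 := ded_25_1 (flp_f L108677) L108671 L157283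
theorem L157289 : sm gb N14623 = N19869 := rfl
theorem L157291 : sm gd N19869 = N14624 := ded_14_2 (flp_b L108681) (flp_d L108679) L157289
theorem L157293 : sm gf N19869 = N15226 := ded_16_2 (flp_b L111795) (flp_f L93343) (flp_b L91748) L108677 L157289
theorem L157295 : sm ga N14624 = N19870 := rfl
theorem L157297 : sm gf N19870 = N15227 := ded_11_2 (flp_a L111799) (flp_f L108683) L157295
theorem L157299 : sm gc N14624 = N19871 := rfl
theorem L157301 : sm gf N19871 = N15228 := ded_20_2 (flp_c L111801) (flp_f L108683) L157299
theorem L157303 : sm gb N19871 = N14626 := ded_13_1 (flp_c L108689) (flp_b L91756) (flp_c L91754) L108681 L157299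
theorem L157305 : sm gg N14624 = N19872 := rfl
theorem L157307 : sm gb N14625 = N19873 := rfl
theorem L157309 : sm gc N14625 = N19874 := rfl
theorem L157311 : sm ga N19874 = N14626 := ded_8_1 (flp_c L108689) L108685 L157309
theorem L157313 : sm gf N19874 = N14629 := ded_20_2 (flp_c L108697) (flp_f L108687) L157309
theorem L157315 : sm gd N14626 = N19875 := rfl
theorem L157317 : sm gf N19875 = N14631 := ded_23_2 (flp_d L108707) (flp_f L108691) L157315
theorem L157319 : sm gg N14626 = N19876 := rfl
theorem L157321 : sm gc N19876 = N14627 := ded_21_1 (flp_g L108693) L108689 L157319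
theorem L157323 : sm ga N14628 = N19877 := rfl
theorem L157325 : sm gf N19877 = N19645 := ded_29_0 L155718 L155735 (flp_g L155739) L157323
theorem L157327 : sm gb N19877 = N19855 := ded_7_2 (flp_a L157213) (flp_b L108623) (flp_a L91728) (flp_b L44042) (flp_a L21137) L44056 L91760 L108695 L157323
theorem L157329 : sm gc N14628 = N19878 := rfl
theorem L157331 : sm gf N14628 = N19879 := rfl
theorem L157333 : sm ga N19879 = N19645 := ded_11_1 (flp_f L157325) (flp_a L157323) L157331
theorem L157335 : sm gd N19879 = N17802 := ded_23_1 L149658 (flp_d L157089) L157331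
theorem L157337 : sm gg N19879 = N19647 := ded_29_3 (flp_a L155728) L155735 (flp_g L155739) L157331
theorem L157339 : sm gb N14629 = N19880 := rfl
theorem L157341 : sm gd N14629 = N19881 := rfl
theorem L157343 : sm ga N19881 = N14631 := ded_9_1 (flp_d L108707) (flp_a L108699) L157341
theorem L157345 : sm gg N14629 = N19882 := rfl
theorem L157347 : sm ga N19882 = N14632 := ded_12_1 (flp_g L108711) (flp_a L108699) L157345
theorem L157349 : sm gc N19882 = N14630 := ded_21_1 (flp_g L108701) L108697 L157345
theorem L157351 : sm gf N19882 = N19876 := ded_29_2 (flp_g L157319) (flp_a L157311) L157313 L157345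
theorem L157353 : sm gc N14631 = N19883 := rfl
theorem L157355 : sm ge N14631 = N19884 := rfl
theorem L157357 : sm gb N19884 = N15239 := ded_15_1 (flp_e L111849) (flp_b L108709) L157355
theorem L157359 : sm gg N14631 = N19885 := rfl
theorem L157361 : sm gd N19885 = N14632 := ded_24_1 (flp_g L108711) L108707 L157359
theorem L157363 : sm gf N14632 = N19886 := rfl
theorem L157365 : sm ga N19886 = N19876 := ded_11_1 (flp_f L157351) L157347 L157363
theorem L157367 : sm gc N19886 = N14633 := ded_20_1 (flp_f L108715) (flp_c L108713) L157363
theorem L157369 : sm gg N19886 = N19874 := ded_29_3 L157311 L108691 L108711 L157363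
theorem L157371 : sm gb N14633 = N19887 := rfl
theorem L157373 : sm gf N19887 = N16655 := ded_16_2 (flp_b L121056) L97222 (flp_b L91768) L108715 L157371
theorem L157375 : sm ga N19661 = N19887 := ded_11_3 L157373 L156036 L155792
theorem L157377 : sm gb N14654 = N19888 := rfl
theorem L157379 : sm gd N19888 = N16655 := ded_14_2 (flp_b L121056) (flp_d L108849) L157377
theorem L157381 : sm ge N19888 = N14679 := ded_15_2 (flp_b L108979) (flp_e L108851) L157377
theorem L157383 : sm gc N19888 = N15754 := ded_13_2 (flp_b L114362) (flp_c L113420) L149760 L120249 L157377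
theorem L157385 : sm gg N19888 = N19360 := ded_17_2 (flp_b L153608) (flp_g L105889) L119667 L108845 L157377
theorem L157387 : sm ga N19643 = N19888 := ded_9_3 L157379 L156036 (flp_d L155702)
theorem L157389 : sm gc N15805 = N19643 := ded_8_2 L157387 L157383 L154504
theorem L157391 : sm gg N15803 = N19643 := ded_12_2 L157387 L157385 L154526
theorem L157393 : sm gd N14766 = N15803 := ded_24_3 L157391 L155702 (flp_g L109334)
theorem L157395 : sm gb N14694 = N15803 := ded_17_5 L157391 (flp_b L155700) (flp_g L107689) (flp_b L91890) L109041
theorem L157397 : sm gc N15806 = N14694 := ded_13_0 L157395 (flp_c L114574) (flp_b L94867) L94869 L114580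
theorem L157399 : sm gg N14693 = N15806 := ded_21_0 L157397 (flp_g L109041) (flp_c L109039)
theorem L157401 : sm ga N14657 = N19889 := rfl
theorem L157403 : sm gd N19889 = N15258 := ded_9_2 L156032 L156022 L157401
theorem L157405 : sm ge N19889 = N14685 := ded_10_2 (flp_a L109001) (flp_e L108865) L157401
theorem L157407 : sm gg N19889 = N14659 := ded_12_2 (flp_a L108879) (flp_g L108867) L157401
theorem L157409 : sm gf N19889 = N15257 := ded_29_0 (flp_g L151375) (flp_f L108887) (flp_g L108867) L157401
theorem L157411 : sm gc N14657 = N19890 := rfl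
theorem L157413 : sm ge N19890 = N14686 := ded_19_2 (flp_c L109007) (flp_e L108865) L157411
theorem L157415 : sm gg N19890 = N14660 := ded_21_2 (flp_c L108883) (flp_g L108867) L157411
theorem L157417 : sm gf N14657 = N19891 := rfl
theorem L157419 : sm ga N19891 = N15257 := ded_11_1 (flp_f L157409) (flp_a L157401) L157417
theorem L157421 : sm gd N19891 = N15255 := ded_23_1 L156030 L156022 L157417
theorem L157423 : sm ge N19891 = N14687 := ded_25_1 (flp_f L109011) (flp_e L108865) L157417
theorem L157425 : sm gb N19891 = N18669 := ded_16_1 L150472 (flp_b L143873) L119517 L108863 L157417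
theorem L157427 : sm gb N14659 = N19892 := rfl
theorem L157429 : sm gd N19892 = N16758 := ded_14_2 (flp_b L121551) (flp_d L151315) L157427
theorem L157431 : sm ge N19892 = N14689 := ded_15_2 (flp_b L109019) (flp_e L108881) L157427
theorem L157433 : sm gc N14659 = N19893 := rfl
theorem L157435 : sm ga N19893 = N14660 := ded_8_1 (flp_c L108883) L108879 L157433
theorem L157437 : sm ge N19893 = N14690 := ded_19_2 (flp_c L109023) (flp_e L108881) L157433
theorem L157439 : sm gf N14659 = N19894 := rfl
theorem L157441 : sm ga N19894 = N14661 := ded_11_1 (flp_f L108887) L108879 L157439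
theorem L157443 : sm gd N19894 = N14810 := ded_23_1 L155514 (flp_d L151315) L157439
theorem L157445 : sm ge N19894 = N14691 := ded_25_1 (flp_f L109027) (flp_e L108881) L157439
theorem L157447 : sm gg N19894 = N19891 := ded_29_3 L157419 (flp_f L157409) L157407 L157439
theorem L157449 : sm gb N14714 = N19894 := ded_14_3 L157443 (flp_b L109498) (flp_d L109129)
theorem L157451 : sm gd N14660 = N19895 := rfl
theorem L157453 : sm gf N14660 = N19896 := rfl
theorem L157455 : sm gc N19896 = N14661 := ded_20_1 (flp_f L108887) L108883 L157453
theorem L157457 : sm ge N19896 = N14693 := ded_25_1 (flp_f L109037) (flp_e L108885) L157453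
theorem L157459 : sm gb N14664 = N19897 := rfl
theorem L157461 : sm gd N19897 = N16716 := ded_14_2 (flp_b L121361) L150353 L157459
theorem L157463 : sm ge N19897 = N14702 := ded_15_2 (flp_b L109077) (flp_e L108909) L157459
theorem L157465 : sm gc N19897 = N15627 := ded_13_2 (flp_b L113799) (flp_c L113000) L149504 (flp_c L148085) L157459
theorem L157467 : sm gf N19897 = N19398 := ded_16_2 (flp_b L153898) (flp_f L106218) L147869 L108903 L157459
theorem L157469 : sm ga N19638 = N19897 := ded_9_3 L157461 L156056 (flp_d L155666)
theorem L157471 : sm gc N15676 = N19638 := ded_8_2 L157469 L157465 L154560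
theorem L157473 : sm gf N15675 = N19638 := ded_11_2 L157469 L157467 L154564
theorem L157475 : sm gd N14815 = N15675 := ded_23_3 L157473 L155666 (flp_f L109521)
theorem L157477 : sm gb N14717 = N15675 := ded_16_5 L157473 (flp_b L155664) (flp_f L107657) (flp_b L91938) L109139
theorem L157479 : sm gc N15678 = N14717 := ded_13_0 L157477 (flp_c L114013) (flp_b L94588) L94590 L114019
theorem L157481 : sm gf N14716 = N15678 := ded_20_0 L157479 (flp_f L109139) (flp_c L109137)
theorem L157483 : sm ga N14667 = N19898 := rfl
theorem L157485 : sm gd N19898 = N15296 := ded_9_2 (flp_a L156052) L156042 L157483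
theorem L157487 : sm ge N19898 = N14708 := ded_10_2 (flp_a L109099) (flp_e L108923) L157483
theorem L157489 : sm gf N19898 = N14669 := ded_11_2 (flp_a L108937) (flp_f L108925) L157483
theorem L157491 : sm gg N15295 = N19898 := ded_29_3 (flp_a L157483) L108925 L108945 L151321
theorem L157493 : sm gc N14667 = N19899 := rfl
theorem L157495 : sm ge N19899 = N14709 := ded_19_2 (flp_c L109105) (flp_e L108923) L157493
theorem L157497 : sm gf N19899 = N14670 := ded_20_2 (flp_c L108941) (flp_f L108925) L157493
theorem L157499 : sm gg N14667 = N19900 := rfl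
theorem L157501 : sm ga N19900 = N15295 := ded_12_1 L157491 (flp_a L157483) L157499
theorem L157503 : sm gd N19900 = N15294 := ded_24_1 (flp_g L156050) L156042 L157499
theorem L157505 : sm ge N19900 = N14710 := ded_26_1 (flp_g L109109) (flp_e L108923) L157499
theorem L157507 : sm gb N19900 = N18694 := ded_17_1 L150480 (flp_b L144001) (flp_g L147789) L108921 L157499
theorem L157509 : sm gb N14669 = N19901 := rfl
theorem L157511 : sm gd N19901 = N16683 := ded_14_2 (flp_b L121222) (flp_d L151195) L157509
theorem L157513 : sm ge N19901 = N14712 := ded_15_2 (flp_b L109117) (flp_e L108939) L157509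
theorem L157515 : sm gc N14669 = N19902 := rfl
theorem L157517 : sm ga N19902 = N14670 := ded_8_1 (flp_c L108941) L108937 L157515
theorem L157519 : sm ge N19902 = N14713 := ded_19_2 (flp_c L109121) (flp_e L108939) L157515
theorem L157521 : sm gg N14669 = N19903 := rfl
theorem L157523 : sm ga N19903 = N14671 := ded_12_1 (flp_g L108945) L108937 L157521
theorem L157525 : sm gd N19903 = N14761 := ded_24_1 L109311 (flp_d L151195) L157521
theorem L157527 : sm ge N19903 = N14714 := ded_26_1 (flp_g L109125) (flp_e L108939) L157521
theorem L157529 : sm gf N19900 = N19903 := ded_29_0 (flp_g L157521) (flp_f L157489) (flp_g L157491) (flp_a L157501)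
theorem L157531 : sm gb N14691 = N19903 := ded_14_3 L157525 (flp_b L109307) (flp_d L109031)
theorem L157533 : sm gd N14670 = N19904 := rfl
theorem L157535 : sm gg N14670 = N19905 := rfl
theorem L157537 : sm gc N19905 = N14671 := ded_21_1 (flp_g L108945) L108941 L157535
theorem L157539 : sm ge N19905 = N14716 := ded_26_1 (flp_g L109135) (flp_e L108943) L157535
theorem L157541 : sm ga N14679 = N19906 := rfl
theorem L157543 : sm gc N19906 = N15756 := ded_8_2 (flp_a L114370) (flp_c L150762) L157541
theorem L157545 : sm gd N19906 = N14736 := ded_9_2 (flp_a L109217) (flp_d L108981) L157541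
theorem L157547 : sm ge N19906 = N19643 := ded_10_2 L157387 L157381 L157541
theorem L157549 : sm gb N19633 = N19906 := ded_14_3 L157545 L155498 (flp_d L155628)
theorem L157551 : sm gf N14679 = N19907 := rfl
theorem L157553 : sm gc N19907 = N15747 := ded_20_1 L114330 (flp_c L150762) L157551
theorem L157555 : sm gd N19907 = N14738 := ded_23_1 (flp_f L109221) (flp_d L108981) L157551
theorem L157557 : sm gb N19907 = N19830 := ded_16_1 (flp_f L157051) (flp_b L108507) (flp_f L91858) L108979 L157551
theorem L157559 : sm gg N14681 = N19908 := rfl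
theorem L157561 : sm gc N19908 = N18725 := ded_21_1 L144247 (flp_c L144149) L157559
theorem L157563 : sm ge N19908 = N14682 := ded_26_1 (flp_g L108987) L108985 L157559
theorem L157565 : sm gf N19908 = N18724 := ded_29_2 (flp_g L144235) (flp_a L144221) L144225 L157559
theorem L157567 : sm gb N14682 = N19909 := rfl
theorem L157569 : sm gd N19909 = N14683 := ded_14_2 (flp_b L108991) (flp_d L108989) L157567
theorem L157571 : sm gg N19909 = N18338 := ded_17_2 (flp_b L129791) L102467 L118998 L108987 L157567
theorem L157573 : sm gc N14683 = N19910 := rfl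
theorem L157575 : sm ga N19910 = N15813 := ded_8_1 (flp_c L137015) (flp_a L150850) L157573
theorem L157577 : sm gg N19910 = N15843 := ded_21_2 (flp_c L137024) L149750 L157573
theorem L157579 : sm gb N19910 = N14686 := ded_13_1 (flp_c L109007) (flp_b L91866) (flp_c L91864) L108991 L157573
theorem L157581 : sm gf N14683 = N19911 := rfl
theorem L157583 : sm ge N19911 = N17418 := ded_25_1 (flp_f L124782) (flp_e L150797) L157581
theorem L157585 : sm gg N17416 = N19911 := ded_29_1 (flp_f L157581) (flp_g L149750) L124748 L124768
theorem L157587 : sm gb N14685 = N19912 := rfl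
theorem L157589 : sm gd N19912 = N14746 := ded_14_2 (flp_b L109257) (flp_d L109003) L157587
theorem L157591 : sm gc N14685 = N19913 := rfl
theorem L157593 : sm ga N19913 = N14686 := ded_8_1 (flp_c L109007) L109001 L157591
theorem L157595 : sm gf N19913 = N15806 := ded_20_2 L157397 (flp_f L109047) L157591
theorem L157597 : sm gg N19913 = N14690 := ded_21_2 (flp_c L109023) (flp_g L109005) L157591
theorem L157599 : sm gd N14686 = N19914 := rfl
theorem L157601 : sm gg N19914 = N14692 := ded_24_2 (flp_d L109035) (flp_g L109009) L157599
theorem L157603 : sm gf N14686 = N19915 := rfl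
theorem L157605 : sm ga N19915 = N15806 := ded_11_1 (flp_f L157595) L157593 L157603
theorem L157607 : sm gc N19915 = N14687 := ded_20_1 (flp_f L109011) L109007 L157603
theorem L157609 : sm gb N14687 = N19916 := rfl
theorem L157611 : sm gd N19916 = N14750 := ded_14_2 (flp_b L109273) (flp_d L109013) L157609
theorem L157613 : sm ge N19916 = N18669 := ded_15_2 (flp_b L157425) L157423 L157609
theorem L157615 : sm gf N19916 = N14688 := ded_16_2 (flp_b L109015) (flp_f L91872) L91866 L109011 L157609
theorem L157617 : sm gg N19916 = N19901 := ded_17_2 (flp_b L157509) L157521 (flp_b L157531) (flp_g L109033) L157609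
theorem L157619 : sm ga N19916 = N18670 := ded_7_1 L143917 L103608 (flp_b L149299) L105901 L153608 L154526 (flp_b L157395) L109043 L157609
theorem L157621 : sm gc N19916 = N19376 := ded_28_4 L153720 L152949 L152638 (flp_a L152126) L152130 L153741 L121240 (flp_d L157611)
theorem L157623 : sm ga N14688 = N19917 := rfl
theorem L157625 : sm gc N19917 = N19377 := ded_8_2 L153728 L142770 L157623
theorem L157627 : sm gd N19917 = N14751 := ded_9_2 (flp_a L109277) (flp_d L109017) L157623
theorem L157629 : sm ge N19917 = N18671 := ded_10_2 (flp_a L150474) L143875 L157623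
theorem L157631 : sm gf N19917 = N18670 := ded_11_2 (flp_a L157619) L157615 L157623
theorem L157633 : sm gb N19390 = N19917 := ded_15_3 L157629 L143925 (flp_e L153839)
theorem L157635 : sm gb N14751 = N19307 := ded_14_3 (flp_d L153837) L157633 L157627
theorem L157637 : sm gc N14689 = N19918 := rfl
theorem L157639 : sm ga N19918 = N14890 := ded_8_1 (flp_c L149231) L149227 L157637
theorem L157641 : sm gf N19918 = N14887 := ded_20_2 (flp_c L144051) (flp_f L144055) L157637
theorem L157643 : sm gb N14690 = N19919 := rfl
theorem L157645 : sm gd N14690 = N19920 := rfl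
theorem L157647 : sm ga N19920 = N14692 := ded_9_1 (flp_d L109035) (flp_a L109025) L157645
theorem L157649 : sm gf N14690 = N19921 := rfl
theorem L157651 : sm ga N19921 = N14693 := ded_11_1 (flp_f L109037) (flp_a L109025) L157649
theorem L157653 : sm gc N19921 = N14691 := ded_20_1 (flp_f L109027) L109023 L157649
theorem L157655 : sm gg N19921 = N19915 := ded_29_3 L157605 (flp_f L157595) L157597 L157649
theorem L157657 : sm gc N14692 = N19922 := rfl
theorem L157659 : sm ge N14692 = N19923 := rfl
theorem L157661 : sm gf N14692 = N19924 := rfl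
theorem L157663 : sm gd N19924 = N14693 := ded_23_1 (flp_f L109037) L109035 L157661
theorem L157665 : sm gb N14693 = N19925 := rfl
theorem L157667 : sm gc N19925 = N19641 := ded_13_2 (flp_b L155684) L107687 (flp_b L91890) (flp_c L109039) L157665
theorem L157669 : sm gf N19925 = N19407 := ded_16_2 L154468 L143239 L103214 L109037 L157665
theorem L157671 : sm ga N19925 = N19409 := ded_30_3 (flp_f L153972) (flp_c L106797) (flp_b L106795) L139151 (flp_f L139135) (flp_c L90676) (flp_b L86134) L86132 L81885 L44653 L92288 L109878 (flp_f L157641) (flp_c L157637) (flp_b L109019) (flp_a L91880) L91886 (flp_c L109039) L157665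
theorem L157673 : sm ga N14702 = N19926 := rfl
theorem L157675 : sm gc N19926 = N15631 := ded_8_2 (flp_a L113815) (flp_c L149508) L157673
theorem L157677 : sm gd N19926 = N14785 := ded_9_2 (flp_a L109406) (flp_d L109079) L157673
theorem L157679 : sm ge N19926 = N19638 := ded_10_2 L157469 L157463 L157673
theorem L157681 : sm gb N19628 = N19926 := ded_14_3 L157677 (flp_b L122520) (flp_d L155582)
theorem L157683 : sm gg N14702 = N19927 := rfl
theorem L157685 : sm gc N19927 = N15621 := ded_21_1 L113771 (flp_c L149508) L157683
theorem L157687 : sm gd N19927 = N14787 := ded_24_1 (flp_g L109410) (flp_d L109079) L157683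
theorem L157689 : sm gb N19927 = N19839 := ded_17_1 (flp_g L157119) (flp_b L108543) L91906 L109077 L157683
theorem L157691 : sm gf N14704 = N19928 := rfl
theorem L157693 : sm gc N19928 = N18731 := ded_20_1 (flp_f L144281) (flp_c L149539) L157691
theorem L157695 : sm ge N19928 = N14705 := ded_25_1 (flp_f L109085) L109083 L157691
theorem L157697 : sm gg N18730 = N19928 := ded_29_1 (flp_f L157691) (flp_g L149516) L144255 L144269
theorem L157699 : sm gb N14705 = N19929 := rfl
theorem L157701 : sm gd N19929 = N14706 := ded_14_2 (flp_b L109089) (flp_d L109087) L157699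
theorem L157703 : sm gf N19929 = N18351 := ded_16_2 (flp_b L129842) (flp_f L102493) L148141 L109085 L157699
theorem L157705 : sm gc N14706 = N19930 := rfl
theorem L157707 : sm ga N19930 = N15685 := ded_8_1 (flp_c L133821) (flp_a L149496) L157705
theorem L157709 : sm gf N19930 = N15715 := ded_20_2 (flp_c L140974) L149533 L157705
theorem L157711 : sm gb N19930 = N14709 := ded_13_1 (flp_c L109105) (flp_b L91914) (flp_c L91912) L109089 L157705
theorem L157713 : sm gg N14706 = N19931 := rfl
theorem L157715 : sm ge N19931 = N17342 := ded_26_1 L124397 L150508 L157713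
theorem L157717 : sm gf N19931 = N17340 := ded_29_2 (flp_g L124379) (flp_a L124355) L149533 L157713
theorem L157719 : sm gb N19931 = N19911 := ded_17_1 (flp_g L157585) (flp_b L147753) (flp_g L109091) L109089 L157713
theorem L157721 : sm gb N14708 = N19932 := rfl
theorem L157723 : sm gd N19932 = N14795 := ded_14_2 (flp_b L109446) (flp_d L109101) L157721
theorem L157725 : sm gc N14708 = N19933 := rfl
theorem L157727 : sm ga N19933 = N14709 := ded_8_1 (flp_c L109105) L109099 L157725
theorem L157729 : sm gf N19933 = N14713 := ded_20_2 (flp_c L109121) (flp_f L109103) L157725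
theorem L157731 : sm gg N19933 = N15678 := ded_21_2 L157479 L109145 L157725
theorem L157733 : sm gd N14709 = N19934 := rfl
theorem L157735 : sm gf N19934 = N14715 := ded_23_2 (flp_d L109133) (flp_f L109107) L157733
theorem L157737 : sm gg N14709 = N19935 := rfl
theorem L157739 : sm ga N19935 = N15678 := ded_12_1 (flp_g L157731) L157727 L157737
theorem L157741 : sm gc N19935 = N14710 := ded_21_1 (flp_g L109109) L109105 L157737
theorem L157743 : sm gb N14710 = N19936 := rfl
theorem L157745 : sm gd N19936 = N14799 := ded_14_2 (flp_b L109462) (flp_d L109111) L157743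
theorem L157747 : sm ge N19936 = N18694 := ded_15_2 (flp_b L157507) L157505 L157743
theorem L157749 : sm gf N19936 = N19892 := ded_16_2 (flp_b L157427) L157439 (flp_b L157449) L109131 L157743
theorem L157751 : sm gg N19936 = N14711 := ded_17_2 (flp_b L109113) (flp_g L91920) L91914 L109109 L157743
theorem L157753 : sm ga N19936 = N18695 := ded_7_1 L144059 L103706 L105937 L149289 L153898 L154564 (flp_b L157477) L109141 L157743
theorem L157755 : sm gc N19936 = N19412 := ded_28_4 L153992 L153386 (flp_d L152548) (flp_a L152546) L152554 L155524 (flp_c L155520) (flp_d L157745)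
theorem L157757 : sm ga N14711 = N19937 := rfl
theorem L157759 : sm gc N19937 = N19413 := ded_8_2 L154000 L149212 L157757
theorem L157761 : sm gd N19937 = N14800 := ded_9_2 (flp_a L109466) (flp_d L109115) L157757
theorem L157763 : sm ge N19937 = N18697 := ded_10_2 L150488 (flp_e L149216) L157757
theorem L157765 : sm gg N19937 = N18695 := ded_12_2 (flp_a L157753) L157751 L157757
theorem L157767 : sm gb N19937 = N19350 := ded_30_2 (flp_a L153533) (flp_f L153531) L105822 (flp_b L144077) L150488 L144003 (flp_c L124738) (flp_b L124736) L99315 (flp_f L99291) (flp_c L99287) L86160 (flp_a L82733) (flp_f L82731) L86992 L100505 L126708 L154006 (flp_c L157759)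
theorem L157769 : sm gb N14800 = N19248 := ded_14_1 (flp_d L153525) (flp_b L157767) L157761
theorem L157771 : sm gc N14712 = N19938 := rfl
theorem L157773 : sm ga N19938 = N14864 := ded_8_1 (flp_c L149223) L143907 L157771
theorem L157775 : sm gg N19938 = N14860 := ded_21_2 (flp_c L143913) L150468 L157771
theorem L157777 : sm gb N14713 = N19939 := rfl
theorem L157779 : sm gd N14713 = N19940 := rfl
theorem L157781 : sm ga N19940 = N14715 := ded_9_1 (flp_d L109133) (flp_a L109123) L157779
theorem L157783 : sm gg N14713 = N19941 := rfl
theorem L157785 : sm ga N19941 = N14716 := ded_12_1 (flp_g L109135) (flp_a L109123) L157783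
theorem L157787 : sm gc N19941 = N14714 := ded_21_1 (flp_g L109125) L109121 L157783
theorem L157789 : sm gf N19935 = N19941 := ded_29_0 (flp_g L157783) (flp_f L157729) L157731 (flp_a L157739)
theorem L157791 : sm gc N14715 = N19942 := rfl
theorem L157793 : sm ge N14715 = N19943 := rfl
theorem L157795 : sm gg N14715 = N19944 := rfl
theorem L157797 : sm gd N19944 = N14716 := ded_24_1 (flp_g L109135) L109133 L157795
theorem L157799 : sm gb N14716 = N19945 := rfl
theorem L157801 : sm gc N19945 = N19636 := ded_13_2 (flp_b L155648) L107655 (flp_b L91938) (flp_c L109137) L157799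
theorem L157803 : sm gg N19945 = N19371 := ded_17_2 L154262 L143155 L103164 L109135 L157799
theorem L157805 : sm ga N19374 = N19945 := ded_8_3 L157801 (flp_a L155652) L154622
theorem L157807 : sm gb N14724 = N19946 := rfl
theorem L157809 : sm gd N19946 = N18494 := ded_14_2 (flp_b L142923) (flp_d L120239) L157807
theorem L157811 : sm gg N19946 = N19059 := ded_17_2 (flp_b L151616) (flp_g L104911) (flp_b L119398) L109169 L157807
theorem L157813 : sm gf N14726 = N19947 := rfl
theorem L157815 : sm ga N19947 = N19618 := ded_11_1 L155486 (flp_a L155490) L157813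
theorem L157817 : sm gb N14727 = N19948 := rfl
theorem L157819 : sm gg N19948 = N14785 := ded_17_2 (flp_b L122520) L122518 L119823 (flp_g L109185) L157817
theorem L157821 : sm ga N19948 = N14787 := ded_7_1 L109412 (flp_a L108717) L157371 (flp_a L157375) L155796 L153872 L149239 (flp_a L109183) L157817
theorem L157823 : sm ge N14732 = N19949 := rfl
theorem L157825 : sm ga N19949 = N14741 := ded_10_1 (flp_e L109235) (flp_a L109199) L157823
theorem L157827 : sm gb N19949 = N18749 := ded_15_1 L144383 L119827 L157823
theorem L157829 : sm gc N19949 = N14733 := ded_19_1 (flp_e L109203) L109197 L157823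
theorem L157831 : sm gf N19949 = N18185 := ded_25_2 L128745 (flp_f L119423) L157823
theorem L157833 : sm gg N14733 = N19950 := rfl
theorem L157835 : sm ga N19950 = N14743 := ded_12_1 (flp_g L109243) (flp_a L109205) L157833
theorem L157837 : sm ge N19950 = N14734 := ded_26_1 (flp_g L109207) L109203 L157833
theorem L157839 : sm gf N19950 = N19846 := ded_29_2 (flp_g L157173) (flp_a L157165) L157171 L157833
theorem L157841 : sm ga N14735 = N19951 := rfl
theorem L157843 : sm gc N14735 = N19952 := rfl
theorem L157845 : sm gb N19952 = N14737 := ded_13_1 (flp_c L109219) (flp_b L91962) (flp_c L91958) L109215 L157843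
theorem L157847 : sm gf N14735 = N19953 := rfl
theorem L157849 : sm gb N19953 = N19850 := ded_16_1 (flp_f L157195) (flp_b L108609) (flp_f L91960) L109215 L157847
theorem L157851 : sm gf N14736 = N19954 := rfl
theorem L157853 : sm ga N19954 = N14738 := ded_11_1 (flp_f L109221) L109217 L157851
theorem L157855 : sm gg N19954 = N19947 := ded_29_3 L157815 L155486 L155488 L157851
theorem L157857 : sm gb N19954 = N14775 := ded_16_1 (flp_f L109368) L150924 L150269 (flp_b L155498) L157851
theorem L157859 : sm gd N14737 = N19955 := rfl
theorem L157861 : sm gf N14737 = N19956 := rfl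
theorem L157863 : sm gc N19956 = N14738 := ded_20_1 (flp_f L109221) L109219 L157861
theorem L157865 : sm gg N15253 = N19956 := ded_29_1 (flp_f L157861) L155506 (flp_a L111924) L111930
theorem L157867 : sm gd N14741 = N19957 := rfl
theorem L157869 : sm gb N19957 = N18178 := ded_14_1 L128699 (flp_b L119697) L157867
theorem L157871 : sm gf N19957 = N18183 := ded_23_2 L128733 (flp_f L119427) L157867
theorem L157873 : sm ge N19957 = N18703 := ded_22_2 L144115 L103764 (flp_d L119025) L109235 L157867
theorem L157875 : sm gg N14741 = N19958 := rfl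
theorem L157877 : sm gc N19958 = N14743 := ded_21_1 (flp_g L109243) (flp_c L109237) L157875
theorem L157879 : sm ge N19958 = N14742 := ded_26_1 (flp_g L109239) L109235 L157875
theorem L157881 : sm gb N14742 = N19959 := rfl
theorem L157883 : sm gd N19959 = N19025 := ded_14_2 (flp_b L145965) L119425 L157881
theorem L157885 : sm gf N19959 = N19151 := ded_16_2 L152112 L152210 L152218 L129036 L157881
theorem L157887 : sm gg N19959 = N18226 := ded_17_2 (flp_b L129002) (flp_g L102207) L119037 L109239 L157881
theorem L157889 : sm ga N19959 = N19087 := ded_7_1 (flp_b L151736) (flp_a L104981) (flp_b L89670) (flp_a L39679) L89827 L105350 (flp_b L152256) L129040 L157881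
theorem L157891 : sm gf N14743 = N19960 := rfl
theorem L157893 : sm ga N19960 = N19846 := ded_11_1 (flp_f L157839) L157835 L157891
theorem L157895 : sm ge N19960 = N14744 := ded_25_1 (flp_f L109247) (flp_e L109245) L157891
theorem L157897 : sm gg N19960 = N19845 := ded_29_3 L157165 L108603 L109243 L157891
theorem L157899 : sm gb N14744 = N19961 := rfl
theorem L157901 : sm gd N19961 = N14745 := ded_14_2 (flp_b L109255) (flp_d L109251) L157899
theorem L157903 : sm ga N14745 = N19962 := rfl
theorem L157905 : sm gc N14745 = N19963 := rfl
theorem L157907 : sm gb N19963 = N14752 := ded_13_1 (flp_c L109279) (flp_b L91992) (flp_c L91978) L109255 L157905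
theorem L157909 : sm gd N19146 = N19963 := ded_14_0 L157907 L153739 (flp_b L152086)
theorem L157911 : sm gg N14745 = N19964 := rfl
theorem L157913 : sm gb N19964 = N19844 := ded_17_1 (flp_g L157155) (flp_b L108587) (flp_g L91980) L109255 L157911
theorem L157915 : sm ga N14746 = N19965 := rfl
theorem L157917 : sm gb N19965 = N15157 := ded_7_2 (flp_a L150956) (flp_b L155498) (flp_a L109217) (flp_b L91962) L44163 L44175 L91982 L109257 L157915
theorem L157919 : sm gf N15158 = N19965 := ded_16_0 L157917 (flp_f L111469) (flp_b L93133) L93135 L111471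
theorem L157921 : sm gc N14746 = N19966 := rfl
theorem L157923 : sm gf N14746 = N19967 := rfl
theorem L157925 : sm ga N19967 = N15158 := ded_11_1 L157919 (flp_a L157915) L157923
theorem L157927 : sm gg N19873 = N19967 := ded_31_0 (flp_f L157923) (flp_b L109257) L91984 L92000 L109307 L109311 (flp_f L112194) (flp_b L155445) L155416 L155431 (flp_b L155437) (flp_g L108701) (flp_f L108687) L157307
theorem L157929 : sm gg N14746 = N19968 := rfl
theorem L157931 : sm gb N19968 = N14757 := ded_17_1 (flp_g L109291) (flp_b L91994) (flp_g L91984) L109257 L157929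
theorem L157933 : sm gb N14747 = N19969 := rfl
theorem L157935 : sm gd N14747 = N19970 := rfl
theorem L157937 : sm ga N19970 = N14748 := ded_9_1 (flp_d L109265) (flp_a L109261) L157935
theorem L157939 : sm gg N19970 = N14759 := ded_24_2 (flp_d L109295) (flp_g L109263) L157935
theorem L157941 : sm gc N14748 = N19971 := rfl
theorem L157943 : sm gg N19971 = N14762 := ded_21_2 (flp_c L109313) (flp_g L109267) L157941
theorem L157945 : sm ge N14748 = N19972 := rfl
theorem L157947 : sm gg N19972 = N14763 := ded_26_2 (flp_e L109315) (flp_g L109267) L157945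
theorem L157949 : sm gf N14748 = N19973 := rfl
theorem L157951 : sm gd N19973 = N14749 := ded_23_1 (flp_f L109269) L109265 L157949
theorem L157953 : sm gb N14749 = N19974 := rfl
theorem L157955 : sm ga N14750 = N19975 := rfl
theorem L157957 : sm gd N19975 = N18670 := ded_9_2 (flp_a L157619) L157611 L157955
theorem L157959 : sm gf N19975 = N14751 := ded_11_2 (flp_a L109277) (flp_f L109275) L157955
theorem L157961 : sm gb N18673 = N19975 := ded_14_3 L157957 L143917 L143931
theorem L157963 : sm gc N14751 = N19976 := rfl
theorem L157965 : sm ga N19976 = N14752 := ded_8_1 (flp_c L109279) L109277 L157963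
theorem L157967 : sm gd N19976 = N19158 := ded_28_7 L152142 (flp_c L105155) (flp_d L102314) L129250 (flp_d L153730) (flp_c L157625) L157627 L157963
theorem L157969 : sm gg N16687 = N19976 := ded_29_3 L157965 L121242 (flp_g L121238) L121236
theorem L157971 : sm gg N14751 = N19977 := rfl
theorem L157973 : sm ga N19977 = N14753 := ded_12_1 (flp_g L109281) L109277 L157971
theorem L157975 : sm gc N19977 = N16687 := ded_21_1 L157969 (flp_c L157963) L157971
theorem L157977 : sm gf N19977 = N16683 := ded_29_2 L121226 L157955 L157959 L157971
theorem L157979 : sm gb N19977 = N19614 := ded_17_1 (flp_g L155453) L107587 (flp_g L153171) (flp_b L157635) L157971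
theorem L157981 : sm gg N14752 = N19978 := rfl
theorem L157983 : sm ga N19978 = N16687 := ded_12_1 L157969 L157965 L157981
theorem L157985 : sm gc N19978 = N14753 := ded_21_1 (flp_g L109281) L109279 L157981
theorem L157987 : sm gd N19978 = N19161 := ded_24_1 (flp_g L152170) (flp_d L153739) L157981
theorem L157989 : sm gf N16685 = N19978 := ded_29_0 (flp_g L157981) L121242 (flp_g L121238) L121230
theorem L157991 : sm gf N14753 = N19979 := rfl
theorem L157993 : sm ga N19979 = N16683 := ded_11_1 (flp_f L157977) L157973 L157991
theorem L157995 : sm gc N19979 = N16685 := ded_20_1 L157989 L157985 L157991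
theorem L157997 : sm gg N19979 = N19975 := ded_29_3 (flp_a L157955) L109275 L109281 L157991
theorem L157999 : sm gb N14755 = N19980 := rfl
theorem L158001 : sm gc N19980 = N14758 := ded_13_2 (flp_b L109293) (flp_c L91996) L91994 L109287 L157999
theorem L158003 : sm ga N19980 = N15345 := ded_7_1 (flp_b L112410) (flp_a L93733) (flp_b L46667) L22445 L22463 L46705 L93777 (flp_a L120563) L157999
theorem L158005 : sm gd N14755 = N19981 := rfl
theorem L158007 : sm ga N19981 = N15366 := ded_9_1 L112504 (flp_a L120563) L158005
theorem L158009 : sm gf N14755 = N19982 := rfl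
theorem L158011 : sm ga N19982 = N15374 := ded_11_1 (flp_f L112536) (flp_a L120563) L158009
theorem L158013 : sm gc N19982 = N14756 := ded_20_1 (flp_f L109289) L109287 L158009
theorem L158015 : sm gg N14755 = N19983 := rfl
theorem L158017 : sm ga N19983 = N15375 := ded_12_1 (flp_g L112538) (flp_a L120563) L158015
theorem L158019 : sm gc N19983 = N14757 := ded_21_1 (flp_g L109291) L109287 L158015
theorem L158021 : sm ga N14758 = N19984 := rfl
theorem L158023 : sm gc N19984 = N15345 := ded_8_2 (flp_a L158003) L158001 L158021
theorem L158025 : sm gd N14758 = N19985 := rfl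
theorem L158027 : sm gb N19985 = N14759 := ded_14_1 (flp_d L109295) L109293 L158025
theorem L158029 : sm gf N14758 = N19986 := rfl
theorem L158031 : sm gg N14758 = N19987 := rfl
theorem L158033 : sm gc N14759 = N19988 := rfl
theorem L158035 : sm ga N19988 = N14762 := ded_8_1 (flp_c L109313) (flp_a L109297) L158033
theorem L158037 : sm gd N19922 = N19988 := ded_28_1 (flp_c L158033) (flp_d L109295) (flp_c L91996) (flp_d L91882) L109023 L157645 L157647 L157657
theorem L158039 : sm ge N14759 = N19989 := rfl
theorem L158041 : sm ga N19989 = N14763 := ded_10_1 (flp_e L109315) (flp_a L109297) L158039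
theorem L158043 : sm gf N14759 = N19990 := rfl
theorem L158045 : sm ga N19990 = N14764 := ded_11_1 (flp_f L109319) (flp_a L109297) L158043
theorem L158047 : sm gd N19990 = N14760 := ded_23_1 (flp_f L109299) L109295 L158043
theorem L158049 : sm gg N19973 = N19990 := ded_29_1 (flp_f L158043) (flp_g L157939) L157937 L157949
theorem L158051 : sm gb N14760 = N19991 := rfl
theorem L158053 : sm gc N19991 = N16675 := ded_13_2 L121192 L109309 (flp_b L109307) (flp_c L109303) L158051
theorem L158055 : sm ga N19991 = N17070 := ded_30_3 (flp_f L123055) (flp_c L98397) (flp_b L85712) (flp_a L26893) L12918 L12930 L12932 (flp_a L13094) (flp_f L80568) (flp_c L10211) (flp_b L5151) (flp_a L5019) L5149 (flp_c L10173) L21207 L44185 L92000 (flp_c L109303) L158051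
theorem L158057 : sm gf N17067 = N19991 := ded_20_0 L158053 (flp_f L121190) L123043
theorem L158059 : sm gg N16674 = N19991 := ded_21_0 L158053 (flp_g L121184) L121182
theorem L158061 : sm gb N19986 = N17067 := ded_16_5 L158057 (flp_b L158051) (flp_f L109299) L109293 L158029
theorem L158063 : sm gb N14762 = N19992 := rfl
theorem L158065 : sm gc N19992 = N14826 := ded_13_2 (flp_b L109575) (flp_c L92123) (flp_b L92008) L109313 L158063
theorem L158067 : sm gd N14762 = N19993 := rfl
theorem L158069 : sm ga N19993 = N19922 := ded_9_1 L158037 L158035 L158067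
theorem L158071 : sm gc N19920 = N19993 := ded_28_0 (flp_d L158067) (flp_c L109313) (flp_d L92006) (flp_c L44187) (flp_d L44139) L91884 L109035 (flp_a L157647)
theorem L158073 : sm ge N14762 = N19994 := rfl
theorem L158075 : sm gc N19994 = N14763 := ded_19_1 (flp_e L109315) L109313 L158073
theorem L158077 : sm gf N14762 = N19995 := rfl
theorem L158079 : sm gc N19995 = N14764 := ded_20_1 (flp_f L109319) L109313 L158077
theorem L158081 : sm gf N14763 = N19996 := rfl
theorem L158083 : sm ge N19996 = N14764 := ded_25_1 (flp_f L109319) L109315 L158081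
theorem L158085 : sm gb N19996 = N19996 := ded_16_1 (flp_f L158081) L109317 L92128 (flp_b L109317) L158081
theorem L158086 : sm gg N14764 = N19997 := rfl
theorem L158088 : sm ga N19997 = N19973 := ded_12_1 L158049 L158045 L158086
theorem L158090 : sm gd N19997 = N14765 := ded_24_1 (flp_g L109324) (flp_d L109321) L158086
theorem L158092 : sm gf N19970 = N19997 := ded_29_0 (flp_g L158086) (flp_f L109319) (flp_g L109267) (flp_a L157937)
theorem L158094 : sm gb N14765 = N19998 := rfl
theorem L158096 : sm gg N19998 = N19998 := ded_17_2 (flp_b L158094) (flp_g L109324) L92014 L109324 L158094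
theorem L158097 : sm ga N14766 = N19999 := rfl
theorem L158099 : sm gd N19999 = N19360 := ded_9_2 L154526 (flp_d L157393) L158097
theorem L158101 : sm gg N19999 = N16655 := ded_12_2 L156036 (flp_g L109334) L158097
theorem L158103 : sm gb N19999 = N16654 := ded_7_2 (flp_a L153598) L153606 (flp_a L143933) L157961 (flp_a L157955) (flp_b L109273) (flp_a L92017) L109332 L158097
theorem L158105 : sm gc N14766 = N20000 := rfl
theorem L158107 : sm gg N20000 = N19660 := ded_21_2 (flp_c L155789) (flp_g L109334) L158105
theorem L158109 : sm gf N14766 = N20001 := rfl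
theorem L158111 : sm gg N20001 = N19887 := ded_29_3 (flp_a L157375) (flp_f L155792) (flp_g L109334) L158109
theorem L158113 : sm gb N20001 = N19967 := ded_16_1 (flp_f L157923) (flp_b L109257) L92019 L109332 L158109
theorem L158115 : sm gb N14772 = N20002 := rfl
theorem L158117 : sm gd N20002 = N18513 := ded_14_2 (flp_b L142997) (flp_d L147956) L158115
theorem L158119 : sm gf N20002 = N19083 := ded_16_2 (flp_b L151724) (flp_f L104975) L147984 L109354 L158115
theorem L158121 : sm gg N14774 = N20003 := rfl
theorem L158123 : sm ga N20003 = N19609 := ded_12_1 (flp_g L155441) L112160 L158121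
theorem L158125 : sm gf N19948 = N20003 := ded_29_0 (flp_g L158121) L109364 L109410 (flp_a L157821)
theorem L158127 : sm gb N20003 = N19947 := ded_17_1 (flp_g L157855) L157857 (flp_g L109366) L109362 L158121
theorem L158129 : sm ge N14781 = N20004 := rfl
theorem L158131 : sm ga N20004 = N14790 := ded_10_1 (flp_e L109424) (flp_a L109388) L158129
theorem L158133 : sm gb N20004 = N18766 := ded_15_1 L144479 L149486 L158129
theorem L158135 : sm gc N20004 = N14782 := ded_19_1 (flp_e L109392) L109386 L158129
theorem L158137 : sm gg N20004 = N18187 := ded_26_2 L128753 (flp_g L148197) L158129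
theorem L158139 : sm gf N14782 = N20005 := rfl
theorem L158141 : sm ga N20005 = N14792 := ded_11_1 (flp_f L109432) (flp_a L109394) L158139
theorem L158143 : sm ge N20005 = N14783 := ded_25_1 (flp_f L109396) L109392 L158139
theorem L158145 : sm gg N19868 = N20005 := ded_29_1 (flp_f L158139) (flp_g L157281) L157275 L157283
theorem L158147 : sm ga N14784 = N20006 := rfl
theorem L158149 : sm gc N14784 = N20007 := rfl
theorem L158151 : sm gb N20007 = N14786 := ded_13_1 (flp_c L109408) (flp_b L92043) (flp_c L92039) L109404 L158149
theorem L158153 : sm gg N14784 = N20008 := rfl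
theorem L158155 : sm gb N20008 = N19872 := ded_17_1 (flp_g L157305) (flp_b L108681) L92041 L109404 L158153
theorem L158157 : sm gd N14786 = N20009 := rfl
theorem L158159 : sm gg N14786 = N20010 := rfl
theorem L158161 : sm gc N20010 = N14787 := ded_21_1 (flp_g L109410) L109408 L158159
theorem L158163 : sm gf N20010 = N15292 := ded_29_2 (flp_g L112166) L112123 L112125 L158159
theorem L158165 : sm gd N14790 = N20011 := rfl
theorem L158167 : sm gb N20011 = N18179 := ded_14_1 L128707 (flp_b L147707) L158165
theorem L158169 : sm gg N20011 = N18184 := ded_24_2 L128739 (flp_g L147709) L158165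
theorem L158171 : sm ge N20011 = N18705 := ded_22_2 L144129 L103776 L147717 L109424 L158165
theorem L158173 : sm gf N14790 = N20012 := rfl
theorem L158175 : sm gc N20012 = N14792 := ded_20_1 (flp_f L109432) (flp_c L109426) L158173
theorem L158177 : sm ge N20012 = N14791 := ded_25_1 (flp_f L109428) L109424 L158173
theorem L158179 : sm gb N14791 = N20013 := rfl
theorem L158181 : sm gd N20013 = N19033 := ded_14_2 (flp_b L145993) (flp_d L147703) L158179
theorem L158183 : sm gf N20013 = N18230 := ded_16_2 (flp_b L129020) (flp_f L102219) (flp_b L147533) L109428 L158179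
theorem L158185 : sm gg N20013 = N19216 := ded_17_2 L152538 L152616 (flp_b L152624) (flp_g L147705) L158179
theorem L158187 : sm ga N20013 = N19063 := ded_7_1 (flp_b L151628) (flp_a L104917) (flp_b L89642) (flp_a L39637) L89738 L105153 (flp_b L152156) (flp_a L147701) L158179
theorem L158189 : sm gg N14792 = N20014 := rfl
theorem L158191 : sm ga N20014 = N19868 := ded_12_1 L158145 L158141 L158189
theorem L158193 : sm ge N20014 = N14793 := ded_26_1 (flp_g L109436) (flp_e L109434) L158189
theorem L158195 : sm gf N19867 = N20014 := ded_29_0 (flp_g L158189) (flp_f L109432) (flp_g L108675) (flp_a L157275)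
theorem L158197 : sm gb N14793 = N20015 := rfl
theorem L158199 : sm gd N20015 = N14794 := ded_14_2 (flp_b L109444) (flp_d L109440) L158197
theorem L158201 : sm ga N14794 = N20016 := rfl
theorem L158203 : sm gc N14794 = N20017 := rfl
theorem L158205 : sm gb N20017 = N14801 := ded_13_1 (flp_c L109468) (flp_b L92073) (flp_c L92059) L109444 L158203
theorem L158207 : sm gd N19212 = N20017 := ded_14_0 L158205 L154011 (flp_b L152518)
theorem L158209 : sm gf N14794 = N20018 := rfl
theorem L158211 : sm gb N20018 = N19866 := ded_16_1 (flp_f L157265) (flp_b L108659) L92061 L109444 L158209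
theorem L158213 : sm ga N14795 = N20019 := rfl
theorem L158215 : sm gb N20019 = N15153 := ded_7_2 (flp_a L122516) L122520 (flp_a L109406) (flp_b L92043) L44203 L44215 L92063 L109446 L158213
theorem L158217 : sm gg N15154 = N20019 := ded_17_0 L158215 (flp_g L111459) (flp_b L93125) L93127 L111461
theorem L158219 : sm gc N14795 = N20020 := rfl
theorem L158221 : sm gf N14795 = N20021 := rfl
theorem L158223 : sm gb N20021 = N14805 := ded_16_1 (flp_f L109480) (flp_b L92075) (flp_f L92065) L109446 L158221
theorem L158225 : sm gg N14795 = N20022 := rfl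
theorem L158227 : sm ga N20022 = N15154 := ded_12_1 L158217 (flp_a L158213) L158225
theorem L158229 : sm gf N20022 = N19851 := ded_31_1 (flp_b L157197) L108615 L108629 (flp_b L155482) (flp_g L155476) (flp_f L155461) (flp_b L155494) (flp_g L111964) (flp_f L155514) (flp_b L109498) (flp_g L92081) (flp_f L92065) L109446 L158225
theorem L158231 : sm gb N14796 = N20023 := rfl
theorem L158233 : sm gd N14796 = N20024 := rfl
theorem L158235 : sm ga N20024 = N14797 := ded_9_1 (flp_d L109454) (flp_a L109450) L158233
theorem L158237 : sm gf N20024 = N14808 := ded_23_2 (flp_d L109486) (flp_f L109452) L158233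
theorem L158239 : sm gc N14797 = N20025 := rfl
theorem L158241 : sm gf N20025 = N14811 := ded_20_2 (flp_c L109500) (flp_f L109456) L158239
theorem L158243 : sm ge N14797 = N20026 := rfl
theorem L158245 : sm gf N20026 = N14812 := ded_25_2 (flp_e L109502) (flp_f L109456) L158243
theorem L158247 : sm gg N14797 = N20027 := rfl
theorem L158249 : sm gd N20027 = N14798 := ded_24_1 (flp_g L109458) L109454 L158247
theorem L158251 : sm gb N14798 = N20028 := rfl
theorem L158253 : sm ga N14799 = N20029 := rfl
theorem L158255 : sm gd N20029 = N18695 := ded_9_2 (flp_a L157753) L157745 L158253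
theorem L158257 : sm gg N20029 = N14800 := ded_12_2 (flp_a L109466) (flp_g L109464) L158253
theorem L158259 : sm gb N18698 = N20029 := ded_30_2 (flp_a L158253) (flp_f L155518) L121553 (flp_b L97504) L85363 (flp_f L85355) (flp_c L85353) (flp_b L26750) (flp_a L12922) (flp_f L12924) L26735 L85325 L97407 L121388 L153648 (flp_b L153638) (flp_a L144081) L144083 L144087
theorem L158261 : sm gc N14800 = N20030 := rfl
theorem L158263 : sm ga N20030 = N14801 := ded_8_1 (flp_c L109468) L109466 L158261
theorem L158265 : sm gd N20030 = N19221 := ded_28_7 L152566 (flp_c L105352) (flp_d L102339) L129327 (flp_d L154002) (flp_c L157759) L157761 L158261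
theorem L158267 : sm gf N20030 = N16764 := ded_29_0 (flp_g L121573) L121571 L155522 (flp_a L158263)
theorem L158269 : sm gf N14800 = N20031 := rfl
theorem L158271 : sm ga N20031 = N14802 := ded_11_1 (flp_f L109470) L109466 L158269
theorem L158273 : sm gc N20031 = N16764 := ded_20_1 (flp_f L158267) (flp_c L158261) L158269
theorem L158275 : sm gg N16758 = N20031 := ded_29_1 (flp_f L158269) (flp_g L158257) (flp_a L158253) (flp_f L155518)
theorem L158277 : sm gb N20031 = N19623 := ded_16_1 (flp_f L155536) L107601 L152742 (flp_b L157769) L158269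
theorem L158279 : sm gf N14801 = N20032 := rfl
theorem L158281 : sm ga N20032 = N16764 := ded_11_1 (flp_f L158267) L158263 L158279
theorem L158283 : sm gc N20032 = N14802 := ded_20_1 (flp_f L109470) L109468 L158279
theorem L158285 : sm gd N20032 = N19224 := ded_23_1 (flp_f L152580) (flp_d L154011) L158279
theorem L158287 : sm gg N20032 = N16761 := ded_29_3 (flp_a L121565) L121571 L155522 L158279
theorem L158289 : sm gg N14802 = N20033 := rfl
theorem L158291 : sm ga N20033 = N16758 := ded_12_1 L158275 L158271 L158289
theorem L158293 : sm gc N20033 = N16761 := ded_21_1 (flp_g L158287) L158283 L158289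
theorem L158295 : sm gf N20029 = N20033 := ded_29_0 (flp_g L158289) (flp_f L109470) (flp_g L109464) L158253
theorem L158297 : sm gb N20033 = N19979 := ded_17_1 L157997 (flp_b L157961) (flp_g L148056) (flp_b L109472) L158289
theorem L158299 : sm gb N14804 = N20034 := rfl
theorem L158301 : sm gc N20034 = N14807 := ded_13_2 (flp_b L109484) (flp_c L92077) L92075 L109478 L158299
theorem L158303 : sm ga N20034 = N15403 := ded_7_1 (flp_b L112654) (flp_a L93853) (flp_b L46795) L22501 L22519 L46833 L93897 (flp_a L120567) L158299
theorem L158305 : sm gd N14804 = N20035 := rfl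
theorem L158307 : sm ga N20035 = N15424 := ded_9_1 L112748 (flp_a L120567) L158305
theorem L158309 : sm gf N14804 = N20036 := rfl
theorem L158311 : sm ga N20036 = N15432 := ded_11_1 (flp_f L112782) (flp_a L120567) L158309
theorem L158313 : sm gc N20036 = N14805 := ded_20_1 (flp_f L109480) L109478 L158309
theorem L158315 : sm gg N14804 = N20037 := rfl
theorem L158317 : sm ga N20037 = N15433 := ded_12_1 (flp_g L112784) (flp_a L120567) L158315
theorem L158319 : sm gc N20037 = N14806 := ded_21_1 (flp_g L109482) L109478 L158315
theorem L158321 : sm ga N14807 = N20038 := rfl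
theorem L158323 : sm gc N20038 = N15403 := ded_8_2 (flp_a L158303) L158301 L158321
theorem L158325 : sm gd N14807 = N20039 := rfl
theorem L158327 : sm gb N20039 = N14808 := ded_14_1 (flp_d L109486) L109484 L158325
theorem L158329 : sm gf N14807 = N20040 := rfl
theorem L158331 : sm gg N14807 = N20041 := rfl
theorem L158333 : sm gc N14808 = N20042 := rfl
theorem L158335 : sm ga N20042 = N14811 := ded_8_1 (flp_c L109500) (flp_a L109488) L158333
theorem L158337 : sm gd N19942 = N20042 := ded_28_1 (flp_c L158333) (flp_d L109486) (flp_c L92077) (flp_d L91930) L109121 L157779 L157781 L157791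
theorem L158339 : sm ge N14808 = N20043 := rfl
theorem L158341 : sm ga N20043 = N14812 := ded_10_1 (flp_e L109502) (flp_a L109488) L158339
theorem L158343 : sm gg N14808 = N20044 := rfl
theorem L158345 : sm ga N20044 = N14813 := ded_12_1 (flp_g L109506) (flp_a L109488) L158343
theorem L158347 : sm gd N20044 = N14809 := ded_24_1 (flp_g L109490) L109486 L158343
theorem L158349 : sm gf N20044 = N20027 := ded_29_2 (flp_g L158247) (flp_a L158235) L158237 L158343
theorem L158351 : sm gb N14809 = N20045 := rfl
theorem L158353 : sm gc N20045 = N16750 := ded_13_2 L121521 (flp_c L155512) (flp_b L109498) (flp_c L109494) L158351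
theorem L158355 : sm ga N16873 = N20045 := ded_8_3 L158353 L121515 (flp_c L122162)
theorem L158357 : sm gf N16749 = N20045 := ded_20_0 L158353 (flp_f L121513) L121511
theorem L158359 : sm gg N16869 = N20045 := ded_21_0 L158353 L121519 L122140
theorem L158361 : sm gb N20041 = N16869 := ded_17_5 L158359 (flp_b L158351) (flp_g L109490) L109484 L158331
theorem L158363 : sm gb N14811 = N20046 := rfl
theorem L158365 : sm gc N20046 = N14838 := ded_13_2 (flp_b L109634) (flp_c L92150) (flp_b L92089) L109500 L158363
theorem L158367 : sm gd N14811 = N20047 := rfl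
theorem L158369 : sm ga N20047 = N19942 := ded_9_1 L158337 L158335 L158367
theorem L158371 : sm gc N19940 = N20047 := ded_28_0 (flp_d L158367) (flp_c L109500) (flp_d L92087) (flp_c L44227) (flp_d L44153) L91932 L109133 (flp_a L157781)
theorem L158373 : sm ge N14811 = N20048 := rfl
theorem L158375 : sm gc N20048 = N14812 := ded_19_1 (flp_e L109502) L109500 L158373
theorem L158377 : sm gg N14811 = N20049 := rfl
theorem L158379 : sm gc N20049 = N14813 := ded_21_1 (flp_g L109506) L109500 L158377
theorem L158381 : sm gg N14812 = N20050 := rfl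
theorem L158383 : sm ge N20050 = N14813 := ded_26_1 (flp_g L109506) L109502 L158381
theorem L158385 : sm gb N20050 = N20050 := ded_17_1 (flp_g L158381) L109504 L92155 (flp_b L109504) L158381
theorem L158386 : sm gf N14813 = N20051 := rfl
theorem L158388 : sm ga N20051 = N20027 := ded_11_1 (flp_f L158349) L158345 L158386
theorem L158390 : sm gd N20051 = N14814 := ded_23_1 (flp_f L109511) (flp_d L109508) L158386
theorem L158392 : sm gg N20051 = N20024 := ded_29_3 L158235 L109456 L109506 L158386
theorem L158394 : sm gb N14814 = N20052 := rfl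
theorem L158396 : sm gf N20052 = N20052 := ded_16_2 (flp_b L158394) (flp_f L109511) L92095 L109511 L158394
theorem L158397 : sm ga N14815 = N20053 := rfl
theorem L158399 : sm gd N20053 = N19398 := ded_9_2 L154564 (flp_d L157475) L158397
theorem L158401 : sm gf N20053 = N16716 := ded_11_2 L156056 (flp_f L109521) L158397
theorem L158403 : sm gb N20053 = N16710 := ded_7_2 L153646 (flp_b L153638) (flp_a L144081) L158259 (flp_a L158253) (flp_b L109462) (flp_a L92098) L109519 L158397
theorem L158405 : sm gc N14815 = N20054 := rfl
theorem L158407 : sm gf N20054 = N19651 := ded_20_2 (flp_c L155743) (flp_f L109521) L158405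
theorem L158409 : sm gg N14815 = N20055 := rfl
theorem L158411 : sm gf N19865 = N20055 := ded_29_0 (flp_g L158409) L109521 L155746 L157263
theorem L158413 : sm gb N20055 = N20022 := ded_17_1 (flp_g L158225) (flp_b L109446) (flp_g L92100) L109519 L158409
theorem L158415 : sm gb N14821 = N20056 := rfl
theorem L158417 : sm gd N14821 = N20057 := rfl
theorem L158419 : sm ga N20057 = N14822 := ded_9_1 (flp_d L109557) L109553 L158417
theorem L158421 : sm gc N15347 = N20057 := ded_28_2 (flp_d L158417) L109555 (flp_d L112644) (flp_c L152606) L152608 L152188 (flp_c L152196) L152198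
theorem L158423 : sm gg N14835 = N20057 := ded_29_3 L158419 L152202 (flp_g L109624) L109620
theorem L158425 : sm gf N14821 = N20058 := rfl
theorem L158427 : sm ga N20058 = N14823 := ded_11_1 (flp_f L109561) L109553 L158425
theorem L158429 : sm gc N20058 = N15395 := ded_20_1 L112630 (flp_c L109555) L158425
theorem L158431 : sm gg N14821 = N20059 := rfl
theorem L158433 : sm ga N20059 = N14824 := ded_12_1 (flp_g L109566) L109553 L158431
theorem L158435 : sm gc N20059 = N15404 := ded_21_1 (flp_g L112656) (flp_c L109555) L158431
theorem L158437 : sm gd N20059 = N14835 := ded_24_1 L158423 (flp_d L158417) L158431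
theorem L158439 : sm gf N20059 = N14834 := ded_29_2 (flp_g L152206) (flp_a L158427) (flp_f L158425) L158431
theorem L158441 : sm ge N14822 = N20060 := rfl
theorem L158443 : sm gb N20060 = N14825 := ded_15_1 (flp_e L109570) (flp_b L109559) L158441
theorem L158445 : sm gf N20060 = N19810 := ded_25_2 L156924 (flp_f L152202) L158441
theorem L158447 : sm gg N14822 = N20061 := rfl
theorem L158449 : sm ga N20061 = N14835 := ded_12_1 L158423 L158419 L158447
theorem L158451 : sm gc N20061 = N15346 := ded_21_1 (flp_g L112416) L152200 L158447
theorem L158453 : sm gd N20061 = N14824 := ded_24_1 (flp_g L109566) L109557 L158447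
theorem L158455 : sm gf N14833 = N20061 := ded_29_0 (flp_g L158447) L152202 (flp_g L109624) L109612
theorem L158457 : sm gf N14824 = N20062 := rfl
theorem L158459 : sm ga N20062 = N14834 := ded_11_1 (flp_f L158439) L158433 L158457
theorem L158461 : sm gc N20062 = N15405 := ded_20_1 (flp_f L112662) (flp_c L109568) L158457
theorem L158463 : sm gd N20062 = N14833 := ded_23_1 L158455 L158453 L158457
theorem L158465 : sm gg N20062 = N20058 := ded_29_3 L158427 (flp_f L109561) L109566 L158457
theorem L158467 : sm ga N14826 = N20063 := rfl
theorem L158469 : sm gd N20063 = N19380 := ded_9_2 L153759 L141750 L158467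
theorem L158471 : sm ge N14826 = N20064 := rfl
theorem L158473 : sm gb N20064 = N14827 := ded_15_1 (flp_e L109577) L109575 L158471
theorem L158475 : sm gd N20064 = N19383 := ded_22_1 (flp_e L153779) (flp_d L106095) L106099 L141750 L158471
theorem L158477 : sm gf N14826 = N20065 := rfl
theorem L158479 : sm gd N20065 = N19385 := ded_23_1 (flp_f L153793) L141750 L158477
theorem L158481 : sm gb N20065 = N20065 := ded_16_1 (flp_f L158477) (flp_b L109575) L92125 L109575 L158477
theorem L158482 : sm gg N14826 = N20066 := rfl
theorem L158484 : sm gd N20066 = N19386 := ded_24_1 (flp_g L153800) L141750 L158482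
theorem L158486 : sm gb N14833 = N20067 := rfl
theorem L158488 : sm gg N14833 = N20068 := rfl
theorem L158490 : sm ga N20068 = N14836 := ded_12_1 (flp_g L109624) L109612 L158488
theorem L158492 : sm gc N20068 = N15338 := ded_21_1 L112388 (flp_c L109614) L158488
theorem L158494 : sm gd N20068 = N20058 := ded_24_1 (flp_g L158465) L158463 L158488
theorem L158496 : sm gf N20057 = N20068 := ded_29_0 (flp_g L158488) L158455 (flp_g L158447) (flp_a L158419)
theorem L158498 : sm ge N14834 = N20069 := rfl
theorem L158500 : sm gb N20069 = N14837 := ded_15_1 (flp_e L109629) (flp_b L109618) L158498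
theorem L158502 : sm gg N20069 = N19802 := ded_26_2 L156879 L152206 L158498
theorem L158504 : sm ga N14838 = N20070 := rfl
theorem L158506 : sm gd N20070 = N19416 := ded_9_2 L154025 L133429 L158504
theorem L158508 : sm ge N14838 = N20071 := rfl
theorem L158510 : sm gb N20071 = N14839 := ded_15_1 (flp_e L109636) L109634 L158508
theorem L158512 : sm gd N20071 = N19419 := ded_22_1 (flp_e L154047) (flp_d L106418) L106422 L133429 L158508
theorem L158514 : sm gf N14838 = N20072 := rfl
theorem L158516 : sm gd N20072 = N19421 := ded_23_1 (flp_f L154061) L133429 L158514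
theorem L158518 : sm gg N14838 = N20073 := rfl
theorem L158520 : sm gd N20073 = N19422 := ded_24_1 (flp_g L154067) L133429 L158518
theorem L158522 : sm gb N20073 = N20073 := ded_17_1 (flp_g L158518) (flp_b L109634) L92152 L109634 L158518
theorem L158523 : sm gc N14841 = N20074 := rfl
theorem L158525 : sm ga N20074 = N14845 := ded_8_1 (flp_c L109659) (flp_a L109645) L158523
theorem L158527 : sm gf N20074 = N15179 := ded_20_2 (flp_c L118974) L120245 L158523
theorem L158529 : sm gb N20074 = N19038 := ded_13_1 (flp_c L146104) (flp_b L104833) L104835 L119757 L158523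
theorem L158531 : sm gd N20074 = N15180 := ded_28_7 (flp_a L120720) (flp_c L120718) L97029 (flp_c L91650) (flp_d L91607) L119680 L109643 L158523
theorem L158533 : sm ge N14841 = N20075 := rfl
theorem L158535 : sm ga N20075 = N14846 := ded_10_1 (flp_e L109663) (flp_a L109645) L158533
theorem L158537 : sm gb N20075 = N18722 := ded_15_1 L144223 L119757 L158533
theorem L158539 : sm gf N20075 = N18294 := ded_25_2 L129390 L120245 L158533
theorem L158541 : sm gd N20075 = N18722 := ded_22_1 L144223 L119417 (flp_e L119456) L109643 L158533
theorem L158543 : sm gg N14841 = N20076 := rfl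
theorem L158545 : sm ga N20076 = N14848 := ded_12_1 (flp_g L109673) (flp_a L109645) L158543
theorem L158547 : sm gd N20076 = N14844 := ded_24_1 (flp_g L109655) L109643 L158543
theorem L158549 : sm gb N14844 = N20077 := rfl
theorem L158551 : sm ge N20077 = N15545 := ded_15_2 L149580 L120247 L158549
theorem L158553 : sm gf N20077 = N15544 := ded_16_2 L113378 L113416 L149760 (flp_f L109695) L158549
theorem L158555 : sm gg N20077 = N15545 := ded_17_2 L149580 (flp_g L108503) L119682 L109655 L158549
theorem L158557 : sm ge N14845 = N20078 := rfl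
theorem L158559 : sm gb N20078 = N17154 := ded_15_1 (flp_e L123444) (flp_b L109661) L158557
theorem L158561 : sm gc N20078 = N14846 := ded_19_1 (flp_e L109663) L109659 L158557
theorem L158563 : sm gf N20078 = N18400 := ded_25_2 L130174 (flp_f L120404) L158557
theorem L158565 : sm gg N14845 = N20079 := rfl
theorem L158567 : sm gc N20079 = N14848 := ded_21_1 (flp_g L109673) L109659 L158565
theorem L158569 : sm gf N14846 = N20080 := rfl
theorem L158571 : sm ga N20080 = N18294 := ded_11_1 (flp_f L158539) L158535 L158569
theorem L158573 : sm gc N20080 = N18400 := ded_20_1 (flp_f L158563) L158561 L158569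
theorem L158575 : sm gd N20080 = N18708 := ded_23_1 L144161 L119763 L158569
theorem L158577 : sm ge N20080 = N14847 := ded_25_1 (flp_f L109667) L109663 L158569
theorem L158579 : sm gb N20080 = N15477 := ded_16_1 (flp_f L113014) L94038 (flp_f L92178) (flp_b L109665) L158569
theorem L158581 : sm gg N14846 = N20081 := rfl
theorem L158583 : sm gd N20081 = N18724 := ded_24_1 (flp_g L144235) L119763 L158581
theorem L158585 : sm ge N20081 = N14848 := ded_26_1 (flp_g L109673) L109663 L158581
theorem L158587 : sm gb N20081 = N17204 := ded_17_1 (flp_g L123662) L98786 (flp_g L92180) (flp_b L109665) L158581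
theorem L158589 : sm gg N14847 = N20082 := rfl
theorem L158591 : sm ga N20082 = N18330 := ded_12_1 (flp_g L129731) L120253 L158589
theorem L158593 : sm gc N20082 = N18562 := ded_21_1 (flp_g L143301) (flp_c L120359) L158589
theorem L158595 : sm gd N20082 = N14852 := ded_24_1 (flp_g L109693) (flp_d L109669) L158589
theorem L158597 : sm gf N20076 = N20082 := ded_29_0 (flp_g L158589) (flp_f L109667) L109673 (flp_a L158545)
theorem L158599 : sm gb N14860 = N20083 := rfl
theorem L158601 : sm gd N14860 = N20084 := rfl
theorem L158603 : sm ga N20084 = N14861 := ded_9_1 (flp_d L109749) L109747 L158601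
theorem L158605 : sm gf N14860 = N20085 := rfl
theorem L158607 : sm ga N20085 = N14863 := ded_11_1 (flp_f L109757) L109747 L158605
theorem L158609 : sm gc N20085 = N18664 := ded_20_1 (flp_f L150472) L143913 L158605
theorem L158611 : sm ge N20085 = N17650 := ded_25_1 (flp_f L153724) L153722 L158605
theorem L158613 : sm gg N17333 = N20085 := ded_29_1 (flp_f L158605) (flp_g L157775) L157773 L150464
theorem L158615 : sm gb N17324 = N20085 := ded_30_2 L158607 (flp_f L109757) (flp_c L103604) (flp_b L103602) L88887 (flp_f L40245) (flp_c L19095) L9237 (flp_a L65645) L65647 (flp_c L23731) L84071 L94899 L114642 (flp_c L149015) L143335 (flp_a L124393) (flp_f L124391) (flp_c L124303)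
theorem L158617 : sm gc N14861 = N20086 := rfl
theorem L158619 : sm gb N20086 = N15339 := ded_13_1 L152200 L109559 L92222 (flp_b L109751) L158617
theorem L158621 : sm gf N15340 = N20086 := ded_16_0 L158619 (flp_f L112390) (flp_b L93710) L93714 L112392
theorem L158623 : sm ge N14861 = N20087 := rfl
theorem L158625 : sm gb N20087 = N14865 := ded_15_1 (flp_e L109762) (flp_b L109751) L158623
theorem L158627 : sm gd N20087 = N19289 := ded_22_1 (flp_e L152951) (flp_d L106082) L141787 L109749 L158623
theorem L158629 : sm gf N14861 = N20088 := rfl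
theorem L158631 : sm gc N20088 = N15340 := ded_20_1 L158621 (flp_c L158617) L158629
theorem L158633 : sm gd N20088 = N14863 := ded_23_1 (flp_f L109757) L109749 L158629
theorem L158635 : sm gb N20088 = N20088 := ded_16_1 (flp_f L158629) L109751 L92221 (flp_b L109751) L158629
theorem L158636 : sm gg N14861 = N20089 := rfl
theorem L158638 : sm gd N20089 = N14864 := ded_24_1 (flp_g L109760) L109749 L158636
theorem L158640 : sm gg N14863 = N20090 := rfl
theorem L158642 : sm ga N20090 = N17333 := ded_12_1 L158613 L158607 L158640
theorem L158644 : sm gc N20090 = N18667 := ded_21_1 (flp_g L150476) L143923 L158640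
theorem L158646 : sm ge N20090 = N17648 := ded_26_1 (flp_g L153734) L153732 L158640
theorem L158648 : sm gf N19938 = N20090 := ded_29_0 (flp_g L158640) (flp_f L109757) L109760 (flp_a L157773)
theorem L158650 : sm gc N14868 = N20091 := rfl
theorem L158652 : sm ga N20091 = N14872 := ded_8_1 (flp_c L109790) (flp_a L109776) L158650
theorem L158654 : sm gg N20091 = N15212 := ded_21_2 L150932 (flp_g L149009) L158650
theorem L158656 : sm gb N20091 = N19046 := ded_13_1 (flp_c L146146) (flp_b L104857) L104859 (flp_b L149007) L158650
theorem L158658 : sm gd N20091 = N15214 := ded_28_7 (flp_a L120780) (flp_c L120778) (flp_d L150376) (flp_c L91662) (flp_d L91615) (flp_c L147847) L109774 L158650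
theorem L158660 : sm ge N14868 = N20092 := rfl
theorem L158662 : sm ga N20092 = N14873 := ded_10_1 (flp_e L109794) (flp_a L109776) L158660
theorem L158664 : sm gb N20092 = N18727 := ded_15_1 L144257 (flp_b L149007) L158660
theorem L158666 : sm gg N20092 = N18300 := ded_26_2 L129440 (flp_g L149009) L158660
theorem L158668 : sm gd N20092 = N18727 := ded_22_1 L144257 L148116 L148114 L109774 L158660
theorem L158670 : sm gf N14868 = N20093 := rfl
theorem L158672 : sm ga N20093 = N14874 := ded_11_1 (flp_f L109798) (flp_a L109776) L158670
theorem L158674 : sm gd N20093 = N14870 := ded_23_1 (flp_f L109782) L109774 L158670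
theorem L158676 : sm gb N14870 = N20094 := rfl
theorem L158678 : sm ge N20094 = N15467 := ded_15_2 L149510 (flp_e L149214) L158676
theorem L158680 : sm gf N20094 = N15467 := ded_16_2 L149510 (flp_f L108539) L147853 L109782 L158676
theorem L158682 : sm gg N20094 = N15465 := ded_17_2 L112950 L112996 L149504 L109832 L158676
theorem L158684 : sm ge N14872 = N20095 := rfl
theorem L158686 : sm gb N20095 = N17246 := ded_15_1 (flp_e L123880) (flp_b L109792) L158684
theorem L158688 : sm gc N20095 = N14873 := ded_19_1 (flp_e L109794) L109790 L158684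
theorem L158690 : sm gg N20095 = N18421 := ded_26_2 L130294 (flp_g L149480) L158684
theorem L158692 : sm gf N14872 = N20096 := rfl
theorem L158694 : sm gc N20096 = N14874 := ded_20_1 (flp_f L109798) L109790 L158692
theorem L158696 : sm gf N14873 = N20097 := rfl
theorem L158698 : sm gd N20097 = N18730 := ded_23_1 (flp_f L144269) (flp_d L148884) L158696
theorem L158700 : sm ge N20097 = N14874 := ded_25_1 (flp_f L109798) L109794 L158696
theorem L158702 : sm gb N20097 = N17295 := ded_16_1 (flp_f L124127) L98969 (flp_f L92251) (flp_b L109796) L158696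
theorem L158704 : sm gg N14873 = N20098 := rfl
theorem L158706 : sm ga N20098 = N18300 := ded_12_1 (flp_g L158666) L158662 L158704
theorem L158708 : sm gc N20098 = N18421 := ded_21_1 (flp_g L158690) L158688 L158704
theorem L158710 : sm gd N20098 = N18712 := ded_24_1 L144181 (flp_d L148884) L158704
theorem L158712 : sm ge N20098 = N14875 := ded_26_1 (flp_g L109804) L109794 L158704
theorem L158714 : sm gb N20098 = N15557 := ded_17_1 (flp_g L113446) L94289 (flp_g L92253) (flp_b L109796) L158704
theorem L158716 : sm gf N14875 = N20099 := rfl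
theorem L158718 : sm ga N20099 = N18341 := ded_11_1 (flp_f L129803) (flp_a L148504) L158716
theorem L158720 : sm gc N20099 = N18600 := ded_20_1 (flp_f L143519) (flp_c L148506) L158716
theorem L158722 : sm gd N20099 = N14880 := ded_23_1 (flp_f L109828) (flp_d L109806) L158716
theorem L158724 : sm gg N20099 = N20093 := ded_29_3 L158672 (flp_f L109798) L109804 L158716
theorem L158726 : sm gb N14887 = N20100 := rfl
theorem L158728 : sm gd N14887 = N20101 := rfl
theorem L158730 : sm ga N20101 = N14888 := ded_9_1 (flp_d L109880) L109878 L158728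
theorem L158732 : sm gg N14887 = N20102 := rfl
theorem L158734 : sm ga N20102 = N14891 := ded_12_1 (flp_g L109890) L109878 L158732
theorem L158736 : sm gc N20102 = N18686 := ded_21_1 (flp_g L150480) L144051 L158732
theorem L158738 : sm ge N20102 = N17823 := ded_26_1 L153996 L153994 L158732
theorem L158740 : sm gf N20102 = N17409 := ded_29_2 (flp_g L150484) (flp_a L157639) L157641 L158732
theorem L158742 : sm gb N17400 = N20102 := ded_13_5 L158736 (flp_b L144001) L103660 (flp_b L99355) (flp_c L124680)
theorem L158744 : sm gc N14888 = N20103 := rfl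
theorem L158746 : sm gb N20103 = N15396 := ded_13_1 (flp_c L152208) L109618 L92295 (flp_b L109882) L158744
theorem L158748 : sm gg N15397 = N20103 := ded_17_0 L158746 (flp_g L112632) (flp_b L93825) L93829 L112634
theorem L158750 : sm ge N14888 = N20104 := rfl
theorem L158752 : sm gb N20104 = N14892 := ded_15_1 (flp_e L109893) (flp_b L109882) L158750
theorem L158754 : sm gd N20104 = N19346 := ded_22_1 (flp_e L153388) (flp_d L106405) L133459 L109880 L158750
theorem L158756 : sm gf N14888 = N20105 := rfl
theorem L158758 : sm gd N20105 = N14890 := ded_23_1 (flp_f L109888) L109880 L158756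
theorem L158760 : sm gg N14888 = N20106 := rfl
theorem L158762 : sm gc N20106 = N15397 := ded_21_1 L158748 (flp_c L158744) L158760
theorem L158764 : sm gd N20106 = N14891 := ded_24_1 (flp_g L109890) L109880 L158760
theorem L158766 : sm gb N20106 = N20106 := ded_17_1 (flp_g L158760) L109882 L92294 (flp_b L109882) L158760
theorem L158767 : sm gf N14891 = N20107 := rfl
theorem L158769 : sm ga N20107 = N17409 := ded_11_1 (flp_f L158740) L158734 L158767
theorem L158771 : sm gc N20107 = N18692 := ded_20_1 (flp_f L150482) L144075 L158767
theorem L158773 : sm ge N20107 = N17822 := ded_25_1 L154006 L154004 L158767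
theorem L158775 : sm gg N20107 = N19918 := ded_29_3 L157639 (flp_f L109888) L109890 L158767
theorem L158777 : sm gc N14916 = N20108 := rfl
theorem L158779 : sm ge N20108 = N15148 := ded_19_2 (flp_c L111429) (flp_e L110051) L158777
theorem L158781 : sm gf N20108 = N15931 := ded_20_2 (flp_c L115192) (flp_f L110053) L158777
theorem L158783 : sm gg N14916 = N20109 := rfl
theorem L158785 : sm ga N20109 = N16380 := ded_12_1 L117727 L116881 L158783
theorem L158787 : sm ge N20109 = N15149 := ded_26_1 (flp_g L111433) (flp_e L110051) L158783
theorem L158789 : sm gb N20109 = N16405 := ded_17_1 (flp_g L117861) (flp_b L110123) L92466 L110049 L158783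
theorem L158791 : sm gc N14917 = N20110 := rfl
theorem L158793 : sm ge N20110 = N15150 := ded_19_2 (flp_c L111441) (flp_e L110057) L158791
theorem L158795 : sm gg N20110 = N15934 := ded_21_2 (flp_c L115206) (flp_g L110059) L158791
theorem L158797 : sm gf N14917 = N20111 := rfl
theorem L158799 : sm ga N20111 = N16277 := ded_11_1 (flp_f L117521) L117525 L158797
theorem L158801 : sm ge N20111 = N15151 := ded_25_1 (flp_f L111445) (flp_e L110057) L158797
theorem L158803 : sm gb N20111 = N16302 := ded_16_1 (flp_f L117251) (flp_b L110103) (flp_f L92452) L110055 L158797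
theorem L158805 : sm gc N14918 = N20112 := rfl
theorem L158807 : sm ge N20112 = N15950 := ded_19_2 (flp_c L115309) (flp_e L110065) L158805
theorem L158809 : sm gf N20112 = N14934 := ded_20_2 (flp_c L110158) (flp_f L110067) L158805
theorem L158811 : sm gg N14918 = N20113 := rfl
theorem L158813 : sm gd N20113 = N14922 := ded_24_1 (flp_g L110099) (flp_d L110063) L158811
theorem L158815 : sm ge N20113 = N15951 := ded_26_1 (flp_g L115313) (flp_e L110065) L158811
theorem L158817 : sm gb N14919 = N20114 := rfl
theorem L158819 : sm gd N20114 = N14923 := ded_14_2 (flp_b L110103) (flp_d L110073) L158817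
theorem L158821 : sm ge N20114 = N15952 := ded_15_2 (flp_b L115317) (flp_e L110075) L158817
theorem L158823 : sm gc N14920 = N20115 := rfl
theorem L158825 : sm ge N20115 = N15954 := ded_19_2 (flp_c L115327) (flp_e L110083) L158823
theorem L158827 : sm gg N20115 = N14937 := ded_21_2 (flp_c L110174) (flp_g L110085) L158823
theorem L158829 : sm gf N14920 = N20116 := rfl
theorem L158831 : sm gd N20116 = N14926 := ded_23_1 (flp_f L110119) (flp_d L110081) L158829
theorem L158833 : sm ge N20116 = N15955 := ded_25_1 (flp_f L115331) (flp_e L110083) L158829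
theorem L158835 : sm gb N14921 = N20117 := rfl
theorem L158837 : sm gd N20117 = N14927 := ded_14_2 (flp_b L110123) (flp_d L110093) L158835
theorem L158839 : sm ge N20117 = N15956 := ded_15_2 (flp_b L115335) (flp_e L110095) L158835
theorem L158841 : sm gb N14922 = N20118 := rfl
theorem L158843 : sm ge N20118 = N15159 := ded_15_2 (flp_b L111473) (flp_e L110101) L158841
theorem L158845 : sm gf N20118 = N16305 := ded_16_2 L117269 L117401 L117409 L110200 L158841
theorem L158847 : sm gg N20118 = N14923 := ded_17_2 (flp_b L110103) (flp_g L92448) L92442 L110099 L158841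
theorem L158849 : sm ga N20118 = N16140 := ded_7_1 (flp_b L116351) (flp_a L95761) (flp_b L84540) (flp_a L25110) L84873 L96514 L110218 L110210 L158841
theorem L158851 : sm gc N14923 = N20119 := rfl
theorem L158853 : sm ge N20119 = N15160 := ded_19_2 (flp_c L111483) (flp_e L110105) L158851
theorem L158855 : sm gb N14926 = N20120 := rfl
theorem L158857 : sm ge N20120 = N15164 := ded_15_2 (flp_b L111499) (flp_e L110121) L158855
theorem L158859 : sm gf N20120 = N14927 := ded_16_2 (flp_b L110123) (flp_f L92460) L92454 L110119 L158855
theorem L158861 : sm gg N20120 = N16407 := ded_17_2 L117871 L118007 (flp_b L118015) (flp_g L110236) L158855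
theorem L158863 : sm ga N20120 = N16100 := ded_7_1 (flp_b L116119) (flp_a L95662) (flp_b L84496) (flp_a L25052) L84751 L96229 (flp_b L150276) L150274 L158855
theorem L158865 : sm gc N14927 = N20121 := rfl
theorem L158867 : sm ge N20121 = N15165 := ded_19_2 (flp_c L111509) (flp_e L110125) L158865
theorem L158869 : sm gb N14928 = N20122 := rfl
theorem L158871 : sm gd N20122 = N20122 := ded_14_2 (flp_b L158869) L110129 L158869
theorem L158872 : sm ge N20122 = N15973 := ded_15_2 (flp_b L115441) (flp_e L110130) L158869
theorem L158874 : sm gc N20122 = N15973 := ded_13_2 (flp_b L115441) L103732 (flp_b L128663) (flp_c L128667) L158869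
theorem L158876 : sm ga N20122 = N20122 := ded_7_1 (flp_b L158869) (flp_a L110127) (flp_b L92468) L45130 L21724 (flp_a L45130) L92468 L110127 L158869
theorem L158877 : sm gf N20122 = N20122 := ded_25_0 L158872 L144304 (flp_e L158872)
theorem L158878 : sm gg N20122 = N20122 := ded_26_0 L158872 L151372 (flp_e L158872)
theorem L158879 : sm gf N14928 = N20123 := rfl
theorem L158881 : sm ga N20123 = N14929 := ded_11_1 (flp_f L110132) L110127 L158879
theorem L158883 : sm gd N20123 = N20123 := ded_23_1 (flp_f L158879) L110129 L158879
theorem L158884 : sm ge N20123 = N15975 := ded_25_1 (flp_f L115450) (flp_e L110130) L158879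
theorem L158886 : sm gb N20123 = N20123 := ded_16_1 (flp_f L158879) L158869 L158877 (flp_b L158869) L158879
theorem L158887 : sm gg N14928 = N20124 := rfl
theorem L158889 : sm ga N20124 = N14930 := ded_12_1 (flp_g L110137) L110127 L158887
theorem L158891 : sm gd N20124 = N20124 := ded_24_1 (flp_g L158887) L110129 L158887
theorem L158892 : sm ge N20124 = N15976 := ded_26_1 (flp_g L115454) (flp_e L110130) L158887
theorem L158894 : sm gb N20124 = N20124 := ded_17_1 (flp_g L158887) L158869 L158878 (flp_b L158869) L158887
theorem L158895 : sm gb N14929 = N20125 := rfl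
theorem L158897 : sm gd N20125 = N20125 := ded_14_2 (flp_b L158895) L110134 L158895
theorem L158898 : sm ge N20125 = N15979 := ded_15_2 (flp_b L115470) (flp_e L110135) L158895
theorem L158900 : sm gf N20125 = N14931 := ded_16_2 (flp_b L110142) (flp_f L92473) L92468 L110132 L158895
theorem L158902 : sm gg N14929 = N20126 := rfl
theorem L158904 : sm gd N20126 = N20126 := ded_24_1 (flp_g L158902) L110134 L158902
theorem L158905 : sm ge N20126 = N15980 := ded_26_1 (flp_g L115474) (flp_e L110135) L158902
theorem L158907 : sm gf N20124 = N20126 := ded_29_0 (flp_g L158902) (flp_f L110132) L110137 (flp_a L158889)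
theorem L158909 : sm gb N14930 = N20127 := rfl
theorem L158911 : sm gd N20127 = N20127 := ded_14_2 (flp_b L158909) L110139 L158909
theorem L158912 : sm ge N20127 = N15981 := ded_15_2 (flp_b L115478) (flp_e L110140) L158909
theorem L158914 : sm gg N20127 = N14932 := ded_17_2 (flp_b L110147) (flp_g L92482) L92468 L110137 L158909
theorem L158916 : sm gf N14930 = N20128 := rfl
theorem L158918 : sm ga N20128 = N20126 := ded_11_1 (flp_f L158907) L158889 L158916
theorem L158920 : sm gd N20128 = N20128 := ded_23_1 (flp_f L158916) L110139 L158916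
theorem L158921 : sm ge N20128 = N15982 := ded_25_1 (flp_f L115482) (flp_e L110140) L158916
theorem L158923 : sm gg N20128 = N20123 := ded_29_3 L158881 (flp_f L110132) L110137 L158916
theorem L158925 : sm ga N14931 = N20129 := rfl
theorem L158927 : sm gd N20129 = N20129 := ded_9_2 (flp_a L158925) L110144 L158925
theorem L158928 : sm ge N20129 = N15985 := ded_10_2 (flp_a L115498) (flp_e L110145) L158925
theorem L158930 : sm gb N20129 = N20129 := ded_7_2 (flp_a L158925) (flp_b L110142) L92475 L92533 L103844 (flp_b L92533) (flp_a L92475) L110142 L158925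
theorem L158931 : sm gc N14931 = N20130 := rfl
theorem L158933 : sm ge N20130 = N15986 := ded_19_2 (flp_c L115501) (flp_e L110145) L158931
theorem L158935 : sm gb N20130 = N14934 := ded_13_1 (flp_c L110158) (flp_b L92491) (flp_c L92477) L110142 L158931
theorem L158937 : sm gg N14931 = N20131 := rfl
theorem L158939 : sm gd N20131 = N20131 := ded_24_1 (flp_g L158937) L110144 L158937
theorem L158940 : sm ge N20131 = N15987 := ded_26_1 (flp_g L115505) (flp_e L110145) L158937
theorem L158942 : sm gf N14951 = N20131 := ded_25_0 L158940 L151168 (flp_e L110274)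
theorem L158944 : sm ga N14932 = N20132 := rfl
theorem L158946 : sm gd N20132 = N20132 := ded_9_2 (flp_a L158944) L110149 L158944
theorem L158947 : sm ge N20132 = N15988 := ded_10_2 (flp_a L115507) (flp_e L110150) L158944
theorem L158949 : sm gb N20132 = N20132 := ded_7_2 (flp_a L158944) (flp_b L110147) L92484 L92548 L150842 (flp_b L92548) (flp_a L92484) L110147 L158944
theorem L158950 : sm gc N14932 = N20133 := rfl
theorem L158952 : sm ge N20133 = N15989 := ded_19_2 (flp_c L115509) (flp_e L110150) L158950
theorem L158954 : sm gb N20133 = N14937 := ded_13_1 (flp_c L110174) (flp_b L92497) (flp_c L92486) L110147 L158950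
theorem L158956 : sm gf N14932 = N20134 := rfl
theorem L158958 : sm gd N20134 = N20134 := ded_23_1 (flp_f L158956) L110149 L158956
theorem L158959 : sm ge N20134 = N15990 := ded_25_1 (flp_f L115513) (flp_e L110150) L158956
theorem L158961 : sm gb N20134 = N20131 := ded_16_1 (flp_f L158942) (flp_b L110271) (flp_f L92546) L110147 L158956
theorem L158963 : sm gg N14955 = N20134 := ded_31_0 (flp_f L158956) (flp_b L110147) (flp_g L92482) L92473 L110142 L158937 (flp_f L158942) (flp_b L110271) (flp_g L92539) (flp_f L45161) L21724 L45167 L92554 L110294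
theorem L158965 : sm gb N14933 = N20135 := rfl
theorem L158967 : sm gd N20135 = N14939 := ded_14_2 (flp_b L110184) (flp_d L110154) L158965
theorem L158969 : sm ge N20135 = N15991 := ded_15_2 (flp_b L115515) (flp_e L110156) L158965
theorem L158971 : sm gf N20135 = N19561 := ded_16_2 L155080 (flp_f L155804) L155802 L110206 L158965
theorem L158973 : sm gc N14933 = N20136 := rfl
theorem L158975 : sm ga N20136 = N14934 := ded_8_1 (flp_c L110158) L110152 L158973
theorem L158977 : sm ge N20136 = N15992 := ded_19_2 (flp_c L115519) (flp_e L110156) L158973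
theorem L158979 : sm gg N14933 = N20137 := rfl
theorem L158981 : sm ga N20137 = N14935 := ded_12_1 (flp_g L110162) L110152 L158979
theorem L158983 : sm gd N20137 = N14940 := ded_24_1 (flp_g L110192) (flp_d L110154) L158979
theorem L158985 : sm ge N20137 = N15993 := ded_26_1 (flp_g L115523) (flp_e L110156) L158979
theorem L158987 : sm gf N20137 = N20113 := ded_29_2 (flp_g L158811) (flp_a L110204) L110206 L158979
theorem L158989 : sm gd N14934 = N20138 := rfl
theorem L158991 : sm gg N14934 = N20139 := rfl
theorem L158993 : sm gc N20139 = N14935 := ded_21_1 (flp_g L110162) L110158 L158991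
theorem L158995 : sm ge N20139 = N15995 := ded_26_1 (flp_g L115533) (flp_e L110160) L158991
theorem L158997 : sm gf N14935 = N20140 := rfl
theorem L158999 : sm ga N20140 = N20113 := ded_11_1 (flp_f L158987) L158981 L158997
theorem L159001 : sm gd N20140 = N14942 := ded_23_1 (flp_f L110216) (flp_d L110164) L158997
theorem L159003 : sm ge N20140 = N15996 := ded_25_1 (flp_f L115537) (flp_e L110166) L158997
theorem L159005 : sm gg N20140 = N14941 := ded_29_3 L110204 L110067 L110162 L158997
theorem L159007 : sm gb N16227 = N20140 := ded_14_3 L159001 (flp_b L110218) (flp_d L116781)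
theorem L159009 : sm gb N14936 = N20141 := rfl
theorem L159011 : sm gd N20141 = N14943 := ded_14_2 (flp_b L110220) (flp_d L110170) L159009
theorem L159013 : sm ge N20141 = N15997 := ded_15_2 (flp_b L115545) (flp_e L110172) L159009
theorem L159015 : sm gg N20141 = N19566 := ded_17_2 L155134 (flp_g L155812) L155810 L150912 L159009
theorem L159017 : sm gc N14936 = N20142 := rfl
theorem L159019 : sm ga N20142 = N14937 := ded_8_1 (flp_c L110174) L110168 L159017
theorem L159021 : sm ge N20142 = N15998 := ded_19_2 (flp_c L115549) (flp_e L110172) L159017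
theorem L159023 : sm gf N14936 = N20143 := rfl
theorem L159025 : sm ga N20143 = N14938 := ded_11_1 (flp_f L110178) L110168 L159023
theorem L159027 : sm gd N20143 = N14945 := ded_23_1 (flp_f L110230) (flp_d L110170) L159023
theorem L159029 : sm ge N20143 = N15999 := ded_25_1 (flp_f L115553) (flp_e L110172) L159023
theorem L159031 : sm gg N20116 = N20143 := ded_29_1 (flp_f L159023) (flp_g L150912) L150962 L158829
theorem L159033 : sm gd N14937 = N20144 := rfl
theorem L159035 : sm gf N14937 = N20145 := rfl
theorem L159037 : sm gc N20145 = N14938 := ded_20_1 (flp_f L110178) L110174 L159035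
theorem L159039 : sm ge N20145 = N16001 := ded_25_1 (flp_f L115563) (flp_e L110176) L159035
theorem L159041 : sm gg N14938 = N20146 := rfl
theorem L159043 : sm ga N20146 = N20116 := ded_12_1 L159031 L159025 L159041
theorem L159045 : sm gd N20146 = N14947 := ded_24_1 L150278 (flp_d L110180) L159041
theorem L159047 : sm ge N20146 = N16002 := ded_26_1 (flp_g L115567) (flp_e L110182) L159041
theorem L159049 : sm gf N14946 = N20146 := ded_29_0 (flp_g L159041) (flp_f L110178) (flp_g L110085) (flp_a L150962)
theorem L159051 : sm gb N16182 = N20146 := ded_14_3 L159045 L150276 (flp_d L116575)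
theorem L159053 : sm gg N14939 = N20147 := rfl
theorem L159055 : sm ga N20147 = N16348 := ded_12_1 (flp_g L117515) L115577 L159053
theorem L159057 : sm gc N20147 = N19544 := ded_21_1 (flp_g L154952) (flp_c L110188) L159053
theorem L159059 : sm ge N20147 = N15166 := ded_26_1 (flp_g L111511) (flp_e L110186) L159053
theorem L159061 : sm gf N16004 = N20147 := ded_29_0 (flp_g L159053) L110190 L155084 L155086
theorem L159063 : sm gb N20147 = N16321 := ded_17_1 (flp_g L117407) L117409 (flp_g L110192) L110184 L159053
theorem L159065 : sm gc N14941 = N20148 := rfl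
theorem L159067 : sm ga N20148 = N20112 := ded_8_1 (flp_c L158805) (flp_a L110204) L159065
theorem L159069 : sm gf N20148 = N20136 := ded_20_2 (flp_c L158973) (flp_f L110206) L159065
theorem L159071 : sm gf N14943 = N20149 := rfl
theorem L159073 : sm ga N20149 = N16245 := ded_11_1 (flp_f L116887) L115657 L159071
theorem L159075 : sm gc N20149 = N19547 := ded_20_1 (flp_f L154974) (flp_c L150942) L159071
theorem L159077 : sm ge N20149 = N15168 := ded_25_1 (flp_f L111525) (flp_e L110222) L159071
theorem L159079 : sm gg N20149 = N16016 := ded_29_3 (flp_a L155140) (flp_f L155138) L150305 L159071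
theorem L159081 : sm gb N20149 = N16425 := ded_16_1 L118013 (flp_b L118015) (flp_f L110230) L110220 L159071
theorem L159083 : sm gc N14946 = N20150 := rfl
theorem L159085 : sm ga N20150 = N20115 := ded_8_1 (flp_c L158823) (flp_a L150962) L159083
theorem L159087 : sm gg N20150 = N20142 := ded_21_2 (flp_c L159017) (flp_g L150912) L159083
theorem L159089 : sm gd N14949 = N20151 := rfl
theorem L159091 : sm ga N20151 = N20151 := ded_9_1 (flp_d L159089) L110258 L159089
theorem L159092 : sm gb N20151 = N14958 := ded_14_1 (flp_d L110313) (flp_b L110262) L159089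
theorem L159094 : sm gf N20151 = N20151 := ded_23_2 (flp_d L159089) L110261 L159089
theorem L159095 : sm gg N14949 = N20152 := rfl
theorem L159097 : sm ga N20152 = N20152 := ded_12_1 (flp_g L159095) L110258 L159095
theorem L159098 : sm gc N20152 = N14950 := ded_21_1 (flp_g L110264) L110256 L159095
theorem L159100 : sm ge N20152 = N16035 := ded_26_1 (flp_g L115756) (flp_e L110259) L159095
theorem L159102 : sm gf N20152 = N20152 := ded_29_0 (flp_g L159095) L110261 L159095 L159097
theorem L159103 : sm gb N14950 = N20153 := rfl
theorem L159105 : sm gd N20153 = N20153 := ded_14_2 (flp_b L159103) L110267 L159103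
theorem L159106 : sm ge N20153 = N16036 := ded_15_2 (flp_b L115762) (flp_e L110268) L159103
theorem L159108 : sm gg N20153 = N14951 := ded_17_2 (flp_b L110271) (flp_g L92539) L92533 L110264 L159103
theorem L159110 : sm ga N20125 = N20153 := ded_10_3 L159106 L151286 (flp_e L158898)
theorem L159112 : sm gf N20129 = N20153 := ded_25_0 L159106 (flp_f L151288) (flp_e L158928)
theorem L159114 : sm ga N14951 = N20154 := rfl
theorem L159116 : sm gd N20154 = N20154 := ded_9_2 (flp_a L159114) L110273 L159114
theorem L159117 : sm ge N20154 = N16037 := ded_10_2 (flp_a L115766) (flp_e L110274) L159114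
theorem L159119 : sm gg N20154 = N20125 := ded_12_2 L159110 L159108 L159114
theorem L159121 : sm gc N14951 = N20155 := rfl
theorem L159123 : sm ge N20155 = N16038 := ded_19_2 (flp_c L115768) (flp_e L110274) L159121
theorem L159125 : sm gb N20155 = N14962 := ded_13_1 (flp_c L110337) (flp_b L92585) (flp_c L92541) L110271 L159121
theorem L159127 : sm gd N14953 = N20156 := rfl
theorem L159129 : sm ga N20156 = N20156 := ded_9_1 (flp_d L159127) L151155 L159127
theorem L159130 : sm gb N20156 = N14966 := ded_14_1 (flp_d L110363) (flp_b L110287) L159127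
theorem L159132 : sm gg N20156 = N20156 := ded_24_2 (flp_d L159127) L110286 L159127
theorem L159133 : sm gf N14953 = N20157 := rfl
theorem L159136 : sm gc N20157 = N14954 := ded_20_1 (flp_f L110289) L110282 L159133
theorem L159138 : sm ge N20157 = N16044 := ded_25_1 (flp_f L115794) (flp_e L110284) L159133
theorem L159141 : sm gb N14954 = N20158 := rfl
theorem L159143 : sm gd N20158 = N20158 := ded_14_2 (flp_b L159141) L110291 L159141
theorem L159144 : sm ge N20158 = N16045 := ded_15_2 (flp_b L115798) (flp_e L110292) L159141
theorem L159146 : sm gf N20158 = N14955 := ded_16_2 (flp_b L110294) (flp_f L92554) L92548 L110289 L159141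
theorem L159148 : sm ga N20127 = N20158 := ded_10_3 L159144 (flp_a L151293) (flp_e L158912)
theorem L159150 : sm gg N20132 = N20158 := ded_26_0 L159144 L151295 (flp_e L158947)
theorem L159152 : sm ga N14955 = N20159 := rfl
theorem L159154 : sm gd N20159 = N20159 := ded_9_2 (flp_a L159152) L110296 L159152
theorem L159155 : sm ge N20159 = N16046 := ded_10_2 (flp_a L115802) (flp_e L110297) L159152
theorem L159157 : sm gf N20159 = N20127 := ded_11_2 L159148 L159146 L159152
theorem L159159 : sm gc N14955 = N20160 := rfl
theorem L159161 : sm ge N20160 = N16047 := ded_19_2 (flp_c L115804) (flp_e L110297) L159159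
theorem L159163 : sm gb N20160 = N14970 := ded_13_1 (flp_c L110387) (flp_b L92611) (flp_c L92558) L110294 L159159
theorem L159165 : sm gc N14956 = N20161 := rfl
theorem L159167 : sm ge N20161 = N16049 := ded_19_2 (flp_c L115812) (flp_e L110303) L159165
theorem L159169 : sm gf N14956 = N20162 := rfl
theorem L159171 : sm gd N20162 = N14974 := ded_23_1 (flp_f L110407) (flp_d L110301) L159169
theorem L159173 : sm ge N20162 = N16050 := ded_25_1 (flp_f L115826) (flp_e L110303) L159169
theorem L159175 : sm gb N20162 = N15010 := ded_16_1 (flp_f L110599) (flp_b L92701) (flp_f L92571) L110299 L159169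
theorem L159177 : sm gg N14956 = N20163 := rfl
theorem L159179 : sm gd N20163 = N14975 := ded_24_1 (flp_g L110413) (flp_d L110301) L159177
theorem L159181 : sm ge N20163 = N16051 := ded_26_1 (flp_g L115832) (flp_e L110303) L159177
theorem L159183 : sm gb N14957 = N20164 := rfl
theorem L159185 : sm ge N20164 = N15013 := ded_15_2 L115818 (flp_e L110309) L159183
theorem L159187 : sm gf N20164 = N16159 := ded_16_2 L116473 (flp_f L115824) (flp_b L110611) (flp_f L110311) L159183
theorem L159189 : sm ga N15017 = N20164 := ded_10_3 L159185 L110617 L110637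
theorem L159191 : sm gd N16160 = N20164 := ded_22_5 L159185 (flp_d L110615) L92711 L95828 (flp_e L116479)
theorem L159193 : sm gd N14957 = N20165 := rfl
theorem L159195 : sm ga N20165 = N14958 := ded_9_1 (flp_d L110313) (flp_a L110307) L159193
theorem L159197 : sm gb N20165 = N16160 := ded_14_1 L159191 (flp_b L159183) L159193
theorem L159199 : sm gf N20165 = N15013 := ded_23_2 (flp_d L110615) (flp_f L110311) L159193
theorem L159201 : sm ge N20165 = N16159 := ded_22_2 (flp_d L116471) (flp_e L110613) (flp_d L115820) (flp_e L110309) L159193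
theorem L159203 : sm gc N14958 = N20166 := rfl
theorem L159205 : sm gf N20166 = N15016 := ded_20_2 (flp_c L110635) (flp_f L110315) L159203
theorem L159207 : N20151 = N20152 := coi_30_3 L159097 L159102 L159098 L159103 (flp_a L159110) L158900 L158931 L158935 (flp_a L158975) (flp_f L159069) (flp_c L159065) (flp_b L155802) L155800 (flp_f L115826) L115812 L115816 L110839 (flp_f L159205) (flp_c L159203) (flp_b L159092)
theorem L159208 : N20152 = N20151 := (eqc rfl L159207 rfl).symm
theorem L159210 : sm gc N20151 = N14950 := trfs L159208 L159098 rfl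
theorem L159212 : sm ge N20151 = N16035 := trfs L159208 L159100 rfl
theorem L159215 : sm gg N20151 = N14949 := trfs L159208 (flp_g L159095) rfl
theorem L159217 : sm ge N14958 = N20167 := rfl
theorem L159219 : sm ga N20167 = N16159 := ded_10_1 (flp_e L159201) L159195 L159217
theorem L159221 : sm gb N20167 = N16035 := ded_15_1 (flp_e L159212) L159092 L159217
theorem L159223 : sm gf N20167 = N15017 := ded_25_2 (flp_e L110637) (flp_f L110315) L159217
theorem L159225 : sm gd N20167 = N16053 := ded_22_1 (flp_e L115840) (flp_d L95560) (flp_e L92575) L110313 L159217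
theorem L159227 : sm gg N16055 = N20167 := ded_17_0 L159221 (flp_g L115756) L95532 L95564 L115850
theorem L159229 : sm gg N14958 = N20168 := rfl
theorem L159231 : sm gd N20168 = N14959 := ded_24_1 (flp_g L110317) L110313 L159229
theorem L159233 : sm ge N20168 = N16055 := ded_26_1 L159227 (flp_e L159217) L159229
theorem L159235 : sm gb N20168 = N14959 := ded_17_1 (flp_g L110317) (flp_b L110262) (flp_g L159215) L159092 L159229
theorem L159237 : sm ga N14960 = N20169 := rfl
theorem L159239 : sm gd N20169 = N14982 := ded_9_2 (flp_a L110445) (flp_d L110325) L159237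
theorem L159241 : sm ge N20169 = N16056 := ded_10_2 (flp_a L115852) (flp_e L110327) L159237
theorem L159243 : sm gg N20169 = N14961 := ded_12_2 (flp_a L110331) (flp_g L110329) L159237
theorem L159245 : sm gc N14960 = N20170 := rfl
theorem L159247 : sm ge N20170 = N16057 := ded_19_2 (flp_c L115858) (flp_e L110327) L159245
theorem L159249 : sm gg N20170 = N14962 := ded_21_2 (flp_c L110337) (flp_g L110329) L159245
theorem L159251 : sm gf N14960 = N20171 := rfl
theorem L159253 : sm gd N20171 = N14984 := ded_23_1 (flp_f L110457) (flp_d L110325) L159251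
theorem L159255 : sm ge N20171 = N16058 := ded_25_1 (flp_f L115862) (flp_e L110327) L159251
theorem L159257 : sm gb N14961 = N20172 := rfl
theorem L159259 : sm gd N20172 = N14985 := ded_14_2 (flp_b L110461) (flp_d L110333) L159257
theorem L159261 : sm ge N20172 = N16059 := ded_15_2 (flp_b L115866) (flp_e L110335) L159257
theorem L159263 : sm gf N16211 = N20172 := ded_23_0 L159259 (flp_f L110465) (flp_d L116701)
theorem L159265 : sm gc N14961 = N20173 := rfl
theorem L159267 : sm ga N20173 = N14962 := ded_8_1 (flp_c L110337) L110331 L159265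
theorem L159269 : sm ge N20173 = N16060 := ded_19_2 (flp_c L115870) (flp_e L110335) L159265
theorem L159271 : sm gf N14961 = N20174 := rfl
theorem L159273 : sm ga N20174 = N14963 := ded_11_1 (flp_f L110341) L110331 L159271
theorem L159275 : sm gd N20174 = N14987 := ded_23_1 (flp_f L110473) (flp_d L110333) L159271
theorem L159277 : sm ge N20174 = N16061 := ded_25_1 (flp_f L115874) (flp_e L110335) L159271
theorem L159279 : sm gg N20171 = N20174 := ded_29_1 (flp_f L159271) (flp_g L159243) (flp_a L159237) L159251
theorem L159281 : sm gb N20174 = N16080 := ded_16_1 L115962 (flp_b L116703) L159263 (flp_b L159257) L159271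
theorem L159283 : sm gd N14962 = N20175 := rfl
theorem L159285 : sm gf N14962 = N20176 := rfl
theorem L159287 : sm gc N20176 = N14963 := ded_20_1 (flp_f L110341) L110337 L159285
theorem L159289 : sm ge N20176 = N16063 := ded_25_1 (flp_f L115884) (flp_e L110339) L159285
theorem L159291 : sm gg N14963 = N20177 := rfl
theorem L159293 : sm ga N20177 = N20171 := ded_12_1 L159279 L159273 L159291
theorem L159295 : sm gd N20177 = N14990 := ded_24_1 (flp_g L110491) (flp_d L110343) L159291
theorem L159297 : sm ge N20177 = N16064 := ded_26_1 (flp_g L115888) (flp_e L110345) L159291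
theorem L159299 : sm gf N20169 = N20177 := ded_29_0 (flp_g L159291) (flp_f L110341) (flp_g L110329) L159237
theorem L159301 : sm gc N14964 = N20178 := rfl
theorem L159303 : sm ge N20178 = N16066 := ded_19_2 (flp_c L115900) (flp_e L110353) L159301
theorem L159305 : sm gf N14964 = N20179 := rfl
theorem L159307 : sm gd N20179 = N14993 := ded_23_1 (flp_f L110507) (flp_d L110351) L159305
theorem L159309 : sm ge N20179 = N16067 := ded_25_1 (flp_f L115902) (flp_e L110353) L159305
theorem L159311 : sm gg N14964 = N20180 := rfl
theorem L159313 : sm gd N20180 = N14994 := ded_24_1 (flp_g L110511) (flp_d L110351) L159311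
theorem L159315 : sm ge N20180 = N16068 := ded_26_1 (flp_g L115906) (flp_e L110353) L159311
theorem L159317 : sm gb N20180 = N15023 := ded_17_1 (flp_g L110673) (flp_b L92742) (flp_g L92597) L110349 L159311
theorem L159319 : sm gb N14965 = N20181 := rfl
theorem L159321 : sm ge N20181 = N15025 := ded_15_2 L149744 (flp_e L110359) L159319
theorem L159323 : sm gg N20181 = N16203 := ded_17_2 L116673 (flp_g L148996) (flp_b L110679) (flp_g L110361) L159319
theorem L159325 : sm ga N15029 = N20181 := ded_10_3 L159321 L110685 L110705
theorem L159327 : sm gd N16205 = N20181 := ded_22_5 L159321 (flp_d L110683) L92752 L95929 (flp_e L149705)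
theorem L159329 : sm gd N14965 = N20182 := rfl
theorem L159331 : sm ga N20182 = N14966 := ded_9_1 (flp_d L110363) (flp_a L110357) L159329
theorem L159333 : sm gb N20182 = N16205 := ded_14_1 L159327 (flp_b L159319) L159329
theorem L159335 : sm gg N20182 = N15025 := ded_24_2 (flp_d L110683) (flp_g L110361) L159329
theorem L159337 : sm ge N20182 = N16203 := ded_22_2 (flp_d L116671) (flp_e L110681) L148992 (flp_e L110359) L159329
theorem L159339 : sm gc N14966 = N20183 := rfl
theorem L159341 : sm gg N20183 = N15028 := ded_21_2 (flp_c L110703) (flp_g L110365) L159339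
theorem L159343 : sm ge N14966 = N20184 := rfl
theorem L159345 : sm ga N20184 = N16203 := ded_10_1 (flp_e L159337) L159331 L159343
theorem L159347 : sm gg N20184 = N15029 := ded_26_2 (flp_e L110705) (flp_g L110365) L159343
theorem L159349 : sm gd N20184 = N16072 := ded_22_1 (flp_e L115924) (flp_d L95596) (flp_e L92601) L110363 L159343
theorem L159351 : sm gf N14966 = N20185 := rfl
theorem L159353 : sm gd N20185 = N14967 := ded_23_1 (flp_f L110367) L110363 L159351
theorem L159355 : sm gb N14967 = N20186 := rfl
theorem L159357 : sm ge N20186 = N16074 := ded_15_2 (flp_b L115932) (flp_e L110371) L159355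
theorem L159359 : sm ga N14968 = N20187 := rfl
theorem L159361 : sm gd N20187 = N15001 := ded_9_2 (flp_a L110545) (flp_d L110375) L159359
theorem L159363 : sm ge N20187 = N16075 := ded_10_2 (flp_a L115934) (flp_e L110377) L159359
theorem L159365 : sm gf N20187 = N14969 := ded_11_2 (flp_a L110381) (flp_f L110379) L159359
theorem L159367 : sm gc N14968 = N20188 := rfl
theorem L159369 : sm ge N20188 = N16076 := ded_19_2 (flp_c L115940) (flp_e L110377) L159367
theorem L159371 : sm gf N20188 = N14970 := ded_20_2 (flp_c L110387) (flp_f L110379) L159367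
theorem L159373 : sm gg N14968 = N20189 := rfl
theorem L159375 : sm gd N20189 = N15003 := ded_24_1 (flp_g L110557) (flp_d L110375) L159373
theorem L159377 : sm ge N20189 = N16077 := ded_26_1 (flp_g L115944) (flp_e L110377) L159373
theorem L159379 : sm gb N14969 = N20190 := rfl
theorem L159381 : sm gd N20190 = N15004 := ded_14_2 (flp_b L110561) (flp_d L110383) L159379
theorem L159383 : sm ge N20190 = N16078 := ded_15_2 (flp_b L115948) (flp_e L110385) L159379
theorem L159385 : sm gg N16166 = N20190 := ded_24_0 L159381 (flp_g L110565) (flp_d L116501)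
theorem L159387 : sm gc N14969 = N20191 := rfl
theorem L159389 : sm ga N20191 = N14970 := ded_8_1 (flp_c L110387) L110381 L159387
theorem L159391 : sm ge N20191 = N16079 := ded_19_2 (flp_c L115952) (flp_e L110385) L159387
theorem L159393 : sm gg N14969 = N20192 := rfl
theorem L159395 : sm ga N20192 = N14971 := ded_12_1 (flp_g L110391) L110381 L159393
theorem L159397 : sm gd N20192 = N15006 := ded_24_1 (flp_g L110573) (flp_d L110383) L159393
theorem L159399 : sm ge N20192 = N16080 := ded_26_1 (flp_g L115956) (flp_e L110385) L159393
theorem L159401 : sm gf N20192 = N20189 := ded_29_2 (flp_g L159373) L159359 L159365 L159393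
theorem L159403 : sm gb N20192 = N16061 := ded_17_1 (flp_g L115880) (flp_b L116503) L159385 (flp_b L159379) L159393
theorem L159405 : sm gd N14970 = N20193 := rfl
theorem L159407 : sm gg N14970 = N20194 := rfl
theorem L159409 : sm gc N20194 = N14971 := ded_21_1 (flp_g L110391) L110387 L159407
theorem L159411 : sm ge N20194 = N16082 := ded_26_1 (flp_g L115966) (flp_e L110389) L159407
theorem L159413 : sm gf N14971 = N20195 := rfl
theorem L159415 : sm ga N20195 = N20189 := ded_11_1 (flp_f L159401) L159395 L159413
theorem L159417 : sm gd N20195 = N15009 := ded_23_1 (flp_f L110591) (flp_d L110393) L159413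
theorem L159419 : sm ge N20195 = N16083 := ded_25_1 (flp_f L115970) (flp_e L110395) L159413
theorem L159421 : sm gg N20195 = N20187 := ded_29_3 (flp_a L159359) L110379 L110391 L159413
theorem L159423 : sm gc N14972 = N20196 := rfl
theorem L159425 : sm ga N20196 = N14973 := ded_8_1 (flp_c L110403) L110399 L159423
theorem L159427 : sm ge N20196 = N15177 := ded_19_2 (flp_c L111567) (flp_e L110401) L159423
theorem L159429 : sm gb N20196 = N18563 := ded_13_1 (flp_c L156286) L156292 L154944 L115581 L159423
theorem L159431 : sm gb N14973 = N20197 := rfl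
theorem L159433 : sm ge N20197 = N15178 := ded_15_2 (flp_b L111571) (flp_e L110405) L159431
theorem L159435 : sm gc N20197 = N14976 := ded_13_2 (flp_b L110417) (flp_c L92621) L92617 L110403 L159431
theorem L159437 : sm gd N14973 = N20198 := rfl
theorem L159439 : sm gf N14973 = N20199 := rfl
theorem L159441 : sm gc N20199 = N14974 := ded_20_1 (flp_f L110407) L110403 L159439
theorem L159443 : sm ge N20199 = N15180 := ded_25_1 (flp_f L111579) (flp_e L110405) L159439
theorem L159445 : sm gg N14973 = N20200 := rfl
theorem L159447 : sm gc N20200 = N14975 := ded_21_1 (flp_g L110413) L110403 L159445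
theorem L159449 : sm ge N20200 = N15181 := ded_26_1 (flp_g L111583) (flp_e L110405) L159445
theorem L159451 : sm gg N14974 = N20201 := rfl
theorem L159453 : sm ge N20201 = N15182 := ded_26_1 (flp_g L111587) (flp_e L110409) L159451
theorem L159455 : sm gf N16363 = N20201 := ded_29_0 (flp_g L159451) (flp_f L110407) L110413 (flp_a L117625)
theorem L159457 : sm gb N20201 = N16124 := ded_17_1 (flp_g L150297) L150293 (flp_g L110751) (flp_b L110411) L159451
theorem L159459 : sm gf N14975 = N20202 := rfl
theorem L159461 : sm ga N20202 = N20201 := ded_11_1 (flp_f L159455) L117625 L159459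
theorem L159463 : sm ge N20202 = N15183 := ded_25_1 (flp_f L111595) (flp_e L110415) L159459
theorem L159465 : sm gg N20202 = N15957 := ded_29_3 L115343 (flp_f L110407) L110413 L159459
theorem L159467 : sm gb N20202 = N16345 := ded_31_2 L117495 (flp_f L116443) (flp_b L116439) L95810 L95765 L95777 L110835 (flp_f L110829) (flp_b L92821) (flp_g L45291) (flp_f L45211) L92617 L110413 L159459
theorem L159469 : sm ga N14976 = N20203 := rfl
theorem L159471 : sm ge N20203 = N15184 := ded_10_2 (flp_a L111605) (flp_e L110419) L159469
theorem L159473 : sm gf N20203 = N20197 := ded_30_4 L159435 (flp_b L110417) L92623 L45217 (flp_c L21779) (flp_b L10499) L5276 (flp_f L3106) (flp_c L1595) L784 (flp_a L1398) L2735 (flp_c L5278) L10499 L21775 (flp_f L45211) L92621 L110417 L159469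
theorem L159475 : sm gd N14976 = N20204 := rfl
theorem L159477 : sm gb N20204 = N14977 := ded_14_1 (flp_d L110421) L110417 L159475
theorem L159479 : sm gf N14976 = N20205 := rfl
theorem L159481 : sm ga N20205 = N20197 := ded_11_1 (flp_f L159473) (flp_a L159469) L159479
theorem L159483 : sm gc N20205 = N20203 := ded_20_1 L159473 L159435 L159479
theorem L159485 : sm ge N20205 = N15186 := ded_25_1 (flp_f L111613) (flp_e L110419) L159479
theorem L159487 : sm gb N20205 = N15040 := ded_16_1 (flp_f L110781) (flp_b L92799) (flp_f L92627) L110417 L159479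
theorem L159489 : sm gg N14976 = N20206 := rfl
theorem L159491 : sm ge N20206 = N15187 := ded_26_1 (flp_g L111621) (flp_e L110419) L159489
theorem L159493 : sm gc N14977 = N20207 := rfl
theorem L159495 : sm ga N20207 = N14978 := ded_8_1 (flp_c L110427) (flp_a L110423) L159493
theorem L159497 : sm gf N20207 = N15042 := ded_20_2 (flp_c L110797) (flp_f L110425) L159493
theorem L159499 : sm gd N20166 = N20207 := ded_28_1 (flp_c L159493) (flp_d L110421) (flp_c L92621) (flp_d L92567) L110305 L159193 L159195 L159203
theorem L159501 : sm ge N14977 = N20208 := rfl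
theorem L159503 : sm ga N20208 = N14979 := ded_10_1 (flp_e L110431) (flp_a L110423) L159501
theorem L159505 : sm gf N20208 = N15043 := ded_25_2 (flp_e L110803) (flp_f L110425) L159501
theorem L159507 : sm gd N20208 = N15188 := ded_22_1 (flp_e L111623) (flp_d L93243) (flp_e L92625) L110421 L159501
theorem L159509 : sm gb N14978 = N20209 := rfl
theorem L159511 : sm gd N14978 = N20210 := rfl
theorem L159513 : sm ga N20210 = N20166 := ded_9_1 L159499 L159495 L159511
theorem L159515 : sm gf N20210 = N15049 := ded_23_2 (flp_d L110837) (flp_f L110429) L159511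
theorem L159517 : sm gc N20165 = N20210 := ded_28_0 (flp_d L159511) (flp_c L110427) (flp_d L92629) (flp_c L45213) (flp_d L45175) L92573 L110313 (flp_a L159195)
theorem L159519 : sm ge N14978 = N20211 := rfl
theorem L159521 : sm gc N20211 = N14979 := ded_19_1 (flp_e L110431) L110427 L159519
theorem L159523 : sm gf N20211 = N15050 := ded_25_2 (flp_e L110843) (flp_f L110429) L159519
theorem L159525 : sm gg N14978 = N20212 := rfl
theorem L159527 : sm gc N20212 = N14980 := ded_21_1 (flp_g L110437) L110427 L159525
theorem L159529 : sm gg N14979 = N20213 := rfl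
theorem L159531 : sm gd N20213 = N15192 := ded_24_1 (flp_g L111645) (flp_d L110435) L159529
theorem L159533 : sm ge N20213 = N14980 := ded_26_1 (flp_g L110437) L110431 L159529
theorem L159535 : sm gb N14980 = N20214 := rfl
theorem L159537 : sm gd N20214 = N14981 := ded_14_2 (flp_b L110441) (flp_d L110439) L159535
theorem L159539 : sm ga N14981 = N20215 := rfl
theorem L159541 : sm ge N20215 = N15194 := ded_10_2 (flp_a L111653) (flp_e L110443) L159539
theorem L159543 : sm gc N14981 = N20216 := rfl
theorem L159545 : sm ge N20216 = N15195 := ded_19_2 (flp_c L111655) (flp_e L110443) L159543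
theorem L159547 : sm gb N20216 = N14983 := ded_13_1 (flp_c L110451) (flp_b L92639) (flp_c L92635) L110441 L159543
theorem L159549 : sm gf N14981 = N20217 := rfl
theorem L159551 : sm ge N20217 = N15196 := ded_25_1 (flp_f L111659) (flp_e L110443) L159549
theorem L159553 : sm gb N14982 = N20218 := rfl
theorem L159555 : sm ge N20218 = N15197 := ded_15_2 (flp_b L111661) (flp_e L110447) L159553
theorem L159557 : sm gf N20218 = N15970 := ded_16_2 (flp_b L117317) (flp_f L117331) L117333 (flp_f L110497) L159553
theorem L159559 : sm ga N20218 = N15969 := ded_7_1 (flp_b L115417) (flp_a L95490) L110889 (flp_a L110885) (flp_b L92853) L45311 L92639 L110445 L159553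
theorem L159561 : sm gc N14982 = N20219 := rfl
theorem L159563 : sm ga N20219 = N14983 := ded_8_1 (flp_c L110451) L110445 L159561
theorem L159565 : sm ge N20219 = N15198 := ded_19_2 (flp_c L111669) (flp_e L110447) L159561
theorem L159567 : sm gg N20219 = N14986 := ded_21_2 (flp_c L110467) (flp_g L110449) L159561
theorem L159569 : sm gd N14983 = N20220 := rfl
theorem L159571 : sm gg N20220 = N14988 := ded_24_2 (flp_d L110483) (flp_g L110455) L159569
theorem L159573 : sm gf N14983 = N20221 := rfl
theorem L159575 : sm gc N20221 = N14984 := ded_20_1 (flp_f L110457) L110451 L159573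
theorem L159577 : sm ge N20221 = N15200 := ded_25_1 (flp_f L111679) (flp_e L110453) L159573
theorem L159579 : sm gc N14985 = N20222 := rfl
theorem L159581 : sm ge N20222 = N15201 := ded_19_2 (flp_c L111683) (flp_e L110463) L159579
theorem L159583 : sm gf N20222 = N16383 := ded_20_2 L117741 L110465 L159579
theorem L159585 : sm gb N14986 = N20223 := rfl
theorem L159587 : sm ge N20223 = N15202 := ded_15_2 (flp_b L111687) (flp_e L110471) L159585
theorem L159589 : sm gd N14986 = N20224 := rfl
theorem L159591 : sm ga N20224 = N14988 := ded_9_1 (flp_d L110483) (flp_a L110469) L159589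
theorem L159593 : sm gf N14986 = N20225 := rfl
theorem L159595 : sm ga N20225 = N14989 := ded_11_1 (flp_f L110485) (flp_a L110469) L159593
theorem L159597 : sm gc N20225 = N14987 := ded_20_1 (flp_f L110473) L110467 L159593
theorem L159599 : sm ge N20225 = N15204 := ded_25_1 (flp_f L111693) (flp_e L110471) L159593
theorem L159601 : sm gg N20221 = N20225 := ded_29_1 (flp_f L159593) (flp_g L159567) L159563 L159573
theorem L159603 : sm gc N14988 = N20226 := rfl
theorem L159605 : sm ge N14988 = N20227 := rfl
theorem L159607 : sm gd N20227 = N15206 := ded_22_1 (flp_e L111703) (flp_d L93297) (flp_e L92651) L110483 L159605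
theorem L159609 : sm gf N14988 = N20228 := rfl
theorem L159611 : sm gd N20228 = N14989 := ded_23_1 (flp_f L110485) L110483 L159609
theorem L159613 : sm gg N14989 = N20229 := rfl
theorem L159615 : sm ga N20229 = N20221 := ded_12_1 L159601 L159595 L159613
theorem L159617 : sm gc N20229 = N14990 := ded_21_1 (flp_g L110491) (flp_c L110487) L159613
theorem L159619 : sm ge N20229 = N15209 := ded_26_1 (flp_g L111713) (flp_e L110489) L159613
theorem L159621 : sm gf N20219 = N20229 := ded_29_0 (flp_g L159613) (flp_f L110485) (flp_g L110455) (flp_a L159563)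
theorem L159623 : sm gc N14991 = N20230 := rfl
theorem L159625 : sm ga N20230 = N14992 := ded_8_1 (flp_c L110503) L110499 L159623
theorem L159627 : sm ge N20230 = N15210 := ded_19_2 (flp_c L111721) (flp_e L110501) L159623
theorem L159629 : sm gb N20230 = N18603 := ded_13_1 (flp_c L156533) L156539 L154966 L115661 L159623
theorem L159631 : sm gb N14992 = N20231 := rfl
theorem L159633 : sm ge N20231 = N15211 := ded_15_2 (flp_b L111725) (flp_e L110505) L159631
theorem L159635 : sm gc N20231 = N14995 := ded_13_2 (flp_b L110517) (flp_c L92663) L92659 L110503 L159631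
theorem L159637 : sm gd N14992 = N20232 := rfl
theorem L159639 : sm gf N14992 = N20233 := rfl
theorem L159641 : sm gc N20233 = N14993 := ded_20_1 (flp_f L110507) L110503 L159639
theorem L159643 : sm ge N20233 = N15213 := ded_25_1 (flp_f L111731) (flp_e L110505) L159639
theorem L159645 : sm gg N14992 = N20234 := rfl
theorem L159647 : sm gc N20234 = N14994 := ded_21_1 (flp_g L110511) L110503 L159645
theorem L159649 : sm ge N20234 = N15214 := ded_26_1 (flp_g L111735) (flp_e L110505) L159645
theorem L159651 : sm gg N14993 = N20235 := rfl
theorem L159653 : sm ge N20235 = N15215 := ded_26_1 (flp_g L111739) (flp_e L110509) L159651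
theorem L159655 : sm gf N15965 = N20235 := ded_29_0 (flp_g L159651) (flp_f L110507) L110511 (flp_a L115395)
theorem L159657 : sm gb N16448 = N20235 := ded_31_14 (flp_g L159651) (flp_f L110507) (flp_b L92659) L45231 L45327 L92893 L110997 (flp_f L111003) (flp_b L95678) (flp_g L95666) L95711 L116205 L116209 (flp_f L118109)
theorem L159659 : sm gf N14994 = N20236 := rfl
theorem L159661 : sm ga N20236 = N20235 := ded_11_1 (flp_f L159655) L115395 L159659
theorem L159663 : sm ge N20236 = N15216 := ded_25_1 (flp_f L111747) (flp_e L110513) L159659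
theorem L159665 : sm gg N20236 = N16256 := ded_29_3 (flp_a L116963) (flp_f L110507) L110511 L159659
theorem L159667 : sm gb N20236 = N16084 := ded_16_1 (flp_f L115984) (flp_b L110939) (flp_f L110929) (flp_b L110515) L159659
theorem L159669 : sm ga N14995 = N20237 := rfl
theorem L159671 : sm ge N20237 = N15217 := ded_10_2 (flp_a L111757) (flp_e L110519) L159669
theorem L159673 : sm gg N20231 = N20237 := ded_26_0 L159671 (flp_g L151187) (flp_e L159633)
theorem L159675 : sm gd N14995 = N20238 := rfl
theorem L159677 : sm gb N20238 = N14996 := ded_14_1 (flp_d L110521) L110517 L159675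
theorem L159679 : sm gf N14995 = N20239 := rfl
theorem L159681 : sm ge N20239 = N15219 := ded_25_1 (flp_f L111763) (flp_e L110519) L159679
theorem L159683 : sm gg N14995 = N20240 := rfl
theorem L159685 : sm ga N20240 = N20231 := ded_12_1 L159673 (flp_a L159669) L159683
theorem L159687 : sm gc N20240 = N20237 := ded_21_1 (flp_g L159673) L159635 L159683
theorem L159689 : sm ge N20240 = N15220 := ded_26_1 (flp_g L111765) (flp_e L110519) L159683
theorem L159691 : sm gb N20240 = N15068 := ded_17_1 (flp_g L110957) (flp_b L92875) (flp_g L92669) L110517 L159683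
theorem L159693 : sm gc N14996 = N20241 := rfl
theorem L159695 : sm ga N20241 = N14997 := ded_8_1 (flp_c L110527) (flp_a L110523) L159693
theorem L159697 : sm gg N20241 = N15069 := ded_21_2 (flp_c L110965) (flp_g L110525) L159693
theorem L159699 : sm gd N20183 = N20241 := ded_28_1 (flp_c L159693) (flp_d L110521) (flp_c L92663) (flp_d L92593) L110355 L159329 L159331 L159339
theorem L159701 : sm ge N14996 = N20242 := rfl
theorem L159703 : sm ga N20242 = N14998 := ded_10_1 (flp_e L110531) (flp_a L110523) L159701
theorem L159705 : sm gg N20242 = N15070 := ded_26_2 (flp_e L110971) (flp_g L110525) L159701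
theorem L159707 : sm gd N20242 = N15221 := ded_22_1 (flp_e L111769) (flp_d L93329) (flp_e L92667) L110521 L159701
theorem L159709 : sm gb N14997 = N20243 := rfl
theorem L159711 : sm gd N14997 = N20244 := rfl
theorem L159713 : sm ga N20244 = N20183 := ded_9_1 L159699 L159695 L159711
theorem L159715 : sm gg N20244 = N15076 := ded_24_2 (flp_d L111005) (flp_g L110529) L159711
theorem L159717 : sm gc N20182 = N20244 := ded_28_0 (flp_d L159711) (flp_c L110527) (flp_d L92671) (flp_c L45233) (flp_d L45191) L92599 L110363 (flp_a L159331)
theorem L159719 : sm ge N14997 = N20245 := rfl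
theorem L159721 : sm gc N20245 = N14998 := ded_19_1 (flp_e L110531) L110527 L159719
theorem L159723 : sm gg N20245 = N15077 := ded_26_2 (flp_e L111011) (flp_g L110529) L159719
theorem L159725 : sm gf N14997 = N20246 := rfl
theorem L159727 : sm gc N20246 = N14999 := ded_20_1 (flp_f L110537) L110527 L159725
theorem L159729 : sm gf N14998 = N20247 := rfl
theorem L159731 : sm gd N20247 = N15225 := ded_23_1 (flp_f L111791) (flp_d L110535) L159729
theorem L159733 : sm ge N20247 = N14999 := ded_25_1 (flp_f L110537) L110531 L159729
theorem L159735 : sm gb N14999 = N20248 := rfl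
theorem L159737 : sm gd N20248 = N15000 := ded_14_2 (flp_b L110541) (flp_d L110539) L159735
theorem L159739 : sm ga N15000 = N20249 := rfl
theorem L159741 : sm ge N20249 = N15227 := ded_10_2 (flp_a L111799) (flp_e L110543) L159739
theorem L159743 : sm gc N15000 = N20250 := rfl
theorem L159745 : sm ge N20250 = N15228 := ded_19_2 (flp_c L111801) (flp_e L110543) L159743
theorem L159747 : sm gb N20250 = N15002 := ded_13_1 (flp_c L110551) (flp_b L92681) (flp_c L92677) L110541 L159743
theorem L159749 : sm gg N15000 = N20251 := rfl
theorem L159751 : sm ge N20251 = N15229 := ded_26_1 (flp_g L111805) (flp_e L110543) L159749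
theorem L159753 : sm gb N15001 = N20252 := rfl
theorem L159755 : sm ge N20252 = N15230 := ded_15_2 (flp_b L111807) (flp_e L110547) L159753
theorem L159757 : sm gg N20252 = N15962 := ded_17_2 (flp_b L117927) L117943 L117945 L110597 L159753
theorem L159759 : sm ga N20252 = N15961 := ded_7_1 (flp_b L115367) (flp_a L95455) L111057 (flp_a L111053) (flp_b L92925) L45347 L92681 L110545 L159753
theorem L159761 : sm gc N15001 = N20253 := rfl
theorem L159763 : sm ga N20253 = N15002 := ded_8_1 (flp_c L110551) L110545 L159761
theorem L159765 : sm ge N20253 = N15231 := ded_19_2 (flp_c L111815) (flp_e L110547) L159761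
theorem L159767 : sm gf N20253 = N15005 := ded_20_2 (flp_c L110567) (flp_f L110549) L159761
theorem L159769 : sm gd N15002 = N20254 := rfl
theorem L159771 : sm gf N20254 = N15007 := ded_23_2 (flp_d L110583) (flp_f L110555) L159769
theorem L159773 : sm gg N15002 = N20255 := rfl
theorem L159775 : sm gc N20255 = N15003 := ded_21_1 (flp_g L110557) L110551 L159773
theorem L159777 : sm ge N20255 = N15233 := ded_26_1 (flp_g L111825) (flp_e L110553) L159773
theorem L159779 : sm gc N15004 = N20256 := rfl
theorem L159781 : sm ge N20256 = N15234 := ded_19_2 (flp_c L111829) (flp_e L110563) L159779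
theorem L159783 : sm gg N20256 = N16281 := ded_21_2 L117119 L110565 L159779
theorem L159785 : sm gb N15005 = N20257 := rfl
theorem L159787 : sm ge N20257 = N15235 := ded_15_2 (flp_b L111833) (flp_e L110571) L159785
theorem L159789 : sm gd N15005 = N20258 := rfl
theorem L159791 : sm ga N20258 = N15007 := ded_9_1 (flp_d L110583) (flp_a L110569) L159789
theorem L159793 : sm gg N15005 = N20259 := rfl
theorem L159795 : sm ga N20259 = N15008 := ded_12_1 (flp_g L110585) (flp_a L110569) L159793
theorem L159797 : sm gc N20259 = N15006 := ded_21_1 (flp_g L110573) L110567 L159793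
theorem L159799 : sm ge N20259 = N15237 := ded_26_1 (flp_g L111839) (flp_e L110571) L159793
theorem L159801 : sm gf N20259 = N20255 := ded_29_2 (flp_g L159773) (flp_a L159763) L159767 L159793
theorem L159803 : sm gc N15007 = N20260 := rfl
theorem L159805 : sm ge N15007 = N20261 := rfl
theorem L159807 : sm gd N20261 = N15239 := ded_22_1 (flp_e L111849) (flp_d L93383) (flp_e L92693) L110583 L159805
theorem L159809 : sm gg N15007 = N20262 := rfl
theorem L159811 : sm gd N20262 = N15008 := ded_24_1 (flp_g L110585) L110583 L159809
theorem L159813 : sm gf N15008 = N20263 := rfl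
theorem L159815 : sm ga N20263 = N20255 := ded_11_1 (flp_f L159801) L159795 L159813
theorem L159817 : sm gc N20263 = N15009 := ded_20_1 (flp_f L110591) (flp_c L110587) L159813
theorem L159819 : sm ge N20263 = N15241 := ded_25_1 (flp_f L111855) (flp_e L110589) L159813
theorem L159821 : sm gg N20263 = N20253 := ded_29_3 L159763 L110555 L110585 L159813
theorem L159823 : sm gg N15010 = N20264 := rfl
theorem L159825 : sm gc N20264 = N18211 := ded_21_1 L128917 (flp_c L128787) L159823
theorem L159827 : sm gd N20264 = N15036 := ded_24_1 (flp_g L110751) (flp_d L110601) L159823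
theorem L159829 : sm ge N20264 = N16156 := ded_26_1 (flp_g L116447) (flp_e L110603) L159823
theorem L159831 : sm gf N18210 = N20264 := ded_29_0 (flp_g L159823) (flp_f L110599) L110605 (flp_a L128901)
theorem L159833 : sm gb N19716 = N20264 := ded_31_14 (flp_g L159823) (flp_f L110599) (flp_b L92701) L92713 L92721 L110323 L110329 L110341 L110347 L159041 (flp_f L159049) (flp_b L155810) L155812 L156210
theorem L159835 : sm gb N15011 = N20265 := rfl
theorem L159837 : sm gd N20265 = N15037 := ded_14_2 (flp_b L110757) (flp_d L110607) L159835
theorem L159839 : sm ge N20265 = N16157 := ded_15_2 (flp_b L116455) (flp_e L110609) L159835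
theorem L159841 : sm gg N20265 = N15015 := ded_17_2 (flp_b L110629) (flp_g L92713) L92701 L110605 L159835
theorem L159843 : sm gf N19710 = N20265 := ded_23_0 L159837 (flp_f L151218) L156166
theorem L159845 : sm gf N15011 = N20266 := rfl
theorem L159847 : sm ga N20266 = N20264 := ded_11_1 (flp_f L159831) L128901 L159845
theorem L159849 : sm gc N20266 = N18194 := ded_20_1 (flp_f L128897) L128891 L159845
theorem L159851 : sm gd N20266 = N15038 := ded_23_1 (flp_f L110763) (flp_d L110607) L159845
theorem L159853 : sm ge N20266 = N16158 := ded_25_1 (flp_f L116461) (flp_e L110609) L159845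
theorem L159855 : sm gg N20266 = N18193 := ded_29_3 L128791 (flp_f L110599) L110605 L159845
theorem L159857 : sm gg N15013 = N20267 := rfl
theorem L159859 : sm ga N20267 = N15018 := ded_12_1 (flp_g L110642) (flp_a L110617) L159857
theorem L159861 : sm gd N20267 = N15014 := ded_24_1 (flp_g L110619) L110615 L159857
theorem L159863 : sm gf N20267 = N20168 := ded_29_2 (flp_g L159229) (flp_a L159195) L159199 L159857
theorem L159865 : sm gb N15014 = N20268 := rfl
theorem L159867 : sm ge N20268 = N16163 := ded_15_2 (flp_b L116491) (flp_e L110625) L159865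
theorem L159869 : sm ga N15015 = N20269 := rfl
theorem L159871 : sm gd N20269 = N15046 := ded_9_2 (flp_a L110821) (flp_d L110631) L159869
theorem L159873 : sm ge N20269 = N16164 := ded_10_2 (flp_a L116493) (flp_e L110633) L159869
theorem L159875 : sm gc N15015 = N20270 := rfl
theorem L159877 : sm ge N20270 = N16165 := ded_19_2 (flp_c L116497) (flp_e L110633) L159875
theorem L159879 : sm gf N15015 = N20271 := rfl
theorem L159881 : sm gd N20271 = N15048 := ded_23_1 (flp_f L110829) (flp_d L110631) L159879
theorem L159883 : sm ge N20271 = N16166 := ded_25_1 (flp_f L116499) (flp_e L110633) L159879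
theorem L159885 : sm gg N20271 = N16078 := ded_29_3 (flp_a L156168) L159843 L159841 L159879
theorem L159887 : sm gb N20271 = N20171 := ded_16_1 (flp_f L159251) (flp_b L110323) (flp_f L92721) L110629 L159879
theorem L159889 : sm gb N15016 = N20272 := rfl
theorem L159891 : sm gc N20272 = N20272 := ded_13_2 (flp_b L159889) (flp_c L110635) L92725 L110635 L159889
theorem L159892 : sm ge N15016 = N20273 := rfl
theorem L159894 : sm gc N20273 = N15017 := ded_19_1 (flp_e L110637) L110635 L159892
theorem L159896 : sm gg N15016 = N20274 := rfl
theorem L159898 : sm gc N20274 = N15018 := ded_21_1 (flp_g L110642) L110635 L159896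
theorem L159900 : sm gg N15017 = N20275 := rfl
theorem L159902 : sm gd N20275 = N16170 := ded_24_1 (flp_g L116516) (flp_d L110640) L159900
theorem L159904 : sm ge N20275 = N15018 := ded_26_1 (flp_g L110642) L110637 L159900
theorem L159906 : sm gb N15018 = N20276 := rfl
theorem L159908 : sm gd N20276 = N15019 := ded_14_2 (flp_b L110646) (flp_d L110644) L159906
theorem L159910 : sm gg N20276 = N20276 := ded_17_2 (flp_b L159906) (flp_g L110642) L92725 L110642 L159906
theorem L159911 : sm gf N15018 = N20277 := rfl
theorem L159913 : sm ga N20277 = N20168 := ded_11_1 (flp_f L159863) L159859 L159911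
theorem L159915 : sm gd N20277 = N15020 := ded_23_1 (flp_f L110651) (flp_d L110644) L159911
theorem L159917 : sm gg N20277 = N20165 := ded_29_3 L159195 L110315 L110642 L159911
theorem L159919 : sm ga N15019 = N20278 := rfl
theorem L159924 : sm gf N15019 = N20279 := rfl
theorem L159926 : sm ge N20279 = N16175 := ded_25_1 (flp_f L116545) (flp_e L110648) L159924
theorem L159928 : sm gb N15020 = N20280 := rfl
theorem L159930 : sm ge N20280 = N16176 := ded_15_2 (flp_b L116547) (flp_e L110657) L159928
theorem L159932 : sm ga N15021 = N20281 := rfl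
theorem L159934 : sm gd N20281 = N15058 := ded_9_2 (flp_a L110885) (flp_d L110663) L159932
theorem L159936 : sm ge N20281 = N16182 := ded_10_2 (flp_a L116573) (flp_e L110665) L159932
theorem L159938 : sm gb N16002 = N20281 := ded_14_3 L159934 (flp_b L110889) (flp_d L115571)
theorem L159940 : sm gc N15021 = N20282 := rfl
theorem L159942 : sm ge N20282 = N16183 := ded_19_2 (flp_c L116577) (flp_e L110665) L159940
theorem L159944 : sm gg N15021 = N20283 := rfl
theorem L159946 : sm gd N20283 = N15060 := ded_24_1 (flp_g L110895) (flp_d L110663) L159944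
theorem L159948 : sm ge N20283 = N16184 := ded_26_1 (flp_g L116579) (flp_e L110665) L159944
theorem L159950 : sm gb N20283 = N20163 := ded_17_1 (flp_g L159177) (flp_b L110299) (flp_g L92740) L110661 L159944
theorem L159952 : sm gb N15022 = N20284 := rfl
theorem L159954 : sm gd N20284 = N15063 := ded_14_2 (flp_b L110917) (flp_d L110669) L159952
theorem L159956 : sm ge N20284 = N16199 := ded_15_2 (flp_b L116645) (flp_e L110671) L159952
theorem L159958 : sm gf N20284 = N15027 := ded_16_2 (flp_b L110697) (flp_f L92754) L92742 L110667 L159952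
theorem L159960 : sm gg N19723 = N20284 := ded_24_0 L159954 (flp_g L151212) L156276
theorem L159962 : sm gg N15022 = N20285 := rfl
theorem L159964 : sm gc N20285 = N18198 := ded_21_1 L128937 L128931 L159962
theorem L159966 : sm gd N20285 = N15064 := ded_24_1 (flp_g L110923) (flp_d L110669) L159962
theorem L159968 : sm ge N20285 = N16200 := ded_26_1 (flp_g L116651) (flp_e L110671) L159962
theorem L159970 : sm gf N18197 = N20285 := ded_29_0 (flp_g L159962) (flp_f L110667) L110673 (flp_a L128823)
theorem L159972 : sm gf N15023 = N20286 := rfl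
theorem L159974 : sm ga N20286 = N20285 := ded_11_1 (flp_f L159970) L128823 L159972
theorem L159976 : sm gc N20286 = N18215 := ded_20_1 (flp_f L128957) (flp_c L128819) L159972
theorem L159978 : sm gd N20286 = N15065 := ded_23_1 (flp_f L110929) (flp_d L110675) L159972
theorem L159980 : sm ge N20286 = N16201 := ded_25_1 (flp_f L116659) (flp_e L110677) L159972
theorem L159982 : sm gg N20286 = N18214 := ded_29_3 L128941 (flp_f L110667) L110673 L159972
theorem L159984 : sm gb N20286 = N19703 := ded_31_2 (flp_g L156100) (flp_f L155804) L155802 (flp_g L159005) (flp_f L158997) (flp_b L110397) (flp_g L110391) (flp_f L110379) (flp_b L110373) L92762 (flp_f L92754) L92742 L110673 L159972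
theorem L159986 : sm gf N15025 = N20287 := rfl
theorem L159988 : sm ga N20287 = N15030 := ded_11_1 (flp_f L110710) (flp_a L110685) L159986
theorem L159990 : sm gd N20287 = N15026 := ded_23_1 (flp_f L110687) L110683 L159986
theorem L159992 : sm gg N20185 = N20287 := ded_29_1 (flp_f L159986) (flp_g L159335) L159331 L159351
theorem L159994 : sm gb N15026 = N20288 := rfl
theorem L159996 : sm ge N20288 = N16208 := ded_15_2 (flp_b L116691) (flp_e L110693) L159994
theorem L159998 : sm ga N15027 = N20289 := rfl
theorem L160000 : sm gd N20289 = N15073 := ded_9_2 (flp_a L110989) (flp_d L110699) L159998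
theorem L160002 : sm ge N20289 = N16209 := ded_10_2 (flp_a L116693) (flp_e L110701) L159998
theorem L160004 : sm gc N15027 = N20290 := rfl
theorem L160006 : sm ge N20290 = N16210 := ded_19_2 (flp_c L116697) (flp_e L110701) L160004
theorem L160008 : sm gg N15027 = N20291 := rfl
theorem L160010 : sm gd N20291 = N15075 := ded_24_1 (flp_g L110997) (flp_d L110699) L160008
theorem L160012 : sm ge N20291 = N16211 := ded_26_1 (flp_g L116699) (flp_e L110701) L160008
theorem L160014 : sm gf N16059 = N20291 := ded_29_0 (flp_g L160008) (flp_f L159958) (flp_g L159960) L156278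
theorem L160016 : sm gb N20291 = N20189 := ded_17_1 (flp_g L159373) (flp_b L110373) L92762 L110697 L160008
theorem L160018 : sm gb N15028 = N20292 := rfl
theorem L160020 : sm gc N20292 = N20292 := ded_13_2 (flp_b L160018) (flp_c L110703) L92766 L110703 L160018
theorem L160021 : sm ge N15028 = N20293 := rfl
theorem L160023 : sm gc N20293 = N15029 := ded_19_1 (flp_e L110705) L110703 L160021
theorem L160025 : sm gf N15028 = N20294 := rfl
theorem L160027 : sm gc N20294 = N15030 := ded_20_1 (flp_f L110710) L110703 L160025
theorem L160029 : sm gf N15029 = N20295 := rfl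
theorem L160031 : sm gd N20295 = N16215 := ded_23_1 (flp_f L116716) (flp_d L110708) L160029
theorem L160033 : sm ge N20295 = N15030 := ded_25_1 (flp_f L110710) L110705 L160029
theorem L160035 : sm gb N15030 = N20296 := rfl
theorem L160037 : sm gd N20296 = N15031 := ded_14_2 (flp_b L110714) (flp_d L110712) L160035
theorem L160039 : sm gf N20296 = N20296 := ded_16_2 (flp_b L160035) (flp_f L110710) L92766 L110710 L160035
theorem L160040 : sm ga N16216 = N20296 := ded_9_3 L160037 L156854 (flp_d L116722)
theorem L160042 : sm gg N15030 = N20297 := rfl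
theorem L160044 : sm ga N20297 = N20185 := ded_12_1 L159992 L159988 L160042
theorem L160046 : sm gd N20297 = N15032 := ded_24_1 (flp_g L110719) (flp_d L110712) L160042
theorem L160048 : sm gf N20182 = N20297 := ded_29_0 (flp_g L160042) (flp_f L110710) (flp_g L110365) (flp_a L159331)
theorem L160050 : sm gg N15031 = N20298 := rfl
theorem L160052 : sm ga N20298 = N16220 := ded_12_1 (flp_g L116743) (flp_a L156854) L160050
theorem L160054 : sm ge N20298 = N16220 := ded_26_1 (flp_g L116743) (flp_e L110716) L160050
theorem L160056 : sm gf N16220 = N20298 := ded_29_0 (flp_g L160050) L110718 L160050 L160052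
theorem L160058 : sm gb N15032 = N20299 := rfl
theorem L160060 : sm ge N20299 = N16221 := ded_15_2 (flp_b L116745) (flp_e L110725) L160058
theorem L160062 : sm ga N15033 = N20300 := rfl
theorem L160064 : sm gd N20300 = N15085 := ded_9_2 (flp_a L111053) (flp_d L110731) L160062
theorem L160066 : sm ge N20300 = N16227 := ded_10_2 (flp_a L116779) (flp_e L110733) L160062
theorem L160068 : sm gb N15996 = N20300 := ded_14_3 L160064 (flp_b L111057) (flp_d L115541)
theorem L160070 : sm gc N15033 = N20301 := rfl
theorem L160072 : sm ge N20301 = N16228 := ded_19_2 (flp_c L116783) (flp_e L110733) L160070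
theorem L160074 : sm gf N15033 = N20302 := rfl
theorem L160076 : sm gd N20302 = N15087 := ded_23_1 (flp_f L111063) (flp_d L110731) L160074
theorem L160078 : sm ge N20302 = N16229 := ded_25_1 (flp_f L116785) (flp_e L110733) L160074
theorem L160080 : sm gb N20302 = N20179 := ded_16_1 (flp_f L159305) (flp_b L110349) L92781 L110729 L160074
theorem L160082 : sm ge N15039 = N20303 := rfl
theorem L160084 : sm ga N20303 = N16249 := ded_10_1 (flp_e L116913) (flp_a L110775) L160082
theorem L160086 : sm gb N20303 = N15043 := ded_15_1 (flp_e L110803) (flp_b L110777) L160082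
theorem L160088 : sm gc N20303 = N18825 := ded_19_1 (flp_e L144807) L110779 L160082
theorem L160090 : sm gd N20303 = N15245 := ded_22_1 (flp_e L111887) (flp_d L93435) (flp_e L92801) L110773 L160082
theorem L160092 : sm gf N18984 = N20303 := ded_11_0 L160084 (flp_f L120291) (flp_a L145719)
theorem L160094 : sm gf N15039 = N20304 := rfl
theorem L160096 : sm ga N20304 = N16250 := ded_11_1 (flp_f L116919) (flp_a L110775) L160094
theorem L160098 : sm gc N20304 = N18752 := ded_20_1 L144405 L110779 L160094
theorem L160100 : sm gd N20304 = N15040 := ded_23_1 (flp_f L110781) L110773 L160094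
theorem L160102 : sm ge N20304 = N18984 := ded_25_1 L160092 (flp_e L160082) L160094
theorem L160104 : sm gg N15039 = N20305 := rfl
theorem L160106 : sm ga N20305 = N16251 := ded_12_1 (flp_g L116925) (flp_a L110775) L160104
theorem L160108 : sm gc N20305 = N18826 := ded_21_1 (flp_g L144813) L110779 L160104
theorem L160110 : sm gd N20305 = N15041 := ded_24_1 (flp_g L110789) L110773 L160104
theorem L160112 : sm gb N15041 = N20306 := rfl
theorem L160114 : sm ge N20306 = N15248 := ded_15_2 (flp_b L111908) (flp_e L110795) L160112
theorem L160116 : sm gc N20306 = N19734 := ded_13_2 (flp_b L156370) L155154 (flp_b L116883) (flp_c L110793) L160112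
theorem L160118 : sm gg N20306 = N15045 := ded_17_2 (flp_b L110817) (flp_g L92811) L92799 L110789 L160112
theorem L160120 : sm ga N19735 = N20306 := ded_10_3 L160114 L155504 (flp_e L156374)
theorem L160122 : sm gb N15042 = N20307 := rfl
theorem L160124 : sm gd N20307 = N20272 := ded_14_2 (flp_b L159889) L110801 L160122
theorem L160126 : sm gc N20307 = N18822 := ded_13_2 L144797 L110779 L110777 L110797 L160122
theorem L160128 : sm ge N15042 = N20308 := rfl
theorem L160130 : sm ga N20308 = N15050 := ded_10_1 (flp_e L110843) (flp_a L110799) L160128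
theorem L160132 : sm gc N20308 = N15043 := ded_19_1 (flp_e L110803) L110797 L160128
theorem L160134 : sm gg N15042 = N20309 := rfl
theorem L160136 : sm ga N20309 = N15051 := ded_12_1 (flp_g L110847) (flp_a L110799) L160134
theorem L160138 : sm gc N20309 = N15044 := ded_21_1 (flp_g L110809) L110797 L160134
theorem L160140 : sm gd N20309 = N20274 := ded_24_1 (flp_g L159896) L110801 L160134
theorem L160142 : sm gf N20309 = N20212 := ded_29_2 (flp_g L159525) (flp_a L159495) L159497 L160134
theorem L160144 : sm gg N15043 = N20310 := rfl
theorem L160146 : sm ga N20310 = N15052 := ded_12_1 (flp_g L110851) (flp_a L110805) L160144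
theorem L160148 : sm gd N20310 = N15249 := ded_24_1 (flp_g L111912) (flp_d L110807) L160144
theorem L160150 : sm ge N20310 = N15044 := ded_26_1 (flp_g L110809) L110803 L160144
theorem L160152 : sm gf N20310 = N20213 := ded_29_2 (flp_g L159529) (flp_a L159503) L159505 L160144
theorem L160154 : sm gb N15044 = N20311 := rfl
theorem L160156 : sm gd N20311 = N15045 := ded_14_2 (flp_b L110817) (flp_d L110813) L160154
theorem L160158 : sm ga N15045 = N20312 := rfl
theorem L160160 : sm ge N20312 = N15251 := ded_10_2 (flp_a L111924) (flp_e L110819) L160158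
theorem L160162 : sm gg N20312 = N19735 := ded_12_2 L160120 L160118 L160158
theorem L160164 : sm gc N19727 = N20312 := ded_19_3 L160160 L155500 (flp_e L156314)
theorem L160166 : sm gc N15045 = N20313 := rfl
theorem L160168 : sm ga N20313 = N19727 := ded_8_1 L160164 (flp_a L160158) L160166
theorem L160170 : sm ge N20313 = N15252 := ded_19_2 (flp_c L111926) (flp_e L110819) L160166
theorem L160172 : sm gg N20313 = N19734 := ded_21_2 (flp_c L160116) L160118 L160166
theorem L160174 : sm gb N20313 = N15047 := ded_13_1 (flp_c L110825) (flp_b L92821) (flp_c L92815) L110817 L160166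
theorem L160176 : sm gd N19761 = N20313 := ded_24_3 L160172 L156366 (flp_g L156527)
theorem L160178 : sm gf N15045 = N20314 := rfl
theorem L160180 : sm ge N20314 = N15253 := ded_25_1 (flp_f L111930) (flp_e L110819) L160178
theorem L160182 : sm gb N20314 = N20217 := ded_16_1 (flp_f L159549) (flp_b L110441) (flp_f L92819) L110817 L160178
theorem L160184 : sm gb N15046 = N20315 := rfl
theorem L160186 : sm ge N20315 = N15254 := ded_15_2 (flp_b L111934) (flp_e L110823) L160184
theorem L160188 : sm gf N20315 = N15933 := ded_16_2 (flp_b L115204) L110927 (flp_b L156126) (flp_f L156128) L160184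
theorem L160190 : sm ga N20315 = N15935 := ded_7_1 (flp_b L115389) L115385 (flp_b L96564) L84889 L25130 (flp_a L45293) L92821 L110821 L160184
theorem L160192 : sm gg N20111 = N20315 := ded_26_0 L160186 (flp_g L111942) (flp_e L158801)
theorem L160194 : sm ge N15049 = N20316 := rfl
theorem L160196 : sm ga N20316 = N20273 := ded_10_1 (flp_e L159892) (flp_a L110839) L160194
theorem L160198 : sm gb N20316 = N20161 := ded_15_1 L159167 L115816 L160194
theorem L160200 : sm gc N20316 = N20164 := ded_19_1 L159185 L110841 L160194
theorem L160202 : sm gg N15049 = N20317 := rfl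
theorem L160204 : sm ga N20317 = N20274 := ded_12_1 (flp_g L159896) (flp_a L110839) L160202
theorem L160206 : sm gc N20317 = N20267 := ded_21_1 (flp_g L159857) L110841 L160202
theorem L160208 : sm gd N20317 = N15051 := ded_24_1 (flp_g L110847) L110837 L160202
theorem L160210 : sm gd N15050 = N20318 := rfl
theorem L160212 : sm gg N15050 = N20319 := rfl
theorem L160214 : sm gc N20319 = N15052 := ded_21_1 (flp_g L110851) (flp_c L110845) L160212
theorem L160216 : sm ge N20319 = N15051 := ded_26_1 (flp_g L110847) L110843 L160212
theorem L160218 : sm gb N15051 = N20320 := rfl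
theorem L160220 : sm gf N15051 = N20321 := rfl
theorem L160222 : sm ga N20321 = N20212 := ded_11_1 (flp_f L160142) L160136 L160220
theorem L160224 : sm gc N20321 = N15054 := ded_20_1 (flp_f L110863) (flp_c L110849) L160220
theorem L160226 : sm gg N20321 = N20207 := ded_29_3 L159495 L110429 L110847 L160220
theorem L160228 : sm gb N15052 = N20322 := rfl
theorem L160230 : sm gd N20322 = N15267 := ded_14_2 (flp_b L112004) (flp_d L110853) L160228
theorem L160232 : sm ge N20322 = N15053 := ded_15_2 (flp_b L110857) (flp_e L110855) L160228
theorem L160234 : sm gg N20322 = N15101 := ded_17_2 (flp_b L111143) (flp_g L92958) (flp_b L92829) L110851 L160228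
theorem L160236 : sm gf N15052 = N20323 := rfl
theorem L160238 : sm ga N20323 = N20213 := ded_11_1 (flp_f L160152) L160146 L160236
theorem L160240 : sm gd N20323 = N15268 := ded_23_1 (flp_f L112010) (flp_d L110853) L160236
theorem L160242 : sm ge N20323 = N15054 := ded_25_1 (flp_f L110863) (flp_e L110855) L160236
theorem L160244 : sm gg N20323 = N20208 := ded_29_3 L159503 L110433 L110851 L160236
theorem L160246 : sm ga N15053 = N20324 := rfl
theorem L160248 : sm gd N20324 = N15055 := ded_9_2 (flp_a L110871) (flp_d L110859) L160246
theorem L160250 : sm gg N20324 = N15102 := ded_12_2 (flp_a L111149) (flp_g L110861) L160246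
theorem L160252 : sm gc N15053 = N20325 := rfl
theorem L160254 : sm gg N20325 = N15103 := ded_21_2 (flp_c L111153) (flp_g L110861) L160252
theorem L160256 : sm gf N15053 = N20326 := rfl
theorem L160258 : sm gd N20326 = N15056 := ded_23_1 (flp_f L110877) (flp_d L110859) L160256
theorem L160260 : sm gb N15054 = N20327 := rfl
theorem L160262 : sm gd N20327 = N15057 := ded_14_2 (flp_b L110881) (flp_d L110867) L160260
theorem L160264 : sm gb N15055 = N20328 := rfl
theorem L160266 : sm ge N20328 = N15273 := ded_15_2 (flp_b L112036) (flp_e L110873) L160264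
theorem L160268 : sm gb N15056 = N20329 := rfl
theorem L160270 : sm ge N20329 = N15274 := ded_15_2 (flp_b L112038) (flp_e L110879) L160268
theorem L160272 : sm gf N20329 = N15057 := ded_16_2 (flp_b L110881) (flp_f L92843) L92837 L110877 L160268
theorem L160274 : sm ga N15057 = N20330 := rfl
theorem L160276 : sm ge N20330 = N15275 := ded_10_2 (flp_a L112042) (flp_e L110883) L160274
theorem L160278 : sm gc N15057 = N20331 := rfl
theorem L160280 : sm ge N20331 = N15276 := ded_19_2 (flp_c L112044) (flp_e L110883) L160278
theorem L160282 : sm gb N20331 = N15059 := ded_13_1 (flp_c L110891) (flp_b L92853) (flp_c L92847) L110881 L160278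
theorem L160284 : sm gg N15057 = N20332 := rfl
theorem L160286 : sm ge N20332 = N15277 := ded_26_1 (flp_g L112048) (flp_e L110883) L160284
theorem L160288 : sm gb N20332 = N20206 := ded_17_1 (flp_g L159489) (flp_b L110417) (flp_g L92851) L110881 L160284
theorem L160290 : sm gc N15058 = N20333 := rfl
theorem L160292 : sm ga N20333 = N15059 := ded_8_1 (flp_c L110891) L110885 L160290
theorem L160294 : sm ge N20333 = N15278 := ded_19_2 (flp_c L112052) (flp_e L110887) L160290
theorem L160296 : sm gd N15059 = N20334 := rfl
theorem L160298 : sm gg N15059 = N20335 := rfl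
theorem L160300 : sm gc N20335 = N15060 := ded_21_1 (flp_g L110895) L110891 L160298
theorem L160302 : sm ge N20335 = N15280 := ded_26_1 (flp_g L112058) (flp_e L110893) L160298
theorem L160304 : sm gf N15060 = N20336 := rfl
theorem L160306 : sm ga N20336 = N16450 := ded_11_1 (flp_f L118121) (flp_a L116211) L160304
theorem L160308 : sm ge N20336 = N15281 := ded_25_1 (flp_f L112062) (flp_e L110897) L160304
theorem L160310 : sm gg N20336 = N16448 := ded_29_3 (flp_a L118105) L96594 L110895 L160304
theorem L160312 : sm ge N15066 = N20337 := rfl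
theorem L160314 : sm ga N20337 = N16353 := ded_10_1 (flp_e L117551) (flp_a L110943) L160312
theorem L160316 : sm gb N20337 = N15070 := ded_15_1 (flp_e L110971) (flp_b L110945) L160312
theorem L160318 : sm gc N20337 = N18872 := ded_19_1 (flp_e L145074) L110947 L160312
theorem L160320 : sm gd N20337 = N15284 := ded_22_1 (flp_e L112086) (flp_d L93584) (flp_e L92877) L110941 L160312
theorem L160322 : sm gg N18999 = N20337 := ded_12_0 L160314 L150408 (flp_a L145807)
theorem L160324 : sm gf N15066 = N20338 := rfl
theorem L160326 : sm ga N20338 = N16354 := ded_11_1 (flp_f L117557) (flp_a L110943) L160324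
theorem L160328 : sm gc N20338 = N18873 := ded_20_1 (flp_f L145080) L110947 L160324
theorem L160330 : sm gd N20338 = N15067 := ded_23_1 (flp_f L110949) L110941 L160324
theorem L160332 : sm gg N15066 = N20339 := rfl
theorem L160334 : sm ga N20339 = N16355 := ded_12_1 (flp_g L117563) (flp_a L110943) L160332
theorem L160336 : sm gc N20339 = N18770 := ded_21_1 L144499 L110947 L160332
theorem L160338 : sm gd N20339 = N15068 := ded_24_1 (flp_g L110957) L110941 L160332
theorem L160340 : sm ge N20339 = N18999 := ded_26_1 L160322 (flp_e L160312) L160332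
theorem L160342 : sm gb N15067 = N20340 := rfl
theorem L160344 : sm ge N20340 = N15287 := ded_15_2 (flp_b L112107) (flp_e L110955) L160342
theorem L160346 : sm gc N20340 = N19772 := ded_13_2 (flp_b L156617) L155100 (flp_b L117511) (flp_c L110953) L160342
theorem L160348 : sm gf N20340 = N15072 := ded_16_2 (flp_b L110985) (flp_f L92883) L92875 L110949 L160342
theorem L160350 : sm ga N19773 = N20340 := ded_10_3 L160344 L112127 (flp_e L156621)
theorem L160352 : sm gb N15069 = N20341 := rfl
theorem L160354 : sm gd N20341 = N20292 := ded_14_2 (flp_b L160018) L110969 L160352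
theorem L160356 : sm gc N20341 = N18869 := ded_13_2 L145064 L110947 L110945 L110965 L160352
theorem L160358 : sm ge N15069 = N20342 := rfl
theorem L160360 : sm ga N20342 = N15077 := ded_10_1 (flp_e L111011) (flp_a L110967) L160358
theorem L160362 : sm gc N20342 = N15070 := ded_19_1 (flp_e L110971) L110965 L160358
theorem L160364 : sm gf N15069 = N20343 := rfl
theorem L160366 : sm ga N20343 = N15078 := ded_11_1 (flp_f L111015) (flp_a L110967) L160364
theorem L160368 : sm gc N20343 = N15071 := ded_20_1 (flp_f L110977) L110965 L160364
theorem L160370 : sm gd N20343 = N20294 := ded_23_1 (flp_f L160025) L110969 L160364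
theorem L160372 : sm gg N20246 = N20343 := ded_29_1 (flp_f L160364) (flp_g L159697) L159695 L159725
theorem L160374 : sm gf N15070 = N20344 := rfl
theorem L160376 : sm ga N20344 = N15079 := ded_11_1 (flp_f L111019) (flp_a L110973) L160374
theorem L160378 : sm gd N20344 = N15288 := ded_23_1 (flp_f L112111) (flp_d L110975) L160374
theorem L160380 : sm ge N20344 = N15071 := ded_25_1 (flp_f L110977) L110971 L160374
theorem L160382 : sm gg N20247 = N20344 := ded_29_1 (flp_f L160374) (flp_g L159705) L159703 L159729
theorem L160384 : sm gb N15071 = N20345 := rfl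
theorem L160386 : sm gd N20345 = N15072 := ded_14_2 (flp_b L110985) (flp_d L110981) L160384
theorem L160388 : sm ga N15072 = N20346 := rfl
theorem L160390 : sm ge N20346 = N15290 := ded_10_2 (flp_a L112123) (flp_e L110987) L160388
theorem L160392 : sm gf N20346 = N19773 := ded_11_2 L160350 L160348 L160388
theorem L160394 : sm gc N19764 = N20346 := ded_19_3 L160390 (flp_c L112129) (flp_e L156549)
theorem L160396 : sm gc N15072 = N20347 := rfl
theorem L160398 : sm ga N20347 = N19764 := ded_8_1 L160394 (flp_a L160388) L160396
theorem L160400 : sm ge N20347 = N15291 := ded_19_2 (flp_c L112158) (flp_e L110987) L160396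
theorem L160402 : sm gf N20347 = N19772 := ded_20_2 (flp_c L160346) L160348 L160396
theorem L160404 : sm gb N20347 = N15074 := ded_13_1 (flp_c L110993) (flp_b L92893) (flp_c L92887) L110985 L160396
theorem L160406 : sm gd N19799 = N20347 := ded_23_3 L160402 L156613 (flp_f L156780)
theorem L160408 : sm gg N15072 = N20348 := rfl
theorem L160410 : sm ge N20348 = N15292 := ded_26_1 (flp_g L112166) (flp_e L110987) L160408
theorem L160412 : sm gb N20348 = N20251 := ded_17_1 (flp_g L159749) (flp_b L110541) L92891 L110985 L160408
theorem L160414 : sm gb N15073 = N20349 := rfl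
theorem L160416 : sm ge N20349 = N15293 := ded_15_2 (flp_b L112170) (flp_e L110991) L160414
theorem L160418 : sm gg N20349 = N15930 := ded_17_2 (flp_b L115190) (flp_g L110771) (flp_b L156236) (flp_g L156238) L160414
theorem L160420 : sm ga N20349 = N15932 := ded_7_1 (flp_b L115439) L115435 (flp_b L96277) L84767 L25072 (flp_a L45329) L92893 L110989 L160414
theorem L160422 : sm gf N20109 = N20349 := ded_31_1 (flp_b L160414) L156238 L156234 L108015 (flp_g L156124) (flp_f L156128) L160184 (flp_g L160192) (flp_f L158797) (flp_b L110055) (flp_g L92424) L92418 L110049 L158783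
theorem L160424 : sm ge N15076 = N20350 := rfl
theorem L160426 : sm ga N20350 = N20293 := ded_10_1 (flp_e L160021) (flp_a L111007) L160424
theorem L160428 : sm gb N20350 = N20178 := ded_15_1 L159303 (flp_b L150460) L160424
theorem L160430 : sm gc N20350 = N20181 := ded_19_1 L159321 L111009 L160424
theorem L160432 : sm gf N15076 = N20351 := rfl
theorem L160434 : sm ga N20351 = N20294 := ded_11_1 (flp_f L160025) (flp_a L111007) L160432
theorem L160436 : sm gc N20351 = N20287 := ded_20_1 (flp_f L159986) L111009 L160432
theorem L160438 : sm gd N20351 = N15078 := ded_23_1 (flp_f L111015) L111005 L160432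
theorem L160440 : sm gd N15077 = N20352 := rfl
theorem L160442 : sm gf N15077 = N20353 := rfl
theorem L160444 : sm gc N20353 = N15079 := ded_20_1 (flp_f L111019) (flp_c L111013) L160442
theorem L160446 : sm ge N20353 = N15078 := ded_25_1 (flp_f L111015) L111011 L160442
theorem L160448 : sm gb N15078 = N20354 := rfl
theorem L160450 : sm gg N15078 = N20355 := rfl
theorem L160452 : sm ga N20355 = N20246 := ded_12_1 L160372 L160366 L160450
theorem L160454 : sm gc N20355 = N15081 := ded_21_1 (flp_g L111031) (flp_c L111017) L160450
theorem L160456 : sm gf N20241 = N20355 := ded_29_0 (flp_g L160450) (flp_f L111015) (flp_g L110529) (flp_a L159695)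
theorem L160458 : sm gb N15079 = N20356 := rfl
theorem L160460 : sm gd N20356 = N15305 := ded_14_2 (flp_b L112234) (flp_d L111021) L160458
theorem L160462 : sm ge N20356 = N15080 := ded_15_2 (flp_b L111025) (flp_e L111023) L160458
theorem L160464 : sm gf N20356 = N15121 := ded_16_2 (flp_b L111259) (flp_f L93011) (flp_b L92901) L111019 L160458
theorem L160466 : sm gg N15079 = N20357 := rfl
theorem L160468 : sm ga N20357 = N20247 := ded_12_1 L160382 L160376 L160466
theorem L160470 : sm gd N20357 = N15306 := ded_24_1 (flp_g L112240) (flp_d L111021) L160466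
theorem L160472 : sm ge N20357 = N15081 := ded_26_1 (flp_g L111031) (flp_e L111023) L160466
theorem L160474 : sm gf N20242 = N20357 := ded_29_0 (flp_g L160466) (flp_f L111019) (flp_g L110533) (flp_a L159703)
theorem L160476 : sm ga N15080 = N20358 := rfl
theorem L160478 : sm gd N20358 = N15082 := ded_9_2 (flp_a L111039) (flp_d L111027) L160476
theorem L160480 : sm gf N20358 = N15122 := ded_11_2 (flp_a L111265) (flp_f L111029) L160476
theorem L160482 : sm gc N15080 = N20359 := rfl
theorem L160484 : sm gf N20359 = N15123 := ded_20_2 (flp_c L111269) (flp_f L111029) L160482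
theorem L160486 : sm gg N15080 = N20360 := rfl
theorem L160488 : sm gd N20360 = N15083 := ded_24_1 (flp_g L111045) (flp_d L111027) L160486
theorem L160490 : sm gb N15081 = N20361 := rfl
theorem L160492 : sm gd N20361 = N15084 := ded_14_2 (flp_b L111049) (flp_d L111035) L160490
theorem L160494 : sm gb N15082 = N20362 := rfl
theorem L160496 : sm ge N20362 = N15311 := ded_15_2 (flp_b L112266) (flp_e L111041) L160494
theorem L160498 : sm gb N15083 = N20363 := rfl
theorem L160500 : sm ge N20363 = N15312 := ded_15_2 (flp_b L112268) (flp_e L111047) L160498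
theorem L160502 : sm gg N20363 = N15084 := ded_17_2 (flp_b L111049) (flp_g L92915) L92909 L111045 L160498
theorem L160504 : sm ga N15084 = N20364 := rfl
theorem L160506 : sm ge N20364 = N15313 := ded_10_2 (flp_a L112272) (flp_e L111051) L160504
theorem L160508 : sm gc N15084 = N20365 := rfl
theorem L160510 : sm ge N20365 = N15314 := ded_19_2 (flp_c L112274) (flp_e L111051) L160508
theorem L160512 : sm gb N20365 = N15086 := ded_13_1 (flp_c L111059) (flp_b L92925) (flp_c L92919) L111049 L160508
theorem L160514 : sm gf N15084 = N20366 := rfl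
theorem L160516 : sm ge N20366 = N15315 := ded_25_1 (flp_f L112278) (flp_e L111051) L160514
theorem L160518 : sm gb N20366 = N20239 := ded_16_1 (flp_f L159679) (flp_b L110517) L92923 L111049 L160514
theorem L160520 : sm gc N15085 = N20367 := rfl
theorem L160522 : sm ga N20367 = N15086 := ded_8_1 (flp_c L111059) L111053 L160520
theorem L160524 : sm ge N20367 = N15316 := ded_19_2 (flp_c L112282) (flp_e L111055) L160520
theorem L160526 : sm gd N15086 = N20368 := rfl
theorem L160528 : sm gf N15086 = N20369 := rfl
theorem L160530 : sm gc N20369 = N15087 := ded_20_1 (flp_f L111063) L111059 L160528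
theorem L160532 : sm ge N20369 = N15318 := ded_25_1 (flp_f L112288) (flp_e L111061) L160528
theorem L160534 : sm gg N15087 = N20370 := rfl
theorem L160536 : sm ga N20370 = N16347 := ded_12_1 L117507 (flp_a L116445) L160534
theorem L160538 : sm ge N20370 = N15319 := ded_26_1 (flp_g L112292) (flp_e L111065) L160534
theorem L160540 : sm gf N16345 = N20370 := ded_29_0 (flp_g L160534) (flp_f L111063) (flp_g L96307) L117491
theorem L160542 : sm gb N20370 = N20336 := ded_17_1 L160310 L159657 (flp_g L159651) (flp_b L111067) L160534
theorem L160544 : sm gd N15088 = N20371 := rfl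
theorem L160546 : sm ga N20371 = N16246 := ded_9_1 (flp_d L116889) (flp_a L111073) L160544
theorem L160548 : sm gb N20371 = N15089 := ded_14_1 (flp_d L111077) L111069 L160544
theorem L160550 : sm gc N18401 = N20371 := ded_28_0 (flp_d L160544) (flp_c L111075) L116895 (flp_c L102607) L88382 L88412 L102655 (flp_a L130178)
theorem L160552 : sm gg N15088 = N20372 := rfl
theorem L160554 : sm ga N20372 = N16248 := ded_12_1 (flp_g L116907) (flp_a L111073) L160552
theorem L160556 : sm gc N20372 = N16262 := ded_21_1 (flp_g L116999) L111075 L160552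
theorem L160558 : sm ge N20372 = N15322 := ded_26_1 (flp_g L112314) (flp_e L111071) L160552
theorem L160560 : sm gf N20372 = N19243 := ded_29_2 (flp_g L152714) (flp_a L152702) L152706 L160552
theorem L160562 : sm gc N15089 = N20373 := rfl
theorem L160564 : sm ga N20373 = N15092 := ded_8_1 (flp_c L111095) (flp_a L111079) L160562
theorem L160566 : sm ge N15089 = N20374 := rfl
theorem L160568 : sm ga N20374 = N15093 := ded_10_1 (flp_e L111097) (flp_a L111079) L160566
theorem L160570 : sm gd N20374 = N15324 := ded_22_1 (flp_e L112324) (flp_d L93677) (flp_e L92932) L111077 L160566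
theorem L160572 : sm gf N15089 = N20375 := rfl
theorem L160574 : sm ga N20375 = N15094 := ded_11_1 (flp_f L111103) (flp_a L111079) L160572
theorem L160576 : sm gd N20375 = N15090 := ded_23_1 (flp_f L111081) L111077 L160572
theorem L160578 : sm gg N15089 = N20376 := rfl
theorem L160580 : sm ga N20376 = N15095 := ded_12_1 (flp_g L111107) (flp_a L111079) L160578
theorem L160582 : sm gd N20376 = N15091 := ded_24_1 (flp_g L111088) L111077 L160578
theorem L160584 : sm gb N15090 = N20377 := rfl
theorem L160586 : sm ge N20377 = N15327 := ded_15_2 (flp_b L112340) (flp_e L111086) L160584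
theorem L160588 : sm gc N16834 = N20377 := ded_32_24 (flp_b L160584) L111086 (flp_d L112332) (flp_c L142911) L142913 L120515 L120455 L102988 L103024 (flp_d L120237) L119839 (flp_b L120414) L123410 (flp_c L153586) L153582 (flp_c L120848) (flp_b L129479) L129486 L102498 (flp_d L129486) L129481 (flp_b L121058) L121066 L121074 L114880 L95060 L84214 L120066 L83814 (flp_c L47035) L94008 (flp_c L94012) L47039 (flp_d L22649) (flp_c L10900) (flp_d L5452) (flp_c L2815) (flp_b L1444) (flp_d L1436) (flp_c L2791) L2793 L1674 L1680 L1682 L835 (flp_d L1682) L3306 (flp_b L6356) L12866 L26787 L85463 (flp_c L85468) (flp_b L93439) L111887 (flp_d L160090) L160088 L144811 L105077 L89710 (flp_d L89300) (flp_c L102755) L102759 (flp_c L103419) (flp_b L143711) L143717 L103419 (flp_d L102759) L102755 (flp_b L104121) L104123 (flp_c L105077) (flp_d L144811) (flp_c L160088) L160086 L110807 (flp_c L97727) L121937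
theorem L160590 : sm gb N15091 = N20378 := rfl
theorem L160592 : sm ge N20378 = N15328 := ded_15_2 (flp_b L112342) (flp_e L111093) L160590
theorem L160594 : sm gd N15092 = N20379 := rfl
theorem L160596 : sm ge N15092 = N20380 := rfl
theorem L160598 : sm gc N20380 = N15093 := ded_19_1 (flp_e L111097) L111095 L160596
theorem L160600 : sm gf N15092 = N20381 := rfl
theorem L160602 : sm gc N20381 = N15094 := ded_20_1 (flp_f L111103) L111095 L160600
theorem L160604 : sm gg N15092 = N20382 := rfl
theorem L160606 : sm gc N20382 = N15095 := ded_21_1 (flp_g L111107) L111095 L160604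
theorem L160608 : sm gf N15093 = N20383 := rfl
theorem L160610 : sm gd N20383 = N15332 := ded_23_1 (flp_f L112356) (flp_d L111101) L160608
theorem L160612 : sm ge N20383 = N15094 := ded_25_1 (flp_f L111103) L111097 L160608
theorem L160614 : sm gg N15093 = N20384 := rfl
theorem L160616 : sm gd N20384 = N15333 := ded_24_1 (flp_g L112360) (flp_d L111101) L160614
theorem L160618 : sm ge N20384 = N15095 := ded_26_1 (flp_g L111107) L111097 L160614
theorem L160620 : sm gg N15094 = N20385 := rfl
theorem L160622 : sm gd N20385 = N15096 := ded_24_1 (flp_g L111111) (flp_d L111105) L160620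
theorem L160624 : sm gf N20376 = N20385 := ded_29_0 (flp_g L160620) (flp_f L111103) L111107 (flp_a L160580)
theorem L160626 : sm gf N15095 = N20386 := rfl
theorem L160628 : sm ga N20386 = N20385 := ded_11_1 (flp_f L160624) L160580 L160626
theorem L160630 : sm gd N20386 = N15098 := ded_23_1 (flp_f L111124) (flp_d L111109) L160626
theorem L160632 : sm gg N20386 = N20375 := ded_29_3 L160574 (flp_f L111103) L111107 L160626
theorem L160634 : sm gb N15096 = N20387 := rfl
theorem L160636 : sm ge N20387 = N15337 := ded_15_2 (flp_b L112384) (flp_e L111114) L160634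
theorem L160638 : sm ga N15097 = N20388 := rfl
theorem L160640 : sm ge N20388 = N15338 := ded_10_2 (flp_a L112386) (flp_e L111120) L160638
theorem L160642 : sm gg N20388 = N15099 := ded_12_2 (flp_a L111133) (flp_g L111122) L160638
theorem L160644 : sm gf N15097 = N20389 := rfl
theorem L160646 : sm gc N20389 = N20060 := ded_20_1 L158445 L156922 L160644
theorem L160648 : sm ge N20389 = N15339 := ded_25_1 (flp_f L112390) (flp_e L111120) L160644
theorem L160650 : sm gb N15098 = N20390 := rfl
theorem L160652 : sm ge N20390 = N15340 := ded_15_2 (flp_b L112392) (flp_e L111129) L160650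
theorem L160654 : sm gb N15099 = N20391 := rfl
theorem L160656 : sm ge N20391 = N15345 := ded_15_2 (flp_b L112410) (flp_e L111135) L160654
theorem L160658 : sm gf N15099 = N20392 := rfl
theorem L160660 : sm ga N20392 = N15100 := ded_11_1 (flp_f L111137) L111133 L160658
theorem L160662 : sm ge N20392 = N15346 := ded_25_1 (flp_f L112412) (flp_e L111135) L160658
theorem L160664 : sm gg N20389 = N20392 := ded_29_1 (flp_f L160658) (flp_g L160642) (flp_a L160638) L160644
theorem L160666 : sm gg N15100 = N20393 := rfl
theorem L160668 : sm ga N20393 = N20389 := ded_12_1 L160664 L160660 L160666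
theorem L160670 : sm ge N20393 = N15347 := ded_26_1 (flp_g L112418) (flp_e L111139) L160666
theorem L160672 : sm gf N20388 = N20393 := ded_29_0 (flp_g L160666) (flp_f L111137) (flp_g L111122) L160638
theorem L160674 : sm ga N15101 = N20394 := rfl
theorem L160676 : sm gd N20394 = N15363 := ded_9_2 (flp_a L112488) (flp_d L111145) L160674
theorem L160678 : sm ge N20394 = N15102 := ded_10_2 (flp_a L111149) (flp_e L111147) L160674
theorem L160680 : sm gc N15101 = N20395 := rfl
theorem L160682 : sm ge N20395 = N15103 := ded_19_2 (flp_c L111153) (flp_e L111147) L160680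
theorem L160684 : sm gf N15101 = N20396 := rfl
theorem L160686 : sm gd N20396 = N15365 := ded_23_1 (flp_f L112496) (flp_d L111145) L160684
theorem L160688 : sm ge N20396 = N15104 := ded_25_1 (flp_f L111155) (flp_e L111147) L160684
theorem L160690 : sm gb N20396 = N16342 := ded_16_1 (flp_f L117473) L96285 L92964 L111143 L160684
theorem L160692 : sm gb N15102 = N20397 := rfl
theorem L160694 : sm gd N20397 = N15105 := ded_14_2 (flp_b L111161) (flp_d L111151) L160692
theorem L160696 : sm gc N15102 = N20398 := rfl
theorem L160698 : sm ga N20398 = N15103 := ded_8_1 (flp_c L111153) L111149 L160696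
theorem L160700 : sm gf N15102 = N20399 := rfl
theorem L160702 : sm ga N20399 = N15104 := ded_11_1 (flp_f L111155) L111149 L160700
theorem L160704 : sm gd N20399 = N15106 := ded_23_1 (flp_f L111165) (flp_d L111151) L160700
theorem L160706 : sm gg N20326 = N20399 := ded_29_1 (flp_f L160700) (flp_g L160250) (flp_a L160246) L160256
theorem L160708 : sm gd N15103 = N20400 := rfl
theorem L160710 : sm gf N15103 = N20401 := rfl
theorem L160712 : sm gc N20401 = N15104 := ded_20_1 (flp_f L111155) L111153 L160710
theorem L160714 : sm gg N15104 = N20402 := rfl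
theorem L160716 : sm ga N20402 = N20326 := ded_12_1 L160706 L160702 L160714
theorem L160718 : sm gd N20402 = N15107 := ded_24_1 (flp_g L111175) (flp_d L111157) L160714
theorem L160720 : sm gf N20324 = N20402 := ded_29_0 (flp_g L160714) (flp_f L111155) (flp_g L110861) L160246
theorem L160722 : sm gf N15105 = N20403 := rfl
theorem L160724 : sm gc N20403 = N19252 := ded_20_1 L156460 (flp_c L156458) L160722
theorem L160726 : sm ge N20403 = N15374 := ded_25_1 (flp_f L112536) (flp_e L111163) L160722
theorem L160728 : sm gb N20403 = N19254 := ded_16_1 (flp_f L152778) L152772 (flp_f L111165) L111161 L160722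
theorem L160730 : sm gg N15105 = N20404 := rfl
theorem L160732 : sm ge N20404 = N15375 := ded_26_1 (flp_g L112538) (flp_e L111163) L160730
theorem L160734 : sm gb N15107 = N20405 := rfl
theorem L160736 : sm ge N20405 = N15377 := ded_15_2 (flp_b L112542) (flp_e L111181) L160734
theorem L160738 : sm gg N20405 = N16344 := ded_17_2 (flp_b L117487) (flp_g L96293) (flp_b L92980) L111175 L160734
theorem L160740 : sm gd N15108 = N20406 := rfl
theorem L160742 : sm ga N20406 = N16350 := ded_9_1 (flp_d L117527) (flp_a L111189) L160740
theorem L160744 : sm gb N20406 = N15109 := ded_14_1 (flp_d L111193) L111185 L160740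
theorem L160746 : sm gc N18422 = N20406 := ded_28_0 (flp_d L160740) (flp_c L111191) L117533 (flp_c L102624) L88395 L88430 L102713 (flp_a L130298)
theorem L160748 : sm gf N15108 = N20407 := rfl
theorem L160750 : sm ga N20407 = N16351 := ded_11_1 (flp_f L117539) (flp_a L111189) L160748
theorem L160752 : sm gc N20407 = N16364 := ded_20_1 (flp_f L117627) L111191 L160748
theorem L160754 : sm ge N20407 = N15379 := ded_25_1 (flp_f L112552) (flp_e L111187) L160748
theorem L160756 : sm gg N19300 = N20407 := ded_29_1 (flp_f L160748) (flp_g L153121) L153117 L153129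
theorem L160758 : sm gc N15109 = N20408 := rfl
theorem L160760 : sm ga N20408 = N15112 := ded_8_1 (flp_c L111211) (flp_a L111195) L160758
theorem L160762 : sm ge N15109 = N20409 := rfl
theorem L160764 : sm ga N20409 = N15113 := ded_10_1 (flp_e L111213) (flp_a L111195) L160762
theorem L160766 : sm gd N20409 = N15382 := ded_22_1 (flp_e L112568) (flp_d L93797) (flp_e L92985) L111193 L160762
theorem L160768 : sm gf N15109 = N20410 := rfl
theorem L160770 : sm ga N20410 = N15114 := ded_11_1 (flp_f L111219) (flp_a L111195) L160768
theorem L160772 : sm gd N20410 = N15110 := ded_23_1 (flp_f L111197) L111193 L160768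
theorem L160774 : sm gg N15109 = N20411 := rfl
theorem L160776 : sm ga N20411 = N15115 := ded_12_1 (flp_g L111223) (flp_a L111195) L160774
theorem L160778 : sm gd N20411 = N15111 := ded_24_1 (flp_g L111204) L111193 L160774
theorem L160780 : sm gb N15110 = N20412 := rfl
theorem L160782 : sm ge N20412 = N15385 := ded_15_2 (flp_b L112584) (flp_e L111202) L160780
theorem L160784 : sm gb N15111 = N20413 := rfl
theorem L160786 : sm ge N20413 = N15386 := ded_15_2 (flp_b L112586) (flp_e L111209) L160784
theorem L160788 : sm gc N17025 = N20413 := ded_32_24 (flp_b L160784) L111209 (flp_d L112582) (flp_c L149584) L149582 (flp_c L149562) L148490 L103006 L103056 (flp_d L148017) L112135 (flp_b L112151) L123782 (flp_c L153888) L153884 (flp_c L150678) (flp_b L151189) L129492 L102503 (flp_d L129492) (flp_c L151146) (flp_b L121381) L121384 (flp_c L149821) L115057 L95158 L84265 L148382 L83970 (flp_c L47374) L94259 (flp_c L94263) L47378 (flp_d L22826) (flp_c L10972) (flp_d L5488) (flp_c L2829) (flp_b L1448) (flp_d L1442) (flp_c L2799) L2801 L1678 L1691 L1693 L849 (flp_d L1693) L3322 (flp_b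 L6366) L12906 L26871 L85664 (flp_c L85669) (flp_b L93586) L112086 (flp_d L160320) L160318 L145078 L105270 L89795 (flp_d L89364) (flp_c L102779) L102783 (flp_c L103478) (flp_b L143809) L143815 L103478 (flp_d L102783) L102779 (flp_b L104242) L104244 (flp_c L105270) (flp_d L145078) (flp_c L160318) L160316 L110975 (flp_c L98297) L122856
theorem L160790 : sm gd N15112 = N20414 := rfl
theorem L160792 : sm ge N15112 = N20415 := rfl
theorem L160794 : sm gc N20415 = N15113 := ded_19_1 (flp_e L111213) L111211 L160792
theorem L160796 : sm gf N15112 = N20416 := rfl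
theorem L160798 : sm gc N20416 = N15114 := ded_20_1 (flp_f L111219) L111211 L160796
theorem L160800 : sm gg N15112 = N20417 := rfl
theorem L160802 : sm gc N20417 = N15115 := ded_21_1 (flp_g L111223) L111211 L160800
theorem L160804 : sm gf N15113 = N20418 := rfl
theorem L160806 : sm gd N20418 = N15390 := ded_23_1 (flp_f L112600) (flp_d L111217) L160804
theorem L160808 : sm ge N20418 = N15114 := ded_25_1 (flp_f L111219) L111213 L160804
theorem L160810 : sm gg N15113 = N20419 := rfl
theorem L160812 : sm gd N20419 = N15391 := ded_24_1 (flp_g L112604) (flp_d L111217) L160810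
theorem L160814 : sm ge N20419 = N15115 := ded_26_1 (flp_g L111223) L111213 L160810
theorem L160816 : sm gg N15114 = N20420 := rfl
theorem L160818 : sm gd N20420 = N15117 := ded_24_1 (flp_g L111233) (flp_d L111221) L160816
theorem L160820 : sm gf N20411 = N20420 := ded_29_0 (flp_g L160816) (flp_f L111219) L111223 (flp_a L160776)
theorem L160822 : sm gf N15115 = N20421 := rfl
theorem L160824 : sm ga N20421 = N20420 := ded_11_1 (flp_f L160820) L160776 L160822
theorem L160826 : sm gd N20421 = N15118 := ded_23_1 (flp_f L111240) (flp_d L111225) L160822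
theorem L160828 : sm gg N20421 = N20410 := ded_29_3 L160770 (flp_f L111219) L111223 L160822
theorem L160830 : sm ga N15116 = N20422 := rfl
theorem L160832 : sm ge N20422 = N15395 := ded_10_2 (flp_a L112628) (flp_e L111229) L160830
theorem L160834 : sm gf N20422 = N15119 := ded_11_2 (flp_a L111249) (flp_f L111231) L160830
theorem L160836 : sm gg N15116 = N20423 := rfl
theorem L160838 : sm gc N20423 = N20069 := ded_21_1 L158502 L156877 L160836
theorem L160840 : sm ge N20423 = N15396 := ded_26_1 (flp_g L112632) (flp_e L111229) L160836
theorem L160842 : sm gb N15117 = N20424 := rfl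
theorem L160844 : sm ge N20424 = N15397 := ded_15_2 (flp_b L112634) (flp_e L111236) L160842
theorem L160846 : sm gb N15118 = N20425 := rfl
theorem L160848 : sm ge N20425 = N15398 := ded_15_2 (flp_b L112636) (flp_e L111245) L160846
theorem L160850 : sm gb N15119 = N20426 := rfl
theorem L160852 : sm ge N20426 = N15403 := ded_15_2 (flp_b L112654) (flp_e L111251) L160850
theorem L160854 : sm gg N15119 = N20427 := rfl
theorem L160856 : sm ga N20427 = N15120 := ded_12_1 (flp_g L111253) L111249 L160854
theorem L160858 : sm ge N20427 = N15404 := ded_26_1 (flp_g L112656) (flp_e L111251) L160854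
theorem L160860 : sm gf N20427 = N20423 := ded_29_2 (flp_g L160836) L160830 L160834 L160854
theorem L160862 : sm gf N15120 = N20428 := rfl
theorem L160864 : sm ga N20428 = N20423 := ded_11_1 (flp_f L160860) L160856 L160862
theorem L160866 : sm ge N20428 = N15405 := ded_25_1 (flp_f L112662) (flp_e L111255) L160862
theorem L160868 : sm gg N20428 = N20422 := ded_29_3 (flp_a L160830) L111231 L111253 L160862
theorem L160870 : sm ga N15121 = N20429 := rfl
theorem L160872 : sm gd N20429 = N15421 := ded_9_2 (flp_a L112732) (flp_d L111261) L160870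
theorem L160874 : sm ge N20429 = N15122 := ded_10_2 (flp_a L111265) (flp_e L111263) L160870
theorem L160876 : sm gc N15121 = N20430 := rfl
theorem L160878 : sm ge N20430 = N15123 := ded_19_2 (flp_c L111269) (flp_e L111263) L160876
theorem L160880 : sm gg N15121 = N20431 := rfl
theorem L160882 : sm gd N20431 = N15423 := ded_24_1 (flp_g L112740) (flp_d L111261) L160880
theorem L160884 : sm ge N20431 = N15124 := ded_26_1 (flp_g L111271) (flp_e L111263) L160880
theorem L160886 : sm gb N20431 = N16445 := ded_17_1 (flp_g L118087) L96572 L93017 L111259 L160880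
theorem L160888 : sm gb N15122 = N20432 := rfl
theorem L160890 : sm gd N20432 = N15125 := ded_14_2 (flp_b L111277) (flp_d L111267) L160888
theorem L160892 : sm gc N15122 = N20433 := rfl
theorem L160894 : sm ga N20433 = N15123 := ded_8_1 (flp_c L111269) L111265 L160892
theorem L160896 : sm gg N15122 = N20434 := rfl
theorem L160898 : sm ga N20434 = N15124 := ded_12_1 (flp_g L111271) L111265 L160896
theorem L160900 : sm gd N20434 = N15126 := ded_24_1 (flp_g L111281) (flp_d L111267) L160896
theorem L160902 : sm gf N20434 = N20360 := ded_29_2 (flp_g L160486) L160476 L160480 L160896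
theorem L160904 : sm gd N15123 = N20435 := rfl
theorem L160906 : sm gg N15123 = N20436 := rfl
theorem L160908 : sm gc N20436 = N15124 := ded_21_1 (flp_g L111271) L111269 L160906
theorem L160910 : sm gf N15124 = N20437 := rfl
theorem L160912 : sm ga N20437 = N20360 := ded_11_1 (flp_f L160902) L160898 L160910
theorem L160914 : sm gd N20437 = N15127 := ded_23_1 (flp_f L111291) (flp_d L111273) L160910
theorem L160916 : sm gg N20437 = N20358 := ded_29_3 (flp_a L160476) L111029 L111271 L160910
theorem L160918 : sm gf N15125 = N20438 := rfl
theorem L160920 : sm ge N20438 = N15432 := ded_25_1 (flp_f L112782) (flp_e L111279) L160918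
theorem L160922 : sm gg N15125 = N20439 := rfl
theorem L160924 : sm gc N20439 = N19309 := ded_21_1 L156711 (flp_c L156709) L160922
theorem L160926 : sm ge N20439 = N15433 := ded_26_1 (flp_g L112784) (flp_e L111279) L160922
theorem L160928 : sm gb N20439 = N19311 := ded_17_1 (flp_g L153193) L153187 (flp_g L111281) L111277 L160922
theorem L160930 : sm gb N15127 = N20440 := rfl
theorem L160932 : sm ge N20440 = N15435 := ded_15_2 (flp_b L112788) (flp_e L111297) L160930
theorem L160934 : sm gf N20440 = N16447 := ded_16_2 (flp_b L118101) (flp_f L96580) (flp_b L93035) L111291 L160930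
theorem L160936 : sm gd N15128 = N20441 := rfl
theorem L160938 : sm ga N20441 = N18911 := ded_9_1 (flp_d L145296) L120406 L160936
theorem L160940 : sm gb N20441 = N15129 := ded_14_1 (flp_d L111305) L111301 L160936
theorem L160942 : sm gc N18908 = N20441 := ded_28_0 (flp_d L160936) (flp_c L120408) (flp_d L156064) L156062 L116080 L104327 L104341 (flp_a L145276)
theorem L160944 : sm gg N15128 = N20442 := rfl
theorem L160946 : sm ga N20442 = N19725 := ded_12_1 (flp_g L156294) L120406 L160944
theorem L160948 : sm gc N20442 = N19400 := ded_21_1 (flp_g L153916) L120408 L160944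
theorem L160950 : sm ge N20442 = N17152 := ded_26_1 (flp_g L123430) (flp_e L111303) L160944
theorem L160952 : sm gf N20442 = N18569 := ded_29_2 (flp_g L143337) (flp_a L143307) L143309 L160944
theorem L160954 : sm gc N15129 = N20443 := rfl
theorem L160956 : sm ga N20443 = N15132 := ded_8_1 (flp_c L111325) (flp_a L111307) L160954
theorem L160958 : sm ge N15129 = N20444 := rfl
theorem L160960 : sm ga N20444 = N15133 := ded_10_1 (flp_e L111329) (flp_a L111307) L160958
theorem L160962 : sm gd N20444 = N17153 := ded_22_1 (flp_e L123440) (flp_d L98671) (flp_e L93041) L111305 L160958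
theorem L160964 : sm gf N15129 = N20445 := rfl
theorem L160966 : sm ga N20445 = N15134 := ded_11_1 (flp_f L111335) (flp_a L111307) L160964
theorem L160968 : sm gd N20445 = N15130 := ded_23_1 (flp_f L111309) L111305 L160964
theorem L160970 : sm gg N15129 = N20446 := rfl
theorem L160972 : sm ga N20446 = N15135 := ded_12_1 (flp_g L111341) (flp_a L111307) L160970
theorem L160974 : sm gd N20446 = N15131 := ded_24_1 (flp_g L111317) L111305 L160970
theorem L160976 : sm gb N15130 = N20447 := rfl
theorem L160978 : sm ge N20447 = N16592 := ded_15_2 L120724 (flp_e L111315) L160976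
theorem L160980 : sm gc N20447 = N15957 := ded_13_2 (flp_b L115339) L115347 L115355 (flp_c L111313) L160976
theorem L160982 : sm gf N20447 = N20196 := ded_16_2 L159429 L143309 (flp_b L111301) L111309 L160976
theorem L160984 : sm ga N20447 = N20199 := ded_30_3 (flp_f L159439) (flp_c L110403) (flp_b L92617) (flp_a L45207) L21741 L21779 L21783 (flp_a L21811) (flp_f L69683) (flp_c L21923) (flp_b L81119) L68522 L68523 (flp_c L12119) L25192 L84927 L96615 (flp_c L111313) L160976
theorem L160986 : sm gb N15131 = N20448 := rfl
theorem L160988 : sm ge N20448 = N16857 := ded_15_2 (flp_b L122080) (flp_e L111323) L160986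
theorem L160990 : sm gd N15132 = N20449 := rfl
theorem L160992 : sm gb N20449 = N20379 := ded_14_1 (flp_d L160594) (flp_b L111327) L160990
theorem L160994 : sm ge N15132 = N20450 := rfl
theorem L160996 : sm gb N20450 = N20380 := ded_15_1 (flp_e L160596) (flp_b L111327) L160994
theorem L160998 : sm gc N20450 = N15133 := ded_19_1 (flp_e L111329) L111325 L160994
theorem L161000 : sm gf N15132 = N20451 := rfl
theorem L161002 : sm gc N20451 = N15134 := ded_20_1 (flp_f L111335) L111325 L161000
theorem L161004 : sm gg N15132 = N20452 := rfl
theorem L161006 : sm gc N20452 = N15135 := ded_21_1 (flp_g L111341) L111325 L161004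
theorem L161008 : sm gf N15133 = N20453 := rfl
theorem L161010 : sm gd N20453 = N17155 := ded_23_1 (flp_f L123450) (flp_d L111333) L161008
theorem L161012 : sm ge N20453 = N15134 := ded_25_1 (flp_f L111335) L111329 L161008
theorem L161014 : sm gb N20453 = N20383 := ded_16_1 (flp_f L160608) L111099 (flp_f L93069) (flp_b L111331) L161008
theorem L161016 : sm gg N15133 = N20454 := rfl
theorem L161018 : sm gd N20454 = N16860 := ded_24_1 L122100 (flp_d L111333) L161016
theorem L161020 : sm ge N20454 = N15135 := ded_26_1 (flp_g L111341) L111329 L161016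
theorem L161022 : sm gb N20454 = N16309 := ded_17_1 L117287 L96285 (flp_g L93071) (flp_b L111331) L161016
theorem L161024 : sm gg N15134 = N20455 := rfl
theorem L161026 : sm gd N20455 = N15136 := ded_24_1 (flp_g L111347) (flp_d L111337) L161024
theorem L161028 : sm gf N20446 = N20455 := ded_29_0 (flp_g L161024) (flp_f L111335) L111341 (flp_a L160972)
theorem L161030 : sm gf N15135 = N20456 := rfl
theorem L161032 : sm ga N20456 = N20455 := ded_11_1 (flp_f L161028) L160972 L161030
theorem L161034 : sm gd N20456 = N15137 := ded_23_1 (flp_f L111355) (flp_d L111343) L161030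
theorem L161036 : sm gg N20456 = N20445 := ded_29_3 L160966 (flp_f L111335) L111341 L161030
theorem L161038 : sm gb N15136 = N20457 := rfl
theorem L161040 : sm ge N20457 = N17157 := ded_15_2 (flp_b L123470) (flp_e L111351) L161038
theorem L161042 : sm gg N20457 = N20387 := ded_17_2 (flp_b L160634) (flp_g L111111) (flp_b L93053) L111347 L161038
theorem L161044 : sm gb N15137 = N20458 := rfl
theorem L161046 : sm ge N20458 = N16861 := ded_15_2 (flp_b L122102) (flp_e L111361) L161044
theorem L161048 : sm gf N20458 = N16311 := ded_16_2 (flp_b L117295) (flp_f L96217) (flp_b L93061) L111355 L161044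
theorem L161050 : sm gd N15138 = N20459 := rfl
theorem L161052 : sm ga N20459 = N18951 := ded_9_1 (flp_d L150462) L112139 L161050
theorem L161054 : sm gb N20459 = N15139 := ded_14_1 (flp_d L111369) L111365 L161050
theorem L161056 : sm gc N18948 = N20459 := ded_28_0 (flp_d L161050) (flp_c L112145) (flp_d L156174) L156172 L150817 L104432 L104446 (flp_a L145518)
theorem L161058 : sm gf N15138 = N20460 := rfl
theorem L161060 : sm ga N20460 = N19763 := ded_11_1 (flp_f L156541) L112139 L161058
theorem L161062 : sm gc N20460 = N19363 := ded_20_1 (flp_f L153636) L112145 L161058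
theorem L161064 : sm ge N20460 = N17236 := ded_25_1 (flp_f L123832) (flp_e L111367) L161058
theorem L161066 : sm gg N18610 = N20460 := ded_29_1 (flp_f L161058) (flp_g L149311) L143531 L143569
theorem L161068 : sm gc N15139 = N20461 := rfl
theorem L161070 : sm ga N20461 = N15142 := ded_8_1 (flp_c L111389) (flp_a L111371) L161068
theorem L161072 : sm ge N15139 = N20462 := rfl
theorem L161074 : sm ga N20462 = N15143 := ded_10_1 (flp_e L111393) (flp_a L111371) L161072
theorem L161076 : sm gd N20462 = N17239 := ded_22_1 (flp_e L123850) (flp_d L98850) (flp_e L93079) L111369 L161072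
theorem L161078 : sm gf N15139 = N20463 := rfl
theorem L161080 : sm ga N20463 = N15144 := ded_11_1 (flp_f L111399) (flp_a L111371) L161078
theorem L161082 : sm gd N20463 = N15140 := ded_23_1 (flp_f L111373) L111369 L161078
theorem L161084 : sm gg N15139 = N20464 := rfl
theorem L161086 : sm ga N20464 = N15145 := ded_12_1 (flp_g L111405) (flp_a L111371) L161084
theorem L161088 : sm gd N20464 = N15141 := ded_24_1 (flp_g L111381) L111369 L161084
theorem L161090 : sm gb N15140 = N20465 := rfl
theorem L161092 : sm ge N20465 = N17052 := ded_15_2 (flp_b L122975) (flp_e L111379) L161090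
theorem L161094 : sm gb N15141 = N20466 := rfl
theorem L161096 : sm ge N20466 = N16602 := ded_15_2 L150220 (flp_e L111387) L161094
theorem L161098 : sm gc N20466 = N15965 := ded_13_2 (flp_b L115391) L115399 L150738 (flp_c L111385) L161094
theorem L161100 : sm gg N20466 = N20230 := ded_17_2 L159629 L149311 (flp_b L111365) L111381 L161094
theorem L161102 : sm ga N20234 = N20466 := ded_10_3 L161096 L120780 (flp_e L159649)
theorem L161104 : sm gd N15142 = N20467 := rfl
theorem L161106 : sm gb N20467 = N20414 := ded_14_1 (flp_d L160790) (flp_b L111391) L161104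
theorem L161108 : sm ge N15142 = N20468 := rfl
theorem L161110 : sm gb N20468 = N20415 := ded_15_1 (flp_e L160792) (flp_b L111391) L161108
theorem L161112 : sm gc N20468 = N15143 := ded_19_1 (flp_e L111393) L111389 L161108
theorem L161114 : sm gf N15142 = N20469 := rfl
theorem L161116 : sm gc N20469 = N15144 := ded_20_1 (flp_f L111399) L111389 L161114
theorem L161118 : sm gg N15142 = N20470 := rfl
theorem L161120 : sm gc N20470 = N15145 := ded_21_1 (flp_g L111405) L111389 L161118
theorem L161122 : sm gf N15143 = N20471 := rfl
theorem L161124 : sm gd N20471 = N17055 := ded_23_1 L122991 (flp_d L111397) L161122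
theorem L161126 : sm ge N20471 = N15144 := ded_25_1 (flp_f L111399) L111393 L161122
theorem L161128 : sm gb N20471 = N16412 := ded_16_1 L117897 L96572 (flp_f L93107) (flp_b L111395) L161122
theorem L161130 : sm gg N15143 = N20472 := rfl
theorem L161132 : sm gd N20472 = N17248 := ded_24_1 (flp_g L123888) (flp_d L111397) L161130
theorem L161134 : sm ge N20472 = N15145 := ded_26_1 (flp_g L111405) L111393 L161130
theorem L161136 : sm gb N20472 = N20419 := ded_17_1 (flp_g L160810) L111215 (flp_g L93109) (flp_b L111395) L161130
theorem L161138 : sm gg N15144 = N20473 := rfl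
theorem L161140 : sm gd N20473 = N15146 := ded_24_1 (flp_g L111411) (flp_d L111401) L161138
theorem L161142 : sm gf N20464 = N20473 := ded_29_0 (flp_g L161138) (flp_f L111399) L111405 (flp_a L161086)
theorem L161144 : sm gf N15145 = N20474 := rfl
theorem L161146 : sm ga N20474 = N20473 := ded_11_1 (flp_f L161142) L161086 L161144
theorem L161148 : sm gd N20474 = N15147 := ded_23_1 (flp_f L111419) (flp_d L111407) L161144
theorem L161150 : sm gg N20474 = N20463 := ded_29_3 L161080 (flp_f L111399) L111405 L161144
theorem L161152 : sm gb N15146 = N20475 := rfl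
theorem L161154 : sm ge N20475 = N17057 := ded_15_2 (flp_b L122997) (flp_e L111415) L161152
theorem L161156 : sm gg N20475 = N16414 := ded_17_2 (flp_b L117905) (flp_g L96502) (flp_b L93091) L111411 L161152
theorem L161158 : sm gb N15147 = N20476 := rfl
theorem L161160 : sm ge N20476 = N17250 := ded_15_2 (flp_b L123902) (flp_e L111425) L161158
theorem L161162 : sm gf N20476 = N20425 := ded_16_2 (flp_b L160846) (flp_f L111240) (flp_b L93099) L111419 L161158
theorem L161164 : sm gd N15148 = N20477 := rfl
theorem L161166 : sm gb N20477 = N19108 := ded_14_1 (flp_d L155214) L155212 L161164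
theorem L161168 : sm gf N20477 = N16549 := ded_23_2 (flp_d L118766) (flp_f L111431) L161164
theorem L161170 : sm gc N18231 = N20477 := ded_28_0 (flp_d L161164) (flp_c L111429) L93115 L96938 L118766 L146100 (flp_d L146114) L146112
theorem L161172 : sm gg N15148 = N20478 := rfl
theorem L161174 : sm ga N20478 = N17018 := ded_12_1 L122828 L121649 L161172
theorem L161176 : sm gc N20478 = N15149 := ded_21_1 (flp_g L111433) L111429 L161172
theorem L161178 : sm gd N15150 = N20479 := rfl
theorem L161180 : sm gb N20479 = N19178 := ded_14_1 (flp_d L155224) L155222 L161178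
theorem L161182 : sm gg N20479 = N16552 := ded_24_2 (flp_d L118778) (flp_g L111443) L161178
theorem L161184 : sm gc N18234 = N20479 := ded_28_0 (flp_d L161178) (flp_c L111441) L93121 L96944 L118778 L150807 L151137 (flp_a L151139)
theorem L161186 : sm gf N15150 = N20480 := rfl
theorem L161188 : sm ga N20480 = N16826 := ded_11_1 (flp_f L122526) L122524 L161186
theorem L161190 : sm gc N20480 = N15151 := ded_20_1 (flp_f L111445) L111441 L161186
theorem L161192 : sm gc N15154 = N20481 := rfl
theorem L161194 : sm gb N20481 = N15160 := ded_13_1 (flp_c L111483) (flp_b L93147) (flp_c L93129) L111461 L161192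
theorem L161196 : sm gf N15154 = N20482 := rfl
theorem L161198 : sm ga N20482 = N19851 := ded_11_1 (flp_f L158229) L158227 L161196
theorem L161200 : sm gg N20021 = N20482 := ded_29_1 (flp_f L161196) L158217 (flp_a L158213) L158221
theorem L161202 : sm gb N20482 = N19306 := ded_16_1 (flp_f L153165) (flp_b L107404) L93131 L111461 L161196
theorem L161204 : sm gc N15158 = N20483 := rfl
theorem L161206 : sm gb N20483 = N15165 := ded_13_1 (flp_c L111509) (flp_b L93165) (flp_c L93139) L111471 L161204
theorem L161208 : sm gg N15158 = N20484 := rfl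
theorem L161210 : sm ga N20484 = N19873 := ded_12_1 L157927 L157925 L161208
theorem L161212 : sm gf N20484 = N19968 := ded_29_2 (flp_g L157929) L157915 (flp_f L157919) L161208
theorem L161214 : sm gb N20484 = N19250 := ded_17_1 L152756 (flp_b L107400) (flp_g L93141) L111471 L161208
theorem L161216 : sm gc N15159 = N20485 := rfl
theorem L161218 : sm ga N20485 = N16749 := ded_8_1 (flp_c L121511) (flp_a L111481) L161216
theorem L161220 : sm gf N20485 = N16873 := ded_20_2 L122162 (flp_f L111477) L161216
theorem L161222 : sm gg N20485 = N15160 := ded_21_2 (flp_c L111483) (flp_g L111479) L161216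
theorem L161224 : sm gb N20485 = N16914 := ded_13_1 L122330 L97983 L93179 L111473 L161216
theorem L161226 : sm gd N15160 = N20486 := rfl
theorem L161228 : sm gc N15164 = N20487 := rfl
theorem L161230 : sm ga N20487 = N16674 := ded_8_1 (flp_c L121182) (flp_a L111507) L161228
theorem L161232 : sm gf N20487 = N15165 := ded_20_2 (flp_c L111509) (flp_f L111503) L161228
theorem L161234 : sm gg N20487 = N17070 := ded_21_2 L123057 (flp_g L111505) L161228
theorem L161236 : sm gb N20487 = N17108 := ded_13_1 L123223 (flp_b L98535) (flp_c L150144) L111499 L161228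
theorem L161238 : sm gd N15165 = N20488 := rfl
theorem L161240 : sm gd N15178 = N20489 := rfl
theorem L161242 : sm ga N20489 = N18634 := ded_9_1 L143703 L111615 L161240
theorem L161244 : sm gb N20489 = N15179 := ded_14_1 (flp_d L111575) L111571 L161240
theorem L161246 : sm gc N20489 = N18331 := ded_32_24 (flp_b L129737) (flp_e L129396) (flp_d L129400) (flp_c L155060) L155056 L120544 L118216 L129357 (flp_c L129348) L102343 L102361 L102365 L102385 (flp_c L104335) (flp_d L104329) (flp_c L89282) (flp_b L38776) L18441 L69451 (flp_d L17658) L36859 (flp_b L88416) L102655 (flp_c L116893) (flp_d L116889) L96046 (flp_b L84685) L25024 L26773 L85435 (flp_d L85439) (flp_c L46509) L22375 (flp_d L10815) (flp_c L5418) L2805 L2815 L2819 L2906 L5623 (flp_d L11318) (flp_c L11314) L58111 (flp_d L5619) (flp_c L2900) L1470 L2900 L58101 L5619 L11314 L11318 (flp_c L5623) (flp_b L5454) L10902 L10906 (flp_c L69595) (flp_d L21321) (flp_c L44424) (flp_b L92164) L119276 (flp_c L89616) (flp_d L88128) (flp_c L119035) L91716 (flp_d L46413) (flp_c L22327) L10751 L12832 L12836 L26711 L85264 L97266 (flp_c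 L97272) (flp_b L111611) (flp_d L111609) (flp_c L111573) L161240
theorem L161248 : sm gc N18634 = N16010 := ded_8_2 L129741 (flp_c L161246) L161242
theorem L161250 : N16009 = N18983 := coi_19_0 L145715 L161248 (flp_e L115615) L115613
theorem L161251 : N18983 = N16009 := (eqc rfl L161250 rfl).symm
theorem L161252 : sm gb N16009 = N13796 := trfs L161251 (flp_b L145713) rfl
theorem L161254 : sm ge N16009 = N18634 := trfs L161251 L145715 rfl
theorem L161256 : sm gg N15178 = N20490 := rfl
theorem L161258 : sm gc N20490 = N15187 := ded_21_1 (flp_g L111621) (flp_c L111573) L161256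
theorem L161260 : sm gf N20490 = N15187 := ded_29_2 (flp_g L111621) L111605 L111607 L161256
theorem L161262 : sm ge N15179 = N20491 := rfl
theorem L161264 : sm ga N20491 = N18400 := ded_10_1 L130174 L120463 L161262
theorem L161266 : sm gc N20491 = N18294 := ded_19_1 L129390 L118974 L161262
theorem L161268 : sm gg N15179 = N20492 := rfl
theorem L161270 : sm ga N20492 = N18562 := ded_12_1 (flp_g L143301) L120463 L161268
theorem L161272 : sm gc N20492 = N18330 := ded_21_1 (flp_g L129731) L118974 L161268
theorem L161274 : sm gd N20492 = N15181 := ded_24_1 (flp_g L111583) L111575 L161268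
theorem L161276 : sm gf N20492 = N20079 := ded_29_2 (flp_g L158565) (flp_a L158525) L158527 L161268
theorem L161278 : sm gg N15180 = N20493 := rfl
theorem L161280 : sm gc N20493 = N15182 := ded_21_1 (flp_g L111587) (flp_c L111581) L161278
theorem L161282 : sm gf N16979 = N20493 := ded_29_0 (flp_g L161278) (flp_f L111579) L111583 (flp_a L122639)
theorem L161284 : sm gb N15181 = N20494 := rfl
theorem L161286 : sm gf N15181 = N20495 := rfl
theorem L161288 : sm ga N20495 = N20493 := ded_11_1 (flp_f L161282) L122639 L161286
theorem L161290 : sm gc N20495 = N15183 := ded_20_1 (flp_f L111595) (flp_c L111585) L161286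
theorem L161292 : sm gd N20495 = N20079 := ded_23_1 (flp_f L161276) L161274 L161286
theorem L161294 : sm gg N20495 = N16592 := ded_29_3 L120720 (flp_f L111579) L111583 L161286
theorem L161296 : sm gd N15184 = N20496 := rfl
theorem L161298 : sm ga N20496 = N15185 := ded_9_1 (flp_d L111609) L111605 L161296
theorem L161300 : sm gf N20496 = N20489 := ded_23_2 (flp_d L161240) (flp_f L111607) L161296
theorem L161302 : sm gg N15184 = N20497 := rfl
theorem L161304 : sm ga N20497 = N15187 := ded_12_1 (flp_g L111621) L111605 L161302
theorem L161306 : sm gb N20497 = N16926 := ded_17_1 L122382 (flp_b L122836) L122828 L121653 L161302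
theorem L161308 : sm gc N15185 = N20498 := rfl
theorem L161310 : sm gf N20498 = N16010 := ded_20_2 (flp_c L161248) L143705 L161308
theorem L161312 : sm gd N16594 = N20498 := ded_28_1 (flp_c L161308) (flp_d L111609) (flp_c L111573) L161240 L161246 (flp_d L129743) L120864 (flp_c L120740)
theorem L161314 : sm ge N15959 = N20498 := ded_25_3 L161310 (flp_e L115615) (flp_f L115359)
theorem L161316 : sm ge N15185 = N20499 := rfl
theorem L161318 : sm gb N20499 = N15188 := ded_15_1 (flp_e L111623) (flp_b L111611) L161316
theorem L161320 : sm gc N20499 = N15959 := ded_19_1 L161314 (flp_c L161308) L161316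
theorem L161322 : sm gf N20499 = N16009 := ded_25_2 L161254 L143705 L161316
theorem L161324 : sm gg N15185 = N20500 := rfl
theorem L161326 : sm gd N20500 = N15187 := ded_24_1 (flp_g L111621) L111609 L161324
theorem L161328 : sm gg N15186 = N20501 := rfl
theorem L161330 : sm ga N20501 = N20490 := ded_12_1 (flp_g L161256) (flp_a L111615) L161328
theorem L161332 : sm gc N20501 = N20497 := ded_21_1 (flp_g L161302) (flp_c L111617) L161328
theorem L161334 : sm gf N20497 = N20501 := ded_29_0 (flp_g L161328) (flp_f L111613) L111621 (flp_a L161304)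
theorem L161336 : sm gg N15190 = N20502 := rfl
theorem L161338 : sm gc N20502 = N15192 := ded_21_1 (flp_g L111645) (flp_c L111633) L161336
theorem L161340 : sm ge N20502 = N15191 := ded_26_1 (flp_g L111637) L111631 L161336
theorem L161342 : sm gf N16835 = N20502 := ded_29_0 (flp_g L161336) L111635 L111986 (flp_a L121946)
theorem L161344 : sm gb N15192 = N20503 := rfl
theorem L161346 : sm ge N20503 = N15193 := ded_15_2 (flp_b L111649) (flp_e L111647) L161344
theorem L161348 : sm ga N15193 = N20504 := rfl
theorem L161350 : sm gd N20504 = N15194 := ded_9_2 (flp_a L111653) (flp_d L111651) L161348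
theorem L161352 : sm gc N15193 = N20505 := rfl
theorem L161354 : sm gf N15193 = N20506 := rfl
theorem L161356 : sm gd N20506 = N15196 := ded_23_1 (flp_f L111659) (flp_d L111651) L161354
theorem L161358 : sm gb N15194 = N20507 := rfl
theorem L161360 : sm gc N15194 = N20508 := rfl
theorem L161362 : sm ga N20508 = N15195 := ded_8_1 (flp_c L111655) L111653 L161360
theorem L161364 : sm gf N15194 = N20509 := rfl
theorem L161366 : sm ga N20509 = N15196 := ded_11_1 (flp_f L111659) L111653 L161364
theorem L161368 : sm gg N19850 = N20509 := ded_29_1 (flp_f L161364) (flp_g L157187) (flp_a L157185) L157195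
theorem L161370 : sm gg N20507 = N17049 := ded_31_3 (flp_f L123802) (flp_b L103435) (flp_g L88781) L37277 (flp_b L39625) L89712 L105109 L152048 L152052 L157847 L157849 L161368 (flp_f L161364) L161358
theorem L161372 : sm gc N17051 = N20507 := ded_21_3 L161370 (flp_c L122967) L122973
theorem L161374 : sm gd N18642 = N20507 := ded_24_3 L161370 L123804 L143755
theorem L161376 : sm gb N20504 = N18642 := ded_14_3 L161374 (flp_b L161358) (flp_d L161350)
theorem L161378 : sm gd N15195 = N20510 := rfl
theorem L161380 : sm gb N20510 = N15199 := ded_14_1 (flp_d L111675) (flp_b L111657) L161378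
theorem L161382 : sm gf N15195 = N20511 := rfl
theorem L161384 : sm gc N20511 = N15196 := ded_20_1 (flp_f L111659) L111655 L161382
theorem L161386 : sm gb N19619 = N20511 := ded_13_5 L161384 (flp_b L111932) L155492 (flp_b L155470) L155472
theorem L161388 : sm gg N15196 = N20512 := rfl
theorem L161390 : sm ga N20512 = N19850 := ded_12_1 L161368 L161366 L161388
theorem L161392 : sm gf N19848 = N20512 := ded_29_0 (flp_g L161388) (flp_f L111659) (flp_g L108611) L157185
theorem L161394 : sm gc N15197 = N20513 := rfl
theorem L161396 : sm ga N20513 = N16609 := ded_8_1 (flp_c L120806) (flp_a L111667) L161394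
theorem L161398 : sm gf N20513 = N16610 := ded_20_2 (flp_c L120810) (flp_f L111665) L161394
theorem L161400 : sm gg N20513 = N17278 := ded_21_2 L124055 L120828 L161394
theorem L161402 : sm gb N15198 = N20514 := rfl
theorem L161404 : sm gd N15198 = N20515 := rfl
theorem L161406 : sm ga N20515 = N15199 := ded_9_1 (flp_d L111675) (flp_a L111671) L161404
theorem L161408 : sm gg N20515 = N15203 := ded_24_2 (flp_d L111689) (flp_g L111673) L161404
theorem L161410 : sm gc N15199 = N20516 := rfl
theorem L161412 : sm gg N20516 = N15205 := ded_21_2 (flp_c L111701) (flp_g L111677) L161410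
theorem L161414 : sm ge N15199 = N20517 := rfl
theorem L161416 : sm gg N20517 = N15206 := ded_26_2 (flp_e L111703) (flp_g L111677) L161414
theorem L161418 : sm gf N15199 = N20518 := rfl
theorem L161420 : sm gd N20518 = N15200 := ded_23_1 (flp_f L111679) L111675 L161418
theorem L161422 : sm gb N15200 = N20519 := rfl
theorem L161424 : sm gc N20519 = N19615 := ded_13_2 (flp_b L155494) L111962 L93478 (flp_c L111681) L161422
theorem L161426 : sm gf N20519 = N19619 := ded_16_2 L161386 (flp_f L161382) L111657 L111679 L161422
theorem L161428 : sm ga N20519 = N19616 := ded_30_3 L155465 (flp_c L107597) (flp_b L91199) L42938 (flp_f L42930) (flp_c L90936) L107147 L120696 L120665 L120714 L120716 (flp_a L120812) (flp_f L161398) (flp_c L161394) (flp_b L111661) (flp_a L93263) L93273 (flp_c L111681) L161422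
theorem L161430 : sm gb N15201 = N20520 := rfl
theorem L161432 : sm gc N20520 = N15202 := ded_13_2 (flp_b L111687) (flp_c L93281) L93277 L111683 L161430
theorem L161434 : sm gd N15201 = N20521 := rfl
theorem L161436 : sm gf N20521 = N17023 := ded_23_2 L122850 (flp_f L111685) L161434
theorem L161438 : sm gc N20521 = N19904 := ded_28_6 (flp_d L157533) (flp_a L157517) (flp_c L157515) L151195 (flp_c L97323) (flp_d L93279) L111683 L161434
theorem L161440 : sm ga N15202 = N20522 := rfl
theorem L161442 : sm gd N15202 = N20523 := rfl
theorem L161444 : sm gb N20523 = N15203 := ded_14_1 (flp_d L111689) L111687 L161442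
theorem L161446 : sm gf N15202 = N20524 := rfl
theorem L161448 : sm gg N15202 = N20525 := rfl
theorem L161450 : sm ge N15203 = N20526 := rfl
theorem L161452 : sm ga N20526 = N15206 := ded_10_1 (flp_e L111703) (flp_a L111691) L161450
theorem L161454 : sm gf N15203 = N20527 := rfl
theorem L161456 : sm ga N20527 = N15207 := ded_11_1 (flp_f L111705) (flp_a L111691) L161454
theorem L161458 : sm gd N20527 = N15204 := ded_23_1 (flp_f L111693) L111689 L161454
theorem L161460 : sm gg N20518 = N20527 := ded_29_1 (flp_f L161454) (flp_g L161408) L161406 L161418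
theorem L161462 : sm gb N15204 = N20528 := rfl
theorem L161464 : sm gc N20528 = N16768 := ded_13_2 (flp_b L121593) L97514 L93293 (flp_c L111697) L161462
theorem L161466 : sm gb N15205 = N20529 := rfl
theorem L161468 : sm ge N15205 = N20530 := rfl
theorem L161470 : sm gc N20530 = N15206 := ded_19_1 (flp_e L111703) L111701 L161468
theorem L161472 : sm gf N15205 = N20531 := rfl
theorem L161474 : sm gc N20531 = N15207 := ded_20_1 (flp_f L111705) L111701 L161472
theorem L161476 : sm gf N15206 = N20532 := rfl
theorem L161478 : sm ge N20532 = N15207 := ded_25_1 (flp_f L111705) L111703 L161476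
theorem L161480 : sm gg N15207 = N20533 := rfl
theorem L161482 : sm ga N20533 = N20518 := ded_12_1 L161460 L161456 L161480
theorem L161484 : sm gd N20533 = N15209 := ded_24_1 (flp_g L111713) (flp_d L111707) L161480
theorem L161486 : sm gf N20515 = N20533 := ded_29_0 (flp_g L161480) (flp_f L111705) (flp_g L111677) (flp_a L161406)
theorem L161488 : sm gb N15209 = N20534 := rfl
theorem L161490 : sm ga N20534 = N20534 := ded_7_1 (flp_b L161488) L111715 L161422 L161428 L155467 (flp_a L161428) (flp_b L161422) (flp_a L111715) L161488
theorem L161491 : sm gd N15211 = N20535 := rfl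
theorem L161493 : sm ga N20535 = N18643 := ded_9_1 (flp_d L150974) L150926 L161491
theorem L161495 : sm gb N20535 = N15212 := ded_14_1 (flp_d L111729) L111725 L161491
theorem L161497 : sm gc N20535 = N18343 := ded_32_24 (flp_b L129807) (flp_e L129446) L151089 (flp_c L155114) L155110 L118390 L118389 L151119 (flp_c L129373) L102351 L102375 L102379 L102389 (flp_c L104440) (flp_d L104434) (flp_c L89346) (flp_b L38842) L18463 L78637 (flp_d L17674) L36885 (flp_b L88434) L102713 (flp_c L117531) (flp_d L117527) L96331 (flp_b L84807) L25082 L26857 L85636 (flp_d L85640) (flp_c L46569) L22407 (flp_d L10845) (flp_c L5428) L2809 L2829 L2833 L2940 L5663 (flp_d L11400) (flp_c L11396) L77994 (flp_d L5659) (flp_c L2934) L1484 L2934 L82102 L5659 L11396 L11400 (flp_c L5663) (flp_b L5490) L10974 L10978 (flp_c L82587) (flp_d L21414) (flp_c L44585) (flp_b L92237) (flp_d L147349) (flp_c L89622) (flp_d L88132) (flp_c L147561) L91748 (flp_d L46449) (flp_c L22345) L10763 L12845 L12849 L26741 L85333 L97437 (flp_c L97443) (flp_b L111761) (flp_d L111759) (flp_c L111727) L161491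
theorem L161499 : sm gc N18643 = N16023 := ded_8_2 (flp_a L151358) (flp_c L161497) L161493
theorem L161501 : N16022 = N18998 := coi_19_0 L145803 L161499 (flp_e L115689) L115687
theorem L161502 : N18998 = N16022 := (eqc rfl L161501 rfl).symm
theorem L161503 : sm gb N16022 = N13810 := trfs L161502 (flp_b L145801) rfl
theorem L161505 : sm ge N16022 = N18643 := trfs L161502 L145803 rfl
theorem L161507 : sm gf N15211 = N20536 := rfl
theorem L161509 : sm gc N20536 = N15219 := ded_20_1 (flp_f L111763) (flp_c L111727) L161507
theorem L161511 : sm gg N15219 = N20536 := ded_29_1 (flp_f L161507) L151187 (flp_a L111757) L111763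
theorem L161513 : sm ge N15212 = N20537 := rfl
theorem L161515 : sm ga N20537 = N18421 := ded_10_1 L130294 (flp_a L150930) L161513
theorem L161517 : sm gc N20537 = N18300 := ded_19_1 L129440 (flp_c L150932) L161513
theorem L161519 : sm gf N15212 = N20538 := rfl
theorem L161521 : sm ga N20538 = N18600 := ded_11_1 (flp_f L143519) (flp_a L150930) L161519
theorem L161523 : sm gc N20538 = N18341 := ded_20_1 (flp_f L129803) (flp_c L150932) L161519
theorem L161525 : sm gd N20538 = N15213 := ded_23_1 (flp_f L111731) L111729 L161519
theorem L161527 : sm gg N20096 = N20538 := ded_29_1 (flp_f L161519) (flp_g L158654) L158652 L158692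
theorem L161529 : sm gb N15213 = N20539 := rfl
theorem L161531 : sm gg N15213 = N20540 := rfl
theorem L161533 : sm gc N20540 = N15215 := ded_21_1 (flp_g L111739) (flp_c L111733) L161531
theorem L161535 : sm gd N20540 = N20096 := ded_24_1 L161527 L161525 L161531
theorem L161537 : sm gf N16602 = N20540 := ded_29_0 (flp_g L161531) (flp_f L111731) L111735 (flp_a L120780)
theorem L161539 : sm gf N15214 = N20541 := rfl
theorem L161541 : sm ga N20541 = N20540 := ded_11_1 (flp_f L161537) L120780 L161539
theorem L161543 : sm gc N20541 = N15216 := ded_20_1 (flp_f L111747) (flp_c L111737) L161539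
theorem L161545 : sm gg N20541 = N16791 := ded_29_3 L121711 (flp_f L111731) L111735 L161539
theorem L161547 : sm gd N15217 = N20542 := rfl
theorem L161549 : sm ga N20542 = N15218 := ded_9_1 (flp_d L111759) L111757 L161547
theorem L161551 : sm gg N20542 = N20535 := ded_24_2 (flp_d L161491) L151187 L161547
theorem L161553 : sm gf N15217 = N20543 := rfl
theorem L161555 : sm ga N20543 = N15219 := ded_11_1 (flp_f L111763) L111757 L161553
theorem L161557 : sm gb N20543 = N17119 := ded_16_1 (flp_f L123267) (flp_b L151832) (flp_f L122526) L151297 L161553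
theorem L161559 : sm gc N15218 = N20544 := rfl
theorem L161561 : sm gg N20544 = N16023 := ded_21_2 (flp_c L161499) (flp_g L150976) L161559
theorem L161563 : sm gd N16606 = N20544 := ded_28_1 (flp_c L161559) (flp_d L111759) (flp_c L111727) L161491 L161497 (flp_d L151268) L120983 (flp_c L150207)
theorem L161565 : sm ge N15967 = N20544 := ded_26_3 L161561 (flp_e L115689) (flp_g L115409)
theorem L161567 : sm ge N15218 = N20545 := rfl
theorem L161569 : sm gb N20545 = N15221 := ded_15_1 (flp_e L111769) (flp_b L111761) L161567
theorem L161571 : sm gc N20545 = N15967 := ded_19_1 L161565 (flp_c L161559) L161567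
theorem L161573 : sm gg N20545 = N16022 := ded_26_2 L161505 (flp_g L150976) L161567
theorem L161575 : sm gf N15218 = N20546 := rfl
theorem L161577 : sm gd N20546 = N15219 := ded_23_1 (flp_f L111763) L111759 L161575
theorem L161579 : sm gf N15220 = N20547 := rfl
theorem L161581 : sm ga N20547 = N20536 := ded_11_1 (flp_f L161507) (flp_a L150926) L161579
theorem L161583 : sm gc N20547 = N20543 := ded_20_1 (flp_f L161553) L151185 L161579
theorem L161585 : sm gg N20547 = N20543 := ded_29_3 L161555 (flp_f L111763) L111765 L161579
theorem L161587 : sm gf N15223 = N20548 := rfl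
theorem L161589 : sm gc N20548 = N15225 := ded_20_1 (flp_f L111791) (flp_c L111779) L161587
theorem L161591 : sm ge N20548 = N15224 := ded_25_1 (flp_f L111783) L111777 L161587
theorem L161593 : sm gg N20548 = N17026 := ded_29_3 L122865 (flp_f L112216) (flp_g L111781) L161587
theorem L161595 : sm gb N15225 = N20549 := rfl
theorem L161597 : sm ge N20549 = N15226 := ded_15_2 (flp_b L111795) (flp_e L111793) L161595
theorem L161599 : sm ga N15226 = N20550 := rfl
theorem L161601 : sm gd N20550 = N15227 := ded_9_2 (flp_a L111799) (flp_d L111797) L161599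
theorem L161603 : sm gc N15226 = N20551 := rfl
theorem L161605 : sm gg N15226 = N20552 := rfl
theorem L161607 : sm gd N20552 = N15229 := ded_24_1 (flp_g L111805) (flp_d L111797) L161605
theorem L161609 : sm gb N15227 = N20553 := rfl
theorem L161611 : sm gc N15227 = N20554 := rfl
theorem L161613 : sm ga N20554 = N15228 := ded_8_1 (flp_c L111801) L111799 L161611
theorem L161615 : sm gg N15227 = N20555 := rfl
theorem L161617 : sm ga N20555 = N15229 := ded_12_1 (flp_g L111805) L111799 L161615
theorem L161619 : sm gf N20555 = N19872 := ded_29_2 (flp_g L157305) L157295 L157297 L161615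
theorem L161621 : sm gf N16854 = N20553 := ded_31_13 (flp_b L161609) L161615 L161619 (flp_b L158155) (flp_g L158153) (flp_f L152490) (flp_b L152486) (flp_g L105302) (flp_f L89797) L39665 (flp_g L37313) L88810 L103496 (flp_g L151335)
theorem L161623 : sm gc N20553 = N16855 := ded_20_1 (flp_f L122074) L122072 L161621
theorem L161625 : sm gd N20553 = N18663 := ded_23_1 (flp_f L143865) (flp_d L151333) L161621
theorem L161627 : sm gb N18663 = N20550 := ded_14_1 L161601 L161609 L161625
theorem L161629 : sm gd N15228 = N20556 := rfl
theorem L161631 : sm gb N20556 = N15232 := ded_14_1 (flp_d L111821) (flp_b L111803) L161629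
theorem L161633 : sm gg N15228 = N20557 := rfl
theorem L161635 : sm gc N20557 = N15229 := ded_21_1 (flp_g L111805) L111801 L161633
theorem L161637 : sm gb N19610 = N20557 := ded_13_5 L161635 (flp_b L112168) (flp_c L155443) (flp_b L155425) L155427
theorem L161639 : sm gf N15229 = N20558 := rfl
theorem L161641 : sm ga N20558 = N19872 := ded_11_1 (flp_f L161619) L161617 L161639
theorem L161643 : sm gg N20558 = N19870 := ded_29_3 (flp_a L157295) L108683 L111805 L161639
theorem L161645 : sm gc N15230 = N20559 := rfl
theorem L161647 : sm ga N20559 = N16597 := ded_8_1 (flp_c L120752) (flp_a L111813) L161645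
theorem L161649 : sm gf N20559 = N17187 := ded_20_2 (flp_c L151820) (flp_f L120774) L161645
theorem L161651 : sm gg N20559 = N16598 := ded_21_2 (flp_c L120756) (flp_g L111811) L161645
theorem L161653 : sm gb N15231 = N20560 := rfl
theorem L161655 : sm gd N15231 = N20561 := rfl
theorem L161657 : sm ga N20561 = N15232 := ded_9_1 (flp_d L111821) (flp_a L111817) L161655
theorem L161659 : sm gf N20561 = N15236 := ded_23_2 (flp_d L111835) (flp_f L111819) L161655
theorem L161661 : sm gc N15232 = N20562 := rfl
theorem L161663 : sm gf N20562 = N15238 := ded_20_2 (flp_c L111847) (flp_f L111823) L161661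
theorem L161665 : sm ge N15232 = N20563 := rfl
theorem L161667 : sm gf N20563 = N15239 := ded_25_2 (flp_e L111849) (flp_f L111823) L161665
theorem L161669 : sm gg N15232 = N20564 := rfl
theorem L161671 : sm gd N20564 = N15233 := ded_24_1 (flp_g L111825) L111821 L161669
theorem L161673 : sm gb N15233 = N20565 := rfl
theorem L161675 : sm gc N20565 = N19606 := ded_13_2 L155445 L112192 L93617 (flp_c L111827) L161673
theorem L161677 : sm gg N20565 = N19610 := ded_17_2 L161637 (flp_g L161633) L111803 L111825 L161673
theorem L161679 : sm ga N19607 = N20565 := ded_8_3 L161675 (flp_a L155414) L155418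
theorem L161681 : sm gb N15234 = N20566 := rfl
theorem L161683 : sm gc N20566 = N15235 := ded_13_2 (flp_b L111833) (flp_c L93367) L93363 L111829 L161681
theorem L161685 : sm gd N15234 = N20567 := rfl
theorem L161687 : sm gg N20567 = N16832 := ded_24_2 L121931 (flp_g L111831) L161685
theorem L161689 : sm gc N20567 = N19895 := ded_28_6 (flp_d L157451) (flp_a L157435) (flp_c L157433) L151315 (flp_c L97496) (flp_d L93365) L111829 L161685
theorem L161691 : sm ga N15235 = N20568 := rfl
theorem L161693 : sm gd N15235 = N20569 := rfl
theorem L161695 : sm gb N20569 = N15236 := ded_14_1 (flp_d L111835) L111833 L161693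
theorem L161697 : sm gf N15235 = N20570 := rfl
theorem L161699 : sm gg N15235 = N20571 := rfl
theorem L161701 : sm ge N15236 = N20572 := rfl
theorem L161703 : sm ga N20572 = N15239 := ded_10_1 (flp_e L111849) (flp_a L111837) L161701
theorem L161705 : sm gg N15236 = N20573 := rfl
theorem L161707 : sm ga N20573 = N15240 := ded_12_1 (flp_g L111851) (flp_a L111837) L161705
theorem L161709 : sm gd N20573 = N15237 := ded_24_1 (flp_g L111839) L111835 L161705
theorem L161711 : sm gf N20573 = N20564 := ded_29_2 (flp_g L161669) (flp_a L161657) L161659 L161705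
theorem L161713 : sm gb N15237 = N20574 := rfl
theorem L161715 : sm gc N20574 = N16692 := ded_13_2 (flp_b L121262) L97341 L93379 (flp_c L111843) L161713
theorem L161717 : sm gb N15238 = N20575 := rfl
theorem L161719 : sm ge N15238 = N20576 := rfl
theorem L161721 : sm gc N20576 = N15239 := ded_19_1 (flp_e L111849) L111847 L161719
theorem L161723 : sm gg N15238 = N20577 := rfl
theorem L161725 : sm gc N20577 = N15240 := ded_21_1 (flp_g L111851) L111847 L161723
theorem L161727 : sm gg N15239 = N20578 := rfl
theorem L161729 : sm ge N20578 = N15240 := ded_26_1 (flp_g L111851) L111849 L161727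
theorem L161731 : sm gf N15240 = N20579 := rfl
theorem L161733 : sm ga N20579 = N20564 := ded_11_1 (flp_f L161711) L161707 L161731
theorem L161735 : sm gd N20579 = N15241 := ded_23_1 (flp_f L111855) (flp_d L111853) L161731
theorem L161737 : sm gg N20579 = N20561 := ded_29_3 L161657 L111823 L111851 L161731
theorem L161739 : sm gb N15241 = N20580 := rfl
theorem L161741 : sm ga N20580 = N20580 := ded_7_1 (flp_b L161739) L111857 L161673 (flp_a L161679) L155422 L161679 (flp_b L161673) (flp_a L111857) L161739
theorem L161742 : sm gb N15247 = N20581 := rfl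
theorem L161744 : sm gd N20581 = N15248 := ded_14_2 (flp_b L111908) (flp_d L111906) L161742
theorem L161746 : sm gg N20581 = N15250 := ded_17_2 (flp_b L111920) (flp_g L93458) (flp_b L93439) L111901 L161742
theorem L161748 : sm ga N19955 = N20581 := ded_9_3 L161744 L155504 L157859
theorem L161750 : sm gf N15248 = N20582 := rfl
theorem L161752 : sm ga N20582 = N19956 := ded_11_1 (flp_f L157861) (flp_a L155504) L161750
theorem L161754 : sm gc N20582 = N19954 := ded_20_1 (flp_f L157851) L155496 L161750
theorem L161756 : sm gb N15249 = N20583 := rfl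
theorem L161758 : sm ge N20583 = N15250 := ded_15_2 (flp_b L111920) (flp_e L111916) L161756
theorem L161760 : sm ga N15250 = N20584 := rfl
theorem L161762 : sm gd N20584 = N15251 := ded_9_2 (flp_a L111924) (flp_d L111922) L161760
theorem L161764 : sm gg N20584 = N19955 := ded_12_2 L161748 L161746 L161760
theorem L161766 : sm gc N15250 = N20585 := rfl
theorem L161768 : sm gf N15250 = N20586 := rfl
theorem L161770 : sm gd N20586 = N15253 := ded_23_1 (flp_f L111930) (flp_d L111922) L161768
theorem L161772 : sm gb N20586 = N20506 := ded_16_1 (flp_f L161354) (flp_b L111649) (flp_f L93464) L111920 L161768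
theorem L161774 : sm gb N15251 = N20587 := rfl
theorem L161776 : sm gc N20587 = N19946 := ded_13_2 (flp_b L157807) L109171 L109177 (flp_c L155500) L161774
theorem L161778 : sm gf N15251 = N20588 := rfl
theorem L161780 : sm ga N20588 = N15253 := ded_11_1 (flp_f L111930) L111924 L161778
theorem L161782 : sm gc N20588 = N19947 := ded_20_1 (flp_f L157813) (flp_c L155500) L161778
theorem L161784 : sm gg N20588 = N20582 := ded_29_3 L161752 (flp_f L157861) L155506 L161778
theorem L161786 : sm gd N15252 = N20589 := rfl
theorem L161788 : sm ga N20589 = N19402 := ded_9_1 L153930 L155490 L161786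
theorem L161790 : sm gb N20589 = N15257 := ded_14_1 (flp_d L111958) (flp_b L111928) L161786
theorem L161792 : sm gg N20589 = N19906 := ded_24_2 L157545 (flp_g L155488) L161786
theorem L161794 : sm ge N20589 = N15803 := ded_22_2 (flp_d L157393) (flp_e L156525) L160176 L160170 L161786
theorem L161796 : sm gc N15792 = N20589 := ded_8_0 L161788 (flp_c L153936) L154524
theorem L161798 : sm gc N15254 = N20590 := rfl
theorem L161800 : sm ga N20590 = N16553 := ded_8_1 L118782 (flp_a L111938) L161798
theorem L161802 : sm gf N20590 = N16551 := ded_20_2 (flp_c L118772) L111940 L161798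
theorem L161804 : sm gg N20590 = N20480 := ded_21_2 L161190 L111942 L161798
theorem L161806 : sm gb N20590 = N20037 := ded_13_1 L158319 (flp_b L155502) (flp_c L111944) L111934 L161798
theorem L161808 : sm gc N15257 = N20591 := rfl
theorem L161810 : sm ge N20591 = N15806 := ded_19_2 L157397 (flp_e L151437) L161808
theorem L161812 : sm gg N20591 = N19896 := ded_21_2 L157455 L151375 L161808
theorem L161814 : sm gb N20591 = N15793 := ded_13_1 (flp_c L114518) L114514 L161796 L161790 L161808
theorem L161816 : sm gb N15259 = N20592 := rfl
theorem L161818 : sm gd N20592 = N16568 := ded_14_2 (flp_b L118870) (flp_d L119214) L161816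
theorem L161820 : sm ge N20592 = N15938 := ded_15_2 (flp_b L115234) (flp_e L119216) L161816
theorem L161822 : sm gf N20592 = N20592 := ded_16_2 (flp_b L161816) L119218 L95257 (flp_f L119218) L161816
theorem L161823 : sm gg N20592 = N16667 := ded_17_2 L121150 (flp_g L112002) (flp_b L148301) L148307 L161816
theorem L161825 : sm ga N20592 = N20592 := ded_7_1 (flp_b L161816) (flp_a L111966) (flp_b L93482) (flp_a L85465) L85467 L85465 L93482 L111966 L161816
theorem L161826 : sm gc N15263 = N20593 := rfl
theorem L161828 : sm ga N20593 = N20377 := ded_8_1 (flp_c L160588) L121939 L161826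
theorem L161830 : sm ge N20593 = N16543 := ded_19_2 (flp_c L118740) (flp_e L119733) L161826
theorem L161832 : sm gf N20593 = N19110 := ded_20_2 L154784 L154782 L161826
theorem L161834 : sm gb N20593 = N15931 := ded_13_1 (flp_c L115192) (flp_b L95245) (flp_c L95233) (flp_b L119731) L161826
theorem L161836 : sm gg N15263 = N20594 := rfl
theorem L161838 : sm gd N20594 = N15264 := ded_24_1 (flp_g L111986) L111984 L161836
theorem L161840 : sm ge N20594 = N16544 := ded_26_1 (flp_g L118744) (flp_e L119733) L161836
theorem L161842 : sm gf N15944 = N20594 := ded_25_0 L161840 (flp_f L118756) (flp_e L115279)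
theorem L161844 : sm gf N15264 = N20595 := rfl
theorem L161846 : sm ga N20595 = N20502 := ded_11_1 (flp_f L161342) L121946 L161844
theorem L161848 : sm gc N20595 = N15268 := ded_20_1 (flp_f L112010) (flp_c L111988) L161844
theorem L161850 : sm gd N20595 = N15944 := ded_23_1 L161842 L161838 L161844
theorem L161852 : sm ge N20595 = N15266 := ded_25_1 (flp_f L111994) (flp_e L111990) L161844
theorem L161854 : sm gg N20595 = N16668 := ded_29_3 L121155 L111635 L111986 L161844
theorem L161856 : sm gb N20595 = N15939 := ded_16_1 (flp_f L148289) L112202 L112216 L149075 L161844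
theorem L161858 : sm ga N15267 = N20596 := rfl
theorem L161860 : sm ge N20596 = N15269 := ded_10_2 (flp_a L112018) (flp_e L112006) L161858
theorem L161862 : sm gg N20596 = N15363 := ded_12_2 (flp_a L112488) (flp_g L112008) L161858
theorem L161864 : sm gb N15268 = N20597 := rfl
theorem L161866 : sm ge N20597 = N15272 := ded_15_2 (flp_b L112032) (flp_e L112014) L161864
theorem L161868 : sm gc N20597 = N18362 := ded_13_2 (flp_b L129912) (flp_c L115242) (flp_b L161856) L161848 L161864
theorem L161870 : sm gb N15269 = N20598 := rfl
theorem L161872 : sm gd N20598 = N15273 := ded_14_2 (flp_b L112036) (flp_d L112020) L161870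
theorem L161874 : sm gc N19118 = N20598 := ded_30_1 (flp_b L161870) (flp_a L112018) (flp_f L149091) (flp_c L93889) (flp_b L46821) (flp_a L46789) (flp_f L46787) L22830 (flp_b L47378) (flp_a L94261) L113396 L113400 L113450 L149628 (flp_f L143327) L143325 (flp_b L151922) (flp_a L151914) L151932
theorem L161876 : sm gf N20598 = N19117 := ded_20_2 (flp_c L151926) L151932 L161874
theorem L161878 : sm ga N15272 = N20599 := rfl
theorem L161880 : sm gd N20599 = N15275 := ded_9_2 (flp_a L112042) (flp_d L112034) L161878
theorem L161882 : sm gg N15272 = N20600 := rfl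
theorem L161884 : sm gd N20600 = N15277 := ded_24_1 (flp_g L112048) (flp_d L112034) L161882
theorem L161886 : sm gb N20600 = N20500 := ded_17_1 (flp_g L161324) L111611 (flp_g L93510) L112032 L161882
theorem L161888 : sm ga N15273 = N20601 := rfl
theorem L161890 : sm gf N15273 = N20602 := rfl
theorem L161892 : sm gd N20602 = N19117 := ded_23_1 (flp_f L161876) L161872 L161890
theorem L161894 : sm gg N19133 = N20602 := ded_24_0 L161892 L151930 L152012
theorem L161896 : sm ga N15274 = N20603 := rfl
theorem L161898 : sm gf N20603 = N15275 := ded_11_2 (flp_a L112042) (flp_f L112040) L161896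
theorem L161900 : sm gb N16598 = N20603 := ded_30_2 (flp_a L161896) L112040 L112044 L112046 (flp_a L112054) (flp_f L123367) (flp_c L123363) L111745 (flp_a L111749) (flp_f L111747) (flp_c L111737) (flp_b L118776) L118774 L118780 L118782 (flp_b L97074) (flp_a L98487) (flp_f L98483) L120756
theorem L161902 : sm gc N15274 = N20604 := rfl
theorem L161904 : sm gf N20604 = N15276 := ded_20_2 (flp_c L112044) (flp_f L112040) L161902
theorem L161906 : sm gg N15274 = N20605 := rfl
theorem L161908 : sm gd N20605 = N19140 := ded_24_1 L152056 L149792 L161906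
theorem L161910 : sm gb N20605 = N19137 := ded_17_1 L152038 L120577 (flp_g L93785) L112038 L161906
theorem L161912 : sm gb N15275 = N20606 := rfl
theorem L161914 : sm gf N20606 = N17125 := ded_16_2 L123295 (flp_f L120760) L161900 L161898 L161912
theorem L161916 : sm gc N17126 = N20606 := ded_20_3 L161914 (flp_c L123293) L123297
theorem L161918 : sm gc N15275 = N20607 := rfl
theorem L161920 : sm ga N20607 = N15276 := ded_8_1 (flp_c L112044) L112042 L161918
theorem L161922 : sm gg N15275 = N20608 := rfl
theorem L161924 : sm ga N20608 = N15277 := ded_12_1 (flp_g L112048) L112042 L161922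
theorem L161926 : sm gf N20608 = N20605 := ded_29_2 (flp_g L161906) L161896 L161898 L161922
theorem L161928 : sm gd N15276 = N20609 := rfl
theorem L161930 : sm gb N20609 = N15279 := ded_14_1 (flp_d L112056) (flp_b L112046) L161928
theorem L161932 : sm gg N15276 = N20610 := rfl
theorem L161934 : sm gc N20610 = N15277 := ded_21_1 (flp_g L112048) L112044 L161932
theorem L161936 : sm gf N15277 = N20611 := rfl
theorem L161938 : sm ga N20611 = N20605 := ded_11_1 (flp_f L161926) L161924 L161936
theorem L161940 : sm gg N20611 = N20603 := ded_29_3 (flp_a L161896) L112040 L112048 L161936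
theorem L161942 : sm gb N15278 = N20612 := rfl
theorem L161944 : sm gc N20612 = N16652 := ded_13_2 (flp_b L121038) L97202 (flp_b L97889) L112052 L161942
theorem L161946 : sm gf N17059 = N20612 := ded_20_0 L161944 L150734 L123005
theorem L161948 : sm gd N15278 = N20613 := rfl
theorem L161950 : sm ga N20613 = N15279 := ded_9_1 (flp_d L112056) (flp_a L112054) L161948
theorem L161952 : sm gc N15279 = N20614 := rfl
theorem L161954 : sm ge N15279 = N20615 := rfl
theorem L161956 : sm gg N15279 = N20616 := rfl
theorem L161958 : sm gd N20616 = N15280 := ded_24_1 (flp_g L112058) L112056 L161956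
theorem L161960 : sm gb N15280 = N20617 := rfl
theorem L161962 : sm gc N20617 = N20494 := ded_13_2 (flp_b L161284) L111585 (flp_b L93530) (flp_c L112060) L161960
theorem L161964 : sm gf N15280 = N20618 := rfl
theorem L161966 : sm ga N20618 = N17143 := ded_11_1 (flp_f L123377) L121311 L161964
theorem L161968 : sm gc N20618 = N15281 := ded_20_1 (flp_f L112062) (flp_c L112060) L161964
theorem L161970 : sm gg N20618 = N17141 := ded_29_3 L123365 L98605 L112058 L161964
theorem L161972 : sm gb N15285 = N20619 := rfl
theorem L161974 : sm gd N20619 = N15287 := ded_14_2 (flp_b L112107) (flp_d L112098) L161972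
theorem L161976 : sm gf N20619 = N15289 := ded_16_2 (flp_b L112119) (flp_f L93597) (flp_b L93586) L112093 L161972
theorem L161978 : sm ga N20009 = N20619 := ded_9_3 L161974 L112127 L158157
theorem L161980 : sm gg N15287 = N20620 := rfl
theorem L161982 : sm ga N20620 = N20010 := ded_12_1 (flp_g L158159) (flp_a L112127) L161980
theorem L161984 : sm gc N20620 = N19948 := ded_21_1 L157819 L112137 L161980
theorem L161986 : sm gb N15288 = N20621 := rfl
theorem L161988 : sm ge N20621 = N15289 := ded_15_2 (flp_b L112119) (flp_e L112115) L161986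
theorem L161990 : sm ga N15289 = N20622 := rfl
theorem L161992 : sm gd N20622 = N15290 := ded_9_2 (flp_a L112123) (flp_d L112121) L161990
theorem L161994 : sm gf N20622 = N20009 := ded_11_2 L161978 L161976 L161990
theorem L161996 : sm gc N15289 = N20623 := rfl
theorem L161998 : sm gg N15289 = N20624 := rfl
theorem L162000 : sm gd N20624 = N15292 := ded_24_1 (flp_g L112166) (flp_d L112121) L161998
theorem L162002 : sm gb N20624 = N20552 := ded_17_1 (flp_g L161605) (flp_b L111795) L93603 L112119 L161998
theorem L162004 : sm gb N15290 = N20625 := rfl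
theorem L162006 : sm gc N20625 = N20002 := ded_13_2 (flp_b L158115) L109356 L109362 L112129 L162004
theorem L162008 : sm gg N15290 = N20626 := rfl
theorem L162010 : sm ga N20626 = N15292 := ded_12_1 (flp_g L112166) L112123 L162008
theorem L162012 : sm gc N20626 = N20003 := ded_21_1 (flp_g L158121) L112129 L162008
theorem L162014 : sm gf N20620 = N20626 := ded_29_0 (flp_g L162008) L112125 L158159 (flp_a L161982)
theorem L162016 : sm gd N15291 = N20627 := rfl
theorem L162018 : sm ga N20627 = N19366 := ded_9_1 L153660 (flp_a L112160) L162016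
theorem L162020 : sm gb N20627 = N15295 := ded_14_1 (flp_d L112188) (flp_b L112164) L162016
theorem L162022 : sm gf N20627 = N19926 := ded_23_2 L157677 (flp_f L112162) L162016
theorem L162024 : sm ge N20627 = N15675 := ded_22_2 (flp_d L157475) (flp_e L156778) L160406 L160400 L162016
theorem L162026 : sm gc N15664 = N20627 := ded_8_0 L162018 (flp_c L153664) L154562
theorem L162028 : sm gc N15293 = N20628 := rfl
theorem L162030 : sm ga N20628 = N16550 := ded_8_1 L118770 (flp_a L112176) L162028
theorem L162032 : sm gf N20628 = N20478 := ded_20_2 L161176 L112178 L162028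
theorem L162034 : sm gg N20628 = N16548 := ded_21_2 (flp_c L118760) (flp_g L112174) L162028
theorem L162036 : sm gb N20628 = N19982 := ded_13_1 L158013 L112186 (flp_c L112180) L112170 L162028
theorem L162038 : sm gc N15295 = N20629 := rfl
theorem L162040 : sm ge N20629 = N15678 := ded_19_2 L157479 (flp_e L151377) L162038
theorem L162042 : sm gf N20629 = N19905 := ded_20_2 L157537 L151321 L162038
theorem L162044 : sm gb N20629 = N15665 := ded_13_1 (flp_c L113957) L113953 L162026 L162020 L162038
theorem L162046 : sm gb N15297 = N20630 := rfl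
theorem L162048 : sm gd N20630 = N16570 := ded_14_2 (flp_b L118882) (flp_d L148325) L162046
theorem L162050 : sm ge N20630 = N15940 := ded_15_2 (flp_b L115248) (flp_e L148327) L162046
theorem L162052 : sm gf N20630 = N16733 := ded_16_2 L121440 L112232 L149136 (flp_f L148329) L162046
theorem L162054 : sm gg N20630 = N20630 := ded_17_2 (flp_b L162046) L148331 L95257 (flp_g L148331) L162046
theorem L162055 : sm ga N20630 = N20630 := ded_7_1 (flp_b L162046) (flp_a L112196) (flp_b L93621) (flp_a L85666) L85668 L85666 L93621 L112196 L162046
theorem L162056 : sm gc N15301 = N20631 := rfl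
theorem L162058 : sm ga N20631 = N20413 := ded_8_1 (flp_c L160788) L122858 L162056
theorem L162060 : sm ge N20631 = N16546 := ded_19_2 (flp_c L118748) (flp_e L147671) L162056
theorem L162062 : sm gg N20631 = N19179 := ded_21_2 L154794 L154792 L162056
theorem L162064 : sm gb N20631 = N15934 := ded_13_1 (flp_c L115206) (flp_b L95249) (flp_c L95241) (flp_b L147669) L162056
theorem L162066 : sm gf N15301 = N20632 := rfl
theorem L162068 : sm gd N20632 = N15302 := ded_23_1 (flp_f L112216) L112214 L162066
theorem L162070 : sm ge N20632 = N16547 := ded_25_1 (flp_f L118752) (flp_e L147671) L162066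
theorem L162072 : sm gb N20632 = N20594 := ded_16_1 (flp_f L161842) (flp_b L115277) (flp_f L95285) (flp_b L147669) L162066
theorem L162074 : sm gg N15948 = N20632 := ded_31_0 (flp_f L162066) L147669 (flp_g L95237) L95229 (flp_b L119731) L161836 (flp_f L161842) (flp_b L115277) (flp_g L95279) (flp_f L84292) L24868 L84298 L95292 L115297
theorem L162076 : sm gg N15302 = N20633 := rfl
theorem L162078 : sm ga N20633 = N20548 := ded_12_1 L161593 L122865 L162076
theorem L162080 : sm gc N20633 = N15306 := ded_21_1 (flp_g L112240) (flp_c L112218) L162076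
theorem L162082 : sm gd N20633 = N15948 := ded_24_1 L162074 L162068 L162076
theorem L162084 : sm ge N20633 = N15304 := ded_26_1 (flp_g L112224) (flp_e L112220) L162076
theorem L162086 : sm gf N16736 = N20633 := ded_29_0 (flp_g L162076) (flp_f L112216) (flp_g L111781) (flp_a L121454)
theorem L162088 : sm gb N20633 = N15941 := ded_17_1 (flp_g L119190) L111972 L111986 (flp_b L149075) L162076
theorem L162090 : sm ga N15305 = N20634 := rfl
theorem L162092 : sm gc N20634 = N20596 := ded_8_2 (flp_a L161858) L149776 L162090
theorem L162094 : sm ge N20634 = N15307 := ded_10_2 (flp_a L112248) (flp_e L112236) L162090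
theorem L162096 : sm gf N20634 = N15421 := ded_11_2 (flp_a L112732) (flp_f L112238) L162090
theorem L162098 : sm gb N15306 = N20635 := rfl
theorem L162100 : sm ge N20635 = N15310 := ded_15_2 (flp_b L112262) (flp_e L112244) L162098
theorem L162102 : sm gc N20635 = N18366 := ded_13_2 (flp_b L129936) (flp_c L115257) (flp_b L162088) L162080 L162098
theorem L162104 : sm gb N15307 = N20636 := rfl
theorem L162106 : sm gd N20636 = N15311 := ded_14_2 (flp_b L112266) (flp_d L112250) L162104
theorem L162108 : sm gc N20636 = N19186 := ded_13_2 L152374 L161874 (flp_b L161870) (flp_c L149788) L162104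
theorem L162110 : sm gg N19185 = N20636 := ded_21_0 L162108 (flp_g L152366) L152360
theorem L162112 : sm ga N15310 = N20637 := rfl
theorem L162114 : sm gd N20637 = N15313 := ded_9_2 (flp_a L112272) (flp_d L112264) L162112
theorem L162116 : sm gf N15310 = N20638 := rfl
theorem L162118 : sm gd N20638 = N15315 := ded_23_1 (flp_f L112278) (flp_d L112264) L162116
theorem L162120 : sm gb N20638 = N20546 := ded_16_1 (flp_f L161575) L111761 L93649 L112262 L162116
theorem L162122 : sm ga N15311 = N20639 := rfl
theorem L162124 : sm gg N15311 = N20640 := rfl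
theorem L162126 : sm gd N20640 = N19185 := ded_24_1 L162110 L162106 L162124
theorem L162128 : sm gf N19200 = N20640 := ded_23_0 L162126 L152364 L152450
theorem L162130 : sm ga N15312 = N20641 := rfl
theorem L162132 : sm gg N20641 = N15313 := ded_12_2 (flp_a L112272) (flp_g L112270) L162130
theorem L162134 : sm gc N15312 = N20642 := rfl
theorem L162136 : sm gg N20642 = N15314 := ded_21_2 (flp_c L112274) (flp_g L112270) L162134
theorem L162138 : sm gf N15312 = N20643 := rfl
theorem L162140 : sm gd N20643 = N19207 := ded_23_1 L152494 L149798 L162138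
theorem L162142 : sm gb N20643 = N19204 := ded_16_1 L152476 L151391 L93905 L112268 L162138
theorem L162144 : sm gb N15313 = N20644 := rfl
theorem L162146 : sm gc N15313 = N20645 := rfl
theorem L162148 : sm ga N20645 = N15314 := ded_8_1 (flp_c L112274) L112272 L162146
theorem L162150 : sm gf N15313 = N20646 := rfl
theorem L162152 : sm ga N20646 = N15315 := ded_11_1 (flp_f L112278) L112272 L162150
theorem L162154 : sm gg N20643 = N20646 := ded_29_1 (flp_f L162150) (flp_g L162132) (flp_a L162130) L162138
theorem L162156 : sm gd N15314 = N20647 := rfl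
theorem L162158 : sm gb N20647 = N15317 := ded_14_1 (flp_d L112286) (flp_b L112276) L162156
theorem L162160 : sm gf N15314 = N20648 := rfl
theorem L162162 : sm gc N20648 = N15315 := ded_20_1 (flp_f L112278) L112274 L162160
theorem L162164 : sm gg N15315 = N20649 := rfl
theorem L162166 : sm ga N20649 = N20643 := ded_12_1 L162154 L162152 L162164
theorem L162168 : sm gf N20641 = N20649 := ded_29_0 (flp_g L162164) (flp_f L112278) (flp_g L112270) L162130
theorem L162170 : sm gb N15316 = N20650 := rfl
theorem L162172 : sm gc N20650 = N16628 := ded_13_2 (flp_b L120939) L97154 (flp_b L98069) L112282 L162170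
theorem L162174 : sm gg N16863 = N20650 := ded_21_0 L162172 L120941 L122110
theorem L162176 : sm gd N15316 = N20651 := rfl
theorem L162178 : sm ga N20651 = N15317 := ded_9_1 (flp_d L112286) (flp_a L112284) L162176
theorem L162180 : sm gc N15317 = N20652 := rfl
theorem L162182 : sm ge N15317 = N20653 := rfl
theorem L162184 : sm gf N15317 = N20654 := rfl
theorem L162186 : sm gd N20654 = N15318 := ded_23_1 (flp_f L112288) L112286 L162184
theorem L162188 : sm gb N15318 = N20655 := rfl
theorem L162190 : sm gc N20655 = N20539 := ded_13_2 (flp_b L161529) L111733 (flp_b L93669) (flp_c L112290) L162188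
theorem L162192 : sm gg N15318 = N20656 := rfl
theorem L162194 : sm ga N20656 = N16952 := ded_12_1 L122512 L121643 L162192
theorem L162196 : sm gc N20656 = N15319 := ded_21_1 (flp_g L112292) (flp_c L112290) L162192
theorem L162198 : sm gf N16950 = N20656 := ded_29_0 (flp_g L162192) (flp_f L112288) (flp_g L98059) (flp_a L122500)
theorem L162200 : sm gb N15322 = N20657 := rfl
theorem L162202 : sm gd N20657 = N19245 := ded_14_2 (flp_b L152726) (flp_d L120301) L162200
theorem L162204 : sm gg N20657 = N15328 := ded_17_2 (flp_b L112342) (flp_g L93686) L93671 L112314 L162200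
theorem L162206 : sm ge N15323 = N20658 := rfl
theorem L162208 : sm ga N20658 = N15329 := ded_10_1 (flp_e L112344) (flp_a L112322) L162206
theorem L162210 : sm gb N20658 = N18359 := ded_15_1 L129894 L113735 L162206
theorem L162212 : sm gc N20658 = N15324 := ded_19_1 (flp_e L112324) L112320 L162206
theorem L162214 : sm gd N20658 = N18367 := ded_22_1 L129946 L120400 L120517 L112938 L162206
theorem L162216 : sm gg N15323 = N20659 := rfl
theorem L162218 : sm ga N20659 = N15331 := ded_12_1 (flp_g L112352) (flp_a L112322) L162216
theorem L162220 : sm gc N20659 = N15326 := ded_21_1 (flp_g L112334) L112320 L162216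
theorem L162222 : sm gf N20659 = N18493 := ded_29_2 (flp_g L142919) L142909 L142915 L162216
theorem L162224 : sm gf N15324 = N20660 := rfl
theorem L162226 : sm ga N20660 = N15332 := ded_11_1 (flp_f L112356) (flp_a L112326) L162224
theorem L162228 : sm ge N20660 = N15325 := ded_25_1 (flp_f L112328) L112324 L162224
theorem L162230 : sm gg N15324 = N20661 := rfl
theorem L162232 : sm ga N20661 = N15333 := ded_12_1 (flp_g L112360) (flp_a L112326) L162230
theorem L162234 : sm ge N20661 = N15326 := ded_26_1 (flp_g L112334) L112324 L162230
theorem L162236 : sm gb N15326 = N20662 := rfl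
theorem L162238 : sm gd N20662 = N15328 := ded_14_2 (flp_b L112342) (flp_d L112338) L162236
theorem L162240 : sm gg N20662 = N19245 := ded_17_2 (flp_b L152726) L105477 L119658 L112334 L162236
theorem L162242 : sm gg N15327 = N20663 := rfl
theorem L162244 : sm gc N20663 = N16837 := ded_21_1 (flp_g L121957) L120557 L162242
theorem L162246 : sm gd N20663 = N19114 := ded_24_1 L151902 L151840 L162242
theorem L162248 : sm gf N19111 = N20663 := ded_29_0 (flp_g L162242) L151812 (flp_g L151814) (flp_a L151882)
theorem L162250 : sm ga N15328 = N20664 := rfl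
theorem L162252 : sm gc N15328 = N20665 := rfl
theorem L162255 : sm gf N15328 = N20666 := rfl
theorem L162257 : sm gd N15329 = N20667 := rfl
theorem L162259 : sm ga N20667 = N18367 := ded_9_1 (flp_d L162214) L162208 L162257
theorem L162261 : sm gf N20667 = N20658 := ded_23_2 L162214 L129948 L162257
theorem L162263 : sm ge N20667 = N18492 := ded_22_2 L142913 (flp_e L112948) (flp_d L94016) L112344 L162257
theorem L162265 : sm gc N20660 = N20667 := ded_8_0 L162259 (flp_c L129950) (flp_a L162226)
theorem L162267 : sm gg N15329 = N20668 := rfl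
theorem L162269 : sm gc N20668 = N15333 := ded_21_1 (flp_g L112360) (flp_c L112346) L162267
theorem L162271 : sm ge N20668 = N15331 := ded_26_1 (flp_g L112352) L112344 L162267
theorem L162273 : sm gf N15331 = N20669 := rfl
theorem L162275 : sm ga N20669 = N18493 := ded_11_1 (flp_f L162222) L162218 L162273
theorem L162277 : sm gc N20669 = N15336 := ded_20_1 (flp_f L112376) (flp_c L112354) L162273
theorem L162279 : sm gd N20669 = N20094 := ded_23_1 L158680 L112958 L162273
theorem L162281 : sm gg N20669 = N18492 := ded_29_3 (flp_a L142909) L120402 L112352 L162273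
theorem L162283 : sm gb N20669 = N20093 := ded_16_1 (flp_f L158670) L149007 L146158 L146170 L162273
theorem L162285 : sm gg N15332 = N20670 := rfl
theorem L162287 : sm ge N20670 = N15334 := ded_26_1 (flp_g L112364) (flp_e L112358) L162285
theorem L162289 : sm gf N20661 = N20670 := ded_29_0 (flp_g L162285) (flp_f L112356) L112360 (flp_a L162232)
theorem L162291 : sm gb N15333 = N20671 := rfl
theorem L162293 : sm ge N20671 = N15335 := ded_15_2 (flp_b L112370) (flp_e L112362) L162291
theorem L162295 : sm gg N20671 = N15341 := ded_17_2 (flp_b L112394) (flp_g L93721) (flp_b L93695) L112360 L162291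
theorem L162297 : sm gf N15333 = N20672 := rfl
theorem L162299 : sm ga N20672 = N20670 := ded_11_1 (flp_f L162289) L162232 L162297
theorem L162301 : sm ge N20672 = N15336 := ded_25_1 (flp_f L112376) (flp_e L112362) L162297
theorem L162303 : sm gg N20672 = N20660 := ded_29_3 L162226 (flp_f L112356) L112360 L162297
theorem L162305 : sm gb N15334 = N20673 := rfl
theorem L162307 : sm gd N20673 = N15337 := ded_14_2 (flp_b L112384) (flp_d L112366) L162305
theorem L162309 : sm ga N15335 = N20674 := rfl
theorem L162311 : sm gc N20674 = N19166 := ded_8_2 L152212 L151572 L162309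
theorem L162313 : sm gd N20674 = N15338 := ded_9_2 (flp_a L112386) (flp_d L112372) L162309
theorem L162315 : sm gg N20674 = N15342 := ded_12_2 (flp_a L112398) (flp_g L112374) L162309
theorem L162317 : sm gf N20674 = N19165 := ded_29_0 (flp_g L152194) L143441 (flp_g L112374) L162309
theorem L162319 : sm gf N15335 = N20675 := rfl
theorem L162321 : sm ga N20675 = N19165 := ded_11_1 (flp_f L162317) (flp_a L162309) L162319
theorem L162323 : sm gc N20675 = N19164 := ded_20_1 L152190 L151572 L162319
theorem L162325 : sm gd N20675 = N15339 := ded_23_1 (flp_f L112390) (flp_d L112372) L162319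
theorem L162327 : sm gg N20675 = N18640 := ded_29_3 L146076 L143441 (flp_g L112374) L162319
theorem L162329 : sm gb N15336 = N20676 := rfl
theorem L162331 : sm gd N20676 = N15340 := ded_14_2 (flp_b L112392) (flp_d L112380) L162329
theorem L162333 : sm ga N15337 = N20677 := rfl
theorem L162335 : sm gc N15337 = N20678 := rfl
theorem L162338 : sm gf N15337 = N20679 := rfl
theorem L162340 : sm gb N20679 = N20666 := ded_16_1 (flp_f L162255) (flp_b L112342) L93708 L112384 L162338
theorem L162342 : sm gb N15338 = N20680 := rfl
theorem L162344 : sm ga N15340 = N20681 := rfl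
theorem L162346 : sm gg N15340 = N20682 := rfl
theorem L162348 : sm gb N20682 = N20663 := ded_17_1 (flp_g L162242) (flp_b L112340) (flp_g L93719) L112392 L162346
theorem L162350 : sm ga N15341 = N20683 := rfl
theorem L162352 : sm ge N20683 = N15342 := ded_10_2 (flp_a L112398) (flp_e L112396) L162350
theorem L162354 : sm gb N15342 = N20684 := rfl
theorem L162356 : sm gd N20684 = N15345 := ded_14_2 (flp_b L112410) (flp_d L112400) L162354
theorem L162358 : sm gf N15345 = N20685 := rfl
theorem L162360 : sm gg N15345 = N20686 := rfl
theorem L162362 : sm gb N15347 = N20687 := rfl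
theorem L162364 : sm gg N20687 = N17196 := ded_17_2 (flp_b L123634) (flp_g L98772) (flp_b L93737) L112418 L162362
theorem L162366 : sm gc N15348 = N20688 := rfl
theorem L162368 : sm ge N20688 = N18360 := ded_19_2 (flp_c L129900) L119771 L162366
theorem L162370 : sm gf N20688 = N18310 := ded_20_2 (flp_c L129514) (flp_f L119773) L162366
theorem L162372 : sm gg N15348 = N20689 := rfl
theorem L162374 : sm gd N20689 = N18478 := ded_24_1 (flp_g L142817) L119314 L162372
theorem L162376 : sm ge N20689 = N18361 := ded_26_1 (flp_g L129908) L119771 L162372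
theorem L162378 : sm ga N15356 = N20690 := rfl
theorem L162380 : sm gc N20690 = N20637 := ded_8_2 (flp_a L162112) (flp_c L149800) L162378
theorem L162382 : sm gg N20690 = N15360 := ded_12_2 (flp_a L112478) (flp_g L112456) L162378
theorem L162384 : sm gf N15356 = N20691 := rfl
theorem L162386 : sm gc N20691 = N20638 := ded_20_1 (flp_f L162116) (flp_c L149800) L162384
theorem L162388 : sm ga N15359 = N20692 := rfl
theorem L162390 : sm ge N20692 = N15360 := ded_10_2 (flp_a L112478) (flp_e L112476) L162388
theorem L162392 : sm gb N20692 = N18429 := ded_7_2 (flp_a L130340) (flp_b L102723) (flp_a L102707) L130310 (flp_a L143449) (flp_b L113106) L94090 L112474 L162388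
theorem L162394 : sm gc N15359 = N20693 := rfl
theorem L162396 : sm ge N20693 = N15361 := ded_19_2 (flp_c L112480) (flp_e L112476) L162394
theorem L162398 : sm gg N20693 = N20635 := ded_21_2 L162102 L129942 L162394
theorem L162400 : sm gb N20693 = N15364 := ded_13_1 (flp_c L112492) (flp_b L93761) (flp_c L93753) L112474 L162394
theorem L162402 : sm gf N15359 = N20694 := rfl
theorem L162404 : sm ge N20694 = N15362 := ded_25_1 (flp_f L112484) (flp_e L112476) L162402
theorem L162406 : sm gb N20694 = N17203 := ded_16_1 (flp_f L123658) L98786 L93757 L112474 L162402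
theorem L162408 : sm gc N15360 = N20695 := rfl
theorem L162410 : sm ga N20695 = N15361 := ded_8_1 (flp_c L112480) L112478 L162408
theorem L162412 : sm gg N20695 = N20637 := ded_21_2 (flp_c L162380) L162382 L162408
theorem L162414 : sm gd N20641 = N20695 := ded_9_0 L162410 L149798 L162130
theorem L162416 : sm gf N15360 = N20696 := rfl
theorem L162418 : sm ga N20696 = N15362 := ded_11_1 (flp_f L112484) L112478 L162416
theorem L162420 : sm gg N20691 = N20696 := ded_29_1 (flp_f L162416) (flp_g L162382) (flp_a L162378) L162384
theorem L162422 : sm gb N20696 = N18625 := ded_16_1 (flp_f L143641) (flp_b L103366) (flp_f L103356) (flp_b L143451) L162416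
theorem L162424 : sm gg N15362 = N20697 := rfl
theorem L162426 : sm ga N20697 = N20691 := ded_12_1 L162420 L162418 L162424
theorem L162428 : sm gf N20690 = N20697 := ded_29_0 (flp_g L162424) (flp_f L112484) (flp_g L112456) L162378
theorem L162430 : sm gb N20697 = N18495 := ded_17_1 L142929 (flp_b L143333) (flp_g L123666) (flp_b L112486) L162424
theorem L162432 : sm gb N15363 = N20698 := rfl
theorem L162434 : sm ge N20698 = N15366 := ded_15_2 (flp_b L112502) (flp_e L112490) L162432
theorem L162436 : sm gc N15363 = N20699 := rfl
theorem L162438 : sm ga N20699 = N15364 := ded_8_1 (flp_c L112492) L112488 L162436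
theorem L162440 : sm ge N20699 = N15367 := ded_19_2 (flp_c L112506) (flp_e L112490) L162436
theorem L162442 : sm gf N20699 = N15423 := ded_20_2 L149782 (flp_f L145378) L162436
theorem L162444 : sm gg N20699 = N20634 := ded_21_2 L162092 L161862 L162436
theorem L162446 : sm gd N15364 = N20700 := rfl
theorem L162448 : sm gg N20700 = N20356 := ded_24_2 L160460 L149794 L162446
theorem L162450 : sm ge N20700 = N20360 := ded_22_2 L160488 L111047 L149128 (flp_e L112494) L162446
theorem L162452 : sm gg N15365 = N20701 := rfl
theorem L162454 : sm ga N20701 = N15422 := ded_12_1 L149790 L145376 L162452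
theorem L162456 : sm gc N20701 = N15421 := ded_21_1 L151455 (flp_c L151447) L162452
theorem L162458 : sm ge N20701 = N15371 := ded_26_1 (flp_g L112524) (flp_e L112498) L162452
theorem L162460 : sm gf N20596 = N20701 := ded_29_0 (flp_g L162452) (flp_f L112496) (flp_g L112008) L161858
theorem L162462 : sm gc N15366 = N20702 := rfl
theorem L162464 : sm gg N15366 = N20703 := rfl
theorem L162466 : sm gd N20703 = N15375 := ded_24_1 (flp_g L112538) (flp_d L112504) L162464
theorem L162468 : sm gb N15367 = N20704 := rfl
theorem L162470 : sm gd N20704 = N15435 := ded_14_2 (flp_b L112788) (flp_d L149130) L162468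
theorem L162472 : sm gf N20704 = N17137 := ded_16_2 (flp_b L123349) (flp_f L98587) (flp_b L93895) (flp_f L149132) L162468
theorem L162474 : sm gb N15371 = N20705 := rfl
theorem L162476 : sm gd N20705 = N15377 := ded_14_2 (flp_b L112542) (flp_d L112528) L162474
theorem L162478 : sm gg N20705 = N16946 := ded_17_2 (flp_b L122484) (flp_g L98043) (flp_b L93775) L112524 L162474
theorem L162480 : sm gg N15374 = N20706 := rfl
theorem L162482 : sm gc N20706 = N19249 := ded_21_1 L152748 (flp_c L120559) L162480
theorem L162484 : sm gf N19983 = N20706 := ded_29_0 (flp_g L162480) (flp_f L112536) L112538 (flp_a L158017)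
theorem L162486 : sm gf N15375 = N20707 := rfl
theorem L162488 : sm ga N20707 = N20706 := ded_11_1 (flp_f L162484) L158017 L162486
theorem L162490 : sm gc N20707 = N19827 := ded_20_1 L157035 L151004 L162486
theorem L162492 : sm gg N20707 = N19982 := ded_29_3 L158011 (flp_f L112536) L112538 L162486
theorem L162494 : sm gb N20707 = N20493 := ded_31_2 (flp_g L161278) (flp_f L111579) L111571 L161256 L161260 (flp_b L112050) (flp_g L112048) (flp_f L112040) (flp_b L112038) L93785 (flp_f L93779) L93777 L112538 L162486
theorem L162496 : sm ga N15377 = N20708 := rfl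
theorem L162498 : sm gg N20708 = N16947 := ded_12_2 (flp_a L122488) (flp_g L112544) L162496
theorem L162500 : sm gb N20708 = N19111 := ded_7_2 L151882 L120639 (flp_a L120758) L161900 (flp_a L161896) (flp_b L112038) (flp_a L93789) L112542 L162496
theorem L162502 : sm gb N16947 = N19582 := ded_17_1 (flp_g L155252) L120542 L151880 (flp_b L162500) L162498
theorem L162504 : sm gd N19113 = N20708 := ded_14_0 L162500 L151886 L151894
theorem L162506 : sm ga N20705 = N19113 := ded_9_3 L162504 (flp_a L162496) (flp_d L162476)
theorem L162508 : sm gc N15377 = N20709 := rfl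
theorem L162510 : sm gg N20709 = N16948 := ded_21_2 (flp_c L122490) (flp_g L112544) L162508
theorem L162512 : sm gb N20709 = N20642 := ded_13_1 (flp_c L162134) (flp_b L112268) (flp_c L93791) L112542 L162508
theorem L162514 : sm gf N15377 = N20710 := rfl
theorem L162516 : sm gb N20710 = N20602 := ded_16_1 (flp_f L161890) (flp_b L112036) L93793 L112542 L162514
theorem L162518 : sm gb N15379 = N20711 := rfl
theorem L162520 : sm gd N20711 = N19301 := ded_14_2 (flp_b L153135) (flp_d L150890) L162518
theorem L162522 : sm gf N20711 = N15385 := ded_16_2 (flp_b L112584) (flp_f L93801) L93795 L112552 L162518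
theorem L162524 : sm ge N15381 = N20712 := rfl
theorem L162526 : sm ga N20712 = N15387 := ded_10_1 (flp_e L112588) (flp_a L112566) L162524
theorem L162528 : sm gb N20712 = N18363 := ded_15_1 (flp_e L148566) L114302 L162524
theorem L162530 : sm gc N20712 = N15382 := ded_19_1 (flp_e L112568) L112564 L162524
theorem L162532 : sm gd N20712 = N18375 := ded_22_1 L129998 (flp_d L148492) (flp_e L148564) L113366 L162524
theorem L162534 : sm gf N15381 = N20713 := rfl
theorem L162536 : sm ga N20713 = N15388 := ded_11_1 (flp_f L112592) (flp_a L112566) L162534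
theorem L162538 : sm gc N20713 = N15383 := ded_20_1 (flp_f L112572) L112564 L162534
theorem L162540 : sm gg N18506 = N20713 := ded_29_1 (flp_f L162534) L149578 (flp_a L142963) L142967
theorem L162542 : sm gf N15382 = N20714 := rfl
theorem L162544 : sm ga N20714 = N15390 := ded_11_1 (flp_f L112600) (flp_a L112570) L162542
theorem L162546 : sm ge N20714 = N15383 := ded_25_1 (flp_f L112572) L112568 L162542
theorem L162548 : sm gg N15382 = N20715 := rfl
theorem L162550 : sm ga N20715 = N15391 := ded_12_1 (flp_g L112604) (flp_a L112570) L162548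
theorem L162552 : sm ge N20715 = N15384 := ded_26_1 (flp_g L112578) L112568 L162548
theorem L162554 : sm gb N15383 = N20716 := rfl
theorem L162556 : sm gd N20716 = N15385 := ded_14_2 (flp_b L112584) (flp_d L112576) L162554
theorem L162558 : sm gf N20716 = N19301 := ded_16_2 (flp_b L153135) (flp_f L105658) L150422 L112572 L162554
theorem L162560 : sm ga N15385 = N20717 := rfl
theorem L162562 : sm gc N15385 = N20718 := rfl
theorem L162565 : sm gg N15385 = N20719 := rfl
theorem L162567 : sm gf N15386 = N20720 := rfl
theorem L162569 : sm gc N20720 = N17029 := ded_20_1 (flp_f L122878) (flp_c L150922) L162567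
theorem L162571 : sm gd N20720 = N19182 := ded_23_1 (flp_f L152338) L152290 L162567
theorem L162573 : sm gg N20720 = N19180 := ded_29_3 L152326 L152272 (flp_g L152270) L162567
theorem L162575 : sm gd N15387 = N20721 := rfl
theorem L162577 : sm ga N20721 = N18375 := ded_9_1 (flp_d L162532) L162526 L162575
theorem L162579 : sm gg N20721 = N20712 := ded_24_2 L162532 L149576 L162575
theorem L162581 : sm ge N20721 = N18504 := ded_22_2 L149582 (flp_e L113376) (flp_d L94267) L112588 L162575
theorem L162583 : sm gc N20715 = N20721 := ded_8_0 L162577 L149586 (flp_a L162550)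
theorem L162585 : sm gf N15387 = N20722 := rfl
theorem L162587 : sm gc N20722 = N15390 := ded_20_1 (flp_f L112600) (flp_c L112590) L162585
theorem L162589 : sm ge N20722 = N15388 := ded_25_1 (flp_f L112592) L112588 L162585
theorem L162591 : sm gg N15388 = N20723 := rfl
theorem L162593 : sm ga N20723 = N18506 := ded_12_1 L162540 L162536 L162591
theorem L162595 : sm gc N20723 = N15393 := ded_21_1 (flp_g L112614) (flp_c L112594) L162591
theorem L162597 : sm gd N20723 = N20077 := ded_24_1 L158555 L113382 L162591
theorem L162599 : sm gf N18504 = N20723 := ded_29_0 (flp_g L162591) (flp_f L112592) (flp_g L148488) L142963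
theorem L162601 : sm gb N20723 = N20076 := ded_17_1 (flp_g L158543) (flp_b L119757) L146120 L149572 L162591
theorem L162603 : sm gb N15390 = N20724 := rfl
theorem L162605 : sm ge N20724 = N15392 := ded_15_2 (flp_b L112608) (flp_e L112602) L162603
theorem L162607 : sm gf N20724 = N15399 := ded_16_2 (flp_b L112638) (flp_f L93841) (flp_b L93815) L112600 L162603
theorem L162609 : sm gg N15390 = N20725 := rfl
theorem L162611 : sm ge N20725 = N15393 := ded_26_1 (flp_g L112614) (flp_e L112602) L162609
theorem L162613 : sm gf N20715 = N20725 := ded_29_0 (flp_g L162609) (flp_f L112600) L112604 (flp_a L162550)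
theorem L162615 : sm gf N15391 = N20726 := rfl
theorem L162617 : sm ga N20726 = N20725 := ded_11_1 (flp_f L162613) L162550 L162615
theorem L162619 : sm ge N20726 = N15394 := ded_25_1 (flp_f L112620) (flp_e L112606) L162615
theorem L162621 : sm gg N20726 = N20714 := ded_29_3 L162544 (flp_f L112600) L112604 L162615
theorem L162623 : sm ga N15392 = N20727 := rfl
theorem L162625 : sm gc N20727 = N19229 := ded_8_2 L152618 (flp_c L150766) L162623
theorem L162627 : sm gd N20727 = N15395 := ded_9_2 (flp_a L112628) (flp_d L112610) L162623
theorem L162629 : sm gf N20727 = N15400 := ded_11_2 (flp_a L112642) (flp_f L112612) L162623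
theorem L162631 : sm gg N19228 = N20727 := ded_29_3 (flp_a L162623) L112612 (flp_g L151370) L152610
theorem L162633 : sm gg N15392 = N20728 := rfl
theorem L162635 : sm ga N20728 = N19228 := ded_12_1 L162631 (flp_a L162623) L162633
theorem L162637 : sm gc N20728 = N19226 := ded_21_1 L152598 (flp_c L150766) L162633
theorem L162639 : sm gd N20728 = N15396 := ded_24_1 (flp_g L112632) (flp_d L112610) L162633
theorem L162641 : sm gf N18661 = N20728 := ded_29_0 (flp_g L162633) L112612 (flp_g L151370) L146092
theorem L162643 : sm gb N15393 = N20729 := rfl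
theorem L162645 : sm gd N20729 = N15397 := ded_14_2 (flp_b L112634) (flp_d L112616) L162643
theorem L162647 : sm gb N15394 = N20730 := rfl
theorem L162649 : sm gd N20730 = N15398 := ded_14_2 (flp_b L112636) (flp_d L112624) L162647
theorem L162651 : sm gb N15395 = N20731 := rfl
theorem L162653 : sm ga N15397 = N20732 := rfl
theorem L162655 : sm gf N15397 = N20733 := rfl
theorem L162657 : sm gb N20733 = N20720 := ded_16_1 (flp_f L162567) (flp_b L112586) L93832 L112634 L162655
theorem L162659 : sm ga N15398 = N20734 := rfl
theorem L162661 : sm gc N15398 = N20735 := rfl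
theorem L162664 : sm gg N15398 = N20736 := rfl
theorem L162666 : sm gb N20736 = N20719 := ded_17_1 (flp_g L162565) (flp_b L112584) (flp_g L93839) L112636 L162664
theorem L162668 : sm ga N15399 = N20737 := rfl
theorem L162670 : sm ge N20737 = N15400 := ded_10_2 (flp_a L112642) (flp_e L112640) L162668
theorem L162672 : sm gb N15400 = N20738 := rfl
theorem L162674 : sm gd N20738 = N15403 := ded_14_2 (flp_b L112654) (flp_d L112644) L162672
theorem L162676 : sm gf N15403 = N20739 := rfl
theorem L162678 : sm gg N15403 = N20740 := rfl
theorem L162680 : sm gb N15405 = N20741 := rfl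
theorem L162682 : sm gf N20741 = N17289 := ded_16_2 (flp_b L124107) (flp_f L98959) (flp_b L93857) L112662 L162680
theorem L162684 : sm gc N15406 = N20742 := rfl
theorem L162686 : sm ge N20742 = N18364 := ded_19_2 (flp_c L129924) (flp_e L146517) L162684
theorem L162688 : sm gg N20742 = N18313 := ded_21_2 (flp_c L129646) (flp_g L146519) L162684
theorem L162690 : sm gf N15406 = N20743 := rfl
theorem L162692 : sm gd N20743 = N18482 := ded_23_1 (flp_f L142847) (flp_d L146515) L162690
theorem L162694 : sm ge N20743 = N18365 := ded_25_1 (flp_f L129932) (flp_e L146517) L162690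
theorem L162696 : sm gb N20743 = N20691 := ded_16_1 (flp_f L162384) (flp_b L112454) L148319 L112668 L162690
theorem L162698 : sm ga N15413 = N20744 := rfl
theorem L162700 : sm gc N20744 = N20599 := ded_8_2 (flp_a L161878) L149554 L162698
theorem L162702 : sm gf N20744 = N15418 := ded_11_2 (flp_a L112722) (flp_f L112696) L162698
theorem L162704 : sm gg N15413 = N20745 := rfl
theorem L162706 : sm gc N20745 = N20600 := ded_21_1 (flp_g L161882) L149554 L162704
theorem L162708 : sm gb N20745 = N20689 := ded_17_1 (flp_g L162372) (flp_b L112424) (flp_g L146570) L112694 L162704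
theorem L162710 : sm ga N15417 = N20746 := rfl
theorem L162712 : sm ge N20746 = N15418 := ded_10_2 (flp_a L112722) (flp_e L112720) L162710
theorem L162714 : sm gb N20746 = N18408 := ded_7_2 (flp_a L130220) (flp_b L102665) (flp_a L102649) L130190 (flp_a L150774) (flp_b L113534) L94341 L112718 L162710
theorem L162716 : sm gc N15417 = N20747 := rfl
theorem L162718 : sm ge N20747 = N15419 := ded_19_2 (flp_c L112724) (flp_e L112720) L162716
theorem L162720 : sm gf N20747 = N20597 := ded_20_2 L161868 L148570 L162716
theorem L162722 : sm gb N20747 = N15422 := ded_13_1 (flp_c L112736) (flp_b L93881) (flp_c L93873) L112718 L162716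
theorem L162724 : sm gg N15417 = N20748 := rfl
theorem L162726 : sm ge N20748 = N15420 := ded_26_1 (flp_g L112728) (flp_e L112720) L162724
theorem L162728 : sm gb N20748 = N17296 := ded_17_1 (flp_g L124131) L98969 (flp_g L93877) L112718 L162724
theorem L162730 : sm gc N15418 = N20749 := rfl
theorem L162732 : sm ga N20749 = N15419 := ded_8_1 (flp_c L112724) L112722 L162730
theorem L162734 : sm gf N20749 = N20599 := ded_20_2 (flp_c L162700) L162702 L162730
theorem L162736 : sm gd N20603 = N20749 := ded_9_0 L162732 L149792 L161896
theorem L162738 : sm gg N15418 = N20750 := rfl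
theorem L162740 : sm ga N20750 = N15420 := ded_12_1 (flp_g L112728) L112722 L162738
theorem L162742 : sm gf N20750 = N20745 := ded_29_2 (flp_g L162704) L162698 L162702 L162738
theorem L162744 : sm gb N20750 = N18585 := ded_17_1 (flp_g L143393) (flp_b L103280) (flp_g L103270) (flp_b L150778) L162738
theorem L162746 : sm gf N15420 = N20751 := rfl
theorem L162748 : sm ga N20751 = N20745 := ded_11_1 (flp_f L162742) L162740 L162746
theorem L162750 : sm gg N20751 = N20744 := ded_29_3 (flp_a L162698) L112696 L112728 L162746
theorem L162752 : sm gb N20751 = N18514 := ded_16_1 L143003 (flp_b L148552) (flp_f L124139) (flp_b L112730) L162746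
theorem L162754 : sm gb N15421 = N20752 := rfl
theorem L162756 : sm ge N20752 = N15424 := ded_15_2 (flp_b L112746) (flp_e L112734) L162754
theorem L162758 : sm gd N15422 = N20753 := rfl
theorem L162760 : sm gf N20753 = N20322 := ded_23_2 L160230 L149778 L162758
theorem L162762 : sm ge N20753 = N20326 := ded_22_2 L160258 L110879 L149100 (flp_e L112738) L162758
theorem L162764 : sm gc N15424 = N20754 := rfl
theorem L162766 : sm gf N15424 = N20755 := rfl
theorem L162768 : sm gd N20755 = N15432 := ded_23_1 (flp_f L112782) (flp_d L112748) L162766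
theorem L162770 : sm gg N15432 = N20756 := rfl
theorem L162772 : sm gc N20756 = N19826 := ded_21_1 L157025 (flp_c L143897) L162770
theorem L162774 : sm gf N20037 = N20756 := ded_29_0 (flp_g L162770) (flp_f L112782) L112784 (flp_a L158317)
theorem L162776 : sm gb N20541 = N20756 := ded_31_14 (flp_g L162770) (flp_f L112782) (flp_b L93897) L93899 L93905 L112268 L112270 L112278 L112280 L161511 (flp_f L161507) (flp_b L111725) L111735 L161539
theorem L162778 : sm gf N15433 = N20757 := rfl
theorem L162780 : sm ga N20757 = N20756 := ded_11_1 (flp_f L162774) L158317 L162778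
theorem L162782 : sm gc N20757 = N19305 := ded_20_1 L153159 (flp_c L150996) L162778
theorem L162784 : sm gg N20757 = N20036 := ded_29_3 L158311 (flp_f L112782) L112784 L162778
theorem L162786 : sm ga N15435 = N20758 := rfl
theorem L162788 : sm gf N20758 = N17138 := ded_11_2 (flp_a L123353) (flp_f L112790) L162786
theorem L162790 : sm gb N19180 = N20758 := ded_30_2 (flp_a L162786) L112790 L123355 L123357 (flp_a L123365) L123367 (flp_c L112052) L97889 L85242 (flp_f L85192) L85188 (flp_b L97021) L120692 L120659 L120661 L120663 (flp_a L120696) (flp_f L120712) (flp_c L152328)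
theorem L162792 : sm gb N20641 = N16610 := ded_7_6 L120812 (flp_b L120716) (flp_a L152326) L162790 (flp_a L162786) (flp_b L112788) L93909 L112268 L162130
theorem L162794 : sm gb N17138 = N19583 := ded_16_1 (flp_f L155260) (flp_b L149819) L152324 L162790 L162788
theorem L162796 : sm gd N20758 = N19181 := ded_14_2 (flp_b L152332) (flp_d L152330) L162790
theorem L162798 : sm gg N16931 = N20644 := ded_17_4 (flp_b L162144) (flp_g L162132) L162792 L120814 (flp_b L122414)
theorem L162800 : sm ga N19181 = N20704 := ded_9_1 L162470 L162786 L162796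
theorem L162802 : sm gc N20644 = N16932 := ded_21_1 (flp_g L122416) L122412 L162798
theorem L162804 : sm gc N15435 = N20759 := rfl
theorem L162806 : sm gf N20759 = N17139 := ded_20_2 (flp_c L123355) (flp_f L112790) L162804
theorem L162808 : sm gb N20759 = N20604 := ded_13_1 (flp_c L161902) (flp_b L112038) (flp_c L93911) L112788 L162804
theorem L162810 : sm gg N15435 = N20760 := rfl
theorem L162812 : sm gb N20760 = N20640 := ded_17_1 (flp_g L162124) (flp_b L112266) (flp_g L93913) L112788 L162810
theorem L162814 : sm gc N15437 = N20761 := rfl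
theorem L162816 : sm ga N20761 = N19586 := ded_8_1 L155294 L130620 L162814
theorem L162818 : sm ge N20761 = N19580 := ded_19_2 L155238 L154814 L162814
theorem L162820 : sm gf N20761 = N16561 := ded_20_2 L130543 L130539 L162814
theorem L162822 : sm gb N20761 = N20761 := ded_13_1 (flp_c L162814) L112798 L93923 (flp_b L112798) L162814
theorem L162823 : sm gd N20761 = N16562 := ded_28_7 L121777 L121773 L97662 L93484 (flp_d L46975) (flp_c L93917) L112796 L162814
theorem L162825 : sm gg N15437 = N20762 := rfl
theorem L162827 : sm gd N20762 = N15440 := ded_24_1 (flp_g L112811) L112796 L162825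
theorem L162829 : sm gf N18470 = N20762 := ded_29_0 (flp_g L162825) (flp_f L130539) L148572 L148609
theorem L162831 : sm ga N15456 = N20763 := rfl
theorem L162833 : sm gd N20763 = N20690 := ded_9_2 (flp_a L162378) (flp_d L112896) L162831
theorem L162835 : sm ge N20763 = N18491 := ded_10_2 (flp_a L142901) L119807 L162831
theorem L162837 : sm gg N20763 = N15458 := ded_12_2 (flp_a L112908) (flp_g L112898) L162831
theorem L162839 : sm gf N15456 = N20764 := rfl
theorem L162841 : sm gd N20764 = N20691 := ded_23_1 (flp_f L162384) (flp_d L112896) L162839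
theorem L162843 : sm ge N20764 = N18490 := ded_25_1 L142897 L119807 L162839
theorem L162845 : sm gb N20764 = N18482 := ded_16_1 (flp_f L142847) (flp_b L102972) L119323 L112894 L162839
theorem L162847 : sm gf N15458 = N20765 := rfl
theorem L162849 : sm ga N20765 = N15460 := ded_11_1 (flp_f L112916) L112908 L162847
theorem L162851 : sm gd N20765 = N20696 := ded_23_1 (flp_f L162416) (flp_d L112910) L162847
theorem L162853 : sm gg N20764 = N20765 := ded_29_1 (flp_f L162847) (flp_g L162837) (flp_a L162831) L162839
theorem L162855 : sm gg N15460 = N20766 := rfl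
theorem L162857 : sm ga N20766 = N20764 := ded_12_1 L162853 L162849 L162855
theorem L162859 : sm gc N20766 = N19439 := ded_21_1 L154186 (flp_c L142708) L162855
theorem L162861 : sm gd N20766 = N20697 := ded_24_1 (flp_g L162424) (flp_d L112918) L162855
theorem L162863 : sm gf N20763 = N20766 := ded_29_0 (flp_g L162855) (flp_f L112916) (flp_g L112898) L162831
theorem L162865 : sm gg N15464 = N20767 := rfl
theorem L162867 : sm ga N20767 = N15467 := ded_12_1 (flp_g L112956) L112936 L162865
theorem L162869 : sm gc N20767 = N15467 := ded_21_1 (flp_g L112956) (flp_c L112940) L162865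
theorem L162871 : sm gd N20767 = N20659 := ded_24_1 (flp_g L162216) (flp_d L112938) L162865
theorem L162873 : sm gb N19838 = N20767 := ded_13_5 L162869 L149510 L108541 L108543 L157113
theorem L162875 : sm gg N15466 = N20768 := rfl
theorem L162877 : sm ga N20768 = N20094 := ded_12_1 L158682 L120513 L162875
theorem L162879 : sm gc N20768 = N20094 := ded_21_1 L158682 L120515 L162875
theorem L162881 : sm gd N20768 = N18493 := ded_24_1 (flp_g L142919) L120400 L162875
theorem L162883 : sm ge N20768 = N20767 := ded_26_1 (flp_g L162865) (flp_e L120517) L162875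
theorem L162885 : sm gf N20767 = N20768 := ded_29_0 (flp_g L162875) (flp_f L112952) L112956 (flp_a L162867)
theorem L162887 : sm gb N19835 = N20768 := ded_13_5 L162879 (flp_b L158676) (flp_c L148100) (flp_b L108523) (flp_c L157095)
theorem L162889 : sm gd N18581 = N19835 := ded_14_2 L162887 L162881 (flp_b L143381)
theorem L162891 : sm gg N18539 = N19835 := ded_17_0 L162887 (flp_g L162875) L120455 (flp_g L103156) L143157
theorem L162893 : sm gf N19834 = N18581 := ded_23_0 L162889 (flp_f L157093) L157091
theorem L162895 : sm gc N19836 = N18539 := ded_21_3 L162891 L157095 L157097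
theorem L162897 : sm gf N19842 = N18554 := ded_31_4 (flp_b L143245) (flp_g L103200) (flp_f L88676) (flp_b L37231) (flp_g L17826) L17822 L37219 L88662 L103150 L143157 L162891 (flp_f L157093) (flp_b L108561) L157139
theorem L162899 : sm gg N19841 = N18622 := ded_31_3 (flp_f L143627) (flp_b L103364) (flp_g L88748) (flp_f L37261) (flp_b L17838) (flp_g L8677) L8673 L17830 L37251 L88708 L103278 L143379 (flp_f L162893) (flp_b L157137)
theorem L162901 : sm gc N18554 = N19843 := ded_20_1 (flp_f L157145) (flp_c L157141) L162897
theorem L162903 : sm gd N18622 = N19842 := ded_23_3 L162897 L143247 L143627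
theorem L162905 : sm gd N15468 = N20769 := rfl
theorem L162907 : sm ga N20769 = N15476 := ded_9_1 (flp_d L113008) (flp_a L112962) L162905
theorem L162909 : sm gb N20769 = N20667 := ded_14_1 (flp_d L162257) (flp_b L112964) L162905
theorem L162911 : sm gf N20769 = N18383 := ded_23_2 L130046 L120449 L162905
theorem L162913 : sm ge N20769 = N15471 := ded_22_2 (flp_d L112984) (flp_e L94018) L94008 L112960 L162905
theorem L162915 : sm gg N15468 = N20770 := rfl
theorem L162917 : sm ga N20770 = N15478 := ded_12_1 (flp_g L113018) (flp_a L112962) L162915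
theorem L162919 : sm gc N20770 = N15478 := ded_21_1 (flp_g L113018) (flp_c L112966) L162915
theorem L162921 : sm ge N20770 = N15470 := ded_26_1 (flp_g L112976) L112960 L162915
theorem L162923 : sm gg N15471 = N20771 := rfl
theorem L162925 : sm ga N20771 = N15484 := ded_12_1 (flp_g L113050) (flp_a L112986) L162923
theorem L162927 : sm gc N20771 = N19198 := ded_21_1 L152440 L151858 L162923
theorem L162929 : sm gd N20771 = N15473 := ded_24_1 (flp_g L112996) L112984 L162923
theorem L162931 : sm gb N20771 = N20099 := ded_17_1 L158724 (flp_b L162283) L162281 L142917 L162923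
theorem L162933 : sm gc N15476 = N20772 := rfl
theorem L162935 : sm ge N20772 = N15482 := ded_19_2 (flp_c L113044) (flp_e L113012) L162933
theorem L162937 : sm gb N20772 = N18175 := ded_13_1 L128673 L119751 (flp_c L109551) (flp_b L113010) L162933
theorem L162939 : sm gf N18701 = N20772 := ded_30_0 (flp_c L162933) L113010 L94084 (flp_f L109545) (flp_c L109551) (flp_b L113010) (flp_a L162907) L162911 L130050 (flp_b L117039) L96101 (flp_f L95644) (flp_c L95642) L84487 (flp_a L95638) L95640 L96099 L117039 L144153
theorem L162941 : sm gf N15476 = N20773 := rfl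
theorem L162943 : sm ga N20773 = N18383 := ded_11_1 (flp_f L162911) L162907 L162941
theorem L162945 : sm gc N20773 = N18701 := ded_20_1 L162939 (flp_c L162933) L162941
theorem L162947 : sm gd N20773 = N15477 := ded_23_1 (flp_f L113014) L113008 L162941
theorem L162949 : sm ge N20773 = N15483 := ded_25_1 (flp_f L113046) (flp_e L113012) L162941
theorem L162951 : sm gb N20773 = N18708 := ded_16_1 L144161 L119749 L109707 (flp_b L113010) L162941
theorem L162953 : sm gg N15476 = N20774 := rfl
theorem L162955 : sm gd N20774 = N15478 := ded_24_1 (flp_g L113018) L113008 L162953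
theorem L162957 : sm ge N20774 = N15484 := ded_26_1 (flp_g L113050) (flp_e L113012) L162953
theorem L162959 : sm gg N15477 = N20775 := rfl
theorem L162961 : sm ga N20775 = N18399 := ded_12_1 (flp_g L130166) L120453 L162959
theorem L162963 : sm gc N20775 = N18399 := ded_21_1 (flp_g L130166) L120451 L162959
theorem L162965 : sm ge N20775 = N15479 := ded_26_1 (flp_g L113022) (flp_e L113016) L162959
theorem L162967 : sm gf N20770 = N20775 := ded_29_0 (flp_g L162959) (flp_f L113014) L113018 (flp_a L162917)
theorem L162969 : sm gb N15478 = N20776 := rfl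
theorem L162971 : sm ge N20776 = N15480 := ded_15_2 (flp_b L113028) (flp_e L113020) L162969
theorem L162973 : sm gg N20776 = N15494 := ded_17_2 (flp_b L113106) (flp_g L94088) (flp_b L94038) L113018 L162969
theorem L162975 : sm gb N15479 = N20777 := rfl
theorem L162977 : sm gd N20777 = N15488 := ded_14_2 (flp_b L113078) (flp_d L113024) L162975
theorem L162979 : sm gc N20777 = N19022 := ded_13_2 (flp_b L145975) L146062 (flp_b L143295) L120092 L162975
theorem L162981 : sm gf N20777 = N15563 := ded_16_2 L146205 L145989 L146001 L113026 L162975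
theorem L162983 : sm gg N15482 = N20778 := rfl
theorem L162985 : sm ga N20778 = N19198 := ded_12_1 L152440 L151862 L162983
theorem L162987 : sm gc N20778 = N15484 := ded_21_1 (flp_g L113050) L113044 L162983
theorem L162989 : sm gd N20778 = N19019 := ded_24_1 (flp_g L145933) L120355 L162983
theorem L162991 : sm gb N20778 = N19214 := ded_17_1 (flp_g L152530) (flp_b L129020) L102225 (flp_b L119755) L162983
theorem L162993 : sm gg N15483 = N20779 := rfl
theorem L162995 : sm gc N20779 = N19019 := ded_21_1 (flp_g L145933) L120361 L162993
theorem L162997 : sm gd N20779 = N15485 := ded_24_1 (flp_g L113054) (flp_d L113048) L162993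
theorem L162999 : sm gf N20771 = N20779 := ded_29_0 (flp_g L162993) (flp_f L113046) L113050 (flp_a L162925)
theorem L163001 : sm gb N20779 = N15560 := ded_17_1 L113470 L148465 (flp_g L145955) (flp_b L119759) L162993
theorem L163003 : sm gb N15484 = N20780 := rfl
theorem L163005 : sm gd N20780 = N15486 := ded_14_2 (flp_b L113062) (flp_d L113052) L163003
theorem L163007 : sm gg N20780 = N15499 := ded_17_2 (flp_b L113128) (flp_g L94112) (flp_b L94050) L113050 L163003
theorem L163009 : sm ga N20780 = N18625 := ded_7_1 (flp_b L162422) L162418 L112486 (flp_a L123648) (flp_b L130514) (flp_a L158718) (flp_b L162931) L162925 L163003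
theorem L163011 : sm gf N18623 = N20780 := ded_29_0 L163007 L143649 (flp_g L143643) L143631
theorem L163013 : sm gf N15484 = N20781 := rfl
theorem L163015 : sm ga N20781 = N20779 := ded_11_1 (flp_f L162999) L162925 L163013
theorem L163017 : sm gd N20781 = N15487 := ded_23_1 (flp_f L113068) (flp_d L113052) L163013
theorem L163019 : sm gg N20781 = N15635 := ded_29_3 L120459 (flp_f L113046) L113050 L163013
theorem L163021 : sm ga N15486 = N20782 := rfl
theorem L163023 : sm gd N20782 = N18625 := ded_9_2 (flp_a L163009) L163005 L163021
theorem L163025 : sm ge N20782 = N15489 := ded_10_2 (flp_a L113080) (flp_e L113064) L163021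
theorem L163027 : sm gg N20782 = N15500 := ded_12_2 (flp_a L113132) (flp_g L113066) L163021
theorem L163029 : sm gf N20782 = N18555 := ded_29_0 (flp_g L143269) (flp_f L113142) (flp_g L113066) L163021
theorem L163031 : sm gb N20782 = N20765 := ded_7_2 L162849 L112920 (flp_a L124359) (flp_b L149245) L148081 (flp_b L149504) L112998 L113062 L163021
theorem L163033 : sm gc N15486 = N20783 := rfl
theorem L163035 : sm ge N20783 = N15490 := ded_19_2 (flp_c L113084) (flp_e L113064) L163033
theorem L163037 : sm gg N20783 = N15501 := ded_21_2 (flp_c L113136) (flp_g L113066) L163033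
theorem L163039 : sm gb N20783 = N15643 := ded_13_1 (flp_c L113867) (flp_b L94520) (flp_c L94060) L113062 L163033
theorem L163041 : sm gf N15486 = N20784 := rfl
theorem L163043 : sm ga N20784 = N18555 := ded_11_1 (flp_f L163029) (flp_a L163021) L163041
theorem L163045 : sm gd N20784 = N18623 := ded_23_1 L163011 L163005 L163041
theorem L163047 : sm ge N20784 = N15491 := ded_25_1 (flp_f L113090) (flp_e L113064) L163041
theorem L163049 : sm gb N15487 = N20785 := rfl
theorem L163051 : sm ge N20785 = N15492 := ded_15_2 (flp_b L113092) (flp_e L113074) L163049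
theorem L163053 : sm gg N20785 = N15579 := ded_17_2 L150782 (flp_g L143041) L119892 L120156 L163049
theorem L163055 : sm ga N20785 = N15581 := ded_7_1 L147437 L99155 (flp_b L94132) (flp_a L113156) L148463 (flp_a L94327) (flp_b L149049) (flp_a L113070) L163049
theorem L163057 : sm gb N15489 = N20786 := rfl
theorem L163059 : sm gd N20786 = N18516 := ded_14_2 (flp_b L143553) L143551 L163057
theorem L163061 : sm ge N20786 = N20765 := ded_15_2 (flp_b L163031) L163025 L163057
theorem L163063 : sm gg N20786 = N18490 := ded_17_2 (flp_b L142893) L103186 L143433 (flp_g L113082) L163057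
theorem L163065 : sm ga N20786 = N15688 := ded_7_1 (flp_b L133819) (flp_a L149496) (flp_b L109089) (flp_a L109071) L148120 L94032 L94070 L113080 L163057
theorem L163067 : sm gf N15692 = N20786 := ded_31_1 (flp_b L163057) L113082 L113154 L148463 (flp_g L94319) (flp_f L47386) (flp_b L22822) (flp_g L21408) (flp_f L77870) L86186 L99357 L124784 (flp_b L149630) L142907
theorem L163069 : sm gc N15687 = N20786 := ded_21_3 L163063 (flp_c L142899) L114103
theorem L163071 : sm gc N15489 = N20787 := rfl
theorem L163073 : sm ga N20787 = N15490 := ded_8_1 (flp_c L113084) L113080 L163071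
theorem L163075 : sm gg N20787 = N15504 := ded_21_2 (flp_c L113150) (flp_g L113082) L163071
theorem L163077 : sm gd N15490 = N20788 := rfl
theorem L163079 : sm gb N20788 = N15651 := ded_14_1 (flp_d L113897) (flp_b L113088) L163077
theorem L163081 : sm gg N20788 = N15506 := ded_24_2 (flp_d L113160) (flp_g L113086) L163077
theorem L163083 : sm gf N15490 = N20789 := rfl
theorem L163085 : sm gc N20789 = N15491 := ded_20_1 (flp_f L113090) L113084 L163083
theorem L163087 : sm gc N15492 = N20790 := rfl
theorem L163089 : sm ga N20790 = N15586 := ded_8_1 L113594 (flp_a L149620) L163087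
theorem L163091 : sm gg N20790 = N15583 := ded_21_2 (flp_c L113578) (flp_g L149624) L163087
theorem L163093 : sm gb N20790 = N15655 := ded_13_1 (flp_c L113911) (flp_b L94546) (flp_c L94078) L113092 L163087
theorem L163095 : sm gb N15493 = N20791 := rfl
theorem L163097 : sm gd N20791 = N15494 := ded_14_2 (flp_b L113106) (flp_d L113100) L163095
theorem L163099 : sm ge N20791 = N15499 := ded_15_2 (flp_b L113128) (flp_e L113102) L163095
theorem L163101 : sm gc N15494 = N20792 := rfl
theorem L163103 : sm ge N20792 = N15496 := ded_19_2 (flp_c L113114) (flp_e L113108) L163101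
theorem L163105 : sm gb N20792 = N18848 := ded_13_1 L144937 (flp_b L112394) (flp_c L94092) L113106 L163101
theorem L163107 : sm gf N18853 = N20792 := ded_25_0 L163103 L143419 (flp_e L144969)
theorem L163109 : sm gf N15494 = N20793 := rfl
theorem L163111 : sm gc N20793 = N18853 := ded_20_1 L163107 (flp_c L163101) L163109
theorem L163113 : sm ge N20793 = N15497 := ded_25_1 (flp_f L113118) (flp_e L113108) L163109
theorem L163115 : sm gb N20793 = N17363 := ded_16_1 (flp_f L124485) L99171 L94096 L113106 L163109
theorem L163117 : sm gg N15497 = N20794 := rfl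
theorem L163119 : sm ga N20794 = N19035 := ded_12_1 L146058 (flp_a L143501) L163117
theorem L163121 : sm gc N20794 = N19034 := ded_21_1 (flp_g L146048) L143411 L163117
theorem L163123 : sm gd N20794 = N15508 := ded_24_1 (flp_g L113170) (flp_d L113120) L163117
theorem L163125 : sm gf N18607 = N20794 := ded_29_0 (flp_g L163117) (flp_f L113118) (flp_g L113032) (flp_a L143549)
theorem L163127 : sm gb N16689 = N20794 := ded_13_5 L163121 (flp_b L152136) L153745 L121234 L121244
theorem L163129 : N18319 = N16689 := coi_14_3 L163127 L163123 L143277 L143121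
theorem L163130 : N18319 = N16689 := eqc rfl L163129 rfl
theorem L163131 : sm ga N16689 = N13387 := trfs L163130 (flp_a L129692) rfl
theorem L163132 : N13387 = N12448 := eqes L163131 L121246
theorem L163133 : N13387 = N12448 := eqc rfl L163132 rfl
theorem L163134 : sm gd N16689 = N18532 := trfs L163130 (flp_d L143121) rfl
theorem L163135 : N18532 = N15205 := eqes L163134 (flp_d L121248)
theorem L163136 : N18532 = N15205 := eqc rfl L163135 rfl
theorem L163137 : sm ge N16689 = N18396 := trfs L163130 (flp_e L130151) rfl
theorem L163139 : sm ga N15205 = N13524 := trfs L163136 (flp_a L143119) rfl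
theorem L163140 : N13524 = N16694 := eqes L163139 (flp_a L121269)
theorem L163141 : N16694 = N13524 := (eqc rfl L163140 rfl).symm
theorem L163142 : sm gb N15205 = N15508 := trfs L163136 (flp_b L143277) rfl
theorem L163143 : N15508 = N20529 := eqes L163142 L161466
theorem L163144 : N20529 = N15508 := (eqc rfl L163143 rfl).symm
theorem L163145 : sm ge N15205 = N13542 := trfs L163136 L143123 rfl
theorem L163146 : N13542 = N20530 := eqes L163145 L161468
theorem L163147 : N20530 = N13542 := (eqc rfl L163146 rfl).symm
theorem L163148 : sm gg N15205 = N17372 := trfs L163136 L143273 rfl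
theorem L163149 : N17372 = N20516 := eqes L163148 (flp_g L161412)
theorem L163150 : N20516 = N17372 := (eqc rfl L163149 rfl).symm
theorem L163151 : sm gc N17372 = N15199 := trfs L163150 (flp_c L161410) rfl
theorem L163153 : sm gg N17372 = N15205 := trfs L163150 L161412 rfl
theorem L163155 : sm gc N13542 = N15206 := trfs L163147 L161470 rfl
theorem L163156 : N15206 = N18556 := eqes L163155 L143253
theorem L163157 : N18556 = N15206 := (eqc rfl L163156 rfl).symm
theorem L163158 : sm ge N13542 = N15205 := trfs L163147 (flp_e L161468) rfl
theorem L163160 : sm ga N15206 = N13543 := trfs L163157 L143255 rfl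
theorem L163161 : N13543 = N20526 := eqes L163160 (flp_a L161452)
theorem L163162 : N20526 = N13543 := (eqc rfl L163161 rfl).symm
theorem L163163 : sm gc N15206 = N13542 := trfs L163157 (flp_c L143253) rfl
theorem L163165 : sm gg N15206 = N17421 := trfs L163157 (flp_g L148872) rfl
theorem L163166 : N17421 = N20517 := eqes L163165 (flp_g L161416)
theorem L163167 : N20517 = N17421 := (eqc rfl L163166 rfl).symm
theorem L163168 : sm ge N17421 = N15199 := trfs L163167 (flp_e L161414) rfl
theorem L163170 : sm gg N17421 = N15206 := trfs L163167 L161416 rfl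
theorem L163172 : sm ga N13543 = N15206 := trfs L163162 L161452 rfl
theorem L163174 : sm ge N13543 = N15203 := trfs L163162 (flp_e L161450) rfl
theorem L163175 : N15203 = N18533 := eqes L163174 (flp_e L143127)
theorem L163176 : N18533 = N15203 := (eqc rfl L163175 rfl).symm
theorem L163177 : sm gb N15203 = N14660 := trfs L163176 L143129 rfl
theorem L163178 : N14660 = N20523 := eqes L163177 (flp_b L161444)
theorem L163179 : N20523 = N14660 := (eqc rfl L163178 rfl).symm
theorem L163182 : sm ge N15203 = N13543 := trfs L163176 L143127 rfl
theorem L163184 : sm gb N14660 = N15203 := trfs L163179 L161444 rfl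
theorem L163186 : sm gd N14660 = N15202 := trfs L163179 (flp_d L161442) rfl
theorem L163187 : N15202 = N19895 := eqes L163186 L157451
theorem L163188 : N19895 = N15202 := (eqc rfl L163187 rfl).symm
theorem L163189 : sm gc N15202 = N20567 := trfs L163188 (flp_c L161689) rfl
theorem L163190 : N20567 = N20520 := eqes L163189 (flp_c L161432)
theorem L163191 : N20567 = N20520 := eqc rfl L163190 rfl
theorem L163192 : sm gd N15202 = N14660 := trfs L163188 (flp_d L157451) rfl
theorem L163194 : sm gd N20520 = N15234 := trfs L163191 (flp_d L161685) rfl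
theorem L163196 : sm gg N20520 = N16832 := trfs L163191 L161687 rfl
theorem L163198 : sm gb N15508 = N15205 := trfs L163144 (flp_b L161466) rfl
theorem L163200 : sm ga N13524 = N15205 := trfs L163141 L121269 rfl
theorem L163202 : sm gc N13524 = N15203 := trfs L163141 (flp_c L121271) rfl
theorem L163206 : sm gb N12448 = N10690 := trfs L163133 (flp_b L102428) rfl
theorem L163207 : N10690 = N16693 := eqes L163206 L121264
theorem L163208 : N16693 = N10690 := (eqc rfl L163207 rfl).symm
theorem L163212 : sm gd N12448 = N13524 := trfs L163133 (flp_d L103118) rfl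
theorem L163214 : sm ge N12448 = N13431 := trfs L163133 (flp_e L102635) rfl
theorem L163215 : N13431 = N16695 := eqes L163214 L121273
theorem L163216 : N16695 = N13431 := (eqc rfl L163215 rfl).symm
theorem L163217 : sm gf N12448 = N18321 := trfs L163133 L129697 rfl
theorem L163218 : N18321 = N16696 := eqes L163217 L121277
theorem L163219 : N18321 = N16696 := eqc rfl L163218 rfl
theorem L163220 : sm gg N12448 = N18318 := trfs L163133 (flp_g L129690) rfl
theorem L163221 : N18318 = N16678 := eqes L163220 (flp_g L121204)
theorem L163222 : N18318 = N16678 := eqc rfl L163221 rfl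
theorem L163223 : sm gb N16678 = N13386 := trfs L163222 (flp_b L129688) rfl
theorem L163225 : sm gd N16678 = N18534 := trfs L163222 (flp_d L143133) rfl
theorem L163227 : sm ge N16678 = N18398 := trfs L163222 (flp_e L130162) rfl
theorem L163229 : sm gb N16696 = N18314 := trfs L163219 L129699 rfl
theorem L163231 : sm gd N16696 = N18530 := trfs L163219 (flp_d L143105) rfl
theorem L163233 : sm ge N16696 = N18394 := trfs L163219 (flp_e L130135) rfl
theorem L163235 : sm gc N13431 = N12449 := trfs L163216 L121275 rfl
theorem L163236 : N12449 = N18397 := eqes L163235 L130153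
theorem L163237 : N18397 = N12449 := (eqc rfl L163236 rfl).symm
theorem L163238 : sm ge N13431 = N12448 := trfs L163216 (flp_e L121273) rfl
theorem L163241 : sm gc N12449 = N13431 := trfs L163237 (flp_c L130153) rfl
theorem L163245 : sm gb N10690 = N12448 := trfs L163208 (flp_b L121264) rfl
theorem L163248 : sm gc N18396 = N16690 := ded_19_1 (flp_e L121250) L121244 L163137
theorem L163250 : sm gc N20515 = N18534 := ded_8_2 L143271 L163151 (flp_a L161406)
theorem L163252 : N20510 = N17607 := coi_13_2 (flp_c L125739) (flp_b L99994) (flp_c L99199) L124537 L163151 (flp_b L161380)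
theorem L163253 : N20510 = N17607 := eqc rfl L163252 rfl
theorem L163254 : sm gb N17607 = N15199 := trfs L163253 L161380 rfl
theorem L163256 : sm gd N17607 = N15195 := trfs L163253 (flp_d L161378) rfl
theorem L163258 : sm ge N20531 = N18551 := ded_25_3 L143235 L163158 L161472
theorem L163260 : sm gc N18551 = N20532 := ded_20_3 (flp_f L161476) L163163 (flp_f L143235)
theorem L163262 : sm gc N20227 = N18615 := ded_28_2 L149305 (flp_c L143667) (flp_d L103378) (flp_c L88756) (flp_d L88682) L103208 (flp_c L163163) (flp_d L159607)
theorem L163264 : sm ge N20515 = N18559 := ded_10_2 (flp_a L148874) L163168 (flp_a L161406)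
theorem L163266 : sm ga N20227 = N18558 := ded_9_3 (flp_d L143279) L163172 (flp_d L159607)
theorem L163268 : sm ga N20532 = N18552 := ded_11_3 L143239 L163172 L161476
theorem L163270 : sm ge N18552 = N20527 := ded_25_3 (flp_f L161454) L163182 (flp_f L143239)
theorem L163272 : sm ge N18558 = N20224 := ded_22_2 (flp_d L159589) L110471 L111689 L163182 L143279
theorem L163274 : sm gb N20531 = N15692 := ded_30_6 L114079 (flp_f L114065) (flp_c L114063) (flp_b L94608) (flp_a L94596) (flp_f L94594) L94590 L114019 (flp_a L157739) L157789 L157787 L157449 L157441 (flp_f L108887) L108883 L163184 L111691 L111705 (flp_c L161474)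
theorem L163276 : sm gd N19893 = N20522 := ded_9_2 (flp_a L161440) L163192 (flp_a L157435)
theorem L163278 : sm gd N19896 = N20524 := ded_23_3 (flp_f L161446) L163192 L157453
theorem L163280 : sm gd N19890 = N20525 := ded_24_3 (flp_g L161448) L163192 (flp_g L157415)
theorem L163282 : sm gd N19923 = N20223 := ded_22_5 L159587 L163192 L108885 L109035 L157659
theorem L163284 : N20566 = N20521 := coi_14_2 (flp_d L161434) L161430 L163194 L161681
theorem L163285 : N20566 = N20521 := eqc rfl L163284 rfl
theorem L163286 : sm gb N20521 = N15234 := trfs L163285 (flp_b L161681) rfl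
theorem L163288 : sm gc N20521 = N15235 := trfs L163285 L161683 rfl
theorem L163289 : N15235 = N19904 := eqes L163288 L161438
theorem L163290 : N19904 = N15235 := (eqc rfl L163289 rfl).symm
theorem L163291 : sm gc N15235 = N20521 := trfs L163290 (flp_c L161438) rfl
theorem L163293 : sm gd N15235 = N14670 := trfs L163290 (flp_d L157533) rfl
theorem L163294 : N14670 = N20569 := eqes L163293 L161693
theorem L163295 : N20569 = N14670 := (eqc rfl L163294 rfl).symm
theorem L163296 : sm gb N14670 = N15236 := trfs L163295 L161695 rfl
theorem L163297 : N15236 = N18526 := eqes L163296 (flp_b L143071)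
theorem L163298 : N18526 = N15236 := (eqc rfl L163297 rfl).symm
theorem L163299 : sm gd N14670 = N15235 := trfs L163295 (flp_d L161693) rfl
theorem L163301 : sm gb N15236 = N14670 := trfs L163298 L143071 rfl
theorem L163303 : sm gc N15236 = N13520 := trfs L163298 (flp_c L143067) rfl
theorem L163304 : N13520 = N16770 := eqes L163303 L121602
theorem L163305 : N16770 = N13520 := (eqc rfl L163304 rfl).symm
theorem L163306 : sm ge N15236 = N13533 := trfs L163298 L143069 rfl
theorem L163307 : N13533 = N20572 := eqes L163306 L161701
theorem L163308 : N20572 = N13533 := (eqc rfl L163307 rfl).symm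
theorem L163309 : sm ga N13533 = N15239 := trfs L163308 L161703 rfl
theorem L163310 : N15239 = N18541 := eqes L163309 (flp_a L143169)
theorem L163311 : N18541 = N15239 := (eqc rfl L163310 rfl).symm
theorem L163312 : sm ge N13533 = N15236 := trfs L163308 (flp_e L161701) rfl
theorem L163314 : sm ga N15239 = N13533 := trfs L163311 L143169 rfl
theorem L163316 : sm gc N15239 = N13532 := trfs L163311 (flp_c L143167) rfl
theorem L163317 : N13532 = N20576 := eqes L163316 (flp_c L161721)
theorem L163318 : N20576 = N13532 := (eqc rfl L163317 rfl).symm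
theorem L163319 : sm gf N15239 = N17344 := trfs L163311 L143171 rfl
theorem L163320 : N17344 = N20563 := eqes L163319 (flp_f L161667)
theorem L163321 : N20563 = N17344 := (eqc rfl L163320 rfl).symm
theorem L163322 : sm ge N17344 = N15232 := trfs L163321 (flp_e L161665) rfl
theorem L163324 : sm gf N17344 = N15239 := trfs L163321 L161667 rfl
theorem L163326 : sm gc N13532 = N15239 := trfs L163318 L161721 rfl
theorem L163328 : sm ge N13532 = N15238 := trfs L163318 (flp_e L161719) rfl
theorem L163329 : N15238 = N18525 := eqes L163328 (flp_e L143063)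
theorem L163330 : N18525 = N15238 := (eqc rfl L163329 rfl).symm
theorem L163333 : sm gb N15238 = N15587 := trfs L163330 L148613 rfl
theorem L163334 : N15587 = N20575 := eqes L163333 L161717
theorem L163335 : N20575 = N15587 := (eqc rfl L163334 rfl).symm
theorem L163336 : sm gd N15238 = N18327 := trfs L163330 L143061 rfl
theorem L163337 : N18327 = N16765 := eqes L163336 L121579
theorem L163338 : N18327 = N16765 := eqc rfl L163337 rfl
theorem L163339 : sm ge N15238 = N13532 := trfs L163330 L143063 rfl
theorem L163341 : sm gf N15238 = N17346 := trfs L163330 (flp_f L143065) rfl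
theorem L163342 : N17346 = N20562 := eqes L163341 (flp_f L161663)
theorem L163343 : N20562 = N17346 := (eqc rfl L163342 rfl).symm
theorem L163344 : sm gc N17346 = N15232 := trfs L163343 (flp_c L161661) rfl
theorem L163346 : sm gf N17346 = N15238 := trfs L163343 L161663 rfl
theorem L163348 : sm ga N16765 = N13391 := trfs L163338 (flp_a L129722) rfl
theorem L163349 : N13391 = N12488 := eqes L163348 L121577
theorem L163350 : N13391 = N12488 := eqc rfl L163349 rfl
theorem L163351 : sm ge N16765 = N18388 := trfs L163338 (flp_e L130090) rfl
theorem L163353 : sm gb N12488 = N10692 := trfs L163350 (flp_b L102441) rfl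
theorem L163354 : N10692 = N16769 := eqes L163353 L121595
theorem L163355 : N16769 = N10692 := (eqc rfl L163354 rfl).symm
theorem L163361 : sm ge N12488 = N13427 := trfs L163350 (flp_e L102618) rfl
theorem L163362 : N13427 = N16771 := eqes L163361 L121604
theorem L163363 : N16771 = N13427 := (eqc rfl L163362 rfl).symm
theorem L163364 : sm gf N12488 = N18326 := trfs L163350 (flp_f L129720) rfl
theorem L163365 : N18326 = N16753 := eqes L163364 (flp_f L121533)
theorem L163366 : N18326 = N16753 := eqc rfl L163365 rfl
theorem L163367 : sm gg N12488 = N18329 := trfs L163350 L129727 rfl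
theorem L163368 : N18329 = N16772 := eqes L163367 L121608
theorem L163369 : N18329 = N16772 := eqc rfl L163368 rfl
theorem L163370 : sm gb N16772 = N18311 := trfs L163369 L129729 rfl
theorem L163372 : sm gd N16772 = N18524 := trfs L163369 (flp_d L143053) rfl
theorem L163374 : sm ge N16772 = N18386 := trfs L163369 (flp_e L130074) rfl
theorem L163376 : sm gb N16753 = N13390 := trfs L163366 (flp_b L129718) rfl
theorem L163378 : sm gd N16753 = N18527 := trfs L163366 (flp_d L143077) rfl
theorem L163380 : sm ge N16753 = N18390 := trfs L163366 (flp_e L130101) rfl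
theorem L163382 : sm gc N13427 = N12489 := trfs L163363 L121606 rfl
theorem L163383 : N12489 = N18389 := eqes L163382 L130092
theorem L163384 : N18389 = N12489 := (eqc rfl L163383 rfl).symm
theorem L163385 : sm ge N13427 = N12488 := trfs L163363 (flp_e L121604) rfl
theorem L163388 : sm gc N12489 = N13427 := trfs L163384 (flp_c L130092) rfl
theorem L163392 : sm gb N10692 = N12488 := trfs L163355 (flp_b L121595) rfl
theorem L163395 : sm gb N15587 = N15238 := trfs L163335 (flp_b L161717) rfl
theorem L163397 : sm ga N13520 = N15238 := trfs L163305 L121600 rfl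
theorem L163399 : sm gc N13520 = N15236 := trfs L163305 (flp_c L121602) rfl
theorem L163401 : sm gd N13520 = N12488 := trfs L163305 (flp_d L121598) rfl
theorem L163403 : sm gc N16832 = N20525 := ded_21_1 (flp_g L161448) (flp_c L161432) L163196
theorem L163405 : sm gb N16832 = N17268 := ded_17_1 L124015 (flp_b L123956) L122623 L161430 L163196
theorem L163407 : sm ga N20531 = N18530 := ded_11_3 L143109 L163200 L161472
theorem L163409 : sm gc N16890 = N15639 := ded_30_9 (flp_b L113843) L119975 (flp_f L94518) (flp_c L113000) L149504 (flp_a L148081) (flp_f L108915) (flp_c L91832) (flp_b L44115) (flp_a L42952) L44113 (flp_c L88648) L103116 L163200 L161472 L161474 (flp_b L150936) L122244 (flp_f L122234)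
theorem L163411 : sm gc N20527 = N18530 := ded_20_3 L143109 L163202 L161454

end Cfsg.Agent.Helper28.SzbA
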