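import Cfsg.Agent.Helper28.SzbB14

/-! # The Suzuki group presentation, cosets of the subgroup generated by a, b, c, d, f, g: the coset enumeration, part 15 (helper28; generated) -/

set_option autoImplicit false

noncomputable section

namespace Cfsg.Agent.Helper28.SzbA

open Cfsg.Agent.Helper28.CosetTable

theorem L163413 : sm gc N18398 = N16679 := ded_19_1 (flp_e L121206) L121202 L163227
theorem L163415 : sm gc N18394 = N16697 := ded_19_1 L121283 (flp_c L121279) L163233
theorem L163417 : sm gb N17397 = N20515 := ded_13_5 L163250 L143137 L119005 L148864 (flp_c L124666)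
theorem L163419 : sm gd N20508 = N17735 := ded_9_2 L148868 L163256 (flp_a L161362)
theorem L163421 : sm gd N20511 = N17732 := ded_23_3 L148870 L163256 L161382
theorem L163423 : sm gc N20504 = N17743 := ded_28_2 (flp_d L126390) (flp_c L100347) (flp_d L147204) L125739 L163256 (flp_a L161362) (flp_c L161360) (flp_d L161350)
theorem L163425 : N17811 = N20505 := coi_28_0 (flp_c L161352) L111651 L111655 (flp_d L163256) (flp_c L125739) L147204 L100347 L126390 L149662
theorem L163426 : N20505 = N17811 := (eqc rfl L163425 rfl).symm
theorem L163427 : sm gc N17811 = N15193 := trfs L163426 (flp_c L161352) rfl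
theorem L163429 : sm ge N18615 = N20226 := ded_19_2 (flp_c L159603) L159605 L163262
theorem L163431 : sm gb N18621 = N20227 := ded_13_5 L163262 (flp_b L143593) L103350 L103364 L143625
theorem L163433 : sm gb N20224 = N19923 := ded_15_1 (flp_e L157659) (flp_b L143281) L163272
theorem L163435 : sm gc N15691 = N16893 := ded_13_4 L150936 (flp_c L161474) L163274 (flp_c L114077) L114073
theorem L163437 : sm gb N17174 = N17023 := ded_16_5 (flp_f L161436) L163286 (flp_f L121719) (flp_b L151824) L123544
theorem L163439 : sm gc N17023 = N20570 := ded_20_3 (flp_f L161697) L163291 L161436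
theorem L163441 : sm gd N19902 = N20568 := ded_28_7 (flp_a L161691) L163291 (flp_d L161434) (flp_c L111683) L93279 L97323 (flp_d L151195) L157515
theorem L163443 : sm gd N20570 = N19899 := ded_23_3 L157497 L163299 L161697
theorem L163445 : sm gd N20571 = N19905 := ded_24_3 (flp_g L157535) L163299 L161699
theorem L163447 : sm gd N20257 = N19943 := ded_22_3 (flp_e L157793) (flp_d L109133) (flp_e L108943) L163299 (flp_e L159787)
theorem L163449 : sm ge N20561 = N18543 := ded_25_3 (flp_f L143177) L163312 (flp_f L161659)
theorem L163451 : sm ge N20573 = N18538 := ded_26_3 L143155 L163312 L161705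
theorem L163453 : sm ge N20258 = N18542 := ded_22_4 (flp_d L143173) L163312 (flp_d L111835) (flp_e L110571) L159789
theorem L163455 : sm ga N18542 = N20261 := ded_9_3 L159807 L163314 L143173
theorem L163457 : sm ga N18538 = N20578 := ded_12_3 (flp_g L161727) L163314 (flp_g L143155)
theorem L163459 : sm gc N18573 = N20261 := ded_28_6 L159807 L163314 (flp_c L103162) L88668 L88716 L103292 L143459 L151238
theorem L163461 : N20556 = N17531 := coi_15_2 L142406 (flp_b L124403) L163322 (flp_b L161631)
theorem L163462 : N20556 = N17531 := eqc rfl L163461 rfl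
theorem L163463 : sm gb N17531 = N15232 := trfs L163462 L161631 rfl
theorem L163465 : sm gd N17531 = N15228 := trfs L163462 (flp_d L161629) rfl
theorem L163467 : sm gc N20578 = N18537 := ded_21_3 L143151 L163326 L161727
theorem L163469 : sm ge N18537 = N20577 := ded_26_3 (flp_g L161723) L163339 (flp_g L143151)
theorem L163471 : sm gc N20561 = N18527 := ded_8_2 L143075 L163344 (flp_a L161657)
theorem L163473 : sm gc N18388 = N16766 := ded_19_1 (flp_e L121581) L121575 L163351
theorem L163475 : sm ga N18524 = N20577 := ded_28_8 L161725 L111853 L93387 L46471 (flp_c L85376) (flp_d L97525) (flp_c L121610) L163372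
theorem L163477 : sm gc N20573 = N18524 := ded_28_0 (flp_d L163372) L121610 L97525 L85376 (flp_d L46471) (flp_c L93387) (flp_d L111853) (flp_a L161707)
theorem L163479 : sm gc N18386 = N16773 := ded_19_1 L121614 (flp_c L121610) L163374
theorem L163481 : sm gc N18390 = N16754 := ded_19_1 (flp_e L121535) L121531 L163380
theorem L163483 : sm gf N20525 = N16830 := ded_20_2 (flp_c L121925) L121929 L163403
theorem L163485 : sm gd N17268 = N16833 := ded_14_2 (flp_b L121933) (flp_d L121931) L163405
theorem L163487 : sm gf N17257 = N16823 := ded_16_4 L121893 L121929 L163405 (flp_f L124009) (flp_b L123934)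
theorem L163489 : sm ge N15655 = N16890 := ded_19_0 L163409 L120161 L113911
theorem L163491 : sm gf N15639 = N16895 := ded_20_2 (flp_c L122254) (flp_f L122234) L163409
theorem L163493 : sm gg N15662 = N16890 := ded_21_0 L163409 L113847 L113947
theorem L163495 : sm gc N15642 = N17142 := ded_28_0 (flp_d L123369) (flp_c L98603) L85798 L97857 L122232 L163409 L113845 L113861
theorem L163497 : sm ga N17142 = N15643 := ded_28_8 (flp_c L113867) (flp_d L113845) (flp_c L163409) (flp_d L122232) (flp_c L97857) (flp_d L85798) L98603 L123369
theorem L163499 : sm gd N15643 = N17141 := ded_28_7 L123365 (flp_c L98603) L85798 L97857 L122232 L163409 L113845 L113867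
theorem L163501 : sm gd N20514 = N17397 := ded_14_0 L163417 (flp_d L161404) L161402
theorem L163503 : sm gf N17734 = N20508 := ded_23_0 L163419 (flp_f L126358) L126354
theorem L163505 : sm ga N17734 = N20511 := ded_9_3 L163421 L126344 L126354
theorem L163507 : N17809 = N20506 := coi_28_5 L161356 (flp_c L161384) L163421 L126344 (flp_c L100329) L86894 L86960 L100463 L126654
theorem L163508 : N20506 = N17809 := (eqc rfl L163507 rfl).symm
theorem L163509 : sm gb N17809 = N20586 := trfs L163508 (flp_b L161772) rfl
theorem L163511 : sm gd N17809 = N15196 := trfs L163508 L161356 rfl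
theorem L163513 : sm gf N17809 = N15193 := trfs L163508 (flp_f L161354) rfl
theorem L163515 : sm gb N20226 = N18428 := ded_15_1 L130336 L143593 L163429
theorem L163517 : sm gd N19862 = N18621 := ded_14_0 L163431 L159607 (flp_b L157245)
theorem L163519 : sm ge N19677 = N18621 := ded_15_0 L163431 (flp_e L159605) (flp_b L155896)
theorem L163521 : sm ga N16895 = N15691 := ded_8_3 L163435 L122244 L122254
theorem L163523 : N14251 = N20614 := coi_28_2 (flp_c L161952) (flp_d L112056) (flp_c L93524) L46533 L85533 L97921 (flp_a L122244) (flp_c L163435) L114075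
theorem L163524 : N20614 = N14251 := (eqc rfl L163523 rfl).symm
theorem L163525 : sm gc N14251 = N15279 := trfs L163524 (flp_c L161952) rfl
theorem L163526 : N15279 = N19098 := eqes L163525 (flp_c L153479)
theorem L163527 : N19098 = N15279 := (eqc rfl L163526 rfl).symm
theorem L163528 : sm gc N15279 = N14251 := trfs L163527 L153479 rfl
theorem L163530 : sm ge N15279 = N13893 := trfs L163527 (flp_e L151782) rfl
theorem L163531 : N13893 = N20615 := eqes L163530 L161954
theorem L163532 : N20615 = N13893 := (eqc rfl L163531 rfl).symm
theorem L163533 : sm gg N15279 = N15668 := trfs L163527 (flp_g L153477) rfl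
theorem L163534 : N15668 = N20616 := eqes L163533 L161956
theorem L163535 : N20616 = N15668 := (eqc rfl L163534 rfl).symm
theorem L163536 : sm gd N15668 = N15280 := trfs L163535 L161958 rfl
theorem L163538 : sm gg N15668 = N15279 := trfs L163535 (flp_g L161956) rfl
theorem L163540 : sm ge N13893 = N15279 := trfs L163532 (flp_e L161954) rfl
theorem L163542 : sm gc N15644 = N20613 := ded_28_0 (flp_d L161948) (flp_c L112052) L93522 L97865 L122242 (flp_c L163435) L114075 L151034
theorem L163544 : sm gd N15644 = N16895 := ded_28_7 L163521 L163435 (flp_d L122242) (flp_c L97865) (flp_d L93522) L112052 L161948 (flp_c L163542)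
theorem L163546 : sm gd N17024 = N17174 := ded_14_0 L163437 L122850 L122852
theorem L163548 : sm gg N17015 = N17163 := ded_17_4 L123492 L123540 L163437 (flp_g L122848) (flp_b L122812)
theorem L163550 : sm gg N20570 = N17021 := ded_21_2 (flp_c L122844) L122848 L163439
theorem L163552 : sm gb N19943 = N20258 := ded_14_1 (flp_d L159789) L159785 L163447
theorem L163554 : sm gb N17320 = N20561 := ded_15_3 L163449 (flp_b L149531) L142772
theorem L163556 : sm ge N20260 = N18573 := ded_19_0 L163459 (flp_e L159805) L159803
theorem L163558 : sm gb N20261 = N18580 := ded_13_1 (flp_c L143377) (flp_b L103278) (flp_c L103264) L143353 L163459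
theorem L163560 : sm gd N20554 = N17559 := ded_9_2 (flp_a L149670) L163465 (flp_a L161613)
theorem L163562 : sm gd N20557 = N17556 := ded_24_3 (flp_g L149654) L163465 L161633
theorem L163564 : sm gc N20550 = N17567 := ded_28_2 (flp_d L125578) (flp_c L99923) (flp_d L99834) L125404 L163465 (flp_a L161613) (flp_c L161611) (flp_d L161601)
theorem L163566 : N17635 = N20551 := coi_28_0 (flp_c L161603) L111797 L111801 (flp_d L163465) (flp_c L125404) L99834 L99923 L125578 L149668
theorem L163567 : N20551 = N17635 := (eqc rfl L163566 rfl).symm
theorem L163568 : sm gc N17635 = N15226 := trfs L163567 (flp_c L161603) rfl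
theorem L163570 : sm gb N20577 = N15820 := ded_15_1 L137260 L150784 L163469
theorem L163572 : sm gf N16833 = N17266 := ded_23_2 L124001 L124009 L163485
theorem L163574 : sm gd N16824 = N17257 := ded_23_3 L163487 (flp_d L121891) L121895
theorem L163576 : sm gf N16896 = N15655 := ded_25_0 L163489 L122234 L122256
theorem L163578 : sm ge N16895 = N15653 := ded_25_1 L113907 (flp_e L120161) L163491
theorem L163580 : sm gb N16895 = N15644 := ded_16_1 (flp_f L113873) (flp_b L94520) (flp_f L119986) L113843 L163491
theorem L163582 : sm gd N16891 = N15662 := ded_24_3 L163493 (flp_d L122232) L122236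
theorem L163584 : sm ge N17142 = N15650 := ded_19_2 (flp_c L113891) (flp_e L113863) L163495
theorem L163586 : sm gg N17142 = N15665 := ded_21_2 (flp_c L113957) (flp_g L113865) L163495
theorem L163588 : sm gf N15643 = N20613 := ded_11_2 L161950 (flp_f L123371) L163497
theorem L163590 : N20618 = N15667 := coi_24_3 (flp_d L113971) (flp_g L113871) L163499 (flp_g L161970)
theorem L163591 : N20618 = N15667 := eqc rfl L163590 rfl
theorem L163592 : sm ga N15667 = N17143 := trfs L163591 L161966 rfl
theorem L163594 : sm gc N15667 = N15281 := trfs L163591 L161968 rfl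
theorem L163596 : sm gf N15667 = N15280 := trfs L163591 (flp_f L161964) rfl
theorem L163598 : sm gg N15667 = N17141 := trfs L163591 L161970 rfl
theorem L163600 : sm ga N17398 = N20514 := ded_9_3 L163501 (flp_a L124664) L124668
theorem L163602 : sm gc N20509 = N17734 := ded_20_3 L163503 (flp_c L161360) L161364
theorem L163604 : sm gc N20586 = N15707 := ded_13_2 L114149 L94672 (flp_b L100465) L126654 L163509
theorem L163606 : sm gc N18432 = N19677 := ded_13_4 L155896 L159603 L163515 L130334 L130356
theorem L163608 : sm gc N19445 = N20609 := ded_13_4 L161930 L163528 (flp_b L106715) L106717 L154220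
theorem L163610 : sm gd N20617 = N17323 := ded_14_2 L142780 L163536 L161960
theorem L163612 : sm gd N20335 = N18781 := ded_22_3 L144555 (flp_d L153431) (flp_e L113979) L163536 (flp_e L160302)
theorem L163614 : sm ge N20613 = N15652 := ded_10_2 L153453 L163540 (flp_a L161950)
theorem L163616 : sm ge N20609 = N18520 := ded_15_2 L143027 L163540 (flp_b L161930)
theorem L163618 : N20334 = N13694 := coi_22_4 L103963 L105003 L163540 (flp_d L112056) (flp_e L110893) L160296
theorem L163619 : N20334 = N13694 := eqc rfl L163618 rfl
theorem L163620 : sm gd N13694 = N15059 := trfs L163619 (flp_d L160296) rfl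
theorem L163621 : N15059 = N18780 := eqes L163620 L144549
theorem L163622 : N18780 = N15059 := (eqc rfl L163621 rfl).symm
theorem L163623 : sm gd N15059 = N13694 := trfs L163622 (flp_d L144549) rfl
theorem L163625 : sm gg N17172 = N17024 := ded_24_0 L163546 (flp_g L123540) (flp_d L123532)
theorem L163627 : sm gd N17163 = N17016 := ded_24_1 (flp_g L122814) L122810 L163548
theorem L163629 : sm gd N20560 = N17320 := ded_14_0 L163554 (flp_d L161655) L161653
theorem L163631 : sm gb N18407 = N20260 := ded_15_3 L163556 (flp_b L143353) (flp_e L130216)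
theorem L163633 : sm gd N18580 = N19884 := ded_14_2 L157357 (flp_d L159807) L163558
theorem L163635 : sm ge N18580 = N19693 := ded_15_2 L156002 L159805 L163558
theorem L163637 : sm gg N17558 = N20554 := ded_24_0 L163560 (flp_g L125546) L125542
theorem L163639 : sm ga N17558 = N20557 := ded_9_3 L163562 L125532 L125542
theorem L163641 : N17633 = N20552 := coi_28_5 L161607 (flp_c L161635) L163562 L125532 (flp_c L99905) L86647 L86713 L100039 L125842
theorem L163642 : N20552 = N17633 := (eqc rfl L163641 rfl).symm
theorem L163643 : sm gb N17633 = N20624 := trfs L163642 (flp_b L162002) rfl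
theorem L163645 : sm gd N17633 = N15229 := trfs L163642 L161607 rfl
theorem L163647 : sm gg N17633 = N15226 := trfs L163642 (flp_g L161605) rfl
theorem L163649 : sm gc N15819 = N17088 := ded_13_4 L123137 (flp_c L161725) L163570 (flp_c L114638) L114634
theorem L163651 : sm gb N17266 = N16824 := ded_16_1 (flp_f L121895) L97696 L97718 L121933 L163572
theorem L163653 : sm gb N17168 = N20027 := ded_31_8 (flp_g L158247) L109456 L92089 L72040 (flp_f L85960) (flp_b L98905) L123999 (flp_f L163572) (flp_b L121933) (flp_g L111831) (flp_f L121719) (flp_b L151824) (flp_g L123518) L123512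
theorem L163655 : sm gg N17255 = N16824 := ded_24_0 L163574 (flp_g L123930) L123920
theorem L163657 : sm gc N15653 = N16896 := ded_20_3 L163576 (flp_c L113911) (flp_f L113907)
theorem L163659 : sm gd N17143 = N15665 := ded_28_5 (flp_c L113957) (flp_d L113945) (flp_a L113943) L113947 (flp_d L163582) L122238 (flp_d L98609) (flp_c L123375)
theorem L163661 : sm gd N18775 = N16449 := ded_22_3 L118113 L123369 L163584 L153447 (flp_e L144523)
theorem L163663 : N20656 = N15795 := coi_13_3 L114534 L94921 (flp_b L113973) L163594 (flp_b L112300) (flp_c L162196)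
theorem L163664 : N20656 = N15795 := eqc rfl L163663 rfl
theorem L163665 : sm ga N15795 = N16952 := trfs L163664 L162194 rfl
theorem L163667 : sm gc N15795 = N15319 := trfs L163664 L162196 rfl
theorem L163669 : sm gf N15795 = N16950 := trfs L163664 (flp_f L162198) rfl
theorem L163671 : sm gg N15795 = N15318 := trfs L163664 (flp_g L162192) rfl
theorem L163673 : sm gf N20617 = N17321 := ded_16_2 L124289 (flp_f L133646) (flp_b L113973) L163596 L161960
theorem L163675 : sm gf N15707 = N20585 := ded_20_2 (flp_c L161766) L161768 L163604
theorem L163677 : sm gd N18778 = N20333 := ded_22_3 L160294 L161948 L163614 L153455 (flp_e L144539)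
theorem L163679 : sm gd N18381 = N20331 := ded_22_3 L160280 L161928 L163616 (flp_d L143025) (flp_e L130032)
theorem L163681 : sm gb N17016 = N17172 := ded_17_5 L163625 (flp_b L122852) (flp_g L98288) (flp_b L98270) L122814
theorem L163683 : sm gb N19973 = N17262 := ded_31_8 (flp_g L123981) L123950 (flp_b L123956) L122623 L111685 L122852 (flp_g L163625) (flp_f L123530) L98722 L85868 L83397 (flp_b L92008) (flp_g L109267) L157949
theorem L163685 : sm gf N17016 = N17162 := ded_23_2 (flp_d L123486) L123490 L163627
theorem L163687 : sm ga N17321 = N20560 := ded_9_3 L163629 (flp_a L124283) L124287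
theorem L163689 : sm gc N19693 = N18411 := ded_13_4 (flp_b L130236) (flp_c L130214) L163631 (flp_c L159803) (flp_b L156002)
theorem L163691 : sm gc N20555 = N17558 := ded_21_3 L163637 (flp_c L161611) L161615
theorem L163693 : sm gc N20624 = N15835 := ded_13_2 L114716 L94953 (flp_b L100041) L125842 L163643
theorem L163695 : sm ga N17090 = N15819 := ded_8_3 L163649 L123135 L123147
theorem L163697 : N14302 = N20652 := coi_28_2 (flp_c L162180) (flp_d L112286) (flp_c L93663) L46593 L85738 L98465 (flp_a L123135) (flp_c L163649) L114636
theorem L163698 : N20652 = N14302 := (eqc rfl L163697 rfl).symm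
theorem L163699 : sm gc N14302 = N15317 := trfs L163698 (flp_c L162180) rfl
theorem L163700 : N15317 = N19074 := eqes L163699 (flp_c L153042)
theorem L163701 : N19074 = N15317 := (eqc rfl L163700 rfl).symm
theorem L163702 : sm gc N15317 = N14302 := trfs L163701 L153042 rfl
theorem L163704 : sm ge N15317 = N13875 := trfs L163701 (flp_e L151672) rfl
theorem L163705 : N13875 = N20653 := eqes L163704 L162182
theorem L163706 : N20653 = N13875 := (eqc rfl L163705 rfl).symm
theorem L163707 : sm gf N15317 = N15796 := trfs L163701 (flp_f L153038) rfl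
theorem L163708 : N15796 = N20654 := eqes L163707 L162184
theorem L163709 : N20654 = N15796 := (eqc rfl L163708 rfl).symm
theorem L163710 : sm gd N15796 = N15318 := trfs L163709 L162186 rfl
theorem L163712 : sm gf N15796 = N15317 := trfs L163709 (flp_f L162184) rfl
theorem L163714 : sm ge N13875 = N15317 := trfs L163706 (flp_e L162182) rfl
theorem L163716 : sm gc N15771 = N20651 := ded_28_0 (flp_d L162176) (flp_c L112282) L93661 L98449 L123133 (flp_c L163649) L114636 L150572
theorem L163718 : sm gd N15771 = N17090 := ded_28_7 L163695 L163649 (flp_d L123133) (flp_c L98449) (flp_d L93661) L112282 L162176 (flp_c L163716)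
theorem L163720 : sm gd N20028 = N17168 := ded_14_0 L163653 L158249 L158251
theorem L163722 : N20049 = N15385 := coi_30_6 (flp_b L112584) L93803 (flp_f L46779) L80429 (flp_b L22493) L10835 L10847 L10849 L82321 (flp_a L10809) (flp_f L75401) L13003 L27083 L85870 L98748 (flp_c L123516) L163653 (flp_a L158388) (flp_f L158386) (flp_c L158379)
theorem L163723 : N20049 = N15385 := eqc rfl L163722 rfl
theorem L163724 : sm gc N15385 = N14813 := trfs L163723 L158379 rfl
theorem L163725 : N14813 = N20718 := eqes L163724 L162562
theorem L163726 : N20718 = N14813 := (eqc rfl L163725 rfl).symm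
theorem L163727 : sm gg N15385 = N14811 := trfs L163723 (flp_g L158377) rfl
theorem L163728 : N14811 = N20719 := eqes L163727 L162565
theorem L163729 : N20719 = N14811 := (eqc rfl L163728 rfl).symm
theorem L163730 : sm gb N14811 = N20736 := trfs L163729 (flp_b L162666) rfl
theorem L163731 : N20736 = N20046 := eqes L163730 L158363
theorem L163732 : N20736 = N20046 := eqc rfl L163731 rfl
theorem L163733 : sm gg N14811 = N15385 := trfs L163729 (flp_g L162565) rfl
theorem L163735 : sm gg N20046 = N15398 := trfs L163732 (flp_g L162664) rfl
theorem L163738 : sm gc N14813 = N15385 := trfs L163726 (flp_c L162562) rfl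
theorem L163740 : sm gc N16825 = N17255 := ded_21_3 L163655 L121897 L121899
theorem L163742 : sm gd N16952 = N15793 := ded_9_2 L114520 L114532 L163665
theorem L163744 : sm gd N17087 = N15790 := ded_28_3 (flp_c L114508) L94847 L94853 L114532 L163665 L122510 (flp_d L98447) (flp_c L123131)
theorem L163746 : sm gd N16950 = N15770 := ded_23_1 L114428 L114532 L163669
theorem L163748 : sm gg N20655 = N17398 := ded_17_2 L124670 (flp_g L141021) (flp_b L114534) L163671 L162188
theorem L163750 : sm gd N20585 = N15708 := ded_23_1 (flp_f L114151) L114147 L163675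
theorem L163752 : sm gd N17262 = N19974 := ded_14_2 (flp_b L157953) (flp_d L157951) L163683
theorem L163754 : sm gc N17162 = N17017 := ded_20_1 (flp_f L122818) (flp_c L122816) L163685
theorem L163756 : sm gg N15835 = N20623 := ded_21_2 (flp_c L161996) L161998 L163693
theorem L163758 : sm gg N15766 = N17090 := ded_29_3 L163695 (flp_f L151054) (flp_g L114510) (flp_f L114402)
theorem L163760 : sm gb N15771 = N17090 := ded_7_0 L163695 (flp_b L114634) (flp_a L94899) (flp_b L84071) L23729 L41426 L90774 L106949 L150572
theorem L163762 : sm gc N15769 = N16951 := ded_21_3 L122506 L163702 L150578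
theorem L163764 : sm gc N19496 = N20647 := ded_13_4 L162158 L163702 (flp_b L106949) L106951 L154592
theorem L163766 : sm gd N20655 = N17401 := ded_14_2 (flp_b L142714) L163710 L162188
theorem L163768 : sm gd N20369 = N18763 := ded_22_3 L144463 (flp_d L152988) (flp_e L114540) L163710 (flp_e L160532)
theorem L163770 : sm gg N15770 = N20651 := ded_29_3 L162178 (flp_f L163712) (flp_g L114536) (flp_f L114428)
theorem L163772 : sm ga N16951 = N15770 := ded_29_4 L114428 L114536 L163712 (flp_g L122506)
theorem L163774 : sm gf N15793 = N16951 := ded_29_0 L122506 (flp_f L163712) (flp_g L114536) (flp_a L114520)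
theorem L163776 : sm ge N20651 = N15777 := ded_10_2 L153010 L163714 (flp_a L162178)
theorem L163778 : sm ge N20647 = N18501 := ded_15_2 L142951 L163714 (flp_b L162158)
theorem L163780 : sm ge N16951 = N15775 := ded_26_3 L153006 L163714 (flp_g L122506)
theorem L163782 : N20368 = N13686 := coi_22_4 L103921 L104939 L163714 (flp_d L112286) (flp_e L111061) L160526
theorem L163783 : N20368 = N13686 := eqc rfl L163782 rfl
theorem L163784 : sm gd N13686 = N15086 := trfs L163783 (flp_d L160526) rfl
theorem L163785 : N15086 = N18762 := eqes L163784 L144457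
theorem L163786 : N18762 = N15086 := (eqc rfl L163785 rfl).symm
theorem L163787 : sm gd N15086 = N13686 := trfs L163786 (flp_d L144457) rfl
theorem L163789 : sm ge N17090 = N15778 := ded_22_2 (flp_d L154390) L154392 L106837 (flp_e L114432) L163718
theorem L163791 : sm ga N17172 = N20028 := ded_9_3 L163720 L123514 (flp_d L123532)
theorem L163793 : sm gf N17167 = N20028 := ded_23_0 L163720 (flp_f L123512) L123508
theorem L163795 : sm gg N20717 = N20042 := ded_12_2 L158335 L163733 L162560
theorem L163797 : sm gg N20716 = N20047 := ded_24_2 (flp_d L158367) L163733 (flp_d L162556)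
theorem L163799 : sm gg N20412 = N20048 := ded_26_2 (flp_e L158373) L163733 (flp_e L160782)
theorem L163801 : N20735 = N20073 := coi_21_2 (flp_g L158518) (flp_c L158365) L163735 L162661
theorem L163802 : N20735 = N20073 := eqc rfl L163801 rfl
theorem L163804 : sm gc N20073 = N15398 := trfs L163802 (flp_c L162661) rfl
theorem L163806 : sm gc N20717 = N20044 := ded_8_2 L158345 L163738 L162560
theorem L163808 : sm gc N20412 = N20050 := ded_19_3 L158383 L163738 (flp_e L160782)
theorem L163810 : sm gc N20711 = N20051 := ded_20_3 (flp_f L158386) L163738 (flp_f L162522)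
theorem L163812 : N17388 = N16864 := coi_13_4 (flp_c L122114) L121905 L163740 L123922 L99279 (flp_b L124618)
theorem L163813 : N17388 = N16864 := eqc rfl L163812 rfl
theorem L163814 : sm gb N16864 = N12848 := trfs L163813 L124618 rfl
theorem L163816 : sm gd N16864 = N12847 := trfs L163813 (flp_d L124616) rfl
theorem L163818 : sm gf N15790 = N17086 := ded_23_2 (flp_d L123125) L123129 L163744
theorem L163820 : sm gc N15766 = N17086 := ded_28_6 (flp_d L123125) (flp_a L123119) (flp_c L123117) L98435 L122498 L163746 (flp_c L114424) (flp_d L114400)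
theorem L163822 : sm ga N19974 = N17266 := ded_9_1 L124001 (flp_a L123983) L163752
theorem L163824 : sm gg N19974 = N17260 := ded_24_2 (flp_d L123946) L123981 L163752
theorem L163826 : N17062 = N17309 := coi_13_3 L124217 (flp_c L99045) (flp_b L123488) L163754 L123027 L123013
theorem L163827 : N17309 = N17062 := (eqc rfl L163826 rfl).symm
theorem L163828 : sm gb N17062 = N12807 := trfs L163827 L124217 rfl
theorem L163830 : sm gd N17062 = N12806 := trfs L163827 (flp_d L124215) rfl
theorem L163832 : sm gd N20623 = N15837 := ded_24_1 (flp_g L114720) L114714 L163756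
theorem L163834 : sm gd N18760 = N20367 := ded_22_3 L160524 L162176 L163776 L153012 (flp_e L144447)
theorem L163836 : sm gd N18373 = N20365 := ded_22_3 L160510 L162156 L163778 (flp_d L142949) (flp_e L129986)
theorem L163838 : sm gd N18757 = N16346 := ded_22_3 L117499 L122504 L163780 L153004 (flp_e L144431)
theorem L163840 : sm gc N15778 = N17091 := ded_19_1 (flp_e L123149) L123147 L163789
theorem L163842 : sm gc N17167 = N16751 := ded_30_5 (flp_b L121523) L97478 L85355 (flp_c L26756) (flp_b L12852) L6347 (flp_f L6339) L6331 L12826 L26696 L85227 (flp_c L97180) L120993 L151083 (flp_f L122818) (flp_c L122816) L163681 L163791 (flp_f L163793)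
theorem L163844 : sm gb N16749 = N17167 := ded_16_5 L163793 (flp_b L158251) (flp_f L109496) L158351 (flp_f L158357)
theorem L163846 : sm ga N17269 = N20528 := ded_7_3 (flp_b L161462) L111695 L150238 L97867 (flp_b L97815) (flp_a L122116) L163814 L99273 L124017
theorem L163848 : N17387 = N16866 := coi_9_2 (flp_d L122126) (flp_a L122116) L163816 L124614
theorem L163849 : N17387 = N16866 := eqc rfl L163848 rfl
theorem L163850 : sm ga N16866 = N12847 := trfs L163849 (flp_a L124614) rfl
theorem L163852 : sm ge N17086 = N15780 := ded_25_1 (flp_f L154380) L154378 L163818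
theorem L163854 : sm gb N17260 = N16674 := ded_17_1 L158059 (flp_b L158051) (flp_g L109305) L157953 L163824
theorem L163856 : sm ga N17176 = N20574 := ded_7_3 (flp_b L161713) L111841 (flp_b L98453) L98451 (flp_b L98385) (flp_a L123015) L163828 L99039 L123554
theorem L163858 : N17308 = N17064 := coi_9_2 (flp_d L123029) (flp_a L123015) L163830 L124213
theorem L163859 : N17308 = N17064 := eqc rfl L163858 rfl
theorem L163860 : sm ga N17064 = N12806 := trfs L163859 (flp_a L124213) rfl
theorem L163862 : sm gg N17091 = N15780 := ded_21_2 (flp_c L114464) (flp_g L114460) L163840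
theorem L163864 : sm ga N16751 = N17170 := ded_8_1 (flp_c L123524) (flp_a L123510) L163842
theorem L163866 : sm gd N17099 = N16749 := ded_14_0 L163844 (flp_d L123508) (flp_b L123979)
theorem L163868 : sm gd N16674 = N16904 := ded_14_2 L123960 L123946 L163854
theorem L163870 : sm gc N16676 = N17260 := ded_13_0 L163854 (flp_c L121182) (flp_b L97303) L97305 L121194
theorem L163872 : N20485 = N17100 := coi_9_2 (flp_d L123193) L123189 L163866 (flp_a L161218)
theorem L163873 : N20485 = N17100 := eqc rfl L163872 rfl
theorem L163874 : sm ga N17100 = N16749 := trfs L163873 L161218 rfl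
theorem L163876 : sm gb N17100 = N16914 := trfs L163873 L161224 rfl
theorem L163877 : N16914 = N12687 := eqes L163876 L123195
theorem L163878 : N16914 = N12687 := eqc rfl L163877 rfl
theorem L163879 : sm gc N17100 = N15159 := trfs L163873 (flp_c L161216) rfl
theorem L163881 : sm gf N17100 = N16873 := trfs L163873 L161220 rfl
theorem L163883 : sm gg N17100 = N15160 := trfs L163873 L161222 rfl
theorem L163885 : sm ga N12687 = N16642 := trfs L163878 L122328 rfl
theorem L163886 : N16642 = N17096 := eqes L163885 (flp_a L123173)
theorem L163887 : N17096 = N16642 := (eqc rfl L163886 rfl).symm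
theorem L163888 : sm gc N12687 = N12581 := trfs L163878 L122330 rfl
theorem L163889 : N12581 = N17103 := eqes L163888 L123205
theorem L163890 : N17103 = N12581 := (eqc rfl L163889 rfl).symm
theorem L163891 : sm gf N12687 = N12579 := trfs L163878 (flp_f L122326) rfl
theorem L163892 : N12579 = N17105 := eqes L163891 L123209
theorem L163893 : N17105 = N12579 := (eqc rfl L163892 rfl).symm
theorem L163894 : sm gg N12687 = N16902 := trfs L163878 L122332 rfl
theorem L163895 : N16902 = N17106 := eqes L163894 L123213
theorem L163896 : N17106 = N16902 := (eqc rfl L163895 rfl).symm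
theorem L163897 : sm gd N16902 = N12689 := trfs L163896 L123215 rfl
theorem L163899 : sm gg N16902 = N12687 := trfs L163896 (flp_g L123213) rfl
theorem L163901 : sm gd N12579 = N12688 := trfs L163893 L123211 rfl
theorem L163902 : N12688 = N16911 := eqes L163901 (flp_d L122320)
theorem L163903 : N16911 = N12688 := (eqc rfl L163902 rfl).symm
theorem L163904 : sm gf N12579 = N12687 := trfs L163893 (flp_f L123209) rfl
theorem L163906 : sm gd N12688 = N12579 := trfs L163903 L122320 rfl
theorem L163908 : sm gg N12688 = N12577 := trfs L163903 (flp_g L122318) rfl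
theorem L163909 : N12577 = N17108 := eqes L163908 L123219
theorem L163910 : N17108 = N12577 := (eqc rfl L163909 rfl).symm
theorem L163911 : sm ga N12577 = N16622 := trfs L163910 L123221 rfl
theorem L163912 : N16622 = N16901 := eqes L163911 (flp_a L122278)
theorem L163913 : N16901 = N16622 := (eqc rfl L163912 rfl).symm
theorem L163914 : sm gb N12577 = N20487 := trfs L163910 (flp_b L161236) rfl
theorem L163915 : N20487 = N16905 := eqes L163914 (flp_b L122300)
theorem L163916 : N20487 = N16905 := eqc rfl L163915 rfl
theorem L163917 : sm gc N12577 = N12690 := trfs L163910 L123223 rfl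
theorem L163918 : N12690 = N16908 := eqes L163917 L122310
theorem L163919 : N16908 = N12690 := (eqc rfl L163918 rfl).symm
theorem L163920 : sm gf N12577 = N17098 := trfs L163910 (flp_f L123225) rfl
theorem L163921 : N17098 = N16910 := eqes L163920 L122314
theorem L163922 : N17098 = N16910 := eqc rfl L163921 rfl
theorem L163923 : sm gg N12577 = N12688 := trfs L163910 (flp_g L123219) rfl
theorem L163925 : sm ga N16910 = N12689 := trfs L163922 L123185 rfl
theorem L163927 : sm gc N16910 = N12685 := trfs L163922 L123187 rfl
theorem L163929 : sm gg N16910 = N12683 := trfs L163922 (flp_g L123183) rfl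
theorem L163931 : sm gc N12690 = N12577 := trfs L163919 (flp_c L122310) rfl
theorem L163933 : sm ga N16905 = N16674 := trfs L163916 L161230 rfl
theorem L163935 : sm gc N16905 = N15164 := trfs L163916 (flp_c L161228) rfl
theorem L163937 : sm gf N16905 = N15165 := trfs L163916 L161232 rfl
theorem L163939 : sm gg N16905 = N17070 := trfs L163916 L161234 rfl
theorem L163941 : sm ga N16622 = N12577 := trfs L163913 L122278 rfl
theorem L163943 : sm gd N16622 = N12573 := trfs L163913 (flp_d L122276) rfl
theorem L163945 : sm gc N12581 = N12687 := trfs L163890 (flp_c L123205) rfl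
theorem L163947 : sm ga N16642 = N12687 := trfs L163887 L123173 rfl
theorem L163949 : sm gd N16642 = N12683 := trfs L163887 (flp_d L123171) rfl
theorem L163951 : sm gd N16872 = N16827 := ded_24_3 L151826 L163866 L122158
theorem L163953 : sm gc N19242 = N17112 := ded_28_4 (flp_d L123239) (flp_c L123191) L163866 (flp_a L163874) L163879 L111475 L120752 (flp_d L152710)
theorem L163955 : sm gd N17115 = N20559 := ded_28_1 (flp_c L161645) L111809 L121511 (flp_d L163866) L123191 L123239 L123241 L123251
theorem L163957 : sm ga N17115 = N19242 := ded_28_8 L163953 (flp_d L123239) (flp_c L123191) L163866 (flp_c L121511) (flp_d L111809) L161645 (flp_d L163955)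
theorem L163959 : sm gd N17019 = N17071 := ded_23_3 (flp_f L123065) L163868 L122838
theorem L163961 : sm gd N16920 = N20513 := ded_28_3 (flp_c L161394) L111663 L121182 L163868 (flp_a L122294) L97947 L97991 L122356
theorem L163963 : sm gc N16917 = N19299 := ded_28_6 L153125 (flp_a L161396) (flp_c L161394) L111663 L121182 L163868 L122296 L122344
theorem L163965 : sm ga N16920 = N19299 := ded_28_8 (flp_c L163963) (flp_d L122344) (flp_c L122296) (flp_d L163868) (flp_c L121182) (flp_d L111663) L161394 (flp_d L163961)
theorem L163967 : sm ga N17263 = N16676 := ded_8_3 L163870 L123948 L123987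
theorem L163969 : sm gd N16873 = N17101 := ded_23_1 (flp_f L123197) L123193 L163881
theorem L163971 : N20486 = N17102 := coi_24_2 (flp_g L123201) L123193 L163883 L161226
theorem L163972 : N20486 = N17102 := eqc rfl L163971 rfl
theorem L163973 : sm gd N17102 = N15160 := trfs L163972 (flp_d L161226) rfl
theorem L163975 : sm gd N16903 = N17097 := ded_28_3 L123179 L98501 (flp_c L122284) L163897 (flp_a L163925) L163927 L98511 (flp_c L122290)
theorem L163977 : sm gf N17104 = N16326 := ded_25_2 L117391 L163904 L123207
theorem L163979 : sm gd N16913 = N17107 := ded_14_2 (flp_b L123217) L163906 L122324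
theorem L163981 : sm gg N16428 = N16909 := ded_26_2 (flp_e L122312) L163923 (flp_e L117999)
theorem L163983 : sm gc N16909 = N16430 := ded_19_3 L118011 L163931 L122312
theorem L163985 : N20488 = N16906 := coi_23_2 (flp_f L122302) L122298 L163937 L161238
theorem L163986 : N20488 = N16906 := eqc rfl L163985 rfl
theorem L163987 : sm gd N16906 = N15165 := trfs L163986 (flp_d L161238) rfl
theorem L163989 : sm gd N17070 = N16907 := ded_24_1 (flp_g L122306) L122298 L163939
theorem L163991 : sm gc N17104 = N16328 := ded_19_3 L117405 L163945 L123207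
theorem L163993 : sm gb N16828 = N16872 := ded_14_3 L163951 (flp_b L121911) L121913
theorem L163995 : sm gf N16827 = N16871 := ded_23_2 (flp_d L122150) L122152 L163951
theorem L163997 : sm gb N17071 = N17020 := ded_14_1 (flp_d L122840) L122830 L163959
theorem L163999 : sm gg N17069 = N17019 := ded_24_0 L163959 (flp_g L123059) L123053
theorem L164001 : sm gg N17101 = N16871 := ded_24_2 (flp_d L122150) L122160 L163969
theorem L164003 : sm gf N16907 = N17069 := ded_23_2 (flp_d L123053) L123055 L163989
theorem L164005 : sm gc N16871 = N17119 := ded_20_1 (flp_f L123267) L151830 L163995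
theorem L164007 : sm gc N16926 = N17069 := ded_21_3 L163999 (flp_c L122834) (flp_g L122382)
theorem L164009 : sm ga N15499 = N20795 := rfl
theorem L164011 : sm gd N20795 = N15500 := ded_9_2 (flp_a L113132) (flp_d L113130) L164009
theorem L164013 : sm gg N20795 = N18625 := ded_12_2 (flp_a L163009) L163007 L164009
theorem L164015 : sm gc N15499 = N20796 := rfl
theorem L164017 : sm gb N20796 = N17367 := ded_13_1 (flp_c L124507) L99183 (flp_c L94114) L113128 L164015
theorem L164019 : sm gc N15500 = N20797 := rfl
theorem L164021 : sm ga N20797 = N15501 := ded_8_1 (flp_c L113136) L113132 L164019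
theorem L164023 : sm ge N20797 = N15504 := ded_19_2 (flp_c L113150) (flp_e L113134) L164019
theorem L164025 : sm gf N15500 = N20798 := rfl
theorem L164027 : sm ga N20798 = N15502 := ded_11_1 (flp_f L113142) L113132 L164025
theorem L164029 : sm ge N20798 = N15505 := ded_25_1 (flp_f L113154) (flp_e L113134) L164025
theorem L164031 : sm gg N20798 = N20784 := ded_29_3 L163043 (flp_f L163029) L163027 L164025
theorem L164033 : sm gb N20798 = N15565 := ded_16_1 (flp_f L148534) (flp_b L129572) L143083 (flp_b L143453) L164025
theorem L164035 : sm gd N15501 = N20799 := rfl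
theorem L164037 : sm gb N20799 = N15510 := ded_14_1 (flp_d L113186) (flp_b L113140) L164035
theorem L164039 : sm gf N15501 = N20800 := rfl
theorem L164041 : sm gc N20800 = N15502 := ded_20_1 (flp_f L113142) L113136 L164039
theorem L164043 : sm ge N20800 = N15507 := ded_25_1 (flp_f L113164) (flp_e L113138) L164039
theorem L164045 : sm gb N20800 = N17547 := ded_16_1 L125489 L99907 L141089 (flp_b L113140) L164039
theorem L164047 : sm gb N15504 = N20801 := rfl
theorem L164049 : sm gc N20801 = N19441 := ded_13_2 L154202 L129596 L143433 L113150 L164047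
theorem L164051 : sm gb N17637 = N19382 := ded_30_14 L153771 L153806 L153810 L154406 (flp_a L154412) (flp_f L154204) (flp_c L164049) (flp_b L164047) L113152 L113164 L113166 L94132 (flp_a L99155) (flp_f L99153) L86089 L86657 L148821 L100047 (flp_c L125860)
theorem L164053 : sm ga N18520 = N20801 := ded_8_3 L164049 (flp_a L154638) L154634
theorem L164055 : sm gf N19494 = N20801 := ded_20_0 L164049 L154204 L154578
theorem L164057 : sm gg N19448 = N20801 := ded_21_0 L164049 L154206 L154230
theorem L164059 : sm gd N20801 = N18518 := ded_28_1 (flp_c L143013) (flp_d L142905) L142903 L114085 L154188 (flp_d L154630) L154638 (flp_c L164049)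
theorem L164061 : sm gc N19474 = N17638 := ded_13_4 (flp_b L125864) (flp_c L125860) L164051 L153773 L154372
theorem L164063 : sm gd N15504 = N20802 := rfl
theorem L164065 : sm ga N20802 = N15506 := ded_9_1 (flp_d L113160) (flp_a L113152) L164063
theorem L164067 : sm gb N20802 = N18518 := ded_14_1 (flp_d L164059) (flp_b L164047) L164063
theorem L164069 : sm gf N15504 = N20803 := rfl
theorem L164071 : sm ga N20803 = N15507 := ded_11_1 (flp_f L113164) (flp_a L113152) L164069
theorem L164073 : sm gc N20803 = N15505 := ded_20_1 (flp_f L113154) L113150 L164069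
theorem L164075 : sm gg N20789 = N20803 := ded_29_1 (flp_f L164069) (flp_g L163075) L163073 L163083
theorem L164077 : sm gb N20803 = N15780 := ded_16_1 (flp_f L154380) (flp_b L154580) L164055 (flp_b L164047) L164069
theorem L164079 : sm gc N15506 = N20804 := rfl
theorem L164081 : sm ge N15506 = N20805 := rfl
theorem L164083 : sm gb N20805 = N15514 := ded_15_1 (flp_e L113214) (flp_b L113162) L164081
theorem L164085 : sm gf N15506 = N20806 := rfl
theorem L164087 : sm gd N20806 = N15507 := ded_23_1 (flp_f L113164) L113160 L164085
theorem L164089 : sm gb N20806 = N17603 := ded_16_1 L125727 L100041 (flp_f L94162) (flp_b L113162) L164085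
theorem L164091 : sm gg N15507 = N20807 := rfl
theorem L164093 : sm ga N20807 = N20789 := ded_12_1 L164075 L164071 L164091
theorem L164095 : sm gc N20807 = N15508 := ded_21_1 (flp_g L113170) (flp_c L113166) L164091
theorem L164097 : sm gf N20787 = N20807 := ded_29_0 (flp_g L164091) (flp_f L113164) (flp_g L113086) (flp_a L163073)
theorem L164099 : sm gb N19861 = N20807 := ded_13_5 L164095 L163198 (flp_c L111701) (flp_b L108637) L157241
theorem L164101 : sm ge N15510 = N20808 := rfl
theorem L164103 : sm gc N20808 = N17403 := ded_19_1 (flp_e L124696) L141006 L164101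
theorem L164105 : sm gf N20808 = N17562 := ded_25_2 (flp_e L125560) L141044 L164101
theorem L164107 : sm gg N20808 = N15699 := ded_26_2 (flp_e L114113) (flp_g L113190) L164101
theorem L164109 : sm gd N20808 = N15514 := ded_22_1 (flp_e L113214) (flp_d L94160) (flp_e L94146) L113186 L164101
theorem L164111 : sm ga N15511 = N20809 := rfl
theorem L164113 : sm gb N20809 = N15652 := ded_7_2 L153453 (flp_b L143027) L164053 (flp_b L164047) L113152 L94128 (flp_a L94154) L113192 L164111
theorem L164115 : sm gd N19094 = N20809 := ded_14_0 L164113 L153455 L151766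
theorem L164117 : sm gd N15511 = N20810 := rfl
theorem L164119 : sm ga N20810 = N19094 := ded_9_1 L164115 (flp_a L164111) L164117
theorem L164121 : sm gb N20810 = N15512 := ded_14_1 (flp_d L113194) L113192 L164117
theorem L164123 : sm gf N15511 = N20811 := rfl
theorem L164125 : sm ge N20811 = N17312 := ded_25_1 (flp_f L150988) (flp_e L142782) L164123
theorem L164127 : sm gb N20811 = N17649 := ded_16_1 (flp_f L125914) (flp_b L100081) (flp_f L94156) L113192 L164123
theorem L164129 : sm gg N17310 = N20811 := ded_26_0 L164125 (flp_g L124225) L124219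
theorem L164131 : sm gg N15511 = N20812 := rfl
theorem L164133 : sm gb N20812 = N15709 := ded_17_1 (flp_g L114153) (flp_b L94666) (flp_g L94158) L113192 L164131
theorem L164135 : sm ge N15512 = N20813 := rfl
theorem L164137 : sm ga N20813 = N15514 := ded_10_1 (flp_e L113214) (flp_a L113196) L164135
theorem L164139 : sm gc N20813 = N15591 := ded_19_1 (flp_e L113622) (flp_c L113202) L164135
theorem L164141 : sm gf N20813 = N15840 := ded_25_2 (flp_e L114732) (flp_f L113198) L164135
theorem L164143 : sm gg N20813 = N15710 := ded_26_2 (flp_e L114155) (flp_g L113200) L164135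
theorem L164145 : sm gb N15513 = N20814 := rfl
theorem L164147 : sm gd N20814 = N15590 := ded_14_2 (flp_b L113620) (flp_d L113212) L164145
theorem L164149 : sm ge N15513 = N20815 := rfl
theorem L164151 : sm ga N20815 = N15591 := ded_10_1 (flp_e L113622) (flp_a L113206) L164149
theorem L164153 : sm gc N20815 = N15514 := ded_19_1 (flp_e L113214) L113204 L164149
theorem L164155 : sm gf N20815 = N15838 := ded_25_2 (flp_e L114722) (flp_f L113208) L164149
theorem L164157 : sm gg N20815 = N15712 := ded_26_2 (flp_e L114165) (flp_g L113210) L164149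
theorem L164159 : sm gc N15516 = N20816 := rfl
theorem L164161 : sm ga N20816 = N19587 := ded_8_1 L155304 (flp_a L148609) L164159
theorem L164163 : sm ge N20816 = N19581 := ded_19_2 L155247 L154822 L164159
theorem L164165 : sm gg N20816 = N16561 := ded_21_2 L130543 L148572 L164159
theorem L164167 : sm gb N20816 = N20816 := ded_13_1 (flp_c L164159) L113226 L94174 (flp_b L113226) L164159
theorem L164168 : sm gd N20816 = N16563 := ded_28_7 (flp_a L149182) L122680 L98236 L93623 (flp_d L47312) (flp_c L94168) L113224 L164159
theorem L164170 : sm gf N15516 = N20817 := rfl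
theorem L164172 : sm ga N20817 = N20762 := ded_11_1 (flp_f L162829) (flp_a L148609) L164170
theorem L164174 : sm gd N20817 = N15518 := ded_23_1 (flp_f L113234) L113224 L164170
theorem L164176 : sm gg N20817 = N18469 := ded_29_3 L130620 (flp_f L130539) L148572 L164170
theorem L164178 : sm ga N15534 = N20818 := rfl
theorem L164180 : sm gd N20818 = N20744 := ded_9_2 (flp_a L162698) (flp_d L113318) L164178
theorem L164182 : sm ge N20818 = N18485 := ded_10_2 (flp_a L142869) (flp_e L147403) L164178
theorem L164184 : sm gf N20818 = N15537 := ded_11_2 (flp_a L113336) (flp_f L113320) L164178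
theorem L164186 : sm gg N15534 = N20819 := rfl
theorem L164188 : sm gd N20819 = N20745 := ded_24_1 (flp_g L162704) (flp_d L113318) L164186
theorem L164190 : sm ge N20819 = N18484 := ded_26_1 L142867 (flp_e L147403) L164186
theorem L164192 : sm gb N20819 = N18478 := ded_17_1 (flp_g L142817) (flp_b L102960) L148310 L113316 L164186
theorem L164194 : sm gg N15537 = N20820 := rfl
theorem L164196 : sm ga N20820 = N15539 := ded_12_1 (flp_g L113344) L113336 L164194
theorem L164198 : sm gd N20820 = N20750 := ded_24_1 (flp_g L162738) (flp_d L113338) L164194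
theorem L164200 : sm gf N20820 = N20819 := ded_29_2 (flp_g L164186) L164178 L164184 L164194
theorem L164202 : sm gf N15539 = N20821 := rfl
theorem L164204 : sm ga N20821 = N20819 := ded_11_1 (flp_f L164200) L164196 L164202
theorem L164206 : sm gc N20821 = N19490 := ded_20_1 L154534 (flp_c L142722) L164202
theorem L164208 : sm gd N20821 = N20751 := ded_23_1 (flp_f L162746) (flp_d L113346) L164202
theorem L164210 : sm gg N20821 = N20818 := ded_29_3 (flp_a L164178) L113320 L113344 L164202
theorem L164212 : sm gf N15543 = N20822 := rfl
theorem L164214 : sm ga N20822 = N15545 := ded_11_1 (flp_f L113380) L113364 L164212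
theorem L164216 : sm gc N20822 = N15545 := ded_20_1 (flp_f L113380) (flp_c L113368) L164212
theorem L164218 : sm gd N20822 = N20713 := ded_23_1 (flp_f L162534) (flp_d L113366) L164212
theorem L164220 : sm gb N20822 = N19829 := ded_31_2 L157049 L157093 L162887 (flp_g L162875) (flp_f L112952) (flp_b L94006) L94030 L94068 L113078 L149037 (flp_f L113416) (flp_b L113378) L148562 L164212
theorem L164222 : sm gf N15546 = N20823 := rfl
theorem L164224 : sm ga N20823 = N20077 := ded_11_1 L158553 (flp_a L149552) L164222
theorem L164226 : sm gc N20823 = N20077 := ded_20_1 L158553 (flp_c L149562) L164222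
theorem L164228 : sm gd N20823 = N18506 := ded_23_1 (flp_f L142967) (flp_d L148492) L164222
theorem L164230 : sm ge N20823 = N20822 := ded_25_1 (flp_f L164212) L148564 L164222
theorem L164232 : sm gg N20823 = N20822 := ded_29_3 L164214 (flp_f L113380) L113384 L164222
theorem L164234 : sm gb N20823 = N19842 := ded_16_1 L162897 (flp_b L143245) (flp_f L103206) (flp_b L148490) L164222
theorem L164236 : sm gd N15547 = N20824 := rfl
theorem L164238 : sm ga N20824 = N15555 := ded_9_1 (flp_d L113436) (flp_a L113390) L164236
theorem L164240 : sm gb N20824 = N20721 := ded_14_1 (flp_d L162575) (flp_b L113392) L164236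
theorem L164242 : sm gg N20824 = N18391 := ded_24_2 L130107 (flp_g L148477) L164236
theorem L164244 : sm ge N20824 = N15550 := ded_22_2 (flp_d L113412) (flp_e L94269) L94259 L113388 L164236
theorem L164246 : sm gf N15547 = N20825 := rfl
theorem L164248 : sm ga N20825 = N15556 := ded_11_1 (flp_f L113442) (flp_a L113390) L164246
theorem L164250 : sm gc N20825 = N15556 := ded_20_1 (flp_f L113442) (flp_c L113394) L164246
theorem L164252 : sm ge N20825 = N15548 := ded_25_1 (flp_f L113396) L113388 L164246
theorem L164254 : sm gf N15550 = N20826 := rfl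
theorem L164256 : sm ga N20826 = N15562 := ded_11_1 (flp_f L113474) (flp_a L113414) L164254
theorem L164258 : sm gc N20826 = N19130 := ded_20_1 (flp_f L152302) L152300 L164254
theorem L164260 : sm gd N20826 = N15551 := ded_23_1 (flp_f L113416) L113412 L164254
theorem L164262 : sm gg N20777 = N20826 := ded_29_1 (flp_f L164254) L148540 (flp_a L146203) (flp_f L162981)
theorem L164264 : sm gb N20826 = N20082 := ded_16_1 (flp_f L158597) (flp_b L162601) (flp_f L162599) L149592 L164254
theorem L164266 : sm gc N15555 = N20827 := rfl
theorem L164268 : sm ge N20827 = N15561 := ded_19_2 (flp_c L113472) (flp_e L113440) L164266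
theorem L164270 : sm gb N20827 = N18176 := ded_13_1 L128681 (flp_b L147305) (flp_c L109610) (flp_b L113438) L164266
theorem L164272 : sm gg N18702 = N20827 := ded_26_0 L164268 L146195 (flp_e L144111)
theorem L164274 : sm gf N15555 = N20828 := rfl
theorem L164276 : sm gd N20828 = N15556 := ded_23_1 (flp_f L113442) L113436 L164274
theorem L164278 : sm ge N20828 = N15562 := ded_25_1 (flp_f L113474) (flp_e L113440) L164274
theorem L164280 : sm gg N15555 = N20829 := rfl
theorem L164282 : sm ga N20829 = N18391 := ded_12_1 (flp_g L164242) L164238 L164280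
theorem L164284 : sm gc N20829 = N18702 := ded_21_1 L164272 (flp_c L164266) L164280
theorem L164286 : sm gd N20829 = N15557 := ded_24_1 (flp_g L113446) L113436 L164280
theorem L164288 : sm ge N20829 = N15563 := ded_26_1 (flp_g L113478) (flp_e L113440) L164280
theorem L164290 : sm gb N20829 = N18712 := ded_17_1 L144181 (flp_b L147314) L109840 (flp_b L113438) L164280
theorem L164292 : sm gb N15556 = N20830 := rfl
theorem L164294 : sm ge N20830 = N15558 := ded_15_2 (flp_b L113450) (flp_e L113444) L164292
theorem L164296 : sm gf N20830 = N15573 := ded_16_2 (flp_b L113534) (flp_f L94339) (flp_b L94289) L113442 L164292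
theorem L164298 : sm gf N15557 = N20831 := rfl
theorem L164300 : sm ga N20831 = N18419 := ded_11_1 (flp_f L130284) (flp_a L148500) L164298
theorem L164302 : sm gc N20831 = N18419 := ded_20_1 (flp_f L130284) (flp_c L148502) L164298
theorem L164304 : sm ge N20831 = N15560 := ded_25_1 (flp_f L113462) (flp_e L113448) L164298
theorem L164306 : sm gg N20831 = N20825 := ded_29_3 L164248 (flp_f L113442) L113446 L164298
theorem L164308 : sm gf N15561 = N20832 := rfl
theorem L164310 : sm ga N20832 = N19130 := ded_11_1 (flp_f L152302) L152306 L164308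
theorem L164312 : sm gc N20832 = N15562 := ded_20_1 (flp_f L113474) L113472 L164308
theorem L164314 : sm gd N20832 = N19022 := ded_23_1 (flp_f L145941) (flp_d L146193) L164308
theorem L164316 : sm gb N20832 = N19148 := ded_16_1 (flp_f L152098) (flp_b L129002) (flp_f L102211) (flp_b L146188) L164308
theorem L164318 : sm gb N15562 = N20833 := rfl
theorem L164320 : sm gd N20833 = N15564 := ded_14_2 (flp_b L113482) (flp_d L113476) L164318
theorem L164322 : sm gf N20833 = N15578 := ded_16_2 (flp_b L113556) (flp_f L94363) (flp_b L94301) L113474 L164318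
theorem L164324 : sm ga N20833 = N18585 := ded_7_1 (flp_b L162744) L162740 L112730 (flp_a L124121) L149574 (flp_a L158591) (flp_b L164264) L164256 L164318
theorem L164326 : sm gg N20833 = N18582 := ded_29_3 (flp_a L143383) L143387 (flp_g L148878) (flp_f L164322)
theorem L164328 : sm gg N15562 = N20834 := rfl
theorem L164330 : sm ga N20834 = N20777 := ded_12_1 L164262 L164256 L164328
theorem L164332 : sm gd N20834 = N15565 := ded_24_1 (flp_g L113488) (flp_d L113476) L164328
theorem L164334 : sm gf N15763 = N20834 := ded_29_0 (flp_g L164328) (flp_f L113474) L113478 L146203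
theorem L164336 : sm ga N15564 = N20835 := rfl
theorem L164338 : sm gd N20835 = N18585 := ded_9_2 (flp_a L164324) L164320 L164336
theorem L164340 : sm ge N20835 = N15567 := ded_10_2 (flp_a L113506) (flp_e L113484) L164336
theorem L164342 : sm gf N20835 = N15579 := ded_11_2 (flp_a L113560) (flp_f L113486) L164336
theorem L164344 : sm gg N18540 = N20835 := ded_29_3 (flp_a L164336) L113486 L113570 L147441
theorem L164346 : sm gb N20835 = N20820 := ded_7_2 L164196 L113348 (flp_a L124758) L149682 L119469 (flp_b L149760) L113418 L113482 L164336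
theorem L164348 : sm gc N15564 = N20836 := rfl
theorem L164350 : sm ge N20836 = N15568 := ded_19_2 (flp_c L113510) (flp_e L113484) L164348
theorem L164352 : sm gf N20836 = N15580 := ded_20_2 (flp_c L113564) (flp_f L113486) L164348
theorem L164354 : sm gb N20836 = N15770 := ded_13_1 (flp_c L114424) (flp_b L94793) (flp_c L94305) L113482 L164348
theorem L164356 : sm gg N15564 = N20837 := rfl
theorem L164358 : sm ga N20837 = N18540 := ded_12_1 L164344 (flp_a L164336) L164356
theorem L164360 : sm gd N20837 = N18582 := ded_24_1 (flp_g L164326) L164320 L164356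
theorem L164362 : sm ge N20837 = N15569 := ded_26_1 (flp_g L113516) (flp_e L113484) L164356
theorem L164364 : sm gf N20785 = N20837 := ded_29_0 (flp_g L164356) L113486 L113570 (flp_a L163055)
theorem L164366 : sm gb N20837 = N20784 := ded_17_1 (flp_g L164031) L164033 (flp_g L113488) L113482 L164356
theorem L164368 : sm gb N15567 = N20838 := rfl
theorem L164370 : sm gd N20838 = N18497 := ded_14_2 (flp_b L143329) L150780 L164368
theorem L164372 : sm ge N20838 = N20820 := ded_15_2 (flp_b L164346) L164340 L164368
theorem L164374 : sm gf N20838 = N18484 := ded_16_2 (flp_b L142863) (flp_f L103136) L149626 (flp_f L113508) L164368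
theorem L164376 : sm gg N20838 = N15820 := ded_17_2 (flp_b L163570) (flp_g L161723) (flp_b L163395) L113602 L164368
theorem L164378 : sm ga N20838 = N15816 := ded_7_1 L137017 (flp_a L150850) (flp_b L108991) (flp_a L108973) L149568 L94277 L94315 L113506 L164368
theorem L164380 : sm gc N15815 = N20838 := ded_30_1 (flp_b L164368) (flp_a L113506) L94317 L94377 L94379 (flp_a L94405) L94407 (flp_c L84103) L84097 (flp_a L141865) L90289 L90790 (flp_b L150582) (flp_a L106737) (flp_f L106739) L154188 (flp_b L154198) (flp_a L114660) (flp_f L114664)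
theorem L164382 : sm gc N15567 = N20839 := rfl
theorem L164384 : sm ga N20839 = N15568 := ded_8_1 (flp_c L113510) L113506 L164382
theorem L164386 : sm gf N20839 = N15583 := ded_20_2 (flp_c L113578) (flp_f L113508) L164382
theorem L164388 : sm gd N15568 = N20840 := rfl
theorem L164390 : sm gb N20840 = N15776 := ded_14_1 (flp_d L114450) (flp_b L113514) L164388
theorem L164392 : sm gf N20840 = N15585 := ded_23_2 (flp_d L113588) (flp_f L113512) L164388
theorem L164394 : sm gg N15568 = N20841 := rfl
theorem L164396 : sm gc N20841 = N15569 := ded_21_1 (flp_g L113516) L113510 L164394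
theorem L164398 : sm gf N20790 = N20841 := ded_29_0 (flp_g L164394) L113512 L113592 (flp_a L163089)
theorem L164400 : sm gb N15572 = N20842 := rfl
theorem L164402 : sm gd N20842 = N15573 := ded_14_2 (flp_b L113534) (flp_d L113528) L164400
theorem L164404 : sm ge N20842 = N15578 := ded_15_2 (flp_b L113556) (flp_e L113530) L164400
theorem L164406 : sm gc N15573 = N20843 := rfl
theorem L164408 : sm ge N20843 = N15575 := ded_19_2 (flp_c L113542) (flp_e L113536) L164406
theorem L164410 : sm gb N20843 = N18896 := ded_13_1 (flp_c L151362) (flp_b L112638) (flp_c L94343) L113534 L164406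
theorem L164412 : sm gg N18900 = N20843 := ded_26_0 L164408 (flp_g L151127) (flp_e L145228)
theorem L164414 : sm gg N15573 = N20844 := rfl
theorem L164416 : sm gc N20844 = N18900 := ded_21_1 L164412 (flp_c L164406) L164414
theorem L164418 : sm ge N20844 = N15576 := ded_26_1 (flp_g L113546) (flp_e L113536) L164414
theorem L164420 : sm gb N20844 = N17441 := ded_17_1 (flp_g L124882) L99399 (flp_g L94347) L113534 L164414
theorem L164422 : sm gf N15576 = N20845 := rfl
theorem L164424 : sm ga N20845 = N19027 := ded_11_1 (flp_f L146060) (flp_a L149600) L164422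
theorem L164426 : sm gc N20845 = N19026 := ded_20_1 L151131 (flp_c L151272) L164422
theorem L164428 : sm gd N20845 = N15587 := ded_23_1 (flp_f L113598) (flp_d L113548) L164422
theorem L164430 : sm gg N20845 = N18568 := ded_29_3 (flp_a L149628) L113454 L113546 L164422
theorem L164432 : sm gb N16765 = N20845 := ded_7_0 L164424 (flp_b L146054) (flp_a L163119) (flp_b L163127) L121246 (flp_b L163245) (flp_a L88287) L163392 (flp_a L121577)
theorem L164434 : sm ga N15578 = N20846 := rfl
theorem L164436 : sm gd N20846 = N15579 := ded_9_2 (flp_a L113560) (flp_d L113558) L164434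
theorem L164438 : sm gf N20846 = N18585 := ded_11_2 (flp_a L164324) L164322 L164434
theorem L164440 : sm gc N15578 = N20847 := rfl
theorem L164442 : sm gb N20847 = N17444 := ded_13_1 (flp_c L124900) L99411 (flp_c L94365) L113556 L164440
theorem L164444 : sm gc N15579 = N20848 := rfl
theorem L164446 : sm ga N20848 = N15580 := ded_8_1 (flp_c L113564) L113560 L164444
theorem L164448 : sm ge N20848 = N15583 := ded_19_2 (flp_c L113578) (flp_e L113562) L164444
theorem L164450 : sm gd N15580 = N20849 := rfl
theorem L164452 : sm gb N20849 = N15589 := ded_14_1 (flp_d L113614) (flp_b L113568) L164450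
theorem L164454 : sm gg N15580 = N20850 := rfl
theorem L164456 : sm gc N20850 = N15581 := ded_21_1 (flp_g L113570) L113564 L164454
theorem L164458 : sm ge N20850 = N15586 := ded_26_1 (flp_g L113592) (flp_e L113566) L164454
theorem L164460 : sm gb N20850 = N17584 := ded_17_1 L147053 L100331 (flp_g L136746) (flp_b L113568) L164454
theorem L164462 : sm gb N15583 = N20851 := rfl
theorem L164464 : sm gc N20851 = N19433 := ded_13_2 (flp_b L154140) (flp_c L120422) L149626 L113578 L164462
theorem L164466 : sm gg N20851 = N19443 := ded_17_2 (flp_b L154748) L154746 (flp_b L163093) L163091 L164462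
theorem L164468 : sm ga N18501 = N20851 := ded_8_3 L164464 L154256 L154252
theorem L164470 : sm gf N19498 = N20851 := ded_20_0 L164464 L154144 L154604
theorem L164472 : sm gd N20851 = N18499 := ded_28_1 (flp_c L142939) (flp_d L142871) L149015 L114646 (flp_c L154158) (flp_d L154250) (flp_a L154256) (flp_c L164464)
theorem L164474 : sm gd N15583 = N20852 := rfl
theorem L164476 : sm ga N20852 = N15585 := ded_9_1 (flp_d L113588) (flp_a L113580) L164474
theorem L164478 : sm gb N20852 = N18499 := ded_14_1 (flp_d L164472) (flp_b L164462) L164474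
theorem L164480 : sm ga N20814 = N19070 := ded_7_5 (flp_b L151656) L104931 (flp_b L103048) (flp_a L142941) (flp_b L164478) L164476 L113590 (flp_a L113206) L164145
theorem L164482 : sm gc N15585 = N20853 := rfl
theorem L164484 : sm ge N15585 = N20854 := rfl
theorem L164486 : sm gb N20854 = N15591 := ded_15_1 (flp_e L113622) (flp_b L113590) L164484
theorem L164488 : sm gg N15585 = N20855 := rfl
theorem L164490 : sm gd N20855 = N15586 := ded_24_1 (flp_g L113592) L113588 L164488
theorem L164492 : sm gb N20855 = N17782 := ded_17_1 L126549 L100465 (flp_g L94415) (flp_b L113590) L164488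
theorem L164494 : sm gf N15586 = N20856 := rfl
theorem L164496 : sm ga N20856 = N20841 := ded_11_1 (flp_f L164398) L163089 L164494
theorem L164498 : sm gc N20856 = N15587 := ded_20_1 (flp_f L113598) (flp_c L113594) L164494
theorem L164500 : sm gg N20856 = N20839 := ded_29_3 L164384 L113512 L113592 L164494
theorem L164502 : sm gb N19883 = N20856 := ded_13_5 L164498 L163395 (flp_c L111847) (flp_b L108709) L157353
theorem L164504 : sm ge N15589 = N20857 := rfl
theorem L164506 : sm gc N20857 = N17326 := ded_19_1 (flp_e L124313) (flp_c L141025) L164504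
theorem L164508 : sm gf N20857 = N15827 := ded_25_2 (flp_e L114676) (flp_f L113616) L164504
theorem L164510 : sm gg N20857 = N17738 := ded_26_2 (flp_e L126372) L141036 L164504
theorem L164512 : sm gd N20857 = N15591 := ded_22_1 (flp_e L113622) (flp_d L94411) (flp_e L94397) L113614 L164504
theorem L164514 : sm ga N15590 = N20858 := rfl
theorem L164516 : sm gd N20858 = N19070 := ded_9_2 (flp_a L164480) L164147 L164514
theorem L164518 : sm gb N20858 = N15777 := ded_7_2 L153010 (flp_b L142951) L164468 (flp_b L164462) L113580 L94379 (flp_a L94405) L113620 L164514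
theorem L164520 : sm gf N15590 = N20859 := rfl
theorem L164522 : sm gb N20859 = N15836 := ded_16_1 (flp_f L114718) (flp_b L94947) (flp_f L94407) L113620 L164520
theorem L164524 : sm gg N15590 = N20860 := rfl
theorem L164526 : sm gc N20860 = N20811 := ded_21_1 (flp_g L164129) L142804 L164524
theorem L164528 : sm ge N20860 = N17390 := ded_26_1 L150990 (flp_e L142806) L164524
theorem L164530 : sm gb N20860 = N17824 := ded_17_1 (flp_g L126714) (flp_b L100505) (flp_g L94409) L113620 L164524
theorem L164532 : sm gf N17389 = N20860 := ded_20_0 L164526 (flp_f L164123) (flp_c L142808)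
theorem L164534 : sm gd N15593 = N20861 := rfl
theorem L164536 : sm gb N20861 = N20861 := ded_14_1 (flp_d L164534) L113636 L164534
theorem L164537 : sm gf N20861 = N15857 := ded_23_2 (flp_d L114818) (flp_f L120200) L164534
theorem L164539 : sm gg N15593 = N20862 := rfl
theorem L164541 : sm gc N20862 = N15596 := ded_21_1 (flp_g L113645) L113634 L164539
theorem L164543 : sm ge N20862 = N15871 := ded_26_1 (flp_g L114887) (flp_e L120198) L164539
theorem L164545 : sm gb N15596 = N20863 := rfl
theorem L164547 : sm gd N20863 = N15621 := ded_14_2 (flp_b L113769) (flp_d L113647) L164545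
theorem L164549 : sm ge N20863 = N15889 := ded_15_2 (flp_b L114975) (flp_e L120193) L164545
theorem L164551 : sm gg N20863 = N15601 := ded_17_2 (flp_b L113673) (flp_g L94433) L94417 L113645 L164545
theorem L164553 : sm ga N15601 = N20864 := rfl
theorem L164555 : sm gd N20864 = N15631 := ded_9_2 (flp_a L113815) (flp_d L113675) L164553
theorem L164557 : sm gc N15601 = N20865 := rfl
theorem L164559 : sm gb N20865 = N20865 := ded_13_1 (flp_c L164557) (flp_b L113673) L94437 L113673 L164557
theorem L164560 : sm gf N15601 = N20866 := rfl
theorem L164562 : sm gd N20866 = N15633 := ded_23_1 (flp_f L113819) (flp_d L113675) L164560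
theorem L164564 : sm gg N15832 = N20866 := ded_31_0 (flp_f L164560) (flp_b L113673) (flp_g L94433) L120032 L83818 (flp_g L41482) L41480 L90646 (flp_g L106671) L150514 L90778 L90816 (flp_f L94945) L114702
theorem L164566 : sm gc N15837 = N20866 := ded_28_6 L164562 L154562 L162026 (flp_d L162016) (flp_c L112158) (flp_d L112121) L161996 L163832
theorem L164568 : sm gf N20865 = N15837 := ded_20_0 L164566 (flp_f L164560) L164557
theorem L164570 : sm ga N15607 = N20867 := rfl
theorem L164572 : sm gd N20867 = N15646 := ded_9_2 (flp_a L113881) (flp_d L113713) L164570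
theorem L164574 : sm ge N20867 = N20864 := ded_10_2 (flp_a L164553) L120447 L164570
theorem L164576 : sm gc N15607 = N20868 := rfl
theorem L164578 : sm ge N20868 = N20865 := ded_19_2 (flp_c L164557) L120447 L164576
theorem L164580 : sm gb N20868 = N20868 := ded_13_1 (flp_c L164576) (flp_b L113711) L94458 L113711 L164576
theorem L164581 : sm gd N20868 = N19660 := ded_28_7 L156038 L122264 (flp_d L157379) L157383 (flp_d L149756) (flp_c L113883) (flp_d L113713) L164576
theorem L164583 : sm gf N15607 = N20869 := rfl
theorem L164585 : sm gd N20869 = N15648 := ded_23_1 (flp_f L113885) (flp_d L113713) L164583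
theorem L164587 : sm ge N20869 = N20866 := ded_25_1 (flp_f L164560) L120447 L164583
theorem L164589 : sm gb N20869 = N20866 := ded_16_1 (flp_f L164560) (flp_b L113673) L94461 L113711 L164583
theorem L164591 : sm gg N19404 = N20869 := ded_31_0 (flp_f L164583) (flp_b L113711) (flp_g L94456) (flp_f L83821) (flp_b L23493) (flp_g L19724) L19722 L41288 (flp_g L90634) L106693 L150582 (flp_g L141834) (flp_f L106316) L153944
theorem L164593 : sm gc N15612 = N20870 := rfl
theorem L164595 : sm ga N20870 = N20688 := ded_8_1 (flp_c L162366) (flp_a L113733) L164593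
theorem L164597 : sm ge N20870 = N16264 := ded_19_2 L129898 L129894 L164593
theorem L164599 : sm gf N20870 = N16263 := ded_20_2 (flp_c L129510) L129508 L164593
theorem L164601 : sm gb N20870 = N19234 := ded_13_1 L152656 L119658 L112320 (flp_b L113735) L164593
theorem L164603 : sm gd N16806 = N20870 := ded_32_1 (flp_c L164593) (flp_d L113731) (flp_c L94474) (flp_b L83839) (flp_d L83814) L83813 L83814 (flp_c L47035) L94006 (flp_d L94016) (flp_c L93691) (flp_d L46647) L48164 (flp_b L22437) L22439 L22653 (flp_d L22649) (flp_c L10900) L5454 (flp_d L2906) (flp_c L1473) L699 L1473 (flp_b L2819) L2817 L2851 (flp_c L69605) (flp_d L5215) (flp_c L2709) (flp_b L1378) (flp_d L1359) L1358 L1359 (flp_c L1180) L2310 (flp_d L4407) (flp_c L69391) L4587 L4683 L64892 L9285 (flp_c L69576) (flp_d L17989) (flp_c L8753) L64765 (flp_d L69504) (flp_c L4589) L2372 L2430 L2432 (flp_e L2450) L4761 L9449 (flp_d L11776) (flp_c L11770) (flp_b L11754) (flp_d L11752) L5816 L11752 L24443 L84187 L95054 L114871 (flp_d L121084) L121082 L120315 (flp_d L120491) L120499 L114953 L120505 (flp_b L90600) (flp_d L84208)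 (flp_c L95052) L114855 (flp_c L121113) L121117 (flp_e L121807)
theorem L164605 : sm gg N15612 = N20871 := rfl
theorem L164607 : sm ga N20871 = N20689 := ded_12_1 (flp_g L162372) (flp_a L113733) L164605
theorem L164609 : sm gd N20871 = N15615 := ded_24_1 (flp_g L113745) L113731 L164605
theorem L164611 : sm ge N20871 = N18387 := ded_26_1 L130084 L129894 L164605
theorem L164613 : sm gf N20871 = N18311 := ded_29_2 (flp_g L129523) L129502 L129508 L164605
theorem L164615 : sm gb N18620 = N20871 := ded_7_0 L164607 (flp_b L162708) (flp_a L162748) L162752 (flp_a L143001) (flp_b L103072) (flp_a L88750) L103364 L143623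
theorem L164617 : sm gb N15615 = N20872 := rfl
theorem L164619 : sm gd N20872 = N18620 := ded_14_2 L164615 L164609 L164617
theorem L164621 : sm ge N20872 = N18539 := ded_15_2 (flp_b L143157) (flp_e L120365) L164617
theorem L164623 : sm gc N20872 = N19839 := ded_13_2 (flp_b L157689) L157685 (flp_b L113769) (flp_c L113747) L164617
theorem L164625 : sm gg N20872 = N19838 := ded_17_2 L162873 (flp_g L162865) (flp_b L112942) L113745 L164617
theorem L164627 : sm ga N18554 = N20872 := ded_9_3 L164619 (flp_a L143623) (flp_d L143247)
theorem L164629 : sm gb N15618 = N20873 := rfl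
theorem L164631 : sm gd N20873 = N19434 := ded_14_2 (flp_b L154148) (flp_d L120443) L164629
theorem L164633 : sm ge N20873 = N15621 := ded_15_2 (flp_b L113769) (flp_e L113759) L164629
theorem L164635 : sm gg N20873 = N15627 := ded_17_2 (flp_b L113799) (flp_g L94494) (flp_b L94478) L113757 L164629
theorem L164637 : sm gf N15677 = N20873 := ded_31_1 (flp_b L164629) (flp_g L113757) (flp_f L120210) L90616 L90642 (flp_f L90844) (flp_b L107043) L120124 (flp_f L113907) (flp_b L113905) L94598 (flp_f L94594) L94588 L114017
theorem L164639 : sm gb N15620 = N20874 := rfl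
theorem L164641 : sm gd N20874 = N15673 := ded_14_2 L114009 (flp_d L119915) L164639
theorem L164643 : sm ge N20874 = N19433 := ded_15_2 (flp_b L154140) (flp_e L119917) L164639
theorem L164645 : sm gf N20874 = N19499 := ded_16_2 L154608 (flp_f L153964) L153962 L113767 L164639
theorem L164647 : sm gg N20874 = N15660 := ded_17_2 (flp_b L113937) (flp_g L94554) L120216 L113765 L164639
theorem L164649 : sm ga N20874 = N19496 := ded_7_1 (flp_b L154592) L106953 L90778 (flp_a L90804) L107001 L154650 (flp_b L154654) L113775 L164639
theorem L164651 : sm ga N15621 = N20875 := rfl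
theorem L164653 : sm gg N20875 = N15631 := ded_12_2 (flp_a L113815) (flp_g L113771) L164651
theorem L164655 : sm gf N15621 = N20876 := rfl
theorem L164657 : sm ge N20876 = N15677 := ded_25_1 L164637 L164633 L164655
theorem L164659 : sm gg N20876 = N15664 := ded_29_3 (flp_a L154562) (flp_f L113819) (flp_g L113771) L164655
theorem L164661 : sm gb N15631 = N20877 := rfl
theorem L164663 : sm gg N15633 = N20878 := rfl
theorem L164665 : sm ga N20878 = N20876 := ded_12_1 L164659 (flp_a L154562) L164663
theorem L164667 : sm gd N20878 = N15832 := ded_24_1 L164564 L164562 L164663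
theorem L164669 : sm gf N20875 = N20878 := ded_29_0 (flp_g L164663) (flp_f L113819) (flp_g L113771) L164651
theorem L164671 : sm gb N15833 = N20878 := ded_31_14 (flp_g L164663) (flp_f L113819) (flp_b L94502) (flp_g L83849) L83845 (flp_b L120109) (flp_g L90846) L90844 L106697 (flp_g L154146) L154144 L106963 L107013 (flp_f L114708)
theorem L164673 : sm ga N15639 = N20879 := rfl
theorem L164675 : sm gd N20879 = N15642 := ded_9_2 (flp_a L113861) (flp_d L113845) L164673
theorem L164677 : sm ge N20879 = N15654 := ded_10_2 (flp_a L113909) (flp_e L120161) L164673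
theorem L164679 : sm gf N20879 = N15691 := ded_11_2 (flp_a L163521) (flp_f L163491) L164673
theorem L164681 : sm gg N20879 = N15661 := ded_12_2 (flp_a L113943) (flp_g L113847) L164673
theorem L164683 : sm gb N15642 = N20880 := rfl
theorem L164685 : sm ge N20880 = N15649 := ded_15_2 (flp_b L113889) (flp_e L113863) L164683
theorem L164687 : sm gf N20880 = N19447 := ded_16_2 (flp_b L154226) (flp_f L106721) L106715 L151038 L164683
theorem L164689 : sm gb N15646 = N20881 := rfl
theorem L164691 : sm gg N15648 = N20882 := rfl
theorem L164693 : sm ga N20882 = N19438 := ded_12_1 L154690 L154684 L164691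
theorem L164695 : sm gc N20882 = N19468 := ded_21_1 (flp_g L154490) L154486 L164691
theorem L164697 : sm gd N20882 = N19404 := ded_24_1 L164591 L164585 L164691
theorem L164699 : sm gf N19436 = N20882 := ded_29_0 (flp_g L164691) (flp_f L113885) (flp_g L106683) L154168
theorem L164701 : sm gb N20882 = N19405 := ded_17_1 L153956 L164671 (flp_g L164663) (flp_b L113887) L164691
theorem L164703 : sm ga N15649 = N20883 := rfl
theorem L164705 : sm gf N20883 = N19636 := ded_11_2 (flp_a L155652) L154624 L164703
theorem L164707 : sm gg N19508 = N20883 := ded_29_3 (flp_a L164703) (flp_f L154624) L154626 L154676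
theorem L164709 : sm gc N15649 = N20884 := rfl
theorem L164711 : sm gf N20884 = N19374 := ded_20_2 (flp_c L154622) L154624 L164709
theorem L164713 : sm gg N15649 = N20885 := rfl
theorem L164715 : sm ga N20885 = N19508 := ded_12_1 L164707 (flp_a L164703) L164713
theorem L164717 : sm gf N18536 = N20885 := ded_29_0 (flp_g L164713) (flp_f L154624) L154626 L154258
theorem L164719 : sm gb N20885 = N15677 := ded_17_1 (flp_g L114017) (flp_b L94588) (flp_g L94538) L113889 L164713
theorem L164721 : sm gb N15650 = N20886 := rfl
theorem L164723 : sm gd N20886 = N19085 := ded_14_2 L151732 (flp_d L153447) L164721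
theorem L164725 : sm ge N15651 = N20887 := rfl
theorem L164727 : sm ga N20887 = N18775 := ded_10_1 L144523 (flp_a L153420) L164725
theorem L164729 : sm gc N20887 = N18774 := ded_19_1 L144517 (flp_c L153422) L164725
theorem L164731 : sm gf N20887 = N18778 := ded_25_2 L144539 (flp_f L153424) L164725
theorem L164733 : sm gg N20887 = N15683 := ded_26_2 (flp_e L114037) (flp_g L113899) L164725
theorem L164735 : sm ga N15653 = N20888 := rfl
theorem L164737 : sm gd N20888 = N19519 := ded_9_2 (flp_a L154766) L154768 L164735
theorem L164739 : sm ge N20888 = N15691 := ded_10_2 (flp_a L163521) L163578 L164735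
theorem L164741 : sm gf N20888 = N15654 := ded_11_2 (flp_a L113909) (flp_f L113907) L164735
theorem L164743 : sm gg N19518 = N20888 := ded_29_3 (flp_a L164735) L113907 (flp_g L120124) L154750
theorem L164745 : sm gb N20888 = N15671 := ded_7_2 (flp_a L113995) (flp_b L94584) L83899 L90646 L106701 L151026 L94616 L113905 L164735
theorem L164747 : sm gg N15653 = N20889 := rfl
theorem L164749 : sm ga N20889 = N19518 := ded_12_1 L164743 (flp_a L164735) L164747
theorem L164751 : sm gd N20889 = N19513 := ded_24_1 (flp_g L154772) L154768 L164747
theorem L164753 : sm gf N19512 = N20889 := ded_29_0 (flp_g L164747) L113907 (flp_g L120124) (flp_a L154712)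
theorem L164755 : sm gb N15654 = N20890 := rfl
theorem L164757 : sm gc N15654 = N20891 := rfl
theorem L164759 : sm ga N20891 = N15655 := ded_8_1 (flp_c L113911) L113909 L164757
theorem L164761 : sm gd N15655 = N20892 := rfl
theorem L164763 : sm ga N15660 = N20893 := rfl
theorem L164765 : sm gd N20893 = N15671 := ded_9_2 (flp_a L113995) (flp_d L113939) L164763
theorem L164767 : sm ge N20893 = N19442 := ded_10_2 (flp_a L154208) (flp_e L113941) L164763
theorem L164769 : sm gg N20893 = N19496 := ded_12_2 (flp_a L164649) L164647 L164763
theorem L164771 : sm gb N20893 = N19519 := ded_7_2 (flp_a L154766) L154774 L107067 L154212 (flp_a L154208) (flp_b L106697) (flp_a L94556) L113937 L164763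
theorem L164773 : sm gc N15660 = N20894 := rfl
theorem L164775 : sm ge N20894 = N19443 := ded_19_2 (flp_c L154214) (flp_e L113941) L164773
theorem L164777 : sm gb N20894 = N15662 := ded_13_1 (flp_c L113947) (flp_b L94566) (flp_c L94558) L113937 L164773
theorem L164779 : sm gf N15660 = N20895 := rfl
theorem L164781 : sm gd N20895 = N15669 := ded_23_1 L113985 (flp_d L113939) L164779
theorem L164783 : sm ge N20895 = N19444 := ded_25_1 (flp_f L154216) (flp_e L113941) L164779
theorem L164785 : sm gb N20895 = N15663 := ded_16_1 (flp_f L113949) (flp_b L94566) L94564 L113937 L164779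
theorem L164787 : sm gb N15661 = N20896 := rfl
theorem L164789 : sm gd N20896 = N15664 := ded_14_2 (flp_b L113953) (flp_d L113945) L164787
theorem L164791 : sm ga N20866 = N20896 := ded_9_3 L164789 (flp_a L154562) (flp_d L164562)
theorem L164793 : sm gf N20864 = N20896 := ded_23_0 L164789 L154568 (flp_d L164555)
theorem L164795 : sm gc N15661 = N20897 := rfl
theorem L164797 : sm ga N20897 = N15662 := ded_8_1 (flp_c L113947) L113943 L164795
theorem L164799 : sm gd N20897 = N16899 := ded_28_7 L122268 L122238 (flp_d L98609) (flp_c L123375) L163659 (flp_c L113957) (flp_d L113945) L164795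
theorem L164801 : sm gf N20897 = N16897 := ded_29_0 (flp_g L122258) (flp_f L122234) (flp_g L163493) (flp_a L164797)
theorem L164803 : sm gf N15661 = N20898 := rfl
theorem L164805 : sm ga N20898 = N15663 := ded_11_1 (flp_f L113949) L113943 L164803
theorem L164807 : sm gc N20898 = N16897 := ded_20_1 (flp_f L164801) (flp_c L164795) L164803
theorem L164809 : sm gd N20898 = N15666 := ded_23_1 (flp_f L113963) (flp_d L113945) L164803
theorem L164811 : sm ge N20898 = N20889 := ded_25_1 (flp_f L164753) L154714 L164803
theorem L164813 : sm gg N20898 = N16895 := ded_29_3 L163521 (flp_f L164679) L164681 L164803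
theorem L164815 : sm gf N15662 = N20899 := rfl
theorem L164817 : sm ga N20899 = N16897 := ded_11_1 (flp_f L164801) L164797 L164815
theorem L164819 : sm gc N20899 = N15663 := ded_20_1 (flp_f L113949) L113947 L164815
theorem L164821 : sm gd N20899 = N16894 := ded_23_1 L122252 L163582 L164815
theorem L164823 : sm gg N20899 = N16893 := ded_29_3 L122244 (flp_f L122234) (flp_g L163493) L164815
theorem L164825 : sm gf N15665 = N20900 := rfl
theorem L164827 : sm ga N20900 = N15668 := ded_11_1 (flp_f L113975) (flp_a L113959) L164825
theorem L164829 : sm gc N20900 = N15666 := ded_20_1 (flp_f L113963) L113957 L164825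
theorem L164831 : sm gd N20900 = N16703 := ded_23_1 L123377 L163659 L164825
theorem L164833 : sm ge N20900 = N15680 := ded_25_1 (flp_f L114025) (flp_e L113961) L164825
theorem L164835 : sm gg N20900 = N20613 := ded_29_3 L161950 (flp_f L123371) L163586 L164825
theorem L164837 : sm gb N15666 = N20901 := rfl
theorem L164839 : sm ge N20901 = N15681 := ded_15_2 (flp_b L114033) (flp_e L113967) L164837
theorem L164841 : sm gf N20901 = N20877 := ded_16_2 (flp_b L164661) (flp_f L154568) (flp_b L113953) L113963 L164837
theorem L164843 : sm ge N15667 = N20902 := rfl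
theorem L164845 : sm gb N20902 = N15699 := ded_15_1 (flp_e L114113) (flp_b L113973) L164843
theorem L164847 : sm gc N20902 = N20336 := ded_19_1 L160308 (flp_c L163594) L164843
theorem L164849 : sm gf N20902 = N20335 := ded_25_2 L160302 (flp_f L163596) L164843
theorem L164851 : sm gd N20902 = N15683 := ded_22_1 (flp_e L114037) (flp_d L94600) (flp_e L94576) L113971 L164843
theorem L164853 : sm ga N15669 = N20903 := rfl
theorem L164855 : sm gc N20903 = N20765 := ded_8_2 L162849 L142708 L164853
theorem L164857 : sm ge N20903 = N15687 := ded_10_2 (flp_a L114057) (flp_e L113983) L164853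
theorem L164859 : sm gf N20903 = N15671 := ded_11_2 (flp_a L113995) (flp_f L113985) L164853
theorem L164861 : sm gg N15671 = N20904 := rfl
theorem L164863 : sm ga N20904 = N15673 := ded_12_1 (flp_g L114005) L113995 L164861
theorem L164865 : sm gc N20904 = N20763 := ded_21_1 L162837 L142712 L164861
theorem L164867 : sm gd N20904 = N19496 := ded_24_1 (flp_g L164769) L164765 L164861
theorem L164869 : sm ge N20904 = N15693 := ded_26_1 (flp_g L114081) (flp_e L113997) L164861
theorem L164871 : sm gf N20904 = N19439 := ded_29_2 L154186 L164853 L164859 L164861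
theorem L164873 : sm gb N20904 = N19497 := ded_17_1 L154602 (flp_b L154756) L164743 L164745 L164861
theorem L164875 : sm gf N15673 = N20905 := rfl
theorem L164877 : sm ga N20905 = N19439 := ded_11_1 (flp_f L164871) L164863 L164875
theorem L164879 : sm gc N20905 = N20764 := ded_20_1 (flp_f L162839) (flp_c L142706) L164875
theorem L164881 : sm gd N20905 = N19499 := ded_23_1 (flp_f L164645) L164641 L164875
theorem L164883 : sm ge N20905 = N15696 := ded_25_1 (flp_f L114097) (flp_e L114007) L164875
theorem L164885 : sm gg N20905 = N20903 := ded_29_3 (flp_a L164853) L113985 L114005 L164875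
theorem L164887 : sm gb N19503 = N20905 := ded_7_0 L164877 (flp_b L154182) (flp_a L106685) (flp_b L90632) (flp_a L90612) L106647 L154128 (flp_b L154674) L154660
theorem L164889 : sm gg N15674 = N20906 := rfl
theorem L164891 : sm ga N20906 = N15677 := ded_12_1 (flp_g L114017) L114011 L164889
theorem L164893 : sm ge N20906 = N20878 := ded_26_1 (flp_g L164663) (flp_e L154556) L164889
theorem L164895 : sm gg N15675 = N20907 := rfl
theorem L164897 : sm gc N20907 = N15677 := ded_21_1 (flp_g L114017) L114013 L164895
theorem L164899 : sm gd N20907 = N20055 := ded_24_1 (flp_g L158409) L157475 L164895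
theorem L164901 : sm gb N15676 = N20908 := rfl
theorem L164903 : sm ge N20908 = N20877 := ded_15_2 (flp_b L164661) (flp_e L154566) L164901
theorem L164905 : sm gf N20908 = N15681 := ded_16_2 (flp_b L114033) (flp_f L94594) L94588 L114015 L164901
theorem L164907 : sm gg N15676 = N20909 := rfl
theorem L164909 : sm ga N20909 = N20873 := ded_12_1 L164635 L154560 L164907
theorem L164911 : sm gc N20909 = N19357 := ded_21_1 (flp_g L155668) (flp_c L157471) L164907
theorem L164913 : sm ge N20909 = N20875 := ded_26_1 L164653 (flp_e L154566) L164907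
theorem L164915 : sm gf N20906 = N20909 := ded_29_0 (flp_g L164907) (flp_f L114015) L114017 (flp_a L164891)
theorem L164917 : sm gb N19431 = N20909 := ded_7_0 L164909 (flp_b L164629) (flp_a L142853) L151030 (flp_a L153952) (flp_b L164701) L164693 L154180 L154136
theorem L164919 : sm gd N15678 = N20910 := rfl
theorem L164921 : sm gb N20910 = N15679 := ded_14_1 (flp_d L114021) L114019 L164919
theorem L164923 : sm gf N20910 = N19944 := ded_23_2 L157797 L157481 L164919
theorem L164925 : sm ge N15679 = N20911 := rfl
theorem L164927 : sm ga N20911 = N15683 := ded_10_1 (flp_e L114037) (flp_a L114023) L164925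
theorem L164929 : sm gc N20911 = N18776 := ded_19_1 L144529 (flp_c L153457) L164925
theorem L164931 : sm gg N20911 = N18775 := ded_26_2 L144523 (flp_g L153461) L164925
theorem L164933 : sm gb N15680 = N20912 := rfl
theorem L164935 : sm gf N20912 = N19945 := ded_16_2 (flp_b L157799) L157481 (flp_b L114019) L114025 L164933
theorem L164937 : sm ga N20912 = N20884 := ded_30_3 L164711 (flp_c L154622) (flp_b L154618) L151022 (flp_f L106711) L106705 L106709 (flp_a L139151) (flp_f L90690) (flp_c L41300) (flp_b L19609) (flp_a L11348) (flp_f L11346) (flp_c L11334) L23521 L83907 L94594 (flp_c L114029) L164933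
theorem L164939 : sm gc N20883 = N20912 := ded_30_1 (flp_b L164933) L114027 (flp_f L94604) (flp_c L83909) (flp_b L23521) (flp_a L19720) L19722 L19601 L19609 L41296 (flp_f L140916) L90664 (flp_b L106709) L150554 (flp_f L106969) (flp_c L106967) L154618 L155652 (flp_f L164705)
theorem L164941 : sm gg N20912 = N19373 := ded_29_1 (flp_f L153700) L153702 L157805 (flp_f L164935)
theorem L164943 : sm ga N15681 = N20913 := rfl
theorem L164945 : sm gc N15681 = N20914 := rfl
theorem L164947 : sm gb N20914 = N20883 := ded_13_1 L164939 (flp_b L164933) L114029 L114033 L164945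
theorem L164949 : sm ga N20877 = N20914 := ded_7_9 L164947 (flp_a L164703) (flp_b L113889) (flp_a L94536) (flp_b L83869) (flp_a L83851) L94502 L113815 L164661
theorem L164951 : sm gc N20913 = N20877 := ded_8_0 L164949 (flp_c L164945) L164943
theorem L164953 : sm gg N15681 = N20915 := rfl
theorem L164955 : sm gb N20915 = N20889 := ded_17_1 (flp_g L164747) (flp_b L113905) L94598 L114033 L164953
theorem L164957 : sm gg N15685 = N20916 := rfl
theorem L164959 : sm gb N15687 = N20917 := rfl
theorem L164961 : sm gd N20917 = N19447 := ded_14_2 (flp_b L154226) (flp_d L114059) L164959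
theorem L164963 : sm gg N20917 = N19459 := ded_17_2 (flp_b L154292) (flp_g L142800) L151056 L114103 L164959
theorem L164965 : sm gg N15688 = N20918 := rfl
theorem L164967 : sm ga N20918 = N18490 := ded_12_1 (flp_g L163063) L163065 L164965
theorem L164969 : sm gc N20918 = N15689 := ded_21_1 (flp_g L114067) L114063 L164965
theorem L164971 : sm gd N20918 = N18514 := ded_24_1 (flp_g L143039) L143037 L164965
theorem L164973 : sm ge N20918 = N20766 := ded_26_1 (flp_g L162855) (flp_e L133817) L164965
theorem L164975 : sm gf N18491 = N20918 := ded_29_0 (flp_g L164965) L114065 (flp_g L133812) L142901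
theorem L164977 : sm gb N20821 = N20918 := ded_31_14 (flp_g L164965) L114065 L94626 (flp_g L133790) (flp_f L85995) (flp_b L119350) L146790 (flp_f L99225) (flp_b L86117) L77850 L47320 L94235 L113344 L164202
theorem L164979 : sm gb N15693 = N20919 := rfl
theorem L164981 : sm gd N20919 = N19439 := ded_14_2 (flp_b L154182) (flp_d L114085) L164979
theorem L164983 : sm ge N20919 = N19497 := ded_15_2 (flp_b L164873) L164869 L164979
theorem L164985 : sm gf N20919 = N19496 := ded_16_2 (flp_b L154592) (flp_f L154162) L154166 (flp_f L114087) L164979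
theorem L164987 : sm gg N20919 = N20895 := ded_17_2 L164785 (flp_g L151133) (flp_b L114073) L114081 L164979
theorem L164989 : sm ga N19499 = N20919 := ded_9_3 L164981 (flp_a L164877) L164881
theorem L164991 : sm ga N15697 = N20920 := rfl
theorem L164993 : sm ge N20920 = N15706 := ded_10_2 (flp_a L114145) (flp_e L114107) L164991
theorem L164995 : sm gd N15697 = N20921 := rfl
theorem L164997 : sm gb N20921 = N15698 := ded_14_1 (flp_d L114109) L114105 L164995
theorem L164999 : sm gf N15697 = N20922 := rfl
theorem L165001 : sm ge N20922 = N15708 := ded_25_1 (flp_f L114151) (flp_e L114107) L164999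
theorem L165003 : sm gg N15697 = N20923 := rfl
theorem L165005 : sm ge N20923 = N15709 := ded_26_1 (flp_g L114153) (flp_e L114107) L165003
theorem L165007 : sm ge N15698 = N20924 := rfl
theorem L165009 : sm ga N20924 = N15699 := ded_10_1 (flp_e L114113) (flp_a L114111) L165007
theorem L165011 : sm gd N20924 = N15710 := ded_22_1 (flp_e L114155) (flp_d L94668) (flp_e L94638) L114109 L165007
theorem L165013 : sm ga N15704 = N20925 := rfl
theorem L165015 : sm gc N20925 = N15706 := ded_8_2 (flp_a L114145) (flp_c L114139) L165013
theorem L165017 : sm gd N15704 = N20926 := rfl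
theorem L165019 : sm gb N20926 = N15705 := ded_14_1 (flp_d L114141) L114137 L165017
theorem L165021 : sm gf N15758 = N20926 := ded_31_1 L165019 L114143 (flp_f L106791) (flp_b L106729) (flp_g L154206) L154204 (flp_b L106929) L90768 L90716 (flp_b L148440) (flp_g L84005) L84001 L94779 L114374
theorem L165023 : sm gf N15704 = N20927 := rfl
theorem L165025 : sm gc N20927 = N15708 := ded_20_1 (flp_f L114151) (flp_c L114139) L165023
theorem L165027 : sm gd N20927 = N15758 := ded_23_1 L165021 (flp_d L165017) L165023
theorem L165029 : sm gg N15728 = N20927 := ded_31_0 (flp_f L165023) (flp_b L114137) L94664 (flp_f L90690) (flp_b L90654) (flp_g L106691) L149283 (flp_b L90770) L41424 L41332 (flp_b L83974) L146380 L94705 L114236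
theorem L165031 : sm gg N15704 = N20928 := rfl
theorem L165033 : sm gc N20928 = N15709 := ded_21_1 (flp_g L114153) (flp_c L114139) L165031
theorem L165035 : sm gb N20928 = N19464 := ded_17_1 (flp_g L154320) (flp_b L106795) (flp_g L94664) L114137 L165031
theorem L165037 : sm ge N15705 = N20929 := rfl
theorem L165039 : sm gg N20929 = N19461 := ded_26_2 L154308 (flp_g L114143) L165037
theorem L165041 : sm gb N15706 = N20930 := rfl
theorem L165043 : sm gd N15706 = N20931 := rfl
theorem L165045 : sm ga N20931 = N15707 := ded_9_1 (flp_d L114147) L114145 L165043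
theorem L165047 : sm gf N15706 = N20932 := rfl
theorem L165049 : sm ga N20932 = N15708 := ded_11_1 (flp_f L114151) L114145 L165047
theorem L165051 : sm gg N15706 = N20933 := rfl
theorem L165053 : sm ga N20933 = N15709 := ded_12_1 (flp_g L114153) L114145 L165051
theorem L165055 : sm ge N15707 = N20934 := rfl
theorem L165057 : sm gb N20934 = N15710 := ded_15_1 (flp_e L114155) (flp_b L114149) L165055
theorem L165059 : sm gg N15707 = N20935 := rfl
theorem L165061 : sm gd N20935 = N15709 := ded_24_1 (flp_g L114153) L114147 L165059
theorem L165063 : sm gg N15708 = N20936 := rfl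
theorem L165065 : sm gc N20936 = N15728 := ded_21_1 L165029 L165025 L165063
theorem L165067 : sm gf N20933 = N20936 := ded_29_0 (flp_g L165063) (flp_f L114151) L114153 (flp_a L165053)
theorem L165069 : sm gb N20936 = N20936 := ded_17_1 (flp_g L165063) (flp_b L125936) L150796 L125936 L165063
theorem L165070 : sm gf N15709 = N20937 := rfl
theorem L165072 : sm ga N20937 = N20936 := ded_11_1 (flp_f L165067) L165053 L165070
theorem L165074 : sm gg N20937 = N20932 := ded_29_3 L165049 (flp_f L114151) L114153 L165070
theorem L165076 : sm ga N15711 = N20938 := rfl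
theorem L165078 : sm gc N20938 = N18287 := ded_8_2 (flp_a L152252) L153402 L165076
theorem L165080 : sm gd N20938 = N17822 := ded_9_2 (flp_a L126708) (flp_d L114163) L165076
theorem L165082 : sm gf N20938 = N18286 := ded_29_0 L151566 L153394 (flp_g L153400) L165076
theorem L165084 : sm ge N15711 = N20939 := rfl
theorem L165086 : sm gb N20939 = N15712 := ded_15_1 (flp_e L114165) L114161 L165084
theorem L165088 : sm gf N15711 = N20940 := rfl
theorem L165090 : sm ga N20940 = N18286 := ded_11_1 (flp_f L165082) (flp_a L165076) L165088
theorem L165092 : sm gc N20940 = N18285 := ded_20_1 L152250 L153402 L165088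
theorem L165094 : sm gd N20940 = N17823 := ded_23_1 (flp_f L126710) (flp_d L114163) L165088
theorem L165096 : sm gg N20940 = N19345 := ded_29_3 (flp_a L153384) L153394 (flp_g L153400) L165088
theorem L165098 : sm gd N15712 = N20941 := rfl
theorem L165100 : sm ga N20941 = N17738 := ded_9_1 L141038 (flp_a L114167) L165098
theorem L165102 : sm gf N20941 = N17403 := ded_23_2 L142802 (flp_f L114746) L165098
theorem L165104 : sm ge N20941 = N17404 := ded_22_2 L124704 L142000 (flp_d L94678) L114165 L165098
theorem L165106 : sm gc N20941 = N17562 := ded_28_6 L141046 (flp_a L114734) L114736 (flp_d L114680) L114678 L114115 (flp_c L114169) L165098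
theorem L165108 : sm gb N15713 = N20942 := rfl
theorem L165110 : sm ge N20942 = N15714 := ded_15_2 (flp_b L114175) (flp_e L114173) L165108
theorem L165112 : sm ga N15714 = N20943 := rfl
theorem L165114 : sm gd N20943 = N15715 := ded_9_2 (flp_a L114179) (flp_d L114177) L165112
theorem L165116 : sm gc N15714 = N20944 := rfl
theorem L165118 : sm gf N20944 = N19043 := ded_20_2 (flp_c L151790) (flp_f L153471) L165116
theorem L165120 : sm gd N19931 = N20944 := ded_23_3 L165118 L146134 (flp_f L157717)
theorem L165122 : sm gg N20944 = N19929 := ded_29_1 L157703 (flp_g L143481) L146138 (flp_f L165118)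
theorem L165124 : sm gg N15714 = N20945 := rfl
theorem L165126 : sm gc N20945 = N19929 := ded_21_1 (flp_g L165122) (flp_c L165116) L165124
theorem L165128 : sm gd N20945 = N15716 := ded_24_1 (flp_g L114181) (flp_d L114177) L165124
theorem L165130 : sm gg N15715 = N20946 := rfl
theorem L165132 : sm ga N20946 = N15716 := ded_12_1 (flp_g L114181) L114179 L165130
theorem L165134 : sm gf N20946 = N20916 := ded_29_2 (flp_g L164957) (flp_a L157707) L157709 L165130
theorem L165136 : sm gf N15716 = N20947 := rfl
theorem L165138 : sm ga N20947 = N20916 := ded_11_1 (flp_f L165134) L165132 L165136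
theorem L165140 : sm gc N20947 = N19931 := ded_20_1 L157717 L140965 L165136
theorem L165142 : sm gg N20947 = N19930 := ded_29_3 L157707 L114047 L114181 L165136
theorem L165144 : sm gd N15721 = N20948 := rfl
theorem L165146 : sm gb N20948 = N20948 := ded_14_1 (flp_d L165144) L114203 L165144
theorem L165147 : sm gg N20948 = N15892 := ded_24_2 (flp_d L114991) (flp_g L148407) L165144
theorem L165149 : sm gf N15721 = N20949 := rfl
theorem L165151 : sm gc N20949 = N15723 := ded_20_1 (flp_f L114208) L114201 L165149
theorem L165153 : sm ge N20949 = N15908 := ded_25_1 (flp_f L115070) (flp_e L148405) L165149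
theorem L165155 : sm gb N15723 = N20950 := rfl
theorem L165157 : sm gd N20950 = N15747 := ded_14_2 (flp_b L114328) (flp_d L114210) L165155
theorem L165159 : sm ge N20950 = N15925 := ded_15_2 (flp_b L115152) (flp_e L148400) L165155
theorem L165161 : sm gf N20950 = N15728 := ded_16_2 (flp_b L114236) (flp_f L94705) L94696 L114208 L165155
theorem L165163 : sm gc N20933 = N20950 := ded_20_3 L165161 (flp_c L165065) (flp_f L165067)
theorem L165165 : sm gg N20950 = N20925 := ded_29_3 (flp_a L165013) L165023 (flp_g L165029) (flp_f L165161)
theorem L165167 : sm ga N20928 = N20950 := ded_29_4 L165161 L165029 (flp_f L165023) L165031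
theorem L165169 : sm ga N15728 = N20951 := rfl
theorem L165171 : sm gc N20951 = N20937 := ded_8_2 L165072 L165065 L165169
theorem L165173 : sm gd N20951 = N15756 := ded_9_2 (flp_a L114370) (flp_d L114238) L165169
theorem L165175 : sm gf N20951 = N20928 := ded_11_2 L165167 L165161 L165169
theorem L165177 : sm ga N15736 = N20952 := rfl
theorem L165179 : sm gd N20952 = N15782 := ded_9_2 (flp_a L114470) (flp_d L114284) L165177
theorem L165181 : sm ge N20952 = N20951 := ded_10_2 (flp_a L165169) (flp_e L149560) L165177
theorem L165183 : sm gc N15736 = N20953 := rfl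
theorem L165185 : sm ge N20953 = N20936 := ded_19_2 L165065 (flp_e L149560) L165183
theorem L165187 : sm gb N20953 = N20953 := ded_13_1 (flp_c L165183) (flp_b L114282) L94746 L114282 L165183
theorem L165188 : sm gd N20953 = N19651 := ded_28_7 L156058 L123157 (flp_d L157461) L157465 (flp_d L120445) L149764 (flp_d L114284) L165183
theorem L165190 : sm gg N20922 = N20953 := ded_26_0 L165185 (flp_g L165063) (flp_e L165001)
theorem L165192 : sm gg N15736 = N20954 := rfl
theorem L165194 : sm gc N20954 = N20922 := ded_21_1 L165190 (flp_c L165183) L165192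
theorem L165196 : sm gd N20954 = N15784 := ded_24_1 (flp_g L114474) (flp_d L114284) L165192
theorem L165198 : sm ge N20954 = N20927 := ded_26_1 (flp_g L165029) (flp_e L149560) L165192
theorem L165200 : sm gb N20954 = N20927 := ded_17_1 (flp_g L165029) (flp_b L114236) (flp_g L94749) L114282 L165192
theorem L165202 : sm gf N20954 = N19368 := ded_31_1 (flp_b L153672) L105999 L139135 (flp_b L106709) L150560 L90750 (flp_b L41426) L19690 L19629 L23697 L83982 L94742 L114282 L165192
theorem L165204 : sm gc N15740 = N20955 := rfl
theorem L165206 : sm ga N20955 = N20742 := ded_8_1 (flp_c L162684) (flp_a L114300) L165204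
theorem L165208 : sm ge N20955 = N16368 := ded_19_2 L129922 (flp_e L148566) L165204
theorem L165210 : sm gg N20955 = N16366 := ded_21_2 L129535 L148560 L165204
theorem L165212 : sm gb N20955 = N19292 := ded_13_1 L153077 L150422 L112564 (flp_b L114302) L165204
theorem L165214 : sm gd N16992 = N20955 := ded_32_1 (flp_c L165204) (flp_d L114298) (flp_c L94753) (flp_b L83995) (flp_d L83970) L83969 L83970 (flp_c L47374) L94257 (flp_d L94267) (flp_c L93811) (flp_d L46775) L80429 (flp_b L22493) L22495 L22830 (flp_d L22826) (flp_c L10972) L5490 (flp_d L2940) (flp_c L1487) L704 L1487 (flp_b L2833) L2831 L2877 (flp_c L82593) (flp_d L5243) (flp_c L2721) (flp_b L1386) (flp_d L1364) L1363 L1364 (flp_c L1184) L2320 (flp_d L4419) L82512 L4601 L4723 L82549 L9373 (flp_c L82555) (flp_d L18061) (flp_c L8785) L81752 L82535 (flp_c L4603) L2382 L2440 L2442 (flp_e L2478) L4787 L9484 L65501 (flp_c L11893) (flp_b L11847) (flp_d L11845) L5858 L11845 L24643 L84234 L95148 L115044 L150882 (flp_c L150876) L150886 (flp_d L150604) L150602 L115126 L149650 (flp_b L90720) (flp_d L84255) (flp_c L95146) L115028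 L150456 L121410 (flp_e L122710)
theorem L165216 : sm gf N15740 = N20956 := rfl
theorem L165218 : sm ga N20956 = N20743 := ded_11_1 (flp_f L162690) (flp_a L114300) L165216
theorem L165220 : sm gd N20956 = N15742 := ded_23_1 (flp_f L114308) L114298 L165216
theorem L165222 : sm ge N20956 = N18395 := ded_25_1 (flp_f L130145) (flp_e L148566) L165216
theorem L165224 : sm gg N18314 = N20956 := ded_29_1 (flp_f L165216) (flp_g L148560) (flp_a L129529) L129655
theorem L165226 : sm gb N18579 = N20956 := ded_7_0 L165218 L162696 (flp_a L162426) L162430 (flp_a L142927) (flp_b L103040) (flp_a L88710) L103278 L143375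
theorem L165228 : sm gb N15742 = N20957 := rfl
theorem L165230 : sm gd N20957 = N18579 := ded_14_2 L165226 L165220 L165228
theorem L165232 : sm ge N20957 = N18554 := ded_15_2 (flp_b L143245) (flp_e L146493) L165228
theorem L165234 : sm gc N20957 = N19830 := ded_13_2 (flp_b L157557) L157553 (flp_b L114328) (flp_c L114310) L165228
theorem L165236 : sm gf N20957 = N19829 := ded_16_2 (flp_b L164220) (flp_f L164212) (flp_b L113370) L114308 L165228
theorem L165238 : sm ga N18539 = N20957 := ded_9_3 L165230 (flp_a L143375) (flp_d L143159)
theorem L165240 : sm gb N15745 = N20958 := rfl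
theorem L165242 : sm gd N20958 = N19489 := ded_14_2 (flp_b L154482) (flp_d L148432) L165240
theorem L165244 : sm ge N20958 = N15747 := ded_15_2 (flp_b L114328) (flp_e L114322) L165240
theorem L165246 : sm gf N20958 = N15754 := ded_16_2 (flp_b L114362) (flp_f L94767) (flp_b L94757) L114320 L165240
theorem L165248 : sm gg N20958 = N15804 := ded_31_3 (flp_f L114576) (flp_b L94867) L94873 L94877 L114458 L114460 (flp_f L148370) L106821 (flp_g L90768) (flp_f L90762) (flp_b L90736) (flp_g L148426) L114320 L165240
theorem L165250 : sm ga N15747 = N20959 := rfl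
theorem L165252 : sm gd N20959 = N20928 := ded_9_2 L165167 L165157 L165250
theorem L165254 : sm gf N20959 = N15756 := ded_11_2 (flp_a L114370) (flp_f L114330) L165250
theorem L165256 : sm gg N20926 = N20959 := ded_29_3 (flp_a L165250) L114330 L114374 L165021
theorem L165258 : sm gg N15747 = N20960 := rfl
theorem L165260 : sm ga N20960 = N20926 := ded_12_1 L165256 (flp_a L165250) L165258
theorem L165262 : sm gd N20960 = N20925 := ded_24_1 (flp_g L165165) L165157 L165258
theorem L165264 : sm ge N20960 = N15804 := ded_26_1 (flp_g L165248) L165244 L165258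
theorem L165266 : sm gf N15792 = N20960 := ded_29_0 (flp_g L165258) L114330 L114374 L154524
theorem L165268 : sm gb N15750 = N20961 := rfl
theorem L165270 : sm gd N20961 = N15801 := ded_14_2 L114570 (flp_d L146454) L165268
theorem L165272 : sm ge N20961 = N19441 := ded_15_2 L154202 (flp_e L146456) L165268
theorem L165274 : sm gf N20961 = N15788 := ded_16_2 (flp_b L114498) (flp_f L94833) (flp_b L146434) L114340 L165268
theorem L165276 : sm gg N20961 = N19449 := ded_17_2 L154234 (flp_g L153692) L153690 (flp_g L114344) L165268
theorem L165278 : sm ga N20961 = N19445 := ded_7_1 (flp_b L154220) L106719 L90654 (flp_a L90678) L106767 L154270 L154470 (flp_a L114342) L165268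
theorem L165280 : sm gb N15756 = N20962 := rfl
theorem L165282 : sm ga N15766 = N20963 := rfl
theorem L165284 : sm gd N20963 = N15769 := ded_9_2 (flp_a L114418) (flp_d L114400) L165282
theorem L165286 : sm ge N20963 = N15779 := ded_10_2 (flp_a L114462) (flp_e L148452) L165282
theorem L165288 : sm gf N20963 = N15789 := ded_11_2 (flp_a L114504) (flp_f L114402) L165282
theorem L165290 : sm gg N20963 = N15819 := ded_12_2 (flp_a L163695) (flp_g L163758) L165282
theorem L165292 : sm gb N15769 = N20964 := rfl
theorem L165294 : sm ge N20964 = N15774 := ded_15_2 (flp_b L114442) (flp_e L114420) L165292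
theorem L165296 : sm gg N20964 = N19456 := ded_17_2 L154280 (flp_g L106955) L106949 L150578 L165292
theorem L165298 : sm ga N15774 = N20965 := rfl
theorem L165300 : sm gg N20965 = N19641 := ded_12_2 (flp_a L155688) L154246 L165298
theorem L165302 : sm gf N20965 = N19464 := ded_29_0 (flp_g L154320) (flp_f L154244) L154246 L165298
theorem L165304 : sm gc N15774 = N20966 := rfl
theorem L165306 : sm gg N20966 = N19409 := ded_21_2 (flp_c L154242) L154246 L165304
theorem L165308 : sm gf N15774 = N20967 := rfl
theorem L165310 : sm ga N20967 = N19464 := ded_11_1 (flp_f L165302) (flp_a L165298) L165308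
theorem L165312 : sm gg N20967 = N18549 := ded_29_3 L154462 (flp_f L154244) L154246 L165308
theorem L165314 : sm gb N20967 = N15804 := ded_16_1 (flp_f L114576) (flp_b L94867) (flp_f L94815) L114442 L165308
theorem L165316 : sm gb N15775 = N20968 := rfl
theorem L165318 : sm gd N20968 = N19061 := ded_14_2 L151624 (flp_d L153004) L165316
theorem L165320 : sm ge N15776 = N20969 := rfl
theorem L165322 : sm ga N20969 = N18757 := ded_10_1 L144431 (flp_a L153014) L165320
theorem L165324 : sm gc N20969 = N18756 := ded_19_1 L144425 (flp_c L153016) L165320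
theorem L165326 : sm gf N20969 = N15811 := ded_25_2 (flp_e L114598) (flp_f L114452) L165320
theorem L165328 : sm gg N20969 = N18760 := ded_26_2 L144447 (flp_g L153018) L165320
theorem L165330 : sm ga N15778 = N20970 := rfl
theorem L165332 : sm gd N20970 = N19478 := ded_9_2 L154400 L154390 L165330
theorem L165334 : sm ge N20970 = N15819 := ded_10_2 (flp_a L163695) L163789 L165330
theorem L165336 : sm gg N20970 = N15779 := ded_12_2 (flp_a L114462) (flp_g L114460) L165330
theorem L165338 : sm gf N20970 = N19476 := ded_29_0 (flp_g L154382) L148370 (flp_g L114460) L165330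
theorem L165340 : sm gb N20970 = N15799 := ded_7_2 (flp_a L114556) (flp_b L94863) L84055 L90770 L106933 L150590 L94895 L114458 L165330
theorem L165342 : sm gf N15778 = N20971 := rfl
theorem L165344 : sm ga N20971 = N19476 := ded_11_1 (flp_f L165338) (flp_a L165330) L165342
theorem L165346 : sm gd N20971 = N19472 := ded_23_1 L154394 L154390 L165342
theorem L165348 : sm gg N20971 = N19470 := ded_29_3 L154348 L148370 (flp_g L114460) L165342
theorem L165350 : sm gb N15779 = N20972 := rfl
theorem L165352 : sm gc N15779 = N20973 := rfl
theorem L165354 : sm ga N20973 = N15780 := ded_8_1 (flp_c L114464) L114462 L165352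
theorem L165356 : sm gd N15780 = N20974 := rfl
theorem L165358 : sm gb N15782 = N20975 := rfl
theorem L165360 : sm gf N15784 = N20976 := rfl
theorem L165362 : sm ga N20976 = N19493 := ded_11_1 (flp_f L154574) L154512 L165360
theorem L165364 : sm gc N20976 = N19511 := ded_20_1 L154708 L154152 L165360
theorem L165366 : sm gd N20976 = N19368 := ded_23_1 (flp_f L165202) L165196 L165360
theorem L165368 : sm gg N20976 = N19491 := ded_29_3 (flp_a L154536) L106927 L114474 L165360
theorem L165370 : sm gb N20976 = N19369 := ded_16_1 L153682 (flp_b L165019) (flp_f L165021) (flp_b L114476) L165360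
theorem L165372 : sm ga N15788 = N20977 := rfl
theorem L165374 : sm gd N20977 = N15799 := ded_9_2 (flp_a L114556) (flp_d L114500) L165372
theorem L165376 : sm ge N20977 = N19479 := ded_10_2 (flp_a L154412) (flp_e L114502) L165372
theorem L165378 : sm gf N20977 = N19445 := ded_11_2 (flp_a L165278) L165274 L165372
theorem L165380 : sm gb N20977 = N19478 := ded_7_2 L154400 L154396 (flp_a L106843) L154406 (flp_a L154412) (flp_b L106929) (flp_a L94835) L114498 L165372
theorem L165382 : sm gc N15788 = N20978 := rfl
theorem L165384 : sm ge N20978 = N19494 := ded_19_2 (flp_c L154578) (flp_e L114502) L165382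
theorem L165386 : sm gb N20978 = N15790 := ded_13_1 (flp_c L114508) (flp_b L94845) (flp_c L94837) L114498 L165382
theorem L165388 : sm gg N15788 = N20979 := rfl
theorem L165390 : sm gd N20979 = N15797 := ded_24_1 L114546 (flp_d L114500) L165388
theorem L165392 : sm ge N20979 = N19495 := ded_26_1 (flp_g L154582) (flp_e L114502) L165388
theorem L165394 : sm gb N20979 = N15791 := ded_17_1 (flp_g L114510) (flp_b L94845) (flp_g L94843) L114498 L165388
theorem L165396 : sm gb N15789 = N20980 := rfl
theorem L165398 : sm gd N20980 = N15792 := ded_14_2 (flp_b L114514) (flp_d L114506) L165396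
theorem L165400 : sm gg N20980 = N20951 := ded_31_3 L165175 L165035 (flp_g L154320) (flp_f L154244) (flp_b L154240) (flp_g L150592) (flp_f L154194) (flp_b L154198) L114648 (flp_f L114642) L114634 (flp_g L165290) L165288 L165396
theorem L165402 : sm ga N20927 = N20980 := ded_9_3 L165398 (flp_a L154524) (flp_d L165027)
theorem L165404 : sm gf N20925 = N20980 := ded_23_0 L165398 L165266 L165262
theorem L165406 : sm gc N20932 = N20980 := ded_28_0 L165398 L161796 (flp_d L161786) (flp_c L111926) (flp_d L111922) L161766 L163750 (flp_a L165049)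
theorem L165408 : sm gc N15789 = N20981 := rfl
theorem L165410 : sm ga N20981 = N15790 := ded_8_1 (flp_c L114508) L114504 L165408
theorem L165412 : sm gd N20981 = N17094 := ded_28_7 L123161 L123131 L98447 (flp_c L122510) L163742 (flp_c L114518) (flp_d L114506) L165408
theorem L165414 : sm gg N17092 = N20981 := ded_29_3 L165410 L163818 L123127 L123151
theorem L165416 : sm gg N15789 = N20982 := rfl
theorem L165418 : sm ga N20982 = N15791 := ded_12_1 (flp_g L114510) L114504 L165416
theorem L165420 : sm gc N20982 = N17092 := ded_21_1 L165414 (flp_c L165408) L165416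
theorem L165422 : sm gd N20982 = N15794 := ded_24_1 (flp_g L114524) (flp_d L114506) L165416
theorem L165424 : sm ge N20982 = N20971 := ded_26_1 L165348 L154350 L165416
theorem L165426 : sm gf N17090 = N20982 := ded_29_0 (flp_g L165416) (flp_f L165288) L165290 (flp_a L163695)
theorem L165428 : sm gg N15790 = N20983 := rfl
theorem L165430 : sm ga N20983 = N17092 := ded_12_1 L165414 L165410 L165428
theorem L165432 : sm gc N20983 = N15791 := ded_21_1 (flp_g L114510) L114508 L165428
theorem L165434 : sm gd N20983 = N17089 := ded_24_1 (flp_g L123145) L163744 L165428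
theorem L165436 : sm gf N17088 = N20983 := ded_29_0 (flp_g L165428) L163818 L123127 (flp_a L123135)
theorem L165438 : sm gg N15793 = N20984 := rfl
theorem L165440 : sm ga N20984 = N15796 := ded_12_1 (flp_g L114536) (flp_a L114520) L165438
theorem L165442 : sm gc N20984 = N15794 := ded_21_1 (flp_g L114524) L114518 L165438
theorem L165444 : sm gd N20984 = N16778 := ded_24_1 (flp_g L122512) L163742 L165438
theorem L165446 : sm ge N20984 = N15808 := ded_26_1 (flp_g L114586) (flp_e L114522) L165438
theorem L165448 : sm gf N20651 = N20984 := ded_29_0 (flp_g L165438) L163774 L122506 (flp_a L162178)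
theorem L165450 : sm gb N15794 = N20985 := rfl
theorem L165452 : sm ge N20985 = N15809 := ded_15_2 (flp_b L114594) (flp_e L114528) L165450
theorem L165454 : sm gg N20985 = N20962 := ded_17_2 (flp_b L165280) L154528 (flp_b L114514) L114524 L165450
theorem L165456 : sm ge N15795 = N20986 := rfl
theorem L165458 : sm gb N20986 = N15827 := ded_15_1 (flp_e L114676) (flp_b L114534) L165456
theorem L165460 : sm gc N20986 = N20370 := ded_19_1 L160538 (flp_c L163667) L165456
theorem L165462 : sm gg N20986 = N20369 := ded_26_2 L160532 (flp_g L163671) L165456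
theorem L165464 : sm gd N20986 = N15811 := ded_22_1 (flp_e L114598) (flp_d L94879) (flp_e L94855) L114532 L165456
theorem L165466 : sm ga N15797 = N20987 := rfl
theorem L165468 : sm gc N20987 = N20820 := ded_8_2 L164196 L142722 L165466
theorem L165470 : sm ge N20987 = N15815 := ded_10_2 (flp_a L114618) (flp_e L114544) L165466
theorem L165472 : sm gg N20987 = N15799 := ded_12_2 (flp_a L114556) (flp_g L114546) L165466
theorem L165474 : sm gf N15799 = N20988 := rfl
theorem L165476 : sm ga N20988 = N15801 := ded_11_1 (flp_f L114566) L114556 L165474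
theorem L165478 : sm gc N20988 = N20818 := ded_20_1 L164184 L142740 L165474
theorem L165480 : sm gd N20988 = N19445 := ded_23_1 (flp_f L165378) L165374 L165474
theorem L165482 : sm ge N20988 = N15821 := ded_25_1 (flp_f L114642) (flp_e L114558) L165474
theorem L165484 : sm gg N19490 = N20988 := ded_29_1 (flp_f L165474) (flp_g L165472) (flp_a L165466) (flp_f L154534)
theorem L165486 : sm gb N20988 = N19446 := ded_16_1 L154588 L154590 (flp_f L165338) L165340 L165474
theorem L165488 : sm gg N15801 = N20989 := rfl
theorem L165490 : sm ga N20989 = N19490 := ded_12_1 L165484 L165476 L165488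
theorem L165492 : sm gc N20989 = N20819 := ded_21_1 (flp_g L164186) L142738 L165488
theorem L165494 : sm gd N20989 = N19449 := ded_24_1 (flp_g L165276) L165270 L165488
theorem L165496 : sm ge N20989 = N15824 := ded_26_1 (flp_g L114658) (flp_e L114568) L165488
theorem L165498 : sm gf N20987 = N20989 := ded_29_0 (flp_g L165488) (flp_f L114566) (flp_g L114546) L165466
theorem L165500 : sm gb N19453 = N20989 := ded_7_0 L165490 (flp_b L154530) (flp_a L106913) (flp_b L90748) (flp_a L90728) L106877 L154472 (flp_b L154476) L154304
theorem L165502 : sm gf N15802 = N20990 := rfl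
theorem L165504 : sm ga N20990 = N15804 := ded_11_1 (flp_f L114576) L114572 L165502
theorem L165506 : sm ge N20990 = N20926 := ded_25_1 (flp_f L165021) (flp_e L154514) L165502
theorem L165508 : sm gb N20990 = N20929 := ded_31_2 L165039 (flp_f L154302) (flp_b L154234) (flp_g L165276) L165274 (flp_b L114498) L94843 (flp_f L84045) (flp_b L84011) (flp_g L146336) L94767 L114362 (flp_g L154518) L165502
theorem L165510 : sm gf N15803 = N20991 := rfl
theorem L165512 : sm gc N20991 = N15804 := ded_20_1 (flp_f L114576) L114574 L165510
theorem L165514 : sm gd N20991 = N20001 := ded_23_1 (flp_f L158109) L157393 L165510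
theorem L165516 : sm gb N15805 = N20992 := rfl
theorem L165518 : sm ge N20992 = N20962 := ded_15_2 (flp_b L165280) (flp_e L154520) L165516
theorem L165520 : sm gg N20992 = N15809 := ded_17_2 (flp_b L114594) (flp_g L94873) L94867 L114578 L165516
theorem L165522 : sm gf N15805 = N20993 := rfl
theorem L165524 : sm ga N20993 = N20958 := ded_11_1 L165246 L154504 L165522
theorem L165526 : sm gc N20993 = N19395 := ded_20_1 (flp_f L155704) (flp_c L157389) L165522
theorem L165528 : sm ge N20993 = N20959 := ded_25_1 L165254 (flp_e L154520) L165522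
theorem L165530 : sm gg N20993 = N20990 := ded_29_3 L165504 (flp_f L114576) L114578 L165522
theorem L165532 : sm gb N19487 = N20993 := ded_13_5 L165526 (flp_b L153880) L106168 L106877 L154478
theorem L165534 : sm gg N19486 = N19487 := ded_17_4 L165532 L165530 L165508 L165039 L154476
theorem L165536 : sm ga N19488 = N19487 := ded_7_9 L165532 L165524 (flp_b L165240) L148428 L150568 (flp_a L153680) (flp_b L165370) L165362 L154576
theorem L165538 : sm gc N19488 = N19486 := ded_21_3 L165534 (flp_c L154478) L154480
theorem L165540 : sm gd N15806 = N20994 := rfl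
theorem L165542 : sm gb N20994 = N15807 := ded_14_1 (flp_d L114582) L114580 L165540
theorem L165544 : sm gg N20994 = N19924 := ded_24_2 L157663 L157399 L165540
theorem L165546 : sm ge N15807 = N20995 := rfl
theorem L165548 : sm ga N20995 = N15811 := ded_10_1 (flp_e L114598) (flp_a L114584) L165546
theorem L165550 : sm gc N20995 = N18758 := ded_19_1 L144437 (flp_c L153020) L165546
theorem L165552 : sm gf N20995 = N18757 := ded_25_2 L144431 (flp_f L153022) L165546
theorem L165554 : sm gb N15808 = N20996 := rfl
theorem L165556 : sm gg N20996 = N19925 := ded_17_2 (flp_b L157665) L157399 (flp_b L114580) L114586 L165554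
theorem L165558 : sm gc N20965 = N20996 := ded_30_1 (flp_b L165554) L114588 (flp_f L152999) (flp_c L153008) (flp_b L150590) (flp_a L106933) (flp_f L149283) (flp_c L106689) (flp_b L90632) (flp_a L90612) L90630 (flp_c L105891) L153608 L154526 L165510 L165512 (flp_b L165314) L165310 (flp_f L165302)
theorem L165560 : sm ga N20966 = N20996 := ded_12_3 L165556 L157671 (flp_g L165306)
theorem L165562 : sm gf N19410 = N20996 := ded_29_2 L165556 L157671 (flp_f L153972) L153976
theorem L165564 : sm ga N15809 = N20997 := rfl
theorem L165566 : sm gc N15809 = N20998 := rfl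
theorem L165568 : sm gb N20998 = N20965 := ded_13_1 L165558 (flp_b L165554) L114590 L114594 L165566
theorem L165570 : sm ga N20962 = N20998 := ded_7_9 L165568 (flp_a L165298) (flp_b L114442) (flp_a L94813) (flp_b L84021) (flp_a L84003) L94779 L114370 L165280
theorem L165572 : sm gc N20997 = N20962 := ded_8_0 L165570 (flp_c L165566) L165564
theorem L165574 : sm gf N15809 = N20999 := rfl
theorem L165576 : sm gb N20999 = N20971 := ded_16_1 (flp_f L165342) (flp_b L114458) (flp_f L94877) L114594 L165574
theorem L165578 : sm gf N15813 = N21000 := rfl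
theorem L165580 : sm gb N15815 = N21001 := rfl
theorem L165582 : sm gd N21001 = N19456 := ded_14_2 L154280 (flp_d L114620) L165580
theorem L165584 : sm gf N21001 = N19455 := ded_16_2 L154274 (flp_f L142752) (flp_b L151048) (flp_f L114664) L165580
theorem L165586 : sm gf N15816 = N21002 := rfl
theorem L165588 : sm ga N21002 = N18484 := ded_11_1 (flp_f L164374) L164378 L165586
theorem L165590 : sm gc N21002 = N15817 := ded_20_1 (flp_f L114628) L114624 L165586
theorem L165592 : sm gd N21002 = N18495 := ded_23_1 L142961 (flp_d L149021) L165586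
theorem L165594 : sm ge N21002 = N20821 := ded_25_1 (flp_f L164202) (flp_e L137019) L165586
theorem L165596 : sm gg N21002 = N18485 := ded_29_3 (flp_a L142869) L147400 (flp_g L114626) L165586
theorem L165598 : sm gb N21002 = N20766 := ded_31_2 (flp_g L162855) (flp_f L112916) (flp_b L93984) (flp_g L46983) (flp_f L75698) L85986 L98990 (flp_f L148206) (flp_b L147494) L86128 (flp_f L136306) (flp_b L94905) (flp_g L114626) L165586
theorem L165600 : sm gb N15821 = N21003 := rfl
theorem L165602 : sm gd N21003 = N19490 := ded_14_2 (flp_b L154530) (flp_d L114646) L165600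
theorem L165604 : sm ge N21003 = N19446 := ded_15_2 (flp_b L165486) L165482 L165600
theorem L165606 : sm gf N21003 = N20979 := ded_16_2 L165394 L151054 (flp_b L114634) L114642 L165600
theorem L165608 : sm gg N21003 = N19445 := ded_17_2 (flp_b L154220) (flp_g L154196) (flp_b L154198) L114648 L165600
theorem L165610 : sm ga N19449 = N21003 := ded_9_3 L165602 (flp_a L165490) L165494
theorem L165612 : sm ga N15825 = N21004 := rfl
theorem L165614 : sm ge N21004 = N15834 := ded_10_2 (flp_a L114712) (flp_e L114668) L165612
theorem L165616 : sm gd N15825 = N21005 := rfl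
theorem L165618 : sm gb N21005 = N15826 := ded_14_1 (flp_d L114670) L114666 L165616
theorem L165620 : sm gf N15825 = N21006 := rfl
theorem L165622 : sm ge N21006 = N15836 := ded_25_1 (flp_f L114718) (flp_e L114668) L165620
theorem L165624 : sm gg N15825 = N21007 := rfl
theorem L165626 : sm gc N21007 = N20869 := ded_21_1 (flp_g L164591) L153948 L165624
theorem L165628 : sm ge N21007 = N15837 := ded_26_1 (flp_g L114720) (flp_e L114668) L165624
theorem L165630 : sm gf N20868 = N21007 := ded_20_0 L165626 (flp_f L164583) L164576
theorem L165632 : sm ge N15826 = N21008 := rfl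
theorem L165634 : sm ga N21008 = N15827 := ded_10_1 (flp_e L114676) (flp_a L114672) L165632
theorem L165636 : sm gc N21008 = N20924 := ded_19_1 (flp_e L165007) L114674 L165632
theorem L165638 : sm gd N21008 = N15838 := ded_22_1 (flp_e L114722) (flp_d L94949) (flp_e L94917) L114670 L165632
theorem L165640 : sm ga N15832 = N21009 := rfl
theorem L165642 : sm gc N21009 = N15834 := ded_8_2 (flp_a L114712) (flp_c L114704) L165640
theorem L165644 : sm gd N21009 = N20876 := ded_9_2 (flp_a L164665) L164667 L165640
theorem L165646 : sm gg N21009 = N20896 := ded_12_2 (flp_a L164791) (flp_g L164564) L165640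
theorem L165648 : sm gf N21009 = N20863 := ded_29_0 L164551 L164560 (flp_g L164564) L165640
theorem L165650 : sm gf N15832 = N21010 := rfl
theorem L165652 : sm ga N21010 = N20863 := ded_11_1 (flp_f L165648) (flp_a L165640) L165650
theorem L165654 : sm gc N21010 = N15836 := ded_20_1 (flp_f L114718) (flp_c L114704) L165650
theorem L165656 : sm gd N21010 = N20875 := ded_23_1 L164669 L164667 L165650
theorem L165658 : sm gg N21010 = N20864 := ded_29_3 (flp_a L164553) L164560 (flp_g L164564) L165650
theorem L165660 : sm gb N21010 = N19508 := ded_16_1 (flp_f L154676) (flp_b L107017) (flp_f L94945) L114702 L165650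
theorem L165662 : sm ge N15833 = N21011 := rfl
theorem L165664 : sm gb N21011 = N20906 := ded_15_1 L164893 (flp_b L164671) L165662
theorem L165666 : sm gc N21011 = N20929 := ded_19_1 (flp_e L165037) (flp_c L114710) L165662
theorem L165668 : sm gf N21011 = N19506 := ded_25_2 L154664 (flp_f L114708) L165662
theorem L165670 : sm gb N15834 = N21012 := rfl
theorem L165672 : sm gd N15834 = N21013 := rfl
theorem L165674 : sm ga N21013 = N15835 := ded_9_1 (flp_d L114714) L114712 L165672
theorem L165676 : sm gf N15834 = N21014 := rfl
theorem L165678 : sm ga N21014 = N15836 := ded_11_1 (flp_f L114718) L114712 L165676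
theorem L165680 : sm gc N21014 = N20863 := ded_20_1 (flp_f L165648) L165642 L165676
theorem L165682 : sm gg N21014 = N20865 := ded_29_1 L164568 (flp_g L114720) L114712 L165676
theorem L165684 : sm gg N15834 = N21015 := rfl
theorem L165686 : sm ga N21015 = N15837 := ded_12_1 (flp_g L114720) L114712 L165684
theorem L165688 : sm gc N21015 = N20896 := ded_21_1 (flp_g L165646) L165642 L165684
theorem L165690 : sm ge N15835 = N21016 := rfl
theorem L165692 : sm gb N21016 = N15838 := ded_15_1 (flp_e L114722) (flp_b L114716) L165690
theorem L165694 : sm gf N15835 = N21017 := rfl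
theorem L165696 : sm gd N21017 = N15836 := ded_23_1 (flp_f L114718) L114714 L165694
theorem L165698 : sm gg N15836 = N21018 := rfl
theorem L165700 : sm ga N21018 = N20865 := ded_12_1 (flp_g L165682) L165678 L165698
theorem L165702 : sm gc N21018 = N20864 := ded_21_1 (flp_g L165658) L165654 L165698
theorem L165704 : sm gf N21015 = N21018 := ded_29_0 (flp_g L165698) (flp_f L114718) L114720 (flp_a L165686)
theorem L165706 : sm ga N15839 = N21019 := rfl
theorem L165708 : sm gc N21019 = N18272 := ded_8_2 L152160 L152965 L165706
theorem L165710 : sm gd N21019 = N17648 := ded_9_2 (flp_a L125912) (flp_d L114730) L165706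
theorem L165712 : sm gg N18271 = N21019 := ded_29_3 (flp_a L165706) L152963 (flp_g L152957) (flp_f L151568)
theorem L165714 : sm ge N15839 = N21020 := rfl
theorem L165716 : sm gb N21020 = N15840 := ded_15_1 (flp_e L114732) L114728 L165714
theorem L165718 : sm gg N15839 = N21021 := rfl
theorem L165720 : sm ga N21021 = N18271 := ded_12_1 L165712 (flp_a L165706) L165718
theorem L165722 : sm gc N21021 = N18270 := ded_21_1 L152166 L152965 L165718
theorem L165724 : sm gd N21021 = N17650 := ded_24_1 (flp_g L125916) (flp_d L114730) L165718
theorem L165726 : sm gf N19288 = N21021 := ded_29_0 (flp_g L165718) L152963 (flp_g L152957) L152947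
theorem L165728 : sm gb N21021 = N20945 := ded_17_1 (flp_g L165124) (flp_b L114175) L94961 L114728 L165718
theorem L165730 : sm gd N15840 = N21022 := rfl
theorem L165732 : sm ga N21022 = N17562 := ded_9_1 L141046 (flp_a L114734) L165730
theorem L165734 : sm gg N21022 = N17326 := ded_24_2 (flp_d L142778) (flp_g L114738) L165730
theorem L165736 : sm ge N21022 = N17328 := ded_22_2 L124325 L133619 (flp_d L94959) L114732 L165730
theorem L165738 : sm gc N17738 = N21022 := ded_28_0 (flp_d L165730) L114736 (flp_d L114680) L114678 L114115 (flp_c L114169) L165098 L165100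
theorem L165740 : sm gb N15841 = N21023 := rfl
theorem L165742 : sm ge N21023 = N15842 := ded_15_2 (flp_b L114748) (flp_e L114744) L165740
theorem L165744 : sm ga N15842 = N21024 := rfl
theorem L165746 : sm gd N21024 = N15843 := ded_9_2 (flp_a L114752) (flp_d L114750) L165744
theorem L165748 : sm gc N15842 = N21025 := rfl
theorem L165750 : sm gg N21025 = N19053 := ded_21_2 (flp_c L151680) (flp_g L153032) L165748
theorem L165752 : sm gb N21025 = N20944 := ded_13_1 (flp_c L165116) (flp_b L114175) (flp_c L94967) L114748 L165748
theorem L165754 : sm gd N19911 = N21025 := ded_24_3 L165750 L151578 L157585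
theorem L165756 : sm gf N19909 = N21025 := ded_29_2 L165750 (flp_a L151582) L143699 (flp_g L157571)
theorem L165758 : sm gf N15842 = N21026 := rfl
theorem L165760 : sm gc N21026 = N19909 := ded_20_1 L165756 (flp_c L165748) L165758
theorem L165762 : sm gd N21026 = N15844 := ded_23_1 (flp_f L114754) (flp_d L114750) L165758
theorem L165764 : sm gb N21026 = N20940 := ded_16_1 (flp_f L165088) (flp_b L114161) L94971 L114748 L165758
theorem L165766 : sm gf N15843 = N21027 := rfl
theorem L165768 : sm ga N21027 = N15844 := ded_11_1 (flp_f L114754) L114752 L165766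
theorem L165770 : sm gg N21000 = N21027 := ded_29_1 (flp_f L165766) (flp_g L157577) L157575 L165578
theorem L165772 : sm gg N15844 = N21028 := rfl
theorem L165774 : sm ga N21028 = N21000 := ded_12_1 L165770 L165768 L165772
theorem L165776 : sm gc N21028 = N19911 := ded_21_1 (flp_g L157585) L137022 L165772
theorem L165778 : sm gf N19910 = N21028 := ded_29_0 (flp_g L165772) (flp_f L114754) (flp_g L114608) (flp_a L157575)
theorem L165780 : sm gg N15856 = N21029 := rfl
theorem L165782 : sm ga N21029 = N15859 := ded_12_1 (flp_g L114829) L114812 L165780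
theorem L165784 : sm gc N21029 = N15880 := ded_21_1 (flp_g L114931) (flp_c L114814) L165780
theorem L165786 : sm ge N21029 = N15866 := ded_26_1 (flp_g L114865) (flp_e L114816) L165780
theorem L165788 : sm gf N21029 = N20862 := ded_29_2 (flp_g L164539) (flp_a L130636) L130634 L165780
theorem L165790 : sm gg N15857 = N21030 := rfl
theorem L165792 : sm gd N21030 = N15859 := ded_24_1 (flp_g L114829) L114818 L165790
theorem L165794 : sm gb N21030 = N20762 := ded_17_1 (flp_g L162825) L112798 L142659 (flp_b L114820) L165790
theorem L165796 : sm gf N15859 = N21031 := rfl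
theorem L165798 : sm ga N21031 = N20862 := ded_11_1 (flp_f L165788) L165782 L165796
theorem L165800 : sm gc N21031 = N15882 := ded_20_1 (flp_f L114943) (flp_c L114831) L165796
theorem L165802 : sm ge N21031 = N15873 := ded_25_1 (flp_f L114897) (flp_e L114833) L165796
theorem L165804 : sm gg N21031 = N18471 := ded_29_3 L130636 L120200 L114829 L165796
theorem L165806 : sm gg N15864 = N21032 := rfl
theorem L165808 : sm ga N21032 = N15870 := ded_12_1 (flp_g L114883) (flp_a L114857) L165806
theorem L165810 : sm gd N21032 = N15866 := ded_24_1 (flp_g L114865) L114855 L165806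
theorem L165812 : sm gb N15866 = N21033 := rfl
theorem L165814 : sm gg N21033 = N19592 := ded_17_2 (flp_b L155348) (flp_g L107487) L119721 L114865 L165812
theorem L165816 : sm gg N15867 = N21034 := rfl
theorem L165818 : sm gc N21034 = N15870 := ded_21_1 (flp_g L114883) L114871 L165816
theorem L165820 : sm gd N21034 = N16665 := ded_24_1 L121133 L121084 L165816
theorem L165822 : sm gf N21034 = N16663 := ded_29_2 (flp_g L121119) (flp_a L121068) (flp_f L121076) L165816
theorem L165824 : sm gg N15868 = N21035 := rfl
theorem L165826 : sm ge N21035 = N15870 := ded_26_1 (flp_g L114883) L114874 L165824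
theorem L165828 : sm gb N21035 = N19527 := ded_17_1 (flp_g L154826) L142812 (flp_g L114905) (flp_b L114876) L165824
theorem L165830 : sm gg N15869 = N21036 := rfl
theorem L165832 : sm gd N21036 = N15871 := ded_24_1 (flp_g L114887) (flp_d L114880) L165830
theorem L165834 : sm gf N21032 = N21036 := ded_29_0 (flp_g L165830) (flp_f L114878) L114883 (flp_a L165808)
theorem L165836 : sm gf N15870 = N21037 := rfl
theorem L165838 : sm ga N21037 = N21036 := ded_11_1 (flp_f L165834) L165808 L165836
theorem L165840 : sm gc N21037 = N16663 := ded_20_1 (flp_f L165822) L165818 L165836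
theorem L165842 : sm gd N21037 = N15873 := ded_23_1 (flp_f L114897) (flp_d L114885) L165836
theorem L165844 : sm gg N21037 = N16660 := ded_29_3 L121093 (flp_f L114878) L114883 L165836
theorem L165846 : sm gb N15871 = N21038 := rfl
theorem L165848 : sm gg N21038 = N21038 := ded_17_2 (flp_b L165846) (flp_g L114887) L95062 L114887 L165846
theorem L165849 : sm ga N15878 = N21039 := rfl
theorem L165851 : sm gc N21039 = N19352 := ded_8_2 L153544 L120497 L165849
theorem L165853 : sm gd N21039 = N19625 := ded_9_2 L155556 (flp_d L120461) L165849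
theorem L165855 : sm ge N21039 = N15883 := ded_10_2 (flp_a L114951) (flp_e L114923) L165849
theorem L165857 : sm gf N21039 = N19625 := ded_11_2 L155556 (flp_f L120373) L165849
theorem L165859 : sm gb N21039 = N19424 := ded_7_2 L154086 L106623 L90604 L41270 (flp_a L24452) L84202 L95081 L114921 L165849
theorem L165861 : sm gg N15878 = N21040 := rfl
theorem L165863 : sm gc N21040 = N19594 := ded_21_1 (flp_g L155354) L120497 L165861
theorem L165865 : sm gd N21040 = N19627 := ded_24_1 (flp_g L155572) (flp_d L120461) L165861
theorem L165867 : sm ge N21040 = N15886 := ded_26_1 (flp_g L114963) (flp_e L114923) L165861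
theorem L165869 : sm gb N15880 = N21041 := rfl
theorem L165871 : sm gd N21041 = N19504 := ded_14_2 (flp_b L154654) L120375 L165869
theorem L165873 : sm ge N21041 = N15888 := ded_15_2 (flp_b L114971) (flp_e L114935) L165869
theorem L165875 : sm ga N21041 = N19459 := ded_7_1 (flp_b L154292) L106785 (flp_b L106963) (flp_a L154598) (flp_b L164873) L164863 L114009 (flp_a L114933) L165869
theorem L165877 : sm gb N15882 = N21042 := rfl
theorem L165879 : sm gd N21042 = N19406 := ded_14_2 L153962 (flp_d L120441) L165877
theorem L165881 : sm ge N21042 = N15890 := ded_15_2 (flp_b L114981) (flp_e L114947) L165877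
theorem L165883 : sm gf N21042 = N19503 := ded_16_2 L164887 (flp_f L164875) L114009 L114943 L165877
theorem L165885 : sm gg N21042 = N19406 := ded_17_2 L153962 (flp_g L113727) (flp_b L113632) L120206 L165877
theorem L165887 : sm ga N21042 = N21011 := ded_7_1 L165664 L164891 (flp_b L164719) L164715 (flp_b L165660) L165652 (flp_b L164545) L120191 L165877
theorem L165889 : sm gb N15886 = N21043 := rfl
theorem L165891 : sm gd N21043 = N19427 := ded_14_2 (flp_b L154108) (flp_d L114965) L165889
theorem L165893 : sm gg N21043 = N15888 := ded_17_2 (flp_b L114971) (flp_g L95105) L95095 L114963 L165889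
theorem L165895 : sm ga N15888 = N21044 := rfl
theorem L165897 : sm gd N21044 = N19430 := ded_9_2 (flp_a L154128) (flp_d L114973) L165895
theorem L165899 : sm ge N21044 = N19459 := ded_10_2 (flp_a L165875) L165873 L165895
theorem L165901 : sm gb N21044 = N19460 := ded_7_2 L154298 (flp_b L154608) L164989 (flp_b L164979) L114083 L94632 (flp_a L95107) L114971 L165895
theorem L165903 : sm gc N15888 = N21045 := rfl
theorem L165905 : sm gf N15888 = N21046 := rfl
theorem L165907 : sm gd N21046 = N19432 := ded_23_1 (flp_f L154134) (flp_d L114973) L165905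
theorem L165909 : sm gg N20890 = N21046 := ded_31_0 (flp_f L165905) (flp_b L114971) (flp_g L95105) L95099 (flp_b L120319) L142851 (flp_f L142861) L154140 L154146 L154216 (flp_b L154756) L164743 L164741 L164755
theorem L165911 : sm ga N15889 = N21047 := rfl
theorem L165913 : sm gd N21047 = N19436 := ded_9_2 (flp_a L154168) (flp_d L114977) L165911
theorem L165915 : sm ge N21047 = N21010 := ded_10_2 L165652 L164549 L165911
theorem L165917 : sm gg N21047 = N20867 := ded_12_2 (flp_a L164570) (flp_g L114979) L165911
theorem L165919 : sm gf N21047 = N19404 := ded_29_0 L164591 (flp_f L164583) (flp_g L114979) L165911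
theorem L165921 : sm gb N19505 = N21047 := ded_15_3 L165915 L165660 L154680
theorem L165923 : sm gc N21006 = N21047 := ded_19_3 L165915 L165654 (flp_e L165622)
theorem L165925 : sm gc N15889 = N21048 := rfl
theorem L165927 : sm ga N21048 = N21006 := ded_8_1 L165923 (flp_a L165911) L165925
theorem L165929 : sm ge N21048 = N21014 := ded_19_2 L165680 L164549 L165925
theorem L165931 : sm gg N21048 = N20868 := ded_21_2 (flp_c L164576) (flp_g L114979) L165925
theorem L165933 : sm gd N20000 = N21048 := ded_28_1 (flp_c L165925) L114977 L154172 L154500 L154516 (flp_d L158099) (flp_a L158097) L158105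
theorem L165935 : sm gf N21004 = N21048 := ded_30_0 (flp_c L165925) (flp_b L114975) (flp_a L95119) (flp_f L95117) (flp_c L95065) (flp_b L130666) L102954 (flp_f L148245) L148240 (flp_b L148260) L47316 L47410 L47412 L47426 L142050 L131912 L94913 L114666 L165612
theorem L165937 : sm gf N15889 = N21049 := rfl
theorem L165939 : sm ga N21049 = N19404 := ded_11_1 (flp_f L165919) (flp_a L165911) L165937
theorem L165941 : sm gc N21049 = N21004 := ded_20_1 L165935 (flp_c L165925) L165937
theorem L165943 : sm gd N21049 = N19438 := ded_23_1 (flp_f L154178) (flp_d L114977) L165937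
theorem L165945 : sm ge N21049 = N21009 := ded_25_1 L165648 L164549 L165937
theorem L165947 : sm gb N21049 = N21046 := ded_16_1 (flp_f L165905) (flp_b L114971) L95115 L114975 L165937
theorem L165949 : sm gf N15891 = N21050 := rfl
theorem L165951 : sm ga N21050 = N15893 := ded_11_1 (flp_f L114995) L114985 L165949
theorem L165953 : sm gc N21050 = N15914 := ded_20_1 (flp_f L115098) (flp_c L114987) L165949
theorem L165955 : sm ge N21050 = N15900 := ded_25_1 (flp_f L115032) (flp_e L114989) L165949
theorem L165957 : sm gg N20949 = N21050 := ded_29_1 (flp_f L165949) (flp_g L148580) L148607 L165149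
theorem L165959 : sm gf N15892 = N21051 := rfl
theorem L165961 : sm gd N21051 = N15893 := ded_23_1 (flp_f L114995) L114991 L165959
theorem L165963 : sm gb N21051 = N20817 := ded_16_1 (flp_f L164170) L113226 L137196 (flp_b L114993) L165959
theorem L165965 : sm gg N15893 = N21052 := rfl
theorem L165967 : sm ga N21052 = N20949 := ded_12_1 L165957 L165951 L165965
theorem L165969 : sm gc N21052 = N15916 := ded_21_1 (flp_g L115110) (flp_c L114997) L165965
theorem L165971 : sm ge N21052 = N15907 := ded_26_1 (flp_g L115064) (flp_e L114999) L165965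
theorem L165973 : sm gf N18473 = N21052 := ded_29_0 (flp_g L165965) (flp_f L114995) (flp_g L148407) (flp_a L148607)
theorem L165975 : sm gb N21052 = N21031 := ded_17_1 L165804 (flp_b L130628) (flp_g L146681) L142724 L165965
theorem L165977 : sm gf N15899 = N21053 := rfl
theorem L165979 : sm ga N21053 = N15904 := ded_11_1 (flp_f L115051) (flp_a L115030) L165977
theorem L165981 : sm gd N21053 = N15900 := ded_23_1 (flp_f L115032) L115028 L165977
theorem L165983 : sm gb N15900 = N21054 := rfl
theorem L165985 : sm gf N21054 = N19593 := ded_16_2 (flp_b L155351) (flp_f L107497) L146717 L115032 L165983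
theorem L165987 : sm gf N15902 = N21055 := rfl
theorem L165989 : sm gc N21055 = N15904 := ded_20_1 (flp_f L115051) L115044 L165987
theorem L165991 : sm gd N21055 = N16728 := ded_23_1 (flp_f L121414) (flp_d L150882) L165987
theorem L165993 : sm gg N16726 = N21055 := ded_29_1 (flp_f L165987) (flp_g L150870) L121386 L121402
theorem L165995 : sm gf N15903 = N21056 := rfl
theorem L165997 : sm ge N21056 = N15904 := ded_25_1 (flp_f L115051) L115047 L165995
theorem L165999 : sm gb N21056 = N19528 := ded_16_1 (flp_f L154834) L149550 (flp_f L115078) (flp_b L115049) L165995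
theorem L166001 : sm gg N15904 = N21057 := rfl
theorem L166003 : sm gc N21057 = N16726 := ded_21_1 L165993 L165989 L166001
theorem L166005 : sm gd N21057 = N15907 := ded_24_1 (flp_g L115064) (flp_d L115053) L166001
theorem L166007 : sm gf N16724 = N21057 := ded_29_0 (flp_g L166001) (flp_f L115051) L115055 (flp_a L149188)
theorem L166009 : sm gb N21057 = N21037 := ded_17_1 L165844 L121095 (flp_g L128619) L148574 L166001
theorem L166011 : sm gc N17047 = N16852 := ded_13_2 L122068 (flp_c L165840) (flp_b L166009) L166003 (flp_b L122963)
theorem L166013 : sm gf N16852 = N17046 := ded_20_2 (flp_c L122957) L122959 L166011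
theorem L166015 : sm gg N16851 = N17047 := ded_21_0 L166011 (flp_g L122064) L122062
theorem L166017 : sm gd N17046 = N16868 := ded_23_1 (flp_f L122134) (flp_d L122066) L166013
theorem L166019 : sm gd N17066 = N16851 := ded_24_3 L166015 L122961 L123037
theorem L166021 : sm gf N15905 = N21058 := rfl
theorem L166023 : sm ga N21058 = N21057 := ded_11_1 (flp_f L166007) L149188 L166021
theorem L166025 : sm gd N21058 = N15908 := ded_23_1 (flp_f L115070) (flp_d L115057) L166021
theorem L166027 : sm gg N21058 = N21053 := ded_29_3 L165979 (flp_f L115051) L115055 L166021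
theorem L166029 : sm gb N15908 = N21059 := rfl
theorem L166031 : sm gf N21059 = N21059 := ded_16_2 (flp_b L166029) (flp_f L115070) L95160 L115070 L166029
theorem L166032 : sm ga N15913 = N21060 := rfl
theorem L166034 : sm gc N21060 = N19392 := ded_8_2 L153856 L149642 L166032
theorem L166036 : sm gd N21060 = N19630 := ded_9_2 L155602 (flp_d L129586) L166032
theorem L166038 : sm ge N21060 = N15918 := ded_10_2 (flp_a L115124) (flp_e L115096) L166032
theorem L166040 : sm gg N21060 = N19630 := ded_12_2 L155602 (flp_g L149558) L166032
theorem L166042 : sm gb N21060 = N19480 := ded_7_2 L154416 L106855 L90724 L41406 L65484 L84249 L95175 L115094 L166032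
theorem L166044 : sm gf N15913 = N21061 := rfl
theorem L166046 : sm gc N21061 = N19596 := ded_20_1 (flp_f L155366) L149642 L166044
theorem L166048 : sm gd N21061 = N19632 := ded_23_1 (flp_f L155618) (flp_d L129586) L166044
theorem L166050 : sm ge N21061 = N15920 := ded_25_1 (flp_f L115132) (flp_e L115096) L166044
theorem L166052 : sm gb N15914 = N21062 := rfl
theorem L166054 : sm gd N21062 = N19454 := ded_14_2 L154470 L146460 L166052
theorem L166056 : sm ge N21062 = N15922 := ded_15_2 (flp_b L115140) (flp_e L115102) L166052
theorem L166058 : sm ga N21062 = N19455 := ded_7_1 L154274 L106771 (flp_b L106729) (flp_a L154224) (flp_b L165486) L165476 L114570 (flp_a L115100) L166052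
theorem L166060 : sm gb N15916 = N21063 := rfl
theorem L166062 : sm gd N21063 = N19370 := ded_14_2 L153690 (flp_d L148556) L166060
theorem L166064 : sm ge N21063 = N15924 := ded_15_2 (flp_b L115148) (flp_e L115112) L166060
theorem L166066 : sm gc N21063 = N21042 := ded_13_2 (flp_b L165877) (flp_c L165800) (flp_b L165975) L165969 L166060
theorem L166068 : sm gf N21063 = N19370 := ded_16_2 L153690 (flp_f L114290) (flp_b L114199) L148353 L166060
theorem L166070 : sm gg N21063 = N19453 := ded_17_2 L165500 (flp_g L165488) L114570 L115110 L166060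
theorem L166072 : sm ga N21063 = N20929 := ded_7_1 (flp_b L165508) L165504 (flp_b L165314) L165310 (flp_b L165035) L165167 (flp_b L165155) L148398 L166060
theorem L166074 : sm gb N15920 = N21064 := rfl
theorem L166076 : sm gd N21064 = N19483 := ded_14_2 (flp_b L154438) (flp_d L115134) L166074
theorem L166078 : sm gf N21064 = N15922 := ded_16_2 (flp_b L115140) (flp_f L95193) L95189 L115132 L166074
theorem L166080 : sm ga N15922 = N21065 := rfl
theorem L166082 : sm gd N21065 = N19486 := ded_9_2 (flp_a L154472) (flp_d L115142) L166080
theorem L166084 : sm ge N21065 = N19455 := ded_10_2 (flp_a L166058) L166056 L166080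
theorem L166086 : sm gb N21065 = N19458 := ded_7_2 L154286 (flp_b L154234) L165610 (flp_b L165600) L114644 L94911 (flp_a L95195) L115140 L166080
theorem L166088 : sm gc N15922 = N21066 := rfl
theorem L166090 : sm gg N15922 = N21067 := rfl
theorem L166092 : sm gd N21067 = N19488 := ded_24_1 (flp_g L154480) (flp_d L115142) L166090
theorem L166094 : sm gf N21067 = N20972 := ded_31_1 (flp_b L165350) (flp_g L165336) L165338 (flp_b L154590) (flp_g L154582) (flp_f L154204) L154202 (flp_g L142891) (flp_f L142885) L146724 (flp_g L95199) L95193 L115140 L166090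
theorem L166096 : sm ga N15925 = N21068 := rfl
theorem L166098 : sm gd N21068 = N19491 := ded_9_2 (flp_a L154536) (flp_d L115154) L166096
theorem L166100 : sm ge N21068 = N20928 := ded_10_2 L165167 L165159 L166096
theorem L166102 : sm gf N21068 = N20952 := ded_11_2 (flp_a L165177) (flp_f L115156) L166096
theorem L166104 : sm gg N19368 = N21068 := ded_29_3 (flp_a L166096) L115156 L165192 L165202
theorem L166106 : sm gb N19457 = N21068 := ded_15_3 L166100 L165035 L154324
theorem L166108 : sm gc N20923 = N21068 := ded_19_3 L166100 L165033 (flp_e L165005)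
theorem L166110 : sm gc N15925 = N21069 := rfl
theorem L166112 : sm ga N21069 = N20923 := ded_8_1 L166108 (flp_a L166096) L166110
theorem L166114 : sm ge N21069 = N20933 := ded_19_2 L165163 L165159 L166110
theorem L166116 : sm gf N21069 = N20953 := ded_20_2 (flp_c L165183) (flp_f L115156) L166110
theorem L166118 : sm gd N20054 = N21069 := ded_28_1 (flp_c L166110) L115154 L154540 L154550 L154558 (flp_d L158399) (flp_a L158397) L158405
theorem L166120 : sm gg N20920 = N21069 := ded_12_0 L166112 (flp_g L165003) L164991
theorem L166122 : sm gg N15925 = N21070 := rfl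
theorem L166124 : sm ga N21070 = N19368 := ded_12_1 L166104 (flp_a L166096) L166122
theorem L166126 : sm gc N21070 = N20920 := ded_21_1 L166120 (flp_c L166110) L166122
theorem L166128 : sm gd N21070 = N19493 := ded_24_1 (flp_g L154570) (flp_d L115154) L166122
theorem L166130 : sm ge N21070 = N20925 := ded_26_1 (flp_g L165165) L165159 L166122
theorem L166132 : sm gb N21070 = N21067 := ded_17_1 (flp_g L166090) (flp_b L115140) (flp_g L95217) L115152 L166122
theorem L166134 : sm gc N15930 = N21071 := rfl
theorem L166136 : sm ga N21071 = N15931 := ded_8_1 (flp_c L115192) L115186 L166134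
theorem L166138 : sm ge N21071 = N16548 := ded_19_2 (flp_c L118760) (flp_e L115188) L166134
theorem L166140 : sm gb N21071 = N20199 := ded_13_1 L159441 L110411 (flp_c L110739) L115190 L166134
theorem L166142 : sm gd N15931 = N21072 := rfl
theorem L166144 : sm gg N15931 = N21073 := rfl
theorem L166146 : sm gc N21073 = N15932 := ded_21_1 (flp_g L115196) L115192 L166144
theorem L166148 : sm ge N21073 = N16550 := ded_26_1 (flp_g L118768) (flp_e L115194) L166144
theorem L166150 : sm gc N15933 = N21074 := rfl
theorem L166152 : sm ga N21074 = N15934 := ded_8_1 (flp_c L115206) L115200 L166150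
theorem L166154 : sm ge N21074 = N16551 := ded_19_2 (flp_c L118772) (flp_e L115202) L166150
theorem L166156 : sm gb N21074 = N20234 := ded_13_1 L159647 L110515 (flp_c L110913) L115204 L166150
theorem L166158 : sm gd N15934 = N21075 := rfl
theorem L166160 : sm gf N15934 = N21076 := rfl
theorem L166162 : sm gc N21076 = N15935 := ded_20_1 (flp_f L115210) L115206 L166160
theorem L166164 : sm ge N21076 = N16553 := ded_25_1 (flp_f L118780) (flp_e L115208) L166160
theorem L166166 : sm gc N15938 = N21077 := rfl
theorem L166168 : sm ga N21077 = N21077 := ded_8_1 (flp_c L166166) L115239 L166166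
theorem L166169 : sm gf N21077 = N21077 := ded_20_2 (flp_c L166166) L115238 L166166
theorem L166170 : sm gb N21077 = N18360 := ded_13_1 (flp_c L129900) (flp_b L102533) (flp_c L95264) L115234 L166166
theorem L166172 : sm gg N15938 = N21078 := rfl
theorem L166174 : sm ga N21078 = N21078 := ded_12_1 (flp_g L166172) L115239 L166172
theorem L166175 : sm gd N21078 = N15943 := ded_24_1 (flp_g L115271) (flp_d L115236) L166172
theorem L166177 : sm ge N21078 = N16667 := ded_26_1 (flp_g L161823) L161820 L166172
theorem L166179 : sm gf N21078 = N21078 := ded_29_0 (flp_g L166172) L115238 L166172 L166174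
theorem L166180 : sm gb N21078 = N16668 := ded_17_1 (flp_g L161854) L161856 (flp_g L115240) L115234 L166172
theorem L166182 : sm gc N15940 = N21079 := rfl
theorem L166184 : sm ga N21079 = N21079 := ded_8_1 (flp_c L166182) L120706 L166182
theorem L166185 : sm gg N21079 = N21079 := ded_21_2 (flp_c L166182) L115252 L166182
theorem L166186 : sm gb N21079 = N18364 := ded_13_1 (flp_c L129924) (flp_b L102545) (flp_c L95270) L115248 L166182
theorem L166188 : sm gf N15940 = N21080 := rfl
theorem L166190 : sm ga N21080 = N21080 := ded_11_1 (flp_f L166188) L120706 L166188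
theorem L166191 : sm gd N21080 = N15947 := ded_23_1 (flp_f L115293) (flp_d L115250) L166188
theorem L166193 : sm ge N21080 = N16733 := ded_25_1 (flp_f L162052) L162050 L166188
theorem L166195 : sm gg N21080 = N21080 := ded_29_3 L166190 (flp_f L166188) L115252 L166188
theorem L166196 : sm gb N21080 = N16736 := ded_16_1 L162086 L162088 (flp_f L115253) L115248 L166188
theorem L166198 : sm gd N15942 = N21081 := rfl
theorem L166200 : sm ga N21081 = N21081 := ded_9_1 (flp_d L166198) L115265 L166198
theorem L166201 : sm gb N21081 = N15959 := ded_14_1 (flp_d L115357) (flp_b L115269) L166198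
theorem L166203 : sm gf N21081 = N21081 := ded_23_2 (flp_d L166198) L115268 L166198
theorem L166204 : sm gc N21078 = N21081 := ded_13_0 L166201 (flp_c L161320) L161318 (flp_c L121157) (flp_b L166180)
theorem L166206 : sm gg N21081 = N21077 := ded_21_2 (flp_c L166166) L166172 L166204
theorem L166208 : sm gg N15942 = N21082 := rfl
theorem L166210 : sm ga N21082 = N21082 := ded_12_1 (flp_g L166208) L115265 L166208
theorem L166211 : sm gc N21082 = N15943 := ded_21_1 (flp_g L115271) L115263 L166208
theorem L166213 : sm gd N21082 = N21077 := ded_24_1 (flp_g L166206) (flp_d L166198) L166208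
theorem L166215 : sm ge N21082 = N16580 := ded_26_1 (flp_g L120603) (flp_e L115266) L166208
theorem L166217 : sm gf N21082 = N21082 := ded_29_0 (flp_g L166208) L115268 L166208 L166210
theorem L166218 : sm gb N21082 = N16261 := ded_17_1 (flp_g L117037) (flp_b L120882) (flp_g L115361) (flp_b L115269) L166208
theorem L166220 : sm gb N15943 = N21083 := rfl
theorem L166222 : sm gd N21083 = N16668 := ded_14_2 (flp_b L166180) L166175 L166220
theorem L166224 : sm ge N21083 = N16581 := ded_15_2 (flp_b L120609) (flp_e L115274) L166220
theorem L166226 : sm gg N21083 = N15944 := ded_17_2 (flp_b L115277) (flp_g L95279) L95274 L115271 L166220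
theorem L166228 : sm ga N19521 = N21083 := ded_9_3 L166222 L121155 (flp_d L154778)
theorem L166230 : sm gf N16834 = N21083 := ded_23_0 L166222 L121159 L121937
theorem L166232 : sm ga N15944 = N21084 := rfl
theorem L166234 : sm gd N21084 = N20502 := ded_9_2 (flp_a L161846) L161850 L166232
theorem L166236 : sm ge N21084 = N16582 := ded_10_2 (flp_a L120633) (flp_e L115279) L166232
theorem L166238 : sm gg N21084 = N19521 := ded_12_2 L166228 L166226 L166232
theorem L166240 : sm gc N15944 = N21085 := rfl
theorem L166242 : sm ge N21085 = N16583 := ded_19_2 (flp_c L120637) (flp_e L115279) L166240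
theorem L166244 : sm gb N21085 = N15963 := ded_13_1 (flp_c L115379) (flp_b L95348) (flp_c L95281) L115277 L166240
theorem L166246 : sm gd N15946 = N21086 := rfl
theorem L166248 : sm ga N21086 = N21086 := ded_9_1 (flp_d L166246) L120705 L166246
theorem L166249 : sm gb N21086 = N15967 := ded_14_1 (flp_d L115407) (flp_b L115291) L166246
theorem L166251 : sm gg N21086 = N21086 := ded_24_2 (flp_d L166246) L115290 L166246
theorem L166252 : sm gc N21080 = N21086 := ded_13_0 L166249 (flp_c L161571) L161569 (flp_c L121456) (flp_b L166196)
theorem L166254 : sm gf N21086 = N21079 := ded_20_2 (flp_c L166182) L166188 L166252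
theorem L166256 : sm gf N15946 = N21087 := rfl
theorem L166258 : sm ga N21087 = N21087 := ded_11_1 (flp_f L166256) L120705 L166256
theorem L166259 : sm gc N21087 = N15947 := ded_20_1 (flp_f L115293) L115286 L166256
theorem L166261 : sm gd N21087 = N21079 := ded_23_1 (flp_f L166254) (flp_d L166246) L166256
theorem L166263 : sm ge N21087 = N16588 := ded_25_1 (flp_f L120659) (flp_e L115288) L166256
theorem L166265 : sm gg N21087 = N21087 := ded_29_3 L166258 (flp_f L166256) L115290 L166256
theorem L166266 : sm gb N21087 = N16365 := ded_16_1 L117663 (flp_b L151262) (flp_f L115411) (flp_b L115291) L166256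
theorem L166268 : sm gb N15947 = N21088 := rfl
theorem L166270 : sm gd N21088 = N16736 := ded_14_2 (flp_b L166196) L166191 L166268
theorem L166272 : sm ge N21088 = N16589 := ded_15_2 (flp_b L120663) (flp_e L115295) L166268
theorem L166274 : sm gf N21088 = N15948 := ded_16_2 (flp_b L115297) (flp_f L95292) L95287 L115293 L166268
theorem L166276 : sm ga N19522 = N21088 := ded_9_3 L166270 L121454 (flp_d L154788)
theorem L166278 : sm gg N17025 = N21088 := ded_24_0 L166270 L121458 L122856
theorem L166280 : sm ga N15948 = N21089 := rfl
theorem L166282 : sm gd N21089 = N20548 := ded_9_2 (flp_a L162078) L162082 L166280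
theorem L166284 : sm ge N21089 = N16590 := ded_10_2 (flp_a L120710) (flp_e L115299) L166280
theorem L166286 : sm gf N21089 = N19522 := ded_11_2 L166276 L166274 L166280
theorem L166288 : sm gc N15948 = N21090 := rfl
theorem L166290 : sm ge N21090 = N16591 := ded_19_2 (flp_c L120714) (flp_e L115299) L166288
theorem L166292 : sm gb N21090 = N15971 := ded_13_1 (flp_c L115429) (flp_b L95368) (flp_c L95296) L115297 L166288
theorem L166294 : sm gb N15949 = N21091 := rfl
theorem L166296 : sm gd N21091 = N15957 := ded_14_2 (flp_b L115339) (flp_d L115303) L166294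
theorem L166298 : sm ge N21091 = N19662 := ded_15_2 L155802 (flp_e L115305) L166294
theorem L166300 : sm ga N21091 = N20162 := ded_7_1 L159175 (flp_a L128791) L144287 (flp_a L144283) (flp_b L103822) L89056 L95302 L115301 L166294
theorem L166302 : sm gf N19702 = N21091 := ded_23_0 L166296 (flp_f L115345) (flp_d L156098)
theorem L166304 : sm gc N15949 = N21092 := rfl
theorem L166306 : sm ga N21092 = N15950 := ded_8_1 (flp_c L115309) L115301 L166304
theorem L166308 : sm ge N21092 = N20148 := ded_19_2 (flp_c L159065) (flp_e L115305) L166304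
theorem L166310 : sm gf N21092 = N15992 := ded_20_2 (flp_c L115519) (flp_f L115307) L166304
theorem L166312 : sm gd N15950 = N21093 := rfl
theorem L166314 : sm gf N21093 = N15994 := ded_23_2 (flp_d L115531) (flp_f L115311) L166312
theorem L166316 : sm gg N15950 = N21094 := rfl
theorem L166318 : sm gc N21094 = N15951 := ded_21_1 (flp_g L115313) L115309 L166316
theorem L166320 : sm gb N15951 = N21095 := rfl
theorem L166322 : sm gd N21095 = N15961 := ded_14_2 (flp_b L115367) (flp_d L115315) L166320
theorem L166324 : sm gg N21095 = N15952 := ded_17_2 (flp_b L115317) (flp_g L95308) L95302 L115313 L166320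
theorem L166326 : sm ga N15952 = N21096 := rfl
theorem L166328 : sm gd N21096 = N15962 := ded_9_2 (flp_a L115373) (flp_d L115319) L166326
theorem L166330 : sm gf N16237 = N21096 := ded_23_0 L166328 (flp_f L115377) (flp_d L116835)
theorem L166332 : sm gc N15952 = N21097 := rfl
theorem L166334 : sm gb N21097 = N18746 := ded_13_1 (flp_c L144369) (flp_b L103883) (flp_c L95310) L115317 L166332
theorem L166336 : sm gf N15952 = N21098 := rfl
theorem L166338 : sm ga N21098 = N16237 := ded_11_1 L166330 (flp_a L166326) L166336
theorem L166340 : sm gd N21098 = N15964 := ded_23_1 (flp_f L115383) (flp_d L115319) L166336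
theorem L166342 : sm gb N21098 = N18737 := ded_16_1 (flp_f L144329) (flp_b L103826) L95314 L115317 L166336
theorem L166344 : sm gb N15953 = N21099 := rfl
theorem L166346 : sm gd N21099 = N15965 := ded_14_2 (flp_b L115391) (flp_d L115323) L166344
theorem L166348 : sm ge N21099 = N19663 := ded_15_2 L155810 (flp_e L150960) L166344
theorem L166350 : sm ga N21099 = N20180 := ded_7_1 L159317 (flp_a L128823) L144313 (flp_a L144309) (flp_b L103826) L89064 L95316 L115321 L166344
theorem L166352 : sm gg N19715 = N21099 := ded_24_0 L166346 (flp_g L115397) (flp_d L156208)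
theorem L166354 : sm gc N15953 = N21100 := rfl
theorem L166356 : sm ga N21100 = N15954 := ded_8_1 (flp_c L115327) L115321 L166354
theorem L166358 : sm ge N21100 = N20150 := ded_19_2 (flp_c L159083) (flp_e L150960) L166354
theorem L166360 : sm gg N21100 = N15998 := ded_21_2 (flp_c L115549) (flp_g L115325) L166354
theorem L166362 : sm gd N15954 = N21101 := rfl
theorem L166364 : sm gg N21101 = N16000 := ded_24_2 (flp_d L115561) (flp_g L115329) L166362
theorem L166366 : sm gf N15954 = N21102 := rfl
theorem L166368 : sm gc N21102 = N15955 := ded_20_1 (flp_f L115331) L115327 L166366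
theorem L166370 : sm gb N15955 = N21103 := rfl
theorem L166372 : sm gd N21103 = N15969 := ded_14_2 (flp_b L115417) (flp_d L115333) L166370
theorem L166374 : sm gf N21103 = N15956 := ded_16_2 (flp_b L115335) (flp_f L95322) L95316 L115331 L166370
theorem L166376 : sm ga N15956 = N21104 := rfl
theorem L166378 : sm gd N21104 = N15970 := ded_9_2 (flp_a L115423) (flp_d L115337) L166376
theorem L166380 : sm gg N16192 = N21104 := ded_24_0 L166378 (flp_g L115427) (flp_d L116615)
theorem L166382 : sm gc N15956 = N21105 := rfl
theorem L166384 : sm gb N21105 = N18741 := ded_13_1 (flp_c L144347) (flp_b L103859) (flp_c L95326) L115335 L166382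
theorem L166386 : sm gg N15956 = N21106 := rfl
theorem L166388 : sm ga N21106 = N16192 := ded_12_1 L166380 (flp_a L166376) L166386
theorem L166390 : sm gd N21106 = N15972 := ded_24_1 (flp_g L115433) (flp_d L115337) L166386
theorem L166392 : sm gb N21106 = N18734 := ded_17_1 (flp_g L144305) (flp_b L103822) (flp_g L95330) L115335 L166386
theorem L166394 : sm gd N15958 = N21107 := rfl
theorem L166396 : sm ga N21107 = N15959 := ded_9_1 (flp_d L115357) (flp_a L115349) L166394
theorem L166398 : sm gb N21107 = N16453 := ded_14_1 L118139 (flp_b L115355) L166394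
theorem L166400 : sm gf N21107 = N16006 := ded_23_2 (flp_d L115593) (flp_f L115353) L166394
theorem L166402 : sm gg N15959 = N21108 := rfl
theorem L166404 : sm gd N21108 = N15960 := ded_24_1 (flp_g L115361) L115357 L166402
theorem L166406 : sm gc N15961 = N21109 := rfl
theorem L166408 : sm ge N21109 = N16597 := ded_19_2 (flp_c L120752) (flp_e L115369) L166406
theorem L166410 : sm gg N21109 = N15963 := ded_21_2 (flp_c L115379) (flp_g L115371) L166406
theorem L166412 : sm gc N15962 = N21110 := rfl
theorem L166414 : sm ga N21110 = N15963 := ded_8_1 (flp_c L115379) L115373 L166412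
theorem L166416 : sm ge N21110 = N16598 := ded_19_2 (flp_c L120756) (flp_e L115375) L166412
theorem L166418 : sm gf N21110 = N16440 := ded_20_2 (flp_c L118065) L115377 L166412
theorem L166420 : sm gd N15963 = N21111 := rfl
theorem L166422 : sm gf N15963 = N21112 := rfl
theorem L166424 : sm ga N21112 = N16440 := ded_11_1 (flp_f L166418) L166414 L166422
theorem L166426 : sm gc N21112 = N15964 := ded_20_1 (flp_f L115383) L115379 L166422
theorem L166428 : sm ge N21112 = N16600 := ded_25_1 (flp_f L120764) (flp_e L115381) L166422
theorem L166430 : sm gg N15964 = N21113 := rfl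
theorem L166432 : sm ga N21113 = N16431 := ded_12_1 L118023 (flp_a L115385) L166430
theorem L166434 : sm ge N21113 = N16601 := ded_26_1 (flp_g L120770) (flp_e L115387) L166430
theorem L166436 : sm gf N20252 = N21113 := ded_29_0 (flp_g L166430) (flp_f L115383) (flp_g L115371) (flp_a L159759)
theorem L166438 : sm gb N21113 = N16257 := ded_17_1 L116969 L117093 (flp_g L117097) (flp_b L115389) L166430
theorem L166440 : sm gd N15966 = N21114 := rfl
theorem L166442 : sm ga N21114 = N15967 := ded_9_1 (flp_d L115407) (flp_a L115401) L166440
theorem L166444 : sm gb N21114 = N16484 := ded_14_1 L118366 (flp_b L150738) L166440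
theorem L166446 : sm gg N21114 = N16019 := ded_24_2 (flp_d L115667) (flp_g L115405) L166440
theorem L166448 : sm gf N15967 = N21115 := rfl
theorem L166450 : sm gd N21115 = N15968 := ded_23_1 (flp_f L115411) L115407 L166448
theorem L166452 : sm gc N15969 = N21116 := rfl
theorem L166454 : sm ge N21116 = N16609 := ded_19_2 (flp_c L120806) (flp_e L115419) L166452
theorem L166456 : sm gf N21116 = N15971 := ded_20_2 (flp_c L115429) (flp_f L115421) L166452
theorem L166458 : sm gc N15970 = N21117 := rfl
theorem L166460 : sm ga N21117 = N15971 := ded_8_1 (flp_c L115429) L115423 L166458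
theorem L166462 : sm ge N21117 = N16610 := ded_19_2 (flp_c L120810) (flp_e L115425) L166458
theorem L166464 : sm gg N21117 = N16337 := ded_21_2 (flp_c L117451) L115427 L166458
theorem L166466 : sm gd N15971 = N21118 := rfl
theorem L166468 : sm gg N15971 = N21119 := rfl
theorem L166470 : sm ga N21119 = N16337 := ded_12_1 (flp_g L166464) L166460 L166468
theorem L166472 : sm gc N21119 = N15972 := ded_21_1 (flp_g L115433) L115429 L166468
theorem L166474 : sm ge N21119 = N16612 := ded_26_1 (flp_g L120818) (flp_e L115431) L166468
theorem L166476 : sm gf N15972 = N21120 := rfl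
theorem L166478 : sm ga N21120 = N16327 := ded_11_1 L117397 (flp_a L115435) L166476
theorem L166480 : sm ge N21120 = N16613 := ded_25_1 (flp_f L120824) (flp_e L115437) L166476
theorem L166482 : sm gg N21120 = N20218 := ded_29_3 L159559 L115421 L115433 L166476
theorem L166484 : sm gb N21120 = N16360 := ded_16_1 L117599 L117723 (flp_f L117729) (flp_b L115439) L166476
theorem L166486 : sm gd N15973 = N21121 := rfl
theorem L166488 : sm ga N21121 = N21121 := ded_9_1 (flp_d L166486) L115443 L166486
theorem L166489 : sm gb N21121 = N15974 := ded_14_1 (flp_d L115444) L115441 L166486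
theorem L166491 : sm gf N21121 = N21121 := ded_23_2 (flp_d L166486) L144304 L166486
theorem L166492 : sm gg N21121 = N21121 := ded_24_2 (flp_d L166486) L151372 L166486
theorem L166493 : sm ge N21121 = N21121 := ded_22_2 (flp_d L166486) (flp_e L158872) L158871 L158872 L166486
theorem L166494 : sm gf N15974 = N21122 := rfl
theorem L166496 : sm ga N21122 = N15977 := ded_11_1 (flp_f L115458) (flp_a L115446) L166494
theorem L166498 : sm gc N21122 = N21122 := ded_20_1 (flp_f L166494) L115449 L166494
theorem L166499 : sm gd N21122 = N15975 := ded_23_1 (flp_f L115450) L115444 L166494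
theorem L166501 : sm ge N21122 = N21122 := ded_25_1 (flp_f L166494) L115448 L166494
theorem L166502 : sm gb N21122 = N21122 := ded_16_1 (flp_f L166494) (flp_b L166489) L166491 L166489 L166494
theorem L166503 : sm gg N15974 = N21123 := rfl
theorem L166505 : sm ga N21123 = N15978 := ded_12_1 (flp_g L115464) (flp_a L115446) L166503
theorem L166507 : sm gc N21123 = N21123 := ded_21_1 (flp_g L166503) L115449 L166503
theorem L166508 : sm gd N21123 = N15976 := ded_24_1 (flp_g L115454) L115444 L166503
theorem L166510 : sm ge N21123 = N21123 := ded_26_1 (flp_g L166503) L115448 L166503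
theorem L166511 : sm gb N21123 = N21123 := ded_17_1 (flp_g L166503) (flp_b L166489) L166492 L166489 L166503
theorem L166512 : sm gb N15977 = N21124 := rfl
theorem L166514 : sm gd N21124 = N15979 := ded_14_2 (flp_b L115470) (flp_d L115461) L166512
theorem L166516 : sm ge N21124 = N21124 := ded_15_2 (flp_b L166512) L115463 L166512
theorem L166517 : sm gf N21124 = N15983 := ded_16_2 (flp_b L115488) (flp_f L95384) (flp_b L95376) L115458 L166512
theorem L166519 : sm gg N15977 = N21125 := rfl
theorem L166521 : sm gc N21125 = N21125 := ded_21_1 (flp_g L166519) L115460 L166519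
theorem L166522 : sm gd N21125 = N15980 := ded_24_1 (flp_g L115474) (flp_d L115461) L166519
theorem L166524 : sm ge N21125 = N21125 := ded_26_1 (flp_g L166519) L115463 L166519
theorem L166525 : sm gf N21123 = N21125 := ded_29_0 (flp_g L166519) (flp_f L115458) L115464 (flp_a L166505)
theorem L166527 : sm gb N15978 = N21126 := rfl
theorem L166529 : sm gd N21126 = N15981 := ded_14_2 (flp_b L115478) (flp_d L115467) L166527
theorem L166531 : sm ge N21126 = N21126 := ded_15_2 (flp_b L166527) L115469 L166527
theorem L166532 : sm gg N21126 = N15984 := ded_17_2 (flp_b L115493) (flp_g L95393) (flp_b L95376) L115464 L166527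
theorem L166534 : sm gf N15978 = N21127 := rfl
theorem L166536 : sm ga N21127 = N21125 := ded_11_1 (flp_f L166525) L166505 L166534
theorem L166538 : sm gc N21127 = N21127 := ded_20_1 (flp_f L166534) L115466 L166534
theorem L166539 : sm gd N21127 = N15982 := ded_23_1 (flp_f L115482) (flp_d L115467) L166534
theorem L166541 : sm ge N21127 = N21127 := ded_25_1 (flp_f L166534) L115469 L166534
theorem L166542 : sm gg N21127 = N21122 := ded_29_3 L166496 (flp_f L115458) L115464 L166534
theorem L166544 : sm gc N15979 = N21128 := rfl
theorem L166546 : sm gf N21128 = N15986 := ded_20_2 (flp_c L115501) (flp_f L115472) L166544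
theorem L166548 : sm gb N15980 = N21129 := rfl
theorem L166550 : sm gf N21129 = N21129 := ded_16_2 (flp_b L166548) (flp_f L115476) L151290 L115476 L166548
theorem L166551 : sm gc N15981 = N21130 := rfl
theorem L166553 : sm gg N21130 = N15989 := ded_21_2 (flp_c L115509) (flp_g L115480) L166551
theorem L166555 : sm gb N15982 = N21131 := rfl
theorem L166557 : sm gg N21131 = N21131 := ded_17_2 (flp_b L166555) L115486 L144301 (flp_g L115486) L166555
theorem L166558 : sm ga N15983 = N21132 := rfl
theorem L166560 : sm gd N21132 = N15985 := ded_9_2 (flp_a L115498) (flp_d L115490) L166558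
theorem L166562 : sm ge N21132 = N21132 := ded_10_2 (flp_a L166558) L115492 L166558
theorem L166563 : sm gb N21132 = N21132 := ded_7_2 (flp_a L166558) (flp_b L115488) L95386 L95496 L103843 (flp_b L95496) (flp_a L95386) L115488 L166558
theorem L166564 : sm gc N15983 = N21133 := rfl
theorem L166566 : sm ge N21133 = N21133 := ded_19_2 (flp_c L166564) L115492 L166564
theorem L166567 : sm gb N21133 = N16027 := ded_13_1 (flp_c L115713) (flp_b L95496) (flp_c L95388) L115488 L166564
theorem L166569 : sm ga N21133 = N21124 := ded_30_19 L166517 L166564 L166567 L115715 L115717 (flp_c L115713) (flp_b L95496) (flp_a L95386) (flp_f L95384) (flp_c L84347) L24907 (flp_a L84344) L95384 L95388 L95496 L103843 L95501 L115713 (flp_b L166567)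
theorem L166571 : sm gf N21132 = N21133 := ded_30_0 (flp_c L166564) (flp_b L115488) L95386 (flp_f L84407) L84347 (flp_b L95376) (flp_a L115446) L166494 L166498 L166502 L166496 (flp_f L115458) L95379 L95376 L84344 L84407 (flp_c L95388) L115488 L166558
theorem L166573 : sm gc N21132 = N21124 := ded_8_2 (flp_a L166569) (flp_c L166564) L166558
theorem L166575 : sm gd N16036 = N21133 := ded_9_0 L166569 L166514 (flp_a L151286)
theorem L166577 : N16027 = N16028 := coi_14_2 L115721 L115762 L166575 L166567
theorem L166578 : N16028 = N16027 := (eqc rfl L166577 rfl).symm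
theorem L166580 : sm gd N16027 = N12089 := trfs L166578 L115721 rfl
theorem L166584 : sm gg N16027 = N12083 := trfs L166578 (flp_g L115718) rfl
theorem L166586 : sm gg N21133 = N16029 := ded_24_2 L115727 (flp_g L115764) L166575
theorem L166588 : sm gg N15983 = N21134 := rfl
theorem L166590 : sm gc N21134 = N16029 := ded_21_1 (flp_g L166586) (flp_c L166564) L166588
theorem L166592 : sm gd N21134 = N15987 := ded_24_1 (flp_g L115505) (flp_d L115490) L166588
theorem L166594 : sm ge N21134 = N21134 := ded_26_1 (flp_g L166588) L115492 L166588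
theorem L166595 : sm gf N21134 = N16029 := ded_29_2 (flp_g L166586) L166569 L166517 L166588
theorem L166597 : sm ga N15984 = N21135 := rfl
theorem L166599 : sm gd N21135 = N15988 := ded_9_2 (flp_a L115507) (flp_d L115495) L166597
theorem L166601 : sm ge N21135 = N21135 := ded_10_2 (flp_a L166597) L115497 L166597
theorem L166602 : sm gb N21135 = N21135 := ded_7_2 (flp_a L166597) (flp_b L115493) L95395 L95509 L150845 (flp_b L95509) (flp_a L95395) L115493 L166597
theorem L166603 : sm gc N15984 = N21136 := rfl
theorem L166605 : sm ge N21136 = N21136 := ded_19_2 (flp_c L166603) L115497 L166603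
theorem L166606 : sm gb N21136 = N16031 := ded_13_1 (flp_c L115736) (flp_b L95509) (flp_c L95397) L115493 L166603
theorem L166608 : sm gf N15984 = N21137 := rfl
theorem L166610 : sm gd N21137 = N15990 := ded_23_1 (flp_f L115513) (flp_d L115495) L166608
theorem L166612 : sm ge N21137 = N21137 := ded_25_1 (flp_f L166608) L115497 L166608
theorem L166613 : sm gb N21137 = N21134 := ded_16_1 L166595 (flp_b L115725) (flp_f L95507) L115493 L166608
theorem L166615 : sm gg N16033 = N21137 := ded_31_0 (flp_f L166608) (flp_b L115493) (flp_g L95393) L95384 L115488 L166588 L166595 (flp_b L115725) (flp_g L95502) (flp_f L84407) L24907 L84412 L95515 L115745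
theorem L166617 : sm gc N16033 = N21137 := ded_13_0 L166613 L166590 (flp_b L115725) (flp_c L95519) L115745
theorem L166619 : sm gf N21136 = N16033 := ded_20_0 L166617 (flp_f L166608) L166603
theorem L166621 : sm gd N16045 = N21136 := ded_23_3 L166619 L115747 (flp_f L115800)
theorem L166623 : sm gg N21136 = N21135 := ded_29_3 (flp_a L166597) L166608 (flp_g L166615) (flp_f L166619)
theorem L166625 : sm ga N21126 = N21136 := ded_29_4 L166619 L166615 (flp_f L166608) (flp_g L166532)
theorem L166627 : N16032 = N16031 := coi_16_5 (flp_b L166606) L166619 (flp_b L115745) (flp_f L95515) L95509 L115740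
theorem L166628 : N16032 = N16031 := eqc rfl L166627 rfl
theorem L166630 : sm gd N16031 = N12093 := trfs L166628 L115742 rfl
theorem L166633 : sm gf N16031 = N12085 := trfs L166628 (flp_f L115740) rfl
theorem L166636 : sm gc N21135 = N21126 := ded_21_1 L166532 L166603 L166623
theorem L166638 : sm gc N15985 = N21138 := rfl
theorem L166640 : sm ga N21138 = N15986 := ded_8_1 (flp_c L115501) L115498 L166638
theorem L166642 : sm gg N15985 = N21139 := rfl
theorem L166644 : sm ga N21139 = N15987 := ded_12_1 (flp_g L115505) L115498 L166642
theorem L166646 : sm gf N16037 = N21139 := ded_29_0 (flp_g L166642) L151288 L115764 L115766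
theorem L166648 : sm gd N15986 = N21140 := rfl
theorem L166650 : sm gb N21140 = N15994 := ded_14_1 (flp_d L115531) (flp_b L115503) L166648
theorem L166652 : sm gg N15986 = N21141 := rfl
theorem L166654 : sm gc N21141 = N15987 := ded_21_1 (flp_g L115505) L115501 L166652
theorem L166656 : sm gf N16038 = N21141 := ded_20_0 L166654 L151168 L115768
theorem L166658 : sm gc N15988 = N21142 := rfl
theorem L166660 : sm ga N21142 = N15989 := ded_8_1 (flp_c L115509) L115507 L166658
theorem L166662 : sm gf N15988 = N21143 := rfl
theorem L166664 : sm ga N21143 = N15990 := ded_11_1 (flp_f L115513) L115507 L166662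
theorem L166666 : sm gg N21143 = N16046 := ded_29_3 (flp_a L115802) (flp_f L115800) L151295 L166662
theorem L166668 : sm gd N15989 = N21144 := rfl
theorem L166670 : sm gb N21144 = N16000 := ded_14_1 (flp_d L115561) (flp_b L115511) L166668
theorem L166672 : sm gf N15989 = N21145 := rfl
theorem L166674 : sm gc N21145 = N15990 := ded_20_1 (flp_f L115513) L115509 L166672
theorem L166676 : sm gg N16047 = N21145 := ded_21_0 L166674 L151172 L115804
theorem L166678 : sm gf N15991 = N21146 := rfl
theorem L166680 : sm ga N21146 = N20135 := ded_11_1 L158971 L155078 L166678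
theorem L166682 : sm gc N21146 = N20135 := ded_20_1 L158971 (flp_c L155082) L166678
theorem L166684 : sm gd N21146 = N16003 := ded_23_1 (flp_f L115575) (flp_d L115517) L166678
theorem L166686 : sm ge N21146 = N19561 := ded_25_1 (flp_f L158971) L158969 L166678
theorem L166688 : sm gb N21146 = N19702 := ded_16_1 L166302 (flp_b L166294) L115307 L115515 L166678
theorem L166690 : sm gg N18801 = N21146 := ded_24_0 L166684 L117515 (flp_d L144663)
theorem L166692 : sm gg N15991 = N21147 := rfl
theorem L166694 : sm gd N21147 = N16004 := ded_24_1 (flp_g L115583) (flp_d L115517) L166692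
theorem L166696 : sm gb N18795 = N21147 := ded_14_3 L166694 L117979 L156871
theorem L166698 : sm gd N15992 = N21148 := rfl
theorem L166700 : sm ga N21148 = N15994 := ded_9_1 (flp_d L115531) (flp_a L115521) L166698
theorem L166702 : sm gb N21148 = N19730 := ded_14_1 L156342 L156092 L166698
theorem L166704 : sm gg N15992 = N21149 := rfl
theorem L166706 : sm ga N21149 = N15995 := ded_12_1 (flp_g L115533) (flp_a L115521) L166704
theorem L166708 : sm gc N21149 = N15993 := ded_21_1 (flp_g L115523) L115519 L166704
theorem L166710 : sm gf N21149 = N21094 := ded_29_2 (flp_g L166316) (flp_a L166306) L166310 L166704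
theorem L166712 : sm gb N15993 = N21150 := rfl
theorem L166714 : sm gd N21150 = N16008 := ded_14_2 (flp_b L115607) (flp_d L115527) L166712
theorem L166716 : sm gg N21150 = N18795 := ded_17_2 L166696 (flp_g L166692) (flp_b L115515) L115523 L166712
theorem L166718 : sm gf N16233 = N21150 := ded_23_0 L166714 (flp_f L115611) (flp_d L116811)
theorem L166720 : sm gc N18796 = N21150 := ded_21_3 L166716 L144629 L144631
theorem L166722 : sm gc N15994 = N21151 := rfl
theorem L166724 : sm ge N15994 = N21152 := rfl
theorem L166726 : sm gg N15994 = N21153 := rfl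
theorem L166728 : sm gd N21153 = N15995 := ded_24_1 (flp_g L115533) L115531 L166726
theorem L166730 : sm gb N15995 = N21154 := rfl
theorem L166732 : sm gf N15995 = N21155 := rfl
theorem L166734 : sm ga N21155 = N21094 := ded_11_1 (flp_f L166710) L166706 L166732
theorem L166736 : sm gc N21155 = N15996 := ded_20_1 (flp_f L115537) (flp_c L115535) L166732
theorem L166738 : sm gg N21155 = N21092 := ded_29_3 L166306 L115311 L115533 L166732
theorem L166740 : sm gf N15997 = N21156 := rfl
theorem L166742 : sm gd N21156 = N16016 := ded_23_1 (flp_f L115651) (flp_d L115547) L166740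
theorem L166744 : sm gb N18810 = N21156 := ded_14_3 L166742 L117371 (flp_d L156859)
theorem L166746 : sm gg N15997 = N21157 := rfl
theorem L166748 : sm ga N21157 = N20141 := ded_12_1 L159015 L155132 L166746
theorem L166750 : sm gc N21157 = N20141 := ded_21_1 L159015 (flp_c L155136) L166746
theorem L166752 : sm gd N21157 = N16017 := ded_24_1 (flp_g L115655) (flp_d L115547) L166746
theorem L166754 : sm ge N21157 = N19566 := ded_26_1 (flp_g L159015) L159013 L166746
theorem L166756 : sm gb N21157 = N19715 := ded_17_1 L166352 (flp_b L166344) L115325 L115545 L166746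
theorem L166758 : sm gf N18786 = N21157 := ded_23_0 L166752 L116887 (flp_d L144589)
theorem L166760 : sm gd N15998 = N21158 := rfl
theorem L166762 : sm ga N21158 = N16000 := ded_9_1 (flp_d L115561) (flp_a L115551) L166760
theorem L166764 : sm gb N21158 = N19768 := ded_14_1 L156589 L156202 L166760
theorem L166766 : sm gf N15998 = N21159 := rfl
theorem L166768 : sm ga N21159 = N16001 := ded_11_1 (flp_f L115563) (flp_a L115551) L166766
theorem L166770 : sm gc N21159 = N15999 := ded_20_1 (flp_f L115553) L115549 L166766
theorem L166772 : sm gg N21102 = N21159 := ded_29_1 (flp_f L166766) (flp_g L166360) L166356 L166366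
theorem L166774 : sm gb N15999 = N21160 := rfl
theorem L166776 : sm gd N21160 = N16021 := ded_14_2 (flp_b L115681) (flp_d L115557) L166774
theorem L166778 : sm gf N21160 = N18810 := ded_16_2 L166744 (flp_f L166740) (flp_b L115545) L115553 L166774
theorem L166780 : sm gg N16187 = N21160 := ded_24_0 L166776 (flp_g L115685) (flp_d L116593)
theorem L166782 : sm gc N18811 = N21160 := ded_20_3 L166778 L144717 L144721
theorem L166784 : sm gc N16000 = N21161 := rfl
theorem L166786 : sm ge N16000 = N21162 := rfl
theorem L166788 : sm gf N16000 = N21163 := rfl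
theorem L166790 : sm gd N21163 = N16001 := ded_23_1 (flp_f L115563) L115561 L166788
theorem L166792 : sm gb N16001 = N21164 := rfl
theorem L166794 : sm gg N16001 = N21165 := rfl
theorem L166796 : sm ga N21165 = N21102 := ded_12_1 L166772 L166768 L166794
theorem L166798 : sm gc N21165 = N16002 := ded_21_1 (flp_g L115567) (flp_c L115565) L166794
theorem L166800 : sm gf N21100 = N21165 := ded_29_0 (flp_g L166794) (flp_f L115563) (flp_g L115329) (flp_a L166356)
theorem L166802 : sm gg N16005 = N21166 := rfl
theorem L166804 : sm ge N21166 = N16618 := ded_26_1 (flp_g L120860) (flp_e L115589) L166802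
theorem L166806 : sm gc N16006 = N21167 := rfl
theorem L166808 : sm ga N21167 = N16009 := ded_8_1 (flp_c L115613) (flp_a L115595) L166806
theorem L166810 : sm ge N21167 = N20489 := ded_19_2 L161246 L129739 L166806
theorem L166812 : sm gb N21167 = N20491 := ded_13_1 L161266 (flp_b L129386) L129392 L129402 L166806
theorem L166814 : sm gd N21151 = N21167 := ded_28_1 (flp_c L166806) (flp_d L115593) (flp_c L95430) (flp_d L95408) L115519 L166698 L166700 L166722
theorem L166816 : sm gg N16006 = N21168 := rfl
theorem L166818 : sm ga N21168 = N16011 := ded_12_1 (flp_g L115620) (flp_a L115595) L166816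
theorem L166820 : sm gd N21168 = N16007 := ded_24_1 (flp_g L115597) L115593 L166816
theorem L166822 : sm gf N21168 = N21108 := ded_29_2 (flp_g L166402) (flp_a L166396) L166400 L166816
theorem L166824 : sm gb N16007 = N21169 := rfl
theorem L166826 : sm ge N21169 = N16621 := ded_15_2 (flp_b L120874) (flp_e L115603) L166824
theorem L166828 : sm gf N21169 = N16267 := ded_16_2 (flp_b L117025) L117031 (flp_b L120882) (flp_f L115605) L166824
theorem L166830 : sm gc N16008 = N21170 := rfl
theorem L166832 : sm ga N21170 = N16909 := ded_8_1 L163983 L118009 L166830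
theorem L166834 : sm ge N21170 = N16622 := ded_19_2 (flp_c L120886) (flp_e L115609) L166830
theorem L166836 : sm gf N21170 = N16429 := ded_20_2 L118003 L115611 L166830
theorem L166838 : sm gd N16009 = N21171 := rfl
theorem L166840 : sm ga N21171 = N21151 := ded_9_1 L166814 L166808 L166838
theorem L166842 : sm gb N21171 = N18984 := ded_14_1 (flp_d L145717) (flp_b L161252) L166838
theorem L166844 : sm gc N21148 = N21171 := ded_28_0 (flp_d L166838) (flp_c L115613) (flp_d L95444) (flp_c L84385) (flp_d L84375) L95410 L115531 (flp_a L166700)
theorem L166846 : sm gg N16009 = N21172 := rfl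
theorem L166848 : sm gc N21172 = N16011 := ded_21_1 (flp_g L115620) L115613 L166846
theorem L166850 : sm gg N16010 = N21173 := rfl
theorem L166852 : sm gd N21173 = N16623 := ded_24_1 (flp_g L120890) (flp_d L115618) L166850
theorem L166854 : sm ge N21173 = N16011 := ded_26_1 (flp_g L115620) L115615 L166850
theorem L166856 : sm gb N16011 = N21174 := rfl
theorem L166858 : sm gd N21174 = N16012 := ded_14_2 (flp_b L115624) (flp_d L115622) L166856
theorem L166860 : sm gg N21174 = N21174 := ded_17_2 (flp_b L166856) (flp_g L115620) L95446 L115620 L166856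
theorem L166861 : sm ga N16096 = N21174 := ded_9_3 L166858 L120928 (flp_d L116100)
theorem L166863 : sm gf N16011 = N21175 := rfl
theorem L166865 : sm ga N21175 = N21108 := ded_11_1 (flp_f L166822) L166818 L166863
theorem L166867 : sm gd N21175 = N16013 := ded_23_1 (flp_f L115629) (flp_d L115622) L166863
theorem L166869 : sm gg N21175 = N21107 := ded_29_3 L166396 L115359 L115620 L166863
theorem L166871 : sm gf N16012 = N21176 := rfl
theorem L166873 : sm ga N21176 = N16099 := ded_11_1 (flp_f L116115) (flp_a L120928) L166871
theorem L166875 : sm ge N21176 = N16627 := ded_25_1 (flp_f L120912) (flp_e L115626) L166871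
theorem L166877 : sm gg N21176 = N16099 := ded_29_3 (flp_a L166873) (flp_f L166871) L115628 L166871
theorem L166879 : sm gb N16013 = N21177 := rfl
theorem L166881 : sm ge N21177 = N16628 := ded_15_2 (flp_b L120939) (flp_e L115635) L166879
theorem L166883 : sm gg N21177 = N16298 := ded_17_2 (flp_b L117225) L96621 (flp_b L115355) (flp_g L115637) L166879
theorem L166885 : sm gf N16018 = N21178 := rfl
theorem L166887 : sm ge N21178 = N16636 := ded_25_1 (flp_f L120971) (flp_e L115665) L166885
theorem L166889 : sm gc N16019 = N21179 := rfl
theorem L166891 : sm ga N21179 = N16022 := ded_8_1 (flp_c L115687) (flp_a L115669) L166889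
theorem L166893 : sm ge N21179 = N20535 := ded_19_2 L161497 L151337 L166889
theorem L166895 : sm gb N21179 = N20537 := ded_13_1 L161517 (flp_b L129438) L129442 (flp_b L151256) L166889
theorem L166897 : sm gd N21161 = N21179 := ded_28_1 (flp_c L166889) (flp_d L115667) (flp_c L95465) (flp_d L95418) L115549 L166760 L166762 L166784
theorem L166899 : sm gf N16019 = N21180 := rfl
theorem L166901 : sm ga N21180 = N16024 := ded_11_1 (flp_f L115694) (flp_a L115669) L166899
theorem L166903 : sm gd N21180 = N16020 := ded_23_1 (flp_f L115671) L115667 L166899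
theorem L166905 : sm gg N21115 = N21180 := ded_29_1 (flp_f L166899) (flp_g L166446) L166442 L166448
theorem L166907 : sm gb N16020 = N21181 := rfl
theorem L166909 : sm ge N21181 = N16641 := ded_15_2 (flp_b L120993) (flp_e L115677) L166907
theorem L166911 : sm gg N21181 = N16369 := ded_17_2 (flp_b L117653) L117659 (flp_b L151262) L115679 L166907
theorem L166913 : sm gc N16021 = N21182 := rfl
theorem L166915 : sm ga N21182 = N17104 := ded_8_1 L163991 L117403 L166913
theorem L166917 : sm ge N21182 = N16642 := ded_19_2 (flp_c L120995) (flp_e L115683) L166913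
theorem L166919 : sm gg N21182 = N16325 := ded_21_2 L117383 L115685 L166913
theorem L166921 : sm gd N16022 = N21183 := rfl
theorem L166923 : sm ga N21183 = N21161 := ded_9_1 L166897 L166891 L166921
theorem L166925 : sm gb N21183 = N18999 := ded_14_1 (flp_d L145805) (flp_b L161503) L166921
theorem L166927 : sm gc N21158 = N21183 := ded_28_0 (flp_d L166921) (flp_c L115687) (flp_d L95479) (flp_c L84398) (flp_d L84379) L95420 L115561 (flp_a L166762)
theorem L166929 : sm gf N16022 = N21184 := rfl
theorem L166931 : sm gc N21184 = N16024 := ded_20_1 (flp_f L115694) L115687 L166929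
theorem L166933 : sm gf N16023 = N21185 := rfl
theorem L166935 : sm gd N21185 = N16647 := ded_23_1 (flp_f L121016) (flp_d L115692) L166933
theorem L166937 : sm ge N21185 = N16024 := ded_25_1 (flp_f L115694) L115689 L166933
theorem L166939 : sm gb N16024 = N21186 := rfl
theorem L166941 : sm gd N21186 = N16025 := ded_14_2 (flp_b L115698) (flp_d L115696) L166939
theorem L166943 : sm gf N21186 = N21186 := ded_16_2 (flp_b L166939) (flp_f L115694) L95481 L115694 L166939
theorem L166944 : sm ga N16136 = N21186 := ded_9_3 L166941 L150715 (flp_d L116332)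
theorem L166946 : sm gg N16024 = N21187 := rfl
theorem L166948 : sm ga N21187 = N21115 := ded_12_1 L166905 L166901 L166946
theorem L166950 : sm gd N21187 = N16026 := ded_24_1 (flp_g L115703) (flp_d L115696) L166946
theorem L166952 : sm gf N21114 = N21187 := ded_29_0 (flp_g L166946) (flp_f L115694) (flp_g L115409) (flp_a L166442)
theorem L166954 : sm gg N16025 = N21188 := rfl
theorem L166956 : sm ga N21188 = N16139 := ded_12_1 (flp_g L116347) (flp_a L150715) L166954
theorem L166958 : sm ge N21188 = N16651 := ded_26_1 (flp_g L121036) (flp_e L115700) L166954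
theorem L166960 : sm gf N16139 = N21188 := ded_29_0 (flp_g L166954) L115702 L166954 L166956
theorem L166962 : sm gb N16026 = N21189 := rfl
theorem L166964 : sm ge N21189 = N16652 := ded_15_2 (flp_b L121038) (flp_e L115709) L166962
theorem L166966 : sm gf N21189 = N16401 := ded_16_2 (flp_b L117835) (flp_f L96720) (flp_b L150738) L115711 L166962
theorem L166968 : sm ga N16029 = N21190 := rfl
theorem L166970 : sm gd N21190 = N16037 := ded_9_2 (flp_a L115766) (flp_d L115727) L166968
theorem L166972 : sm ge N21190 = N21190 := ded_10_2 (flp_a L166968) L115729 L166968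
theorem L166973 : sm gg N21190 = N21124 := ded_12_2 (flp_a L166569) L166586 L166968
theorem L166975 : sm ga N16033 = N21191 := rfl
theorem L166977 : sm gd N21191 = N16046 := ded_9_2 (flp_a L115802) (flp_d L115747) L166975
theorem L166979 : sm ge N21191 = N21191 := ded_10_2 (flp_a L166975) L115749 L166975
theorem L166980 : sm gf N21191 = N21126 := ded_11_2 L166625 L166619 L166975
theorem L166982 : sm gc N16034 = N21192 := rfl
theorem L166984 : sm ga N21192 = N21192 := ded_8_1 (flp_c L166982) L115752 L166982
theorem L166985 : sm gf N21192 = N21192 := ded_20_2 (flp_c L166982) L115755 L166982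
theorem L166986 : sm gb N21192 = N16053 := ded_13_1 (flp_c L144567) L144575 (flp_c L115836) (flp_b L115753) L166982
theorem L166988 : sm gd N16035 = N21192 := ded_28_7 L166984 (flp_c L166982) (flp_d L115750) (flp_c L95529) (flp_d L95498) L115713 L166580 (flp_c L115759)
theorem L166990 : sm ge N16034 = N21192 := ded_15_0 L166986 (flp_e L115840) (flp_b L115753)
theorem L166992 : sm gg N21192 = N16034 := ded_24_2 (flp_d L115750) L115756 L166988
theorem L166994 : sm gc N16036 = N21193 := rfl
theorem L166996 : sm ga N21193 = N21128 := ded_8_1 (flp_c L166544) (flp_a L151286) L166994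
theorem L166998 : sm gf N21193 = N21138 := ded_20_2 (flp_c L166638) L151288 L166994
theorem L167000 : sm gg N21193 = N16038 := ded_21_2 (flp_c L115768) (flp_g L115764) L166994
theorem L167002 : sm gb N16037 = N21194 := rfl
theorem L167004 : sm gg N21194 = N21129 := ded_17_2 (flp_b L166548) (flp_g L115474) L115470 L151284 L167002
theorem L167006 : sm gc N16037 = N21195 := rfl
theorem L167008 : sm ga N21195 = N16038 := ded_8_1 (flp_c L115768) L115766 L167006
theorem L167010 : sm gg N21195 = N21128 := ded_21_2 (flp_c L166544) L151284 L167006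
theorem L167012 : sm gd N16038 = N21196 := rfl
theorem L167014 : sm gb N21196 = N16062 := ded_14_1 (flp_d L115882) (flp_b L115770) L167012
theorem L167016 : sm gc N16043 = N21197 := rfl
theorem L167018 : sm ga N21197 = N21197 := ded_8_1 (flp_c L167016) L149741 L167016
theorem L167019 : sm gg N21197 = N21197 := ded_21_2 (flp_c L167016) L115793 L167016
theorem L167020 : sm gb N21197 = N16072 := ded_13_1 L149739 L149731 (flp_c L115920) (flp_b L115791) L167016
theorem L167022 : sm gd N16044 = N21197 := ded_28_7 L167018 (flp_c L167016) (flp_d L115789) (flp_c L95541) (flp_d L95511) L115736 L166630 (flp_c L115796)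
theorem L167024 : sm gb N20184 = N16044 := ded_14_3 L167022 L167020 (flp_d L159349)
theorem L167026 : sm ge N16043 = N21197 := ded_15_0 L167020 (flp_e L115924) (flp_b L115791)
theorem L167028 : sm gf N21197 = N16043 := ded_23_2 (flp_d L115789) L115794 L167022
theorem L167030 : N20156 = N20157 := coi_22_0 L159138 L167022 (flp_e L167026) (flp_d L115789) (flp_e L110284) L159127
theorem L167031 : N20157 = N20156 := (eqc rfl L167030 rfl).symm
theorem L167033 : sm gc N20156 = N14954 := trfs L167031 L159136 rfl
theorem L167035 : sm ge N20156 = N16044 := trfs L167031 L159138 rfl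
theorem L167037 : sm gf N20156 = N14953 := trfs L167031 (flp_f L159133) rfl
theorem L167040 : sm gf N16074 = N20184 := ded_16_0 L167024 (flp_f L115794) L95544 L95600 L115932
theorem L167042 : N20186 = N20185 := coi_16_4 (flp_f L159351) (flp_b L159130) L167037 L110287 L110367 L159355
theorem L167043 : N20186 = N20185 := eqc rfl L167042 rfl
theorem L167044 : sm gb N20185 = N14967 := trfs L167043 (flp_b L159355) rfl
theorem L167046 : sm ge N20185 = N16074 := trfs L167043 L159357 rfl
theorem L167048 : sm gc N16045 = N21198 := rfl
theorem L167050 : sm ga N21198 = N21130 := ded_8_1 (flp_c L166551) L151293 L167048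
theorem L167052 : sm gf N21198 = N16047 := ded_20_2 (flp_c L115804) (flp_f L115800) L167048
theorem L167054 : sm gg N21198 = N21142 := ded_21_2 (flp_c L166658) (flp_g L151295) L167048
theorem L167056 : sm gb N16046 = N21199 := rfl
theorem L167058 : sm gf N21199 = N21131 := ded_16_2 (flp_b L166555) (flp_f L115482) L115478 (flp_f L151291) L167056
theorem L167060 : sm gc N16046 = N21200 := rfl
theorem L167062 : sm ga N21200 = N16047 := ded_8_1 (flp_c L115804) L115802 L167060
theorem L167064 : sm gf N21200 = N21130 := ded_20_2 (flp_c L166551) (flp_f L151291) L167060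
theorem L167066 : sm gd N16047 = N21201 := rfl
theorem L167068 : sm gb N21201 = N16081 := ded_14_1 (flp_d L115964) (flp_b L115806) L167066
theorem L167070 : sm gf N16049 = N21202 := rfl
theorem L167072 : sm gc N21202 = N16050 := ded_20_1 (flp_f L115826) L115812 L167070
theorem L167074 : sm gd N21202 = N19667 := ded_23_1 L155840 L115814 L167070
theorem L167076 : sm gg N16049 = N21203 := rfl
theorem L167078 : sm gc N21203 = N16051 := ded_21_1 (flp_g L115832) L115812 L167076
theorem L167080 : sm gd N21203 = N19738 := ded_24_1 (flp_g L156388) L115814 L167076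
theorem L167082 : sm gg N16050 = N21204 := rfl
theorem L167084 : sm gd N21204 = N16084 := ded_24_1 (flp_g L115978) (flp_d L115828) L167082
theorem L167086 : sm gf N19703 = N21204 := ded_29_0 (flp_g L167082) (flp_f L115826) L115832 (flp_a L156102)
theorem L167088 : sm gf N16051 = N21205 := rfl
theorem L167090 : sm ga N21205 = N21204 := ded_11_1 (flp_f L167086) L156102 L167088
theorem L167092 : sm gd N21205 = N16085 := ded_23_1 (flp_f L115986) (flp_d L115834) L167088
theorem L167094 : sm gg N21205 = N19662 := ded_29_3 L155800 (flp_f L115826) L115832 L167088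
theorem L167096 : sm gg N16052 = N21206 := rfl
theorem L167098 : sm gc N21206 = N16054 := ded_21_1 (flp_g L115846) L115836 L167096
theorem L167100 : sm gd N21206 = N16291 := ded_24_1 L117187 (flp_d L116020) L167096
theorem L167102 : sm gf N16288 = N21206 := ded_29_0 (flp_g L167096) L115838 L116512 (flp_a L117165)
theorem L167104 : sm gg N16053 = N21207 := rfl
theorem L167106 : sm ga N21207 = N16161 := ded_12_1 (flp_g L116481) (flp_a L115842) L167104
theorem L167108 : sm gd N21207 = N16055 := ded_24_1 L159227 L159225 L167104
theorem L167110 : sm ge N21207 = N16054 := ded_26_1 (flp_g L115846) L115840 L167104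
theorem L167112 : sm gb N21207 = N16054 := ded_17_1 (flp_g L115846) (flp_b L115753) (flp_g L166992) L166986 L167104
theorem L167114 : sm ga N16055 = N21208 := rfl
theorem L167116 : sm gd N21208 = N16161 := ded_9_2 (flp_a L167106) L167108 L167114
theorem L167118 : sm ge N21208 = N20277 := ded_10_2 L159913 L159233 L167114
theorem L167120 : sm gg N21208 = N16159 := ded_12_2 (flp_a L159219) (flp_g L159227) L167114
theorem L167122 : sm gf N21208 = N20275 := ded_29_0 (flp_g L159900) (flp_f L159223) (flp_g L159227) L167114
theorem L167124 : sm gc N16055 = N21209 := rfl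
theorem L167126 : sm gb N21209 = N16057 := ded_13_1 (flp_c L115858) (flp_b L95568) (flp_c L95566) L115850 L167124
theorem L167128 : sm gf N16055 = N21210 := rfl
theorem L167130 : sm ga N21210 = N20275 := ded_11_1 (flp_f L167122) (flp_a L167114) L167128
theorem L167132 : sm ge N21210 = N20267 := ded_25_1 L159863 L159233 L167128
theorem L167134 : sm gg N21210 = N20164 := ded_29_3 (flp_a L159189) (flp_f L159223) (flp_g L159227) L167128
theorem L167136 : sm gb N16056 = N21211 := rfl
theorem L167138 : sm gd N21211 = N16100 := ded_14_2 (flp_b L116119) (flp_d L115854) L167136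
theorem L167140 : sm gc N16056 = N21212 := rfl
theorem L167142 : sm ga N21212 = N16057 := ded_8_1 (flp_c L115858) L115852 L167140
theorem L167144 : sm gg N21212 = N16060 := ded_21_2 (flp_c L115870) (flp_g L115856) L167140
theorem L167146 : sm gd N16057 = N21213 := rfl
theorem L167148 : sm gg N21213 = N16062 := ded_24_2 (flp_d L115882) (flp_g L115860) L167146
theorem L167150 : sm gf N16057 = N21214 := rfl
theorem L167152 : sm gc N21214 = N16058 := ded_20_1 (flp_f L115862) L115858 L167150
theorem L167154 : sm gc N16059 = N21215 := rfl
theorem L167156 : sm gd N19795 = N21215 := ded_28_1 (flp_c L167154) L115868 (flp_c L151199) L108011 L108228 L156739 L156741 L156753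
theorem L167158 : sm gg N16059 = N21216 := rfl
theorem L167160 : sm ga N21216 = N20284 := ded_12_1 (flp_g L159960) L156278 L167158
theorem L167162 : sm gd N21216 = N16106 := ded_24_1 (flp_g L116151) (flp_d L115868) L167158
theorem L167164 : sm gf N20289 = N21216 := ded_29_0 (flp_g L167158) L160014 (flp_g L160008) L159998
theorem L167166 : sm gb N16060 = N21217 := rfl
theorem L167168 : sm gd N16060 = N21218 := rfl
theorem L167170 : sm ga N21218 = N16062 := ded_9_1 (flp_d L115882) (flp_a L115872) L167168
theorem L167172 : sm gf N16060 = N21219 := rfl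
theorem L167174 : sm ga N21219 = N16063 := ded_11_1 (flp_f L115884) (flp_a L115872) L167172
theorem L167176 : sm gc N21219 = N16061 := ded_20_1 (flp_f L115874) L115870 L167172
theorem L167178 : sm gg N21214 = N21219 := ded_29_1 (flp_f L167172) (flp_g L167144) L167142 L167150
theorem L167180 : sm gc N16062 = N21220 := rfl
theorem L167182 : sm ge N16062 = N21221 := rfl
theorem L167184 : sm gf N16062 = N21222 := rfl
theorem L167186 : sm gd N21222 = N16063 := ded_23_1 (flp_f L115884) L115882 L167184
theorem L167188 : sm gb N16063 = N21223 := rfl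
theorem L167190 : sm gc N21223 = N21164 := ded_13_2 (flp_b L166792) L115565 (flp_b L95584) (flp_c L115886) L167188
theorem L167192 : sm gg N16063 = N21224 := rfl
theorem L167194 : sm ga N21224 = N21214 := ded_12_1 L167178 L167174 L167192
theorem L167196 : sm gc N21224 = N16064 := ded_21_1 (flp_g L115888) (flp_c L115886) L167192
theorem L167198 : sm gf N21212 = N21224 := ded_29_0 (flp_g L167192) (flp_f L115884) (flp_g L115860) (flp_a L167142)
theorem L167200 : sm gb N16064 = N21225 := rfl
theorem L167202 : sm gd N21225 = N16115 := ded_14_2 (flp_b L116205) (flp_d L115892) L167200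
theorem L167204 : sm gg N21225 = N20281 := ded_17_2 (flp_b L159938) (flp_g L115567) (flp_b L95584) L115888 L167200
theorem L167206 : sm ga N20283 = N21225 := ded_9_3 L167202 (flp_a L116211) (flp_d L159946)
theorem L167208 : sm gf N16066 = N21226 := rfl
theorem L167210 : sm gc N21226 = N16067 := ded_20_1 (flp_f L115902) L115900 L167208
theorem L167212 : sm gd N21226 = N19776 := ded_23_1 (flp_f L156635) (flp_d L149206) L167208
theorem L167214 : sm gg N16066 = N21227 := rfl
theorem L167216 : sm gc N21227 = N16068 := ded_21_1 (flp_g L115906) L115900 L167214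
theorem L167218 : sm gd N21227 = N19683 := ded_24_1 L155938 (flp_d L149206) L167214
theorem L167220 : sm gg N16067 = N21228 := rfl
theorem L167222 : sm gd N21228 = N16123 := ded_24_1 (flp_g L116255) (flp_d L115904) L167220
theorem L167224 : sm gf N19663 = N21228 := ded_29_0 (flp_g L167220) (flp_f L115902) L115906 (flp_a L155808)
theorem L167226 : sm gf N16068 = N21229 := rfl
theorem L167228 : sm ga N21229 = N21228 := ded_11_1 (flp_f L167224) L155808 L167226
theorem L167230 : sm gd N21229 = N16124 := ded_23_1 (flp_f L116261) (flp_d L115908) L167226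
theorem L167232 : sm gg N21229 = N19716 := ded_29_3 L156212 (flp_f L115902) L115906 L167226
theorem L167234 : sm gf N16071 = N21230 := rfl
theorem L167236 : sm gc N21230 = N16073 := ded_20_1 (flp_f L115928) L115920 L167234
theorem L167238 : sm gd N21230 = N16394 := ded_23_1 (flp_f L117797) (flp_d L116293) L167234
theorem L167240 : sm gg N21230 = N16390 := ded_29_3 L117775 (flp_f L116712) (flp_g L115922) L167234
theorem L167242 : sm gf N16072 = N21231 := rfl
theorem L167244 : sm ga N21231 = N16204 := ded_11_1 (flp_f L116675) (flp_a L149737) L167242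
theorem L167246 : sm gd N21231 = N16074 := ded_23_1 L167040 L159349 L167242
theorem L167248 : sm ge N21231 = N16073 := ded_25_1 (flp_f L115928) L115924 L167242
theorem L167250 : sm gb N21231 = N16073 := ded_16_1 (flp_f L115928) (flp_b L115791) (flp_f L167028) L167020 L167242
theorem L167252 : sm ga N16074 = N21232 := rfl
theorem L167254 : sm gd N21232 = N16204 := ded_9_2 (flp_a L167244) L167246 L167252
theorem L167256 : sm ge N21232 = N20297 := ded_10_2 L160044 L167046 L167252
theorem L167258 : sm gf N21232 = N16203 := ded_11_2 (flp_a L159345) (flp_f L167040) L167252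
theorem L167260 : sm gg N20295 = N21232 := ded_29_3 (flp_a L167252) L167040 L159347 L160029
theorem L167262 : sm gc N16074 = N21233 := rfl
theorem L167264 : sm gb N21233 = N16076 := ded_13_1 (flp_c L115940) (flp_b L95604) (flp_c L95602) L115932 L167262
theorem L167266 : sm gg N16074 = N21234 := rfl
theorem L167268 : sm ga N21234 = N20295 := ded_12_1 L167260 (flp_a L167252) L167266
theorem L167270 : sm ge N21234 = N20287 := ded_26_1 (flp_g L159992) L167046 L167266
theorem L167272 : sm gf N20181 = N21234 := ded_29_0 (flp_g L167266) L167040 L159347 L159325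
theorem L167274 : sm gb N16075 = N21235 := rfl
theorem L167276 : sm gd N21235 = N16140 := ded_14_2 (flp_b L116351) (flp_d L115936) L167274
theorem L167278 : sm gc N16075 = N21236 := rfl
theorem L167280 : sm ga N21236 = N16076 := ded_8_1 (flp_c L115940) L115934 L167278
theorem L167282 : sm gf N21236 = N16079 := ded_20_2 (flp_c L115952) (flp_f L115938) L167278
theorem L167284 : sm gd N16076 = N21237 := rfl
theorem L167286 : sm gf N21237 = N16081 := ded_23_2 (flp_d L115964) (flp_f L115942) L167284
theorem L167288 : sm gg N16076 = N21238 := rfl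
theorem L167290 : sm gc N21238 = N16077 := ded_21_1 (flp_g L115944) L115940 L167288
theorem L167292 : sm gc N16078 = N21239 := rfl
theorem L167294 : sm gd N19757 = N21239 := ded_28_1 (flp_c L167292) L115950 (flp_c L151307) L107963 L108109 L156486 L156488 L156500
theorem L167296 : sm gf N16078 = N21240 := rfl
theorem L167298 : sm ga N21240 = N20265 := ded_11_1 (flp_f L159843) L156168 L167296
theorem L167300 : sm gd N21240 = N16146 := ded_23_1 (flp_f L116385) (flp_d L115950) L167296
theorem L167302 : sm gg N21240 = N20269 := ded_29_3 (flp_a L159869) L159879 L159885 L167296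
theorem L167304 : sm gb N16079 = N21241 := rfl
theorem L167306 : sm gd N16079 = N21242 := rfl
theorem L167308 : sm ga N21242 = N16081 := ded_9_1 (flp_d L115964) (flp_a L115954) L167306
theorem L167310 : sm gg N16079 = N21243 := rfl
theorem L167312 : sm ga N21243 = N16082 := ded_12_1 (flp_g L115966) (flp_a L115954) L167310
theorem L167314 : sm gc N21243 = N16080 := ded_21_1 (flp_g L115956) L115952 L167310
theorem L167316 : sm gf N21243 = N21238 := ded_29_2 (flp_g L167288) (flp_a L167280) L167282 L167310
theorem L167318 : sm gc N16081 = N21244 := rfl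
theorem L167320 : sm ge N16081 = N21245 := rfl
theorem L167322 : sm gg N16081 = N21246 := rfl
theorem L167324 : sm gd N21246 = N16082 := ded_24_1 (flp_g L115966) L115964 L167322
theorem L167326 : sm gb N16082 = N21247 := rfl
theorem L167328 : sm gc N21247 = N21154 := ded_13_2 (flp_b L166730) L115535 (flp_b L95620) (flp_c L115968) L167326
theorem L167330 : sm gf N16082 = N21248 := rfl
theorem L167332 : sm ga N21248 = N21238 := ded_11_1 (flp_f L167316) L167312 L167330
theorem L167334 : sm gc N21248 = N16083 := ded_20_1 (flp_f L115970) (flp_c L115968) L167330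
theorem L167336 : sm gg N21248 = N21236 := ded_29_3 L167280 L115942 L115966 L167330
theorem L167338 : sm gb N16083 = N21249 := rfl
theorem L167340 : sm gd N21249 = N16155 := ded_14_2 (flp_b L116439) (flp_d L115974) L167338
theorem L167342 : sm gf N21249 = N20300 := ded_16_2 (flp_b L160068) (flp_f L115537) (flp_b L95620) L115970 L167338
theorem L167344 : sm ga N20302 = N21249 := ded_9_3 L167340 (flp_a L116445) (flp_d L160076)
theorem L167346 : sm gf N16086 = N21250 := rfl
theorem L167348 : sm ga N21250 = N16088 := ded_11_1 (flp_f L116004) L115996 L167346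
theorem L167350 : sm gc N21250 = N19353 := ded_20_1 (flp_f L156068) L156062 L167346
theorem L167352 : sm gd N21250 = N18906 := ded_23_1 (flp_f L145259) (flp_d L116080) L167346
theorem L167354 : sm ge N21250 = N16658 := ded_25_1 (flp_f L121078) (flp_e L115998) L167346
theorem L167356 : sm gb N21250 = N21250 := ded_16_1 (flp_f L167346) (flp_b L116082) L104332 L116082 L167346
theorem L167357 : sm gg N16086 = N21251 := rfl
theorem L167359 : sm ga N21251 = N16089 := ded_12_1 (flp_g L116010) L115996 L167357
theorem L167361 : sm gd N21251 = N18907 := ded_24_1 (flp_g L145266) (flp_d L116080) L167357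
theorem L167363 : sm ge N21251 = N16659 := ded_26_1 (flp_g L121087) (flp_e L115998) L167357
theorem L167365 : sm gf N16087 = N21252 := rfl
theorem L167367 : sm ga N21252 = N18906 := ded_11_1 (flp_f L145259) L116076 L167365
theorem L167369 : sm gc N21252 = N18909 := ded_20_1 (flp_f L145278) L116078 L167365
theorem L167371 : sm gd N21252 = N16088 := ded_23_1 (flp_f L116004) L116000 L167365
theorem L167373 : sm ge N21252 = N19234 := ded_25_1 (flp_f L152652) (flp_e L116074) L167365
theorem L167375 : sm gb N21252 = N16264 := ded_16_1 (flp_f L117011) L96089 (flp_f L95640) (flp_b L116002) L167365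
theorem L167377 : sm gg N16087 = N21253 := rfl
theorem L167379 : sm ga N21253 = N18907 := ded_12_1 (flp_g L145266) L116076 L167377
theorem L167381 : sm gc N21253 = N18910 := ded_21_1 (flp_g L145286) L116078 L167377
theorem L167383 : sm gd N21253 = N16089 := ded_24_1 (flp_g L116010) L116000 L167377
theorem L167385 : sm ge N21253 = N19235 := ded_26_1 (flp_g L152658) (flp_e L116074) L167377
theorem L167387 : sm gg N16088 = N21254 := rfl
theorem L167389 : sm gc N21254 = N19358 := ded_21_1 (flp_g L153592) (flp_c L120297) L167387
theorem L167391 : sm ge N21254 = N16664 := ded_26_1 (flp_g L121123) (flp_e L116006) L167387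
theorem L167393 : sm gf N21251 = N21254 := ded_29_0 (flp_g L167387) (flp_f L116004) L116010 (flp_a L167359)
theorem L167395 : sm gf N16089 = N21255 := rfl
theorem L167397 : sm ga N21255 = N21254 := ded_11_1 (flp_f L167393) L167359 L167395
theorem L167399 : sm ge N21255 = N16665 := ded_25_1 (flp_f L121129) (flp_e L116012) L167395
theorem L167401 : sm gg N21255 = N21250 := ded_29_3 L167348 (flp_f L116004) L116010 L167395
theorem L167403 : sm gg N16093 = N21256 := rfl
theorem L167405 : sm ga N21256 = N21206 := ded_12_1 (flp_g L167096) (flp_a L116035) L167403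
theorem L167407 : sm gc N21256 = N16172 := ded_21_1 L116535 L116039 L167403
theorem L167409 : sm gd N21256 = N16094 := ded_24_1 (flp_g L116084) L116033 L167403
theorem L167411 : sm ge N21256 = N18784 := ded_26_1 (flp_g L144577) (flp_e L116041) L167403
theorem L167413 : sm gf N16169 = N21256 := ded_29_0 (flp_g L167403) L116037 L117163 L117165
theorem L167415 : sm gb N16094 = N21257 := rfl
theorem L167417 : sm ge N21257 = N18265 := ded_15_2 (flp_b L129213) (flp_e L116088) L167415
theorem L167419 : sm gg N21257 = N18216 := ded_17_2 (flp_b L128959) (flp_g L102124) L116052 L116084 L167415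
theorem L167421 : sm gb N16095 = N21258 := rfl
theorem L167423 : sm gd N21258 = N16669 := ded_14_2 (flp_b L121161) (flp_d L116094) L167421
theorem L167425 : sm ge N21258 = N16096 := ded_15_2 (flp_b L116098) (flp_e L116096) L167421
theorem L167427 : sm gg N21258 = N21258 := ded_17_2 (flp_b L167421) (flp_g L116090) L95648 L116090 L167421
theorem L167428 : sm gc N16096 = N21259 := rfl
theorem L167430 : sm gg N21259 = N21259 := ded_21_2 (flp_c L167428) L116102 L167428
theorem L167431 : sm gf N16096 = N21260 := rfl
theorem L167433 : sm gd N21260 = N16099 := ded_23_1 (flp_f L116115) (flp_d L116100) L167431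
theorem L167435 : sm gd N16098 = N21261 := rfl
theorem L167437 : sm gb N21261 = N16102 := ded_14_1 (flp_d L116131) (flp_b L116113) L167435
theorem L167439 : sm gg N21261 = N21261 := ded_24_2 (flp_d L167435) L116112 L167435
theorem L167440 : sm gf N16098 = N21262 := rfl
theorem L167442 : sm gc N21262 = N16099 := ded_20_1 (flp_f L116115) L116108 L167440
theorem L167444 : sm ge N21262 = N16673 := ded_25_1 (flp_f L121178) (flp_e L116110) L167440
theorem L167446 : sm gc N16100 = N21263 := rfl
theorem L167448 : sm ge N21263 = N16674 := ded_19_2 (flp_c L121182) (flp_e L116121) L167446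
theorem L167450 : sm gg N16100 = N21264 := rfl
theorem L167452 : sm ga N21264 = N16407 := ded_12_1 (flp_g L158861) L158863 L167450
theorem L167454 : sm ge N21264 = N16675 := ded_26_1 (flp_g L121184) (flp_e L116121) L167450
theorem L167456 : sm gf N16405 = N21264 := ded_29_0 (flp_g L167450) L117879 (flp_g L117873) L117857
theorem L167458 : sm gb N21264 = N16106 := ded_17_1 (flp_g L116151) (flp_b L95678) (flp_g L95666) L116119 L167450
theorem L167460 : sm gb N16101 = N21265 := rfl
theorem L167462 : sm ge N21265 = N16676 := ded_15_2 (flp_b L121194) (flp_e L116127) L167460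
theorem L167464 : sm gd N16101 = N21266 := rfl
theorem L167466 : sm ga N21266 = N16102 := ded_9_1 (flp_d L116131) (flp_a L116125) L167464
theorem L167468 : sm gg N21266 = N16108 := ded_24_2 (flp_d L116163) (flp_g L116129) L167464
theorem L167470 : sm gc N16102 = N21267 := rfl
theorem L167472 : sm gg N21267 = N16110 := ded_21_2 (flp_c L116177) (flp_g L116133) L167470
theorem L167474 : sm ge N16102 = N21268 := rfl
theorem L167476 : sm gg N21268 = N16111 := ded_26_2 (flp_e L116179) (flp_g L116133) L167474
theorem L167478 : sm gd N21268 = N16679 := ded_22_1 (flp_e L121206) (flp_d L97311) (flp_e L95670) L116131 L167474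
theorem L167480 : sm gf N16102 = N21269 := rfl
theorem L167482 : sm gd N21269 = N16103 := ded_23_1 (flp_f L116135) L116131 L167480
theorem L167484 : sm gb N16103 = N21270 := rfl
theorem L167486 : sm ge N21270 = N16681 := ded_15_2 (flp_b L121214) (flp_e L116139) L167484
theorem L167488 : sm ga N16107 = N21271 := rfl
theorem L167490 : sm ge N21271 = N16685 := ded_10_2 (flp_a L121230) (flp_e L116161) L167488
theorem L167492 : sm gd N16107 = N21272 := rfl
theorem L167494 : sm gb N21272 = N16108 := ded_14_1 (flp_d L116163) L116159 L167492
theorem L167496 : sm gf N16107 = N21273 := rfl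
theorem L167498 : sm ge N21273 = N16687 := ded_25_1 (flp_f L121236) (flp_e L116161) L167496
theorem L167500 : sm gg N16107 = N21274 := rfl
theorem L167502 : sm gc N21274 = N19746 := ded_21_1 L156438 L156260 L167500
theorem L167504 : sm ge N21274 = N16688 := ded_26_1 (flp_g L121238) (flp_e L116161) L167500
theorem L167506 : sm gf N19748 = N21274 := ded_20_0 L167502 L156436 L156444
theorem L167508 : sm gc N16108 = N21275 := rfl
theorem L167510 : sm ga N21275 = N16110 := ded_8_1 (flp_c L116177) (flp_a L116165) L167508
theorem L167512 : sm gd N21220 = N21275 := ded_28_1 (flp_c L167508) (flp_d L116163) (flp_c L95682) (flp_d L95576) L115870 L167168 L167170 L167180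
theorem L167514 : sm ge N16108 = N21276 := rfl
theorem L167516 : sm ga N21276 = N16111 := ded_10_1 (flp_e L116179) (flp_a L116165) L167514
theorem L167518 : sm gd N21276 = N16690 := ded_22_1 (flp_e L121250) (flp_d L97333) (flp_e L95686) L116163 L167514
theorem L167520 : sm gf N16108 = N21277 := rfl
theorem L167522 : sm ga N21277 = N16112 := ded_11_1 (flp_f L116184) (flp_a L116165) L167520
theorem L167524 : sm gd N21277 = N16109 := ded_23_1 (flp_f L116167) L116163 L167520
theorem L167526 : sm gg N21269 = N21277 := ded_29_1 (flp_f L167520) (flp_g L167468) L167466 L167480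
theorem L167528 : sm gb N16109 = N21278 := rfl
theorem L167530 : sm ge N21278 = N16692 := ded_15_2 (flp_b L121262) (flp_e L116173) L167528
theorem L167532 : sm gb N16110 = N21279 := rfl
theorem L167535 : sm gd N16110 = N21280 := rfl
theorem L167537 : sm ga N21280 = N21220 := ded_9_1 L167512 L167510 L167535
theorem L167539 : sm gc N21218 = N21280 := ded_28_0 (flp_d L167535) (flp_c L116177) (flp_d L95696) (flp_c L84506) (flp_d L84453) L95578 L115882 (flp_a L167170)
theorem L167541 : sm ge N16110 = N21281 := rfl
theorem L167543 : sm gc N21281 = N16111 := ded_19_1 (flp_e L116179) L116177 L167541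
theorem L167545 : sm gf N16110 = N21282 := rfl
theorem L167547 : sm gc N21282 = N16112 := ded_20_1 (flp_f L116184) L116177 L167545
theorem L167549 : sm gf N16111 = N21283 := rfl
theorem L167551 : sm gd N21283 = N16697 := ded_23_1 (flp_f L121281) (flp_d L116182) L167549
theorem L167553 : sm ge N21283 = N16112 := ded_25_1 (flp_f L116184) L116179 L167549
theorem L167555 : sm gb N16112 = N21284 := rfl
theorem L167557 : sm gd N21284 = N16113 := ded_14_2 (flp_b L116188) (flp_d L116186) L167555
theorem L167559 : sm gf N21284 = N21284 := ded_16_2 (flp_b L167555) (flp_f L116184) L95698 L116184 L167555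
theorem L167560 : sm gg N16112 = N21285 := rfl
theorem L167562 : sm ga N21285 = N21269 := ded_12_1 L167526 L167522 L167560
theorem L167564 : sm gd N21285 = N16114 := ded_24_1 (flp_g L116195) (flp_d L116186) L167560
theorem L167566 : sm gf N21266 = N21285 := ded_29_0 (flp_g L167560) (flp_f L116184) (flp_g L116133) (flp_a L167466)
theorem L167568 : sm gg N16113 = N21286 := rfl
theorem L167570 : sm gc N21286 = N21188 := ded_21_1 (flp_g L166954) (flp_c L116192) L167568
theorem L167572 : sm ge N21286 = N16701 := ded_26_1 (flp_g L121303) (flp_e L116190) L167568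
theorem L167574 : sm gb N16114 = N21287 := rfl
theorem L167576 : sm ge N21287 = N16702 := ded_15_2 (flp_b L121307) (flp_e L116201) L167574
theorem L167578 : sm gc N16115 = N21288 := rfl
theorem L167580 : sm ga N21288 = N20335 := ded_8_1 L160300 L116211 L167578
theorem L167582 : sm ge N21288 = N16703 := ded_19_2 (flp_c L121309) (flp_e L116207) L167578
theorem L167584 : sm gg N21288 = N20333 := ded_21_2 (flp_c L160290) (flp_g L116209) L167578
theorem L167586 : sm gf N16125 = N21289 := rfl
theorem L167588 : sm ga N21289 = N16127 := ded_11_1 (flp_f L116277) L116269 L167586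
theorem L167590 : sm gd N21289 = N18945 := ded_23_1 (flp_f L145491) (flp_d L150817) L167586
theorem L167592 : sm ge N21289 = N16722 := ded_25_1 (flp_f L121388) (flp_e L116271) L167586
theorem L167594 : sm gg N16125 = N21290 := rfl
theorem L167596 : sm ga N21290 = N16128 := ded_12_1 (flp_g L116281) L116269 L167594
theorem L167598 : sm gc N21290 = N19393 := ded_21_1 (flp_g L156178) L156172 L167594
theorem L167600 : sm gd N21290 = N18946 := ded_24_1 (flp_g L145499) (flp_d L150817) L167594
theorem L167602 : sm ge N21290 = N16723 := ded_26_1 (flp_g L121392) (flp_e L116271) L167594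
theorem L167604 : sm gb N21290 = N21290 := ded_17_1 (flp_g L167594) L150815 L104439 (flp_b L150815) L167594
theorem L167605 : sm gf N16126 = N21291 := rfl
theorem L167607 : sm ga N21291 = N18945 := ded_11_1 (flp_f L145491) (flp_a L149725) L167605
theorem L167609 : sm gc N21291 = N18949 := ded_20_1 (flp_f L145520) (flp_c L149727) L167605
theorem L167611 : sm gd N21291 = N16127 := ded_23_1 (flp_f L116277) L116273 L167605
theorem L167613 : sm ge N21291 = N19291 := ded_25_1 (flp_f L153067) (flp_e L149729) L167605
theorem L167615 : sm gg N16126 = N21292 := rfl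
theorem L167617 : sm ga N21292 = N18946 := ded_12_1 (flp_g L145499) (flp_a L149725) L167615
theorem L167619 : sm gc N21292 = N18950 := ded_21_1 (flp_g L145526) (flp_c L149727) L167615
theorem L167621 : sm gd N21292 = N16128 := ded_24_1 (flp_g L116281) L116273 L167615
theorem L167623 : sm ge N21292 = N19292 := ded_26_1 (flp_g L153073) (flp_e L149729) L167615
theorem L167625 : sm gb N21292 = N16368 := ded_17_1 (flp_g L117649) L96374 (flp_g L95739) (flp_b L116275) L167615
theorem L167627 : sm gg N16127 = N21293 := rfl
theorem L167629 : sm ge N21293 = N16728 := ded_26_1 (flp_g L121412) (flp_e L116279) L167627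
theorem L167631 : sm gf N21290 = N21293 := ded_29_0 (flp_g L167627) (flp_f L116277) L116281 (flp_a L167596)
theorem L167633 : sm gf N16128 = N21294 := rfl
theorem L167635 : sm ga N21294 = N21293 := ded_11_1 (flp_f L167631) L167596 L167633
theorem L167637 : sm gc N21294 = N19397 := ded_20_1 (flp_f L153894) (flp_c L150500) L167633
theorem L167639 : sm ge N21294 = N16729 := ded_25_1 (flp_f L121416) (flp_e L116283) L167633
theorem L167641 : sm gg N21294 = N21289 := ded_29_3 L167588 (flp_f L116277) L116281 L167633
theorem L167643 : sm gf N16132 = N21295 := rfl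
theorem L167645 : sm ga N21295 = N21230 := ded_11_1 (flp_f L167234) (flp_a L116308) L167643
theorem L167647 : sm gc N21295 = N16217 := ded_20_1 (flp_f L148994) L148990 L167643
theorem L167649 : sm gd N21295 = N16134 := ded_23_1 (flp_f L116320) L116306 L167643
theorem L167651 : sm ge N21295 = N18798 := ded_25_1 (flp_f L144645) (flp_e L148986) L167643
theorem L167653 : sm gg N21295 = N16214 := ded_29_3 (flp_a L117775) (flp_f L117773) (flp_g L116310) L167643
theorem L167655 : sm gb N16134 = N21296 := rfl
theorem L167657 : sm ge N21296 = N18279 := ded_15_2 (flp_b L129288) (flp_e L148979) L167655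
theorem L167659 : sm gf N21296 = N18222 := ded_16_2 (flp_b L128986) (flp_f L102146) L148998 L116320 L167655
theorem L167661 : sm gb N16135 = N21297 := rfl
theorem L167663 : sm gd N21297 = N16740 := ded_14_2 (flp_b L121472) (flp_d L116326) L167661
theorem L167665 : sm ge N21297 = N16136 := ded_15_2 (flp_b L116330) (flp_e L116328) L167661
theorem L167667 : sm gf N21297 = N21297 := ded_16_2 (flp_b L167661) (flp_f L116324) L95747 L116324 L167661
theorem L167668 : sm gc N16136 = N21298 := rfl
theorem L167670 : sm gf N21298 = N21298 := ded_20_2 (flp_c L167668) L116334 L167668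
theorem L167671 : sm gg N16136 = N21299 := rfl
theorem L167673 : sm gd N21299 = N16139 := ded_24_1 (flp_g L116347) (flp_d L116332) L167671
theorem L167675 : sm gd N16138 = N21300 := rfl
theorem L167677 : sm ga N21300 = N21284 := ded_9_1 L167557 (flp_a L151100) L167675
theorem L167679 : sm gb N21300 = N16142 := ded_14_1 (flp_d L116363) (flp_b L116345) L167675
theorem L167681 : sm gf N21300 = N21300 := ded_23_2 (flp_d L167675) L116344 L167675
theorem L167682 : sm gg N16138 = N21301 := rfl
theorem L167684 : sm ga N21301 = N21286 := ded_12_1 (flp_g L167568) (flp_a L151100) L167682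
theorem L167686 : sm gc N21301 = N16139 := ded_21_1 (flp_g L116347) L116340 L167682
theorem L167688 : sm ge N21301 = N16748 := ded_26_1 (flp_g L121507) (flp_e L116342) L167682
theorem L167690 : sm gf N21286 = N21301 := ded_29_0 (flp_g L167682) L116344 L167682 L167684
theorem L167692 : sm gc N16140 = N21302 := rfl
theorem L167694 : sm ge N21302 = N16749 := ded_19_2 (flp_c L121511) (flp_e L116353) L167692
theorem L167696 : sm gf N16140 = N21303 := rfl
theorem L167698 : sm ga N21303 = N16305 := ded_11_1 (flp_f L158845) L158849 L167696
theorem L167700 : sm ge N21303 = N16750 := ded_25_1 (flp_f L121513) (flp_e L116353) L167696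
theorem L167702 : sm gg N21303 = N16302 := ded_29_3 (flp_a L117247) L117257 (flp_g L117263) L167696
theorem L167704 : sm gb N21303 = N16146 := ded_16_1 (flp_f L116385) (flp_b L95777) (flp_f L95765) L116351 L167696
theorem L167706 : sm gb N16141 = N21304 := rfl
theorem L167708 : sm ge N21304 = N16751 := ded_15_2 (flp_b L121523) (flp_e L116359) L167706
theorem L167710 : sm gd N16141 = N21305 := rfl
theorem L167712 : sm ga N21305 = N16142 := ded_9_1 (flp_d L116363) (flp_a L116357) L167710
theorem L167714 : sm gf N21305 = N16148 := ded_23_2 (flp_d L116397) (flp_f L116361) L167710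
theorem L167716 : sm gc N16142 = N21306 := rfl
theorem L167718 : sm gf N21306 = N16150 := ded_20_2 (flp_c L116411) (flp_f L116365) L167716
theorem L167720 : sm ge N16142 = N21307 := rfl
theorem L167722 : sm gf N21307 = N16151 := ded_25_2 (flp_e L116413) (flp_f L116365) L167720
theorem L167724 : sm gd N21307 = N16754 := ded_22_1 (flp_e L121535) (flp_d L97482) (flp_e L95769) L116363 L167720
theorem L167726 : sm gg N16142 = N21308 := rfl
theorem L167728 : sm gd N21308 = N16143 := ded_24_1 (flp_g L116367) L116363 L167726
theorem L167730 : sm gb N16143 = N21309 := rfl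
theorem L167732 : sm ge N21309 = N16756 := ded_15_2 (flp_b L121543) (flp_e L116371) L167730
theorem L167734 : sm ga N16147 = N21310 := rfl
theorem L167736 : sm ge N21310 = N16761 := ded_10_2 (flp_a L121565) (flp_e L116395) L167734
theorem L167738 : sm gd N16147 = N21311 := rfl
theorem L167740 : sm gb N21311 = N16148 := ded_14_1 (flp_d L116397) L116393 L167738
theorem L167742 : sm gf N16147 = N21312 := rfl
theorem L167744 : sm gc N21312 = N19784 := ded_20_1 L156685 L156150 L167742
theorem L167746 : sm ge N21312 = N16763 := ded_25_1 (flp_f L121571) (flp_e L116395) L167742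
theorem L167748 : sm gg N19786 = N21312 := ded_21_0 L167744 L156687 L156693
theorem L167750 : sm gg N16147 = N21313 := rfl
theorem L167752 : sm ge N21313 = N16764 := ded_26_1 (flp_g L121573) (flp_e L116395) L167750
theorem L167754 : sm gc N16148 = N21314 := rfl
theorem L167756 : sm ga N21314 = N16150 := ded_8_1 (flp_c L116411) (flp_a L116399) L167754
theorem L167758 : sm gd N21244 = N21314 := ded_28_1 (flp_c L167754) (flp_d L116397) (flp_c L95781) (flp_d L95612) L115952 L167306 L167308 L167318
theorem L167760 : sm ge N16148 = N21315 := rfl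
theorem L167762 : sm ga N21315 = N16151 := ded_10_1 (flp_e L116413) (flp_a L116399) L167760
theorem L167764 : sm gd N21315 = N16766 := ded_22_1 (flp_e L121581) (flp_d L97506) (flp_e L95785) L116397 L167760
theorem L167766 : sm gg N16148 = N21316 := rfl
theorem L167768 : sm ga N21316 = N16152 := ded_12_1 (flp_g L116418) (flp_a L116399) L167766
theorem L167770 : sm gd N21316 = N16149 := ded_24_1 (flp_g L116401) L116397 L167766
theorem L167772 : sm gf N21316 = N21308 := ded_29_2 (flp_g L167726) (flp_a L167712) L167714 L167766
theorem L167774 : sm gb N16149 = N21317 := rfl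
theorem L167776 : sm ge N21317 = N16768 := ded_15_2 (flp_b L121593) (flp_e L116407) L167774
theorem L167778 : sm gb N16150 = N21318 := rfl
theorem L167781 : sm gd N16150 = N21319 := rfl
theorem L167783 : sm ga N21319 = N21244 := ded_9_1 L167758 L167756 L167781
theorem L167785 : sm gc N21242 = N21319 := ded_28_0 (flp_d L167781) (flp_c L116411) (flp_d L95795) (flp_c L84550) (flp_d L84471) L95614 L115964 (flp_a L167308)
theorem L167787 : sm ge N16150 = N21320 := rfl
theorem L167789 : sm gc N21320 = N16151 := ded_19_1 (flp_e L116413) L116411 L167787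
theorem L167791 : sm gg N16150 = N21321 := rfl
theorem L167793 : sm gc N21321 = N16152 := ded_21_1 (flp_g L116418) L116411 L167791
theorem L167795 : sm gg N16151 = N21322 := rfl
theorem L167797 : sm gd N21322 = N16773 := ded_24_1 (flp_g L121612) (flp_d L116416) L167795
theorem L167799 : sm ge N21322 = N16152 := ded_26_1 (flp_g L116418) L116413 L167795
theorem L167801 : sm gb N16152 = N21323 := rfl
theorem L167803 : sm gd N21323 = N16153 := ded_14_2 (flp_b L116422) (flp_d L116420) L167801
theorem L167805 : sm gg N21323 = N21323 := ded_17_2 (flp_b L167801) (flp_g L116418) L95797 L116418 L167801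
theorem L167806 : sm ga N21261 = N21323 := ded_9_3 L167803 (flp_a L120937) L167435
theorem L167808 : sm gf N16152 = N21324 := rfl
theorem L167810 : sm ga N21324 = N21308 := ded_11_1 (flp_f L167772) L167768 L167808
theorem L167812 : sm gd N21324 = N16154 := ded_23_1 (flp_f L116429) (flp_d L116420) L167808
theorem L167814 : sm gg N21324 = N21305 := ded_29_3 L167712 L116365 L116418 L167808
theorem L167816 : sm gf N16153 = N21325 := rfl
theorem L167818 : sm ga N21325 = N21262 := ded_11_1 (flp_f L167440) L120937 L167816
theorem L167820 : sm gc N21325 = N21176 := ded_20_1 (flp_f L166871) (flp_c L116426) L167816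
theorem L167822 : sm ge N21325 = N16776 := ded_25_1 (flp_f L121631) (flp_e L116424) L167816
theorem L167824 : sm gg N21325 = N21262 := ded_29_3 (flp_a L167818) (flp_f L167816) L116428 L167816
theorem L167826 : sm gb N16154 = N21326 := rfl
theorem L167828 : sm ge N21326 = N16777 := ded_15_2 (flp_b L121639) (flp_e L116435) L167826
theorem L167830 : sm gc N16155 = N21327 := rfl
theorem L167832 : sm ga N21327 = N20369 := ded_8_1 L160530 L116445 L167830
theorem L167834 : sm ge N21327 = N16778 := ded_19_2 (flp_c L121641) (flp_e L116441) L167830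
theorem L167836 : sm gf N21327 = N20367 := ded_20_2 (flp_c L160520) (flp_f L116443) L167830
theorem L167838 : sm gb N16156 = N21328 := rfl
theorem L167840 : sm gd N21328 = N16256 := ded_14_2 (flp_b L116957) (flp_d L116451) L167838
theorem L167842 : sm ge N21328 = N19716 := ded_15_2 L159833 L159829 L167838
theorem L167844 : sm gf N21328 = N19715 := ded_16_2 (flp_b L166756) (flp_f L166758) (flp_b L144587) L116453 L167838
theorem L167846 : sm ga N20179 = N21328 := ded_9_3 L167840 (flp_a L116963) (flp_d L159307)
theorem L167848 : sm ga N16157 = N21329 := rfl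
theorem L167850 : sm gd N21329 = N16257 := ded_9_2 (flp_a L116965) (flp_d L116457) L167848
theorem L167852 : sm ge N21329 = N21240 := ded_10_2 L167298 L159839 L167848
theorem L167854 : sm gg N21329 = N16164 := ded_12_2 (flp_a L116493) (flp_g L116459) L167848
theorem L167856 : sm gf N21329 = N20190 := ded_29_0 (flp_g L159385) (flp_f L116499) (flp_g L116459) L167848
theorem L167858 : sm gc N16157 = N21330 := rfl
theorem L167860 : sm gg N21330 = N16165 := ded_21_2 (flp_c L116497) (flp_g L116459) L167858
theorem L167862 : sm gf N16157 = N21331 := rfl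
theorem L167864 : sm ga N21331 = N20190 := ded_11_1 (flp_f L167856) (flp_a L167848) L167862
theorem L167866 : sm gd N21331 = N16259 := ded_23_1 (flp_f L116979) (flp_d L116457) L167862
theorem L167868 : sm ge N21331 = N19710 := ded_25_1 L159843 L159839 L167862
theorem L167870 : sm gb N16158 = N21332 := rfl
theorem L167872 : sm gd N21332 = N16260 := ded_14_2 (flp_b L116985) (flp_d L116467) L167870
theorem L167874 : sm ga N21332 = N16211 := ded_7_1 L116703 (flp_a L115972) L167338 (flp_a L167344) L160080 L167846 (flp_b L167838) (flp_a L116463) L167870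
theorem L167876 : sm gg N16209 = N21332 := ded_24_0 L167872 (flp_g L116991) (flp_d L116695)
theorem L167878 : sm gc N16159 = N21333 := rfl
theorem L167880 : sm ge N21333 = N20210 := ded_19_2 (flp_c L159517) L159201 L167878
theorem L167882 : sm gf N21333 = N20316 := ded_20_2 L160200 L159187 L167878
theorem L167884 : sm gg N16160 = N21334 := rfl
theorem L167886 : sm ga N21334 = N16170 := ded_12_1 (flp_g L116516) (flp_a L116477) L167884
theorem L167888 : sm gd N21334 = N21210 := ded_24_1 L167134 (flp_d L159191) L167884
theorem L167890 : sm ge N21334 = N16162 := ded_26_1 (flp_g L116483) (flp_e L116479) L167884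
theorem L167892 : sm gf N21207 = N21334 := ded_29_0 (flp_g L167884) (flp_f L116475) L116481 (flp_a L167106)
theorem L167894 : sm gb N16161 = N21335 := rfl
theorem L167896 : sm gg N21335 = N16163 := ded_17_2 (flp_b L116491) (flp_g L95832) L95826 L116481 L167894
theorem L167898 : sm gb N16162 = N21336 := rfl
theorem L167900 : sm gd N21336 = N16163 := ded_14_2 (flp_b L116491) (flp_d L116487) L167898
theorem L167902 : sm ga N16163 = N21337 := rfl
theorem L167904 : sm gc N16163 = N21338 := rfl
theorem L167906 : sm gb N21338 = N16165 := ded_13_1 (flp_c L116497) (flp_b L95840) (flp_c L95836) L116491 L167904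
theorem L167908 : sm gf N16163 = N21339 := rfl
theorem L167910 : sm gb N21339 = N21210 := ded_16_1 (flp_f L167128) (flp_b L115850) (flp_f L95838) L116491 L167908
theorem L167912 : sm gg N20280 = N21339 := ded_31_0 (flp_f L167908) (flp_b L116491) (flp_g L95832) (flp_f L95558) (flp_b L115818) L159857 L159863 L159235 (flp_g L110317) L92577 L45257 L92726 L110651 L159928
theorem L167914 : sm gb N16164 = N21340 := rfl
theorem L167916 : sm gd N21340 = N16277 := ded_14_2 (flp_b L117093) (flp_d L116495) L167914
theorem L167918 : sm gf N18736 = N21340 := ded_31_1 (flp_b L167914) (flp_g L167854) L167856 (flp_b L159379) L159393 L159401 (flp_b L160016) (flp_g L160008) (flp_f L159958) (flp_b L159952) L159962 (flp_f L159970) L144313 (flp_g L144323)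
theorem L167920 : sm gg N18737 = N21340 := ded_24_0 L167916 (flp_g L117097) (flp_d L144331)
theorem L167922 : sm gc N21340 = N18737 := ded_20_1 (flp_f L144329) L144317 L167918
theorem L167924 : sm gc N16164 = N21341 := rfl
theorem L167926 : sm ga N21341 = N16165 := ded_8_1 (flp_c L116497) L116493 L167924
theorem L167928 : sm gf N16164 = N21342 := rfl
theorem L167930 : sm ga N21342 = N16166 := ded_11_1 (flp_f L116499) L116493 L167928
theorem L167932 : sm gd N21342 = N16279 := ded_23_1 (flp_f L117105) (flp_d L116495) L167928
theorem L167934 : sm gg N21342 = N21331 := ded_29_3 L167864 (flp_f L167856) L167854 L167928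
theorem L167936 : sm gb N21342 = N16200 := ded_16_1 (flp_f L116657) (flp_b L144325) L167918 (flp_b L167914) L167928
theorem L167938 : sm gd N16165 = N21343 := rfl
theorem L167940 : sm gf N16165 = N21344 := rfl
theorem L167942 : sm gc N21344 = N16166 := ded_20_1 (flp_f L116499) L116497 L167940
theorem L167944 : sm ga N16167 = N21345 := rfl
theorem L167946 : sm gc N21345 = N21345 := ded_8_2 (flp_a L167944) L116507 L167944
theorem L167947 : sm gd N21345 = N18701 := ded_9_2 (flp_a L144153) L117041 L167944
theorem L167949 : sm gb N18699 = N21345 := ded_14_3 L167947 (flp_b L144105) (flp_d L144095)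
theorem L167951 : sm ge N16167 = N21346 := rfl
theorem L167953 : sm gb N21346 = N16168 := ded_15_1 (flp_e L116508) L116505 L167951
theorem L167955 : sm gc N21346 = N21346 := ded_19_1 (flp_e L167951) L116507 L167951
theorem L167956 : sm gf N16167 = N21346 := ded_16_0 L167953 (flp_f L144573) L144575 L115838 L116505
theorem L167958 : sm gg N16167 = N21347 := rfl
theorem L167960 : sm gc N21347 = N21347 := ded_21_1 (flp_g L167958) L116507 L167958
theorem L167961 : sm gg N16168 = N21348 := rfl
theorem L167963 : sm gc N21348 = N16170 := ded_21_1 (flp_g L116516) (flp_c L116510) L167961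
theorem L167965 : sm gd N21348 = N18821 := ded_24_1 L144793 L144743 L167961
theorem L167967 : sm ge N21348 = N16169 := ded_26_1 (flp_g L116512) L116508 L167961
theorem L167969 : sm gf N21348 = N18784 := ded_29_2 (flp_g L144577) L144565 L144573 L167961
theorem L167971 : sm gb N16169 = N21349 := rfl
theorem L167973 : sm gb N16170 = N21350 := rfl
theorem L167975 : sm ge N21350 = N16171 := ded_15_2 (flp_b L116522) (flp_e L116518) L167973
theorem L167977 : sm gg N21350 = N21350 := ded_17_2 (flp_b L167973) (flp_g L116516) L95848 L116516 L167973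
theorem L167978 : sm ga N16171 = N21351 := rfl
theorem L167980 : sm gd N21351 = N16173 := ded_9_2 (flp_a L116537) (flp_d L116524) L167978
theorem L167983 : sm gc N16171 = N21352 := rfl
theorem L167985 : sm gg N21352 = N21352 := ded_21_2 (flp_c L167983) L116526 L167983
theorem L167986 : sm gf N16171 = N21353 := rfl
theorem L167988 : sm gd N21353 = N16175 := ded_23_1 (flp_f L116545) (flp_d L116524) L167986
theorem L167990 : sm gb N16172 = N21354 := rfl
theorem L167992 : sm gd N21354 = N16176 := ded_14_2 (flp_b L116547) (flp_d L116531) L167990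
theorem L167994 : sm ge N21354 = N21335 := ded_15_2 (flp_b L167894) (flp_e L116533) L167990
theorem L167996 : sm gg N21354 = N20268 := ded_17_2 (flp_b L159865) (flp_g L110619) L110611 (flp_g L116535) L167990
theorem L168000 : sm gc N16173 = N21356 := rfl
theorem L168002 : sm ga N21356 = N16174 := ded_8_1 (flp_c L116540) L116537 L168000
theorem L168005 : sm gf N16173 = N21357 := rfl
theorem L168007 : sm ga N21357 = N16175 := ded_11_1 (flp_f L116545) L116537 L168005
theorem L168009 : sm gg N21357 = N16175 := ded_29_3 (flp_a L168007) (flp_f L168005) L116539 L168005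
theorem L168011 : sm gd N16174 = N21358 := rfl
theorem L168013 : sm gb N21358 = N16179 := ded_14_1 (flp_d L116559) (flp_b L116543) L168011
theorem L168015 : sm gg N21358 = N21358 := ded_24_2 (flp_d L168011) L116542 L168011
theorem L168016 : sm gf N16174 = N21359 := rfl
theorem L168018 : sm gc N21359 = N16175 := ded_20_1 (flp_f L116545) L116540 L168016
theorem L168020 : sm gb N16175 = N21360 := rfl
theorem L168022 : sm gf N21360 = N16176 := ded_16_2 (flp_b L116547) (flp_f L95856) L95853 L116545 L168020
theorem L168024 : sm ga N16176 = N21361 := rfl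
theorem L168026 : sm gc N16176 = N21362 := rfl
theorem L168028 : sm gb N21362 = N16183 := ded_13_1 (flp_c L116577) (flp_b L95878) (flp_c L95860) L116547 L168026
theorem L168030 : sm gg N16176 = N21363 := rfl
theorem L168032 : sm gd N21363 = N20268 := ded_24_1 (flp_g L167996) L167992 L168030
theorem L168034 : sm ge N21363 = N21339 := ded_26_1 (flp_g L167912) L159930 L168030
theorem L168036 : sm gb N21363 = N20267 := ded_17_1 (flp_g L159857) L115818 (flp_g L95862) L116547 L168030
theorem L168038 : N21357 = N20279 := coi_31_4 (flp_f L159924) (flp_b L110646) (flp_g L92726) (flp_f L92577) (flp_b L110262) (flp_g L159215) L159094 L159092 L159229 (flp_f L159863) (flp_b L168036) (flp_g L168030) (flp_f L168022) (flp_b L168020) (flp_g L168009)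
theorem L168039 : N21357 = N20279 := eqc rfl L168038 rfl
theorem L168040 : sm ga N20279 = N16175 := trfs L168039 L168007 rfl
theorem L168042 : sm gf N20279 = N16173 := trfs L168039 (flp_f L168005) rfl
theorem L168043 : N16173 = N15019 := eqes L168042 (flp_f L159924)
theorem L168044 : N16173 = N15019 := eqc rfl L168043 rfl
theorem L168045 : sm gg N20279 = N16175 := trfs L168039 L168009 rfl
theorem L168047 : sm ga N15019 = N12158 := trfs L168044 (flp_a L116537) rfl
theorem L168048 : N12158 = N20278 := eqes L168047 L159919
theorem L168049 : N20278 = N12158 := (eqc rfl L168048 rfl).symm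
theorem L168053 : sm gc N15019 = N21356 := trfs L168044 L168000 rfl
theorem L168054 : N21356 = N16241 := eqes L168053 (flp_c L116854)
theorem L168055 : N21356 = N16241 := eqc rfl L168054 rfl
theorem L168056 : sm gd N15019 = N21351 := trfs L168044 (flp_d L167980) rfl
theorem L168057 : N21351 = N20276 := eqes L168056 (flp_d L159908)
theorem L168058 : N21351 = N20276 := eqc rfl L168057 rfl
theorem L168061 : sm ga N20276 = N16171 := trfs L168058 (flp_a L167978) rfl
theorem L168064 : sm ga N16241 = N16174 := trfs L168055 L168002 rfl
theorem L168067 : sm ga N12158 = N15019 := trfs L168049 (flp_a L159919) rfl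
theorem L168070 : sm gf N21363 = N20268 := ded_31_1 (flp_b L159865) (flp_g L110619) (flp_f L110311) L159183 (flp_g L167134) (flp_f L167128) (flp_b L115850) (flp_g L95564) L84445 L24990 L84580 L95856 L116547 L168030
theorem L168072 : sm gf N21361 = N21354 := ded_29_0 L167996 (flp_f L168070) (flp_g L168030) L168024
theorem L168074 : sm ga N21354 = N21360 := ded_29_4 L168022 L168030 L168070 (flp_g L167996)
theorem L168076 : sm gd N21360 = N21361 := ded_23_3 L168072 L167992 (flp_f L168022)
theorem L168078 : sm gb N21353 = N21361 := ded_16_5 L168072 (flp_b L167990) (flp_f L116527) L116522 L167986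
theorem L168080 : sm ga N16177 = N21364 := rfl
theorem L168082 : sm gd N21364 = N16302 := ded_9_2 (flp_a L117247) (flp_d L116551) L168080
theorem L168084 : sm ge N21364 = N21098 := ded_10_2 L166338 L116837 L168080
theorem L168086 : sm gf N20114 = N21364 := ded_23_0 L168082 (flp_f L117251) (flp_d L158819)
theorem L168088 : sm gc N16177 = N21365 := rfl
theorem L168090 : sm gf N16177 = N21366 := rfl
theorem L168092 : sm ga N21366 = N20114 := ded_11_1 L168086 (flp_a L168080) L168090
theorem L168094 : sm gd N21366 = N16304 := ded_23_1 (flp_f L117257) (flp_d L116551) L168090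
theorem L168096 : sm ge N21366 = N21096 := ded_25_1 (flp_f L166330) L116837 L168090
theorem L168098 : sm gg N21235 = N21366 := ded_24_0 L168094 (flp_g L117263) (flp_d L167276)
theorem L168100 : sm gg N16177 = N21367 := rfl
theorem L168102 : sm gd N21367 = N16305 := ded_24_1 (flp_g L117265) (flp_d L116551) L168100
theorem L168104 : sm gb N21367 = N16188 := ded_17_1 (flp_g L116595) (flp_b L95882) (flp_g L95868) L116549 L168100
theorem L168106 : sm gb N16178 = N21368 := rfl
theorem L168108 : sm gd N16178 = N21369 := rfl
theorem L168110 : sm ga N21369 = N16179 := ded_9_1 (flp_d L116559) (flp_a L116555) L168108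
theorem L168112 : sm gg N21369 = N16190 := ded_24_2 (flp_d L116601) (flp_g L116557) L168108
theorem L168114 : sm gc N16179 = N21370 := rfl
theorem L168116 : sm gg N21370 = N16193 := ded_21_2 (flp_c L116617) (flp_g L116561) L168114
theorem L168118 : sm ge N16179 = N21371 := rfl
theorem L168120 : sm gg N21371 = N16194 := ded_26_2 (flp_e L116619) (flp_g L116561) L168118
theorem L168122 : sm gf N16179 = N21372 := rfl
theorem L168124 : sm gd N21372 = N16180 := ded_23_1 (flp_f L116563) L116559 L168122
theorem L168126 : sm gb N16180 = N21373 := rfl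
theorem L168128 : sm ga N16181 = N21374 := rfl
theorem L168130 : sm gd N21374 = N16312 := ded_9_2 (flp_a L117299) (flp_d L116569) L168128
theorem L168132 : sm gf N21374 = N16182 := ded_11_2 (flp_a L116573) (flp_f L116571) L168128
theorem L168134 : sm gb N21228 = N21374 := ded_14_3 L168130 (flp_b L117305) (flp_d L167222)
theorem L168136 : sm gc N16181 = N21375 := rfl
theorem L168138 : sm gf N21375 = N16183 := ded_20_2 (flp_c L116577) (flp_f L116571) L168136
theorem L168140 : sm gg N16181 = N21376 := rfl
theorem L168142 : sm gd N21376 = N16314 := ded_24_1 (flp_g L117313) (flp_d L116569) L168140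
theorem L168144 : sm gb N21376 = N21104 := ded_17_1 (flp_g L166380) (flp_b L116613) (flp_g L95896) L116567 L168140
theorem L168146 : sm gc N16182 = N21377 := rfl
theorem L168148 : sm ga N21377 = N16183 := ded_8_1 (flp_c L116577) L116573 L168146
theorem L168150 : sm gg N16182 = N21378 := rfl
theorem L168152 : sm ga N21378 = N16184 := ded_12_1 (flp_g L116579) L116573 L168150
theorem L168154 : sm gd N21378 = N16316 := ded_24_1 (flp_g L117325) (flp_d L116575) L168150
theorem L168156 : sm ge N21378 = N21225 := ded_26_1 L167204 L159936 L168150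
theorem L168158 : sm gf N21378 = N21376 := ded_29_2 (flp_g L168140) L168128 L168132 L168150
theorem L168160 : sm gb N21378 = N20177 := ded_17_1 (flp_g L159291) L110347 L159041 (flp_b L159051) L168150
theorem L168162 : sm gd N16183 = N21379 := rfl
theorem L168164 : sm gg N16183 = N21380 := rfl
theorem L168166 : sm gc N21380 = N16184 := ded_21_1 (flp_g L116579) L116577 L168164
theorem L168168 : sm gf N16184 = N21381 := rfl
theorem L168170 : sm ga N21381 = N21376 := ded_11_1 (flp_f L168158) L168152 L168168
theorem L168172 : sm gd N21381 = N16319 := ded_23_1 (flp_f L117343) (flp_d L116581) L168168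
theorem L168174 : sm gg N21381 = N21374 := ded_29_3 (flp_a L168128) L116571 L116579 L168168
theorem L168176 : sm gb N16187 = N21382 := rfl
theorem L168178 : sm gd N21382 = N16327 := ded_14_2 (flp_b L117393) (flp_d L116593) L168176
theorem L168180 : sm gf N21382 = N16192 := ded_16_2 (flp_b L116613) (flp_f L95890) L95882 L116591 L168176
theorem L168182 : sm gg N21382 = N21103 := ded_17_2 (flp_b L166370) L115559 L166774 (flp_g L166780) L168176
theorem L168184 : sm gf N16188 = N21383 := rfl
theorem L168186 : sm ga N21383 = N21160 := ded_11_1 L166778 (flp_a L156850) L168184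
theorem L168188 : sm gc N21383 = N18804 := ded_20_1 (flp_f L144709) (flp_c L156838) L168184
theorem L168190 : sm gd N21383 = N16328 := ded_23_1 (flp_f L117401) (flp_d L116597) L168184
theorem L168192 : sm ge N21383 = N21150 := ded_25_1 (flp_f L166718) L116813 L168184
theorem L168194 : sm gg N21383 = N18803 := ded_29_3 (flp_a L156848) (flp_f L116591) L116595 L168184
theorem L168196 : sm gb N21383 = N20137 := ded_31_2 (flp_g L158979) (flp_f L110206) (flp_b L155802) (flp_g L167094) (flp_f L167088) (flp_b L116583) (flp_g L116579) (flp_f L116571) (flp_b L116567) L95896 (flp_f L95890) L95882 L116595 L168184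
theorem L168198 : sm ga N16189 = N21384 := rfl
theorem L168200 : sm gd N16189 = N21385 := rfl
theorem L168202 : sm gb N21385 = N16190 := ded_14_1 (flp_d L116601) L116599 L168200
theorem L168204 : sm gf N16189 = N21386 := rfl
theorem L168206 : sm gg N16189 = N21387 := rfl
theorem L168208 : sm ge N16190 = N21388 := rfl
theorem L168210 : sm ga N21388 = N16194 := ded_10_1 (flp_e L116619) (flp_a L116603) L168208
theorem L168212 : sm gf N16190 = N21389 := rfl
theorem L168214 : sm ga N21389 = N16195 := ded_11_1 (flp_f L116622) (flp_a L116603) L168212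
theorem L168216 : sm gd N21389 = N16191 := ded_23_1 (flp_f L116605) L116601 L168212
theorem L168218 : sm gg N21372 = N21389 := ded_29_1 (flp_f L168212) (flp_g L168112) L168110 L168122
theorem L168220 : sm gb N16191 = N21390 := rfl
theorem L168222 : sm gc N16192 = N21391 := rfl
theorem L168224 : sm gb N16193 = N21392 := rfl
theorem L168226 : sm gc N21392 = N21392 := ded_13_2 (flp_b L168224) (flp_c L116617) L95900 L116617 L168224
theorem L168227 : sm ge N16193 = N21393 := rfl
theorem L168229 : sm gc N21393 = N16194 := ded_19_1 (flp_e L116619) L116617 L168227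
theorem L168231 : sm gf N16193 = N21394 := rfl
theorem L168233 : sm gc N21394 = N16195 := ded_20_1 (flp_f L116622) L116617 L168231
theorem L168235 : sm gf N16194 = N21395 := rfl
theorem L168237 : sm ge N21395 = N16195 := ded_25_1 (flp_f L116622) L116619 L168235
theorem L168239 : sm gb N16195 = N21396 := rfl
theorem L168241 : sm gd N21396 = N16196 := ded_14_2 (flp_b L116626) (flp_d L116624) L168239
theorem L168243 : sm gf N21396 = N21396 := ded_16_2 (flp_b L168239) (flp_f L116622) L95900 L116622 L168239
theorem L168244 : sm gg N16195 = N21397 := rfl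
theorem L168246 : sm ga N21397 = N21372 := ded_12_1 L168218 L168214 L168244
theorem L168248 : sm gd N21397 = N16197 := ded_24_1 (flp_g L116631) (flp_d L116624) L168244
theorem L168250 : sm gf N21369 = N21397 := ded_29_0 (flp_g L168244) (flp_f L116622) (flp_g L116561) (flp_a L168110)
theorem L168252 : sm gg N16196 = N21398 := rfl
theorem L168254 : sm gc N21398 = N20298 := ded_21_1 (flp_g L160050) (flp_c L116628) L168252
theorem L168256 : sm gb N16197 = N21399 := rfl
theorem L168258 : sm ga N16198 = N21400 := rfl
theorem L168260 : sm gd N21400 = N16345 := ded_9_2 (flp_a L117491) (flp_d L116641) L168258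
theorem L168262 : sm gg N21400 = N20300 := ded_12_2 (flp_a L160062) (flp_g L116643) L168258
theorem L168264 : sm gc N16198 = N21401 := rfl
theorem L168266 : sm gg N21401 = N20301 := ded_21_2 (flp_c L160070) (flp_g L116643) L168264
theorem L168268 : sm gf N16198 = N21402 := rfl
theorem L168270 : sm gd N21402 = N16347 := ded_23_1 (flp_f L117503) (flp_d L116641) L168268
theorem L168272 : sm gg N21402 = N21249 := ded_29_3 (flp_a L167344) (flp_f L160074) (flp_g L116643) L168268
theorem L168274 : sm gb N21402 = N21366 := ded_16_1 (flp_f L168090) (flp_b L116549) L95911 L116639 L168268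
theorem L168276 : sm ga N16199 = N21403 := rfl
theorem L168278 : sm gd N21403 = N16360 := ded_9_2 (flp_a L117595) (flp_d L116647) L168276
theorem L168280 : sm ge N21403 = N21216 := ded_10_2 L167160 L159956 L168276
theorem L168282 : sm gf N21403 = N16209 := ded_11_2 (flp_a L116693) (flp_f L116649) L168276
theorem L168284 : sm gg N20172 = N21403 := ded_29_3 (flp_a L168276) L116649 L116699 L159263
theorem L168286 : sm gc N16199 = N21404 := rfl
theorem L168288 : sm gf N21404 = N16210 := ded_20_2 (flp_c L116697) (flp_f L116649) L168286
theorem L168290 : sm gg N16199 = N21405 := rfl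
theorem L168292 : sm ga N21405 = N20172 := ded_12_1 L168284 (flp_a L168276) L168290
theorem L168294 : sm gd N21405 = N16362 := ded_24_1 (flp_g L117609) (flp_d L116647) L168290
theorem L168296 : sm ge N21405 = N19723 := ded_26_1 L159960 L159956 L168290
theorem L168298 : sm gf N21332 = N21405 := ded_29_0 (flp_g L168290) L116649 L116699 (flp_a L167874)
theorem L168300 : sm gb N21405 = N21331 := ded_17_1 (flp_g L167934) L167936 (flp_g L116651) L116645 L168290
theorem L168302 : sm gb N16201 = N21406 := rfl
theorem L168304 : sm gd N21406 = N16363 := ded_14_2 (flp_b L117619) (flp_d L116665) L168302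
theorem L168306 : sm ge N21406 = N19703 := ded_15_2 (flp_b L159984) L159980 L168302
theorem L168308 : sm gg N21406 = N19702 := ded_17_2 (flp_b L166688) (flp_g L166690) (flp_b L144661) (flp_g L116667) L168302
theorem L168310 : sm ga N21406 = N20163 := ded_7_1 (flp_b L159950) L167206 (flp_b L167200) L115890 (flp_b L116503) (flp_a L167930) L167936 (flp_a L116661) L168302
theorem L168312 : sm gc N16203 = N21407 := rfl
theorem L168314 : sm ge N21407 = N20244 := ded_19_2 (flp_c L159717) L159337 L168312
theorem L168316 : sm gg N21407 = N20350 := ded_21_2 L160430 L159323 L168312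
theorem L168318 : sm gb N16204 = N21408 := rfl
theorem L168320 : sm gf N21408 = N16208 := ded_16_2 (flp_b L116691) (flp_f L95933) L95927 L116675 L168318
theorem L168322 : sm gf N16205 = N21409 := rfl
theorem L168324 : sm ga N21409 = N16215 := ded_11_1 (flp_f L116716) (flp_a L149701) L168322
theorem L168326 : sm gd N21409 = N21234 := ded_23_1 (flp_f L167272) (flp_d L159327) L168322
theorem L168328 : sm ge N21409 = N16207 := ded_25_1 (flp_f L116683) (flp_e L149705) L168322
theorem L168330 : sm gg N21409 = N21231 := ded_29_3 L167244 (flp_f L116675) L116677 L168322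
theorem L168332 : sm gb N16207 = N21410 := rfl
theorem L168334 : sm gd N21410 = N16208 := ded_14_2 (flp_b L116691) (flp_d L116687) L168332
theorem L168336 : sm ga N16208 = N21411 := rfl
theorem L168338 : sm gc N16208 = N21412 := rfl
theorem L168340 : sm gb N21412 = N16210 := ded_13_1 (flp_c L116697) (flp_b L95941) (flp_c L95937) L116691 L168338
theorem L168342 : sm gg N16208 = N21413 := rfl
theorem L168344 : sm gb N21413 = N21234 := ded_17_1 (flp_g L167266) (flp_b L115932) L95939 L116691 L168342
theorem L168346 : sm gf N21413 = N20299 := ded_31_1 (flp_b L160058) (flp_g L110719) (flp_f L92767) L45274 (flp_g L92603) L110367 (flp_b L167044) L159992 (flp_f L159986) L149744 L95594 L95933 L116691 L168342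
theorem L168348 : sm gb N16209 = N21414 := rfl
theorem L168350 : sm gd N21414 = N16380 := ded_14_2 (flp_b L117723) (flp_d L116695) L168348
theorem L168352 : sm gg N21414 = N18733 := ded_17_2 L144299 (flp_g L116469) L167870 (flp_g L167876) L168348
theorem L168354 : sm gf N18734 = N21414 := ded_31_1 (flp_b L168348) L167876 L168298 L168300 (flp_g L167934) (flp_f L167928) L167914 (flp_g L167920) (flp_f L144329) (flp_b L103826) (flp_g L89062) L89054 L103822 L144305
theorem L168356 : sm gc N18734 = N21414 := ded_21_3 L168352 (flp_c L144291) L144305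
theorem L168358 : sm gc N16209 = N21415 := rfl
theorem L168360 : sm ga N21415 = N16210 := ded_8_1 (flp_c L116697) L116693 L168358
theorem L168362 : sm gd N16210 = N21416 := rfl
theorem L168364 : sm gg N16210 = N21417 := rfl
theorem L168366 : sm gc N21417 = N16211 := ded_21_1 (flp_g L116699) L116697 L168364
theorem L168368 : sm ga N16212 = N21418 := rfl
theorem L168370 : sm gc N21418 = N21418 := ded_8_2 (flp_a L168368) L116707 L168368
theorem L168371 : sm gd N21418 = N18702 := ded_9_2 (flp_a L149594) L117675 L168368
theorem L168373 : sm gb N18700 = N21418 := ded_14_3 L168371 (flp_b L144109) (flp_d L144103)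
theorem L168375 : sm ge N16212 = N21419 := rfl
theorem L168377 : sm gb N21419 = N16213 := ded_15_1 (flp_e L116708) L116705 L168375
theorem L168379 : sm gc N21419 = N21419 := ded_19_1 (flp_e L168375) L116707 L168375
theorem L168380 : sm gg N16212 = N21419 := ded_17_0 L168377 (flp_g L150799) L149731 L115922 L116705
theorem L168382 : sm gf N16212 = N21420 := rfl
theorem L168384 : sm gc N21420 = N21420 := ded_20_1 (flp_f L168382) L116707 L168382
theorem L168385 : sm gf N16213 = N21421 := rfl
theorem L168387 : sm gc N21421 = N16215 := ded_20_1 (flp_f L116716) (flp_c L116710) L168385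
theorem L168389 : sm gd N21421 = N18867 := ded_23_1 (flp_f L145052) L149719 L168385
theorem L168391 : sm ge N21421 = N16214 := ded_25_1 (flp_f L116712) L116708 L168385
theorem L168393 : sm gg N18798 = N21421 := ded_29_1 (flp_f L168385) (flp_g L150799) (flp_a L144639) L144645
theorem L168395 : sm gb N16214 = N21422 := rfl
theorem L168397 : sm gb N16215 = N21423 := rfl
theorem L168399 : sm ge N21423 = N16216 := ded_15_2 (flp_b L116720) (flp_e L116718) L168397
theorem L168401 : sm gf N21423 = N21423 := ded_16_2 (flp_b L168397) (flp_f L116716) L95949 L116716 L168397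
theorem L168402 : sm gc N16216 = N21424 := rfl
theorem L168404 : sm gf N21424 = N21424 := ded_20_2 (flp_c L168402) L116724 L168402
theorem L168405 : sm gg N16216 = N21425 := rfl
theorem L168407 : sm gd N21425 = N16220 := ded_24_1 (flp_g L116743) (flp_d L116722) L168405
theorem L168409 : sm gb N16217 = N21426 := rfl
theorem L168411 : sm gd N21426 = N16221 := ded_14_2 (flp_b L116745) (flp_d L116729) L168409
theorem L168413 : sm ge N21426 = N21408 := ded_15_2 (flp_b L168318) (flp_e L149746) L168409
theorem L168415 : sm gf N21426 = N20288 := ded_16_2 (flp_b L159994) (flp_f L110687) L110679 L148994 L168409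
theorem L168417 : sm gd N16219 = N21427 := rfl
theorem L168419 : sm ga N21427 = N21396 := ded_9_1 L168241 L156846 L168417
theorem L168421 : sm gb N21427 = N16224 := ded_14_1 (flp_d L116761) (flp_b L116741) L168417
theorem L168423 : sm gf N21427 = N21427 := ded_23_2 (flp_d L168417) L116740 L168417
theorem L168424 : sm gg N16219 = N21428 := rfl
theorem L168426 : sm ga N21428 = N21398 := ded_12_1 (flp_g L168252) L156846 L168424
theorem L168428 : sm gc N21428 = N16220 := ded_21_1 (flp_g L116743) L116736 L168424
theorem L168430 : sm ge N21428 = N21398 := ded_26_1 (flp_g L168252) (flp_e L116738) L168424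
theorem L168432 : sm gf N21398 = N21428 := ded_29_0 (flp_g L168424) L116740 L168424 L168426
theorem L168434 : sm gb N16220 = N21429 := rfl
theorem L168436 : sm gg N21429 = N16221 := ded_17_2 (flp_b L116745) (flp_g L95957) L95954 L116743 L168434
theorem L168438 : sm ga N16221 = N21430 := rfl
theorem L168440 : sm gc N16221 = N21431 := rfl
theorem L168442 : sm gb N21431 = N16228 := ded_13_1 (flp_c L116783) (flp_b L95985) (flp_c L95961) L116745 L168440
theorem L168444 : sm gf N16221 = N21432 := rfl
theorem L168446 : sm gd N21432 = N20288 := ded_23_1 (flp_f L168415) L168411 L168444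
theorem L168448 : sm ge N21432 = N21413 := ded_25_1 L168346 L160060 L168444
theorem L168450 : sm gb N21432 = N20287 := ded_16_1 (flp_f L159986) L149744 L95963 L116745 L168444
theorem L168452 : sm gg N20288 = N21432 := ded_31_0 (flp_f L168444) (flp_b L116745) (flp_g L95957) (flp_f L84630) L25005 (flp_g L84463) L95600 L115932 L167266 (flp_f L167272) (flp_b L159319) L110361 L110687 L159994
theorem L168454 : sm gg N21426 = N21430 := ded_29_3 (flp_a L168438) L168444 (flp_g L168452) (flp_f L168415)
theorem L168456 : sm ga N21429 = N21426 := ded_29_4 L168415 L168452 (flp_f L168444) (flp_g L168436)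
theorem L168458 : sm gd N21430 = N21429 := ded_24_1 L168436 (flp_d L168411) L168454
theorem L168460 : sm gb N21430 = N21425 := ded_17_1 (flp_g L168405) (flp_b L116720) L116725 L168409 L168454
theorem L168462 : sm ga N16222 = N21433 := rfl
theorem L168464 : sm gd N21433 = N16405 := ded_9_2 (flp_a L117857) (flp_d L116749) L168462
theorem L168466 : sm ge N21433 = N21106 := ded_10_2 L166388 (flp_e L116751) L168462
theorem L168468 : sm gg N20117 = N21433 := ded_24_0 L168464 (flp_g L117861) (flp_d L158837)
theorem L168470 : sm gc N16222 = N21434 := rfl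
theorem L168472 : sm ge N21434 = N21391 := ded_19_2 (flp_c L168222) (flp_e L116751) L168470
theorem L168474 : sm gf N16222 = N21435 := rfl
theorem L168476 : sm gd N21435 = N16407 := ded_23_1 (flp_f L117867) (flp_d L116749) L168474
theorem L168478 : sm ge N21435 = N21382 := ded_25_1 L168180 (flp_e L116751) L168474
theorem L168480 : sm gb N21435 = N16232 := ded_16_1 (flp_f L116803) (flp_b L95989) (flp_f L95971) L116747 L168474
theorem L168482 : sm gg N16222 = N21436 := rfl
theorem L168484 : sm ga N21436 = N20117 := ded_12_1 L168468 (flp_a L168462) L168482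
theorem L168486 : sm gd N21436 = N16408 := ded_24_1 (flp_g L117873) (flp_d L116749) L168482
theorem L168488 : sm ge N21436 = N21104 := ded_26_1 (flp_g L166380) (flp_e L116751) L168482
theorem L168490 : sm gf N21211 = N21436 := ded_23_0 L168486 (flp_f L117879) (flp_d L167138)
theorem L168492 : sm gb N16223 = N21437 := rfl
theorem L168494 : sm ge N21437 = N21390 := ded_15_2 (flp_b L168220) (flp_e L116757) L168492
theorem L168496 : sm gd N16223 = N21438 := rfl
theorem L168498 : sm ga N21438 = N16224 := ded_9_1 (flp_d L116761) (flp_a L116755) L168496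
theorem L168500 : sm gf N21438 = N16235 := ded_23_2 (flp_d L116819) (flp_f L116759) L168496
theorem L168502 : sm gc N16224 = N21439 := rfl
theorem L168504 : sm gf N21439 = N16238 := ded_20_2 (flp_c L116839) (flp_f L116763) L168502
theorem L168506 : sm ge N16224 = N21440 := rfl
theorem L168508 : sm gf N21440 = N16239 := ded_25_2 (flp_e L116841) (flp_f L116763) L168506
theorem L168510 : sm gd N21440 = N21395 := ded_22_1 L168237 L116624 (flp_e L95975) L116761 L168506
theorem L168512 : sm gg N16224 = N21441 := rfl
theorem L168514 : sm gd N21441 = N16225 := ded_24_1 (flp_g L116765) L116761 L168512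
theorem L168516 : sm gb N16225 = N21442 := rfl
theorem L168518 : sm ge N21442 = N21399 := ded_15_2 (flp_b L168256) (flp_e L116769) L168516
theorem L168520 : sm ga N16226 = N21443 := rfl
theorem L168522 : sm gd N21443 = N16415 := ded_9_2 (flp_a L117909) (flp_d L116773) L168520
theorem L168524 : sm ge N21443 = N21400 := ded_10_2 (flp_a L168258) (flp_e L116775) L168520
theorem L168526 : sm gg N21443 = N16227 := ded_12_2 (flp_a L116779) (flp_g L116777) L168520
theorem L168528 : sm gb N21205 = N21443 := ded_14_3 L168522 (flp_b L117915) (flp_d L167092)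
theorem L168530 : sm gc N16226 = N21444 := rfl
theorem L168532 : sm ge N21444 = N21401 := ded_19_2 (flp_c L168264) (flp_e L116775) L168530
theorem L168534 : sm gg N21444 = N16228 := ded_21_2 (flp_c L116783) (flp_g L116777) L168530
theorem L168536 : sm gf N16226 = N21445 := rfl
theorem L168538 : sm gd N21445 = N16417 := ded_23_1 (flp_f L117923) (flp_d L116773) L168536
theorem L168540 : sm ge N21445 = N21402 := ded_25_1 (flp_f L168268) (flp_e L116775) L168536
theorem L168542 : sm gb N21445 = N21096 := ded_16_1 (flp_f L166330) (flp_b L116833) L96009 L116771 L168536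
theorem L168544 : sm gc N16227 = N21446 := rfl
theorem L168546 : sm ga N21446 = N16228 := ded_8_1 (flp_c L116783) L116779 L168544
theorem L168548 : sm gf N16227 = N21447 := rfl
theorem L168550 : sm ga N21447 = N16229 := ded_11_1 (flp_f L116785) L116779 L168548
theorem L168552 : sm gd N21447 = N16419 := ded_23_1 (flp_f L117937) (flp_d L116781) L168548
theorem L168554 : sm ge N21447 = N21249 := ded_25_1 L167342 L160066 L168548
theorem L168556 : sm gg N21445 = N21447 := ded_29_1 (flp_f L168548) (flp_g L168526) (flp_a L168520) L168536
theorem L168558 : sm gb N21447 = N20195 := ded_16_1 (flp_f L159413) L110397 L158997 (flp_b L159007) L168548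
theorem L168560 : sm gd N16228 = N21448 := rfl
theorem L168562 : sm gf N16228 = N21449 := rfl
theorem L168564 : sm gc N21449 = N16229 := ded_20_1 (flp_f L116785) L116783 L168562
theorem L168566 : sm gg N16229 = N21450 := rfl
theorem L168568 : sm ga N21450 = N21445 := ded_12_1 L168556 L168550 L168566
theorem L168570 : sm gd N21450 = N16422 := ded_24_1 (flp_g L117955) (flp_d L116787) L168566
theorem L168572 : sm gf N21443 = N21450 := ded_29_0 (flp_g L168566) (flp_f L116785) (flp_g L116777) L168520
theorem L168574 : sm gb N21450 = N21381 := ded_17_1 L168174 (flp_b L168134) (flp_g L167220) (flp_b L116789) L168566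
theorem L168576 : sm gg N16232 = N21451 := rfl
theorem L168578 : sm ga N21451 = N21150 := ded_12_1 L166716 (flp_a L156867) L168576
theorem L168580 : sm gc N21451 = N18789 := ded_21_1 L144623 (flp_c L156861) L168576
theorem L168582 : sm gd N21451 = N16430 := ded_24_1 (flp_g L118007) (flp_d L116805) L168576
theorem L168584 : sm ge N21451 = N21160 := ded_26_1 (flp_g L166780) (flp_e L116807) L168576
theorem L168586 : sm gf N18788 = N21451 := ded_29_0 (flp_g L168576) (flp_f L116803) L116809 L156869
theorem L168588 : sm gb N20143 = N21451 := ded_31_14 (flp_g L168576) (flp_f L116803) (flp_b L95989) L96001 L96009 L116771 L116777 L116785 L116789 L167220 (flp_f L167224) L155810 L150912 L159023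
theorem L168590 : sm gb N16233 = N21452 := rfl
theorem L168592 : sm gd N21452 = N16431 := ded_14_2 (flp_b L118017) (flp_d L116811) L168590
theorem L168594 : sm ge N21452 = N21367 := ded_15_2 L168104 (flp_e L116813) L168590
theorem L168596 : sm gf N21452 = N21095 := ded_16_2 (flp_b L166320) (flp_f L115529) L166712 (flp_f L166718) L168590
theorem L168598 : sm gg N21452 = N16237 := ded_17_2 (flp_b L116833) (flp_g L96001) L95989 L116809 L168590
theorem L168600 : sm ga N16234 = N21453 := rfl
theorem L168602 : sm ge N21453 = N21384 := ded_10_2 (flp_a L168198) (flp_e L116817) L168600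
theorem L168604 : sm gd N16234 = N21454 := rfl
theorem L168606 : sm gb N21454 = N16235 := ded_14_1 (flp_d L116819) L116815 L168604
theorem L168608 : sm gf N16234 = N21455 := rfl
theorem L168610 : sm ge N21455 = N21386 := ded_25_1 (flp_f L168204) (flp_e L116817) L168608
theorem L168612 : sm gg N16234 = N21456 := rfl
theorem L168614 : sm ge N21456 = N21387 := ded_26_1 (flp_g L168206) (flp_e L116817) L168612
theorem L168616 : sm ge N16235 = N21457 := rfl
theorem L168618 : sm ga N21457 = N16239 := ded_10_1 (flp_e L116841) (flp_a L116821) L168616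
theorem L168620 : sm gd N21457 = N21388 := ded_22_1 (flp_e L168208) (flp_d L116601) (flp_e L95999) L116819 L168616
theorem L168622 : sm gg N16235 = N21458 := rfl
theorem L168624 : sm ga N21458 = N16240 := ded_12_1 (flp_g L116846) (flp_a L116821) L168622
theorem L168626 : sm gd N21458 = N16236 := ded_24_1 (flp_g L116823) L116819 L168622
theorem L168628 : sm gf N21458 = N21441 := ded_29_2 (flp_g L168512) (flp_a L168498) L168500 L168622
theorem L168630 : sm gb N16236 = N21459 := rfl
theorem L168632 : sm ge N21459 = N21368 := ded_15_2 (flp_b L168106) (flp_e L116829) L168630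
theorem L168634 : sm gc N16237 = N21460 := rfl
theorem L168636 : sm ge N21460 = N21365 := ded_19_2 (flp_c L168088) (flp_e L116837) L168634
theorem L168638 : sm gb N16238 = N21461 := rfl
theorem L168640 : sm gc N21461 = N21461 := ded_13_2 (flp_b L168638) (flp_c L116839) L96013 L116839 L168638
theorem L168641 : sm ge N16238 = N21462 := rfl
theorem L168643 : sm gc N21462 = N16239 := ded_19_1 (flp_e L116841) L116839 L168641
theorem L168645 : sm gg N16238 = N21463 := rfl
theorem L168647 : sm gc N21463 = N16240 := ded_21_1 (flp_g L116846) L116839 L168645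
theorem L168649 : sm gg N16239 = N21464 := rfl
theorem L168651 : sm gd N21464 = N21371 := ded_24_1 L168120 (flp_d L116844) L168649
theorem L168653 : sm ge N21464 = N16240 := ded_26_1 (flp_g L116846) L116841 L168649
theorem L168655 : sm gb N16240 = N21465 := rfl
theorem L168657 : sm gd N21465 = N16241 := ded_14_2 (flp_b L116850) (flp_d L116848) L168655
theorem L168659 : sm gg N21465 = N21465 := ded_17_2 (flp_b L168655) (flp_g L116846) L96013 L116846 L168655
theorem L168660 : sm ga N21358 = N21465 := ded_9_3 L168657 L168064 L168011
theorem L168662 : sm gf N16240 = N21466 := rfl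
theorem L168664 : sm ga N21466 = N21441 := ded_11_1 (flp_f L168628) L168624 L168662
theorem L168666 : sm gd N21466 = N16242 := ded_23_1 (flp_f L116857) (flp_d L116848) L168662
theorem L168668 : sm gg N21466 = N21438 := ded_29_3 L168498 L116763 L116846 L168662
theorem L168670 : sm gf N16241 = N21467 := rfl
theorem L168672 : sm ga N21467 = N21359 := ded_11_1 (flp_f L168016) (flp_a L168064) L168670
theorem L168674 : sm gc N21467 = N20279 := ded_20_1 (flp_f L159924) (flp_c L116854) L168670
theorem L168676 : sm ge N21467 = N21359 := ded_25_1 (flp_f L168016) (flp_e L116852) L168670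
theorem L168678 : sm gg N21467 = N21359 := ded_29_3 (flp_a L168672) (flp_f L168670) L116856 L168670
theorem L168680 : sm gb N16242 = N21468 := rfl
theorem L168682 : sm ge N21468 = N21373 := ded_15_2 (flp_b L168126) (flp_e L116863) L168680
theorem L168684 : sm ga N16243 = N21469 := rfl
theorem L168686 : sm gd N21469 = N16448 := ded_9_2 (flp_a L118105) (flp_d L116869) L168684
theorem L168688 : sm ge N21469 = N21374 := ded_10_2 (flp_a L168128) (flp_e L116871) L168684
theorem L168690 : sm gf N21469 = N20281 := ded_11_2 (flp_a L159932) (flp_f L116873) L168684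
theorem L168692 : sm gc N16243 = N21470 := rfl
theorem L168694 : sm ge N21470 = N21375 := ded_19_2 (flp_c L168136) (flp_e L116871) L168692
theorem L168696 : sm gf N21470 = N20282 := ded_20_2 (flp_c L159940) (flp_f L116873) L168692
theorem L168698 : sm gg N16243 = N21471 := rfl
theorem L168700 : sm gd N21471 = N16450 := ded_24_1 (flp_g L118117) (flp_d L116869) L168698
theorem L168702 : sm ge N21471 = N21376 := ded_26_1 (flp_g L168140) (flp_e L116871) L168698
theorem L168704 : sm gf N21225 = N21471 := ded_29_0 (flp_g L168698) L116873 L159944 L167206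
theorem L168706 : sm gb N21471 = N21436 := ded_17_1 (flp_g L168482) (flp_b L116747) (flp_g L96028) L116867 L168698
theorem L168708 : sm gc N16244 = N21472 := rfl
theorem L168710 : sm ga N21472 = N20108 := ded_8_1 (flp_c L158777) (flp_a L116881) L168708
theorem L168712 : sm ge N21472 = N16779 := ded_19_2 (flp_c L121647) (flp_e L116877) L168708
theorem L168714 : sm gf N21472 = N21071 := ded_20_2 (flp_c L166134) (flp_f L116879) L168708
theorem L168716 : sm gb N21472 = N20203 := ded_13_1 (flp_c L159483) L159487 L110785 L116875 L168708
theorem L168718 : sm gg N16246 = N21473 := rfl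
theorem L168720 : sm gc N21473 = N18405 := ded_21_1 (flp_g L130200) (flp_c L116893) L168718
theorem L168722 : sm gd N21473 = N16248 := ded_24_1 (flp_g L116907) L116889 L168718
theorem L168724 : sm gb N16248 = N21474 := rfl
theorem L168726 : sm ge N21474 = N16781 := ded_15_2 (flp_b L121659) (flp_e L116911) L168724
theorem L168728 : sm gg N21474 = N16254 := ded_17_2 (flp_b L116943) (flp_g L96056) L96042 L116907 L168724
theorem L168730 : sm gf N16248 = N21475 := rfl
theorem L168732 : sm ga N21475 = N19243 := ded_11_1 (flp_f L160560) L160554 L168730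
theorem L168734 : sm gc N21475 = N16268 := ded_20_1 (flp_f L117031) (flp_c L116909) L168730
theorem L168736 : sm ge N21475 = N16782 := ded_25_1 (flp_f L121663) (flp_e L116911) L168730
theorem L168738 : sm gg N21475 = N19241 := ded_29_3 L152702 L119645 L116907 L168730
theorem L168740 : sm gb N21109 = N21475 := ded_13_5 L168734 (flp_b L120882) L115363 L115367 L166406
theorem L168742 : sm gg N16249 = N21476 := rfl
theorem L168744 : sm gc N21476 = N18831 := ded_21_1 (flp_g L144839) (flp_c L116915) L168742
theorem L168746 : sm gd N21476 = N16783 := ded_24_1 (flp_g L121675) (flp_d L116917) L168742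
theorem L168748 : sm ge N21476 = N16251 := ded_26_1 (flp_g L116925) L116913 L168742
theorem L168750 : sm gg N16250 = N21477 := rfl
theorem L168752 : sm gc N21477 = N18754 := ded_21_1 (flp_g L144415) (flp_c L116921) L168750
theorem L168754 : sm gd N21477 = N16253 := ded_24_1 (flp_g L116935) (flp_d L116923) L168750
theorem L168756 : sm ge N21477 = N18986 := ded_26_1 (flp_g L145730) (flp_e L120285) L168750
theorem L168758 : sm gf N20305 = N21477 := ded_29_0 (flp_g L168750) (flp_f L116919) L116925 (flp_a L160106)
theorem L168760 : sm gb N16251 = N21478 := rfl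
theorem L168762 : sm gd N21478 = N16254 := ded_14_2 (flp_b L116943) (flp_d L116929) L168760
theorem L168764 : sm gf N16251 = N21479 := rfl
theorem L168766 : sm ga N21479 = N21477 := ded_11_1 (flp_f L168758) L160106 L168764
theorem L168768 : sm gc N21479 = N18833 := ded_20_1 (flp_f L144851) (flp_c L116927) L168764
theorem L168770 : sm gd N21479 = N16255 := ded_23_1 (flp_f L116947) (flp_d L116929) L168764
theorem L168772 : sm gg N21479 = N20304 := ded_29_3 L160096 (flp_f L116919) L116925 L168764
theorem L168774 : sm gb N16253 = N21480 := rfl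
theorem L168776 : sm ge N21480 = N16786 := ded_15_2 (flp_b L121693) (flp_e L116939) L168774
theorem L168778 : sm gg N21480 = N19256 := ded_17_2 (flp_b L152788) L105511 L119589 L116935 L168774
theorem L168780 : sm ga N16254 = N21481 := rfl
theorem L168782 : sm ge N21481 = N16787 := ded_10_2 (flp_a L121699) (flp_e L116945) L168780
theorem L168784 : sm gc N16254 = N21482 := rfl
theorem L168786 : sm ge N21482 = N16788 := ded_19_2 (flp_c L121701) (flp_e L116945) L168784
theorem L168788 : sm gb N21482 = N16258 := ded_13_1 (flp_c L116973) (flp_b L96068) (flp_c L96058) L116943 L168784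
theorem L168790 : sm gf N16254 = N21483 := rfl
theorem L168792 : sm ge N21483 = N16789 := ded_25_1 (flp_f L121705) (flp_e L116945) L168790
theorem L168794 : sm gb N16255 = N21484 := rfl
theorem L168796 : sm ge N21484 = N16790 := ded_15_2 (flp_b L121707) (flp_e L116953) L168794
theorem L168798 : sm gc N16256 = N21485 := rfl
theorem L168800 : sm ga N21485 = N20233 := ded_8_1 L159641 L116963 L168798
theorem L168802 : sm ge N21485 = N16791 := ded_19_2 (flp_c L121709) (flp_e L116959) L168798
theorem L168804 : sm gf N21485 = N20230 := ded_20_2 (flp_c L159623) (flp_f L116961) L168798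
theorem L168806 : sm gc N16257 = N21486 := rfl
theorem L168808 : sm ga N21486 = N16258 := ded_8_1 (flp_c L116973) L116965 L168806
theorem L168810 : sm ge N21486 = N16792 := ded_19_2 (flp_c L121715) (flp_e L116967) L168806
theorem L168812 : sm gf N21486 = N20256 := ded_20_2 (flp_c L159779) (flp_f L116971) L168806
theorem L168814 : sm gg N21486 = N16278 := ded_21_2 (flp_c L117099) (flp_g L116969) L168806
theorem L168816 : sm gd N16258 = N21487 := rfl
theorem L168818 : sm gg N21487 = N16280 := ded_24_2 (flp_d L117115) (flp_g L116977) L168816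
theorem L168820 : sm gf N16258 = N21488 := rfl
theorem L168822 : sm ga N21488 = N20256 := ded_11_1 (flp_f L168812) L168808 L168820
theorem L168824 : sm gc N21488 = N16259 := ded_20_1 (flp_f L116979) L116973 L168820
theorem L168826 : sm ge N21488 = N16794 := ded_25_1 (flp_f L121727) (flp_e L116975) L168820
theorem L168828 : sm gc N16260 = N21489 := rfl
theorem L168830 : sm ga N21489 = N16383 := ded_8_1 L117741 (flp_a L116989) L168828
theorem L168832 : sm ge N21489 = N16795 := ded_19_2 (flp_c L121733) (flp_e L116987) L168828
theorem L168834 : sm gg N21489 = N16381 := ded_21_2 (flp_c L117731) L116991 L168828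
theorem L168836 : sm gb N16262 = N21490 := rfl
theorem L168838 : sm ge N21490 = N16800 := ded_15_2 (flp_b L121768) (flp_e L117003) L168836
theorem L168840 : sm gg N21490 = N21490 := ded_17_2 (flp_b L168836) (flp_g L116999) L96086 L116999 L168836
theorem L168841 : sm gg N16263 = N21491 := rfl
theorem L168843 : sm gd N21491 = N16807 := ded_24_1 (flp_g L121809) (flp_d L117009) L168841
theorem L168845 : sm ge N21491 = N16265 := ded_26_1 (flp_g L117015) L117005 L168841
theorem L168847 : sm gg N16264 = N21492 := rfl
theorem L168849 : sm gc N21492 = N18387 := ded_21_1 L130084 (flp_c L129898) L168847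
theorem L168851 : sm gd N21492 = N16266 := ded_24_1 (flp_g L117019) (flp_d L117013) L168847
theorem L168853 : sm gf N18385 = N21492 := ded_29_0 (flp_g L168847) (flp_f L117011) L117015 (flp_a L130064)
theorem L168855 : sm gb N16265 = N21493 := rfl
theorem L168857 : sm gd N21493 = N16267 := ded_14_2 (flp_b L117025) (flp_d L117017) L168855
theorem L168859 : sm gg N21493 = N16273 := ded_17_2 (flp_b L117073) (flp_g L96111) (flp_b L96089) L117015 L168855
theorem L168861 : sm gf N16265 = N21494 := rfl
theorem L168863 : sm ga N21494 = N21492 := ded_11_1 (flp_f L168853) L130064 L168861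
theorem L168865 : sm gc N21494 = N18361 := ded_20_1 (flp_f L130060) L130056 L168861
theorem L168867 : sm gd N21494 = N16268 := ded_23_1 (flp_f L117031) (flp_d L117017) L168861
theorem L168869 : sm gg N21494 = N18360 := ded_29_3 L129902 (flp_f L117011) L117015 L168861
theorem L168871 : sm gb N21108 = N21494 := ded_14_3 L168867 (flp_b L120882) (flp_d L166404)
theorem L168873 : sm gb N16266 = N21495 := rfl
theorem L168875 : sm ge N21495 = N16811 := ded_15_2 (flp_b L121835) (flp_e L117021) L168873
theorem L168877 : sm ga N16267 = N21496 := rfl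
theorem L168879 : sm ge N21496 = N16812 := ded_10_2 (flp_a L121837) (flp_e L117027) L168877
theorem L168881 : sm gg N21496 = N16274 := ded_12_2 (flp_a L117077) (flp_g L117029) L168877
theorem L168883 : sm gc N16267 = N21497 := rfl
theorem L168885 : sm ge N21497 = N16813 := ded_19_2 (flp_c L121841) (flp_e L117027) L168883
theorem L168887 : sm gg N21497 = N16275 := ded_21_2 (flp_c L117081) (flp_g L117029) L168883
theorem L168889 : sm gf N16269 = N21498 := rfl
theorem L168891 : sm ga N21498 = N20772 := ded_11_1 (flp_f L162939) (flp_a L144153) L168889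
theorem L168893 : sm gc N21498 = N20769 := ded_20_1 L162911 L130050 L168889
theorem L168895 : sm gd N21498 = N21346 := ded_23_1 (flp_f L167956) (flp_d L117041) L168889
theorem L168897 : sm ge N21498 = N19106 := ded_25_1 L151860 L145929 L168889
theorem L168899 : sm gb N21498 = N18813 := ded_16_1 (flp_f L144739) (flp_b L116068) L116018 L117039 L168889
theorem L168901 : sm gg N16269 = N21499 := rfl
theorem L168903 : sm gd N21499 = N21347 := ded_24_1 (flp_g L167958) (flp_d L117041) L168901
theorem L168905 : sm gb N16271 = N21500 := rfl
theorem L168907 : sm gd N21500 = N21349 := ded_14_2 (flp_b L167971) (flp_d L117059) L168905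
theorem L168909 : sm gb N16272 = N21501 := rfl
theorem L168911 : sm gd N21501 = N16816 := ded_14_2 (flp_b L121861) (flp_d L117067) L168909
theorem L168913 : sm ge N21501 = N16273 := ded_15_2 (flp_b L117073) (flp_e L117069) L168909
theorem L168915 : sm ga N16273 = N21502 := rfl
theorem L168917 : sm gd N21502 = N16274 := ded_9_2 (flp_a L117077) (flp_d L117075) L168915
theorem L168919 : sm gc N16273 = N21503 := rfl
theorem L168921 : sm gf N16273 = N21504 := rfl
theorem L168923 : sm gd N21504 = N16276 := ded_23_1 (flp_f L117087) (flp_d L117075) L168921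
theorem L168925 : sm gb N21504 = N21260 := ded_16_1 (flp_f L167431) (flp_b L116098) (flp_f L96117) L117073 L168921
theorem L168927 : sm gb N16274 = N21505 := rfl
theorem L168929 : sm ge N21505 = N16820 := ded_15_2 (flp_b L121877) (flp_e L117079) L168927
theorem L168931 : sm gc N16274 = N21506 := rfl
theorem L168933 : sm ga N21506 = N16275 := ded_8_1 (flp_c L117081) L117077 L168931
theorem L168935 : sm ge N21506 = N16821 := ded_19_2 (flp_c L121879) (flp_e L117079) L168931
theorem L168937 : sm gf N16274 = N21507 := rfl
theorem L168939 : sm ga N21507 = N16276 := ded_11_1 (flp_f L117087) L117077 L168937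
theorem L168941 : sm ge N21507 = N16822 := ded_25_1 (flp_f L121883) (flp_e L117079) L168937
theorem L168943 : sm gg N21169 = N21507 := ded_29_1 (flp_f L168937) (flp_g L168881) (flp_a L168877) (flp_f L166828)
theorem L168945 : sm gb N21166 = N21507 := ded_15_3 L168941 L121889 (flp_e L166804)
theorem L168947 : sm gd N16275 = N21508 := rfl
theorem L168949 : sm gb N21508 = N16280 := ded_14_1 (flp_d L117115) (flp_b L117085) L168947
theorem L168951 : sm gf N16275 = N21509 := rfl
theorem L168953 : sm gc N21509 = N16276 := ded_20_1 (flp_f L117087) L117081 L168951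
theorem L168955 : sm ge N21509 = N16824 := ded_25_1 (flp_f L121895) (flp_e L117083) L168951
theorem L168957 : sm gg N16276 = N21510 := rfl
theorem L168959 : sm ga N21510 = N21169 := ded_12_1 L168943 L168939 L168957
theorem L168961 : sm ge N21510 = N16825 := ded_26_1 (flp_g L121899) (flp_e L117089) L168957
theorem L168963 : sm gf N21496 = N21510 := ded_29_0 (flp_g L168957) (flp_f L117087) (flp_g L117029) L168877
theorem L168965 : sm gb N16299 = N21510 := ded_7_0 L168959 (flp_b L166824) L115599 L115624 L120928 (flp_b L95657) (flp_a L84727) L96197 L117231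
theorem L168967 : sm gc N16277 = N21511 := rfl
theorem L168969 : sm ge N21511 = N16826 := ded_19_2 (flp_c L121907) (flp_e L117095) L168967
theorem L168971 : sm gg N21511 = N21076 := ded_21_2 L166162 L117097 L168967
theorem L168973 : sm gb N16278 = N21512 := rfl
theorem L168975 : sm ge N21512 = N16827 := ded_15_2 (flp_b L121911) (flp_e L117103) L168973
theorem L168977 : sm gd N16278 = N21513 := rfl
theorem L168979 : sm ga N21513 = N16280 := ded_9_1 (flp_d L117115) (flp_a L117101) L168977
theorem L168981 : sm gf N16278 = N21514 := rfl
theorem L168983 : sm ga N21514 = N16281 := ded_11_1 (flp_f L117117) (flp_a L117101) L168981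
theorem L168985 : sm gc N21514 = N16279 := ded_20_1 (flp_f L117105) L117099 L168981
theorem L168987 : sm ge N21514 = N16829 := ded_25_1 (flp_f L121917) (flp_e L117103) L168981
theorem L168989 : sm gg N21514 = N21488 := ded_29_3 L168822 (flp_f L168812) L168814 L168981
theorem L168991 : sm gc N16280 = N21515 := rfl
theorem L168993 : sm ge N16280 = N21516 := rfl
theorem L168995 : sm gd N21516 = N16831 := ded_22_1 (flp_e L121927) (flp_d L97716) (flp_e L96129) L117115 L168993
theorem L168997 : sm gf N16280 = N21517 := rfl
theorem L168999 : sm gd N21517 = N16281 := ded_23_1 (flp_f L117117) L117115 L168997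
theorem L169001 : sm gb N16281 = N21518 := rfl
theorem L169003 : sm ge N21518 = N16833 := ded_15_2 (flp_b L121933) (flp_e L117121) L169001
theorem L169005 : sm gc N21518 = N21270 := ded_13_2 (flp_b L167484) L116137 (flp_b L96135) (flp_c L117119) L169001
theorem L169007 : sm gd N16282 = N21519 := rfl
theorem L169009 : sm ga N21519 = N16283 := ded_9_1 (flp_d L117127) L117123 L169007
theorem L169011 : sm gc N21519 = N20449 := ded_28_6 (flp_d L160990) (flp_a L160956) (flp_c L160954) (flp_d L111305) L93039 (flp_d L96598) (flp_c L117125) L169007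
theorem L169013 : sm gf N16282 = N21520 := rfl
theorem L169015 : sm ga N21520 = N16285 := ded_11_1 (flp_f L117141) L117123 L169013
theorem L169017 : sm gc N21520 = N16453 := ded_20_1 (flp_f L118135) (flp_c L117125) L169013
theorem L169019 : sm ge N21520 = N18240 := ded_25_1 L145953 L145947 L169013
theorem L169021 : sm gg N16282 = N21521 := rfl
theorem L169023 : sm ga N21521 = N16286 := ded_12_1 (flp_g L117149) L117123 L169021
theorem L169025 : sm gc N21521 = N16294 := ded_21_1 L117211 (flp_c L117125) L169021
theorem L169027 : sm gc N16283 = N21522 := rfl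
theorem L169029 : sm ga N21522 = N20449 := ded_8_1 (flp_c L169011) L169009 L169027
theorem L169031 : sm gb N21522 = N21333 := ded_13_1 (flp_c L167878) L116473 L96145 (flp_b L117129) L169027
theorem L169033 : sm gd N21522 = N20443 := ded_28_7 L160956 (flp_c L111325) (flp_d L93043) (flp_c L80349) (flp_d L84915) (flp_c L96139) L117127 L169027
theorem L169035 : sm ge N16283 = N21523 := rfl
theorem L169037 : sm gb N21523 = N16287 := ded_15_1 (flp_e L117153) (flp_b L117129) L169035
theorem L169039 : sm gd N21523 = N18750 := ded_22_1 L144393 L117137 (flp_e L117131) L117127 L169035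
theorem L169041 : sm gf N18738 = N21523 := ded_16_0 L169037 L117159 (flp_b L103971) (flp_f L103834) L144333
theorem L169043 : sm gf N16283 = N21524 := rfl
theorem L169045 : sm gd N21524 = N16285 := ded_23_1 (flp_f L117141) L117127 L169043
theorem L169047 : sm ge N21524 = N18738 := ded_25_1 L169041 (flp_e L169035) L169043
theorem L169049 : sm gb N21524 = N18192 := ded_16_1 L128785 (flp_b L116043) L116037 (flp_b L117129) L169043
theorem L169051 : sm gg N16283 = N21525 := rfl
theorem L169053 : sm gd N21525 = N16286 := ded_24_1 (flp_g L117149) L117127 L169051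
theorem L169055 : sm gg N16284 = N21526 := rfl
theorem L169057 : sm gc N21526 = N16292 := ded_21_1 L117195 (flp_c L117135) L169055
theorem L169059 : sm gd N21526 = N19057 := ded_24_1 (flp_g L151604) L117137 L169055
theorem L169061 : sm ge N21526 = N16286 := ded_26_1 (flp_g L117149) L117131 L169055
theorem L169063 : sm gf N19187 = N21526 := ded_29_0 (flp_g L169055) (flp_f L117139) L129082 (flp_a L152382)
theorem L169065 : sm gb N21526 = N19081 := ded_17_1 L151718 L151698 (flp_g L117171) (flp_b L117133) L169055
theorem L169067 : sm gg N16285 = N21527 := rfl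
theorem L169069 : sm gc N21527 = N16455 := ded_21_1 (flp_g L118204) (flp_c L117143) L169067
theorem L169071 : sm ge N21527 = N18241 := ded_26_1 (flp_g L129082) (flp_e L117145) L169067
theorem L169073 : sm gf N21521 = N21527 := ded_29_0 (flp_g L169067) (flp_f L117141) L117149 (flp_a L169023)
theorem L169075 : sm gb N16286 = N21528 := rfl
theorem L169077 : sm ge N21528 = N19081 := ded_15_2 (flp_b L169065) L169061 L169075
theorem L169079 : sm gc N21528 = N16290 := ded_13_2 (flp_b L117179) L96165 L96173 (flp_c L117151) L169075
theorem L169081 : sm gg N21528 = N16290 := ded_17_2 (flp_b L117179) (flp_g L96163) L96137 L117149 L169075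
theorem L169083 : sm gf N18768 = N21528 := ded_31_1 (flp_b L169075) (flp_g L117149) L117141 L117147 (flp_g L102140) (flp_f L102133) (flp_b L89280) (flp_g L89276) (flp_f L89256) (flp_b L89252) L89258 (flp_f L89264) L103929 L144485
theorem L169085 : sm gf N16286 = N21529 := rfl
theorem L169087 : sm ga N21529 = N21527 := ded_11_1 (flp_f L169073) L169023 L169085
theorem L169089 : sm gc N21529 = N16295 := ded_20_1 (flp_f L117213) (flp_c L117151) L169085
theorem L169091 : sm ge N21529 = N19187 := ded_25_1 L169063 L169061 L169085
theorem L169093 : sm gg N21529 = N21520 := ded_29_3 L169015 (flp_f L117141) L117149 L169085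
theorem L169095 : sm gb N21529 = N18868 := ded_16_1 (flp_f L145054) (flp_b L144489) L169083 (flp_b L169075) L169085
theorem L169097 : sm gg N16287 = N21530 := rfl
theorem L169099 : sm ga N21530 = N21348 := ded_12_1 (flp_g L167961) (flp_a L117155) L169097
theorem L169101 : sm gc N21530 = N21334 := ded_21_1 (flp_g L167884) (flp_c L117157) L169097
theorem L169103 : sm gd N21530 = N18819 := ded_24_1 (flp_g L144775) (flp_d L117161) L169097
theorem L169105 : sm ge N21530 = N16288 := ded_26_1 (flp_g L117163) L117153 L169097
theorem L169107 : sm gb N16288 = N21531 := rfl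
theorem L169109 : sm gd N21531 = N16290 := ded_14_2 (flp_b L117179) (flp_d L117169) L169107
theorem L169111 : sm gb N16291 = N21532 := rfl
theorem L169113 : sm ga N16292 = N21533 := rfl
theorem L169115 : sm gd N21533 = N16844 := ded_9_2 (flp_a L121996) (flp_d L117191) L169113
theorem L169117 : sm ge N21533 = N16294 := ded_10_2 (flp_a L117207) (flp_e L117193) L169113
theorem L169119 : sm gg N21533 = N16452 := ded_12_2 L118131 (flp_g L117195) L169113
theorem L169121 : sm gf N16292 = N21534 := rfl
theorem L169123 : sm gc N21534 = N19187 := ded_20_1 L169063 L169057 L169121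
theorem L169125 : sm gd N21534 = N16846 := ded_23_1 (flp_f L122036) (flp_d L117191) L169121
theorem L169127 : sm ge N21534 = N16295 := ded_25_1 (flp_f L117213) (flp_e L117193) L169121
theorem L169129 : sm gb N16293 = N21535 := rfl
theorem L169131 : sm gd N21535 = N16847 := ded_14_2 (flp_b L122044) (flp_d L117201) L169129
theorem L169133 : sm ge N21535 = N16296 := ded_15_2 (flp_b L117217) (flp_e L117203) L169129
theorem L169135 : sm gb N16294 = N21536 := rfl
theorem L169137 : sm gd N21536 = N16297 := ded_14_2 (flp_b L117221) (flp_d L117209) L169135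
theorem L169139 : sm gb N16295 = N21537 := rfl
theorem L169141 : sm gd N21537 = N16298 := ded_14_2 (flp_b L117225) (flp_d L117215) L169139
theorem L169143 : sm gf N21537 = N16296 := ded_16_2 (flp_b L117217) (flp_f L96179) L96173 L117213 L169139
theorem L169145 : sm ga N16296 = N21538 := rfl
theorem L169147 : sm gd N21538 = N16299 := ded_9_2 (flp_a L117231) (flp_d L117219) L169145
theorem L169149 : sm gc N16296 = N21539 := rfl
theorem L169151 : sm gg N16296 = N21540 := rfl
theorem L169153 : sm gd N21540 = N16301 := ded_24_1 (flp_g L117241) (flp_d L117219) L169151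
theorem L169155 : sm gb N21540 = N21253 := ded_17_1 (flp_g L167377) L116002 (flp_g L96185) L117217 L169151
theorem L169157 : sm ga N16297 = N21541 := rfl
theorem L169159 : sm ge N21541 = N16853 := ded_10_2 (flp_a L122070) (flp_e L117223) L169157
theorem L169161 : sm gc N16297 = N21542 := rfl
theorem L169163 : sm ge N21542 = N16854 := ded_19_2 (flp_c L122072) (flp_e L117223) L169161
theorem L169165 : sm gg N18657 = N21542 := ded_26_0 L169163 L151335 (flp_e L143841)
theorem L169167 : sm gf N16297 = N21543 := rfl
theorem L169169 : sm ge N21543 = N16855 := ded_25_1 (flp_f L122074) (flp_e L117223) L169167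
theorem L169171 : sm gg N16297 = N21544 := rfl
theorem L169173 : sm gc N21544 = N18657 := ded_21_1 L169165 (flp_c L169161) L169171
theorem L169175 : sm ge N21544 = N16856 := ded_26_1 (flp_g L122076) (flp_e L117223) L169171
theorem L169177 : sm gb N21544 = N16458 := ded_17_1 (flp_g L118221) (flp_b L96611) (flp_g L96191) L117221 L169171
theorem L169179 : sm ga N16298 = N21545 := rfl
theorem L169181 : sm ge N21545 = N16862 := ded_10_2 (flp_a L122106) (flp_e L117227) L169179
theorem L169183 : sm gf N21545 = N16299 := ded_11_2 (flp_a L117231) (flp_f L117229) L169179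
theorem L169185 : sm gc N16298 = N21546 := rfl
theorem L169187 : sm ge N21546 = N16863 := ded_19_2 (flp_c L122110) (flp_e L117227) L169185
theorem L169189 : sm gf N21546 = N16300 := ded_20_2 (flp_c L117235) (flp_f L117229) L169185
theorem L169191 : sm gc N16299 = N21547 := rfl
theorem L169193 : sm ga N21547 = N16300 := ded_8_1 (flp_c L117235) L117231 L169191
theorem L169195 : sm ge N21547 = N16864 := ded_19_2 (flp_c L122114) (flp_e L117233) L169191
theorem L169197 : sm gb N17392 = N21547 := ded_15_3 L169195 L163814 L124630
theorem L169199 : sm gg N16299 = N21548 := rfl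
theorem L169201 : sm ga N21548 = N16301 := ded_12_1 (flp_g L117241) L117231 L169199
theorem L169203 : sm ge N21548 = N16865 := ded_26_1 (flp_g L122118) (flp_e L117233) L169199
theorem L169205 : sm gf N21548 = N21177 := ded_29_2 L166883 L169179 L169183 L169199
theorem L169207 : sm gb N21548 = N21176 := ded_17_1 L166877 (flp_b L117091) L168957 (flp_b L168965) L169199
theorem L169209 : sm gd N16300 = N21549 := rfl
theorem L169211 : sm gb N21549 = N16317 := ded_14_1 (flp_d L117335) (flp_b L117239) L169209
theorem L169213 : sm gg N16300 = N21550 := rfl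
theorem L169215 : sm gc N21550 = N16301 := ded_21_1 (flp_g L117241) L117235 L169213
theorem L169217 : sm ge N21550 = N16867 := ded_26_1 (flp_g L122130) (flp_e L117237) L169213
theorem L169219 : sm gf N16301 = N21551 := rfl
theorem L169221 : sm ga N21551 = N21177 := ded_11_1 (flp_f L169205) L169201 L169219
theorem L169223 : sm ge N21551 = N16868 := ded_25_1 (flp_f L122134) (flp_e L117243) L169219
theorem L169225 : sm gg N21551 = N21545 := ded_29_3 (flp_a L169179) L117229 L117241 L169219
theorem L169227 : sm gc N16302 = N21552 := rfl
theorem L169229 : sm ga N21552 = N16303 := ded_8_1 (flp_c L117253) L117247 L169227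
theorem L169231 : sm ge N21552 = N16869 := ded_19_2 (flp_c L122140) (flp_e L117249) L169227
theorem L169233 : sm gf N21552 = N20119 := ded_20_2 (flp_c L158851) L117251 L169227
theorem L169235 : sm gb N16303 = N21553 := rfl
theorem L169237 : sm ge N21553 = N16870 := ded_15_2 (flp_b L122146) (flp_e L117255) L169235
theorem L169239 : sm gc N21553 = N16306 := ded_13_2 (flp_b L117271) (flp_c L96205) L96201 L117253 L169235
theorem L169241 : sm gd N16303 = N21554 := rfl
theorem L169243 : sm gf N16303 = N21555 := rfl
theorem L169245 : sm ga N21555 = N20119 := ded_11_1 (flp_f L169233) L169229 L169243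
theorem L169247 : sm gc N21555 = N16304 := ded_20_1 (flp_f L117257) L117253 L169243
theorem L169249 : sm ge N21555 = N16872 := ded_25_1 (flp_f L122152) (flp_e L117255) L169243
theorem L169251 : sm gg N21302 = N21555 := ded_21_0 L169247 (flp_g L117263) L167692
theorem L169253 : sm gg N16303 = N21556 := rfl
theorem L169255 : sm gc N21556 = N16305 := ded_21_1 (flp_g L117265) L117253 L169253
theorem L169257 : sm ge N21556 = N16873 := ded_26_1 (flp_g L122160) (flp_e L117255) L169253
theorem L169259 : sm ga N16306 = N21557 := rfl
theorem L169261 : sm ge N21557 = N16874 := ded_10_2 (flp_a L122164) (flp_e L117273) L169259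
theorem L169263 : sm gb N21483 = N21557 := ded_15_3 L169261 (flp_b L151301) (flp_e L168792)
theorem L169265 : sm gf N21484 = N21557 := ded_25_0 L169261 L151191 (flp_e L168796)
theorem L169267 : sm gd N16306 = N21558 := rfl
theorem L169269 : sm gb N21558 = N16307 := ded_14_1 (flp_d L117275) L117271 L169267
theorem L169271 : sm gf N16306 = N21559 := rfl
theorem L169273 : sm ga N21559 = N21484 := ded_11_1 L169265 (flp_a L169259) L169271
theorem L169275 : sm ge N21559 = N16876 := ded_25_1 (flp_f L122170) (flp_e L117273) L169271
theorem L169277 : sm gg N16306 = N21560 := rfl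
theorem L169279 : sm ge N21560 = N16877 := ded_26_1 (flp_g L122172) (flp_e L117273) L169277
theorem L169281 : sm gb N21560 = N16332 := ded_17_1 (flp_g L117423) (flp_b L96259) (flp_g L96211) L117271 L169277
theorem L169283 : sm gc N16307 = N21561 := rfl
theorem L169285 : sm ga N21561 = N16308 := ded_8_1 (flp_c L117281) (flp_a L117277) L169283
theorem L169287 : sm gg N21561 = N16333 := ded_21_2 (flp_c L117427) (flp_g L117279) L169283
theorem L169289 : sm gd N21370 = N21561 := ded_28_1 (flp_c L169283) (flp_d L117275) (flp_c L96205) (flp_d L95866) L116553 L168108 L168110 L168114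
theorem L169291 : sm ge N16307 = N21562 := rfl
theorem L169293 : sm ga N21562 = N16309 := ded_10_1 (flp_e L117285) (flp_a L117277) L169291
theorem L169295 : sm gg N21562 = N16334 := ded_26_2 (flp_e L117433) (flp_g L117279) L169291
theorem L169297 : sm gd N21562 = N16879 := ded_22_1 (flp_e L122184) (flp_d L97833) (flp_e L96209) L117275 L169291
theorem L169299 : sm gb N16308 = N21563 := rfl
theorem L169301 : sm gd N16308 = N21564 := rfl
theorem L169303 : sm ga N21564 = N21370 := ded_9_1 L169289 L169285 L169301
theorem L169305 : sm gg N21564 = N16339 := ded_24_2 (flp_d L117459) (flp_g L117283) L169301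
theorem L169307 : sm gc N21369 = N21564 := ded_28_0 (flp_d L169301) (flp_c L117281) (flp_d L96213) (flp_c L84741) (flp_d L84586) L95870 L116559 (flp_a L168110)
theorem L169309 : sm ge N16308 = N21565 := rfl
theorem L169311 : sm gc N21565 = N16309 := ded_19_1 (flp_e L117285) L117281 L169309
theorem L169313 : sm gg N21565 = N16340 := ded_26_2 (flp_e L117465) (flp_g L117283) L169309
theorem L169315 : sm gf N16308 = N21566 := rfl
theorem L169317 : sm gc N21566 = N16310 := ded_20_1 (flp_f L117291) L117281 L169315
theorem L169319 : sm gf N16309 = N21567 := rfl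
theorem L169321 : sm gd N21567 = N16884 := ded_23_1 (flp_f L122210) (flp_d L117289) L169319
theorem L169323 : sm ge N21567 = N16310 := ded_25_1 (flp_f L117291) L117285 L169319
theorem L169325 : sm gb N16310 = N21568 := rfl
theorem L169327 : sm gd N21568 = N16311 := ded_14_2 (flp_b L117295) (flp_d L117293) L169325
theorem L169329 : sm ga N16311 = N21569 := rfl
theorem L169331 : sm ge N21569 = N16886 := ded_10_2 (flp_a L122218) (flp_e L117297) L169329
theorem L169333 : sm gc N16311 = N21570 := rfl
theorem L169335 : sm ge N21570 = N16887 := ded_19_2 (flp_c L122220) (flp_e L117297) L169333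
theorem L169337 : sm gb N21570 = N16313 := ded_13_1 (flp_c L117307) (flp_b L96223) (flp_c L96219) L117295 L169333
theorem L169339 : sm gg N16311 = N21571 := rfl
theorem L169341 : sm ge N21571 = N16888 := ded_26_1 (flp_g L122224) (flp_e L117297) L169339
theorem L169343 : sm gc N16312 = N21572 := rfl
theorem L169345 : sm ga N21572 = N16313 := ded_8_1 (flp_c L117307) L117299 L169343
theorem L169347 : sm ge N21572 = N16889 := ded_19_2 (flp_c L122226) (flp_e L117301) L169343
theorem L169349 : sm gf N21572 = N16315 := ded_20_2 (flp_c L117319) (flp_f L117303) L169343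
theorem L169351 : sm gb N21572 = N19678 := ded_13_1 L155900 L107819 (flp_c L150910) L117305 L169343
theorem L169353 : sm gd N16313 = N21573 := rfl
theorem L169355 : sm gf N21573 = N16317 := ded_23_2 (flp_d L117335) (flp_f L117311) L169353
theorem L169357 : sm ge N21573 = N20892 := ded_22_2 (flp_d L164761) L163489 (flp_d L122232) (flp_e L117309) L169353
theorem L169359 : sm gg N16313 = N21574 := rfl
theorem L169361 : sm gc N21574 = N16314 := ded_21_1 (flp_g L117313) L117307 L169359
theorem L169363 : sm ge N21574 = N16891 := ded_26_1 (flp_g L122236) (flp_e L117309) L169359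
theorem L169365 : sm gd N16315 = N21575 := rfl
theorem L169367 : sm ga N21575 = N16317 := ded_9_1 (flp_d L117335) (flp_a L117321) L169365
theorem L169369 : sm gb N21575 = N20228 := ded_14_1 L159611 (flp_b L150938) L169365
theorem L169371 : sm gg N16315 = N21576 := rfl
theorem L169373 : sm ga N21576 = N16318 := ded_12_1 (flp_g L117337) (flp_a L117321) L169371
theorem L169375 : sm gc N21576 = N16316 := ded_21_1 (flp_g L117325) L117319 L169371
theorem L169377 : sm ge N21576 = N16894 := ded_26_1 (flp_g L122246) (flp_e L117323) L169371
theorem L169379 : sm gf N21576 = N21574 := ded_29_2 (flp_g L169359) (flp_a L169345) L169349 L169371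
theorem L169381 : sm gc N16317 = N21577 := rfl
theorem L169383 : sm ge N16317 = N21578 := rfl
theorem L169385 : sm gf N21578 = N20892 := ded_25_2 (flp_e L169357) L169355 L169383
theorem L169387 : sm gd N21578 = N16896 := ded_22_1 (flp_e L122256) (flp_d L97921) (flp_e L96235) L117335 L169383
theorem L169389 : sm gg N16317 = N21579 := rfl
theorem L169391 : sm gd N21579 = N16318 := ded_24_1 (flp_g L117337) L117335 L169389
theorem L169393 : sm gb N16318 = N21580 := rfl
theorem L169395 : sm ge N21580 = N16898 := ded_15_2 (flp_b L122262) (flp_e L117341) L169393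
theorem L169397 : sm gc N21580 = N19700 := ded_13_2 (flp_b L156080) L107927 (flp_b L96241) (flp_c L117339) L169393
theorem L169399 : sm gf N16318 = N21581 := rfl
theorem L169401 : sm ga N21581 = N21574 := ded_11_1 (flp_f L169379) L169373 L169399
theorem L169403 : sm gc N21581 = N16319 := ded_20_1 (flp_f L117343) (flp_c L117339) L169399
theorem L169405 : sm ge N21581 = N16899 := ded_25_1 (flp_f L122266) (flp_e L117341) L169399
theorem L169407 : sm gg N21581 = N21572 := ded_29_3 L169345 L117311 L117337 L169399
theorem L169409 : sm gb N16320 = N21582 := rfl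
theorem L169411 : sm ge N21582 = N16900 := ded_15_2 (flp_b L122274) (flp_e L117355) L169409
theorem L169413 : sm ga N16493 = N21582 := ded_10_3 L169411 L123966 (flp_e L118419)
theorem L169415 : sm gd N16320 = N21583 := rfl
theorem L169417 : sm ga N21583 = N16324 := ded_9_1 (flp_d L117379) (flp_a L117353) L169415
theorem L169419 : sm gc N18898 = N21583 := ded_28_0 (flp_d L169415) (flp_c L117351) L156826 (flp_c L104067) L89162 L89270 L104304 (flp_a L145214)
theorem L169421 : sm gf N16320 = N21584 := rfl
theorem L169423 : sm ga N21584 = N16325 := ded_11_1 (flp_f L117381) (flp_a L117353) L169421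
theorem L169425 : sm gc N21584 = N16321 := ded_20_1 (flp_f L117357) L117351 L169421
theorem L169427 : sm ge N21584 = N16902 := ded_25_1 (flp_f L122280) (flp_e L117355) L169421
theorem L169429 : sm gg N21584 = N17104 := ded_29_1 L163977 (flp_g L117387) (flp_a L117353) L169421
theorem L169431 : sm gg N16320 = N21585 := rfl
theorem L169433 : sm ga N21585 = N16326 := ded_12_1 (flp_g L117387) (flp_a L117353) L169431
theorem L169435 : sm gc N21585 = N16322 := ded_21_1 (flp_g L117363) L117351 L169431
theorem L169437 : sm ge N21585 = N16903 := ded_26_1 (flp_g L122286) (flp_e L117355) L169431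
theorem L169439 : sm gf N21182 = N21585 := ded_29_0 (flp_g L169431) L169421 L169429 (flp_a L166915)
theorem L169441 : sm ga N16323 = N21586 := rfl
theorem L169443 : sm gc N21586 = N16329 := ded_8_2 (flp_a L117411) (flp_c L117377) L169441
theorem L169445 : sm ge N21586 = N16904 := ded_10_2 (flp_a L122294) (flp_e L117375) L169441
theorem L169447 : sm gb N21586 = N16495 := ded_7_2 (flp_a L118431) (flp_b L96740) (flp_a L96732) L118417 L169413 (flp_b L169409) L117353 L117373 L169441
theorem L169449 : sm gd N16323 = N21587 := rfl
theorem L169451 : sm gb N21587 = N16324 := ded_14_1 (flp_d L117379) L117373 L169449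
theorem L169453 : sm gc N21587 = N18981 := ded_32_19 (flp_b L145706) L104687 (flp_c L104682) (flp_d L89482) (flp_c L39110) L78168 L18507 L69512 (flp_c L9319) (flp_d L19293) L78590 (flp_b L141189) L141191 (flp_c L5257) (flp_d L5123) L10128 L10130 L132594 (flp_c L9097) L4611 L4753 L4755 L4856 (flp_c L5725) L5727 L2983 (flp_b L1522) L893 L922 L140752 (flp_c L922) (flp_b L937) L750 (flp_d L1518) (flp_c L2983) (flp_d L5727) L5725 (flp_b L9435) (flp_d L9433) (flp_c L4753) (flp_d L4611) L9097 L64290 (flp_d L132594) (flp_c L10128) L5123 L5257 (flp_b L8809) L18119 (flp_c L78590) L19293 L9319 L81552 (flp_d L9095) L18761 L141593 (flp_c L21070) (flp_b L81271) (flp_e L10553) (flp_d L21819) (flp_c L45389) (flp_d L84972) (flp_c L84964) (flp_b L84775) (flp_d L84773) (flp_c L25062) (flp_d L24997) L84602 L84604 L95898 L116617 L117431 (flp_c L117427) (flp_b L117417) (flp_d L117415) (flp_c L117377) L169449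
theorem L169455 : sm gf N16323 = N21588 := rfl
theorem L169457 : sm gc N21588 = N16331 := ded_20_1 (flp_f L117419) (flp_c L117377) L169455
theorem L169459 : sm ge N21588 = N16906 := ded_25_1 (flp_f L122302) (flp_e L117375) L169455
theorem L169461 : sm gg N16323 = N21589 := rfl
theorem L169463 : sm gc N21589 = N16332 := ded_21_1 (flp_g L117423) (flp_c L117377) L169461
theorem L169465 : sm ge N21589 = N16907 := ded_26_1 (flp_g L122306) (flp_e L117375) L169461
theorem L169467 : sm ge N16324 = N21590 := rfl
theorem L169469 : sm gc N21590 = N18902 := ded_19_1 (flp_e L145232) (flp_c L156844) L169467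
theorem L169471 : sm gd N21590 = N16909 := ded_22_1 (flp_e L122312) (flp_d L97949) (flp_e L96249) L117379 L169467
theorem L169473 : sm gf N16324 = N21591 := rfl
theorem L169475 : sm gc N21591 = N18887 := ded_20_1 L145162 (flp_c L156844) L169473
theorem L169477 : sm gd N21591 = N16325 := ded_23_1 (flp_f L117381) L117379 L169473
theorem L169479 : sm gg N16324 = N21592 := rfl
theorem L169481 : sm gc N21592 = N18903 := ded_21_1 (flp_g L145238) (flp_c L156844) L169479
theorem L169483 : sm gd N21592 = N16326 := ded_24_1 (flp_g L117387) L117379 L169479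
theorem L169485 : sm gb N16325 = N21593 := rfl
theorem L169487 : sm ge N21593 = N16912 := ded_15_2 (flp_b L122322) (flp_e L117385) L169485
theorem L169489 : sm gb N16326 = N21594 := rfl
theorem L169491 : sm ge N21594 = N16913 := ded_15_2 (flp_b L122324) (flp_e L117391) L169489
theorem L169493 : sm gc N16327 = N21595 := rfl
theorem L169495 : sm ge N21595 = N16915 := ded_19_2 (flp_c L122334) (flp_e L117395) L169493
theorem L169497 : sm gf N21595 = N16337 := ded_20_2 (flp_c L117451) (flp_f L117397) L169493
theorem L169499 : sm gg N21595 = N21116 := ded_21_2 (flp_c L166452) (flp_g L117399) L169493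
theorem L169501 : sm gb N16329 = N21596 := rfl
theorem L169503 : sm ge N21596 = N16916 := ded_15_2 (flp_b L122340) (flp_e L117413) L169501
theorem L169505 : sm gc N21596 = N16501 := ded_13_2 (flp_b L118465) (flp_c L118433) (flp_b L169447) L169443 L169501
theorem L169507 : sm ga N21596 = N16468 := ded_7_1 (flp_b L118276) (flp_a L96651) (flp_b L84952) L25224 (flp_b L25066) (flp_a L84761) L96259 L117411 L169501
theorem L169509 : sm gd N16329 = N21597 := rfl
theorem L169511 : sm ga N21597 = N16330 := ded_9_1 (flp_d L117415) L117411 L169509
theorem L169513 : sm gf N16329 = N21598 := rfl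
theorem L169515 : sm ga N21598 = N16331 := ded_11_1 (flp_f L117419) L117411 L169513
theorem L169517 : sm ge N21598 = N16918 := ded_25_1 (flp_f L122348) (flp_e L117413) L169513
theorem L169519 : sm gg N16329 = N21599 := rfl
theorem L169521 : sm ga N21599 = N16332 := ded_12_1 (flp_g L117423) L117411 L169519
theorem L169523 : sm ge N21599 = N16919 := ded_26_1 (flp_g L122352) (flp_e L117413) L169519
theorem L169525 : sm gc N16330 = N21600 := rfl
theorem L169527 : sm ge N16330 = N21601 := rfl
theorem L169529 : sm gb N21601 = N16334 := ded_15_1 (flp_e L117433) (flp_b L117417) L169527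
theorem L169531 : sm gd N21601 = N16921 := ded_22_1 (flp_e L122358) (flp_d L97991) (flp_e L96261) L117415 L169527
theorem L169533 : sm gf N16330 = N21602 := rfl
theorem L169535 : sm gd N21602 = N16331 := ded_23_1 (flp_f L117419) L117415 L169533
theorem L169537 : sm gg N16330 = N21603 := rfl
theorem L169539 : sm gd N21603 = N16332 := ded_24_1 (flp_g L117423) L117415 L169537
theorem L169541 : sm gb N16331 = N21604 := rfl
theorem L169543 : sm ge N21604 = N16924 := ded_15_2 (flp_b L122370) (flp_e L117421) L169541
theorem L169545 : sm gf N21604 = N16336 := ded_16_2 (flp_b L117447) (flp_f L96267) L96259 L117419 L169541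
theorem L169547 : sm gg N16331 = N21605 := rfl
theorem L169549 : sm ge N21605 = N16925 := ded_26_1 (flp_g L122374) (flp_e L117421) L169547
theorem L169551 : sm gf N21599 = N21605 := ded_29_0 (flp_g L169547) (flp_f L117419) L117423 (flp_a L169521)
theorem L169553 : sm gf N16332 = N21606 := rfl
theorem L169555 : sm ga N21606 = N21605 := ded_11_1 (flp_f L169551) L169521 L169553
theorem L169557 : sm ge N21606 = N16926 := ded_25_1 (flp_f L122378) (flp_e L117425) L169553
theorem L169559 : sm gg N21606 = N21598 := ded_29_3 L169515 (flp_f L117419) L117423 L169553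
theorem L169561 : sm gb N16333 = N21607 := rfl
theorem L169563 : sm gd N21607 = N21392 := ded_14_2 (flp_b L168224) L117431 L169561
theorem L169565 : sm ge N16333 = N21608 := rfl
theorem L169567 : sm ga N21608 = N16340 := ded_10_1 (flp_e L117465) (flp_a L117429) L169565
theorem L169569 : sm gc N21608 = N16334 := ded_19_1 (flp_e L117433) L117427 L169565
theorem L169571 : sm gf N16333 = N21609 := rfl
theorem L169573 : sm ga N21609 = N16341 := ded_11_1 (flp_f L117469) (flp_a L117429) L169571
theorem L169575 : sm gc N21609 = N16335 := ded_20_1 (flp_f L117439) L117427 L169571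
theorem L169577 : sm gd N21609 = N21394 := ded_23_1 (flp_f L168231) L117431 L169571
theorem L169579 : sm gg N21566 = N21609 := ded_29_1 (flp_f L169571) (flp_g L169287) L169285 L169315
theorem L169581 : sm gf N16334 = N21610 := rfl
theorem L169583 : sm ga N21610 = N16342 := ded_11_1 (flp_f L117473) (flp_a L117435) L169581
theorem L169585 : sm gd N21610 = N16930 := ded_23_1 (flp_f L122404) (flp_d L117437) L169581
theorem L169587 : sm ge N21610 = N16335 := ded_25_1 (flp_f L117439) L117433 L169581
theorem L169589 : sm gg N21567 = N21610 := ded_29_1 (flp_f L169581) (flp_g L169295) L169293 L169319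
theorem L169591 : sm gb N16335 = N21611 := rfl
theorem L169593 : sm gd N21611 = N16336 := ded_14_2 (flp_b L117447) (flp_d L117443) L169591
theorem L169595 : sm gc N16336 = N21612 := rfl
theorem L169597 : sm ge N21612 = N16931 := ded_19_2 (flp_c L122412) (flp_e L117449) L169595
theorem L169599 : sm gb N21612 = N16337 := ded_13_1 (flp_c L117451) (flp_b L96277) (flp_c L96271) L117447 L169595
theorem L169601 : sm gg N16336 = N21613 := rfl
theorem L169603 : sm ge N21613 = N16932 := ded_26_1 (flp_g L122416) (flp_e L117449) L169601
theorem L169605 : sm gb N21613 = N21571 := ded_17_1 (flp_g L169339) (flp_b L117295) L96275 L117447 L169601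
theorem L169607 : sm gd N16337 = N21614 := rfl
theorem L169609 : sm ga N16338 = N21615 := rfl
theorem L169611 : sm gc N21615 = N16478 := ded_8_2 (flp_a L118330) (flp_c L117457) L169609
theorem L169613 : sm gd N16338 = N21616 := rfl
theorem L169615 : sm gb N21616 = N16339 := ded_14_1 (flp_d L117459) L117455 L169613
theorem L169617 : sm ge N16338 = N21617 := rfl
theorem L169619 : sm gb N21617 = N16340 := ded_15_1 (flp_e L117465) L117455 L169617
theorem L169621 : sm gc N21617 = N16479 := ded_19_1 (flp_e L118334) (flp_c L117457) L169617
theorem L169623 : sm gf N16338 = N21618 := rfl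
theorem L169625 : sm gc N21618 = N16480 := ded_20_1 (flp_f L118340) (flp_c L117457) L169623
theorem L169627 : sm gg N16338 = N21619 := rfl
theorem L169629 : sm gc N21619 = N16481 := ded_21_1 (flp_g L118346) (flp_c L117457) L169627
theorem L169631 : sm ge N16339 = N21620 := rfl
theorem L169633 : sm ga N21620 = N21393 := ded_10_1 (flp_e L168227) (flp_a L117461) L169631
theorem L169635 : sm gc N21620 = N21388 := ded_19_1 (flp_e L168208) L117463 L169631
theorem L169637 : sm gf N16339 = N21621 := rfl
theorem L169639 : sm ga N21621 = N21394 := ded_11_1 (flp_f L168231) (flp_a L117461) L169637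
theorem L169641 : sm gc N21621 = N21389 := ded_20_1 (flp_f L168212) L117463 L169637
theorem L169643 : sm gd N21621 = N16341 := ded_23_1 (flp_f L117469) L117459 L169637
theorem L169645 : sm gd N16340 = N21622 := rfl
theorem L169647 : sm gf N16340 = N21623 := rfl
theorem L169649 : sm gc N21623 = N16342 := ded_20_1 (flp_f L117473) (flp_c L117467) L169647
theorem L169651 : sm ge N21623 = N16341 := ded_25_1 (flp_f L117469) L117465 L169647
theorem L169653 : sm gb N16341 = N21624 := rfl
theorem L169655 : sm gg N16341 = N21625 := rfl
theorem L169657 : sm ga N21625 = N21566 := ded_12_1 L169579 L169573 L169655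
theorem L169659 : sm gc N21625 = N16343 := ded_21_1 (flp_g L117479) (flp_c L117471) L169655
theorem L169661 : sm gf N21561 = N21625 := ded_29_0 (flp_g L169655) (flp_f L117469) (flp_g L117283) (flp_a L169285)
theorem L169663 : sm gg N16342 = N21626 := rfl
theorem L169665 : sm ga N21626 = N21567 := ded_12_1 L169589 L169583 L169663
theorem L169667 : sm gd N21626 = N16945 := ded_24_1 (flp_g L122476) (flp_d L117475) L169663
theorem L169669 : sm ge N21626 = N16343 := ded_26_1 (flp_g L117479) (flp_e L117477) L169663
theorem L169671 : sm gf N21562 = N21626 := ded_29_0 (flp_g L169663) (flp_f L117473) (flp_g L117287) (flp_a L169293)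
theorem L169673 : sm gb N16343 = N21627 := rfl
theorem L169675 : sm gd N21627 = N16344 := ded_14_2 (flp_b L117487) (flp_d L117483) L169673
theorem L169677 : sm ga N16344 = N21628 := rfl
theorem L169679 : sm ge N21628 = N16947 := ded_10_2 (flp_a L122488) (flp_e L117489) L169677
theorem L169681 : sm gc N16344 = N21629 := rfl
theorem L169683 : sm ge N21629 = N16948 := ded_19_2 (flp_c L122490) (flp_e L117489) L169681
theorem L169685 : sm gb N21629 = N16346 := ded_13_1 (flp_c L117497) (flp_b L96303) (flp_c L96297) L117487 L169681
theorem L169687 : sm gf N16344 = N21630 := rfl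
theorem L169689 : sm ge N21630 = N16949 := ded_25_1 (flp_f L122494) (flp_e L117489) L169687
theorem L169691 : sm gb N21630 = N21559 := ded_16_1 (flp_f L169271) (flp_b L117271) L96301 L117487 L169687
theorem L169693 : sm gc N16345 = N21631 := rfl
theorem L169695 : sm ga N21631 = N16346 := ded_8_1 (flp_c L117497) L117491 L169693
theorem L169697 : sm ge N21631 = N16950 := ded_19_2 (flp_c L122498) (flp_e L117493) L169693
theorem L169699 : sm gf N21631 = N20986 := ded_20_2 L165460 (flp_f L160540) L169693
theorem L169701 : sm gg N21631 = N20367 := ded_21_2 (flp_c L160520) (flp_g L117495) L169693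
theorem L169703 : sm gd N20969 = N21631 := ded_9_0 L169695 (flp_d L163838) (flp_a L165322)
theorem L169705 : sm gf N16346 = N21632 := rfl
theorem L169707 : sm ga N21632 = N20986 := ded_11_1 (flp_f L169699) L169695 L169705
theorem L169709 : sm gc N21632 = N16347 := ded_20_1 (flp_f L117503) L117497 L169705
theorem L169711 : sm gd N21632 = N20995 := ded_23_1 L165552 L163838 L169705
theorem L169713 : sm ge N21632 = N16952 := ded_25_1 (flp_f L122508) (flp_e L117499) L169705
theorem L169715 : sm gg N21632 = N21327 := ded_29_3 L167832 (flp_f L160528) (flp_g L117501) L169705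
theorem L169717 : sm gc N16349 = N21633 := rfl
theorem L169719 : sm ga N21633 = N20110 := ded_8_1 (flp_c L158791) (flp_a L117525) L169717
theorem L169721 : sm ge N21633 = N16954 := ded_19_2 (flp_c L122522) (flp_e L117519) L169717
theorem L169723 : sm gf N21633 = N21511 := ded_20_2 (flp_c L168967) (flp_f L117521) L169717
theorem L169725 : sm gg N21633 = N21074 := ded_21_2 (flp_c L166150) (flp_g L117523) L169717
theorem L169727 : sm gb N21633 = N20237 := ded_13_1 (flp_c L159687) L159691 L110961 L117517 L169717
theorem L169729 : sm gf N16350 = N21634 := rfl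
theorem L169731 : sm gc N21634 = N18426 := ded_20_1 (flp_f L130320) (flp_c L117531) L169729
theorem L169733 : sm gd N21634 = N16351 := ded_23_1 (flp_f L117539) L117527 L169729
theorem L169735 : sm gb N16351 = N21635 := rfl
theorem L169737 : sm ge N21635 = N16959 := ded_15_2 (flp_b L122545) (flp_e L117543) L169735
theorem L169739 : sm gf N21635 = N16356 := ded_16_2 (flp_b L117569) (flp_f L96335) L96327 L117539 L169735
theorem L169741 : sm gg N16351 = N21636 := rfl
theorem L169743 : sm ga N21636 = N19300 := ded_12_1 L160756 L160750 L169741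
theorem L169745 : sm gc N21636 = N16370 := ded_21_1 (flp_g L117659) (flp_c L117541) L169741
theorem L169747 : sm ge N21636 = N16960 := ded_26_1 (flp_g L122549) (flp_e L117543) L169741
theorem L169749 : sm gf N19298 = N21636 := ded_29_0 (flp_g L169741) (flp_f L117539) (flp_g L150434) (flp_a L153117)
theorem L169751 : sm gb N21116 = N21636 := ded_13_5 L169745 (flp_b L151262) L115413 L115417 L166452
theorem L169753 : sm gf N16353 = N21637 := rfl
theorem L169755 : sm gc N21637 = N18878 := ded_20_1 (flp_f L145106) (flp_c L117553) L169753
theorem L169757 : sm gd N21637 = N16963 := ded_23_1 (flp_f L122567) (flp_d L117555) L169753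
theorem L169759 : sm ge N21637 = N16354 := ded_25_1 (flp_f L117557) L117551 L169753
theorem L169761 : sm gb N16354 = N21638 := rfl
theorem L169763 : sm gd N21638 = N16356 := ded_14_2 (flp_b L117569) (flp_d L117561) L169761
theorem L169765 : sm gg N16354 = N21639 := rfl
theorem L169767 : sm gc N21639 = N18880 := ded_21_1 (flp_g L145118) (flp_c L117559) L169765
theorem L169769 : sm gd N21639 = N16357 := ded_24_1 (flp_g L117573) (flp_d L117561) L169765
theorem L169771 : sm gf N20339 = N21639 := ded_29_0 (flp_g L169765) (flp_f L117557) L117563 (flp_a L160334)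
theorem L169773 : sm gf N16355 = N21640 := rfl
theorem L169775 : sm ga N21640 = N21639 := ded_11_1 (flp_f L169771) L160334 L169773
theorem L169777 : sm gc N21640 = N18772 := ded_20_1 (flp_f L144507) (flp_c L117565) L169773
theorem L169779 : sm gd N21640 = N16359 := ded_23_1 (flp_f L117585) (flp_d L117567) L169773
theorem L169781 : sm ge N21640 = N19004 := ded_25_1 (flp_f L145833) (flp_e L150003) L169773
theorem L169783 : sm gg N21640 = N20338 := ded_29_3 L160326 (flp_f L117557) L117563 L169773
theorem L169785 : sm ga N16356 = N21641 := rfl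
theorem L169787 : sm ge N21641 = N16969 := ded_10_2 (flp_a L122601) (flp_e L117571) L169785
theorem L169789 : sm gc N16356 = N21642 := rfl
theorem L169791 : sm ge N21642 = N16970 := ded_19_2 (flp_c L122603) (flp_e L117571) L169789
theorem L169793 : sm gb N21642 = N16361 := ded_13_1 (flp_c L117603) (flp_b L96347) (flp_c L96337) L117569 L169789
theorem L169795 : sm gg N16356 = N21643 := rfl
theorem L169797 : sm ge N21643 = N16971 := ded_26_1 (flp_g L122607) (flp_e L117571) L169795
theorem L169799 : sm gb N16357 = N21644 := rfl
theorem L169801 : sm ge N21644 = N16972 := ded_15_2 (flp_b L122609) (flp_e L117577) L169799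
theorem L169803 : sm gb N16359 = N21645 := rfl
theorem L169805 : sm ge N21645 = N16975 := ded_15_2 (flp_b L122615) (flp_e L117591) L169803
theorem L169807 : sm gf N21645 = N19313 := ded_16_2 (flp_b L153203) (flp_f L105698) L150005 L117585 L169803
theorem L169809 : sm gc N16360 = N21646 := rfl
theorem L169811 : sm ga N21646 = N16361 := ded_8_1 (flp_c L117603) L117595 L169809
theorem L169813 : sm ge N21646 = N16976 := ded_19_2 (flp_c L122617) (flp_e L117597) L169809
theorem L169815 : sm gf N21646 = N16381 := ded_20_2 (flp_c L117731) (flp_f L117599) L169809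
theorem L169817 : sm gg N21646 = N20222 := ded_21_2 (flp_c L159579) L117601 L169809
theorem L169819 : sm gd N16361 = N21647 := rfl
theorem L169821 : sm gf N21647 = N16382 := ded_23_2 (flp_d L117737) (flp_f L117607) L169819
theorem L169823 : sm gg N16361 = N21648 := rfl
theorem L169825 : sm ga N21648 = N20222 := ded_12_1 (flp_g L169817) L169811 L169823
theorem L169827 : sm gc N21648 = N16362 := ded_21_1 (flp_g L117609) L117603 L169823
theorem L169829 : sm ge N21648 = N16978 := ded_26_1 (flp_g L122629) (flp_e L117605) L169823
theorem L169831 : sm gf N21489 = N21648 := ded_29_0 (flp_g L169823) L117607 L117739 (flp_a L168830)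
theorem L169833 : sm gc N16363 = N21649 := rfl
theorem L169835 : sm ga N21649 = N20200 := ded_8_1 L159447 (flp_a L117625) L169833
theorem L169837 : sm ge N21649 = N16979 := ded_19_2 (flp_c L122637) (flp_e L117621) L169833
theorem L169839 : sm gg N21649 = N20196 := ded_21_2 (flp_c L159423) (flp_g L117623) L169833
theorem L169841 : sm gb N16364 = N21650 := rfl
theorem L169843 : sm ge N21650 = N16984 := ded_15_2 (flp_b L122672) (flp_e L117631) L169841
theorem L169845 : sm gf N21650 = N21650 := ded_16_2 (flp_b L169841) (flp_f L117627) L96371 L117627 L169841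
theorem L169846 : sm gf N16366 = N21651 := rfl
theorem L169848 : sm gd N21651 = N16991 := ded_23_1 (flp_f L122704) (flp_d L117643) L169846
theorem L169850 : sm ge N21651 = N16367 := ded_25_1 (flp_f L117645) L117639 L169846
theorem L169852 : sm gb N16367 = N21652 := rfl
theorem L169854 : sm gd N21652 = N16369 := ded_14_2 (flp_b L117653) (flp_d L117647) L169852
theorem L169856 : sm gf N21652 = N16376 := ded_16_2 (flp_b L117703) (flp_f L96396) (flp_b L96374) L117645 L169852
theorem L169858 : sm gg N16367 = N21653 := rfl
theorem L169860 : sm gc N21653 = N18365 := ded_21_1 L130121 L130117 L169858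
theorem L169862 : sm gd N21653 = N16370 := ded_24_1 (flp_g L117659) (flp_d L117647) L169858
theorem L169864 : sm gf N18364 = N21653 := ded_29_0 (flp_g L169858) (flp_f L117645) L117649 (flp_a L129926)
theorem L169866 : sm gb N21115 = N21653 := ded_14_3 L169862 (flp_b L151262) (flp_d L166450)
theorem L169868 : sm gf N16368 = N21654 := rfl
theorem L169870 : sm ga N21654 = N21653 := ded_11_1 (flp_f L169864) L129926 L169868
theorem L169872 : sm gc N21654 = N18395 := ded_20_1 (flp_f L130145) (flp_c L129922) L169868
theorem L169874 : sm gd N21654 = N16371 := ded_23_1 (flp_f L117665) (flp_d L117651) L169868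
theorem L169876 : sm gg N21654 = N18393 := ded_29_3 L130125 (flp_f L117645) L117649 L169868
theorem L169878 : sm ga N16369 = N21655 := rfl
theorem L169880 : sm ge N21655 = N16996 := ded_10_2 (flp_a L122732) (flp_e L117655) L169878
theorem L169882 : sm gf N21655 = N16377 := ded_11_2 (flp_a L117707) (flp_f L117657) L169878
theorem L169884 : sm gc N16369 = N21656 := rfl
theorem L169886 : sm ge N21656 = N16997 := ded_19_2 (flp_c L122736) (flp_e L117655) L169884
theorem L169888 : sm gf N21656 = N16378 := ded_20_2 (flp_c L117711) (flp_f L117657) L169884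
theorem L169890 : sm gb N16371 = N21657 := rfl
theorem L169892 : sm ge N21657 = N17000 := ded_15_2 (flp_b L122744) (flp_e L117669) L169890
theorem L169894 : sm gf N16372 = N21658 := rfl
theorem L169896 : sm gd N21658 = N21420 := ded_23_1 (flp_f L168382) (flp_d L117675) L169894
theorem L169898 : sm gg N16372 = N21659 := rfl
theorem L169900 : sm ga N21659 = N20827 := ded_12_1 (flp_g L164272) (flp_a L149594) L169898
theorem L169902 : sm gc N21659 = N20824 := ded_21_1 L164242 L130111 L169898
theorem L169904 : sm gd N21659 = N21419 := ded_24_1 (flp_g L168380) (flp_d L117675) L169898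
theorem L169906 : sm ge N21659 = N19176 := ded_26_1 L152304 L148542 L169898
theorem L169908 : sm gb N21659 = N18861 := ded_17_1 (flp_g L145014) (flp_b L149001) L116291 L117673 L169898
theorem L169910 : sm gb N16374 = N21660 := rfl
theorem L169912 : sm gd N21660 = N21422 := ded_14_2 (flp_b L168395) (flp_d L117689) L169910
theorem L169914 : sm gb N16375 = N21661 := rfl
theorem L169916 : sm gd N21661 = N17008 := ded_14_2 (flp_b L122782) (flp_d L117697) L169914
theorem L169918 : sm ge N21661 = N16376 := ded_15_2 (flp_b L117703) (flp_e L117699) L169914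
theorem L169920 : sm ga N16376 = N21662 := rfl
theorem L169922 : sm gd N21662 = N16377 := ded_9_2 (flp_a L117707) (flp_d L117705) L169920
theorem L169924 : sm gc N16376 = N21663 := rfl
theorem L169926 : sm gg N16376 = N21664 := rfl
theorem L169928 : sm gd N21664 = N16379 := ded_24_1 (flp_g L117717) (flp_d L117705) L169926
theorem L169930 : sm gb N21664 = N21299 := ded_17_1 (flp_g L167671) (flp_b L116330) L96402 L117703 L169926
theorem L169932 : sm gb N16377 = N21665 := rfl
theorem L169934 : sm ge N21665 = N17012 := ded_15_2 (flp_b L122798) (flp_e L117709) L169932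
theorem L169936 : sm gc N16377 = N21666 := rfl
theorem L169938 : sm ga N21666 = N16378 := ded_8_1 (flp_c L117711) L117707 L169936
theorem L169940 : sm ge N21666 = N17013 := ded_19_2 (flp_c L122800) (flp_e L117709) L169936
theorem L169942 : sm gg N16377 = N21667 := rfl
theorem L169944 : sm ga N21667 = N16379 := ded_12_1 (flp_g L117717) L117707 L169942
theorem L169946 : sm ge N21667 = N17014 := ded_26_1 (flp_g L122804) (flp_e L117709) L169942
theorem L169948 : sm gf N21667 = N21181 := ded_29_2 L166911 L169878 L169882 L169942
theorem L169950 : sm gb N21178 = N21667 := ded_15_3 L169946 L151250 (flp_e L166887)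
theorem L169952 : sm gd N16378 = N21668 := rfl
theorem L169954 : sm gb N21668 = N16382 := ded_14_1 (flp_d L117737) (flp_b L117715) L169952
theorem L169956 : sm gg N16378 = N21669 := rfl
theorem L169958 : sm gc N21669 = N16379 := ded_21_1 (flp_g L117717) L117711 L169956
theorem L169960 : sm ge N21669 = N17016 := ded_26_1 (flp_g L122814) (flp_e L117713) L169956
theorem L169962 : sm gf N16379 = N21670 := rfl
theorem L169964 : sm ga N21670 = N21181 := ded_11_1 (flp_f L169948) L169944 L169962
theorem L169966 : sm ge N21670 = N17017 := ded_25_1 (flp_f L122818) (flp_e L117719) L169962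
theorem L169968 : sm gg N21670 = N21655 := ded_29_3 (flp_a L169878) L117657 L117717 L169962
theorem L169970 : sm gb N16402 = N21670 := ded_7_0 L169964 (flp_b L166907) L115673 L115698 L150715 (flp_b L95756) (flp_a L84849) L96482 L117841
theorem L169972 : sm gc N16380 = N21671 := rfl
theorem L169974 : sm ge N21671 = N17018 := ded_19_2 (flp_c L122824) (flp_e L117725) L169972
theorem L169976 : sm gf N21671 = N21073 := ded_20_2 L166146 L117729 L169972
theorem L169978 : sm gg N21671 = N21472 := ded_21_2 (flp_c L168708) (flp_g L117727) L169972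
theorem L169980 : sm gb N21671 = N21598 := ded_30_2 L169515 (flp_f L117419) (flp_c L117377) (flp_b L117373) (flp_a L117353) L169421 L169425 (flp_b L159063) L159055 (flp_f L155092) L155088 (flp_b L108021) (flp_a L156264) (flp_f L156272) L156244 L160414 L160420 L117729 L169972
theorem L169982 : sm gb N16381 = N21672 := rfl
theorem L169984 : sm ge N21672 = N17019 := ded_15_2 (flp_b L122830) (flp_e L117735) L169982
theorem L169986 : sm gc N21672 = N21598 := ded_13_2 (flp_b L169980) (flp_c L169972) (flp_b L117723) L117731 L169982
theorem L169988 : sm ga N21672 = N21588 := ded_30_3 (flp_f L169455) L117377 (flp_b L96259) L84761 L84777 L84779 L25072 (flp_a L45329) (flp_f L45327) L45321 L92875 L102080 L96335 L96337 L96347 L117595 L117599 L117731 L169982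
theorem L169990 : sm gf N21586 = N21672 := ded_25_0 L169984 (flp_f L122838) (flp_e L169445)
theorem L169992 : sm gd N16381 = N21673 := rfl
theorem L169994 : sm ga N21673 = N16382 := ded_9_1 (flp_d L117737) (flp_a L117733) L169992
theorem L169996 : sm gc N16382 = N21674 := rfl
theorem L169998 : sm ge N16382 = N21675 := rfl
theorem L170000 : sm gd N21675 = N17022 := ded_22_1 (flp_e L122846) (flp_d L98286) (flp_e L96414) L117737 L169998
theorem L170002 : sm gg N16382 = N21676 := rfl
theorem L170004 : sm gd N21676 = N16383 := ded_24_1 (flp_g L117739) L117737 L170002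
theorem L170006 : sm gb N16383 = N21677 := rfl
theorem L170008 : sm ge N21677 = N17024 := ded_15_2 (flp_b L122852) (flp_e L117743) L170006
theorem L170010 : sm gc N21677 = N21309 := ded_13_2 (flp_b L167730) L116369 (flp_b L96420) (flp_c L117741) L170006
theorem L170012 : sm gd N16384 = N21678 := rfl
theorem L170014 : sm ga N21678 = N16385 := ded_9_1 (flp_d L117749) L117745 L170012
theorem L170016 : sm gc N21678 = N20467 := ded_28_6 (flp_d L161104) (flp_a L161070) (flp_c L161068) (flp_d L111369) L93077 (flp_d L96697) (flp_c L117747) L170012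
theorem L170018 : sm gf N16384 = N21679 := rfl
theorem L170020 : sm ga N21679 = N16387 := ded_11_1 (flp_f L117759) L117745 L170018
theorem L170022 : sm gc N21679 = N16397 := ded_20_1 L117821 (flp_c L117747) L170018
theorem L170024 : sm gg N16384 = N21680 := rfl
theorem L170026 : sm ga N21680 = N16388 := ded_12_1 (flp_g L117763) L117745 L170024
theorem L170028 : sm gc N21680 = N16484 := ded_21_1 (flp_g L118362) (flp_c L117747) L170024
theorem L170030 : sm ge N21680 = N18251 := ded_26_1 L149711 L150770 L170024
theorem L170032 : sm gc N16385 = N21681 := rfl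
theorem L170034 : sm ga N21681 = N20467 := ded_8_1 (flp_c L170016) L170014 L170032
theorem L170036 : sm gb N21681 = N21407 := ded_13_1 (flp_c L168312) L116673 L96430 (flp_b L117751) L170032
theorem L170038 : sm gd N21681 = N20461 := ded_28_7 L161070 (flp_c L111389) (flp_d L93081) (flp_c L79741) (flp_d L84980) (flp_c L96424) L117749 L170032
theorem L170040 : sm ge N16385 = N21682 := rfl
theorem L170042 : sm gb N21682 = N16389 := ded_15_1 (flp_e L117767) (flp_b L117751) L170040
theorem L170044 : sm gd N21682 = N18768 := ded_22_1 L144487 (flp_d L148942) (flp_e L117753) L117749 L170040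
theorem L170046 : sm gg N18743 = N21682 := ded_17_0 L170042 L149699 (flp_b L104021) (flp_g L103867) L144355
theorem L170048 : sm gf N16385 = N21683 := rfl
theorem L170050 : sm gd N21683 = N16387 := ded_23_1 (flp_f L117759) L117749 L170048
theorem L170052 : sm gg N16385 = N21684 := rfl
theorem L170054 : sm gd N21684 = N16388 := ded_24_1 (flp_g L117763) L117749 L170052
theorem L170056 : sm ge N21684 = N18743 := ded_26_1 L170046 (flp_e L170040) L170052
theorem L170058 : sm gb N21684 = N18196 := ded_17_1 L128817 (flp_b L148981) L116310 (flp_b L117751) L170052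
theorem L170060 : sm gf N16386 = N21685 := rfl
theorem L170062 : sm gc N21685 = N16395 := ded_20_1 L117805 (flp_c L117757) L170060
theorem L170064 : sm gd N21685 = N19081 := ded_23_1 (flp_f L151712) (flp_d L148942) L170060
theorem L170066 : sm ge N21685 = N16387 := ded_25_1 (flp_f L117759) L117753 L170060
theorem L170068 : sm gg N21685 = N19115 := ded_29_3 (flp_a L151912) (flp_f L129142) (flp_g L148944) L170060
theorem L170070 : sm gb N21685 = N19057 := ded_16_1 (flp_f L151610) (flp_b L151590) (flp_f L117783) (flp_b L117755) L170060
theorem L170072 : sm gb N16387 = N21686 := rfl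
theorem L170074 : sm ge N21686 = N19057 := ded_15_2 (flp_b L170070) L170066 L170072
theorem L170076 : sm gc N21686 = N16393 := ded_13_2 (flp_b L117789) L96450 L96458 (flp_c L117761) L170072
theorem L170078 : sm gf N21686 = N16393 := ded_16_2 (flp_b L117789) (flp_f L96448) L96422 L117759 L170072
theorem L170080 : sm gg N21686 = N18750 := ded_31_3 (flp_f L144387) (flp_b L103887) (flp_g L89206) (flp_f L89200) L89194 L89198 L89218 L89222 L102155 (flp_f L102162) (flp_b L149715) (flp_g L117763) L117759 L170072
theorem L170082 : sm gg N16387 = N21687 := rfl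
theorem L170084 : sm gc N21687 = N16398 := ded_21_1 (flp_g L117823) (flp_c L117761) L170082
theorem L170086 : sm ge N21687 = N19115 := ded_26_1 (flp_g L170068) L170066 L170082
theorem L170088 : sm gf N21680 = N21687 := ded_29_0 (flp_g L170082) (flp_f L117759) L117763 (flp_a L170026)
theorem L170090 : sm gb N21687 = N18819 := ded_17_1 (flp_g L144775) (flp_b L144395) (flp_g L170080) (flp_b L170072) L170082
theorem L170092 : sm gf N16388 = N21688 := rfl
theorem L170094 : sm ga N21688 = N21687 := ded_11_1 (flp_f L170088) L170026 L170092
theorem L170096 : sm gc N21688 = N16486 := ded_20_1 (flp_f L118377) (flp_c L117765) L170092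
theorem L170098 : sm ge N21688 = N18253 := ded_25_1 (flp_f L129142) (flp_e L149717) L170092
theorem L170100 : sm gg N21688 = N21679 := ded_29_3 L170020 (flp_f L117759) L117763 L170092
theorem L170102 : sm gf N16389 = N21689 := rfl
theorem L170104 : sm ga N21689 = N21421 := ded_11_1 (flp_f L168385) (flp_a L117769) L170102
theorem L170106 : sm gc N21689 = N21409 := ded_20_1 (flp_f L168322) L149703 L170102
theorem L170108 : sm gd N21689 = N18868 := ded_23_1 (flp_f L145054) (flp_d L149697) L170102
theorem L170110 : sm ge N21689 = N16390 := ded_25_1 (flp_f L117773) L117767 L170102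
theorem L170112 : sm gb N16390 = N21690 := rfl
theorem L170114 : sm gd N21690 = N16393 := ded_14_2 (flp_b L117789) (flp_d L117779) L170112
theorem L170116 : sm gb N16394 = N21691 := rfl
theorem L170118 : sm ga N16395 = N21692 := rfl
theorem L170120 : sm gd N21692 = N17036 := ded_9_2 (flp_a L122909) (flp_d L117801) L170118
theorem L170122 : sm ge N21692 = N16397 := ded_10_2 (flp_a L117817) (flp_e L117803) L170118
theorem L170124 : sm gf N21692 = N16483 := ded_11_2 L118358 (flp_f L117805) L170118
theorem L170126 : sm gg N16395 = N21693 := rfl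
theorem L170128 : sm gc N21693 = N19115 := ded_21_1 (flp_g L170068) L170062 L170126
theorem L170130 : sm gd N21693 = N17038 := ded_24_1 (flp_g L122921) (flp_d L117801) L170126
theorem L170132 : sm ge N21693 = N16398 := ded_26_1 (flp_g L117823) (flp_e L117803) L170126
theorem L170134 : sm gb N16396 = N21694 := rfl
theorem L170136 : sm gd N21694 = N17039 := ded_14_2 (flp_b L122925) (flp_d L117811) L170134
theorem L170138 : sm ge N21694 = N16399 := ded_15_2 (flp_b L117827) (flp_e L117813) L170134
theorem L170140 : sm gb N16397 = N21695 := rfl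
theorem L170142 : sm gd N21695 = N16400 := ded_14_2 (flp_b L117831) (flp_d L117819) L170140
theorem L170144 : sm gb N16398 = N21696 := rfl
theorem L170146 : sm gd N21696 = N16401 := ded_14_2 (flp_b L117835) (flp_d L117825) L170144
theorem L170148 : sm gg N21696 = N16399 := ded_17_2 (flp_b L117827) (flp_g L96464) L96458 L117823 L170144
theorem L170150 : sm ga N16399 = N21697 := rfl
theorem L170152 : sm gd N21697 = N16402 := ded_9_2 (flp_a L117841) (flp_d L117829) L170150
theorem L170154 : sm gc N16399 = N21698 := rfl
theorem L170156 : sm gf N16399 = N21699 := rfl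
theorem L170158 : sm gd N21699 = N16404 := ded_23_1 (flp_f L117851) (flp_d L117829) L170156
theorem L170160 : sm gb N21699 = N21291 := ded_16_1 (flp_f L167605) L116275 L96470 L117827 L170156
theorem L170162 : sm ga N16400 = N21700 := rfl
theorem L170164 : sm ge N21700 = N17048 := ded_10_2 (flp_a L122965) (flp_e L117833) L170162
theorem L170166 : sm gc N16400 = N21701 := rfl
theorem L170168 : sm ge N21701 = N17049 := ded_19_2 (flp_c L122967) (flp_e L117833) L170166
theorem L170170 : sm gf N18638 = N21701 := ded_25_0 L170168 (flp_f L123802) (flp_e L143739)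
theorem L170172 : sm gf N16400 = N21702 := rfl
theorem L170174 : sm gc N21702 = N18638 := ded_20_1 L170170 (flp_c L170166) L170172
theorem L170176 : sm ge N21702 = N17050 := ded_25_1 (flp_f L122969) (flp_e L117833) L170172
theorem L170178 : sm gb N21702 = N16489 := ded_16_1 (flp_f L118400) (flp_b L96710) (flp_f L96476) L117831 L170172
theorem L170180 : sm gg N16400 = N21703 := rfl
theorem L170182 : sm ge N21703 = N17051 := ded_26_1 (flp_g L122973) (flp_e L117833) L170180
theorem L170184 : sm ga N16401 = N21704 := rfl
theorem L170186 : sm ge N21704 = N17058 := ded_10_2 (flp_a L123001) (flp_e L117837) L170184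
theorem L170188 : sm gg N21704 = N16402 := ded_12_2 (flp_a L117841) (flp_g L117839) L170184
theorem L170190 : sm gc N16401 = N21705 := rfl
theorem L170192 : sm ge N21705 = N17059 := ded_19_2 (flp_c L123005) (flp_e L117837) L170190
theorem L170194 : sm gg N21705 = N16403 := ded_21_2 (flp_c L117845) (flp_g L117839) L170190
theorem L170196 : sm gc N16402 = N21706 := rfl
theorem L170198 : sm ga N21706 = N16403 := ded_8_1 (flp_c L117845) L117841 L170196
theorem L170200 : sm ge N21706 = N17062 := ded_19_2 (flp_c L123013) (flp_e L117843) L170196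
theorem L170202 : sm gb N17313 = N21706 := ded_15_3 L170200 L163828 L124229
theorem L170204 : sm gf N16402 = N21707 := rfl
theorem L170206 : sm ga N21707 = N16404 := ded_11_1 (flp_f L117851) L117841 L170204
theorem L170208 : sm ge N21707 = N17063 := ded_25_1 (flp_f L123017) (flp_e L117843) L170204
theorem L170210 : sm gg N21189 = N21707 := ded_29_1 (flp_f L170204) (flp_g L170188) (flp_a L170184) (flp_f L166966)
theorem L170212 : sm gb N21707 = N21188 := ded_16_1 (flp_f L166960) (flp_b L117721) L169962 (flp_b L169970) L170204
theorem L170214 : sm gd N16403 = N21708 := rfl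
theorem L170216 : sm gb N21708 = N16420 := ded_14_1 (flp_d L117947) (flp_b L117849) L170214
theorem L170218 : sm gf N16403 = N21709 := rfl
theorem L170220 : sm gc N21709 = N16404 := ded_20_1 (flp_f L117851) L117845 L170218
theorem L170222 : sm ge N21709 = N17065 := ded_25_1 (flp_f L123033) (flp_e L117847) L170218
theorem L170224 : sm gg N16404 = N21710 := rfl
theorem L170226 : sm ga N21710 = N21189 := ded_12_1 L170210 L170206 L170224
theorem L170228 : sm ge N21710 = N17066 := ded_26_1 (flp_g L123037) (flp_e L117853) L170224
theorem L170230 : sm gf N21704 = N21710 := ded_29_0 (flp_g L170224) (flp_f L117851) (flp_g L117839) L170184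
theorem L170232 : sm gc N16405 = N21711 := rfl
theorem L170234 : sm ga N21711 = N16406 := ded_8_1 (flp_c L117863) L117857 L170232
theorem L170236 : sm ge N21711 = N17067 := ded_19_2 (flp_c L123043) (flp_e L117859) L170232
theorem L170238 : sm gg N21711 = N20121 := ded_21_2 (flp_c L158865) L117861 L170232
theorem L170240 : sm gb N16406 = N21712 := rfl
theorem L170242 : sm ge N21712 = N17068 := ded_15_2 (flp_b L123049) (flp_e L117865) L170240
theorem L170244 : sm gc N21712 = N16409 := ded_13_2 (flp_b L117881) (flp_c L96490) L96486 L117863 L170240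
theorem L170246 : sm gd N16406 = N21713 := rfl
theorem L170248 : sm gf N16406 = N21714 := rfl
theorem L170250 : sm gc N21714 = N16407 := ded_20_1 (flp_f L117867) L117863 L170248
theorem L170252 : sm ge N21714 = N17070 := ded_25_1 (flp_f L123055) (flp_e L117865) L170248
theorem L170254 : sm gg N16406 = N21715 := rfl
theorem L170256 : sm ga N21715 = N20121 := ded_12_1 (flp_g L170238) L170234 L170254
theorem L170258 : sm gc N21715 = N16408 := ded_21_1 (flp_g L117873) L117863 L170254
theorem L170260 : sm ge N21715 = N17071 := ded_26_1 (flp_g L123059) (flp_e L117865) L170254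
theorem L170262 : sm gf N21263 = N21715 := ded_20_0 L170258 (flp_f L117879) L167446
theorem L170264 : sm ga N16409 = N21716 := rfl
theorem L170266 : sm ge N21716 = N17072 := ded_10_2 (flp_a L123067) (flp_e L117883) L170264
theorem L170268 : sm gd N16409 = N21717 := rfl
theorem L170270 : sm gb N21717 = N16410 := ded_14_1 (flp_d L117885) L117881 L170268
theorem L170272 : sm gf N16409 = N21718 := rfl
theorem L170274 : sm ge N21718 = N17074 := ded_25_1 (flp_f L123073) (flp_e L117883) L170272
theorem L170276 : sm gb N21718 = N16434 := ded_16_1 (flp_f L118033) (flp_b L96546) (flp_f L96496) L117881 L170272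
theorem L170278 : sm gg N16409 = N21719 := rfl
theorem L170280 : sm ge N21719 = N17075 := ded_26_1 (flp_g L123077) (flp_e L117883) L170278
theorem L170282 : sm gc N16410 = N21720 := rfl
theorem L170284 : sm ga N21720 = N16411 := ded_8_1 (flp_c L117891) (flp_a L117887) L170282
theorem L170286 : sm gf N21720 = N16436 := ded_20_2 (flp_c L118041) (flp_f L117889) L170282
theorem L170288 : sm gd N21439 = N21720 := ded_28_1 (flp_c L170282) (flp_d L117885) (flp_c L96490) (flp_d L95967) L116753 L168496 L168498 L168502
theorem L170290 : sm ge N16410 = N21721 := rfl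
theorem L170292 : sm ga N21721 = N16412 := ded_10_1 (flp_e L117895) (flp_a L117887) L170290
theorem L170294 : sm gf N21721 = N16437 := ded_25_2 (flp_e L118047) (flp_f L117889) L170290
theorem L170296 : sm gd N21721 = N17076 := ded_22_1 (flp_e L123079) (flp_d L98413) (flp_e L96494) L117885 L170290
theorem L170298 : sm gb N16411 = N21722 := rfl
theorem L170300 : sm gd N16411 = N21723 := rfl
theorem L170302 : sm ga N21723 = N21439 := ded_9_1 L170288 L170284 L170300
theorem L170304 : sm gf N21723 = N16442 := ded_23_2 (flp_d L118073) (flp_f L117893) L170300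
theorem L170306 : sm gc N21438 = N21723 := ded_28_0 (flp_d L170300) (flp_c L117891) (flp_d L96498) (flp_c L84863) (flp_d L84636) L95973 L116761 (flp_a L168498)
theorem L170308 : sm ge N16411 = N21724 := rfl
theorem L170310 : sm gc N21724 = N16412 := ded_19_1 (flp_e L117895) L117891 L170308
theorem L170312 : sm gf N21724 = N16443 := ded_25_2 (flp_e L118079) (flp_f L117893) L170308
theorem L170314 : sm gg N16411 = N21725 := rfl
theorem L170316 : sm gc N21725 = N16413 := ded_21_1 (flp_g L117901) L117891 L170314
theorem L170318 : sm gg N16412 = N21726 := rfl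
theorem L170320 : sm gd N21726 = N17080 := ded_24_1 (flp_g L123101) (flp_d L117899) L170318
theorem L170322 : sm ge N21726 = N16413 := ded_26_1 (flp_g L117901) L117895 L170318
theorem L170324 : sm gb N16413 = N21727 := rfl
theorem L170326 : sm gd N21727 = N16414 := ded_14_2 (flp_b L117905) (flp_d L117903) L170324
theorem L170328 : sm ga N16414 = N21728 := rfl
theorem L170330 : sm ge N21728 = N17082 := ded_10_2 (flp_a L123109) (flp_e L117907) L170328
theorem L170332 : sm gc N16414 = N21729 := rfl
theorem L170334 : sm ge N21729 = N17083 := ded_19_2 (flp_c L123111) (flp_e L117907) L170332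
theorem L170336 : sm gb N21729 = N16416 := ded_13_1 (flp_c L117917) (flp_b L96508) (flp_c L96504) L117905 L170332
theorem L170338 : sm gf N16414 = N21730 := rfl
theorem L170340 : sm ge N21730 = N17084 := ded_25_1 (flp_f L123115) (flp_e L117907) L170338
theorem L170342 : sm gc N16415 = N21731 := rfl
theorem L170344 : sm ga N21731 = N16416 := ded_8_1 (flp_c L117917) L117909 L170342
theorem L170346 : sm ge N21731 = N17085 := ded_19_2 (flp_c L123117) (flp_e L117911) L170342
theorem L170348 : sm gg N21731 = N16418 := ded_21_2 (flp_c L117929) (flp_g L117913) L170342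
theorem L170350 : sm gb N21731 = N19694 := ded_13_1 L156006 L107871 (flp_c L115990) L117915 L170342
theorem L170352 : sm gd N16416 = N21732 := rfl
theorem L170354 : sm gg N21732 = N16420 := ded_24_2 (flp_d L117947) (flp_g L117921) L170352
theorem L170356 : sm ge N21732 = N20974 := ded_22_2 (flp_d L165356) (flp_e L163852) (flp_d L123125) (flp_e L117919) L170352
theorem L170358 : sm gf N16416 = N21733 := rfl
theorem L170360 : sm gc N21733 = N16417 := ded_20_1 (flp_f L117923) L117917 L170358
theorem L170362 : sm ge N21733 = N17087 := ded_25_1 (flp_f L123129) (flp_e L117919) L170358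
theorem L170364 : sm gd N16418 = N21734 := rfl
theorem L170366 : sm ga N21734 = N16420 := ded_9_1 (flp_d L117947) (flp_a L117931) L170364
theorem L170368 : sm gb N21734 = N20262 := ded_14_1 L159811 (flp_b L117935) L170364
theorem L170370 : sm gf N16418 = N21735 := rfl
theorem L170372 : sm ga N21735 = N16421 := ded_11_1 (flp_f L117949) (flp_a L117931) L170370
theorem L170374 : sm gc N21735 = N16419 := ded_20_1 (flp_f L117937) L117929 L170370
theorem L170376 : sm ge N21735 = N17089 := ded_25_1 (flp_f L123139) (flp_e L117933) L170370
theorem L170378 : sm gg N21733 = N21735 := ded_29_1 (flp_f L170370) (flp_g L170348) L170344 L170358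
theorem L170380 : sm gc N16420 = N21736 := rfl
theorem L170382 : sm ge N16420 = N21737 := rfl
theorem L170384 : sm gg N21737 = N20974 := ded_26_2 (flp_e L170356) L170354 L170382
theorem L170386 : sm gd N21737 = N17091 := ded_22_1 (flp_e L123149) (flp_d L98465) (flp_e L96520) L117947 L170382
theorem L170388 : sm gf N16420 = N21738 := rfl
theorem L170390 : sm gd N21738 = N16421 := ded_23_1 (flp_f L117949) L117947 L170388
theorem L170392 : sm gb N16421 = N21739 := rfl
theorem L170394 : sm ge N21739 = N17093 := ded_15_2 (flp_b L123155) (flp_e L117953) L170392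
theorem L170396 : sm gc N21739 = N19713 := ded_13_2 (flp_b L156190) L150323 (flp_b L96526) (flp_c L117951) L170392
theorem L170398 : sm gg N16421 = N21740 := rfl
theorem L170400 : sm ga N21740 = N21733 := ded_12_1 L170378 L170372 L170398
theorem L170402 : sm gc N21740 = N16422 := ded_21_1 (flp_g L117955) (flp_c L117951) L170398
theorem L170404 : sm ge N21740 = N17094 := ded_26_1 (flp_g L123159) (flp_e L117953) L170398
theorem L170406 : sm gf N21731 = N21740 := ded_29_0 (flp_g L170398) (flp_f L117949) (flp_g L117921) (flp_a L170344)
theorem L170408 : sm gb N16423 = N21741 := rfl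
theorem L170410 : sm ge N21741 = N17095 := ded_15_2 (flp_b L123167) (flp_e L117969) L170408
theorem L170412 : sm gc N21741 = N21582 := ded_13_2 (flp_b L169409) (flp_c L117351) (flp_b L96532) L117965 L170408
theorem L170414 : sm ga N16460 = N21741 := ded_10_3 L170410 L123971 (flp_e L118232)
theorem L170416 : sm gd N16423 = N21742 := rfl
theorem L170418 : sm ga N21742 = N16427 := ded_9_1 (flp_d L117993) (flp_a L117967) L170416
theorem L170420 : sm gc N18851 = N21742 := ded_28_0 (flp_d L170416) (flp_c L117965) (flp_d L156834) (flp_c L104013) L89148 L89212 L104183 (flp_a L144955)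
theorem L170422 : sm gf N16423 = N21743 := rfl
theorem L170424 : sm ga N21743 = N16428 := ded_11_1 (flp_f L117995) (flp_a L117967) L170422
theorem L170426 : sm gc N21743 = N16424 := ded_20_1 (flp_f L117971) L117965 L170422
theorem L170428 : sm ge N21743 = N17097 := ded_25_1 (flp_f L123175) (flp_e L117969) L170422
theorem L170430 : sm gg N21743 = N21170 := ded_29_1 L166836 (flp_g L118001) (flp_a L117967) L170422
theorem L170432 : sm gg N16423 = N21744 := rfl
theorem L170434 : sm ga N21744 = N16429 := ded_12_1 (flp_g L118001) (flp_a L117967) L170432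
theorem L170436 : sm gc N21744 = N16425 := ded_21_1 (flp_g L117981) L117965 L170432
theorem L170438 : sm ge N21744 = N16910 := ded_26_1 L163929 (flp_e L117969) L170432
theorem L170440 : sm gf N16909 = N21744 := ded_29_0 (flp_g L170432) L170422 L170430 L166832
theorem L170442 : sm ga N16426 = N21745 := rfl
theorem L170444 : sm gc N21745 = N16432 := ded_8_2 (flp_a L118025) (flp_c L117991) L170442
theorem L170446 : sm ge N21745 = N17099 := ded_10_2 (flp_a L123189) (flp_e L117989) L170442
theorem L170448 : sm gb N21745 = N16462 := ded_7_2 (flp_a L118242) (flp_b L96641) (flp_a L96633) L118230 L170414 (flp_b L170408) L117967 L117987 L170442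
theorem L170450 : sm gg N21512 = N21745 := ded_26_0 L170446 (flp_g L151826) (flp_e L168975)
theorem L170452 : sm gd N16426 = N21746 := rfl
theorem L170454 : sm gb N21746 = N16427 := ded_14_1 (flp_d L117993) L117987 L170452
theorem L170456 : sm gc N21746 = N18941 := ded_32_19 (flp_b L145474) L104596 (flp_c L104591) (flp_d L89439) (flp_c L38994) L77439 L18561 L82528 (flp_c L9405) (flp_d L19491) L81726 L139795 (flp_d L141713) (flp_c L5229) (flp_d L5104) L10090 L10092 L141660 (flp_c L9049) L4597 L4713 L4715 L4823 (flp_c L65522) L5789 L3013 (flp_b L1550) L907 L951 L140485 (flp_c L951) (flp_b L65336) L774 L65338 (flp_c L3013) (flp_d L5789) L65522 (flp_b L9349) (flp_d L9347) (flp_c L4713) (flp_d L4597) L9049 L58904 (flp_d L141660) (flp_c L10090) L5104 L5229 (flp_b L8777) L18035 (flp_c L81726) L19491 L9405 (flp_b L64752) (flp_d L9047) L18663 L132431 (flp_c L20986) (flp_b L70532) (flp_e L10589) (flp_d L21859) (flp_c L45467) (flp_d L85039) (flp_c L85031) (flp_b L84897) (flp_d L84895) (flp_c L25120) (flp_d L25012) L84656 L84660 L96011 L116839 L118045 (flp_c L118041) (flp_b L118031)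 (flp_d L118029) (flp_c L117991) L170452
theorem L170458 : sm gf N16426 = N21747 := rfl
theorem L170460 : sm gc N21747 = N16434 := ded_20_1 (flp_f L118033) (flp_c L117991) L170458
theorem L170462 : sm ge N21747 = N17101 := ded_25_1 (flp_f L123197) (flp_e L117989) L170458
theorem L170464 : sm gg N16426 = N21748 := rfl
theorem L170466 : sm ga N21748 = N21512 := ded_12_1 L170450 (flp_a L170442) L170464
theorem L170468 : sm gc N21748 = N16435 := ded_21_1 (flp_g L118037) (flp_c L117991) L170464
theorem L170470 : sm ge N21748 = N17102 := ded_26_1 (flp_g L123201) (flp_e L117989) L170464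
theorem L170472 : sm ge N16427 = N21749 := rfl
theorem L170474 : sm gc N21749 = N18855 := ded_19_1 (flp_e L144973) (flp_c L156794) L170472
theorem L170476 : sm gd N21749 = N17104 := ded_22_1 (flp_e L123207) (flp_d L98517) (flp_e L96536) L117993 L170472
theorem L170478 : sm gf N21592 = N21749 := ded_20_0 L170474 (flp_f L151560) (flp_c L169481)
theorem L170480 : sm gf N16427 = N21750 := rfl
theorem L170482 : sm gc N21750 = N18856 := ded_20_1 (flp_f L144979) (flp_c L156794) L170480
theorem L170484 : sm gd N21750 = N16428 := ded_23_1 (flp_f L117995) L117993 L170480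
theorem L170486 : sm ge N21750 = N21592 := ded_25_1 L170478 (flp_e L170472) L170480
theorem L170488 : sm gg N21590 = N21750 := ded_21_0 L170482 L151554 (flp_c L169469)
theorem L170490 : sm gg N16427 = N21751 := rfl
theorem L170492 : sm gc N21751 = N18840 := ded_21_1 L144895 (flp_c L156794) L170490
theorem L170494 : sm gd N21751 = N16429 := ded_24_1 (flp_g L118001) L117993 L170490
theorem L170496 : sm gb N16428 = N21752 := rfl
theorem L170498 : sm ge N21752 = N17107 := ded_15_2 (flp_b L123217) (flp_e L117999) L170496
theorem L170500 : sm gb N16429 = N21753 := rfl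
theorem L170502 : sm ge N21753 = N17109 := ded_15_2 (flp_b L123227) (flp_e L118005) L170500
theorem L170504 : sm gc N16431 = N21754 := rfl
theorem L170506 : sm ge N21754 = N17110 := ded_19_2 (flp_c L123229) (flp_e L118019) L170504
theorem L170508 : sm gf N21754 = N21109 := ded_20_2 (flp_c L166406) (flp_f L118021) L170504
theorem L170510 : sm gg N21754 = N16440 := ded_21_2 (flp_c L118065) (flp_g L118023) L170504
theorem L170512 : sm gb N16432 = N21755 := rfl
theorem L170514 : sm ge N21755 = N17111 := ded_15_2 (flp_b L123235) (flp_e L118027) L170512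
theorem L170516 : sm gc N21755 = N16468 := ded_13_2 (flp_b L118276) (flp_c L118244) (flp_b L170448) L170444 L170512
theorem L170518 : sm ga N21755 = N16501 := ded_7_1 (flp_b L118465) (flp_a L96750) (flp_b L85019) L25348 (flp_b L25124) (flp_a L84883) L96546 L118025 L170512
theorem L170520 : sm gd N16432 = N21756 := rfl
theorem L170522 : sm ga N21756 = N16433 := ded_9_1 (flp_d L118029) L118025 L170520
theorem L170524 : sm gf N16432 = N21757 := rfl
theorem L170526 : sm ga N21757 = N16434 := ded_11_1 (flp_f L118033) L118025 L170524
theorem L170528 : sm ge N21757 = N17113 := ded_25_1 (flp_f L123243) (flp_e L118027) L170524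
theorem L170530 : sm gg N16432 = N21758 := rfl
theorem L170532 : sm ga N21758 = N16435 := ded_12_1 (flp_g L118037) L118025 L170530
theorem L170534 : sm gc N21758 = N21512 := ded_21_1 L170450 L170444 L170530
theorem L170536 : sm ge N21758 = N17114 := ded_26_1 (flp_g L123247) (flp_e L118027) L170530
theorem L170538 : sm gb N21511 = N21758 := ded_13_5 L170534 (flp_b L168973) (flp_c L117099) L117093 L168967
theorem L170540 : sm gc N16433 = N21759 := rfl
theorem L170542 : sm ge N16433 = N21760 := rfl
theorem L170544 : sm gb N21760 = N16437 := ded_15_1 (flp_e L118047) (flp_b L118031) L170542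
theorem L170546 : sm gd N21760 = N17116 := ded_22_1 (flp_e L123253) (flp_d L98547) (flp_e L96548) L118029 L170542
theorem L170548 : sm gf N16433 = N21761 := rfl
theorem L170550 : sm gd N21761 = N16434 := ded_23_1 (flp_f L118033) L118029 L170548
theorem L170552 : sm gg N16433 = N21762 := rfl
theorem L170554 : sm gd N21762 = N16435 := ded_24_1 (flp_g L118037) L118029 L170552
theorem L170556 : sm gg N16434 = N21763 := rfl
theorem L170558 : sm ge N21763 = N17119 := ded_26_1 (flp_g L123265) (flp_e L118035) L170556
theorem L170560 : sm gf N21758 = N21763 := ded_29_0 (flp_g L170556) (flp_f L118033) L118037 (flp_a L170532)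
theorem L170562 : sm gb N16435 = N21764 := rfl
theorem L170564 : sm ge N21764 = N17120 := ded_15_2 (flp_b L123269) (flp_e L118039) L170562
theorem L170566 : sm gg N21764 = N16439 := ded_17_2 (flp_b L118061) (flp_g L96554) L96546 L118037 L170562
theorem L170568 : sm gf N16435 = N21765 := rfl
theorem L170570 : sm ga N21765 = N21763 := ded_11_1 (flp_f L170560) L170532 L170568
theorem L170572 : sm ge N21765 = N17121 := ded_25_1 (flp_f L123273) (flp_e L118039) L170568
theorem L170574 : sm gg N21765 = N21757 := ded_29_3 L170526 (flp_f L118033) L118037 L170568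
theorem L170576 : sm gb N16436 = N21766 := rfl
theorem L170578 : sm gd N21766 = N21461 := ded_14_2 (flp_b L168638) L118045 L170576
theorem L170580 : sm ge N16436 = N21767 := rfl
theorem L170582 : sm ga N21767 = N16443 := ded_10_1 (flp_e L118079) (flp_a L118043) L170580
theorem L170584 : sm gc N21767 = N16437 := ded_19_1 (flp_e L118047) L118041 L170580
theorem L170586 : sm gg N16436 = N21768 := rfl
theorem L170588 : sm ga N21768 = N16444 := ded_12_1 (flp_g L118083) (flp_a L118043) L170586
theorem L170590 : sm gc N21768 = N16438 := ded_21_1 (flp_g L118053) L118041 L170586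
theorem L170592 : sm gd N21768 = N21463 := ded_24_1 (flp_g L168645) L118045 L170586
theorem L170594 : sm gf N21768 = N21725 := ded_29_2 (flp_g L170314) (flp_a L170284) L170286 L170586
theorem L170596 : sm gg N16437 = N21769 := rfl
theorem L170598 : sm ga N21769 = N16445 := ded_12_1 (flp_g L118087) (flp_a L118049) L170596
theorem L170600 : sm gd N21769 = N17122 := ded_24_1 (flp_g L123279) (flp_d L118051) L170596
theorem L170602 : sm ge N21769 = N16438 := ded_26_1 (flp_g L118053) L118047 L170596
theorem L170604 : sm gf N21769 = N21726 := ded_29_2 (flp_g L170318) (flp_a L170292) L170294 L170596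
theorem L170606 : sm gb N16438 = N21770 := rfl
theorem L170608 : sm gd N21770 = N16439 := ded_14_2 (flp_b L118061) (flp_d L118057) L170606
theorem L170610 : sm gc N16439 = N21771 := rfl
theorem L170612 : sm ge N21771 = N17125 := ded_19_2 (flp_c L123293) (flp_e L118063) L170610
theorem L170614 : sm gb N21771 = N16440 := ded_13_1 (flp_c L118065) (flp_b L96564) (flp_c L96558) L118061 L170610
theorem L170616 : sm gf N16439 = N21772 := rfl
theorem L170618 : sm ge N21772 = N17126 := ded_25_1 (flp_f L123297) (flp_e L118063) L170616
theorem L170620 : sm gb N21772 = N21730 := ded_16_1 (flp_f L170338) (flp_b L117905) (flp_f L96562) L118061 L170616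
theorem L170622 : sm gd N16440 = N21773 := rfl
theorem L170624 : sm ga N16441 = N21774 := rfl
theorem L170626 : sm gc N21774 = N16511 := ded_8_2 (flp_a L118519) (flp_c L118071) L170624
theorem L170628 : sm gd N16441 = N21775 := rfl
theorem L170630 : sm gb N21775 = N16442 := ded_14_1 (flp_d L118073) L118069 L170628
theorem L170632 : sm ge N16441 = N21776 := rfl
theorem L170634 : sm gb N21776 = N16443 := ded_15_1 (flp_e L118079) L118069 L170632
theorem L170636 : sm gc N21776 = N16512 := ded_19_1 (flp_e L118523) (flp_c L118071) L170632
theorem L170638 : sm gf N16441 = N21777 := rfl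
theorem L170640 : sm gc N21777 = N16513 := ded_20_1 (flp_f L118529) (flp_c L118071) L170638
theorem L170642 : sm gg N16441 = N21778 := rfl
theorem L170644 : sm gc N21778 = N16514 := ded_21_1 (flp_g L118535) (flp_c L118071) L170642
theorem L170646 : sm ge N16442 = N21779 := rfl
theorem L170648 : sm ga N21779 = N21462 := ded_10_1 (flp_e L168641) (flp_a L118075) L170646
theorem L170650 : sm gc N21779 = N21457 := ded_19_1 (flp_e L168616) L118077 L170646
theorem L170652 : sm gg N16442 = N21780 := rfl
theorem L170654 : sm ga N21780 = N21463 := ded_12_1 (flp_g L168645) (flp_a L118075) L170652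
theorem L170656 : sm gc N21780 = N21458 := ded_21_1 (flp_g L168622) L118077 L170652
theorem L170658 : sm gd N21780 = N16444 := ded_24_1 (flp_g L118083) L118073 L170652
theorem L170660 : sm gd N16443 = N21781 := rfl
theorem L170662 : sm gg N16443 = N21782 := rfl
theorem L170664 : sm gc N21782 = N16445 := ded_21_1 (flp_g L118087) (flp_c L118081) L170662
theorem L170666 : sm ge N21782 = N16444 := ded_26_1 (flp_g L118083) L118079 L170662
theorem L170668 : sm gb N16444 = N21783 := rfl
theorem L170670 : sm gf N16444 = N21784 := rfl
theorem L170672 : sm ga N21784 = N21725 := ded_11_1 (flp_f L170594) L170588 L170670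
theorem L170674 : sm gc N21784 = N16446 := ded_20_1 (flp_f L118093) (flp_c L118085) L170670
theorem L170676 : sm gg N21784 = N21720 := ded_29_3 L170284 L117893 L118083 L170670
theorem L170678 : sm gf N16445 = N21785 := rfl
theorem L170680 : sm ga N21785 = N21726 := ded_11_1 (flp_f L170604) L170598 L170678
theorem L170682 : sm gd N21785 = N17136 := ded_23_1 (flp_f L123341) (flp_d L118089) L170678
theorem L170684 : sm ge N21785 = N16446 := ded_25_1 (flp_f L118093) (flp_e L118091) L170678
theorem L170686 : sm gg N21785 = N21721 := ded_29_3 L170292 L117897 L118087 L170678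
theorem L170688 : sm gb N16446 = N21786 := rfl
theorem L170690 : sm gd N21786 = N16447 := ded_14_2 (flp_b L118101) (flp_d L118097) L170688
theorem L170692 : sm ga N16447 = N21787 := rfl
theorem L170694 : sm ge N21787 = N17138 := ded_10_2 (flp_a L123353) (flp_e L118103) L170692
theorem L170696 : sm gc N16447 = N21788 := rfl
theorem L170698 : sm ge N21788 = N17139 := ded_19_2 (flp_c L123355) (flp_e L118103) L170696
theorem L170700 : sm gb N21788 = N16449 := ded_13_1 (flp_c L118111) (flp_b L96590) (flp_c L96584) L118101 L170696
theorem L170702 : sm gg N16447 = N21789 := rfl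
theorem L170704 : sm ge N21789 = N17140 := ded_26_1 (flp_g L123359) (flp_e L118103) L170702
theorem L170706 : sm gb N21789 = N21719 := ded_17_1 (flp_g L170278) (flp_b L117881) (flp_g L96588) L118101 L170702
theorem L170708 : sm gc N16448 = N21790 := rfl
theorem L170710 : sm ga N21790 = N16449 := ded_8_1 (flp_c L118111) L118105 L170708
theorem L170712 : sm ge N21790 = N17141 := ded_19_2 (flp_c L123363) (flp_e L118107) L170708
theorem L170714 : sm gf N21790 = N20333 := ded_20_2 (flp_c L160290) (flp_f L118109) L170708
theorem L170716 : sm gg N21790 = N20902 := ded_21_2 L164847 L160310 L170708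
theorem L170718 : sm gd N20887 = N21790 := ded_9_0 L170710 (flp_d L163661) (flp_a L164727)
theorem L170720 : sm gg N16449 = N21791 := rfl
theorem L170722 : sm ga N21791 = N20902 := ded_12_1 (flp_g L170716) L170710 L170720
theorem L170724 : sm gc N21791 = N16450 := ded_21_1 (flp_g L118117) L118111 L170720
theorem L170726 : sm gd N21791 = N20911 := ded_24_1 L164931 L163661 L170720
theorem L170728 : sm ge N21791 = N17143 := ded_26_1 (flp_g L123373) (flp_e L118113) L170720
theorem L170730 : sm gf N21288 = N21791 := ded_29_0 (flp_g L170720) L118115 L160298 (flp_a L167580)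
theorem L170732 : sm gg N16451 = N21792 := rfl
theorem L170734 : sm gc N21792 = N18299 := ded_21_1 L129436 L129346 L170732
theorem L170736 : sm gd N21792 = N16458 := ded_24_1 (flp_g L118221) (flp_d L118127) L170732
theorem L170738 : sm ge N21792 = N18337 := ded_26_1 L129789 L129665 L170732
theorem L170740 : sm gf N21792 = N18298 := ded_29_2 (flp_g L129422) (flp_a L129394) L129398 L170732
theorem L170742 : sm gf N16452 = N21793 := rfl
theorem L170744 : sm ga N21793 = N16454 := ded_11_1 (flp_f L118143) (flp_a L118131) L170742
theorem L170746 : sm gc N21793 = N18240 := ded_20_1 L145953 L145949 L170742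
theorem L170748 : sm gd N21793 = N17145 := ded_23_1 (flp_f L123391) (flp_d L118133) L170742
theorem L170750 : sm ge N21793 = N16453 := ded_25_1 (flp_f L118135) L118129 L170742
theorem L170752 : sm gg N21534 = N21793 := ded_29_1 (flp_f L170742) (flp_g L169119) (flp_a L169113) L169121
theorem L170754 : sm gg N16454 = N21794 := rfl
theorem L170756 : sm ga N21794 = N21534 := ded_12_1 L170752 L170744 L170754
theorem L170758 : sm gc N21794 = N18241 := ded_21_1 (flp_g L129082) (flp_c L118145) L170754
theorem L170760 : sm gd N21794 = N16845 := ded_24_1 L122006 L118155 L170754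
theorem L170762 : sm ge N21794 = N16455 := ded_26_1 (flp_g L118204) (flp_e L118149) L170754
theorem L170764 : sm gf N21533 = N21794 := ded_29_0 (flp_g L170754) (flp_f L118143) (flp_g L117195) L169113
theorem L170766 : sm gb N16455 = N21795 := rfl
theorem L170768 : sm gd N21795 = N16459 := ded_14_2 (flp_b L118225) (flp_d L118208) L170766
theorem L170770 : sm gg N21795 = N21795 := ded_17_2 (flp_b L170766) (flp_g L118204) L96610 L118204 L170766
theorem L170771 : sm gg N16456 = N21796 := rfl
theorem L170773 : sm ga N21796 = N16458 := ded_12_1 (flp_g L118221) L118212 L170771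
theorem L170775 : sm gc N21796 = N19570 := ded_21_1 (flp_g L155172) L120544 L170771
theorem L170777 : sm ge N21796 = N17148 := ded_26_1 (flp_g L123402) (flp_e L118214) L170771
theorem L170779 : sm gf N21796 = N21166 := ded_29_2 (flp_g L166802) (flp_a L129414) L129418 L170771
theorem L170781 : sm gg N16457 = N21797 := rfl
theorem L170783 : sm ga N21797 = N19570 := ded_12_1 (flp_g L155172) L120534 L170781
theorem L170785 : sm gc N21797 = N16458 := ded_21_1 (flp_g L118221) L118217 L170781
theorem L170787 : sm ge N21797 = N17150 := ded_26_1 (flp_g L123416) (flp_e L118219) L170781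
theorem L170789 : sm gb N21797 = N18655 := ded_17_1 L143833 L153910 (flp_g L153916) (flp_b L120527) L170781
theorem L170791 : sm gf N16458 = N21798 := rfl
theorem L170793 : sm ga N21798 = N21166 := ded_11_1 (flp_f L170779) L170773 L170791
theorem L170795 : sm gd N21798 = N18298 := ded_23_1 (flp_f L170740) L170736 L170791
theorem L170797 : sm ge N21798 = N17151 := ded_25_1 (flp_f L123422) (flp_e L118223) L170791
theorem L170799 : sm gg N21798 = N18297 := ded_29_3 L129414 L115591 L118221 L170791
theorem L170801 : sm gb N21798 = N21251 := ded_31_2 (flp_g L167357) L167346 L167356 (flp_g L167401) (flp_f L167395) (flp_b L117245) (flp_g L117241) (flp_f L117229) (flp_b L117225) L96621 (flp_f L96615) L96611 L118221 L170791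
theorem L170803 : sm ga N16459 = N21799 := rfl
theorem L170805 : sm ge N21799 = N17158 := ded_10_2 (flp_a L123474) (flp_e L118227) L170803
theorem L170807 : sm gg N21799 = N21799 := ded_12_2 (flp_a L170803) L118229 L170803
theorem L170808 : sm gc N16459 = N21800 := rfl
theorem L170810 : sm ge N21800 = N17159 := ded_19_2 (flp_c L123477) (flp_e L118227) L170808
theorem L170812 : sm gg N21800 = N21800 := ded_21_2 (flp_c L170808) L118229 L170808
theorem L170813 : sm gf N16459 = N21801 := rfl
theorem L170815 : sm ge N21801 = N17160 := ded_25_1 (flp_f L123480) (flp_e L118227) L170813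
theorem L170817 : sm gb N21801 = N21543 := ded_16_1 (flp_f L169167) (flp_b L117221) L96629 L118225 L170813
theorem L170819 : sm gd N16460 = N21802 := rfl
theorem L170821 : sm gb N21802 = N16461 := ded_14_1 (flp_d L118234) L118230 L170819
theorem L170823 : sm gf N16460 = N21803 := rfl
theorem L170825 : sm ge N21803 = N17163 := ded_25_1 (flp_f L123490) (flp_e L118232) L170823
theorem L170827 : sm gb N21803 = N16464 := ded_16_1 (flp_f L118252) (flp_b L96641) (flp_f L96637) L118230 L170823
theorem L170829 : sm gg N16460 = N21804 := rfl
theorem L170831 : sm ge N21804 = N17164 := ded_26_1 (flp_g L123494) (flp_e L118232) L170829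
theorem L170833 : sm gb N21804 = N19803 := ded_17_1 (flp_g L156882) (flp_b L108261) (flp_g L96639) L118230 L170829
theorem L170835 : sm ge N16461 = N21805 := rfl
theorem L170837 : sm ga N21805 = N16467 := ded_10_1 (flp_e L118270) (flp_a L118236) L170835
theorem L170839 : sm gf N21805 = N16467 := ded_25_2 (flp_e L118270) (flp_f L118238) L170835
theorem L170841 : sm gg N21805 = N19804 := ded_26_2 (flp_e L156888) (flp_g L118240) L170835
theorem L170843 : sm gd N21805 = N17165 := ded_22_1 (flp_e L123498) (flp_d L98708) (flp_e L96635) L118234 L170835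
theorem L170845 : sm gd N16462 = N21806 := rfl
theorem L170847 : sm ga N21806 = N16463 := ded_9_1 (flp_d L118248) L118242 L170845
theorem L170849 : sm gf N16462 = N21807 := rfl
theorem L170851 : sm ga N21807 = N16464 := ded_11_1 (flp_f L118252) L118242 L170849
theorem L170853 : sm gc N21807 = N16470 := ded_20_1 (flp_f L118284) (flp_c L118244) L170849
theorem L170855 : sm ge N21807 = N17168 := ded_25_1 (flp_f L123512) (flp_e L118246) L170849
theorem L170857 : sm gg N16462 = N21808 := rfl
theorem L170859 : sm ga N21808 = N16465 := ded_12_1 (flp_g L118258) L118242 L170857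
theorem L170861 : sm gc N21808 = N16471 := ded_21_1 (flp_g L118290) (flp_c L118244) L170857
theorem L170863 : sm ge N21808 = N17169 := ded_26_1 (flp_g L123518) (flp_e L118246) L170857
theorem L170865 : sm gb N21808 = N21486 := ded_17_1 L168814 L168973 L170450 L170448 L170857
theorem L170867 : sm gc N16463 = N21809 := rfl
theorem L170869 : sm ge N16463 = N21810 := rfl
theorem L170871 : sm gb N21810 = N16467 := ded_15_1 (flp_e L118270) (flp_b L118250) L170869
theorem L170873 : sm gd N21810 = N17171 := ded_22_1 (flp_e L123526) (flp_d L98720) (flp_e L96643) L118248 L170869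
theorem L170875 : sm gf N16463 = N21811 := rfl
theorem L170877 : sm gd N21811 = N16464 := ded_23_1 (flp_f L118252) L118248 L170875
theorem L170879 : sm gg N16463 = N21812 := rfl
theorem L170881 : sm gd N21812 = N16465 := ded_24_1 (flp_g L118258) L118248 L170879
theorem L170883 : sm gb N21812 = N19744 := ded_17_1 L156424 L108125 (flp_g L96649) (flp_b L118250) L170879
theorem L170885 : sm gg N16464 = N21813 := rfl
theorem L170887 : sm gc N21813 = N16476 := ded_21_1 (flp_g L118316) (flp_c L118254) L170885
theorem L170889 : sm ge N21813 = N17174 := ded_26_1 (flp_g L123540) (flp_e L118256) L170885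
theorem L170891 : sm gf N21808 = N21813 := ded_29_0 (flp_g L170885) (flp_f L118252) L118258 (flp_a L170859)
theorem L170893 : sm gf N16465 = N21814 := rfl
theorem L170895 : sm ga N21814 = N21813 := ded_11_1 (flp_f L170891) L170859 L170893
theorem L170897 : sm gc N21814 = N16477 := ded_20_1 (flp_f L118322) (flp_c L118260) L170893
theorem L170899 : sm ge N21814 = N17175 := ded_25_1 (flp_f L123546) (flp_e L118262) L170893
theorem L170901 : sm gg N21814 = N21807 := ded_29_3 L170851 (flp_f L118252) L118258 L170893
theorem L170903 : sm gb N16466 = N21815 := rfl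
theorem L170905 : sm ge N16466 = N21816 := rfl
theorem L170907 : sm gc N21816 = N16467 := ded_19_1 (flp_e L118270) L118266 L170905
theorem L170909 : sm gg N21816 = N19806 := ded_26_2 (flp_e L156897) (flp_g L118268) L170905
theorem L170911 : sm gd N16468 = N21817 := rfl
theorem L170913 : sm gb N21817 = N16469 := ded_14_1 (flp_d L118280) L118276 L170911
theorem L170915 : sm gf N16468 = N21818 := rfl
theorem L170917 : sm ge N21818 = N17180 := ded_25_1 (flp_f L123568) (flp_e L118278) L170915
theorem L170919 : sm gg N16468 = N21819 := rfl
theorem L170921 : sm ge N21819 = N17181 := ded_26_1 (flp_g L123570) (flp_e L118278) L170919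
theorem L170923 : sm gb N21112 = N21819 := ded_15_3 L170921 (flp_b L151822) (flp_e L166428)
theorem L170925 : sm gc N16469 = N21820 := rfl
theorem L170927 : sm ga N21820 = N16472 := ded_8_1 (flp_c L118296) (flp_a L118282) L170925
theorem L170929 : sm ge N16469 = N21821 := rfl
theorem L170931 : sm ga N21821 = N16473 := ded_10_1 (flp_e L118300) (flp_a L118282) L170929
theorem L170933 : sm gd N21821 = N17183 := ded_22_1 (flp_e L123576) (flp_d L98744) (flp_e L96653) L118280 L170929
theorem L170935 : sm gf N16469 = N21822 := rfl
theorem L170937 : sm ga N21822 = N16474 := ded_11_1 (flp_f L118306) (flp_a L118282) L170935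
theorem L170939 : sm gd N21822 = N16470 := ded_23_1 (flp_f L118284) L118280 L170935
theorem L170941 : sm gg N16469 = N21823 := rfl
theorem L170943 : sm ga N21823 = N16475 := ded_12_1 (flp_g L118310) (flp_a L118282) L170941
theorem L170945 : sm gd N21823 = N16471 := ded_24_1 (flp_g L118290) L118280 L170941
theorem L170947 : sm gb N16470 = N21824 := rfl
theorem L170949 : sm ge N21824 = N17186 := ded_15_2 (flp_b L123592) (flp_e L118288) L170947
theorem L170951 : sm ga N19256 = N21824 := ded_10_3 L170949 L146094 (flp_e L152790)
theorem L170953 : sm gb N16471 = N21825 := rfl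
theorem L170955 : sm ge N21825 = N17187 := ded_15_2 (flp_b L123594) (flp_e L118294) L170953
theorem L170957 : sm gc N21825 = N21113 := ded_13_2 L166438 L168806 (flp_b L170865) L170861 L170953
theorem L170959 : sm gg N21825 = N21112 := ded_17_2 L170923 (flp_g L170919) (flp_b L118276) L118290 L170953
theorem L170961 : sm ga N21754 = N21825 := ded_10_3 L170955 (flp_a L151818) (flp_e L170506)
theorem L170963 : sm gd N16472 = N21826 := rfl
theorem L170965 : sm gb N21826 = N20400 := ded_14_1 (flp_d L160708) (flp_b L118298) L170963
theorem L170967 : sm ge N16472 = N21827 := rfl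
theorem L170969 : sm gb N21827 = N20395 := ded_15_1 L160682 (flp_b L118298) L170967
theorem L170971 : sm gc N21827 = N16473 := ded_19_1 (flp_e L118300) L118296 L170967
theorem L170973 : sm gf N16472 = N21828 := rfl
theorem L170975 : sm gc N21828 = N16474 := ded_20_1 (flp_f L118306) L118296 L170973
theorem L170977 : sm gg N16472 = N21829 := rfl
theorem L170979 : sm gc N21829 = N16475 := ded_21_1 (flp_g L118310) L118296 L170977
theorem L170981 : sm gf N16473 = N21830 := rfl
theorem L170983 : sm gd N21830 = N17192 := ded_23_1 (flp_f L123610) (flp_d L118304) L170981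
theorem L170985 : sm ge N21830 = N16474 := ded_25_1 (flp_f L118306) L118300 L170981
theorem L170987 : sm gg N16473 = N21831 := rfl
theorem L170989 : sm gd N21831 = N17193 := ded_24_1 (flp_g L123614) (flp_d L118304) L170987
theorem L170991 : sm ge N21831 = N16475 := ded_26_1 (flp_g L118310) L118300 L170987
theorem L170993 : sm gb N21831 = N19739 := ded_17_1 (flp_g L156392) L108067 (flp_g L96675) (flp_b L118302) L170987
theorem L170995 : sm gg N16474 = N21832 := rfl
theorem L170997 : sm gd N21832 = N16476 := ded_24_1 (flp_g L118316) (flp_d L118308) L170995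
theorem L170999 : sm gf N21823 = N21832 := ded_29_0 (flp_g L170995) (flp_f L118306) L118310 (flp_a L170943)
theorem L171001 : sm gf N16475 = N21833 := rfl
theorem L171003 : sm ga N21833 = N21832 := ded_11_1 (flp_f L170999) L170943 L171001
theorem L171005 : sm gd N21833 = N16477 := ded_23_1 (flp_f L118322) (flp_d L118312) L171001
theorem L171007 : sm gg N21833 = N21822 := ded_29_3 L170937 (flp_f L118306) L118310 L171001
theorem L171009 : sm gb N16476 = N21834 := rfl
theorem L171011 : sm ge N21834 = N17196 := ded_15_2 (flp_b L123634) (flp_e L118318) L171009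
theorem L171013 : sm gb N16477 = N21835 := rfl
theorem L171015 : sm ge N21835 = N17197 := ded_15_2 (flp_b L123636) (flp_e L118326) L171013
theorem L171017 : sm gf N21835 = N19741 := ded_16_2 (flp_b L156406) (flp_f L108075) (flp_b L96667) L118322 L171013
theorem L171019 : sm gb N16478 = N21836 := rfl
theorem L171021 : sm gd N21836 = N20391 := ded_14_2 (flp_b L160654) (flp_d L118332) L171019
theorem L171023 : sm ge N16478 = N21837 := rfl
theorem L171025 : sm ga N21837 = N16479 := ded_10_1 (flp_e L118334) L118330 L171023
theorem L171027 : sm gd N21837 = N20683 := ded_22_1 L162352 L112400 (flp_e L111135) (flp_d L118332) L171023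
theorem L171029 : sm gf N16478 = N21838 := rfl
theorem L171031 : sm ga N21838 = N16480 := ded_11_1 (flp_f L118340) L118330 L171029
theorem L171033 : sm gd N21838 = N20392 := ded_23_1 (flp_f L160658) (flp_d L118332) L171029
theorem L171035 : sm gg N16478 = N21839 := rfl
theorem L171037 : sm ga N21839 = N16481 := ded_12_1 (flp_g L118346) L118330 L171035
theorem L171039 : sm gd N21839 = N20388 := ded_24_1 L160642 (flp_d L118332) L171035
theorem L171041 : sm gf N16479 = N21840 := rfl
theorem L171043 : sm gd N21840 = N18847 := ded_23_1 (flp_f L144933) (flp_d L118338) L171041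
theorem L171045 : sm ge N21840 = N16480 := ded_25_1 (flp_f L118340) L118334 L171041
theorem L171047 : sm gb N21840 = N21830 := ded_16_1 (flp_f L170981) L118302 (flp_f L96689) (flp_b L118336) L171041
theorem L171049 : sm gg N16479 = N21841 := rfl
theorem L171051 : sm gd N21841 = N20671 := ded_24_1 L162295 (flp_d L118338) L171049
theorem L171053 : sm ge N21841 = N16481 := ded_26_1 (flp_g L118346) L118334 L171049
theorem L171055 : sm gb N21841 = N20384 := ded_17_1 (flp_g L160614) L111099 (flp_g L96691) (flp_b L118336) L171049
theorem L171057 : sm gg N16480 = N21842 := rfl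
theorem L171059 : sm gd N21842 = N20393 := ded_24_1 (flp_g L160666) (flp_d L118342) L171057
theorem L171061 : sm gf N21839 = N21842 := ded_29_0 (flp_g L171057) (flp_f L118340) L118346 (flp_a L171037)
theorem L171063 : sm gf N16481 = N21843 := rfl
theorem L171065 : sm ga N21843 = N21842 := ded_11_1 (flp_f L171061) L171037 L171063
theorem L171067 : sm gd N21843 = N20389 := ded_23_1 (flp_f L160644) (flp_d L118348) L171063
theorem L171069 : sm gg N21843 = N21838 := ded_29_3 L171031 (flp_f L118340) L118346 L171063
theorem L171071 : sm gf N16482 = N21844 := rfl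
theorem L171073 : sm gc N21844 = N18305 := ded_20_1 (flp_f L129474) (flp_c L151016) L171071
theorem L171075 : sm gd N21844 = N16489 := ded_23_1 (flp_f L118400) (flp_d L118354) L171071
theorem L171077 : sm ge N21844 = N18350 := ded_25_1 (flp_f L129840) L150506 L171071
theorem L171079 : sm gg N18304 = N21844 := ded_29_1 (flp_f L171071) L151018 L129444 L129460
theorem L171081 : sm gg N16483 = N21845 := rfl
theorem L171083 : sm ga N21845 = N16485 := ded_12_1 (flp_g L118370) (flp_a L118358) L171081
theorem L171085 : sm gc N21845 = N18251 := ded_21_1 L149711 (flp_c L150744) L171081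
theorem L171087 : sm gd N21845 = N17208 := ded_24_1 L149454 (flp_d L118360) L171081
theorem L171089 : sm ge N21845 = N16484 := ded_26_1 (flp_g L118362) L118356 L171081
theorem L171091 : sm gf N21845 = N21693 := ded_29_2 (flp_g L170126) L170118 L170124 L171081
theorem L171093 : sm gf N16485 = N21846 := rfl
theorem L171095 : sm ga N21846 = N21693 := ded_11_1 (flp_f L171091) L171083 L171093
theorem L171097 : sm gc N21846 = N18253 := ded_20_1 (flp_f L129142) (flp_c L149544) L171093
theorem L171099 : sm gd N21846 = N17037 := ded_23_1 L122919 (flp_d L149425) L171093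
theorem L171101 : sm ge N21846 = N16486 := ded_25_1 (flp_f L118377) (flp_e L118374) L171093
theorem L171103 : sm gg N21846 = N21692 := ded_29_3 (flp_a L170118) L117805 L118370 L171093
theorem L171105 : sm gb N16486 = N21847 := rfl
theorem L171107 : sm gd N21847 = N16492 := ded_14_2 (flp_b L118412) (flp_d L118381) L171105
theorem L171109 : sm gf N21847 = N21847 := ded_16_2 (flp_b L171105) (flp_f L118377) L96709 L118377 L171105
theorem L171110 : sm gf N16487 = N21848 := rfl
theorem L171112 : sm ga N21848 = N16489 := ded_11_1 (flp_f L118400) L118385 L171110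
theorem L171114 : sm gc N21848 = N19573 := ded_20_1 (flp_f L155184) L118390 L171110
theorem L171116 : sm ge N21848 = N17227 := ded_25_1 (flp_f L123770) (flp_e L118387) L171110
theorem L171118 : sm gg N21178 = N21848 := ded_29_1 (flp_f L171110) (flp_g L151270) (flp_a L151254) L166885
theorem L171120 : sm gf N16488 = N21849 := rfl
theorem L171122 : sm ga N21849 = N19573 := ded_11_1 (flp_f L155184) (flp_a L118394) L171120
theorem L171124 : sm gc N21849 = N16489 := ded_20_1 (flp_f L118400) L118392 L171120
theorem L171126 : sm ge N21849 = N17230 := ded_25_1 (flp_f L123790) (flp_e L118396) L171120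
theorem L171128 : sm gb N21849 = N18637 := ded_16_1 (flp_f L143735) L153630 (flp_f L153636) (flp_b L118398) L171120
theorem L171130 : sm gg N16489 = N21850 := rfl
theorem L171132 : sm ga N21850 = N21178 := ded_12_1 L171118 L171112 L171130
theorem L171134 : sm gd N21850 = N18304 := ded_24_1 L171079 L171075 L171130
theorem L171136 : sm ge N21850 = N17232 := ded_26_1 (flp_g L123812) (flp_e L118402) L171130
theorem L171138 : sm gf N18303 = N21850 := ded_29_0 (flp_g L171130) (flp_f L118400) (flp_g L150670) L151254
theorem L171140 : sm gb N21289 = N21850 := ded_31_14 (flp_g L171130) (flp_f L118400) (flp_b L96710) L96714 L96720 L117835 L117839 L117851 L117855 L167627 (flp_f L167631) L167604 (flp_g L167594) L167586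
theorem L171142 : sm ga N16492 = N21851 := rfl
theorem L171144 : sm ge N21851 = N17251 := ded_10_2 (flp_a L123906) (flp_e L118414) L171142
theorem L171146 : sm gf N21851 = N21851 := ded_11_2 (flp_a L171142) L118416 L171142
theorem L171147 : sm gc N16492 = N21852 := rfl
theorem L171149 : sm ge N21852 = N17252 := ded_19_2 (flp_c L123909) (flp_e L118414) L171147
theorem L171151 : sm gf N21852 = N21852 := ded_20_2 (flp_c L171147) L118416 L171147
theorem L171152 : sm gg N16492 = N21853 := rfl
theorem L171154 : sm ge N21853 = N17253 := ded_26_1 (flp_g L123912) (flp_e L118414) L171152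
theorem L171156 : sm gb N21853 = N21703 := ded_17_1 (flp_g L170180) (flp_b L117831) (flp_g L96728) L118412 L171152
theorem L171158 : sm gd N16493 = N21854 := rfl
theorem L171160 : sm gb N21854 = N16494 := ded_14_1 (flp_d L118423) L118417 L171158
theorem L171162 : sm gf N16493 = N21855 := rfl
theorem L171164 : sm gc N21855 = N21803 := ded_20_1 (flp_f L170823) (flp_c L118421) L171162
theorem L171166 : sm ge N21855 = N17256 := ded_25_1 (flp_f L123924) (flp_e L118419) L171162
theorem L171168 : sm gb N21855 = N19809 := ded_16_1 (flp_f L156914) (flp_b L108280) (flp_f L96736) L118417 L171162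
theorem L171170 : sm gg N16493 = N21856 := rfl
theorem L171172 : sm gc N21856 = N21804 := ded_21_1 (flp_g L170829) (flp_c L118421) L171170
theorem L171174 : sm ge N21856 = N17257 := ded_26_1 (flp_g L123930) (flp_e L118419) L171170
theorem L171176 : sm gb N21856 = N16498 := ded_17_1 (flp_g L118449) (flp_b L96740) (flp_g L96738) L118417 L171170
theorem L171178 : sm ge N16494 = N21857 := rfl
theorem L171180 : sm ga N21857 = N16500 := ded_10_1 (flp_e L118459) (flp_a L118425) L171178
theorem L171182 : sm gf N21857 = N19811 := ded_25_2 (flp_e L156927) (flp_f L118427) L171178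
theorem L171184 : sm gg N21857 = N16500 := ded_26_2 (flp_e L118459) (flp_g L118429) L171178
theorem L171186 : sm gd N21857 = N17258 := ded_22_1 (flp_e L123936) (flp_d L98891) (flp_e L96734) L118423 L171178
theorem L171188 : sm gd N16495 = N21858 := rfl
theorem L171190 : sm ga N21858 = N16496 := ded_9_1 (flp_d L118437) L118431 L171188
theorem L171192 : sm gf N16495 = N21859 := rfl
theorem L171194 : sm ga N21859 = N16497 := ded_11_1 (flp_f L118441) L118431 L171192
theorem L171196 : sm gc N21859 = N16503 := ded_20_1 (flp_f L118473) (flp_c L118433) L171192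
theorem L171198 : sm ge N21859 = N17261 := ded_25_1 (flp_f L123950) (flp_e L118435) L171192
theorem L171200 : sm gb N21859 = N21646 := ded_16_1 L169815 L169982 (flp_f L169990) L169447 L171192
theorem L171202 : sm gg N16495 = N21860 := rfl
theorem L171204 : sm ga N21860 = N16498 := ded_12_1 (flp_g L118449) L118431 L171202
theorem L171206 : sm gc N21860 = N16504 := ded_21_1 (flp_g L118479) (flp_c L118433) L171202
theorem L171208 : sm ge N21860 = N17262 := ded_26_1 (flp_g L123981) (flp_e L118435) L171202
theorem L171210 : sm gc N16496 = N21861 := rfl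
theorem L171212 : sm ge N16496 = N21862 := rfl
theorem L171214 : sm gb N21862 = N16500 := ded_15_1 (flp_e L118459) (flp_b L118439) L171212
theorem L171216 : sm gd N21862 = N17264 := ded_22_1 (flp_e L123989) (flp_d L98903) (flp_e L96742) L118437 L171212
theorem L171218 : sm gf N16496 = N21863 := rfl
theorem L171220 : sm gd N21863 = N16497 := ded_23_1 (flp_f L118441) L118437 L171218
theorem L171222 : sm gb N21863 = N19782 := ded_16_1 L156671 L108244 (flp_f L96748) (flp_b L118439) L171218
theorem L171224 : sm gg N16496 = N21864 := rfl
theorem L171226 : sm gd N21864 = N16498 := ded_24_1 (flp_g L118449) L118437 L171224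
theorem L171228 : sm gg N16497 = N21865 := rfl
theorem L171230 : sm gc N21865 = N16509 := ded_21_1 (flp_g L118505) (flp_c L118443) L171228
theorem L171232 : sm ge N21865 = N17267 := ded_26_1 (flp_g L124003) (flp_e L118445) L171228
theorem L171234 : sm gf N21860 = N21865 := ded_29_0 (flp_g L171228) (flp_f L118441) L118449 (flp_a L171204)
theorem L171236 : sm gf N16498 = N21866 := rfl
theorem L171238 : sm ga N21866 = N21865 := ded_11_1 (flp_f L171234) L171204 L171236
theorem L171240 : sm gc N21866 = N16510 := ded_20_1 (flp_f L118511) (flp_c L118451) L171236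
theorem L171242 : sm ge N21866 = N17268 := ded_25_1 (flp_f L124009) (flp_e L118453) L171236
theorem L171244 : sm gg N21866 = N21859 := ded_29_3 L171194 (flp_f L118441) L118449 L171236
theorem L171246 : sm gb N16499 = N21867 := rfl
theorem L171248 : sm ge N16499 = N21868 := rfl
theorem L171250 : sm gc N21868 = N16500 := ded_19_1 (flp_e L118459) L118455 L171248
theorem L171252 : sm gf N21868 = N19813 := ded_25_2 (flp_e L156936) (flp_f L118457) L171248
theorem L171254 : sm gd N16501 = N21869 := rfl
theorem L171256 : sm gb N21869 = N16502 := ded_14_1 (flp_d L118469) L118465 L171254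
theorem L171258 : sm gf N16501 = N21870 := rfl
theorem L171260 : sm ge N21870 = N17272 := ded_25_1 (flp_f L124029) (flp_e L118467) L171258
theorem L171262 : sm gb N21119 = N21870 := ded_15_3 L171260 L124061 (flp_e L166474)
theorem L171264 : sm gg N16501 = N21871 := rfl
theorem L171266 : sm ge N21871 = N17273 := ded_26_1 (flp_g L124031) (flp_e L118467) L171264
theorem L171268 : sm gc N16502 = N21872 := rfl
theorem L171270 : sm ga N21872 = N16505 := ded_8_1 (flp_c L118485) (flp_a L118471) L171268
theorem L171272 : sm ge N16502 = N21873 := rfl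
theorem L171274 : sm ga N21873 = N16506 := ded_10_1 (flp_e L118489) (flp_a L118471) L171272
theorem L171276 : sm gd N21873 = N17275 := ded_22_1 (flp_e L124037) (flp_d L98927) (flp_e L96752) L118469 L171272
theorem L171278 : sm gf N16502 = N21874 := rfl
theorem L171280 : sm ga N21874 = N16507 := ded_11_1 (flp_f L118495) (flp_a L118471) L171278
theorem L171282 : sm gd N21874 = N16503 := ded_23_1 (flp_f L118473) L118469 L171278
theorem L171284 : sm gg N16502 = N21875 := rfl
theorem L171286 : sm ga N21875 = N16508 := ded_12_1 (flp_g L118501) (flp_a L118471) L171284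
theorem L171288 : sm gd N21875 = N16504 := ded_24_1 (flp_g L118479) L118469 L171284
theorem L171290 : sm gb N16503 = N21876 := rfl
theorem L171292 : sm ge N21876 = N17278 := ded_15_2 (flp_b L124053) (flp_e L118477) L171290
theorem L171294 : sm gc N21876 = N21120 := ded_13_2 L166484 L169809 (flp_b L171200) L171196 L171290
theorem L171296 : sm gf N21876 = N21119 := ded_16_2 L171262 (flp_f L171258) (flp_b L118465) L118473 L171290
theorem L171298 : sm ga N21876 = N21595 := ded_30_3 L169497 (flp_c L117451) (flp_b L96277) L84767 (flp_f L25068) L25062 L25066 (flp_a L25224) L81005 L45389 (flp_b L81156) (flp_a L43502) (flp_f L82335) L85013 L96740 L118431 L171192 L171196 L171290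
theorem L171300 : sm gb N16504 = N21877 := rfl
theorem L171302 : sm ge N21877 = N17279 := ded_15_2 (flp_b L124063) (flp_e L118483) L171300
theorem L171304 : sm ga N19313 = N21877 := ded_10_3 L171302 L151564 (flp_e L153205)
theorem L171306 : sm gd N16505 = N21878 := rfl
theorem L171308 : sm gb N21878 = N20435 := ded_14_1 (flp_d L160904) (flp_b L118487) L171306
theorem L171310 : sm ge N16505 = N21879 := rfl
theorem L171312 : sm gb N21879 = N20430 := ded_15_1 L160878 (flp_b L118487) L171310
theorem L171314 : sm gc N21879 = N16506 := ded_19_1 (flp_e L118489) L118485 L171310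
theorem L171316 : sm gf N16505 = N21880 := rfl
theorem L171318 : sm gc N21880 = N16507 := ded_20_1 (flp_f L118495) L118485 L171316
theorem L171320 : sm gg N16505 = N21881 := rfl
theorem L171322 : sm gc N21881 = N16508 := ded_21_1 (flp_g L118501) L118485 L171320
theorem L171324 : sm gf N16506 = N21882 := rfl
theorem L171326 : sm gd N21882 = N17284 := ded_23_1 (flp_f L124079) (flp_d L118493) L171324
theorem L171328 : sm ge N21882 = N16507 := ded_25_1 (flp_f L118495) L118489 L171324
theorem L171330 : sm gb N21882 = N19777 := ded_16_1 (flp_f L156639) L108186 (flp_f L96774) (flp_b L118491) L171324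
theorem L171332 : sm gg N16506 = N21883 := rfl
theorem L171334 : sm gd N21883 = N17285 := ded_24_1 (flp_g L124085) (flp_d L118493) L171332
theorem L171336 : sm ge N21883 = N16508 := ded_26_1 (flp_g L118501) L118489 L171332
theorem L171338 : sm gg N16507 = N21884 := rfl
theorem L171340 : sm gd N21884 = N16509 := ded_24_1 (flp_g L118505) (flp_d L118497) L171338
theorem L171342 : sm gf N21875 = N21884 := ded_29_0 (flp_g L171338) (flp_f L118495) L118501 (flp_a L171286)
theorem L171344 : sm gf N16508 = N21885 := rfl
theorem L171346 : sm ga N21885 = N21884 := ded_11_1 (flp_f L171342) L171286 L171344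
theorem L171348 : sm gd N21885 = N16510 := ded_23_1 (flp_f L118511) (flp_d L118503) L171344
theorem L171350 : sm gg N21885 = N21874 := ded_29_3 L171280 (flp_f L118495) L118501 L171344
theorem L171352 : sm gb N16509 = N21886 := rfl
theorem L171354 : sm ge N21886 = N17288 := ded_15_2 (flp_b L124103) (flp_e L118507) L171352
theorem L171356 : sm gg N21886 = N19779 := ded_17_2 (flp_b L156653) (flp_g L108194) (flp_b L96762) L118505 L171352
theorem L171358 : sm gb N16510 = N21887 := rfl
theorem L171360 : sm ge N21887 = N17289 := ded_15_2 (flp_b L124107) (flp_e L118515) L171358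
theorem L171362 : sm gb N16511 = N21888 := rfl
theorem L171364 : sm gd N21888 = N20426 := ded_14_2 (flp_b L160850) (flp_d L118521) L171362
theorem L171366 : sm ge N16511 = N21889 := rfl
theorem L171368 : sm ga N21889 = N16512 := ded_10_1 (flp_e L118523) L118519 L171366
theorem L171370 : sm gd N21889 = N20737 := ded_22_1 L162670 L112644 (flp_e L111251) (flp_d L118521) L171366
theorem L171372 : sm gf N16511 = N21890 := rfl
theorem L171374 : sm ga N21890 = N16513 := ded_11_1 (flp_f L118529) L118519 L171372
theorem L171376 : sm gd N21890 = N20422 := ded_23_1 L160834 (flp_d L118521) L171372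
theorem L171378 : sm gg N16511 = N21891 := rfl
theorem L171380 : sm ga N21891 = N16514 := ded_12_1 (flp_g L118535) L118519 L171378
theorem L171382 : sm gd N21891 = N20427 := ded_24_1 (flp_g L160854) (flp_d L118521) L171378
theorem L171384 : sm gf N16512 = N21892 := rfl
theorem L171386 : sm gd N21892 = N20724 := ded_23_1 L162607 (flp_d L118527) L171384
theorem L171388 : sm ge N21892 = N16513 := ded_25_1 (flp_f L118529) L118523 L171384
theorem L171390 : sm gb N21892 = N20418 := ded_16_1 (flp_f L160804) L111215 (flp_f L96788) (flp_b L118525) L171384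
theorem L171392 : sm gg N16512 = N21893 := rfl
theorem L171394 : sm gd N21893 = N18894 := ded_24_1 L151425 (flp_d L118527) L171392
theorem L171396 : sm ge N21893 = N16514 := ded_26_1 (flp_g L118535) L118523 L171392
theorem L171398 : sm gb N21893 = N21883 := ded_17_1 (flp_g L171332) L118491 (flp_g L96790) (flp_b L118525) L171392
theorem L171400 : sm gg N16513 = N21894 := rfl
theorem L171402 : sm gd N21894 = N20423 := ded_24_1 (flp_g L160836) (flp_d L118531) L171400
theorem L171404 : sm gf N21891 = N21894 := ded_29_0 (flp_g L171400) (flp_f L118529) L118535 (flp_a L171380)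
theorem L171406 : sm gf N16514 = N21895 := rfl
theorem L171408 : sm ga N21895 = N21894 := ded_11_1 (flp_f L171404) L171380 L171406
theorem L171410 : sm gd N21895 = N20428 := ded_23_1 (flp_f L160862) (flp_d L118537) L171406
theorem L171412 : sm gg N21895 = N21890 := ded_29_3 L171374 (flp_f L118529) L118535 L171406
theorem L171414 : sm gc N16515 = N21896 := rfl
theorem L171416 : sm ga N21896 = N21896 := ded_8_1 (flp_c L171414) L118543 L171414
theorem L171417 : sm gb N16516 = N21897 := rfl
theorem L171419 : sm gd N21897 = N21815 := ded_14_2 (flp_b L170903) L118554 L171417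
theorem L171421 : sm ga N16518 = N21898 := rfl
theorem L171423 : sm gd N16518 = N21899 := rfl
theorem L171425 : sm gb N21899 = N16519 := ded_14_1 (flp_d L118568) L118566 L171423
theorem L171427 : sm gf N16518 = N21900 := rfl
theorem L171429 : sm gg N16518 = N21901 := rfl
theorem L171431 : sm gb N21901 = N19818 := ded_17_1 (flp_g L156966) (flp_b L108315) (flp_g L96809) L118566 L171429
theorem L171433 : sm ge N16519 = N21902 := rfl
theorem L171435 : sm ga N21902 = N21816 := ded_10_1 (flp_e L170905) (flp_a L118570) L171433
theorem L171437 : sm gc N21902 = N21805 := ded_19_1 (flp_e L170835) L118576 L171433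
theorem L171439 : sm gf N21902 = N21816 := ded_25_2 (flp_e L170905) (flp_f L118572) L171433
theorem L171441 : sm gg N21902 = N19819 := ded_26_2 (flp_e L156971) (flp_g L118574) L171433
theorem L171443 : sm gc N16521 = N21903 := rfl
theorem L171445 : sm ga N21903 = N21903 := ded_8_1 (flp_c L171443) L118586 L171443
theorem L171446 : sm gf N21903 = N21896 := ded_20_2 (flp_c L171414) (flp_f L118589) L171443
theorem L171448 : sm gg N21903 = N21896 := ded_21_2 (flp_c L171414) (flp_g L118591) L171443
theorem L171450 : sm gb N16522 = N21904 := rfl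
theorem L171452 : sm gd N21904 = N21867 := ded_14_2 (flp_b L171246) L118601 L171450
theorem L171454 : sm ga N16524 = N21905 := rfl
theorem L171456 : sm gd N16524 = N21906 := rfl
theorem L171458 : sm gb N21906 = N16525 := ded_14_1 (flp_d L118615) L118613 L171456
theorem L171460 : sm gf N16524 = N21907 := rfl
theorem L171462 : sm gb N21907 = N19823 := ded_16_1 (flp_f L156997) (flp_b L108346) (flp_f L96838) L118613 L171460
theorem L171464 : sm gg N16524 = N21908 := rfl
theorem L171466 : sm ge N16525 = N21909 := rfl
theorem L171468 : sm ga N21909 = N21868 := ded_10_1 (flp_e L171248) (flp_a L118617) L171466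
theorem L171470 : sm gc N21909 = N21857 := ded_19_1 (flp_e L171178) L118623 L171466
theorem L171472 : sm gf N21909 = N19825 := ded_25_2 (flp_e L157008) (flp_f L118619) L171466
theorem L171474 : sm gg N21909 = N21868 := ded_26_2 (flp_e L171248) (flp_g L118621) L171466
theorem L171476 : sm gg N16543 = N21910 := rfl
theorem L171478 : sm ga N21910 = N20663 := ded_12_1 (flp_g L162242) L120540 L171476
theorem L171480 : sm gc N21910 = N16544 := ded_21_1 (flp_g L118744) L118740 L171476
theorem L171482 : sm gd N21910 = N19112 := ded_24_1 (flp_g L151888) L120352 L171476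
theorem L171484 : sm gf N16583 = N21910 := ded_29_0 (flp_g L171476) L120511 L151880 L151882
theorem L171486 : sm gf N16546 = N21911 := rfl
theorem L171488 : sm ga N21911 = N20720 := ded_11_1 (flp_f L162567) L150920 L171486
theorem L171490 : sm gc N21911 = N16547 := ded_20_1 (flp_f L118752) L118748 L171486
theorem L171492 : sm gd N21911 = N19183 := ded_23_1 (flp_f L152340) L149164 L171486
theorem L171494 : sm gg N21911 = N16591 := ded_29_3 (flp_a L152326) (flp_f L152324) (flp_g L149817) L171486
theorem L171496 : sm ge N16549 = N21912 := rfl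
theorem L171498 : sm gb N21912 = N18817 := ded_15_1 L144767 (flp_b L120509) L171496
theorem L171500 : sm gg N16549 = N21913 := rfl
theorem L171502 : sm gd N21913 = N16550 := ded_24_1 (flp_g L118768) L118766 L171500
theorem L171504 : sm gb N16550 = N21914 := rfl
theorem L171506 : sm gc N21914 = N17272 := ded_13_2 L124061 L120822 L97102 (flp_c L118770) L171504
theorem L171508 : sm gf N21914 = N16916 := ded_16_2 (flp_b L122340) L122348 (flp_b L122836) L122826 L171504
theorem L171510 : sm ga N17180 = N21914 := ded_11_3 L171508 L122342 L123568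
theorem L171512 : sm ge N16552 = N21915 := rfl
theorem L171514 : sm gb N21915 = N18865 := ded_15_1 L145040 (flp_b L149815) L171512
theorem L171516 : sm gf N16552 = N21916 := rfl
theorem L171518 : sm gd N21916 = N16553 := ded_23_1 (flp_f L118780) L118778 L171516
theorem L171520 : sm gb N16553 = N21917 := rfl
theorem L171522 : sm gc N21917 = N17181 := ded_13_2 (flp_b L151822) L120768 L97074 (flp_c L118782) L171520
theorem L171524 : sm gg N21917 = N17111 := ded_17_2 (flp_b L123235) L123247 (flp_b L151832) L121909 L171520
theorem L171526 : sm ga N17273 = N21917 := ded_12_3 L171524 L123237 L124031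
theorem L171528 : sm gd N16556 = N21918 := rfl
theorem L171530 : sm ga N21918 = N21918 := ded_9_1 (flp_d L171528) L118802 L171528
theorem L171531 : sm gb N21918 = N16561 := ded_14_1 (flp_d L118834) (flp_b L118803) L171528
theorem L171533 : sm gf N21918 = N21918 := ded_23_2 (flp_d L171528) L118949 L171528
theorem L171534 : sm gg N21918 = N21918 := ded_24_2 (flp_d L171528) L122029 L171528
theorem L171535 : sm ge N21918 = N19579 := ded_22_2 (flp_d L155226) L118791 (flp_d L118787) L118800 L171528
theorem L171537 : sm gc N21918 = N21918 := ded_32_24 L171531 L118838 (flp_d L107411) (flp_c L91105) (flp_d L42896) (flp_c L42498) (flp_b L72428) L85117 L96906 (flp_d L96910) L91133 L42914 (flp_d L42674) L42672 L20747 (flp_c L72333) (flp_b L21143) L10157 (flp_c L8541) (flp_d L4367) L2268 (flp_b L2578) L4951 L9759 L20227 L70114 (flp_b L42502) (flp_e L72430) (flp_d L32488) L15641 L7801 (flp_c L8669) (flp_b L8667) L8671 (flp_c L9871) (flp_d L9867) (flp_c L5007) (flp_b L4954) (flp_d L4951) L70185 L4951 L9759 L20223 L42500 L90938 L107151 (flp_c L107415) (flp_b L155229) (flp_d L155226) L118793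 (flp_d L118787) L96950 (flp_b L96948) L96959 L118834 L130543 (flp_d L130534) L102844 L119080 L119073 (flp_c L88116) L33068 (flp_c L88524) (flp_b L88114) L88112 L88524 (flp_d L33068) L88116 (flp_b L119337) L119341 (flp_c L102844) L130534 (flp_c L130543) (flp_b L171531) (flp_d L171528) L118805 L171528
theorem L171538 : sm gg N16562 = N21919 := rfl
theorem L171540 : sm gc N21919 = N16569 := ded_21_1 (flp_g L118876) (flp_c L118842) L171538
theorem L171542 : sm ge N21919 = N16565 := ded_26_1 (flp_g L118854) (flp_e L118844) L171538
theorem L171544 : sm gf N16986 = N21919 := ded_29_0 (flp_g L171538) (flp_f L118840) L118846 (flp_a L149182)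
theorem L171546 : sm gb N16670 = N21919 := ded_13_5 L171540 (flp_b L120631) L97282 L97288 L121166
theorem L171548 : sm gf N16563 = N21920 := rfl
theorem L171550 : sm ga N21920 = N21919 := ded_11_1 (flp_f L171544) L149182 L171548
theorem L171552 : sm gc N21920 = N16571 := ded_20_1 (flp_f L118887) (flp_c L118848) L171548
theorem L171554 : sm ge N21920 = N16567 := ded_25_1 (flp_f L118862) (flp_e L118850) L171548
theorem L171556 : sm gg N21920 = N16801 := ded_29_3 (flp_a L121777) (flp_f L118840) L118846 L171548
theorem L171558 : sm gb N16742 = N21920 := ded_30_2 L171550 (flp_f L171544) L122680 (flp_b L98234) L85638 L85676 L85678 L85684 L98341 L98345 L98812 (flp_b L150740) L120788 L120800 L150205 L121020 L150718 L97463 L121482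
theorem L171560 : sm gb N16565 = N21921 := rfl
theorem L171562 : sm ge N21921 = N16670 := ded_15_2 L171546 L171542 L171560
theorem L171564 : sm gc N21921 = N16669 := ded_13_2 (flp_b L121161) (flp_c L120625) (flp_b L118905) (flp_c L118856) L171560
theorem L171566 : sm gg N21921 = N21921 := ded_17_2 (flp_b L171560) (flp_g L118854) L118941 L118854 L171560
theorem L171567 : sm gb N16567 = N21922 := rfl
theorem L171569 : sm ge N21922 = N16742 := ded_15_2 L171558 L171554 L171567
theorem L171571 : sm gc N21922 = N16740 := ded_13_2 (flp_b L121472) (flp_c L149152) (flp_b L118921) (flp_c L118866) L171567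
theorem L171573 : sm gf N21922 = N21922 := ded_16_2 (flp_b L171567) (flp_f L118862) L122012 L118862 L171567
theorem L171574 : sm ge N16579 = N21923 := rfl
theorem L171576 : sm ga N21923 = N21923 := ded_10_1 (flp_e L171574) L118927 L171574
theorem L171577 : sm gb N21923 = N16594 := ded_15_1 (flp_e L120738) (flp_b L118928) L171574
theorem L171579 : sm gc N21923 = N21923 := ded_19_1 (flp_e L171574) L118931 L171574
theorem L171580 : sm gf N21923 = N21923 := ded_25_2 (flp_e L171574) L118930 L171574
theorem L171581 : sm gg N16579 = N21924 := rfl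
theorem L171583 : sm ga N21924 = N21924 := ded_12_1 (flp_g L171581) L118927 L171581
theorem L171584 : sm gc N21924 = N21924 := ded_21_1 (flp_g L171581) L118931 L171581
theorem L171585 : sm gd N21924 = N16580 := ded_24_1 (flp_g L120603) L118925 L171581
theorem L171587 : sm gf N21924 = N21924 := ded_29_0 (flp_g L171581) L118930 L171581 L171583
theorem L171588 : sm gb N21924 = N16798 := ded_17_1 (flp_g L121831) (flp_b L121833) (flp_g L120744) (flp_b L118928) L171581
theorem L171590 : sm ge N16587 = N21925 := rfl
theorem L171592 : sm ga N21925 = N21925 := ded_10_1 (flp_e L171590) L120709 L171590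
theorem L171593 : sm gb N21925 = N16606 := ded_15_1 (flp_e L120796) (flp_b L120656) L171590
theorem L171595 : sm gc N21925 = N21925 := ded_19_1 (flp_e L171590) L122031 L171590
theorem L171596 : sm gg N21925 = N21925 := ded_26_2 (flp_e L171590) L120658 L171590
theorem L171597 : sm gf N16587 = N21926 := rfl
theorem L171599 : sm ga N21926 = N21926 := ded_11_1 (flp_f L171597) L120709 L171597
theorem L171600 : sm gc N21926 = N21926 := ded_20_1 (flp_f L171597) L122031 L171597
theorem L171601 : sm gd N21926 = N16588 := ded_23_1 (flp_f L120659) L120654 L171597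
theorem L171603 : sm gg N21926 = N21926 := ded_29_3 L171599 (flp_f L171597) L120658 L171597
theorem L171604 : sm gb N21926 = N16983 := ded_16_1 L122722 (flp_b L151260) (flp_f L120800) (flp_b L120656) L171597
theorem L171606 : sm ge N16593 = N21927 := rfl
theorem L171608 : sm ga N21927 = N16594 := ded_10_1 (flp_e L120738) (flp_a L120730) L171606
theorem L171610 : sm gb N21927 = N17145 := ded_15_1 L123387 (flp_b L120732) L171606
theorem L171612 : sm gc N21927 = N16619 := ded_19_1 (flp_e L120862) L120736 L171606
theorem L171614 : sm gf N21927 = N16619 := ded_25_2 (flp_e L120862) (flp_f L120734) L171606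
theorem L171616 : sm gg N16594 = N21928 := rfl
theorem L171618 : sm gc N21928 = N16623 := ded_21_1 (flp_g L120890) (flp_c L120740) L171616
theorem L171620 : sm ge N21928 = N16595 := ded_26_1 (flp_g L120744) L120738 L171616
theorem L171622 : sm gd N16598 = N21929 := rfl
theorem L171624 : sm ga N21929 = N16599 := ded_9_1 (flp_d L120762) (flp_a L120758) L171622
theorem L171626 : sm gb N21929 = N20749 := ded_14_1 (flp_d L162736) (flp_b L161900) L171622
theorem L171628 : sm gf N21929 = N17127 := ded_23_2 (flp_d L123301) (flp_f L120760) L171622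
theorem L171630 : sm gg N21929 = N17115 := ded_24_2 L163955 L161651 L171622
theorem L171632 : sm gc N21929 = N17118 := ded_28_6 L123263 (flp_a L123249) L151830 (flp_d L163951) L122156 (flp_d L98481) L120756 L171622
theorem L171634 : sm gc N16599 = N21930 := rfl
theorem L171636 : sm ga N21930 = N17118 := ded_8_1 (flp_c L171632) L171624 L171634
theorem L171638 : sm gg N21930 = N17112 := ded_21_2 (flp_c L163953) L152712 L171634
theorem L171640 : sm gd N21930 = N17114 := ded_28_7 L123249 (flp_c L123203) L163973 (flp_c L111483) L93149 L97070 L120762 L171634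
theorem L171642 : sm ge N16599 = N21931 := rfl
theorem L171644 : sm gf N16599 = N21932 := rfl
theorem L171646 : sm ga N21932 = N17127 := ded_11_1 (flp_f L171628) L171624 L171644
theorem L171648 : sm gd N21932 = N16600 := ded_23_1 (flp_f L120764) L120762 L171644
theorem L171650 : sm ge N16604 = N21933 := rfl
theorem L171652 : sm ga N21933 = N16606 := ded_10_1 (flp_e L120796) (flp_a L120788) L171650
theorem L171654 : sm gb N21933 = N17208 := ded_15_1 L123684 (flp_b L150740) L171650
theorem L171656 : sm gc N21933 = N16639 := ded_19_1 (flp_e L120981) (flp_c L150189) L171650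
theorem L171658 : sm gg N21933 = N16639 := ded_26_2 (flp_e L120981) (flp_g L120790) L171650
theorem L171660 : sm gf N16606 = N21934 := rfl
theorem L171662 : sm gc N21934 = N16647 := ded_20_1 (flp_f L121016) (flp_c L150207) L171660
theorem L171664 : sm ge N21934 = N16607 := ded_25_1 (flp_f L120800) L120796 L171660
theorem L171666 : sm gd N16610 = N21935 := rfl
theorem L171668 : sm ga N21935 = N16611 := ded_9_1 (flp_d L120816) (flp_a L120812) L171666
theorem L171670 : sm gb N21935 = N20695 := ded_14_1 (flp_d L162414) L162792 L171666
theorem L171672 : sm gf N21935 = N16920 := ded_23_2 L163961 L161398 L171666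
theorem L171674 : sm gg N21935 = N16933 := ded_24_2 (flp_d L122420) (flp_g L120814) L171666
theorem L171676 : sm gc N21935 = N16922 := ded_28_6 L122364 (flp_a L122350) L122834 L163959 L123063 L98409 L120810 L171666
theorem L171678 : sm gc N16611 = N21936 := rfl
theorem L171680 : sm ga N21936 = N16922 := ded_8_1 (flp_c L171676) L171668 L171678
theorem L171682 : sm gf N21936 = N16917 := ded_20_2 L163963 L153127 L171678
theorem L171684 : sm gd N21936 = N16918 := ded_28_7 L122350 (flp_c L122304) L163987 (flp_c L111509) L93167 L97098 L120816 L171678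
theorem L171686 : sm ge N16611 = N21937 := rfl
theorem L171688 : sm gg N16611 = N21938 := rfl
theorem L171690 : sm ga N21938 = N16933 := ded_12_1 (flp_g L171674) L171668 L171688
theorem L171692 : sm gd N21938 = N16612 := ded_24_1 (flp_g L120818) L120816 L171688
theorem L171694 : sm gg N16617 = N21939 := rfl
theorem L171696 : sm gc N21939 = N17147 := ded_21_1 (flp_g L123398) L120858 L171694
theorem L171698 : sm gd N21939 = N16618 := ded_24_1 (flp_g L120860) L120852 L171694
theorem L171700 : sm gg N16619 = N21940 := rfl
theorem L171702 : sm ga N21940 = N16623 := ded_12_1 (flp_g L120890) (flp_a L120864) L171700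
theorem L171704 : sm ge N21940 = N16620 := ded_26_1 (flp_g L120866) L120862 L171700
theorem L171706 : sm gf N21940 = N21928 := ded_29_2 (flp_g L171616) (flp_a L171608) L171614 L171700
theorem L171708 : sm gb N16620 = N21941 := rfl
theorem L171710 : sm gd N21941 = N16621 := ded_14_2 (flp_b L120874) (flp_d L120870) L171708
theorem L171712 : sm gf N21941 = N16809 := ded_16_2 (flp_b L121819) L121825 (flp_b L121833) (flp_f L120872) L171708
theorem L171714 : sm gc N16621 = N21942 := rfl
theorem L171716 : sm ga N21942 = N17255 := ded_8_1 (flp_c L163740) L121901 L171714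
theorem L171718 : sm gf N21942 = N16813 := ded_20_2 (flp_c L121841) L120876 L171714
theorem L171720 : sm gb N21942 = N16622 := ded_13_1 (flp_c L120886) (flp_b L97138) (flp_c L97134) L120874 L171714
theorem L171722 : sm gd N16900 = N21942 := ded_9_0 L171716 (flp_d L123920) (flp_a L123966)
theorem L171724 : sm gb N16623 = N21943 := rfl
theorem L171726 : sm ge N21943 = N16624 := ded_15_2 (flp_b L120894) (flp_e L120892) L171724
theorem L171728 : sm gg N21943 = N21943 := ded_17_2 (flp_b L171724) (flp_g L120890) L97142 L120890 L171724
theorem L171729 : sm ga N16669 = N21943 := ded_10_3 L171726 (flp_a L120935) (flp_e L121163)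
theorem L171731 : sm gf N16623 = N21944 := rfl
theorem L171733 : sm ga N21944 = N21928 := ded_11_1 (flp_f L171706) L171702 L171731
theorem L171735 : sm gc N21944 = N21940 := ded_20_1 L171706 L171618 L171731
theorem L171737 : sm ge N21944 = N16625 := ded_25_1 (flp_f L120899) (flp_e L120892) L171731
theorem L171739 : sm gg N21944 = N21927 := ded_29_3 L171608 L120742 L120890 L171731
theorem L171741 : sm gc N16624 = N21945 := rfl
theorem L171743 : sm ga N21945 = N16670 := ded_8_1 (flp_c L121166) L120935 L171741
theorem L171745 : sm gg N21945 = N21945 := ded_21_2 (flp_c L171741) L120898 L171741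
theorem L171746 : sm gf N16624 = N21946 := rfl
theorem L171748 : sm ga N21946 = N16671 := ded_11_1 (flp_f L121169) L120935 L171746
theorem L171750 : sm gd N21946 = N16627 := ded_23_1 (flp_f L120912) (flp_d L120896) L171746
theorem L171752 : sm gg N21946 = N16671 := ded_29_3 (flp_a L171748) (flp_f L171746) L120898 L171746
theorem L171754 : sm gb N16625 = N21947 := rfl
theorem L171756 : sm gd N21947 = N16628 := ded_14_2 (flp_b L120939) (flp_d L120905) L171754
theorem L171758 : sm gg N21947 = N16849 := ded_17_2 (flp_b L122052) (flp_g L118192) (flp_b L120732) (flp_g L120907) L171754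
theorem L171760 : sm ga N17046 = N21947 := ded_9_3 L171756 (flp_a L122136) (flp_d L166017)
theorem L171762 : sm gc N21947 = N17045 := ded_8_2 (flp_a L122953) L122957 L171760
theorem L171764 : sm gf N16635 = N21948 := rfl
theorem L171766 : sm gc N21948 = N17215 := ded_20_1 (flp_f L123718) (flp_c L150756) L171764
theorem L171768 : sm gd N21948 = N16636 := ded_23_1 (flp_f L120971) L120967 L171764
theorem L171770 : sm gf N16639 = N21949 := rfl
theorem L171772 : sm ga N21949 = N16647 := ded_11_1 (flp_f L121016) (flp_a L120983) L171770
theorem L171774 : sm ge N21949 = N16640 := ded_25_1 (flp_f L120985) L120981 L171770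
theorem L171776 : sm gg N21934 = N21949 := ded_29_1 (flp_f L171770) (flp_g L171658) L171652 L171660
theorem L171778 : sm gb N16640 = N21950 := rfl
theorem L171780 : sm gd N21950 = N16641 := ded_14_2 (flp_b L120993) (flp_d L120989) L171778
theorem L171782 : sm gg N21950 = N16993 := ded_17_2 (flp_b L122712) L122718 (flp_b L151260) L120991 L171778
theorem L171784 : sm gc N16641 = N21951 := rfl
theorem L171786 : sm ga N21951 = N17162 := ded_8_1 L163754 (flp_a L151083) L171784
theorem L171788 : sm gg N21951 = N16997 := ded_21_2 (flp_c L122736) (flp_g L151087) L171784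
theorem L171790 : sm gb N21951 = N16642 := ded_13_1 (flp_c L120995) (flp_b L97184) (flp_c L97180) L120993 L171784
theorem L171792 : sm gd N17095 = N21951 := ded_9_0 L171786 (flp_d L123486) (flp_a L123971)
theorem L171794 : sm gb N16647 = N21952 := rfl
theorem L171796 : sm ge N21952 = N16648 := ded_15_2 (flp_b L121020) (flp_e L121018) L171794
theorem L171798 : sm gf N21952 = N21952 := ded_16_2 (flp_b L171794) (flp_f L121016) L97190 L121016 L171794
theorem L171799 : sm ga N21952 = N16740 := ded_30_3 L121476 (flp_c L171571) (flp_b L171567) L118864 (flp_f L118858) L118709 (flp_b L147656) L98240 L98310 L98312 L98327 L122909 L122913 L123680 (flp_b L171654) L171652 L171660 L171662 L171794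
theorem L171801 : sm gg N16647 = N21953 := rfl
theorem L171803 : sm ga N21953 = N21934 := ded_12_1 L171776 L171772 L171801
theorem L171805 : sm gc N21953 = N21949 := ded_21_1 (flp_g L171776) L171662 L171801
theorem L171807 : sm ge N21953 = N16649 := ded_26_1 (flp_g L121025) (flp_e L121018) L171801
theorem L171809 : sm gf N21933 = N21953 := ded_29_0 (flp_g L171801) (flp_f L121016) (flp_g L120798) (flp_a L171652)
theorem L171811 : sm gc N16648 = N21954 := rfl
theorem L171813 : sm ga N21954 = N16742 := ded_8_1 (flp_c L121482) (flp_a L150718) L171811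
theorem L171815 : sm gf N21954 = N21954 := ded_20_2 (flp_c L171811) L121024 L171811
theorem L171816 : sm gg N16648 = N21955 := rfl
theorem L171818 : sm ga N21955 = N16743 := ded_12_1 (flp_g L121485) (flp_a L150718) L171816
theorem L171820 : sm gd N21955 = N16651 := ded_24_1 (flp_g L121036) (flp_d L121022) L171816
theorem L171822 : sm gf N16743 = N21955 := ded_29_0 (flp_g L171816) L121024 L171816 L171818
theorem L171824 : sm gb N16649 = N21956 := rfl
theorem L171826 : sm gd N21956 = N16652 := ded_14_2 (flp_b L121038) (flp_d L121029) L171824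
theorem L171828 : sm gf N21956 = N17044 := ded_16_2 (flp_b L122947) L149380 (flp_b L150740) L121031 L171824
theorem L171830 : sm ga N16851 = N21956 := ded_9_3 L171826 L150732 L166019
theorem L171832 : sm gc N21956 = N16850 := ded_8_2 (flp_a L122058) L122062 L171830
theorem L171834 : sm gg N16657 = N21957 := rfl
theorem L171836 : sm ga N21957 = N16663 := ded_12_1 (flp_g L121119) (flp_a L121068) L171834
theorem L171838 : sm gc N21957 = N21036 := ded_21_1 (flp_g L165830) (flp_c L121074) L171834
theorem L171840 : sm gd N21957 = N16659 := ded_24_1 (flp_g L121087) L121066 L171834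
theorem L171842 : sm ge N21957 = N19238 := ded_26_1 (flp_g L152680) (flp_e L121072) L171834
theorem L171844 : sm ge N16660 = N21958 := rfl
theorem L171846 : sm ga N21958 = N19236 := ded_10_1 L152666 (flp_a L121093) L171844
theorem L171848 : sm gb N21958 = N18466 := ded_15_1 L130604 (flp_b L121095) L171844
theorem L171850 : sm gc N21958 = N16661 := ded_19_1 (flp_e L121101) L121091 L171844
theorem L171852 : sm gf N21958 = N16802 := ded_25_2 (flp_e L121785) L121099 L171844
theorem L171854 : sm gd N21958 = N16804 := ded_32_1 L121799 L97640 L119650 L89877 (flp_d L39713) (flp_c L18841) L9133 L9163 L58194 L18953 L39945 (flp_d L39949) (flp_c L39729) (flp_b L39625) (flp_d L39623) (flp_c L18817) (flp_d L15926) L67117 (flp_b L15924) L7809 L4617 L2396 L1206 L1234 L1237 L574 L334 (flp_d L709) L1504 L65048 L2967 L3026 (flp_d L3020) (flp_c L1552) L741 (flp_d L737) (flp_c L328) (flp_d L319) L711 (flp_b L1456) L2851 (flp_c L69605) (flp_d L5215) (flp_c L2709) (flp_b L1378) (flp_d L1359) L1358 L1359 (flp_c L1180) L2310 (flp_e L4445) (flp_d L8683) L17854 L37275 L88773 L103415 (flp_d L103538)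 L119868 L88855 L69202 L64880 (flp_d L39955) (flp_c L90051) L105825 L119568 (flp_b L91706) (flp_d L91670) (flp_c L119686) L119276 (flp_c L89616) (flp_b L39583) (flp_d L33074) (flp_c L87969) (flp_d L101797) (flp_c L102914) (flp_b L121095) L171844
theorem L171856 : sm gf N16661 = N21959 := rfl
theorem L171858 : sm ga N21959 = N19237 := ded_11_1 (flp_f L152671) (flp_a L121103) L171856
theorem L171860 : sm gc N21959 = N16802 := ded_20_1 (flp_f L171852) L171850 L171856
theorem L171862 : sm gd N21959 = N19234 := ded_23_1 (flp_f L152652) (flp_d L121107) L171856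
theorem L171864 : sm ge N21959 = N16662 := ded_25_1 (flp_f L121109) L121101 L171856
theorem L171866 : sm gb N21959 = N16806 := ded_16_1 (flp_f L121805) L97636 (flp_f L97260) (flp_b L121105) L171856
theorem L171868 : sm gg N16661 = N21960 := rfl
theorem L171870 : sm ga N21960 = N19238 := ded_12_1 (flp_g L152680) (flp_a L121103) L171868
theorem L171872 : sm gd N21960 = N19235 := ded_24_1 (flp_g L152658) (flp_d L121107) L171868
theorem L171874 : sm ge N21960 = N16663 := ded_26_1 (flp_g L121119) L121101 L171868
theorem L171876 : sm gg N16662 = N21961 := rfl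
theorem L171878 : sm ga N21961 = N21034 := ded_12_1 (flp_g L165816) (flp_a L121111) L171876
theorem L171880 : sm gc N21961 = N21032 := ded_21_1 (flp_g L165806) (flp_c L121113) L171876
theorem L171882 : sm gd N21961 = N16664 := ded_24_1 (flp_g L121123) (flp_d L121115) L171876
theorem L171884 : sm gf N21957 = N21961 := ded_29_0 (flp_g L171876) (flp_f L121109) L121119 (flp_a L171836)
theorem L171886 : sm gb N16664 = N21962 := rfl
theorem L171888 : sm gc N21962 = N18611 := ded_13_2 (flp_b L143573) (flp_c L147903) L120311 (flp_c L121125) L171886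
theorem L171890 : sm gf N21962 = N16856 := ded_16_2 L122078 L123422 L123428 L121127 L171886
theorem L171892 : sm gg N21962 = N16811 := ded_17_2 (flp_b L121835) (flp_g L97646) (flp_b L97244) L121123 L171886
theorem L171894 : sm gf N16853 = N16811 := ded_29_0 (flp_g L171892) L171890 (flp_g L122076) L122070
theorem L171896 : sm ga N16811 = N16855 := ded_29_4 (flp_f L122074) L122076 (flp_f L171890) L171892
theorem L171898 : sm gf N21495 = N21541 := ded_25_2 L169159 L171894 (flp_e L168875)
theorem L171900 : sm ga N21543 = N21495 := ded_10_3 L168875 L171896 (flp_e L169169)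
theorem L171902 : sm gb N16665 = N21963 := rfl
theorem L171905 : sm gc N16667 = N21964 := rfl
theorem L171907 : sm ga N21964 = N21964 := ded_8_1 (flp_c L171905) L121149 L171905
theorem L171908 : sm ge N21964 = N21081 := ded_19_2 (flp_c L166204) L166177 L171905
theorem L171910 : sm gf N21964 = N21964 := ded_20_2 (flp_c L171905) L121152 L171905
theorem L171911 : sm gb N21964 = N20498 := ded_13_1 (flp_c L161308) L111611 L97272 (flp_b L121150) L171905
theorem L171913 : sm gd N21964 = N21923 := ded_32_3 L171579 L171577 L161312 (flp_c L161308) (flp_d L111609) (flp_c L111573) (flp_b L111571) L111575 (flp_c L118974) L118976 (flp_c L91816) (flp_b L44105) (flp_d L43350) (flp_c L91041) L91043 L42946 L88626 (flp_d L102407) L129514 L129521 L121754 L114820 L114835 L114840 L95070 (flp_d L114840) L114838 (flp_b L121743) (flp_d L121745) (flp_c L152673) L152675 L105427 L119622 (flp_d L85400) (flp_c L26765) (flp_d L22359) (flp_c L91641) L46479 (flp_d L46477) L91641 L22359 L26765 L85396 L119627 (flp_c L105427) (flp_d L152675) L152673 L114876 (flp_e L95067) (flp_d L84191) (flp_c L24443) (flp_d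 L11752) L5816 L5814 L5829 L11770 L11776 (flp_c L9449) (flp_b L9179) (flp_d L9177) (flp_c L4649) (flp_d L4625) L9135 (flp_b L18819) L39623 L89696 (flp_d L89692) (flp_c L39613) L39611 (flp_d L88168) (flp_c L116060) L95651 (flp_c L97276) L120619 L120623 L121147 L171905
theorem L171915 : sm gf N16669 = N21965 := rfl
theorem L171917 : sm ge N21965 = N16671 := ded_25_1 (flp_f L121169) (flp_e L121163) L171915
theorem L171919 : sm gd N16670 = N21966 := rfl
theorem L171921 : sm gg N21966 = N21966 := ded_24_2 (flp_d L171919) L121168 L171919
theorem L171922 : sm gf N16670 = N21967 := rfl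
theorem L171924 : sm gc N21967 = N16671 := ded_20_1 (flp_f L121169) L121166 L171922
theorem L171926 : sm gb N21967 = N16989 := ded_16_1 (flp_f L122696) L122678 L171544 (flp_b L171546) L171922
theorem L171928 : sm gc N16672 = N21968 := rfl
theorem L171930 : sm gg N21968 = N21968 := ded_21_2 (flp_c L171928) L121177 L171928
theorem L171931 : sm gb N21968 = N18317 := ded_13_1 L129686 (flp_b L163223) (flp_c L121202) (flp_b L121175) L171928
theorem L171933 : sm ge N16672 = N21969 := rfl
theorem L171935 : sm gb N21969 = N16679 := ded_15_1 (flp_e L121206) (flp_b L121175) L171933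
theorem L171937 : sm gg N21969 = N21969 := ded_26_2 (flp_e L171933) L121177 L171933
theorem L171938 : sm gf N16672 = N21970 := rfl
theorem L171940 : sm gd N21970 = N16673 := ded_23_1 (flp_f L121178) L121173 L171938
theorem L171942 : sm gb N16673 = N21971 := rfl
theorem L171944 : sm gc N21971 = N17266 := ded_13_2 L163651 L121897 L97700 (flp_c L121180) L171942
theorem L171946 : sm gf N21971 = N16681 := ded_16_2 (flp_b L121214) (flp_f L97315) (flp_b L97299) L121178 L171942
theorem L171948 : sm gg N17263 = N21971 := ded_21_0 L171944 (flp_g L123999) L123987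
theorem L171950 : sm gd N16676 = N21972 := rfl
theorem L171952 : sm gb N21972 = N16677 := ded_14_1 (flp_d L121196) L121194 L171950
theorem L171954 : sm gc N21972 = N17280 := ded_28_6 (flp_d L124065) (flp_a L124035) (flp_c L124033) (flp_d L98927) (flp_c L98901) L123946 (flp_c L163870) L171950
theorem L171956 : sm gf N16676 = N21973 := rfl
theorem L171958 : sm gg N21973 = N16681 := ded_29_1 (flp_f L171946) (flp_g L171948) L163967 L171956
theorem L171960 : sm gg N16676 = N21974 := rfl
theorem L171962 : sm ga N21974 = N21971 := ded_12_1 (flp_g L171948) L163967 L171960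
theorem L171964 : sm gc N21974 = N19974 := ded_21_1 L163824 (flp_c L163870) L171960
theorem L171966 : sm gb N21974 = N16688 := ded_17_1 (flp_g L121238) (flp_b L97331) (flp_g L97309) L121194 L171960
theorem L171968 : sm gc N16677 = N21975 := rfl
theorem L171970 : sm ga N21975 = N16678 := ded_8_1 (flp_c L121202) (flp_a L121198) L171968
theorem L171972 : sm gg N21975 = N16689 := ded_21_2 (flp_c L121244) (flp_g L121200) L171968
theorem L171974 : sm gb N21975 = N17365 := ded_13_1 L147258 L124856 (flp_c L171954) L171952 L171968
theorem L171976 : sm gd N21975 = N17372 := ded_28_7 (flp_a L143271) (flp_c L163250) (flp_d L161404) (flp_c L111669) L93265 L97305 L121196 L171968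
theorem L171978 : sm ge N16677 = N21976 := rfl
theorem L171980 : sm ga N21976 = N16679 := ded_10_1 (flp_e L121206) (flp_a L121198) L171978
theorem L171982 : sm gg N21976 = N16690 := ded_26_2 (flp_e L121250) (flp_g L121200) L171978
theorem L171984 : sm gf N16678 = N21977 := rfl
theorem L171986 : sm gc N21977 = N16680 := ded_20_1 (flp_f L121210) L121202 L171984
theorem L171988 : sm gb N21977 = N17292 := ded_16_1 (flp_f L124115) L148866 L102453 (flp_b L163223) L171984
theorem L171990 : sm gf N16679 = N21978 := rfl
theorem L171992 : sm ge N21978 = N16680 := ded_25_1 (flp_f L121210) L121206 L171990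
theorem L171994 : sm gb N16680 = N21979 := rfl
theorem L171996 : sm gd N21979 = N16681 := ded_14_2 (flp_b L121214) (flp_d L121212) L171994
theorem L171998 : sm ga N16681 = N21980 := rfl
theorem L172000 : sm gf N21980 = N21974 := ded_11_2 L171962 L171946 L171998
theorem L172002 : sm gb N16685 = N21981 := rfl
theorem L172004 : sm ga N21981 = N21981 := ded_7_1 (flp_b L172002) (flp_a L121230) (flp_b L97331) L85294 L26728 (flp_a L85294) L97331 L121230 L172002
theorem L172005 : sm gd N16685 = N21982 := rfl
theorem L172007 : sm ga N21982 = N16686 := ded_9_1 (flp_d L121232) L121230 L172005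
theorem L172009 : sm gf N21982 = N19161 := ded_23_2 (flp_d L157987) (flp_f L157989) L172005
theorem L172011 : sm gc N19162 = N21982 := ded_8_0 L172007 (flp_c L153745) (flp_a L152176)
theorem L172013 : sm gg N16685 = N21983 := rfl
theorem L172015 : sm ga N21983 = N16688 := ded_12_1 (flp_g L121238) L121230 L172013
theorem L172017 : sm gc N21983 = N19975 := ded_21_1 (flp_g L157997) L157995 L172013
theorem L172019 : sm gf N19976 = N21983 := ded_29_0 (flp_g L172013) L157989 (flp_g L157981) (flp_a L157965)
theorem L172021 : sm gb N20032 = N21983 := ded_13_5 L172017 (flp_b L157961) (flp_c L148052) (flp_b L109472) (flp_c L158283)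
theorem L172023 : sm ge N16686 = N21984 := rfl
theorem L172025 : sm gb N21984 = N16690 := ded_15_1 (flp_e L121250) (flp_b L121234) L172023
theorem L172027 : sm gf N16686 = N21985 := rfl
theorem L172029 : sm ga N21985 = N19161 := ded_11_1 (flp_f L172009) L172007 L172027
theorem L172031 : sm gc N21985 = N19159 := ded_20_1 L152148 L153745 L172027
theorem L172033 : sm gd N21985 = N16687 := ded_23_1 (flp_f L121236) L121232 L172027
theorem L172035 : sm gg N21985 = N19158 := ded_29_3 L152142 (flp_f L152132) (flp_g L153743) L172027
theorem L172037 : sm gb N16687 = N21986 := rfl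
theorem L172039 : sm gf N21986 = N16692 := ded_16_2 (flp_b L121262) (flp_f L97337) L97331 L121236 L172037
theorem L172041 : sm gf N16689 = N21987 := rfl
theorem L172043 : sm ga N21987 = N16696 := ded_11_1 (flp_f L121277) (flp_a L121246) L172041
theorem L172045 : sm gc N21987 = N16691 := ded_20_1 (flp_f L121254) L121244 L172041
theorem L172047 : sm gd N21987 = N20531 := ded_23_1 (flp_f L161472) L121248 L172041
theorem L172049 : sm gg N21977 = N21987 := ded_29_1 (flp_f L172041) (flp_g L171972) L171970 L171984
theorem L172051 : sm gb N21987 = N18519 := ded_16_1 L143023 (flp_b L143553) L163125 (flp_b L163127) L172041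
theorem L172053 : sm gf N16690 = N21988 := rfl
theorem L172055 : sm ga N21988 = N16697 := ded_11_1 (flp_f L121281) (flp_a L121252) L172053
theorem L172057 : sm ge N21988 = N16691 := ded_25_1 (flp_f L121254) L121250 L172053
theorem L172059 : sm gg N21978 = N21988 := ded_29_1 (flp_f L172053) (flp_g L171982) L171980 L171990
theorem L172061 : sm gb N16691 = N21989 := rfl
theorem L172063 : sm gd N21989 = N16692 := ded_14_2 (flp_b L121262) (flp_d L121258) L172061
theorem L172065 : sm ga N16692 = N21990 := rfl
theorem L172067 : sm gc N21990 = N17176 := ded_8_2 L163856 L161715 L172065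
theorem L172069 : sm gb N21990 = N17170 := ded_7_2 (flp_a L163864) (flp_b L121523) L97478 (flp_b L97470) L150725 (flp_b L97354) (flp_a L97339) L121262 L172065
theorem L172071 : sm gg N16692 = N21991 := rfl
theorem L172073 : sm gb N21991 = N21973 := ded_17_1 L171958 (flp_b L121214) L97343 L121262 L172071
theorem L172075 : sm gf N21991 = N16702 := ded_31_1 (flp_b L121307) (flp_g L97359) (flp_f L85305) L26728 (flp_g L85286) L97315 L121214 (flp_g L171958) (flp_f L171956) (flp_b L121194) L97309 L97337 L121262 L172071
theorem L172077 : sm gg N16696 = N21992 := rfl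
theorem L172079 : sm ga N21992 = N21977 := ded_12_1 L172049 L172043 L172077
theorem L172081 : sm gc N21992 = N16699 := ded_21_1 (flp_g L121290) (flp_c L121279) L172077
theorem L172083 : sm gf N21975 = N21992 := ded_29_0 (flp_g L172077) (flp_f L121277) (flp_g L121204) (flp_a L171970)
theorem L172085 : sm gb N16697 = N21993 := rfl
theorem L172087 : sm ge N21993 = N16698 := ded_15_2 (flp_b L121285) (flp_e L121283) L172085
theorem L172089 : sm gf N21993 = N21993 := ded_16_2 (flp_b L172085) (flp_f L121281) L97349 L121281 L172085
theorem L172090 : sm gg N16697 = N21994 := rfl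
theorem L172092 : sm ga N21994 = N21978 := ded_12_1 L172059 L172055 L172090
theorem L172094 : sm ge N21994 = N16699 := ded_26_1 (flp_g L121290) (flp_e L121283) L172090
theorem L172096 : sm gf N21976 = N21994 := ded_29_0 (flp_g L172090) (flp_f L121281) (flp_g L121208) (flp_a L171980)
theorem L172098 : sm gc N16698 = N21995 := rfl
theorem L172100 : sm gf N21995 = N21995 := ded_20_2 (flp_c L172098) L121289 L172098
theorem L172101 : sm gg N16698 = N21996 := rfl
theorem L172103 : sm gd N21996 = N16701 := ded_24_1 (flp_g L121303) (flp_d L121287) L172101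
theorem L172105 : sm gb N16699 = N21997 := rfl
theorem L172107 : sm gd N21997 = N16702 := ded_14_2 (flp_b L121307) (flp_d L121294) L172105
theorem L172109 : sm gb N16701 = N21998 := rfl
theorem L172111 : sm gg N21998 = N16702 := ded_17_2 (flp_b L121307) (flp_g L97359) L97354 L121303 L172109
theorem L172113 : sm gf N21990 = N21998 := ded_29_0 L172111 (flp_f L172075) (flp_g L172071) L172065
theorem L172115 : sm ga N21998 = N21986 := ded_29_4 L172039 L172071 L172075 (flp_g L172111)
theorem L172117 : sm ga N16702 = N21999 := rfl
theorem L172119 : sm gg N21999 = N21986 := ded_12_2 (flp_a L172115) L172111 L172117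
theorem L172121 : sm gc N16702 = N22000 := rfl
theorem L172123 : sm gb N22000 = N16703 := ded_13_1 (flp_c L121309) (flp_b L97367) (flp_c L97363) L121307 L172121
theorem L172125 : sm gf N16721 = N22001 := rfl
theorem L172127 : sm ga N22001 = N16726 := ded_11_1 (flp_f L121402) (flp_a L121386) L172125
theorem L172129 : sm gc N22001 = N21058 := ded_20_1 (flp_f L166021) L149821 L172125
theorem L172131 : sm gd N22001 = N16722 := ded_23_1 (flp_f L121388) L121384 L172125
theorem L172133 : sm ge N22001 = N19294 := ded_25_1 (flp_f L153086) L151141 L172125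
theorem L172135 : sm ge N16724 = N22002 := rfl
theorem L172137 : sm ga N22002 = N19293 := ded_10_1 L153081 (flp_a L149188) L172135
theorem L172139 : sm gb N22002 = N18467 := ded_15_1 L130612 (flp_b L149190) L172135
theorem L172141 : sm gc N22002 = N16725 := ded_19_1 (flp_e L121398) L121396 L172135
theorem L172143 : sm gg N22002 = N16987 := ded_26_2 (flp_e L122686) (flp_g L149194) L172135
theorem L172145 : sm gd N22002 = N16990 := ded_32_1 L122702 L98218 (flp_c L149858) L89965 (flp_d L39811) (flp_c L18889) L9147 L9221 L74202 L19077 L40203 (flp_d L40207) (flp_c L39827) (flp_b L39665) (flp_d L39663) (flp_c L18827) (flp_d L15930) L79053 (flp_b L15928) L7817 L4621 L2400 L1212 L1248 L1251 L586 (flp_c L65308) (flp_d L719) L1532 L73630 L2995 L3056 (flp_d L3052) (flp_c L1572) L769 (flp_d L767) (flp_c L344) (flp_d L323) L721 (flp_b L1464) L2877 (flp_c L82593) (flp_d L5243) (flp_c L2721) (flp_b L1386) (flp_d L1364) L1363 L1364 (flp_c L1184) L2320 (flp_e L4459) (flp_d L8695) L17872 L37311 L88802 L103474 (flp_d L103634) L129619 L88928 L82585 L81714 (flp_d L40213) (flp_c L90227) L106144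 L148070 (flp_b L91738) (flp_d L91688) L148104 (flp_d L147349) (flp_c L89622) (flp_b L39585) (flp_d L33080) (flp_c L87975) (flp_d L101803) (flp_c L102922) (flp_b L149190) L172135
theorem L172147 : sm gf N16725 = N22003 := rfl
theorem L172149 : sm ga N22003 = N19294 := ded_11_1 (flp_f L153086) (flp_a L150811) L172147
theorem L172151 : sm gd N22003 = N19291 := ded_23_1 (flp_f L153067) L149721 L172147
theorem L172153 : sm ge N22003 = N16726 := ded_25_1 (flp_f L121402) L121398 L172147
theorem L172155 : sm gg N16725 = N22004 := rfl
theorem L172157 : sm ga N22004 = N19295 := ded_12_1 (flp_g L153092) (flp_a L150811) L172155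
theorem L172159 : sm gc N22004 = N16987 := ded_21_1 (flp_g L172143) L172141 L172155
theorem L172161 : sm gd N22004 = N19292 := ded_24_1 (flp_g L153073) L149721 L172155
theorem L172163 : sm ge N22004 = N16727 := ded_26_1 (flp_g L121406) L121398 L172155
theorem L172165 : sm gb N22004 = N16992 := ded_17_1 (flp_g L122708) L98210 (flp_g L97431) (flp_b L121400) L172155
theorem L172167 : sm gf N16727 = N22005 := rfl
theorem L172169 : sm ga N22005 = N21055 := ded_11_1 (flp_f L165987) (flp_a L150880) L172167
theorem L172171 : sm gc N22005 = N21053 := ded_20_1 (flp_f L165977) L150456 L172167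
theorem L172173 : sm gd N22005 = N16729 := ded_23_1 (flp_f L121416) (flp_d L121408) L172167
theorem L172175 : sm gg N22005 = N22001 := ded_29_3 L172127 (flp_f L121402) L121406 L172167
theorem L172177 : sm gb N16728 = N22006 := rfl
theorem L172180 : sm gb N16729 = N22007 := rfl
theorem L172182 : sm gc N22007 = N18570 := ded_13_2 (flp_b L143341) L119853 (flp_b L149239) L150878 L172180
theorem L172184 : sm gf N22007 = N17000 := ded_16_2 (flp_b L122744) (flp_f L98228) (flp_b L97417) L121416 L172180
theorem L172186 : sm gg N22007 = N17050 := ded_17_2 L122971 L123812 L151252 (flp_g L121420) L172180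
theorem L172188 : sm ga N17051 = N17000 := ded_29_4 (flp_f L172184) L172186 (flp_f L122969) L122973
theorem L172190 : sm gg N17000 = N17048 := ded_29_3 (flp_a L122965) L122969 (flp_g L172186) L172184
theorem L172192 : sm ga N21657 = N21703 := ded_10_3 L170182 L172188 (flp_e L169892)
theorem L172194 : sm gg N21700 = N21657 := ded_26_2 L169892 L172190 (flp_e L170164)
theorem L172196 : sm gc N16733 = N22008 := rfl
theorem L172198 : sm ga N22008 = N22008 := ded_8_1 (flp_c L172196) L149205 L172196
theorem L172199 : sm ge N22008 = N21086 := ded_19_2 (flp_c L166252) L166193 L172196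
theorem L172201 : sm gg N22008 = N22008 := ded_21_2 (flp_c L172196) L121442 L172196
theorem L172202 : sm gb N22008 = N20544 := ded_13_1 (flp_c L161559) L111761 L97443 (flp_b L121440) L172196
theorem L172204 : sm gd N22008 = N21925 := ded_32_3 L171595 L171593 L161563 (flp_c L161559) (flp_d L111759) (flp_c L111727) (flp_b L111725) L111729 L150932 L148183 (flp_c L91832) (flp_b L44115) (flp_d L43356) (flp_c L91051) L91053 L42954 L88640 (flp_d L102413) L129646 L129653 L122658 L114993 L115008 L115013 L95164 (flp_d L115013) L115011 (flp_b L122649) (flp_d L122647) (flp_c L153094) L153096 L105620 (flp_b L150416) (flp_d L85601) (flp_c L26849) (flp_d L22391) L102088 L46539 (flp_d L46537) (flp_c L102088) L22391 L26849 L85597 (flp_d L149889) (flp_c L105620) (flp_d L153096) L153094 L115049 (flp_e L95161) (flp_d L84238) (flp_c L24643) (flp_d L11845) L5858 L5856 L5879 L11893 (flp_d L65501) (flp_c L9484) (flp_b L9237) (flp_d L9235) (flp_c L4667) (flp_d L4635) L9149 (flp_b L18829) L39663 L89781 (flp_d L89777) (flp_c L39653) L39651 (flp_d L88190) L148955 L95750 (flp_c L97447) (flp_b L149174)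 L149177 L121438 L172196
theorem L172206 : sm gg N16740 = N22009 := rfl
theorem L172208 : sm ge N22009 = N16743 := ded_26_1 (flp_g L121485) (flp_e L121474) L172206
theorem L172210 : sm gd N16742 = N22010 := rfl
theorem L172212 : sm gf N22010 = N22010 := ded_23_2 (flp_d L172210) L121484 L172210
theorem L172213 : sm gg N16742 = N22011 := rfl
theorem L172215 : sm gc N22011 = N16743 := ded_21_1 (flp_g L121485) L121482 L172213
theorem L172217 : sm gb N22011 = N16805 := ded_17_1 (flp_g L121801) L121771 (flp_g L171556) (flp_b L171558) L172213
theorem L172219 : sm gc N16747 = N22012 := rfl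
theorem L172221 : sm ga N22012 = N21995 := ded_8_1 (flp_c L172098) L151102 L172219
theorem L172223 : sm gf N22012 = N22012 := ded_20_2 (flp_c L172219) L121506 L172219
theorem L172224 : sm gb N22012 = N18325 := ded_13_1 L129716 (flp_b L163376) (flp_c L121531) (flp_b L121504) L172219
theorem L172226 : sm ge N16747 = N22013 := rfl
theorem L172228 : sm ga N22013 = N21993 := ded_10_1 L172087 L151102 L172226
theorem L172230 : sm gb N22013 = N16754 := ded_15_1 (flp_e L121535) (flp_b L121504) L172226
theorem L172232 : sm gf N22013 = N22013 := ded_25_2 (flp_e L172226) L121506 L172226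
theorem L172233 : sm gg N16747 = N22014 := rfl
theorem L172235 : sm ga N22014 = N21996 := ded_12_1 (flp_g L172101) L151102 L172233
theorem L172237 : sm gd N22014 = N16748 := ded_24_1 (flp_g L121507) L121502 L172233
theorem L172239 : sm gf N21996 = N22014 := ded_29_0 (flp_g L172233) L121506 L172233 L172235
theorem L172241 : sm gb N16748 = N22015 := rfl
theorem L172243 : sm gc N22015 = N17172 := ded_13_2 (flp_b L163681) L122816 L98274 (flp_c L121509) L172241
theorem L172245 : sm gf N22015 = N17170 := ded_16_2 (flp_b L172069) L172113 (flp_b L172109) (flp_f L151093) L172241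
theorem L172247 : sm gg N22015 = N16756 := ded_17_2 (flp_b L121543) (flp_g L97486) (flp_b L97470) L121507 L172241
theorem L172249 : sm gd N16751 = N22016 := rfl
theorem L172251 : sm gb N22016 = N16752 := ded_14_1 (flp_d L121525) L121523 L172249
theorem L172253 : sm gc N22016 = N17188 := ded_28_6 (flp_d L123596) (flp_a L123574) (flp_c L123572) (flp_d L98744) (flp_c L98718) L123508 L163842 L172249
theorem L172255 : sm gf N16751 = N22017 := rfl
theorem L172257 : sm ga N22017 = N22015 := ded_11_1 L172245 (flp_a L163864) L172255
theorem L172259 : sm gc N22017 = N20028 := ded_20_1 (flp_f L163793) L163842 L172255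
theorem L172261 : sm gb N22017 = N16763 := ded_16_1 (flp_f L121571) (flp_b L97504) (flp_f L97480) L121523 L172255
theorem L172263 : sm gg N16751 = N22018 := rfl
theorem L172265 : sm gf N22018 = N16756 := ded_29_2 (flp_g L172247) (flp_a L172257) (flp_f L172255) L172263
theorem L172267 : sm gc N16752 = N22019 := rfl
theorem L172269 : sm ga N22019 = N16753 := ded_8_1 (flp_c L121531) (flp_a L121527) L172267
theorem L172271 : sm gf N22019 = N16765 := ded_20_2 (flp_c L121575) (flp_f L121529) L172267
theorem L172273 : sm gb N22019 = N17353 := ded_13_1 L142453 L124463 (flp_c L172253) L172251 L172267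
theorem L172275 : sm gd N22019 = N17346 := ded_28_7 (flp_a L143075) (flp_c L163471) (flp_d L161655) (flp_c L111815) L93351 L97476 L121525 L172267
theorem L172277 : sm ge N16752 = N22020 := rfl
theorem L172279 : sm ga N22020 = N16754 := ded_10_1 (flp_e L121535) (flp_a L121527) L172277
theorem L172281 : sm gf N22020 = N16766 := ded_25_2 (flp_e L121581) (flp_f L121529) L172277
theorem L172283 : sm gg N16753 = N22021 := rfl
theorem L172285 : sm gc N22021 = N16755 := ded_21_1 (flp_g L121539) L121531 L172283
theorem L172287 : sm gb N22021 = N17201 := ded_17_1 (flp_g L123650) L130506 (flp_g L102479) (flp_b L163376) L172283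
theorem L172289 : sm gg N16754 = N22022 := rfl
theorem L172291 : sm ge N22022 = N16755 := ded_26_1 (flp_g L121539) L121535 L172289
theorem L172293 : sm gb N16755 = N22023 := rfl
theorem L172295 : sm gd N22023 = N16756 := ded_14_2 (flp_b L121543) (flp_d L121541) L172293
theorem L172297 : sm ga N16756 = N22024 := rfl
theorem L172299 : sm gg N22024 = N22017 := ded_12_2 L172257 L172247 L172297
theorem L172301 : sm gb N16761 = N22025 := rfl
theorem L172303 : sm gc N22025 = N21981 := ded_13_2 (flp_b L172002) (flp_c L157995) (flp_b L158297) L158293 L172301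
theorem L172305 : sm gg N22025 = N21981 := ded_17_2 (flp_b L172002) L172013 (flp_b L172021) L158287 L172301
theorem L172307 : sm ga N22025 = N22025 := ded_7_1 (flp_b L172301) (flp_a L121565) (flp_b L97504) L85363 L26758 (flp_a L85363) L97504 L121565 L172301
theorem L172308 : sm gf N22025 = N21981 := ded_30_4 (flp_c L172303) (flp_b L172301) (flp_a L121565) L121571 (flp_c L155520) (flp_b L109462) (flp_a L92098) (flp_f L92096) (flp_c L92093) L92095 (flp_a L109492) L109496 L109460 L109462 L158253 L158295 L158293 L172301 L172307
theorem L172310 : sm gd N16761 = N22026 := rfl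
theorem L172312 : sm ga N22026 = N16762 := ded_9_1 (flp_d L121567) L121565 L172310
theorem L172314 : sm gg N22026 = N19224 := ded_24_2 (flp_d L158285) L158287 L172310
theorem L172316 : sm gc N19225 = N22026 := ded_8_0 L172312 (flp_c L155528) (flp_a L152586)
theorem L172318 : sm gf N16761 = N22027 := rfl
theorem L172320 : sm ga N22027 = N16763 := ded_11_1 (flp_f L121571) L121565 L172318
theorem L172322 : sm gc N22027 = N20029 := ded_20_1 L158295 L158293 L172318
theorem L172324 : sm gg N22027 = N20030 := ded_29_3 L158263 L158279 L158287 L172318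
theorem L172326 : sm gb N22027 = N19978 := ded_16_1 (flp_f L157989) L172002 (flp_f L172308) (flp_b L172301) L172318
theorem L172328 : sm ge N16762 = N22028 := rfl
theorem L172330 : sm gb N22028 = N16766 := ded_15_1 (flp_e L121581) (flp_b L121569) L172328
theorem L172332 : sm gg N16762 = N22029 := rfl
theorem L172334 : sm ga N22029 = N19224 := ded_12_1 (flp_g L172314) L172312 L172332
theorem L172336 : sm gc N22029 = N19222 := ded_21_1 (flp_g L152574) L155528 L172332
theorem L172338 : sm gd N22029 = N16764 := ded_24_1 (flp_g L121573) L121567 L172332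
theorem L172340 : sm gf N19221 = N22029 := ded_29_0 (flp_g L172332) L155526 L152556 (flp_a L152566)
theorem L172342 : sm gb N16764 = N22030 := rfl
theorem L172344 : sm gg N22030 = N16768 := ded_17_2 (flp_b L121593) (flp_g L97510) L97504 L121573 L172342
theorem L172346 : sm gg N16765 = N22031 := rfl
theorem L172348 : sm ga N22031 = N16772 := ded_12_1 (flp_g L121608) (flp_a L121577) L172346
theorem L172350 : sm gc N22031 = N16767 := ded_21_1 (flp_g L121585) L121575 L172346
theorem L172352 : sm gd N22031 = N20577 := ded_24_1 (flp_g L161723) L121579 L172346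
theorem L172354 : sm gf N22031 = N22021 := ded_29_2 (flp_g L172283) (flp_a L172269) L172271 L172346
theorem L172356 : sm gb N22031 = N18500 := ded_17_1 (flp_g L142947) (flp_b L143329) (flp_g L164430) (flp_b L164432) L172346
theorem L172358 : sm gg N16766 = N22032 := rfl
theorem L172360 : sm ga N22032 = N16773 := ded_12_1 (flp_g L121612) (flp_a L121583) L172358
theorem L172362 : sm ge N22032 = N16767 := ded_26_1 (flp_g L121585) L121581 L172358
theorem L172364 : sm gf N22032 = N22022 := ded_29_2 (flp_g L172289) (flp_a L172279) L172281 L172358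
theorem L172366 : sm gb N16767 = N22033 := rfl
theorem L172368 : sm gd N22033 = N16768 := ded_14_2 (flp_b L121593) (flp_d L121589) L172366
theorem L172370 : sm ga N16768 = N22034 := rfl
theorem L172372 : sm gc N22034 = N17269 := ded_8_2 L163846 L161464 L172370
theorem L172374 : sm gb N22034 = N17263 := ded_7_2 L163967 (flp_b L121194) L97307 (flp_b L97299) L120933 (flp_b L97527) (flp_a L97512) L121593 L172370
theorem L172376 : sm gf N16768 = N22035 := rfl
theorem L172378 : sm gb N22035 = N22018 := ded_16_1 L172265 (flp_b L121543) (flp_f L97516) L121593 L172376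
theorem L172380 : sm gg N16777 = N22035 := ded_31_0 (flp_f L172376) (flp_b L121593) (flp_g L97510) (flp_f L97480) L121523 L172263 L172265 (flp_b L121543) (flp_g L97486) L85355 L26758 L85374 L97532 L121639
theorem L172382 : sm gf N16772 = N22036 := rfl
theorem L172384 : sm ga N22036 = N22021 := ded_11_1 (flp_f L172354) L172348 L172382
theorem L172386 : sm gc N22036 = N16775 := ded_20_1 (flp_f L121623) (flp_c L121610) L172382
theorem L172388 : sm gg N22036 = N22019 := ded_29_3 L172269 L121533 L121608 L172382
theorem L172390 : sm gb N16773 = N22037 := rfl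
theorem L172392 : sm ge N22037 = N16774 := ded_15_2 (flp_b L121616) (flp_e L121614) L172390
theorem L172394 : sm gg N22037 = N22037 := ded_17_2 (flp_b L172390) (flp_g L121612) L97522 L121612 L172390
theorem L172395 : sm ga N21969 = N22037 := ded_10_3 L172392 (flp_a L121621) L171933
theorem L172397 : sm gf N16773 = N22038 := rfl
theorem L172399 : sm ga N22038 = N22022 := ded_11_1 (flp_f L172364) L172360 L172397
theorem L172401 : sm ge N22038 = N16775 := ded_25_1 (flp_f L121623) (flp_e L121614) L172397
theorem L172403 : sm gg N22038 = N22020 := ded_29_3 L172279 L121537 L121612 L172397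
theorem L172405 : sm gc N16774 = N22039 := rfl
theorem L172407 : sm ga N22039 = N21968 := ded_8_1 (flp_c L171928) L121621 L172405
theorem L172409 : sm gg N22039 = N22039 := ded_21_2 (flp_c L172405) L121620 L172405
theorem L172410 : sm gf N16774 = N22040 := rfl
theorem L172412 : sm ga N22040 = N21970 := ded_11_1 (flp_f L171938) L121621 L172410
theorem L172414 : sm gd N22040 = N16776 := ded_23_1 (flp_f L121631) (flp_d L121618) L172410
theorem L172416 : sm gg N22040 = N21970 := ded_29_3 (flp_a L172412) (flp_f L172410) L121620 L172410
theorem L172418 : sm gb N16775 = N22041 := rfl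
theorem L172420 : sm gd N22041 = N16777 := ded_14_2 (flp_b L121639) (flp_d L121627) L172418
theorem L172422 : sm gb N16776 = N22042 := rfl
theorem L172424 : sm gf N22042 = N16777 := ded_16_2 (flp_b L121639) (flp_f L97532) L97527 L121631 L172422
theorem L172426 : sm gg N22042 = N22034 := ded_17_2 L172374 L171948 (flp_b L171942) (flp_g L121637) L172422
theorem L172428 : sm ga N22042 = N22030 := ded_7_1 (flp_b L172342) (flp_a L158281) L172021 L172015 (flp_b L171966) L171962 (flp_b L171942) (flp_a L121633) L172422
theorem L172430 : sm ga N16777 = N22043 := rfl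
theorem L172432 : sm gf N22043 = N22030 := ded_11_2 (flp_a L172428) L172424 L172430
theorem L172434 : sm gc N16777 = N22044 := rfl
theorem L172436 : sm gb N22044 = N16778 := ded_13_1 (flp_c L121641) (flp_b L97540) (flp_c L97536) L121639 L172434
theorem L172438 : sm gd N16779 = N22045 := rfl
theorem L172440 : sm ga N22045 = N20477 := ded_9_1 (flp_d L161164) (flp_a L121649) L172438
theorem L172442 : sm gb N22045 = N20496 := ded_14_1 (flp_d L161296) (flp_b L121653) L172438
theorem L172444 : sm gf N22045 = N19038 := ded_23_2 (flp_d L146108) (flp_f L121651) L172438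
theorem L172446 : sm gc N19039 = N22045 := ded_28_0 (flp_d L172438) (flp_c L121647) L97546 L118760 L146108 (flp_c L146104) (flp_d L129026) (flp_a L146112)
theorem L172448 : sm ga N16781 = N22046 := rfl
theorem L172450 : sm gg N22046 = N16787 := ded_12_2 (flp_a L121699) (flp_g L121661) L172448
theorem L172452 : sm gc N16781 = N22047 := rfl
theorem L172454 : sm gg N22047 = N16788 := ded_21_2 (flp_c L121701) (flp_g L121661) L172452
theorem L172456 : sm gb N22047 = N16813 := ded_13_1 (flp_c L121841) (flp_b L97650) (flp_c L97564) L121659 L172452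
theorem L172458 : sm gf N17109 = N22047 := ded_16_0 L172456 (flp_f L171718) L171720 L120888 L123227
theorem L172460 : sm gf N16781 = N22048 := rfl
theorem L172462 : sm gc N22048 = N17109 := ded_20_1 L172458 (flp_c L172452) L172460
theorem L172464 : sm gb N22048 = N17110 := ded_16_1 L123231 L121673 (flp_f L121663) L121659 L172460
theorem L172466 : sm gb N19983 = N22046 := ded_30_18 (flp_a L172448) L172460 L172462 (flp_b L123227) (flp_a L163925) (flp_f L122314) (flp_c L163931) (flp_b L98535) L93205 (flp_f L46399) L46397 (flp_b L91664) L150374 L97401 (flp_c L150039) L157029 L157039 (flp_f L152750) (flp_c L158019)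
theorem L172468 : sm gb N16783 = N22049 := rfl
theorem L172470 : sm ge N22049 = N16784 := ded_15_2 (flp_b L121680) (flp_e L121678) L172468
theorem L172472 : sm ga N16784 = N22050 := rfl
theorem L172474 : sm gd N22050 = N16787 := ded_9_2 (flp_a L121699) (flp_d L121682) L172472
theorem L172476 : sm gc N16784 = N22051 := rfl
theorem L172478 : sm gb N22051 = N22051 := ded_13_1 (flp_c L172476) (flp_b L121680) L97576 L121680 L172476
theorem L172479 : sm gf N16784 = N22052 := rfl
theorem L172481 : sm gd N22052 = N16789 := ded_23_1 (flp_f L121705) (flp_d L121682) L172479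
theorem L172483 : sm gb N16785 = N22053 := rfl
theorem L172485 : sm gd N22053 = N16790 := ded_14_2 (flp_b L121707) (flp_d L121689) L172483
theorem L172487 : sm ga N16786 = N22054 := rfl
theorem L172489 : sm gd N22054 = N19270 := ded_9_2 L152868 (flp_d L121695) L172487
theorem L172491 : sm gg N22054 = N17186 := ded_12_2 L146094 (flp_g L121697) L172487
theorem L172493 : sm gc N22054 = N19200 := ded_28_0 (flp_d L152450) (flp_c L105286) (flp_d L102335) L129312 L153500 L105790 (flp_d L121695) L172487
theorem L172495 : sm gc N16786 = N22055 := rfl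
theorem L172497 : sm ga N22055 = N19200 := ded_8_1 (flp_c L172493) (flp_a L172487) L172495
theorem L172499 : sm gg N22055 = N19259 := ded_21_2 (flp_c L152810) (flp_g L121697) L172495
theorem L172501 : sm gb N22055 = N16791 := ded_13_1 (flp_c L121709) (flp_b L97597) (flp_c L97583) L121693 L172495
theorem L172503 : sm gd N22055 = N19199 := ded_28_7 L152444 (flp_c L105286) (flp_d L102335) L129312 L153500 L105790 (flp_d L121695) L172495
theorem L172505 : sm gf N16786 = N22056 := rfl
theorem L172507 : sm gd N22056 = N19271 := ded_23_1 (flp_f L152872) (flp_d L121695) L172505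
theorem L172509 : sm gb N22056 = N20582 := ded_16_1 (flp_f L161750) (flp_b L111908) L97585 L121693 L172505
theorem L172511 : sm gb N16787 = N22057 := rfl
theorem L172513 : sm gg N22057 = N19980 := ded_17_2 (flp_b L157999) L158015 L172466 L172450 L172511
theorem L172515 : sm ga N20686 = N22057 := ded_12_3 L172513 L158003 L162360
theorem L172517 : sm gc N19987 = N22057 := ded_21_3 L172513 L158001 L158031
theorem L172519 : sm gc N16787 = N22058 := rfl
theorem L172521 : sm ga N22058 = N16788 := ded_8_1 (flp_c L121701) L121699 L172519
theorem L172523 : sm gf N16787 = N22059 := rfl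
theorem L172525 : sm ga N22059 = N16789 := ded_11_1 (flp_f L121705) L121699 L172523
theorem L172527 : sm gg N22048 = N22059 := ded_29_1 (flp_f L172523) (flp_g L172450) (flp_a L172448) L172460
theorem L172529 : sm gd N16788 = N22060 := rfl
theorem L172531 : sm gb N22060 = N16793 := ded_14_1 (flp_d L121723) (flp_b L121703) L172529
theorem L172533 : sm gf N16788 = N22061 := rfl
theorem L172535 : sm gc N22061 = N16789 := ded_20_1 (flp_f L121705) L121701 L172533
theorem L172537 : sm gg N16789 = N22062 := rfl
theorem L172539 : sm ga N22062 = N22048 := ded_12_1 L172527 L172525 L172537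
theorem L172541 : sm gf N22046 = N22062 := ded_29_0 (flp_g L172537) (flp_f L121705) (flp_g L121661) L172448
theorem L172543 : sm gb N19951 = N22062 := ded_7_0 L172539 L172464 L151818 (flp_b L123594) L98754 L85880 (flp_a L91956) L109215 L157841
theorem L172545 : sm gc N16790 = N22063 := rfl
theorem L172547 : sm gb N22063 = N16795 := ded_13_1 (flp_c L121733) (flp_b L97617) (flp_c L97593) L121707 L172545
theorem L172549 : sm gg N16790 = N22064 := rfl
theorem L172551 : sm gf N22064 = N16877 := ded_29_2 (flp_g L122172) L122164 L151191 L172549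
theorem L172553 : sm gb N22064 = N20501 := ded_17_1 (flp_g L161328) L111619 (flp_g L97595) L121707 L172549
theorem L172555 : sm gd N16792 = N22065 := rfl
theorem L172557 : sm ga N22065 = N16793 := ded_9_1 (flp_d L121723) (flp_a L121717) L172555
theorem L172559 : sm gf N22065 = N20520 := ded_23_2 L163194 (flp_f L121719) L172555
theorem L172561 : sm gg N22065 = N16828 := ded_24_2 (flp_d L121913) (flp_g L121721) L172555
theorem L172563 : sm gc N20524 = N22065 := ded_28_2 (flp_d L172555) (flp_c L121715) L97601 (flp_c L155512) (flp_d L157443) L157441 (flp_c L157455) L163278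
theorem L172565 : sm gc N19851 = N22060 := ded_30_1 L172531 (flp_a L172557) L172559 L161432 (flp_b L111687) L93283 L93299 L93301 L46437 (flp_a L93205) (flp_f L93203) (flp_c L150248) (flp_b L46369) (flp_a L46343) L46367 (flp_c L93129) L111461 (flp_a L158227) L158229
theorem L172567 : sm gc N16793 = N22066 := rfl
theorem L172569 : sm ga N22066 = N20524 := ded_8_1 L172563 L172557 L172567
theorem L172571 : sm gg N22066 = N16830 := ded_21_2 (flp_c L121925) (flp_g L121725) L172567
theorem L172573 : sm gb N22066 = N19852 := ded_13_1 (flp_c L157199) L157197 L172565 L172531 L172567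
theorem L172575 : sm gf N20522 = N22066 := ded_11_0 L172569 (flp_f L161446) L161440
theorem L172577 : sm ge N16793 = N22067 := rfl
theorem L172579 : sm gg N22067 = N16831 := ded_26_2 (flp_e L121927) (flp_g L121725) L172577
theorem L172581 : sm gf N16793 = N22068 := rfl
theorem L172583 : sm ga N22068 = N20520 := ded_11_1 (flp_f L172559) L172557 L172581
theorem L172585 : sm gc N22068 = N20522 := ded_20_1 L172575 (flp_c L172567) L172581
theorem L172587 : sm gd N22068 = N16794 := ded_23_1 (flp_f L121727) L121723 L172581
theorem L172589 : sm gb N16794 = N22069 := rfl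
theorem L172591 : sm gd N16795 = N22070 := rfl
theorem L172593 : sm ga N22070 = N17023 := ded_9_1 L122850 (flp_a L121735) L172591
theorem L172595 : sm gg N22070 = N17020 := ded_24_2 (flp_d L122840) (flp_g L121737) L172591
theorem L172597 : sm gf N16796 = N22071 := rfl
theorem L172599 : sm ga N22071 = N16804 := ded_11_1 (flp_f L121797) (flp_a L121741) L172597
theorem L172601 : sm gc N22071 = N16798 := ded_20_1 (flp_f L121756) L121739 L172597
theorem L172603 : sm gd N22071 = N19236 := ded_23_1 (flp_f L152669) L121745 L172597
theorem L172605 : sm ge N22071 = N20861 := ded_25_1 L164537 L121747 L172597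
theorem L172607 : sm gb N22071 = N22071 := ded_16_1 (flp_f L172597) L121743 L114839 (flp_b L121743) L172597
theorem L172608 : sm gg N16796 = N22072 := rfl
theorem L172610 : sm ga N22072 = N16805 := ded_12_1 (flp_g L121801) (flp_a L121741) L172608
theorem L172612 : sm gc N22072 = N16799 := ded_21_1 (flp_g L121762) L121739 L172608
theorem L172614 : sm gd N22072 = N21035 := ded_24_1 (flp_g L165824) L121745 L172608
theorem L172616 : sm ge N22072 = N21030 := ded_26_1 (flp_g L165790) L121747 L172608
theorem L172618 : sm gf N16797 = N22073 := rfl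
theorem L172620 : sm ga N22073 = N16806 := ded_11_1 (flp_f L121805) (flp_a L121751) L172618
theorem L172622 : sm gc N22073 = N20861 := ded_20_1 L164537 (flp_c L121754) L172618
theorem L172624 : sm gd N22073 = N20688 := ded_23_1 L162370 L129521 L172618
theorem L172626 : sm ge N22073 = N16798 := ded_25_1 (flp_f L121756) L121749 L172618
theorem L172628 : sm gg N16797 = N22074 := rfl
theorem L172630 : sm ga N22074 = N16807 := ded_12_1 (flp_g L121809) (flp_a L121751) L172628
theorem L172632 : sm gc N22074 = N21030 := ded_21_1 (flp_g L165790) (flp_c L121754) L172628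
theorem L172634 : sm ge N22074 = N16799 := ded_26_1 (flp_g L121762) L121749 L172628
theorem L172636 : sm gb N16799 = N22075 := rfl
theorem L172638 : sm gd N22075 = N16800 := ded_14_2 (flp_b L121768) (flp_d L121766) L172636
theorem L172640 : sm gg N22075 = N22075 := ded_17_2 (flp_b L172636) (flp_g L121762) L97623 L121762 L172636
theorem L172641 : sm ga N16800 = N22076 := rfl
theorem L172643 : sm gg N22076 = N22076 := ded_12_2 (flp_a L172641) L121770 L172641
theorem L172644 : sm gc N16800 = N22077 := rfl
theorem L172646 : sm gg N22077 = N22077 := ded_21_2 (flp_c L172644) L121770 L172644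
theorem L172647 : sm gf N16800 = N22078 := rfl
theorem L172649 : sm gb N22078 = N16853 := ded_16_1 L171894 (flp_b L121835) (flp_f L97648) L121768 L172647
theorem L172651 : sm gg N16820 = N22078 := ded_31_0 (flp_f L172647) (flp_b L121768) (flp_g L97628) L97624 (flp_b L120884) (flp_g L120603) L97008 L97009 L97060 (flp_f L97136) L120874 L121887 (flp_f L121883) L121877
theorem L172653 : sm gf N16820 = N22076 := ded_29_2 L172643 (flp_a L172641) L172647 (flp_g L172651)
theorem L172655 : sm ga N16820 = N22078 := ded_29_4 (flp_f L172647) L121770 L172647 (flp_g L172651)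
theorem L172657 : sm gb N22076 = N17148 := ded_31_5 (flp_g L123402) (flp_f L120850) (flp_b L129479) L129484 L121063 (flp_b L121058) L121087 L121127 L171886 L171892 (flp_f L171894) (flp_b L172649) (flp_g L172651) L172653
theorem L172659 : sm gg N16802 = N22079 := rfl
theorem L172661 : sm ga N22079 = N21035 := ded_12_1 (flp_g L165824) (flp_a L121783) L172659
theorem L172663 : sm gd N22079 = N16805 := ded_24_1 (flp_g L121801) L121781 L172659
theorem L172665 : sm ge N22079 = N21032 := ded_26_1 (flp_g L165806) L121785 L172659
theorem L172667 : sm gf N16803 = N22080 := rfl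
theorem L172669 : sm ga N22080 = N20861 := ded_11_1 L164537 (flp_a L121789) L172667
theorem L172671 : sm gc N22080 = N16806 := ded_20_1 (flp_f L121805) (flp_c L121793) L172667
theorem L172673 : sm gd N22080 = N18471 := ded_23_1 L130634 (flp_d L121795) L172667
theorem L172675 : sm ge N22080 = N16804 := ded_25_1 (flp_f L121797) L121787 L172667
theorem L172677 : sm gb N22080 = N18469 := ded_16_1 (flp_f L130618) L102928 L118697 (flp_b L121791) L172667
theorem L172679 : sm gg N16803 = N22081 := rfl
theorem L172681 : sm ga N22081 = N21030 := ded_12_1 (flp_g L165790) (flp_a L121789) L172679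
theorem L172683 : sm gc N22081 = N16807 := ded_21_1 (flp_g L121809) (flp_c L121793) L172679
theorem L172685 : sm gd N22081 = N21029 := ded_24_1 (flp_g L165780) (flp_d L121795) L172679
theorem L172687 : sm ge N22081 = N16805 := ded_26_1 (flp_g L121801) L121787 L172679
theorem L172689 : sm gg N16804 = N22082 := rfl
theorem L172691 : sm gc N22082 = N16808 := ded_21_1 (flp_g L121813) (flp_c L121799) L172689
theorem L172693 : sm gf N22072 = N22082 := ded_29_0 (flp_g L172689) (flp_f L121797) L121801 (flp_a L172610)
theorem L172695 : sm gf N16805 = N22083 := rfl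
theorem L172697 : sm ga N22083 = N22082 := ded_11_1 (flp_f L172693) L172610 L172695
theorem L172699 : sm gc N22083 = N16810 := ded_20_1 (flp_f L121825) (flp_c L121803) L172695
theorem L172701 : sm gg N22083 = N22071 := ded_29_3 L172599 (flp_f L121797) L121801 L172695
theorem L172703 : sm gb N21945 = N22083 := ded_13_5 L172699 (flp_b L121833) L120746 L120894 L171741
theorem L172705 : sm gg N16806 = N22084 := rfl
theorem L172707 : sm ge N22084 = N16808 := ded_26_1 (flp_g L121813) (flp_e L121807) L172705
theorem L172709 : sm gf N22074 = N22084 := ded_29_0 (flp_g L172705) (flp_f L121805) L121809 (flp_a L172630)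
theorem L172711 : sm gb N16807 = N22085 := rfl
theorem L172713 : sm ge N22085 = N16809 := ded_15_2 (flp_b L121819) (flp_e L121811) L172711
theorem L172715 : sm gg N22085 = N16816 := ded_17_2 (flp_b L121861) (flp_g L97680) (flp_b L97636) L121809 L172711
theorem L172717 : sm gf N16807 = N22086 := rfl
theorem L172719 : sm ga N22086 = N22084 := ded_11_1 (flp_f L172709) L172630 L172717
theorem L172721 : sm ge N22086 = N16810 := ded_25_1 (flp_f L121825) (flp_e L121811) L172717
theorem L172723 : sm gg N22086 = N22073 := ded_29_3 L172620 (flp_f L121805) L121809 L172717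
theorem L172725 : sm gb N21928 = N22086 := ded_15_3 L172721 (flp_b L121833) (flp_e L171620)
theorem L172727 : sm gb N16808 = N22087 := rfl
theorem L172729 : sm gd N22087 = N16811 := ded_14_2 (flp_b L121835) (flp_d L121815) L172727
theorem L172731 : sm ga N16809 = N22088 := rfl
theorem L172733 : sm gd N22088 = N16812 := ded_9_2 (flp_a L121837) (flp_d L121821) L172731
theorem L172735 : sm gg N22088 = N16817 := ded_12_2 (flp_a L121865) (flp_g L121823) L172731
theorem L172737 : sm gc N16811 = N22089 := rfl
theorem L172739 : sm ga N22089 = N20553 := ded_8_1 L161623 (flp_a L171896) L172737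
theorem L172741 : sm gg N22089 = N18611 := ded_21_2 (flp_c L171888) L171892 L172737
theorem L172743 : sm gd N18614 = N22089 := ded_9_0 L172739 L161625 L143867
theorem L172745 : sm gb N16812 = N22090 := rfl
theorem L172747 : sm gg N22090 = N16853 := ded_17_2 (flp_b L172649) (flp_g L172651) (flp_b L121877) (flp_g L121839) L172745
theorem L172749 : sm ga N22090 = N16856 := ded_7_1 L122078 (flp_a L123404) (flp_b L172657) (flp_a L172641) (flp_b L121768) L97630 L97650 L121837 L172745
theorem L172751 : sm gc N18658 = N22090 := ded_8_0 L172749 L151244 L143843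
theorem L172753 : sm gc N16812 = N22091 := rfl
theorem L172755 : sm ga N22091 = N16813 := ded_8_1 (flp_c L121841) L121837 L172753
theorem L172757 : sm gf N22091 = N17255 := ded_20_2 (flp_c L163740) (flp_f L121903) L172753
theorem L172759 : sm gg N22091 = N16821 := ded_21_2 (flp_c L121879) (flp_g L121839) L172753
theorem L172761 : sm gb N22091 = N20059 := ded_13_1 L158435 (flp_b L151550) L172751 (flp_b L172745) L172753
theorem L172763 : sm gd N17256 = N22091 := ded_28_5 (flp_c L172753) (flp_d L172733) (flp_a L172731) L149772 L122794 (flp_c L122816) (flp_d L163627) (flp_c L123926)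
theorem L172765 : sm gd N16813 = N22092 := rfl
theorem L172767 : sm ga N22092 = N17256 := ded_9_1 L172763 L172755 L172765
theorem L172769 : sm gf N22092 = N16900 := ded_23_2 L171722 L171718 L172765
theorem L172771 : sm gg N22092 = N16823 := ded_24_2 (flp_d L121891) (flp_g L121843) L172765
theorem L172773 : sm ga N16816 = N22093 := rfl
theorem L172775 : sm ge N22093 = N16817 := ded_10_2 (flp_a L121865) (flp_e L121863) L172773
theorem L172777 : sm gf N16816 = N22094 := rfl
theorem L172779 : sm ge N22094 = N16819 := ded_25_1 (flp_f L121871) (flp_e L121863) L172777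
theorem L172781 : sm gb N22094 = N21965 := ded_16_1 (flp_f L171915) (flp_b L121161) (flp_f L97686) L121861 L172777
theorem L172783 : sm gb N16817 = N22095 := rfl
theorem L172785 : sm gd N22095 = N16820 := ded_14_2 (flp_b L121877) (flp_d L121867) L172783
theorem L172787 : sm gf N16817 = N22096 := rfl
theorem L172789 : sm ga N22096 = N16819 := ded_11_1 (flp_f L121871) L121865 L172787
theorem L172791 : sm gd N22096 = N16822 := ded_23_1 (flp_f L121883) (flp_d L121867) L172787
theorem L172793 : sm gg N21941 = N22096 := ded_29_1 (flp_f L172787) (flp_g L172735) (flp_a L172731) (flp_f L171712)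
theorem L172795 : sm gb N21939 = N22096 := ded_14_3 L172791 L121889 (flp_d L171698)
theorem L172797 : sm gg N16819 = N22097 := rfl
theorem L172799 : sm ga N22097 = N21941 := ded_12_1 L172793 L172789 L172797
theorem L172801 : sm gc N22097 = N21950 := ded_21_1 L171782 (flp_c L149770) L172797
theorem L172803 : sm gd N22097 = N16825 := ded_24_1 (flp_g L121899) (flp_d L121873) L172797
theorem L172805 : sm gf N22088 = N22097 := ded_29_0 (flp_g L172797) (flp_f L121871) (flp_g L121823) L172731
theorem L172807 : sm gb N16850 = N22097 := ded_7_0 L172799 (flp_b L171708) L120868 L120894 (flp_a L120935) (flp_b L97288) (flp_a L85491) L97785 L122058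
theorem L172809 : sm gc N16820 = N22098 := rfl
theorem L172811 : sm gb N16821 = N22099 := rfl
theorem L172813 : sm gg N22099 = N20056 := ded_17_2 (flp_b L158415) L158431 (flp_b L172761) L172759 L172811
theorem L172815 : sm gd N16821 = N22100 := rfl
theorem L172817 : sm ga N22100 = N16823 := ded_9_1 (flp_d L121891) (flp_a L121881) L172815
theorem L172819 : sm gg N22100 = N17256 := ded_24_2 L172763 L172759 L172815
theorem L172821 : sm gc N22100 = N17015 := ded_28_6 (flp_d L122810) (flp_a L122802) (flp_c L122800) (flp_d L122788) (flp_c L149768) L121867 L121879 L172815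
theorem L172823 : sm gf N16821 = N22101 := rfl
theorem L172825 : sm ga N22101 = N16824 := ded_11_1 (flp_f L121895) (flp_a L121881) L172823
theorem L172827 : sm gc N22101 = N16822 := ded_20_1 (flp_f L121883) L121879 L172823
theorem L172829 : sm gg N22101 = N21942 := ded_29_3 L171716 (flp_f L172757) L172759 L172823
theorem L172831 : sm gc N16823 = N22102 := rfl
theorem L172833 : sm ga N22102 = N17015 := ded_8_1 (flp_c L172821) L172817 L172831
theorem L172835 : sm gf N22102 = N17164 := ded_20_2 (flp_c L123932) L163487 L172831
theorem L172837 : sm gd N22102 = N17013 := ded_28_7 L122802 (flp_c L98268) (flp_d L98264) L149064 L97690 L97694 L121891 L172831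
theorem L172839 : sm ge N16823 = N22103 := rfl
theorem L172841 : sm gb N22103 = N16831 := ded_15_1 (flp_e L121927) (flp_b L121893) L172839
theorem L172843 : sm gf N22103 = N21856 := ded_25_2 L171174 L163487 L172839
theorem L172845 : sm gd N16826 = N22104 := rfl
theorem L172847 : sm gb N22104 = N21930 := ded_14_1 L171640 (flp_b L151832) L172845
theorem L172849 : sm gg N22104 = N21916 := ded_24_2 L171518 (flp_g L121909) L172845
theorem L172851 : sm gc N19107 = N22104 := ded_13_0 L172847 (flp_c L171634) L151852 L151848 L151864
theorem L172853 : sm gc N16828 = N22105 := rfl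
theorem L172855 : sm ga N22105 = N16830 := ded_8_1 (flp_c L121925) (flp_a L121915) L172853
theorem L172857 : sm gg N22105 = N20524 := ded_21_2 L172563 L172561 L172853
theorem L172859 : sm gb N22105 = N16952 := ded_13_1 L122510 L98063 (flp_c L122156) (flp_b L163993) L172853
theorem L172861 : sm gd N20591 = N22105 := ded_28_1 (flp_c L172853) (flp_d L121913) (flp_c L97704) (flp_d L93470) L111944 (flp_d L157421) L157419 L161808
theorem L172863 : sm ge N16828 = N22106 := rfl
theorem L172865 : sm ga N22106 = N16831 := ded_10_1 (flp_e L121927) (flp_a L121915) L172863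
theorem L172867 : sm gb N22106 = N21555 := ded_15_1 L169249 (flp_b L163993) L172863
theorem L172869 : sm gf N16828 = N22107 := rfl
theorem L172871 : sm ga N22107 = N16832 := ded_11_1 (flp_f L121929) (flp_a L121915) L172869
theorem L172873 : sm gd N22107 = N16829 := ded_23_1 (flp_f L121917) L121913 L172869
theorem L172875 : sm gg N22107 = N22068 := ded_29_3 L172583 (flp_f L172559) L172561 L172869
theorem L172877 : sm gb N16829 = N22108 := rfl
theorem L172879 : sm gc N22108 = N16972 := ded_13_2 (flp_b L122609) L98149 L97714 (flp_c L121921) L172877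
theorem L172881 : sm gb N16830 = N22109 := rfl
theorem L172883 : sm gg N22109 = N19858 := ded_17_2 (flp_b L157227) (flp_g L157203) (flp_b L172573) L172571 L172881
theorem L172885 : sm gd N16830 = N22110 := rfl
theorem L172887 : sm ga N22110 = N20591 := ded_9_1 L172861 L172855 L172885
theorem L172889 : sm gf N22110 = N19890 := ded_23_2 L163280 L163483 L172885
theorem L172891 : sm gc N19891 = N22110 := ded_28_0 (flp_d L172885) (flp_c L121925) (flp_d L97716) (flp_c L85457) (flp_d L46507) L93472 L111958 (flp_a L157419)
theorem L172893 : sm ge N19915 = N22110 := ded_10_0 L172887 L161810 (flp_a L157605)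
theorem L172895 : sm ge N16830 = N22111 := rfl
theorem L172897 : sm gc N22111 = N16831 := ded_19_1 (flp_e L121927) L121925 L172895
theorem L172899 : sm gf N16831 = N22112 := rfl
theorem L172901 : sm ge N22112 = N16832 := ded_25_1 (flp_f L121929) L121927 L172899
theorem L172903 : sm gb N22112 = N21866 := ded_16_1 (flp_f L171236) (flp_b L171176) (flp_f L172843) L172841 L172899
theorem L172905 : sm ga N16833 = N22113 := rfl
theorem L172907 : sm gc N22113 = N21980 := ded_8_2 (flp_a L171998) (flp_c L121935) L172905
theorem L172909 : sm gd N22113 = N17267 := ded_9_2 (flp_a L124011) L163485 L172905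
theorem L172911 : sm gf N22113 = N19974 := ded_11_2 L163822 (flp_f L163572) L172905
theorem L172913 : sm gg N17265 = N22113 := ded_29_3 (flp_a L172905) L163572 (flp_g L123999) L123993
theorem L172915 : sm gb N17175 = N22113 := ded_30_2 (flp_a L172905) L163572 (flp_c L171944) (flp_b L171942) (flp_a L121633) (flp_f L121631) L97529 (flp_b L97147) (flp_a L97132) L97136 L97062 L97064 (flp_a L111813) L120774 L151820 (flp_b L123594) L98754 L98776 (flp_c L123550)
theorem L172917 : sm gg N16833 = N22114 := rfl
theorem L172919 : sm ga N22114 = N17265 := ded_12_1 L172913 (flp_a L172905) L172917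
theorem L172921 : sm gc N22114 = N21973 := ded_21_1 L171958 (flp_c L121935) L172917
theorem L172923 : sm gd N22114 = N17261 := ded_24_1 (flp_g L124015) L163485 L172917
theorem L172925 : sm gf N17260 = N22114 := ded_29_0 (flp_g L172917) L163572 (flp_g L123999) (flp_a L123948)
theorem L172927 : sm gg N16834 = N22115 := rfl
theorem L172929 : sm ga N22115 = N20594 := ded_12_1 (flp_g L161836) (flp_a L121939) L172927
theorem L172931 : sm gd N22115 = N16835 := ded_24_1 (flp_g L121944) L121937 L172927
theorem L172933 : sm ge N22115 = N16837 := ded_26_1 (flp_g L121957) (flp_e L121942) L172927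
theorem L172935 : sm gf N21084 = N22115 := ded_29_0 (flp_g L172927) L166230 L166226 L166232
theorem L172937 : sm gb N16835 = N22116 := rfl
theorem L172939 : sm ge N22116 = N16836 := ded_15_2 (flp_b L121952) (flp_e L121950) L172937
theorem L172941 : sm gg N22116 = N22116 := ded_17_2 (flp_b L172937) (flp_g L121944) L97726 L121944 L172937
theorem L172942 : sm ga N18155 = N22116 := ded_10_3 L172939 L150865 (flp_e L128559)
theorem L172944 : sm gc N16836 = N22117 := rfl
theorem L172946 : sm ga N22117 = N18169 := ded_8_1 (flp_c L128636) (flp_a L150865) L172944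
theorem L172948 : sm gg N22117 = N22117 := ded_21_2 (flp_c L172944) L121956 L172944
theorem L172949 : sm gb N22117 = N20585 := ded_13_1 (flp_c L161766) (flp_b L111920) (flp_c L97733) L121952 L172944
theorem L172951 : sm gd N17654 = N22117 := ded_14_0 L172949 L163750 (flp_b L125936)
theorem L172953 : sm gf N17652 = N22117 := ded_16_0 L172949 (flp_f L163675) L114149 L100091 L125928
theorem L172955 : sm gf N16836 = N22118 := rfl
theorem L172957 : sm ga N22118 = N18170 := ded_11_1 (flp_f L128641) (flp_a L150865) L172955
theorem L172959 : sm gc N22118 = N17652 := ded_20_1 L172953 (flp_c L172944) L172955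
theorem L172961 : sm gd N22118 = N16842 := ded_23_1 (flp_f L121992) (flp_d L121954) L172955
theorem L172963 : sm gg N22118 = N18170 := ded_29_3 (flp_a L172957) (flp_f L172955) L121956 L172955
theorem L172965 : sm gc N16838 = N22119 := rfl
theorem L172967 : sm ge N22119 = N16841 := ded_19_2 (flp_c L121985) (flp_e L121967) L172965
theorem L172969 : sm gg N22119 = N22119 := ded_21_2 (flp_c L172965) L121969 L172965
theorem L172970 : sm gb N22119 = N16845 := ded_13_1 (flp_c L122002) (flp_b L97757) (flp_c L97742) L121965 L172965
theorem L172972 : sm gf N16838 = N22120 := rfl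
theorem L172974 : sm ge N22120 = N16842 := ded_25_1 (flp_f L121992) (flp_e L121967) L172972
theorem L172976 : sm gb N16839 = N22121 := rfl
theorem L172978 : sm gd N22121 = N19536 := ded_14_2 L154892 (flp_d L121976) L172976
theorem L172980 : sm ge N22121 = N16843 := ded_15_2 (flp_b L121994) (flp_e L121978) L172976
theorem L172982 : sm gg N22121 = N19530 := ded_17_2 (flp_b L154853) L107182 (flp_b L121139) (flp_g L121980) L172976
theorem L172984 : sm gc N16840 = N22122 := rfl
theorem L172986 : sm ga N22122 = N16841 := ded_8_1 (flp_c L121985) L121982 L172984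
theorem L172988 : sm gg N22122 = N22122 := ded_21_2 (flp_c L172984) L121984 L172984
theorem L172989 : sm gb N22122 = N21034 := ded_13_1 L165818 L142688 L128601 (flp_b L149806) L172984
theorem L172991 : sm gd N17158 = N22122 := ded_9_0 L172986 (flp_d L121990) L123474
theorem L172993 : N21963 = N17158 := coi_14_0 L172991 L172989 L165820 L171902
theorem L172994 : N21963 = N17158 := eqc rfl L172993 rfl
theorem L172995 : sm gb N17158 = N16665 := trfs L172994 (flp_b L171902) rfl
theorem L172998 : sm gb N21255 = N21799 := ded_15_3 L170805 L172995 (flp_e L167399)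
theorem L173000 : sm gf N16841 = N22123 := rfl
theorem L173002 : sm gc N22123 = N16842 := ded_20_1 (flp_f L121992) L121985 L173000
theorem L173004 : sm gd N22123 = N17160 := ded_23_1 (flp_f L123480) L121990 L173000
theorem L173006 : sm gc N16843 = N22124 := rfl
theorem L173008 : sm gb N22124 = N16851 := ded_13_1 (flp_c L122062) (flp_b L97785) (flp_c L97753) L121994 L173006
theorem L173010 : sm gb N16844 = N22125 := rfl
theorem L173012 : sm ge N22125 = N16848 := ded_15_2 (flp_b L122048) (flp_e L121998) L173010
theorem L173014 : sm gb N16846 = N22126 := rfl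
theorem L173016 : sm ge N22126 = N16849 := ded_15_2 (flp_b L122052) (flp_e L122042) L173014
theorem L173018 : sm gf N22126 = N16847 := ded_16_2 (flp_b L122044) (flp_f L97763) L97757 L122036 L173014
theorem L173020 : sm ga N16847 = N22127 := rfl
theorem L173022 : sm ge N22127 = N16850 := ded_10_2 (flp_a L122058) (flp_e L122046) L173020
theorem L173024 : sm gc N16847 = N22128 := rfl
theorem L173026 : sm ge N22128 = N16851 := ded_19_2 (flp_c L122062) (flp_e L122046) L173024
theorem L173028 : sm gg N16847 = N22129 := rfl
theorem L173030 : sm ge N22129 = N16852 := ded_26_1 (flp_g L122064) (flp_e L122046) L173028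
theorem L173032 : sm gb N22129 = N21960 := ded_17_1 (flp_g L171868) L121105 (flp_g L97769) L122044 L173028
theorem L173034 : sm ga N16848 = N22130 := rfl
theorem L173036 : sm gd N22130 = N16853 := ded_9_2 (flp_a L122070) (flp_d L122050) L173034
theorem L173038 : sm gf N22087 = N22130 := ded_23_0 L173036 L171894 (flp_d L172729)
theorem L173040 : sm gc N16848 = N22131 := rfl
theorem L173042 : sm gf N16848 = N22132 := rfl
theorem L173044 : sm ga N22132 = N22087 := ded_11_1 L173038 (flp_a L173034) L173042
theorem L173046 : sm gd N22132 = N16855 := ded_23_1 (flp_f L122074) (flp_d L122050) L173042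
theorem L173048 : sm gb N22132 = N22123 := ded_16_1 (flp_f L173000) L121988 L118181 L122048 L173042
theorem L173050 : sm gg N16848 = N22133 := rfl
theorem L173052 : sm gd N22133 = N16856 := ded_24_1 (flp_g L122076) (flp_d L122050) L173050
theorem L173054 : sm gb N22133 = N17147 := ded_17_1 (flp_g L123398) (flp_b L98631) (flp_g L97775) L122048 L173050
theorem L173056 : sm ga N16849 = N22134 := rfl
theorem L173058 : sm gd N22134 = N16862 := ded_9_2 (flp_a L122106) (flp_d L122054) L173056
theorem L173060 : sm gf N22134 = N16850 := ded_11_2 (flp_a L122058) (flp_f L122056) L173056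
theorem L173062 : sm gg N22134 = N17046 := ded_12_2 L171760 L171758 L173056
theorem L173064 : sm gc N17044 = N22134 := ded_20_3 L173060 (flp_c L171832) L171828
theorem L173066 : sm gc N16849 = N22135 := rfl
theorem L173068 : sm ga N22135 = N17044 := ded_8_1 L173064 (flp_a L173056) L173066
theorem L173070 : sm gf N22135 = N16851 := ded_20_2 (flp_c L122062) (flp_f L122056) L173066
theorem L173072 : sm gg N22135 = N17045 := ded_21_2 (flp_c L171762) L171758 L173066
theorem L173074 : sm gb N22135 = N22131 := ded_13_1 (flp_c L173040) (flp_b L122048) (flp_c L118194) L122052 L173066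
theorem L173076 : sm gd N17058 = N22135 := ded_9_0 L173068 L122949 L123001
theorem L173078 : sm gg N16850 = N22136 := rfl
theorem L173080 : sm ga N22136 = N16852 := ded_12_1 (flp_g L122064) L122058 L173078
theorem L173082 : sm gd N22136 = N16865 := ded_24_1 (flp_g L122118) (flp_d L122060) L173078
theorem L173084 : sm gf N21947 = N22136 := ded_29_0 (flp_g L173078) (flp_f L173060) L173062 L171760
theorem L173086 : sm gb N22136 = N21946 := ded_17_1 L171752 (flp_b L121875) L172797 (flp_b L172807) L173078
theorem L173088 : sm gc N16853 = N22137 := rfl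
theorem L173090 : sm ga N22137 = N16854 := ded_8_1 (flp_c L122072) L122070 L173088
theorem L173092 : sm gf N22137 = N22089 := ded_20_2 (flp_c L172737) (flp_f L171894) L173088
theorem L173094 : sm gg N22137 = N18658 := ded_21_2 L172751 L172747 L173088
theorem L173096 : sm gd N18662 = N22137 := ded_9_0 L173090 L151333 (flp_a L143859)
theorem L173098 : sm gb N20740 = N22137 := ded_17_5 L173094 L151550 (flp_g L112656) L112654 L162678
theorem L173100 : sm gg N16855 = N22138 := rfl
theorem L173102 : sm ga N22138 = N21962 := ded_12_1 L171892 L171896 L173100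
theorem L173104 : sm gf N22090 = N22138 := ded_29_0 (flp_g L173100) (flp_f L122074) L122076 (flp_a L172749)
theorem L173106 : sm gb N16862 = N22138 := ded_31_14 (flp_g L173100) (flp_f L122074) (flp_b L97789) L85499 L85824 (flp_b L97043) (flp_g L97156) (flp_f L97150) L97147 L97149 L120912 (flp_b L122124) (flp_g L122118) (flp_f L122108)
theorem L173108 : sm ga N16857 = N22139 := rfl
theorem L173110 : sm gc N22139 = N17120 := ded_8_2 (flp_a L151387) (flp_c L151327) L173108
theorem L173112 : sm gg N22139 = N17125 := ded_12_2 (flp_a L151383) L151240 L173108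
theorem L173114 : sm gb N22139 = N22059 := ded_7_2 L172525 L151301 (flp_a L122164) (flp_b L97831) L85515 (flp_b L85505) (flp_a L97793) L122080 L173108
theorem L173116 : sm gd N16857 = N22140 := rfl
theorem L173118 : sm gb N22140 = N16858 := ded_14_1 (flp_d L122082) L122080 L173116
theorem L173120 : sm gg N22140 = N18573 := ded_24_2 (flp_d L151238) L151240 L173116
theorem L173122 : sm gf N16857 = N22141 := rfl
theorem L173124 : sm gg N20606 = N22141 := ded_29_1 (flp_f L173122) (flp_g L151240) L151383 (flp_f L161914)
theorem L173126 : sm ge N16858 = N22142 := rfl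
theorem L173128 : sm ga N22142 = N16860 := ded_10_1 (flp_e L122096) (flp_a L122084) L173126
theorem L173130 : sm gg N22142 = N17153 := ded_26_2 (flp_e L123440) (flp_g L122086) L173126
theorem L173132 : sm gb N16859 = N22143 := rfl
theorem L173134 : sm gd N22143 = N16861 := ded_14_2 (flp_b L122102) (flp_d L122092) L173132
theorem L173136 : sm gc N22143 = N16880 := ded_13_2 (flp_b L122190) (flp_c L97839) (flp_b L97799) L122088 L173132
theorem L173138 : sm gf N22143 = N16885 := ded_16_2 (flp_b L122214) (flp_f L97847) (flp_b L97799) L122094 L173132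
theorem L173140 : sm ge N16859 = N22144 := rfl
theorem L173142 : sm gc N22144 = N16860 := ded_19_1 (flp_e L122096) L122088 L173140
theorem L173144 : sm gf N22144 = N16860 := ded_25_2 (flp_e L122096) L122094 L173140
theorem L173146 : sm gg N22144 = N17154 := ded_26_2 (flp_e L123444) (flp_g L122090) L173140
theorem L173148 : sm ga N16861 = N22145 := rfl
theorem L173150 : sm gf N22145 = N16886 := ded_11_2 (flp_a L122218) (flp_f L122104) L173148
theorem L173152 : sm gb N19956 = N22145 := ded_30_2 (flp_a L173148) L122104 L122220 L122222 (flp_a L122228) L122230 (flp_c L97865) L150230 L150147 (flp_f L93161) L150248 L93195 (flp_a L97905) (flp_f L97919) L121655 (flp_b L155498) (flp_a L109217) L109221 (flp_c L157863)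
theorem L173154 : sm gc N16861 = N22146 := rfl
theorem L173156 : sm gf N22146 = N16887 := ded_20_2 (flp_c L122220) (flp_f L122104) L173154
theorem L173158 : sm gb N22146 = N16863 := ded_13_1 (flp_c L122110) (flp_b L97807) (flp_c L97805) L122102 L173154
theorem L173160 : sm gg N16861 = N22147 := rfl
theorem L173162 : sm gb N22147 = N20495 := ded_17_1 L161294 L120724 (flp_g L98681) L122102 L173160
theorem L173164 : sm gc N16862 = N22148 := rfl
theorem L173166 : sm ga N22148 = N16863 := ded_8_1 (flp_c L122110) L122106 L173164
theorem L173168 : sm gf N22148 = N16864 := ded_20_2 (flp_c L122114) (flp_f L122108) L173164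
theorem L173170 : sm gd N17390 = N22148 := ded_23_3 L173168 L163816 L124624
theorem L173172 : sm gb N20105 = N22148 := ded_16_5 L173168 L163814 L99275 (flp_b L109882) L158756
theorem L173174 : sm gd N16863 = N22149 := rfl
theorem L173176 : sm ga N22149 = N17390 := ded_9_1 L173170 L173166 L173174
theorem L173178 : sm gf N22149 = N16866 := ded_23_2 (flp_d L122126) (flp_f L122112) L173174
theorem L173180 : sm gg N16864 = N22150 := rfl
theorem L173182 : sm ga N22150 = N16867 := ded_12_1 (flp_g L122130) (flp_a L122116) L173180
theorem L173184 : sm gc N22150 = N16865 := ded_21_1 (flp_g L122118) L122114 L173180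
theorem L173186 : sm gd N22150 = N17391 := ded_24_1 (flp_g L124628) (flp_d L163816) L173180
theorem L173188 : sm gf N22150 = N20650 := ded_29_2 (flp_g L162174) (flp_a L173166) L173168 L173180
theorem L173190 : sm gc N16866 = N22151 := rfl
theorem L173192 : sm ga N22151 = N17384 := ded_8_1 L124602 (flp_a L163850) L173190
theorem L173194 : sm gb N22151 = N20613 := ded_13_1 (flp_c L163542) (flp_b L163580) (flp_c L122254) (flp_b L122128) L173190
theorem L173196 : sm gd N20612 = N22151 := ded_28_1 (flp_c L173190) (flp_d L122126) (flp_c L97813) (flp_d L97787) L122062 (flp_d L166019) (flp_a L150732) (flp_c L161944)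
theorem L173198 : sm ge N20809 = N22151 := ded_10_0 L173192 (flp_e L142782) L164111
theorem L173200 : sm gg N17311 = N22151 := ded_29_3 L173192 L150988 (flp_g L124225) L124223
theorem L173202 : sm ge N16866 = N22152 := rfl
theorem L173204 : sm ga N22152 = N17389 := ded_10_1 (flp_e L124620) (flp_a L163850) L173202
theorem L173206 : sm gb N22152 = N16896 := ded_15_1 (flp_e L122256) (flp_b L122128) L173202
theorem L173208 : sm gc N22152 = N20809 := ded_19_1 L173198 (flp_c L173190) L173202
theorem L173210 : sm gg N20859 = N22152 := ded_29_3 L173204 L164532 (flp_g L164524) L164520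
theorem L173212 : sm gg N16866 = N22153 := rfl
theorem L173214 : sm ga N22153 = N17391 := ded_12_1 (flp_g L124628) (flp_a L163850) L173212
theorem L173216 : sm gc N22153 = N17311 := ded_21_1 L173200 (flp_c L173190) L173212
theorem L173218 : sm gd N22153 = N16867 := ded_24_1 (flp_g L122130) L122126 L173212
theorem L173220 : sm ge N22153 = N20859 := ded_26_1 L173210 (flp_e L173202) L173212
theorem L173222 : sm gf N22153 = N17303 := ded_29_2 (flp_g L150990) (flp_a L173176) L173178 L173212
theorem L173224 : sm gb N21006 = N22153 := ded_15_3 L173220 L164522 (flp_e L165622)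
theorem L173226 : sm gb N16867 = N22154 := rfl
theorem L173228 : sm gd N22154 = N21006 := ded_14_2 L173224 L173218 L173226
theorem L173230 : sm gc N22154 = N19999 := ded_13_2 L158103 L121052 (flp_b L97819) (flp_c L122132) L173226
theorem L173232 : sm gg N22154 = N16898 := ded_17_2 (flp_b L122262) (flp_g L97923) (flp_b L97815) L122130 L173226
theorem L173234 : sm ga N20000 = N22154 := ded_9_3 L173228 (flp_a L165927) (flp_d L165933)
theorem L173236 : sm gf N21005 = N22154 := ded_23_0 L173228 (flp_f L165620) L165616
theorem L173238 : sm gf N16867 = N22155 := rfl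
theorem L173240 : sm ga N22155 = N20650 := ded_11_1 (flp_f L173188) L173182 L173238
theorem L173242 : sm gc N22155 = N16868 := ded_20_1 (flp_f L122134) (flp_c L122132) L173238
theorem L173244 : sm gd N22155 = N17303 := ded_23_1 (flp_f L173222) L173218 L173238
theorem L173246 : sm gg N22155 = N22148 := ded_29_3 L173166 L122112 L122130 L173238
theorem L173248 : sm gb N22155 = N17304 := ded_16_1 L142774 (flp_b L165618) L173236 (flp_b L173226) L173238
theorem L173250 : sm gb N16868 = N22156 := rfl
theorem L173252 : sm gf N22156 = N17158 := ded_16_2 L172995 (flp_f L121129) (flp_b L97819) L122134 L173250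
theorem L173254 : sm gg N22156 = N17160 := ded_17_2 L123482 L173100 (flp_b L173106) (flp_g L122138) L173250
theorem L173256 : sm ga N22156 = N17160 := ded_7_1 L123482 (flp_a L171896) (flp_b L121835) (flp_a L97656) L120880 (flp_a L97152) L120939 (flp_a L122136) L173250
theorem L173258 : sm gd N16869 = N22157 := rfl
theorem L173260 : sm ga N22157 = N16871 := ded_9_1 (flp_d L122150) (flp_a L122142) L173258
theorem L173262 : sm gf N22157 = N17102 := ded_23_2 L163973 (flp_f L122144) L173258
theorem L173264 : sm gc N17121 = N22157 := ded_8_0 L173260 L164005 (flp_a L123275)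
theorem L173266 : sm gb N17121 = N20042 := ded_30_2 L158335 (flp_f L158241) (flp_c L158239) (flp_b L123997) (flp_a L172919) (flp_f L172925) (flp_c L163870) (flp_b L121194) L97307 L97315 L97317 (flp_b L85461) (flp_a L97710) (flp_f L97708) L97704 L121911 (flp_a L151828) (flp_f L173262) (flp_c L173264)
theorem L173268 : sm ga N16870 = N22158 := rfl
theorem L173270 : sm gc N22158 = N16874 := ded_8_2 (flp_a L122164) (flp_c L122148) L173268
theorem L173272 : sm gf N22158 = N22063 := ded_30_4 (flp_c L172545) (flp_b L121707) L97591 (flp_f L97585) L93452 L97552 (flp_a L111527) (flp_f L111525) (flp_c L150258) (flp_b L93133) (flp_a L91101) L93131 L93129 L93147 (flp_a L98485) (flp_f L97825) L97823 L122146 L173268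
theorem L173274 : sm gd N16870 = N22159 := rfl
theorem L173276 : sm gb N22159 = N16871 := ded_14_1 (flp_d L122150) L122146 L173274
theorem L173278 : sm gf N22108 = N22159 := ded_16_0 L173276 (flp_f L163995) (flp_b L121911) L121917 L172877
theorem L173280 : sm gf N16870 = N22160 := rfl
theorem L173282 : sm ga N22160 = N22063 := ded_11_1 (flp_f L173272) (flp_a L173268) L173280
theorem L173284 : sm gc N22160 = N16876 := ded_20_1 (flp_f L122170) (flp_c L122148) L173280
theorem L173286 : sm gd N22160 = N22108 := ded_23_1 L173278 (flp_d L173274) L173280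
theorem L173288 : sm gb N22160 = N22107 := ded_16_1 (flp_f L172869) L163993 (flp_f L122152) L122146 L173280
theorem L173290 : sm gg N16870 = N22161 := rfl
theorem L173292 : sm gc N22161 = N16877 := ded_21_1 (flp_g L122172) (flp_c L122148) L173290
theorem L173294 : sm ge N16871 = N22162 := rfl
theorem L173296 : sm gc N22162 = N21763 := ded_19_1 L170558 (flp_c L164005) L173294
theorem L173298 : sm gf N22162 = N21512 := ded_25_2 L168975 L163995 L173294
theorem L173300 : sm gg N22162 = N21747 := ded_26_2 L170462 L164001 L173294
theorem L173302 : sm gb N16873 = N22163 := rfl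
theorem L173304 : sm gc N22163 = N16913 := ded_13_2 (flp_b L122324) L97957 (flp_b L97829) (flp_c L122162) L173302
theorem L173306 : sm gf N22163 = N16913 := ded_16_2 (flp_b L122324) L163904 (flp_b L123195) L163881 L173302
theorem L173308 : sm ga N22163 = N22163 := ded_7_1 (flp_b L173302) L158355 (flp_b L158351) L109492 L92095 (flp_a L109492) L158351 (flp_a L158355) L173302
theorem L173309 : sm ga N16913 = N16913 := ded_8_1 (flp_c L173304) L173308 L173304
theorem L173310 : sm ga N17107 = N17107 := ded_9_3 (flp_d L163979) L173309 L163979
theorem L173311 : sm ga N21594 = N21594 := ded_10_3 L169491 L173309 (flp_e L169491)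
theorem L173312 : sm ga N21752 = N21752 := ded_10_3 L170498 L173310 (flp_e L170498)
theorem L173313 : sm gd N16874 = N22164 := rfl
theorem L173315 : sm ga N22164 = N16875 := ded_9_1 (flp_d L122166) L122164 L173313
theorem L173317 : sm gb N22164 = N22052 := ded_14_1 L172481 L151301 L173313
theorem L173319 : sm gf N22164 = N22053 := ded_23_2 L172485 (flp_f L151191) L173313
theorem L173321 : sm gg N16874 = N22165 := rfl
theorem L173323 : sm ga N22165 = N16877 := ded_12_1 (flp_g L122172) L122164 L173321
theorem L173325 : sm gc N16875 = N22166 := rfl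
theorem L173327 : sm ge N16875 = N22167 := rfl
theorem L173329 : sm gb N22167 = N16879 := ded_15_1 (flp_e L122184) (flp_b L122168) L173327
theorem L173331 : sm gf N16875 = N22168 := rfl
theorem L173333 : sm ga N22168 = N22053 := ded_11_1 (flp_f L173319) L173315 L173331
theorem L173335 : sm gd N22168 = N16876 := ded_23_1 (flp_f L122170) L122166 L173331
theorem L173337 : sm gg N16875 = N22169 := rfl
theorem L173339 : sm gd N22169 = N16877 := ded_24_1 (flp_g L122172) L122166 L173337
theorem L173341 : sm gb N22169 = N16923 := ded_17_1 (flp_g L122366) L97993 (flp_g L97837) (flp_b L122168) L173337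
theorem L173343 : sm gg N16876 = N22170 := rfl
theorem L173345 : sm ga N22170 = N22064 := ded_12_1 (flp_g L172549) L150958 L173343
theorem L173347 : sm gf N22165 = N22170 := ded_29_0 (flp_g L173343) (flp_f L122170) L122172 (flp_a L173323)
theorem L173349 : sm ge N16878 = N22171 := rfl
theorem L173351 : sm ga N22171 = N16882 := ded_10_1 (flp_e L122200) (flp_a L122178) L173349
theorem L173353 : sm gc N22171 = N16879 := ded_19_1 (flp_e L122184) L122176 L173349
theorem L173355 : sm gg N22171 = N16928 := ded_26_2 (flp_e L122388) (flp_g L122180) L173349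
theorem L173357 : sm ga N16880 = N22172 := rfl
theorem L173359 : sm ge N16880 = N22173 := rfl
theorem L173361 : sm gb N22173 = N16882 := ded_15_1 (flp_e L122200) L122190 L173359
theorem L173363 : sm gf N16880 = N22174 := rfl
theorem L173365 : sm gc N22174 = N16885 := ded_20_1 (flp_f L173138) L173136 L173363
theorem L173367 : sm gg N16880 = N22175 := rfl
theorem L173369 : sm gb N22175 = N16938 := ded_17_1 (flp_g L122440) (flp_b L98021) (flp_g L97841) L122190 L173367
theorem L173371 : sm ge N16881 = N22176 := rfl
theorem L173373 : sm ga N22176 = N17133 := ded_10_1 L123327 (flp_a L122194) L173371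
theorem L173375 : sm gc N22176 = N17122 := ded_19_1 L123283 L122198 L173371
theorem L173377 : sm gg N22176 = N16939 := ded_26_2 (flp_e L122444) (flp_g L122196) L173371
theorem L173379 : sm gd N16882 = N22177 := rfl
theorem L173381 : sm gg N22177 = N16941 := ded_24_2 (flp_d L122458) (flp_g L122204) L173379
theorem L173383 : sm gf N16882 = N22178 := rfl
theorem L173385 : sm gc N22178 = N16884 := ded_20_1 (flp_f L122210) (flp_c L122202) L173383
theorem L173387 : sm ge N22178 = N16883 := ded_25_1 (flp_f L122206) L122200 L173383
theorem L173389 : sm gb N16883 = N22179 := rfl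
theorem L173391 : sm gb N16884 = N22180 := rfl
theorem L173393 : sm ge N22180 = N16885 := ded_15_2 (flp_b L122214) (flp_e L122212) L173391
theorem L173395 : sm ga N16885 = N22181 := rfl
theorem L173397 : sm gd N22181 = N16886 := ded_9_2 (flp_a L122218) (flp_d L122216) L173395
theorem L173399 : sm gg N16885 = N22182 := rfl
theorem L173401 : sm gd N22182 = N16888 := ded_24_1 (flp_g L122224) (flp_d L122216) L173399
theorem L173403 : sm gb N22182 = N18627 := ded_17_1 (flp_g L143651) (flp_b L120599) (flp_g L98015) L122214 L173399
theorem L173405 : sm gb N16886 = N22183 := rfl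
theorem L173407 : sm gf N22183 = N19952 := ded_16_2 L157845 L157861 L173152 L173150 L173405
theorem L173409 : sm gc N19953 = N22183 := ded_20_3 L173407 (flp_c L157843) L157847
theorem L173411 : sm gc N16886 = N22184 := rfl
theorem L173413 : sm ga N22184 = N16887 := ded_8_1 (flp_c L122220) L122218 L173411
theorem L173415 : sm gg N16886 = N22185 := rfl
theorem L173417 : sm ga N22185 = N16888 := ded_12_1 (flp_g L122224) L122218 L173415
theorem L173419 : sm gf N22185 = N22147 := ded_29_2 (flp_g L173160) L173148 L173150 L173415
theorem L173421 : sm gd N16887 = N22186 := rfl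
theorem L173423 : sm gb N22186 = N16890 := ded_14_1 (flp_d L122232) (flp_b L122222) L173421
theorem L173425 : sm ge N20790 = N22186 := ded_15_0 L173423 (flp_e L163489) (flp_b L163093)
theorem L173427 : sm gc N20785 = N22186 := ded_13_0 L173423 L163409 (flp_b L113843) (flp_c L120142) L163049
theorem L173429 : sm ga N22186 = N20850 := ded_10_1 L164458 (flp_a L163089) L173425
theorem L173431 : sm gg N22186 = N20848 := ded_26_2 L164448 (flp_g L163091) L173425
theorem L173433 : sm gd N20850 = N22184 := ded_9_2 L173413 L173421 L173429
theorem L173435 : sm gg N22184 = N20849 := ded_24_2 (flp_d L164450) L164454 L173433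
theorem L173437 : sm gc N20849 = N22185 := ded_21_1 (flp_g L173415) L173411 L173435
theorem L173439 : sm gg N16887 = N22187 := rfl
theorem L173441 : sm ga N22187 = N20849 := ded_12_1 (flp_g L173435) L173413 L173439
theorem L173443 : sm gc N22187 = N16888 := ded_21_1 (flp_g L122224) L122220 L173439
theorem L173445 : sm gd N22187 = N20848 := ded_24_1 (flp_g L173431) (flp_d L173421) L173439
theorem L173447 : sm gb N20645 = N22187 := ded_7_0 L173441 L164452 L141023 (flp_b L173248) L173240 (flp_b L162170) L112284 (flp_b L112276) (flp_a L162148)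
theorem L173449 : sm gf N16888 = N22188 := rfl
theorem L173451 : sm ga N22188 = N22147 := ded_11_1 (flp_f L173419) L173417 L173449
theorem L173453 : sm gg N22188 = N22145 := ded_29_3 (flp_a L173148) L122104 L122224 L173449
theorem L173455 : sm gb N22188 = N20512 := ded_31_2 (flp_g L161388) (flp_f L111659) (flp_b L93261) (flp_g L46417) L22329 L10781 L10817 (flp_f L80524) (flp_b L12888) (flp_g L26815) L85523 L97851 L122224 L173449
theorem L173457 : sm gd N16889 = N22189 := rfl
theorem L173459 : sm ga N22189 = N16890 := ded_9_1 (flp_d L122232) (flp_a L122228) L173457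
theorem L173461 : sm gb N22189 = N19863 := ded_14_1 L157249 (flp_b L150940) L173457
theorem L173463 : sm gf N22189 = N16893 := ded_23_2 (flp_d L122242) (flp_f L122230) L173457
theorem L173465 : sm gg N22189 = N20897 := ded_24_2 L164799 L122272 L173457
theorem L173467 : sm gc N20879 = N22189 := ded_28_0 (flp_d L173457) (flp_c L122226) (flp_d L98599) L123363 (flp_d L163499) (flp_c L113867) (flp_d L113845) L164673
theorem L173469 : sm ge N20891 = N22189 := ded_10_0 L173459 (flp_e L163489) (flp_a L164759)
theorem L173471 : sm gb N16891 = N22190 := rfl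
theorem L173473 : sm gd N22190 = N20894 := ded_14_2 L164777 (flp_d L163582) L173471
theorem L173475 : sm gc N22190 = N20641 := ded_13_2 L162792 (flp_c L120810) L97971 (flp_c L122238) L173471
theorem L173477 : sm gg N22190 = N20645 := ded_17_2 L173447 (flp_g L173439) L122222 L122236 L173471
theorem L173479 : sm ga N22190 = N20642 := ded_28_8 (flp_c L162134) (flp_d L149798) (flp_c L112480) (flp_d L93986) (flp_c L133833) (flp_d L113939) L164773 (flp_d L173473)
theorem L173481 : sm ge N16893 = N22191 := rfl
theorem L173483 : sm ga N22191 = N16896 := ded_10_1 (flp_e L122256) (flp_a L122244) L173481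
theorem L173485 : sm gb N22191 = N20532 := ded_15_1 L161478 (flp_b L150936) L173481
theorem L173487 : sm gc N22191 = N20888 := ded_19_1 L164739 L163435 L173481
theorem L173489 : sm gf N22191 = N20891 := ded_25_2 L173469 L173463 L173481
theorem L173491 : sm gb N16894 = N22192 := rfl
theorem L173493 : sm gc N22192 = N20534 := ded_13_2 (flp_b L161488) L111717 (flp_b L97875) (flp_c L122250) L173491
theorem L173495 : sm gg N22192 = N20534 := ded_17_2 (flp_b L161488) (flp_g L111713) L150238 L122246 L173491
theorem L173497 : sm ga N22192 = N22192 := ded_7_1 (flp_b L173491) L122248 L122262 (flp_a L156038) L155791 L156038 (flp_b L122262) (flp_a L122248) L173491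
theorem L173498 : sm gg N16896 = N22193 := rfl
theorem L173500 : sm gc N22193 = N20889 := ded_21_1 (flp_g L164747) L163657 L173498
theorem L173502 : sm ge N22193 = N16897 := ded_26_1 (flp_g L122258) L122256 L173498
theorem L173504 : sm gb N22193 = N21018 := ded_17_1 (flp_g L165698) (flp_b L164522) L173210 L173206 L173498
theorem L173506 : sm gb N16897 = N22194 := rfl
theorem L173508 : sm gd N22194 = N16898 := ded_14_2 (flp_b L122262) (flp_d L122260) L173506
theorem L173510 : sm ge N22194 = N21018 := ded_15_2 (flp_b L173504) L173502 L173506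
theorem L173512 : sm gg N22194 = N21006 := ded_17_2 L173224 (flp_g L173212) L122128 L122258 L173506
theorem L173514 : sm ga N20868 = N22194 := ded_9_3 L173508 (flp_a L156038) (flp_d L164581)
theorem L173516 : sm gc N20867 = N22194 := ded_28_6 L173508 (flp_a L156038) (flp_c L155789) (flp_d L155702) (flp_c L157389) (flp_d L154344) (flp_c L154502) (flp_d L164572)
theorem L173518 : sm gf N16898 = N22195 := rfl
theorem L173520 : sm gc N22195 = N19887 := ded_20_1 L157373 (flp_c L122264) L173518
theorem L173522 : sm gb N16899 = N22196 := rfl
theorem L173524 : sm gg N16900 = N22197 := rfl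
theorem L173526 : sm ga N22197 = N17257 := ded_12_1 (flp_g L123930) (flp_a L123966) L173524
theorem L173528 : sm gd N22197 = N22101 := ded_24_1 L172829 (flp_d L171722) L173524
theorem L173530 : sm gf N22100 = N22197 := ded_29_0 (flp_g L173524) (flp_f L172769) L172771 (flp_a L172817)
theorem L173532 : sm gb N16902 = N22198 := rfl
theorem L173534 : sm gd N22198 = N17109 := ded_14_2 (flp_b L123227) (flp_d L163897) L173532
theorem L173536 : sm gc N22198 = N20019 := ded_13_2 L158215 (flp_c L111515) L111521 (flp_c L122284) L173532
theorem L173538 : sm gg N22198 = N20481 := ded_17_2 L161194 (flp_g L163883) L123195 (flp_g L163899) L173532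
theorem L173540 : sm ga N20020 = N22198 := ded_8_3 L173536 (flp_a L158213) L158219
theorem L173542 : sm gb N16903 = N22199 := rfl
theorem L173544 : sm gc N22199 = N19647 := ded_13_2 L155730 L120957 L97975 (flp_c L122290) L173542
theorem L173546 : sm ga N19648 = N22199 := ded_8_3 L173544 (flp_a L155728) L155732
theorem L173548 : sm gg N16904 = N22200 := rfl
theorem L173550 : sm ga N22200 = N16907 := ded_12_1 (flp_g L122306) L122294 L173548
theorem L173552 : sm gc N22200 = N16919 := ded_21_1 (flp_g L122352) (flp_c L122296) L173548
theorem L173554 : sm gd N22200 = N19991 := ded_24_1 (flp_g L158059) L163868 L173548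
theorem L173556 : sm gb N22200 = N19990 := ded_17_1 (flp_g L158049) L163683 (flp_g L123981) (flp_b L123960) L173548
theorem L173558 : sm ge N16905 = N22201 := rfl
theorem L173560 : sm ga N22201 = N21263 := ded_10_1 L167448 (flp_a L163933) L173558
theorem L173562 : sm gb N22201 = N16909 := ded_15_1 (flp_e L122312) (flp_b L122300) L173558
theorem L173564 : sm gc N22201 = N20120 := ded_19_1 L158857 (flp_c L163935) L173558
theorem L173566 : sm gf N22201 = N20121 := ded_25_2 L158867 (flp_f L163937) L173558
theorem L173568 : sm gg N22201 = N21714 := ded_26_2 L170252 (flp_g L163939) L173558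
theorem L173570 : sm gb N16906 = N22202 := rfl
theorem L173572 : sm gd N22202 = N20483 := ded_14_2 L161206 (flp_d L163987) L173570
theorem L173574 : sm gf N22202 = N16912 := ded_16_2 (flp_b L122322) (flp_f L97951) L97945 L122302 L173570
theorem L173576 : sm gg N16906 = N22203 := rfl
theorem L173578 : sm ga N22203 = N17069 := ded_12_1 L163999 L122832 L173576
theorem L173580 : sm gc N22203 = N16925 := ded_21_1 (flp_g L122374) (flp_c L122304) L173576
theorem L173582 : sm gd N22203 = N17067 := ded_24_1 L123047 (flp_d L163987) L173576
theorem L173584 : sm gf N22200 = N22203 := ded_29_0 (flp_g L173576) (flp_f L122302) L122306 (flp_a L173550)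
theorem L173586 : sm gb N16907 = N22204 := rfl
theorem L173588 : sm gg N22204 = N16913 := ded_17_2 (flp_b L122324) (flp_g L97955) L97945 L122306 L173586
theorem L173590 : sm ga N22204 = N22204 := ded_7_1 (flp_b L173586) (flp_a L173550) L173556 L158045 L109323 (flp_a L158045) (flp_b L173556) L173550 L173586
theorem L173591 : sm gb N16910 = N22205 := rfl
theorem L173593 : sm gd N22205 = N16912 := ded_14_2 (flp_b L122322) (flp_d L122316) L173591
theorem L173595 : sm gc N22205 = N19965 := ded_13_2 L157917 (flp_c L150944) L111533 (flp_c L163927) L173591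
theorem L173597 : sm gf N22205 = N20483 := ded_16_2 L161206 (flp_f L163937) L122300 L122314 L173591
theorem L173599 : sm ga N19966 = N22205 := ded_8_3 L173595 (flp_a L157915) L157921
theorem L173601 : sm ga N16912 = N22206 := rfl
theorem L173603 : sm gd N22206 = N19966 := ded_9_2 L173599 L173593 L173601
theorem L173605 : sm gc N16912 = N22207 := rfl
theorem L173607 : sm gb N22207 = N16915 := ded_13_1 (flp_c L122334) (flp_b L97959) (flp_c L97953) L122322 L173605
theorem L173609 : sm gg N16959 = N22207 := ded_17_0 L173607 L122338 L151264 (flp_g L122549) L122545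
theorem L173611 : sm gg N16912 = N22208 := rfl
theorem L173613 : sm gc N22208 = N16959 := ded_21_1 L173609 (flp_c L173605) L173611
theorem L173615 : sm gb N22208 = N16997 := ded_17_1 (flp_g L171788) L171790 L120997 L122322 L173611
theorem L173617 : sm gf N16970 = N22208 := ded_20_0 L173613 L122547 L122603
theorem L173619 : sm gd N16915 = N22209 := rfl
theorem L173621 : sm gf N22209 = N16933 := ded_23_2 (flp_d L122420) (flp_f L122336) L173619
theorem L173623 : sm gg N22209 = N19299 := ded_24_2 L153125 (flp_g L122338) L173619
theorem L173625 : sm gd N16916 = N22210 := rfl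
theorem L173627 : sm ga N22210 = N17179 := ded_9_1 (flp_d L123564) (flp_a L122342) L173625
theorem L173629 : sm gb N22210 = N16917 := ded_14_1 (flp_d L122344) L122340 L173625
theorem L173631 : sm gg N16916 = N22211 := rfl
theorem L173633 : sm ga N22211 = N17181 := ded_12_1 (flp_g L123570) (flp_a L122342) L173631
theorem L173635 : sm gc N22211 = N17273 := ded_21_1 (flp_g L124031) L123962 L173631
theorem L173637 : sm ge N16917 = N22212 := rfl
theorem L173639 : sm ga N22212 = N16921 := ded_10_1 (flp_e L122358) (flp_a L122346) L173637
theorem L173641 : sm gg N16917 = N22213 := rfl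
theorem L173643 : sm ga N22213 = N16923 := ded_12_1 (flp_g L122366) (flp_a L122346) L173641
theorem L173645 : sm gc N22213 = N22209 := ded_21_1 L173623 (flp_c L163963) L173641
theorem L173647 : sm gd N22213 = N16919 := ded_24_1 (flp_g L122352) L122344 L173641
theorem L173649 : sm gb N16919 = N22214 := rfl
theorem L173651 : sm gb N16920 = N22215 := rfl
theorem L173653 : sm gc N22215 = N16927 := ded_13_2 (flp_b L122384) (flp_c L97999) (flp_b L97993) L122356 L173651
theorem L173655 : sm ge N16920 = N22216 := rfl
theorem L173657 : sm gc N22216 = N16921 := ded_19_1 (flp_e L122358) L122356 L173655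
theorem L173659 : sm gg N16920 = N22217 := rfl
theorem L173661 : sm ga N22217 = N22209 := ded_12_1 L173623 (flp_a L163965) L173659
theorem L173663 : sm gc N22217 = N16923 := ded_21_1 (flp_g L122366) L122356 L173659
theorem L173665 : sm gd N22217 = N17278 := ded_24_1 (flp_g L161400) (flp_d L163961) L173659
theorem L173667 : sm gf N21938 = N22217 := ded_29_0 (flp_g L173659) (flp_f L171672) L171674 (flp_a L171690)
theorem L173669 : sm gb N17276 = N22217 := ded_14_3 L173665 (flp_b L124053) (flp_d L124045)
theorem L173671 : sm gf N16921 = N22218 := rfl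
theorem L173673 : sm ge N22218 = N16922 := ded_25_1 (flp_f L122362) L122358 L173671
theorem L173675 : sm gg N16921 = N22219 := rfl
theorem L173677 : sm ge N22219 = N16923 := ded_26_1 (flp_g L122366) L122358 L173675
theorem L173679 : sm gg N16922 = N22220 := rfl
theorem L173681 : sm gc N22220 = N16933 := ded_21_1 (flp_g L171674) L171676 L173679
theorem L173683 : sm gd N22220 = N16925 := ded_24_1 (flp_g L122374) (flp_d L122364) L173679
theorem L173685 : sm gf N22213 = N22220 := ded_29_0 (flp_g L173679) (flp_f L122362) L122366 (flp_a L173643)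
theorem L173687 : sm gf N16923 = N22221 := rfl
theorem L173689 : sm ga N22221 = N22220 := ded_11_1 (flp_f L173685) L173643 L173687
theorem L173691 : sm gc N22221 = N21938 := ded_20_1 L173667 L173663 L173687
theorem L173693 : sm gd N22221 = N16926 := ded_23_1 (flp_f L122378) (flp_d L122368) L173687
theorem L173695 : sm gg N22221 = N21936 := ded_29_3 L171680 (flp_f L122362) L122366 L173687
theorem L173697 : sm gc N16924 = N22222 := rfl
theorem L173699 : sm ga N22222 = N17052 := ded_8_1 L143613 L143607 L173697
theorem L173701 : sm gf N22222 = N16931 := ded_20_2 (flp_c L122412) (flp_f L122372) L173697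
theorem L173703 : sm gg N16924 = N22223 := rfl
theorem L173705 : sm gd N22223 = N18632 := ded_24_1 L143695 (flp_d L143601) L173703
theorem L173707 : sm gf N18631 = N22223 := ded_29_0 (flp_g L173703) L122372 L122416 (flp_a L143683)
theorem L173709 : sm gb N16925 = N22224 := rfl
theorem L173711 : sm ga N16927 = N22225 := rfl
theorem L173713 : sm gd N22225 = N17128 := ded_9_2 (flp_a L123303) (flp_d L122386) L173711
theorem L173715 : sm ge N16927 = N22226 := rfl
theorem L173717 : sm gb N22226 = N16928 := ded_15_1 (flp_e L122388) L122384 L173715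
theorem L173719 : sm gf N16927 = N22227 := rfl
theorem L173721 : sm gd N22227 = N17130 := ded_23_1 (flp_f L123313) (flp_d L122386) L173719
theorem L173723 : sm gg N16927 = N22228 := rfl
theorem L173725 : sm gd N22228 = N17131 := ded_24_1 (flp_g L123317) (flp_d L122386) L173723
theorem L173727 : sm gd N16928 = N22229 := rfl
theorem L173729 : sm ga N22229 = N16941 := ded_9_1 (flp_d L122458) (flp_a L122390) L173727
theorem L173731 : sm ge N22229 = N17132 := ded_22_2 (flp_d L123321) (flp_e L98575) L98003 L122388 L173727
theorem L173733 : sm gf N16928 = N22230 := rfl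
theorem L173735 : sm ga N22230 = N16942 := ded_11_1 (flp_f L122460) (flp_a L122390) L173733
theorem L173737 : sm gc N22230 = N16930 := ded_20_1 (flp_f L122404) (flp_c L122392) L173733
theorem L173739 : sm ge N22230 = N16929 := ded_25_1 (flp_f L122394) L122388 L173733
theorem L173741 : sm gg N22178 = N22230 := ded_29_1 (flp_f L173733) (flp_g L173355) L173351 L173383
theorem L173743 : sm gd N16931 = N22231 := rfl
theorem L173745 : sm ga N22231 = N18615 := ded_9_1 L149305 L143669 L173743
theorem L173747 : sm gb N22231 = N16933 := ded_14_1 (flp_d L122420) (flp_b L122414) L173743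
theorem L173749 : sm gc N18558 = N22231 := ded_28_0 (flp_d L173743) (flp_c L122412) (flp_d L120601) (flp_c L103368) (flp_d L103210) (flp_c L163163) (flp_d L159607) L163266
theorem L173751 : sm gb N22220 = N19922 := ded_13_3 (flp_c L157657) (flp_b L143281) L173749 L173747 (flp_c L173681)
theorem L173753 : N19988 = N22224 := coi_14_3 (flp_b L173709) (flp_d L173683) L173751 L158037
theorem L173754 : N22224 = N19988 := (eqc rfl L173753 rfl).symm
theorem L173755 : sm gb N19988 = N16925 := trfs L173754 (flp_b L173709) rfl
theorem L173757 : sm gf N16932 = N22232 := rfl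
theorem L173759 : sm ga N22232 = N22223 := ded_11_1 (flp_f L173707) L143683 L173757
theorem L173761 : sm gd N22232 = N18618 := ded_23_1 (flp_f L143659) L143657 L173757
theorem L173763 : sm gg N22232 = N18617 := ded_29_3 L143607 L122372 L122416 L173757
theorem L173765 : sm gb N22232 = N19848 := ded_16_1 L161392 (flp_b L173455) (flp_f L173449) (flp_b L122418) L173757
theorem L173767 : sm ge N16933 = N22233 := rfl
theorem L173769 : sm gb N16934 = N22234 := rfl
theorem L173771 : sm gd N16934 = N22235 := rfl
theorem L173773 : sm ga N22235 = N16935 := ded_9_1 (flp_d L122426) L122422 L173771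
theorem L173775 : sm ge N16934 = N22236 := rfl
theorem L173777 : sm ga N22236 = N16936 := ded_10_1 (flp_e L122430) L122422 L173775
theorem L173779 : sm gc N22236 = N17199 := ded_19_1 (flp_e L123642) (flp_c L122424) L173775
theorem L173781 : sm gf N16934 = N22237 := rfl
theorem L173783 : sm ga N22237 = N16937 := ded_11_1 (flp_f L122436) L122422 L173781
theorem L173785 : sm gc N22237 = N17200 := ded_20_1 (flp_f L123646) (flp_c L122424) L173781
theorem L173787 : sm gg N16934 = N22238 := rfl
theorem L173789 : sm ga N22238 = N16938 := ded_12_1 (flp_g L122440) L122422 L173787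
theorem L173791 : sm gc N22238 = N17201 := ded_21_1 (flp_g L123650) (flp_c L122424) L173787
theorem L173793 : sm gc N16935 = N22239 := rfl
theorem L173795 : sm gb N22239 = N17115 := ded_13_1 (flp_c L123251) L98549 L98029 (flp_b L122428) L173793
theorem L173797 : sm ge N16935 = N22240 := rfl
theorem L173799 : sm gb N22240 = N16939 := ded_15_1 (flp_e L122444) (flp_b L122428) L173797
theorem L173801 : sm gf N16935 = N22241 := rfl
theorem L173803 : sm gd N22241 = N16937 := ded_23_1 (flp_f L122436) L122426 L173801
theorem L173805 : sm gg N16935 = N22242 := rfl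
theorem L173807 : sm gd N22242 = N16938 := ded_24_1 (flp_g L122440) L122426 L173805
theorem L173809 : sm gd N16936 = N22243 := rfl
theorem L173811 : sm gb N22243 = N16941 := ded_14_1 (flp_d L122458) (flp_b L122432) L173809
theorem L173813 : sm gf N16936 = N22244 := rfl
theorem L173815 : sm gc N22244 = N17203 := ded_20_1 (flp_f L123658) (flp_c L122434) L173813
theorem L173817 : sm ge N22244 = N16937 := ded_25_1 (flp_f L122436) L122430 L173813
theorem L173819 : sm gg N16936 = N22245 := rfl
theorem L173821 : sm gc N22245 = N17204 := ded_21_1 (flp_g L123662) (flp_c L122434) L173819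
theorem L173823 : sm ge N22245 = N16938 := ded_26_1 (flp_g L122440) L122430 L173819
theorem L173825 : sm gg N16937 = N22246 := rfl
theorem L173827 : sm gc N22246 = N17205 := ded_21_1 (flp_g L123666) (flp_c L122438) L173825
theorem L173829 : sm gf N22238 = N22246 := ded_29_0 (flp_g L173825) (flp_f L122436) L122440 (flp_a L173789)
theorem L173831 : sm gf N16938 = N22247 := rfl
theorem L173833 : sm ga N22247 = N22246 := ded_11_1 (flp_f L173829) L173789 L173831
theorem L173835 : sm gc N22247 = N17206 := ded_20_1 (flp_f L123670) (flp_c L122442) L173831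
theorem L173837 : sm gg N22247 = N22237 := ded_29_3 L173783 (flp_f L122436) L122440 L173831
theorem L173839 : sm gd N16939 = N22248 := rfl
theorem L173841 : sm ga N22248 = N17132 := ded_9_1 (flp_d L123321) (flp_a L122446) L173839
theorem L173843 : sm ge N22248 = N16941 := ded_22_2 (flp_d L122458) (flp_e L98031) L98025 L122444 L173839
theorem L173845 : sm gf N16939 = N22249 := rfl
theorem L173847 : sm ga N22249 = N17078 := ded_11_1 L123091 (flp_a L122446) L173845
theorem L173849 : sm gc N22249 = N17076 := ded_20_1 L123083 (flp_c L122448) L173845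
theorem L173851 : sm ge N22249 = N16940 := ded_25_1 (flp_f L122450) L122444 L173845
theorem L173853 : sm gc N16941 = N22250 := rfl
theorem L173855 : sm gf N16941 = N22251 := rfl
theorem L173857 : sm gd N22251 = N16942 := ded_23_1 (flp_f L122460) L122458 L173855
theorem L173859 : sm gg N16942 = N22252 := rfl
theorem L173861 : sm ga N22252 = N22178 := ded_12_1 L173741 L173735 L173859
theorem L173863 : sm gc N22252 = N16945 := ded_21_1 (flp_g L122476) (flp_c L122462) L173859
theorem L173865 : sm ge N22252 = N16944 := ded_26_1 (flp_g L122468) (flp_e L122464) L173859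
theorem L173867 : sm gf N22171 = N22252 := ded_29_0 (flp_g L173859) (flp_f L122460) (flp_g L122204) (flp_a L173351)
theorem L173869 : sm gb N16944 = N22253 := rfl
theorem L173871 : sm gb N16945 = N22254 := rfl
theorem L173873 : sm ge N22254 = N16946 := ded_15_2 (flp_b L122484) (flp_e L122480) L173871
theorem L173875 : sm ga N16946 = N22255 := rfl
theorem L173877 : sm gd N22255 = N16947 := ded_9_2 (flp_a L122488) (flp_d L122486) L173875
theorem L173879 : sm gg N22255 = N19113 := ded_12_2 (flp_a L162506) L162478 L173875
theorem L173881 : sm gb N19109 = N22255 := ded_14_3 L173877 L162502 L155258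
theorem L173883 : sm gc N16946 = N22256 := rfl
theorem L173885 : sm gf N16946 = N22257 := rfl
theorem L173887 : sm gd N22257 = N16949 := ded_23_1 (flp_f L122494) (flp_d L122486) L173885
theorem L173889 : sm gb N22257 = N22168 := ded_16_1 (flp_f L173331) L122168 L98049 L122484 L173885
theorem L173891 : sm gc N16947 = N22258 := rfl
theorem L173893 : sm ga N22258 = N16948 := ded_8_1 (flp_c L122490) L122488 L173891
theorem L173895 : sm gb N22258 = N19622 := ded_13_1 L155534 L107601 (flp_c L155256) (flp_b L162502) L173891
theorem L173897 : sm gf N16947 = N22259 := rfl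
theorem L173899 : sm ga N22259 = N16949 := ded_11_1 (flp_f L122494) L122488 L173897
theorem L173901 : sm gg N20710 = N22259 := ded_29_1 (flp_f L173897) (flp_g L162498) (flp_a L162496) L162514
theorem L173903 : sm gd N16948 = N22260 := rfl
theorem L173905 : sm gb N22260 = N16951 := ded_14_1 (flp_d L122504) (flp_b L122492) L173903
theorem L173907 : sm ge N20968 = N22260 := ded_15_0 L173905 L163780 L165316
theorem L173909 : sm gf N16948 = N22261 := rfl
theorem L173911 : sm gc N22261 = N16949 := ded_20_1 (flp_f L122494) L122490 L173909
theorem L173913 : sm gg N16949 = N22262 := rfl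
theorem L173915 : sm ga N22262 = N20710 := ded_12_1 L173901 L173899 L173913
theorem L173917 : sm gf N20708 = N22262 := ded_29_0 (flp_g L173913) (flp_f L122494) (flp_g L112544) L162496
theorem L173919 : sm gb N16950 = N22263 := rfl
theorem L173921 : sm gd N22263 = N20836 := ded_14_2 L164354 (flp_d L163746) L173919
theorem L173923 : sm gc N22263 = N22147 := ded_13_2 L173162 L161290 L111603 L122498 L173919
theorem L173925 : sm gf N22263 = N20849 := ded_16_2 L164452 L113616 (flp_b L114534) L163669 L173919
theorem L173927 : sm gg N22263 = N22146 := ded_17_2 L173158 L162174 (flp_b L162170) (flp_g L122502) L173919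
theorem L173929 : sm gd N16954 = N22264 := rfl
theorem L173931 : sm ga N22264 = N20479 := ded_9_1 (flp_d L161178) (flp_a L122524) L173929
theorem L173933 : sm gb N22264 = N20542 := ded_14_1 (flp_d L161547) (flp_b L151297) L173929
theorem L173935 : sm gf N22264 = N22104 := ded_23_2 (flp_d L172845) (flp_f L122526) L173929
theorem L173937 : sm gg N22264 = N19046 := ded_24_2 (flp_d L151282) (flp_g L122528) L173929
theorem L173939 : sm gc N19048 = N22264 := ded_28_0 (flp_d L173929) (flp_c L122522) L98105 L118772 L151282 (flp_c L146146) (flp_d L129050) L151139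
theorem L173941 : sm ga N16959 = N22265 := rfl
theorem L173943 : sm gf N22265 = N16969 := ded_11_2 (flp_a L122601) (flp_f L122547) L173941
theorem L173945 : sm gb N20036 = N22265 := ded_30_2 (flp_a L173941) L122547 L122603 L122605 (flp_a L122619) L122621 (flp_c L98282) L98276 (flp_a L111435) L112178 L162028 L162036 L158011 (flp_f L112536) (flp_c L120553) (flp_b L109476) (flp_a L109474) L109480 (flp_c L158313)
theorem L173947 : sm gb N16963 = N22266 := rfl
theorem L173949 : sm ge N22266 = N16965 := ded_15_2 (flp_b L122577) (flp_e L122570) L173947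
theorem L173951 : sm ga N16965 = N22267 := rfl
theorem L173953 : sm gd N22267 = N16969 := ded_9_2 (flp_a L122601) (flp_d L122579) L173951
theorem L173955 : sm gc N16965 = N22268 := rfl
theorem L173957 : sm gb N22268 = N22268 := ded_13_1 (flp_c L173955) (flp_b L122577) L102093 L122577 L173955
theorem L173958 : sm gg N16965 = N22269 := rfl
theorem L173960 : sm gd N22269 = N16971 := ded_24_1 (flp_g L122607) (flp_d L122579) L173958
theorem L173962 : sm gb N16966 = N22270 := rfl
theorem L173964 : sm gd N22270 = N16972 := ded_14_2 (flp_b L122609) (flp_d L122584) L173962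
theorem L173966 : sm gb N16969 = N22271 := rfl
theorem L173968 : sm gf N22271 = N20034 := ded_16_2 (flp_b L158299) L158309 L173945 L173943 L173966
theorem L173970 : sm ga N20739 = N22271 := ded_11_3 L173968 L158303 L162676
theorem L173972 : sm gc N20040 = N22271 := ded_20_3 L173968 L158301 L158329
theorem L173974 : sm gc N16969 = N22272 := rfl
theorem L173976 : sm ga N22272 = N16970 := ded_8_1 (flp_c L122603) L122601 L173974
theorem L173978 : sm gg N22202 = N22272 := ded_29_3 L173976 L173617 (flp_g L173611) (flp_f L173574)
theorem L173980 : sm gg N16969 = N22273 := rfl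
theorem L173982 : sm ga N22273 = N16971 := ded_12_1 (flp_g L122607) L122601 L173980
theorem L173984 : sm gc N22273 = N22202 := ded_21_1 L173978 (flp_c L173974) L173980
theorem L173986 : sm gf N22273 = N22207 := ded_29_2 (flp_g L173609) L173941 L173943 L173980
theorem L173988 : sm gb N22222 = N22273 := ded_31_14 (flp_g L173980) (flp_f L173943) (flp_b L173945) (flp_g L162784) (flp_f L162778) (flp_b L151234) (flp_g L151395) (flp_f L152476) (flp_b L162142) L162154 (flp_f L162150) L162144 (flp_g L162798) (flp_f L173701)
theorem L173990 : sm gb N16971 = N17072 := ded_7_2 (flp_a L123067) (flp_b L98411) L85718 (flp_b L85706) (flp_a L98363) L122975 (flp_a L173699) L173988 L173982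
theorem L173992 : sm gb N21716 = N21643 := ded_15_3 L169797 L173990 (flp_e L170266)
theorem L173994 : sm gg N17072 = N16972 := ded_17_2 (flp_b L122609) (flp_g L98147) L98145 L122607 L173990
theorem L173996 : sm gg N21644 = N21716 := ded_17_0 L173992 (flp_g L169795) (flp_b L117569) L117573 L169799
theorem L173998 : sm ga N16972 = N17075 := ded_12_1 (flp_g L123077) L123067 L173994
theorem L174000 : sm ga N21719 = N21644 := ded_12_3 L173996 (flp_a L170264) L170278
theorem L174002 : sm gd N16970 = N22274 := rfl
theorem L174004 : sm gb N22274 = N16977 := ded_14_1 (flp_d L122625) (flp_b L122605) L174002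
theorem L174006 : sm gg N16970 = N22275 := rfl
theorem L174008 : sm ga N22275 = N22202 := ded_12_1 L173978 L173976 L174006
theorem L174010 : sm gc N22275 = N16971 := ded_21_1 (flp_g L122607) L122603 L174006
theorem L174012 : sm gf N22206 = N22275 := ded_29_0 (flp_g L174006) L173617 (flp_g L173611) L173601
theorem L174014 : sm gf N16971 = N22276 := rfl
theorem L174016 : sm ga N22276 = N22207 := ded_11_1 (flp_f L173986) L173982 L174014
theorem L174018 : sm gc N22276 = N22206 := ded_20_1 L174012 L174010 L174014
theorem L174020 : sm gg N22276 = N22265 := ded_29_3 (flp_a L173941) L122547 L122607 L174014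
theorem L174022 : sm gb N20006 = N22276 := ded_7_0 L174016 L173607 (flp_a L124057) (flp_b L124053) L98933 L85970 (flp_a L92037) L109404 L158147
theorem L174024 : sm gf N16972 = N22277 := rfl
theorem L174026 : sm gc N22277 = N22159 := ded_20_1 (flp_f L173278) L172879 L174024
theorem L174028 : sm gg N17074 = N22277 := ded_29_1 (flp_f L174024) (flp_g L173994) (flp_a L123067) L123073
theorem L174030 : sm gb N22277 = N20547 := ded_16_1 (flp_f L161579) L111767 L102072 L122609 L174024
theorem L174032 : sm ga N16975 = N22278 := rfl
theorem L174034 : sm gd N22278 = N19327 := ded_9_2 L153289 L150896 L174032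
theorem L174036 : sm gf N22278 = N17279 := ded_11_2 L151564 (flp_f L150972) L174032
theorem L174038 : sm gc N22278 = N19133 := ded_28_0 (flp_d L152012) (flp_c L105093) (flp_d L102310) L129235 L153057 (flp_c L105752) L150896 L174032
theorem L174040 : sm gc N16975 = N22279 := rfl
theorem L174042 : sm ga N22279 = N19133 := ded_8_1 (flp_c L174038) (flp_a L174032) L174040
theorem L174044 : sm gf N22279 = N19316 := ded_20_2 (flp_c L153225) (flp_f L150972) L174040
theorem L174046 : sm gb N22279 = N16979 := ded_13_1 (flp_c L122637) (flp_b L98185) (flp_c L98159) L122615 L174040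
theorem L174048 : sm gd N22279 = N19131 := ded_28_7 L151998 (flp_c L105093) (flp_d L102310) L129235 L153057 (flp_c L105752) L150896 L174040
theorem L174050 : sm gg N16975 = N22280 := rfl
theorem L174052 : sm gd N22280 = N19328 := ded_24_1 (flp_g L153295) L150896 L174050
theorem L174054 : sm gb N22280 = N20620 := ded_17_1 (flp_g L161980) (flp_b L112107) L102078 L122615 L174050
theorem L174056 : sm gd N16976 = N22281 := rfl
theorem L174058 : sm ga N22281 = N16977 := ded_9_1 (flp_d L122625) (flp_a L122619) L174056
theorem L174060 : sm gb N22281 = N22114 := ded_14_1 L172923 (flp_b L123956) L174056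
theorem L174062 : sm gf N22281 = N17020 := ded_23_2 (flp_d L122840) (flp_f L122621) L174056
theorem L174064 : sm gg N22281 = N20521 := ded_24_2 (flp_d L161434) (flp_g L122623) L174056
theorem L174066 : sm gc N20571 = N22281 := ded_28_2 (flp_d L174056) (flp_c L122617) L98165 L109309 (flp_d L157525) L157523 (flp_c L157537) (flp_d L163445)
theorem L174068 : sm gc N16977 = N22282 := rfl
theorem L174070 : sm ga N22282 = N20571 := ded_8_1 L174066 L174058 L174068
theorem L174072 : sm gf N22282 = N17021 := ded_20_2 (flp_c L122844) (flp_f L122627) L174068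
theorem L174074 : sm gb N22282 = N19874 := ded_30_2 L157311 L108691 (flp_c L91762) (flp_b L44056) L21137 (flp_f L21129) L21107 L22317 L46393 L93203 (flp_c L150144) L111499 L111507 (flp_f L98615) (flp_c L123063) L163997 L122842 (flp_f L122627) L174068
theorem L174076 : sm gc N22274 = N19873 := ded_13_2 (flp_b L157307) L157309 (flp_b L174074) (flp_c L174068) (flp_b L174004)
theorem L174078 : sm gg N20568 = N22282 := ded_12_0 L174070 (flp_g L161699) L161691
theorem L174080 : sm ge N16977 = N22283 := rfl
theorem L174082 : sm gf N22283 = N17022 := ded_25_2 (flp_e L122846) (flp_f L122627) L174080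
theorem L174084 : sm gg N16977 = N22284 := rfl
theorem L174086 : sm ga N22284 = N20521 := ded_12_1 (flp_g L174064) L174058 L174084
theorem L174088 : sm gc N22284 = N20568 := ded_21_1 L174078 (flp_c L174068) L174084
theorem L174090 : sm gd N22284 = N16978 := ded_24_1 (flp_g L122629) L122625 L174084
theorem L174092 : sm gf N22070 = N22284 := ded_29_0 (flp_g L174084) L122627 L122848 (flp_a L172593)
theorem L174094 : sm gb N16978 = N22285 := rfl
theorem L174096 : sm gc N22285 = N22069 := ded_13_2 (flp_b L172589) L121731 (flp_b L98183) (flp_c L122633) L174094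
theorem L174098 : sm gf N16980 = N22286 := rfl
theorem L174100 : sm ga N22286 = N16989 := ded_11_1 (flp_f L122696) (flp_a L122645) L174098
theorem L174102 : sm gc N22286 = N16982 := ded_20_1 (flp_f L122660) L122643 L174098
theorem L174104 : sm gd N22286 = N21056 := ded_23_1 (flp_f L165995) L122647 L174098
theorem L174106 : sm ge N22286 = N21051 := ded_25_1 (flp_f L165959) (flp_e L122651) L174098
theorem L174108 : sm gg N16980 = N22287 := rfl
theorem L174110 : sm ga N22287 = N16990 := ded_12_1 (flp_g L122700) (flp_a L122645) L174108
theorem L174112 : sm gc N22287 = N16983 := ded_21_1 (flp_g L122666) L122643 L174108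
theorem L174114 : sm gd N22287 = N19293 := ded_24_1 (flp_g L153084) L122647 L174108
theorem L174116 : sm ge N22287 = N20948 := ded_26_1 L165147 (flp_e L122651) L174108
theorem L174118 : sm gb N22287 = N22287 := ded_17_1 (flp_g L174108) L122649 L115012 (flp_b L122649) L174108
theorem L174119 : sm gf N16981 = N22288 := rfl
theorem L174121 : sm ga N22288 = N16991 := ded_11_1 (flp_f L122704) (flp_a L122655) L174119
theorem L174123 : sm gc N22288 = N21051 := ded_20_1 (flp_f L165959) (flp_c L122658) L174119
theorem L174125 : sm ge N22288 = N16982 := ded_25_1 (flp_f L122660) L122653 L174119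
theorem L174127 : sm gg N16981 = N22289 := rfl
theorem L174129 : sm ga N22289 = N16992 := ded_12_1 (flp_g L122708) (flp_a L122655) L174127
theorem L174131 : sm gc N22289 = N20948 := ded_21_1 L165147 (flp_c L122658) L174127
theorem L174133 : sm gd N22289 = N20742 := ded_24_1 L162688 L129653 L174127
theorem L174135 : sm ge N22289 = N16983 := ded_26_1 (flp_g L122666) L122653 L174127
theorem L174137 : sm gb N16982 = N22290 := rfl
theorem L174139 : sm gd N22290 = N16984 := ded_14_2 (flp_b L122672) (flp_d L122664) L174137
theorem L174141 : sm gf N22290 = N22290 := ded_16_2 (flp_b L174137) (flp_f L122660) L98197 L122660 L174137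
theorem L174142 : sm ga N16984 = N22291 := rfl
theorem L174144 : sm gf N22291 = N22291 := ded_11_2 (flp_a L174142) L122674 L174142
theorem L174145 : sm gc N16984 = N22292 := rfl
theorem L174147 : sm gf N22292 = N22292 := ded_20_2 (flp_c L174145) L122674 L174145
theorem L174148 : sm gb N22292 = N20051 := ded_13_1 (flp_c L163810) (flp_b L162518) L112556 L122672 L174145
theorem L174150 : sm gd N20052 = N22292 := ded_14_0 L174148 L158390 L158394
theorem L174152 : sm gg N16984 = N22293 := rfl
theorem L174154 : sm gb N22293 = N17048 := ded_17_1 (flp_g L172190) (flp_b L122744) L98232 L122672 L174152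
theorem L174156 : sm gf N22293 = N17012 := ded_31_1 (flp_b L122798) L122804 (flp_f L151085) (flp_b L120993) (flp_g L97182) (flp_f L97088) (flp_b L97021) L97020 L120659 L151097 (flp_g L98202) L98198 L122672 L174152
theorem L174158 : sm gg N22291 = N17012 := ded_29_1 (flp_f L174156) (flp_g L174152) L174142 L174144
theorem L174160 : sm ga N22293 = N17012 := ded_29_4 (flp_f L174156) (flp_g L174152) L122674 L174152
theorem L174162 : sm gb N17227 = N22291 := ded_31_14 L174158 (flp_f L174156) L174154 (flp_g L172190) (flp_f L172184) (flp_b L172180) L121420 (flp_f L121388) L121381 L151154 L151152 L151189 L150682 L123770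
theorem L174164 : sm gf N16987 = N22294 := rfl
theorem L174166 : sm ga N22294 = N21056 := ded_11_1 (flp_f L165995) (flp_a L122684) L174164
theorem L174168 : sm gd N22294 = N16989 := ded_23_1 (flp_f L122696) L122682 L174164
theorem L174170 : sm ge N22294 = N21053 := ded_25_1 (flp_f L165977) L122686 L174164
theorem L174172 : sm gf N16988 = N22295 := rfl
theorem L174174 : sm ga N22295 = N21051 := ded_11_1 (flp_f L165959) (flp_a L122690) L174172
theorem L174176 : sm gc N22295 = N16991 := ded_20_1 (flp_f L122704) (flp_c L122692) L174172
theorem L174178 : sm gd N22295 = N21050 := ded_23_1 (flp_f L165949) (flp_d L122694) L174172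
theorem L174180 : sm ge N22295 = N16989 := ded_25_1 (flp_f L122696) L122688 L174172
theorem L174182 : sm gg N16988 = N22296 := rfl
theorem L174184 : sm ga N22296 = N20948 := ded_12_1 L165147 (flp_a L122690) L174182
theorem L174186 : sm gc N22296 = N16992 := ded_21_1 (flp_g L122708) (flp_c L122692) L174182
theorem L174188 : sm gd N22296 = N18473 := ded_24_1 L148580 (flp_d L122694) L174182
theorem L174190 : sm ge N22296 = N16990 := ded_26_1 (flp_g L122700) L122688 L174182
theorem L174192 : sm gb N22296 = N18470 := ded_17_1 (flp_g L130624) L102928 L118705 L149144 L174182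
theorem L174194 : sm gg N16989 = N22297 := rfl
theorem L174196 : sm gc N22297 = N16994 := ded_21_1 (flp_g L122718) (flp_c L122698) L174194
theorem L174198 : sm gf N22287 = N22297 := ded_29_0 (flp_g L174194) (flp_f L122696) L122700 (flp_a L174110)
theorem L174200 : sm gb N21954 = N22297 := ded_13_5 L174196 (flp_b L151260) L150205 L121020 L171811
theorem L174202 : sm gf N16990 = N22298 := rfl
theorem L174204 : sm ga N22298 = N22297 := ded_11_1 (flp_f L174198) L174110 L174202
theorem L174206 : sm gc N22298 = N16995 := ded_20_1 (flp_f L122724) (flp_c L122702) L174202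
theorem L174208 : sm gg N22298 = N22286 := ded_29_3 L174100 (flp_f L122696) L122700 L174202
theorem L174210 : sm gb N22298 = N22082 := ded_31_2 (flp_g L172689) (flp_f L121797) L121771 (flp_g L171556) (flp_f L171548) L122014 (flp_g L118846) L118840 L118942 L171538 (flp_f L171544) (flp_b L122678) L122700 L174202
theorem L174212 : sm gb N16991 = N22299 := rfl
theorem L174214 : sm ge N22299 = N16993 := ded_15_2 (flp_b L122712) (flp_e L122706) L174212
theorem L174216 : sm gf N22299 = N17008 := ded_16_2 (flp_b L122782) (flp_f L98254) (flp_b L98210) L122704 L174212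
theorem L174218 : sm gc N22094 = N22299 := ded_19_3 L174214 (flp_c L149770) (flp_e L172779)
theorem L174220 : sm gg N16991 = N22300 := rfl
theorem L174222 : sm ge N22300 = N16994 := ded_26_1 (flp_g L122718) (flp_e L122706) L174220
theorem L174224 : sm gf N22289 = N22300 := ded_29_0 (flp_g L174220) (flp_f L122704) L122708 (flp_a L174129)
theorem L174226 : sm gb N21934 = N22300 := ded_15_3 L174222 (flp_b L151260) (flp_e L171664)
theorem L174228 : sm gf N16992 = N22301 := rfl
theorem L174230 : sm ga N22301 = N22300 := ded_11_1 (flp_f L174224) L174129 L174228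
theorem L174232 : sm ge N22301 = N16995 := ded_25_1 (flp_f L122724) (flp_e L122710) L174228
theorem L174234 : sm gg N22301 = N22288 := ded_29_3 L174121 (flp_f L122704) L122708 L174228
theorem L174236 : sm ga N16993 = N22302 := rfl
theorem L174238 : sm gc N22302 = N22096 := ded_8_2 L172789 L149770 L174236
theorem L174240 : sm gd N22302 = N16996 := ded_9_2 (flp_a L122732) (flp_d L122714) L174236
theorem L174242 : sm gf N22302 = N17009 := ded_11_2 (flp_a L122786) (flp_f L122716) L174236
theorem L174244 : sm gb N16995 = N22303 := rfl
theorem L174246 : sm gd N22303 = N17000 := ded_14_2 (flp_b L122744) (flp_d L122728) L174244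
theorem L174248 : sm gc N22303 = N22087 := ded_13_2 (flp_b L172727) (flp_c L172691) (flp_b L174210) L174206 L174244
theorem L174250 : sm gb N16996 = N22304 := rfl
theorem L174252 : sm gf N22304 = N17048 := ded_16_2 (flp_b L174154) L174156 (flp_b L122798) (flp_f L122734) L174250
theorem L174254 : sm ga N22304 = N17050 := ded_7_1 L122971 (flp_a L123772) L174162 (flp_a L174142) (flp_b L122672) L98200 L98220 L122732 L174250
theorem L174256 : sm gc N22304 = N18639 := ded_30_1 L146088 L112414 (flp_f L93735) (flp_c L92143) (flp_b L92141) L44379 (flp_f L75022) (flp_c L27263) (flp_b L13088) (flp_a L6446) (flp_f L6444) L13080 (flp_b L27235) (flp_a L85914) (flp_f L98365) (flp_c L98361) L98359 L122965 (flp_f L174252)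
theorem L174258 : sm gc N16996 = N22305 := rfl
theorem L174260 : sm ga N22305 = N16997 := ded_8_1 (flp_c L122736) L122732 L174258
theorem L174262 : sm gf N22305 = N17013 := ded_20_2 (flp_c L122800) (flp_f L122734) L174258
theorem L174264 : sm gg N22305 = N17162 := ded_21_2 L163754 L122822 L174258
theorem L174266 : sm gb N22305 = N20061 := ded_13_1 L158451 (flp_b L146088) (flp_c L174256) (flp_b L174250) L174258
theorem L174268 : sm gd N17164 = N22305 := ded_28_1 (flp_c L174258) (flp_d L174240) L174238 L172791 (flp_c L172827) (flp_d L173528) L173526 L123932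
theorem L174270 : sm gd N16997 = N22306 := rfl
theorem L174272 : sm ga N22306 = N17164 := ded_9_1 L174268 L174260 L174270
theorem L174274 : sm gf N22306 = N17015 := ded_23_2 (flp_d L122810) (flp_f L122738) L174270
theorem L174276 : sm gg N22306 = N17095 := ded_24_2 L171792 L171788 L174270
theorem L174278 : sm gc N22197 = N22306 := ded_28_0 (flp_d L174270) (flp_c L122736) (flp_d L122714) (flp_c L149770) L121873 (flp_c L121897) L163574 (flp_a L173526)
theorem L174280 : sm gc N17000 = N22307 := rfl
theorem L174282 : sm ga N22307 = N20507 := ded_8_1 (flp_c L161372) L172188 L174280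
theorem L174284 : sm gf N22307 = N18570 := ded_20_2 (flp_c L172182) L172184 L174280
theorem L174286 : sm gd N22307 = N18572 := ded_28_7 (flp_a L143757) L143759 L172743 (flp_c L172737) (flp_d L172729) (flp_c L174248) L174246 L174280
theorem L174288 : sm ga N17008 = N22308 := rfl
theorem L174290 : sm gc N22308 = N22093 := ded_8_2 (flp_a L172773) L149766 L174288
theorem L174292 : sm ge N22308 = N17009 := ded_10_2 (flp_a L122786) (flp_e L122784) L174288
theorem L174294 : sm gg N17008 = N22309 := rfl
theorem L174296 : sm gc N22309 = N22085 := ded_21_1 L172715 L149766 L174294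
theorem L174298 : sm ge N22309 = N17011 := ded_26_1 (flp_g L122792) (flp_e L122784) L174294
theorem L174300 : sm gb N22309 = N22009 := ded_17_1 (flp_g L172206) (flp_b L121472) L98260 L122782 L174294
theorem L174302 : sm gb N17009 = N22310 := rfl
theorem L174304 : sm gd N22310 = N17012 := ded_14_2 (flp_b L122798) (flp_d L122788) L174302
theorem L174306 : sm gg N17009 = N22311 := rfl
theorem L174308 : sm ga N22311 = N17011 := ded_12_1 (flp_g L122792) L122786 L174306
theorem L174310 : sm gc N22311 = N22088 := ded_21_1 L172735 L149768 L174306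
theorem L174312 : sm gd N22311 = N17014 := ded_24_1 (flp_g L122804) (flp_d L122788) L174306
theorem L174314 : sm gf N22311 = N21950 := ded_29_2 L171782 L174236 L174242 L174306
theorem L174316 : sm gb N21948 = N22311 := ded_14_3 L174312 L151250 (flp_d L171768)
theorem L174318 : sm gf N17011 = N22312 := rfl
theorem L174320 : sm ga N22312 = N21950 := ded_11_1 (flp_f L174314) L174308 L174318
theorem L174322 : sm gc N22312 = N21941 := ded_20_1 L171712 L149772 L174318
theorem L174324 : sm gd N22312 = N17017 := ded_23_1 (flp_f L122818) (flp_d L122794) L174318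
theorem L174326 : sm gg N22312 = N22302 := ded_29_3 (flp_a L174236) L122716 L122792 L174318
theorem L174328 : sm gb N17045 = N22312 := ded_7_0 L174320 (flp_b L171778) L120987 L121020 L150718 (flp_b L97459) (flp_a L85692) L98355 L122953
theorem L174330 : sm gc N17012 = N22313 := rfl
theorem L174332 : sm gb N17013 = N22314 := rfl
theorem L174334 : sm gf N22314 = N20067 := ded_16_2 (flp_b L158486) L158455 (flp_b L174266) L174262 L174332
theorem L174336 : sm gg N17013 = N22315 := rfl
theorem L174338 : sm ga N22315 = N17016 := ded_12_1 (flp_g L122814) (flp_a L122802) L174336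
theorem L174340 : sm gc N22315 = N17014 := ded_21_1 (flp_g L122804) L122800 L174336
theorem L174342 : sm gf N21951 = N22315 := ded_29_0 (flp_g L174336) (flp_f L174262) L174264 (flp_a L171786)
theorem L174344 : sm ge N17015 = N22316 := rfl
theorem L174346 : sm gb N22316 = N17022 := ded_15_1 (flp_e L122846) (flp_b L122812) L174344
theorem L174348 : sm gg N22316 = N21803 := ded_26_2 L170825 (flp_g L163548) L174344
theorem L174350 : sm gd N17018 = N22317 := rfl
theorem L174352 : sm gb N22317 = N21936 := ded_14_1 L171684 (flp_b L122836) L174350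
theorem L174354 : sm gf N22317 = N21913 := ded_23_2 L171502 (flp_f L122826) L174350
theorem L174356 : sm gg N22317 = N22045 := ded_24_2 (flp_d L172438) (flp_g L122828) L174350
theorem L174358 : sm gc N19175 = N22317 := ded_13_0 L174352 (flp_c L171678) L152282 L152278 L152294
theorem L174360 : sm gc N17020 = N22318 := rfl
theorem L174362 : sm ga N22318 = N17021 := ded_8_1 (flp_c L122844) (flp_a L122842) L174360
theorem L174364 : sm gf N22318 = N20571 := ded_20_2 L174066 L174062 L174360
theorem L174366 : sm gb N22318 = N17143 := ded_13_1 L123375 L98613 (flp_c L123063) L163997 L174360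
theorem L174368 : sm gd N20629 = N22318 := ded_28_1 (flp_c L174360) (flp_d L122840) (flp_c L98282) (flp_d L93609) L112180 (flp_d L157503) L157501 L162038
theorem L174370 : sm ge N17020 = N22319 := rfl
theorem L174372 : sm ga N22319 = N17022 := ded_10_1 (flp_e L122846) (flp_a L122842) L174370
theorem L174374 : sm gb N22319 = N21715 := ded_15_1 L170260 L163997 L174370
theorem L174376 : sm gb N17021 = N22320 := rfl
theorem L174378 : sm gf N22320 = N19880 := ded_16_2 (flp_b L157339) (flp_f L157313) (flp_b L174074) L174072 L174376
theorem L174380 : sm gd N17021 = N22321 := rfl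
theorem L174382 : sm ga N22321 = N20629 := ded_9_1 L174368 L174362 L174380
theorem L174384 : sm gg N22321 = N19899 := ded_24_2 (flp_d L163443) L163550 L174380
theorem L174386 : sm gc N19900 = N22321 := ded_28_0 (flp_d L174380) (flp_c L122844) (flp_d L98286) (flp_c L85658) (flp_d L46567) L93611 L112188 (flp_a L157501)
theorem L174388 : sm ge N19935 = N22321 := ded_10_0 L174382 L162040 (flp_a L157739)
theorem L174390 : sm ge N17021 = N22322 := rfl
theorem L174392 : sm gc N22322 = N17022 := ded_19_1 (flp_e L122846) L122844 L174390
theorem L174394 : sm gg N17022 = N22323 := rfl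
theorem L174396 : sm ge N22323 = N17023 := ded_26_1 (flp_g L122848) L122846 L174394
theorem L174398 : sm gb N22323 = N21813 := ded_17_1 (flp_g L170885) (flp_b L170827) (flp_g L174348) L174346 L174394
theorem L174400 : sm ga N17024 = N22324 := rfl
theorem L174402 : sm gc N22324 = N22024 := ded_8_2 (flp_a L172297) (flp_c L122854) L174400
theorem L174404 : sm gd N22324 = N17175 := ded_9_2 L123548 (flp_d L163546) L174400
theorem L174406 : sm gg N22324 = N20028 := ded_12_2 (flp_a L163791) L163625 L174400
theorem L174408 : sm gf N22324 = N17173 := ded_29_0 (flp_g L123534) L123530 L163625 L174400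
theorem L174410 : sm gb N22324 = N17267 := ded_7_2 (flp_a L124011) (flp_b L163405) (flp_a L172871) (flp_b L173288) L173282 L172547 L121735 L122852 L174400
theorem L174412 : sm gf N17024 = N22325 := rfl
theorem L174414 : sm ga N22325 = N17173 := ded_11_1 (flp_f L174408) (flp_a L174400) L174412
theorem L174416 : sm gc N22325 = N22018 := ded_20_1 L172265 (flp_c L122854) L174412
theorem L174418 : sm gd N22325 = N17169 := ded_23_1 L123544 (flp_d L163546) L174412
theorem L174420 : sm gg N22325 = N17167 := ded_29_3 L123510 L123530 L163625 L174412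
theorem L174422 : sm gb N22325 = N22065 := ded_16_1 L172559 (flp_b L161430) L111685 L122852 L174412
theorem L174424 : sm gf N17025 = N22326 := rfl
theorem L174426 : sm ga N22326 = N20632 := ded_11_1 (flp_f L162066) (flp_a L122858) L174424
theorem L174428 : sm gd N22326 = N17026 := ded_23_1 (flp_f L122863) L122856 L174424
theorem L174430 : sm ge N22326 = N17029 := ded_25_1 (flp_f L122878) (flp_e L122861) L174424
theorem L174432 : sm gg N22326 = N21089 := ded_29_3 (flp_a L166280) (flp_f L166274) (flp_g L166278) L174424
theorem L174434 : sm gb N17026 = N22327 := rfl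
theorem L174436 : sm ge N22327 = N17027 := ded_15_2 (flp_b L122871) (flp_e L122869) L174434
theorem L174438 : sm gf N22327 = N22327 := ded_16_2 (flp_b L174434) (flp_f L122863) L98296 L122863 L174434
theorem L174439 : sm ga N22327 = N18156 := ded_7_1 (flp_b L128562) L101771 L128557 L172942 (flp_b L172937) L121946 (flp_b L149075) (flp_a L122865) L174434
theorem L174441 : sm gc N17027 = N22328 := rfl
theorem L174443 : sm ga N22328 = N18172 := ded_8_1 (flp_c L128648) (flp_a L151177) L174441
theorem L174445 : sm gf N22328 = N22328 := ded_20_2 (flp_c L174441) L122875 L174441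
theorem L174446 : sm gb N22328 = N20623 := ded_13_1 (flp_c L161996) (flp_b L112119) (flp_c L98303) L122871 L174441
theorem L174448 : sm gd N17828 = N22328 := ded_14_0 L174446 L163832 (flp_b L126734)
theorem L174450 : sm gg N17826 = N22328 := ded_17_0 L174446 (flp_g L163756) L114716 (flp_g L100517) L126726
theorem L174452 : sm gg N17027 = N22329 := rfl
theorem L174454 : sm ga N22329 = N18173 := ded_12_1 (flp_g L128653) (flp_a L151177) L174452
theorem L174456 : sm gc N22329 = N17826 := ded_21_1 L174450 (flp_c L174441) L174452
theorem L174458 : sm gd N22329 = N17034 := ded_24_1 (flp_g L122905) (flp_d L122873) L174452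
theorem L174460 : sm gf N18173 = N22329 := ded_29_0 (flp_g L174452) L122875 L174452 L174454
theorem L174462 : sm gb N22329 = N22118 := ded_17_1 L172963 (flp_b L147687) L111789 L122871 L174452
theorem L174464 : sm gc N17030 = N22330 := rfl
theorem L174466 : sm ge N22330 = N17033 := ded_19_2 (flp_c L122900) (flp_e L122884) L174464
theorem L174468 : sm gf N22330 = N22330 := ded_20_2 (flp_c L174464) L122886 L174464
theorem L174469 : sm gb N22330 = N17037 := ded_13_1 (flp_c L122915) (flp_b L98327) (flp_c L98312) L122882 L174464
theorem L174471 : sm gg N17030 = N22331 := rfl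
theorem L174473 : sm ga N22331 = N22121 := ded_12_1 L172982 L154860 L174471
theorem L174475 : sm ge N22331 = N17034 := ded_26_1 (flp_g L122905) (flp_e L122884) L174471
theorem L174477 : sm gf N22121 = N22331 := ded_29_0 (flp_g L174471) L122886 L174471 L174473
theorem L174479 : sm gb N22120 = N22331 := ded_31_14 (flp_g L174471) L122886 (flp_b L122882) L122887 (flp_f L122895) (flp_b L149146) (flp_g L107135) L107127 (flp_b L121139) (flp_g L121980) (flp_f L121970) L121965 L121969 L172972
theorem L174481 : sm gb N17031 = N22332 := rfl
theorem L174483 : sm gd N22332 = N19533 := ded_14_2 L154876 (flp_d L149813) L174481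
theorem L174485 : sm ge N22332 = N17035 := ded_15_2 (flp_b L122907) (flp_e L122893) L174481
theorem L174487 : sm gf N22332 = N19529 := ded_16_2 (flp_b L154844) (flp_f L107172) L149146 L122895 L174481
theorem L174489 : sm gg N22332 = N22120 := ded_17_2 L174479 (flp_g L174471) (flp_b L122882) L122887 L174481
theorem L174491 : sm ga N22332 = N22120 := ded_7_1 L174479 L174473 (flp_b L172976) L121972 (flp_b L118905) (flp_a L96997) L118921 L149150 L174481
theorem L174493 : sm gc N17032 = N22333 := rfl
theorem L174495 : sm ga N22333 = N17033 := ded_8_1 (flp_c L122900) L122897 L174493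
theorem L174497 : sm gf N22333 = N22333 := ded_20_2 (flp_c L174493) L122899 L174493
theorem L174498 : sm gg N22333 = N22124 := ded_21_2 (flp_c L173006) (flp_g L150859) L174493
theorem L174500 : sm gb N22333 = N21055 := ded_13_1 L165989 (flp_b L148574) L128615 (flp_b L150854) L174493
theorem L174502 : sm gd N17251 = N22333 := ded_9_0 L174495 L149449 L123906
theorem L174504 : N22006 = N17251 := coi_14_0 L174502 L174500 L165991 L172177
theorem L174505 : N22006 = N17251 := eqc rfl L174504 rfl
theorem L174506 : sm gb N17251 = N16728 := trfs L174505 (flp_b L172177) rfl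
theorem L174509 : sm gb N21293 = N21851 := ded_15_3 L171144 L174506 (flp_e L167629)
theorem L174511 : sm gg N17033 = N22334 := rfl
theorem L174513 : sm ga N22334 = N22124 := ded_12_1 (flp_g L174498) L174495 L174511
theorem L174515 : sm gc N22334 = N17034 := ded_21_1 (flp_g L122905) L122900 L174511
theorem L174517 : sm gd N22334 = N17253 := ded_24_1 (flp_g L123912) (flp_d L149449) L174511
theorem L174519 : sm gf N22124 = N22334 := ded_29_0 (flp_g L174511) L122902 L174511 L174513
theorem L174521 : sm gc N17035 = N22335 := rfl
theorem L174523 : sm ga N22335 = N22123 := ded_8_1 L173002 L149802 L174521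
theorem L174525 : sm gf N22335 = N22122 := ded_20_2 (flp_c L172984) L149810 L174521
theorem L174527 : sm gg N22335 = N22123 := ded_21_2 L173002 (flp_g L149140) L174521
theorem L174529 : sm gb N22335 = N17046 := ded_13_1 (flp_c L122957) (flp_b L98355) (flp_c L98323) L122907 L174521
theorem L174531 : sm gd N22156 = N22335 := ded_9_0 L174523 L173004 (flp_a L173256)
theorem L174533 : sm gb N17036 = N22336 := rfl
theorem L174535 : sm ge N22336 = N17040 := ded_15_2 (flp_b L122929) (flp_e L122911) L174533
theorem L174537 : sm gb N17038 = N22337 := rfl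
theorem L174539 : sm ge N22337 = N17044 := ded_15_2 (flp_b L122947) (flp_e L122923) L174537
theorem L174541 : sm gg N22337 = N17039 := ded_17_2 (flp_b L122925) (flp_g L98333) L98327 L122921 L174537
theorem L174543 : sm ga N17039 = N22338 := rfl
theorem L174545 : sm ge N22338 = N17045 := ded_10_2 (flp_a L122953) (flp_e L122927) L174543
theorem L174547 : sm gc N17039 = N22339 := rfl
theorem L174549 : sm ge N22339 = N17046 := ded_19_2 (flp_c L122957) (flp_e L122927) L174547
theorem L174551 : sm gf N22129 = N22339 := ded_25_0 L174549 (flp_f L166013) (flp_e L173030)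
theorem L174553 : sm gf N17039 = N22340 := rfl
theorem L174555 : sm gc N22340 = N22129 := ded_20_1 L174551 (flp_c L174547) L174553
theorem L174557 : sm ge N22340 = N17047 := ded_25_1 (flp_f L122959) (flp_e L122927) L174553
theorem L174559 : sm gb N22340 = N22003 := ded_16_1 (flp_f L172147) L121400 L98339 L122925 L174553
theorem L174561 : sm gg N22128 = N22340 := ded_21_0 L174555 (flp_g L173028) L173024
theorem L174563 : sm ga N17040 = N22341 := rfl
theorem L174565 : sm gd N22341 = N17048 := ded_9_2 (flp_a L122965) (flp_d L122931) L174563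
theorem L174567 : sm gg N22303 = N22341 := ded_24_0 L174565 (flp_g L172190) (flp_d L174246)
theorem L174569 : sm gc N17040 = N22342 := rfl
theorem L174571 : sm gb N22342 = N22134 := ded_13_1 (flp_c L173064) (flp_b L122947) (flp_c L149430) L122929 L174569
theorem L174573 : sm gd N22342 = N22138 := ded_28_7 L173102 L171888 L143575 (flp_c L103443) (flp_d L123804) (flp_c L122967) (flp_d L122931) L174569
theorem L174575 : sm gg N22132 = N22342 := ded_17_0 L174571 L173062 (flp_b L174529) L174527 (flp_b L173048)
theorem L174577 : sm gf N17040 = N22343 := rfl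
theorem L174579 : sm gd N22343 = N17050 := ded_23_1 (flp_f L122969) (flp_d L122931) L174577
theorem L174581 : sm gb N22343 = N17215 := ded_16_1 (flp_f L123718) (flp_b L98808) (flp_f L98345) L122929 L174577
theorem L174583 : sm gg N17040 = N22344 := rfl
theorem L174585 : sm ga N22344 = N22303 := ded_12_1 L174567 (flp_a L174563) L174583
theorem L174587 : sm gc N22344 = N22132 := ded_21_1 L174575 (flp_c L174569) L174583
theorem L174589 : sm gd N22344 = N17051 := ded_24_1 (flp_g L122973) (flp_d L122931) L174583
theorem L174591 : sm gb N22344 = N22334 := ded_17_1 (flp_g L174511) L122903 L149444 L122929 L174583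
theorem L174593 : sm gf N22344 = N22131 := ded_30_4 (flp_c L173040) (flp_b L122048) (flp_a L97771) L97781 L118194 L122048 L173034 (flp_f L173038) (flp_c L174248) (flp_b L174244) L122726 (flp_f L122722) (flp_c L174112) L174118 L174110 L174202 L174206 L174244 (flp_a L174585)
theorem L174595 : sm gf N17045 = N22345 := rfl
theorem L174597 : sm ga N22345 = N17047 := ded_11_1 (flp_f L122959) L122953 L174595
theorem L174599 : sm gc N22345 = N22136 := ded_20_1 (flp_f L173084) L171762 L174595
theorem L174601 : sm gd N22345 = N17063 := ded_23_1 (flp_f L123017) (flp_d L122955) L174595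
theorem L174603 : sm gg N22345 = N21956 := ded_29_3 (flp_a L171830) (flp_f L173070) L173072 L174595
theorem L174605 : sm gb N22345 = N21955 := ded_16_1 (flp_f L171822) (flp_b L122796) L174318 (flp_b L174328) L174595
theorem L174607 : sm gc N17048 = N22346 := rfl
theorem L174609 : sm ga N22346 = N17049 := ded_8_1 (flp_c L122967) L122965 L174607
theorem L174611 : sm gf N22346 = N18639 := ded_20_2 (flp_c L174256) L174252 L174607
theorem L174613 : sm gg N22346 = N22307 := ded_21_2 (flp_c L174280) L172190 L174607
theorem L174615 : sm gd N18641 = N22346 := ded_9_0 L174609 L123804 (flp_a L143749)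
theorem L174617 : sm gb N20685 = N22346 := ded_16_5 L174611 L146088 (flp_f L112412) L112410 L162358
theorem L174619 : sm gf N17051 = N22347 := rfl
theorem L174621 : sm ga N22347 = N22007 := ded_11_1 L172184 (flp_a L172188) L174619
theorem L174623 : sm gd N22347 = N22131 := ded_23_1 (flp_f L174593) L174589 L174619
theorem L174625 : sm gg N22347 = N22304 := ded_29_3 L174254 (flp_f L122969) L122973 L174619
theorem L174627 : sm gb N22347 = N17058 := ded_31_2 L123003 L123017 (flp_b L150711) (flp_g L121036) L97197 (flp_b L97195) L97198 (flp_f L97204) L150626 (flp_g L85916) (flp_f L85700) L98359 L122973 L174619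
theorem L174629 : sm gd N17052 = N22348 := rfl
theorem L174631 : sm gb N22348 = N17053 := ded_14_1 (flp_d L122977) L122975 L174629
theorem L174633 : sm gf N22348 = N18615 := ded_23_2 L149305 L143671 L174629
theorem L174635 : sm gg N17052 = N22349 := rfl
theorem L174637 : sm gc N22349 = N22232 := ded_21_1 L173763 (flp_c L143613) L174635
theorem L174639 : sm gf N22349 = N20644 := ded_29_2 (flp_g L162798) (flp_a L143669) L143671 L174635
theorem L174641 : sm ge N17053 = N22350 := rfl
theorem L174643 : sm ga N22350 = N17055 := ded_10_1 (flp_e L122987) (flp_a L122979) L174641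
theorem L174645 : sm gf N22350 = N17239 := ded_25_2 (flp_e L123850) (flp_f L122981) L174641
theorem L174647 : sm gb N17054 = N22351 := rfl
theorem L174649 : sm gd N22351 = N17057 := ded_14_2 (flp_b L122997) (flp_d L149337) L174647
theorem L174651 : sm gc N22351 = N17077 := ded_13_2 (flp_b L123085) (flp_c L98419) (flp_b L98369) L122983 L174647
theorem L174653 : sm gg N22351 = N17081 := ded_17_2 (flp_b L123105) (flp_g L98427) (flp_b L98369) (flp_g L149339) L174647
theorem L174655 : sm ge N17054 = N22352 := rfl
theorem L174657 : sm gc N22352 = N17055 := ded_19_1 (flp_e L122987) L122983 L174655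
theorem L174659 : sm gf N22352 = N17246 := ded_25_2 (flp_e L123880) (flp_f L122985) L174655
theorem L174661 : sm gg N22352 = N17055 := ded_26_2 (flp_e L122987) (flp_g L149339) L174655
theorem L174663 : sm ga N17057 = N22353 := rfl
theorem L174665 : sm gg N22353 = N17082 := ded_12_2 (flp_a L123109) (flp_g L122999) L174663
theorem L174667 : sm gc N17057 = N22354 := rfl
theorem L174669 : sm gg N22354 = N17083 := ded_21_2 (flp_c L123111) (flp_g L122999) L174667
theorem L174671 : sm gb N22354 = N17059 := ded_13_1 (flp_c L123005) (flp_b L98377) (flp_c L98375) L122997 L174667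
theorem L174673 : sm gf N17057 = N22355 := rfl
theorem L174675 : sm gb N22355 = N20540 := ded_16_1 (flp_f L161537) L150220 L98860 L122997 L174673
theorem L174677 : sm gc N17058 = N22356 := rfl
theorem L174679 : sm ga N22356 = N17059 := ded_8_1 (flp_c L123005) L123001 L174677
theorem L174681 : sm gg N22356 = N17062 := ded_21_2 (flp_c L123013) (flp_g L123003) L174677
theorem L174683 : sm gd N17312 = N22356 := ded_28_1 (flp_c L174677) L173076 (flp_c L173066) L122054 L122110 L173174 L173176 (flp_c L150466)
theorem L174685 : sm gb N20089 = N22356 := ded_17_5 L174681 L163828 L99043 (flp_b L109751) L158636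
theorem L174687 : sm gd N17059 = N22357 := rfl
theorem L174689 : sm ga N22357 = N17312 := ded_9_1 L174683 L174679 L174687
theorem L174691 : sm gf N22357 = N22151 := ded_23_2 (flp_d L173196) (flp_f L161946) L174687
theorem L174693 : sm gg N22357 = N17064 := ded_24_2 (flp_d L123029) (flp_g L123007) L174687
theorem L174695 : sm gc N22149 = N22357 := ded_28_0 (flp_d L174687) (flp_c L123005) (flp_d L122949) L173064 L173058 L173164 (flp_d L173170) (flp_a L173176)
theorem L174697 : sm gf N17062 = N22358 := rfl
theorem L174699 : sm ga N22358 = N17065 := ded_11_1 (flp_f L123033) (flp_a L123015) L174697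
theorem L174701 : sm gc N22358 = N17063 := ded_20_1 (flp_f L123017) L123013 L174697
theorem L174703 : sm gd N22358 = N17311 := ded_23_1 (flp_f L124223) (flp_d L163830) L174697
theorem L174705 : sm gg N20612 = N22358 := ded_29_1 (flp_f L174697) (flp_g L174681) L174679 L161946
theorem L174707 : sm gc N17064 = N22359 := rfl
theorem L174709 : sm ga N22359 = N17303 := ded_8_1 L124185 (flp_a L163860) L174707
theorem L174711 : sm gg N22359 = N22149 := ded_21_2 L174695 L174693 L174707
theorem L174713 : sm gb N22359 = N20651 := ded_13_1 (flp_c L163716) L163760 (flp_c L123147) (flp_b L123031) L174707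
theorem L174715 : sm gd N22359 = N20650 := ded_28_7 (flp_a L173240) L173242 (flp_d L166017) (flp_c L122957) L98357 L98383 L123029 L174707
theorem L174717 : sm ge N20858 = N22359 := ded_10_0 L174709 (flp_e L142806) L164514
theorem L174719 : sm gf N17391 = N22359 := ded_11_0 L174709 (flp_f L173222) L173214
theorem L174721 : sm ge N17064 = N22360 := rfl
theorem L174723 : sm ga N22360 = N17310 := ded_10_1 (flp_e L124219) (flp_a L163860) L174721
theorem L174725 : sm gb N22360 = N17091 := ded_15_1 (flp_e L123149) (flp_b L123031) L174721
theorem L174727 : sm gc N22360 = N20858 := ded_19_1 L174717 (flp_c L174707) L174721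
theorem L174729 : sm gf N22360 = N20812 := ded_29_0 (flp_g L164131) L164123 (flp_g L164129) (flp_a L174723)
theorem L174731 : sm gf N17064 = N22361 := rfl
theorem L174733 : sm ga N22361 = N17311 := ded_11_1 (flp_f L124223) (flp_a L163860) L174731
theorem L174735 : sm gc N22361 = N17391 := ded_20_1 L174719 (flp_c L174707) L174731
theorem L174737 : sm gd N22361 = N17065 := ded_23_1 (flp_f L123033) L123029 L174731
theorem L174739 : sm ge N22361 = N20812 := ded_25_1 (flp_f L174729) (flp_e L174721) L174731
theorem L174741 : sm gg N22361 = N17384 := ded_29_3 (flp_a L173192) (flp_f L174691) L174693 L174731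
theorem L174743 : sm gb N20923 = N22361 := ded_30_2 L174733 (flp_f L124223) (flp_c L124185) (flp_b L124183) L142013 L94399 (flp_c L84081) (flp_b L23737) (flp_a L19635) L19637 (flp_c L23705) (flp_b L83974) (flp_a L148375) L94742 L94746 L114282 L165177 (flp_f L166102) (flp_c L166108)
theorem L174745 : sm gb N17065 = N22362 := rfl
theorem L174747 : sm gd N22362 = N20923 := ded_14_2 L174743 L174737 L174745
theorem L174749 : sm gc N22362 = N20053 := ded_13_2 L158403 L121343 (flp_b L98389) (flp_c L123035) L174745
theorem L174751 : sm gf N22362 = N17093 := ded_16_2 (flp_b L123155) (flp_f L98467) (flp_b L98385) L123033 L174745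
theorem L174753 : sm ga N20054 = N22362 := ded_9_3 L174747 (flp_a L166112) (flp_d L166118)
theorem L174755 : sm gg N20921 = N22362 := ded_24_0 L174747 (flp_g L165003) L164995
theorem L174757 : sm gg N17065 = N22363 := rfl
theorem L174759 : sm ga N22363 = N20612 := ded_12_1 L174705 L174699 L174757
theorem L174761 : sm gc N22363 = N17066 := ded_21_1 (flp_g L123037) (flp_c L123035) L174757
theorem L174763 : sm gd N22363 = N17384 := ded_24_1 (flp_g L174741) L174737 L174757
theorem L174765 : sm gf N22356 = N22363 := ded_29_0 (flp_g L174757) (flp_f L123033) (flp_g L123007) (flp_a L174679)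
theorem L174767 : sm gb N22363 = N17385 := ded_17_1 L142704 (flp_b L164997) L174755 (flp_b L174745) L174757
theorem L174769 : sm gb N17066 = N22364 := rfl
theorem L174771 : sm gd N22364 = N22124 := ded_14_2 L173008 (flp_d L166019) L174769
theorem L174773 : sm gf N22364 = N17253 := ded_16_2 L123914 L174619 L174627 L123041 L174769
theorem L174775 : sm gg N22364 = N17251 := ded_17_2 L174506 (flp_g L121412) (flp_b L98389) L123037 L174769
theorem L174777 : sm ga N22364 = N17253 := ded_7_1 L123914 L172188 (flp_b L122744) L98230 L151109 (flp_a L97200) L121038 L150732 L174769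
theorem L174779 : sm ga N17068 = N22365 := rfl
theorem L174781 : sm gc N22365 = N17072 := ded_8_2 (flp_a L123067) (flp_c L123051) L174779
theorem L174783 : sm gg N22108 = N22365 := ded_21_0 L174781 L173994 (flp_c L172879)
theorem L174785 : sm gd N17068 = N22366 := rfl
theorem L174787 : sm gb N22366 = N17069 := ded_14_1 (flp_d L123053) L123049 L174785
theorem L174789 : sm gc N22064 = N22366 := ded_13_0 L174787 (flp_c L164007) (flp_b L161306) (flp_c L161332) (flp_b L172553)
theorem L174791 : sm gg N22063 = N22366 := ded_17_0 L174787 L163999 (flp_b L122830) (flp_g L121737) (flp_b L172547)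
theorem L174793 : sm gf N22161 = N22366 := ded_31_1 L174787 L163999 (flp_f L122838) L123960 L123981 L124007 (flp_b L174410) L174406 (flp_f L163793) (flp_b L163844) L122158 (flp_f L122152) L122146 L173290
theorem L174795 : sm gf N17068 = N22367 := rfl
theorem L174797 : sm gc N22367 = N17074 := ded_20_1 (flp_f L123073) (flp_c L123051) L174795
theorem L174799 : sm gd N22367 = N22161 := ded_23_1 L174793 (flp_d L174785) L174795
theorem L174801 : sm gg N22367 = N22159 := ded_29_1 (flp_f L173278) L174783 (flp_a L174779) L174795
theorem L174803 : sm gg N17068 = N22368 := rfl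
theorem L174805 : sm ga N22368 = N22108 := ded_12_1 L174783 (flp_a L174779) L174803
theorem L174807 : sm gc N22368 = N17075 := ded_21_1 (flp_g L123077) (flp_c L123051) L174803
theorem L174809 : sm gd N22368 = N22063 := ded_24_1 L174791 (flp_d L174785) L174803
theorem L174811 : sm gb N22368 = N22070 := ded_17_1 L172595 (flp_b L163997) (flp_g L123059) L123049 L174803
theorem L174813 : sm ge N17069 = N22369 := rfl
theorem L174815 : sm gc N22369 = N21606 := ded_19_1 L169557 L164007 L174813
theorem L174817 : sm gf N22369 = N21589 := ded_25_2 L169465 L164003 L174813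
theorem L174819 : sm gg N22369 = N21672 := ded_26_2 L169984 (flp_g L163999) L174813
theorem L174821 : sm gb N17070 = N22370 := rfl
theorem L174823 : sm gd N22370 = N22204 := ded_14_2 (flp_b L173586) (flp_d L163989) L174821
theorem L174825 : sm gc N22370 = N17107 := ded_13_2 (flp_b L123217) L98521 (flp_b L98403) (flp_c L123057) L174821
theorem L174827 : sm gg N22370 = N17107 := ded_17_2 (flp_b L123217) (flp_g L163923) (flp_b L122300) L163939 L174821
theorem L174829 : sm ga N22370 = N22370 := ded_7_1 (flp_b L174821) (flp_a L158055) (flp_b L158051) L109301 L92014 (flp_a L109301) L158051 L158055 L174821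
theorem L174830 : sm gd N17072 = N22371 := rfl
theorem L174832 : sm ga N22371 = N17073 := ded_9_1 (flp_d L123069) L123067 L174830
theorem L174834 : sm gb N22371 = N22269 := ded_14_1 L173960 L173990 L174830
theorem L174836 : sm gg N22371 = N22270 := ded_24_2 L173964 (flp_g L173994) L174830
theorem L174838 : sm gf N17072 = N22372 := rfl
theorem L174840 : sm ga N22372 = N17074 := ded_11_1 (flp_f L123073) L123067 L174838
theorem L174842 : sm gc N17073 = N22373 := rfl
theorem L174844 : sm ge N17073 = N22374 := rfl
theorem L174846 : sm gb N22374 = N17076 := ded_15_1 (flp_e L123079) (flp_b L123071) L174844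
theorem L174848 : sm gf N17073 = N22375 := rfl
theorem L174850 : sm gd N22375 = N17074 := ded_23_1 (flp_f L123073) L123069 L174848
theorem L174852 : sm gb N22375 = N17117 := ded_16_1 (flp_f L123257) L98549 (flp_f L98417) (flp_b L123071) L174848
theorem L174854 : sm gg N17073 = N22376 := rfl
theorem L174856 : sm ga N22376 = N22270 := ded_12_1 (flp_g L174836) L174832 L174854
theorem L174858 : sm gd N22376 = N17075 := ded_24_1 (flp_g L123077) L123069 L174854
theorem L174860 : sm gf N17075 = N22377 := rfl
theorem L174862 : sm ga N22377 = N22277 := ded_11_1 (flp_f L174024) L173998 L174860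
theorem L174864 : sm gg N22377 = N22372 := ded_29_3 L174840 (flp_f L123073) L123077 L174860
theorem L174866 : sm ga N17077 = N22378 := rfl
theorem L174868 : sm ge N17077 = N22379 := rfl
theorem L174870 : sm gb N22379 = N17078 := ded_15_1 (flp_e L123087) L123085 L174868
theorem L174872 : sm gf N17077 = N22380 := rfl
theorem L174874 : sm gb N22380 = N17130 := ded_16_1 (flp_f L123313) (flp_b L98571) (flp_f L98421) L123085 L174872
theorem L174876 : sm gg N17077 = N22381 := rfl
theorem L174878 : sm gc N22381 = N17081 := ded_21_1 (flp_g L174653) L174651 L174876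
theorem L174880 : sm gd N17078 = N22382 := rfl
theorem L174882 : sm gf N22382 = N17132 := ded_23_2 (flp_d L123321) (flp_f L123091) L174880
theorem L174884 : sm gg N17078 = N22383 := rfl
theorem L174886 : sm gc N22383 = N17080 := ded_21_1 (flp_g L123101) (flp_c L123089) L174884
theorem L174888 : sm ge N22383 = N17079 := ded_26_1 (flp_g L123093) L123087 L174884
theorem L174890 : sm gf N22176 = N22383 := ded_29_0 (flp_g L174884) L123091 L123323 (flp_a L173373)
theorem L174892 : sm gb N17079 = N22384 := rfl
theorem L174894 : sm gd N22384 = N22179 := ded_14_2 (flp_b L173389) (flp_d L123097) L174892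
theorem L174896 : sm gb N17080 = N22385 := rfl
theorem L174898 : sm ge N22385 = N17081 := ded_15_2 (flp_b L123105) (flp_e L123103) L174896
theorem L174900 : sm ga N17081 = N22386 := rfl
theorem L174902 : sm gd N22386 = N17082 := ded_9_2 (flp_a L123109) (flp_d L123107) L174900
theorem L174904 : sm gf N17081 = N22387 := rfl
theorem L174906 : sm gd N22387 = N17084 := ded_23_1 (flp_f L123115) (flp_d L123107) L174904
theorem L174908 : sm gb N22387 = N18588 := ded_16_1 (flp_f L143401) (flp_b L151356) L98565 L123105 L174904
theorem L174910 : sm gb N17082 = N22388 := rfl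
theorem L174912 : sm gc N17082 = N22389 := rfl
theorem L174914 : sm ga N22389 = N17083 := ded_8_1 (flp_c L123111) L123109 L174912
theorem L174916 : sm gf N17082 = N22390 := rfl
theorem L174918 : sm ga N22390 = N17084 := ded_11_1 (flp_f L123115) L123109 L174916
theorem L174920 : sm gg N22355 = N22390 := ded_29_1 (flp_f L174916) (flp_g L174665) (flp_a L174663) L174673
theorem L174922 : sm gc N22390 = N20799 := ded_30_1 L164037 L133651 L124606 L124323 (flp_b L126356) L163505 (flp_f L161382) (flp_c L111655) (flp_b L93261) (flp_a L46525) (flp_f L46523) L22379 (flp_b L12938) (flp_a L26919) L26923 (flp_c L85728) L98431 L123109 L174916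
theorem L174924 : sm gf N22389 = N20799 := ded_20_2 (flp_c L174922) (flp_f L174916) L174912
theorem L174926 : sm gd N20800 = N22389 := ded_23_3 L174924 (flp_d L164035) L164039
theorem L174928 : sm gd N17083 = N22391 := rfl
theorem L174930 : sm ga N22391 = N20800 := ded_9_1 L174926 L174914 L174928
theorem L174932 : sm gb N22391 = N17086 := ded_14_1 (flp_d L123125) (flp_b L123113) L174928
theorem L174934 : sm gc N20798 = N22391 := ded_8_0 L174930 L164041 (flp_a L164027)
theorem L174936 : sm ge N20803 = N22391 := ded_10_0 L174930 L164043 (flp_a L164071)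
theorem L174938 : sm gf N20797 = N22391 := ded_11_0 L174930 (flp_f L164039) (flp_a L164021)
theorem L174940 : sm gf N17083 = N22392 := rfl
theorem L174942 : sm ga N22392 = N20799 := ded_11_1 (flp_f L174924) L174914 L174940
theorem L174944 : sm gc N22392 = N17084 := ded_20_1 (flp_f L123115) L123111 L174940
theorem L174946 : sm gd N22392 = N20797 := ded_23_1 L174938 (flp_d L174928) L174940
theorem L174948 : sm gb N20607 = N22392 := ded_7_0 L174942 L164037 L133651 (flp_b L174767) L174759 (flp_b L161942) L112054 (flp_b L112046) (flp_a L161920)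
theorem L174950 : sm gg N17084 = N22393 := rfl
theorem L174952 : sm ga N22393 = N22355 := ded_12_1 L174920 L174918 L174950
theorem L174954 : sm gf N22353 = N22393 := ded_29_0 (flp_g L174950) (flp_f L123115) (flp_g L122999) L174663
theorem L174956 : sm gb N20558 = N22393 := ded_31_14 (flp_g L174950) (flp_f L123115) (flp_b L98431) (flp_g L85726) L26901 L12932 L80573 (flp_f L10847) (flp_b L10793) (flp_g L22347) L46453 L93347 L111805 L161639
theorem L174958 : sm gb N20010 = N22353 := ded_16_5 L174954 (flp_b L174956) (flp_f L161639) (flp_b L112168) (flp_f L158163)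
theorem L174960 : sm gg N22388 = N20007 := ded_17_4 L158151 L158159 L174958 L174665 L174910
theorem L174962 : sm gc N20008 = N22388 := ded_21_3 L174960 (flp_c L158149) L158153
theorem L174964 : sm gd N17085 = N22394 := rfl
theorem L174966 : sm ga N22394 = N17086 := ded_9_1 (flp_d L123125) (flp_a L123119) L174964
theorem L174968 : sm gb N22394 = N19885 := ded_14_1 L157361 (flp_b L123123) L174964
theorem L174970 : sm gf N22394 = N20981 := ded_23_2 L165412 (flp_f L123165) L174964
theorem L174972 : sm gg N22394 = N17088 := ded_24_2 (flp_d L123133) (flp_g L123121) L174964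
theorem L174974 : sm gc N20963 = N22394 := ded_28_0 (flp_d L174964) (flp_c L123117) L98435 L122498 L163746 (flp_c L114424) (flp_d L114400) L165282
theorem L174976 : sm ge N20973 = N22394 := ded_10_0 L174966 L163852 (flp_a L165354)
theorem L174978 : sm gb N17087 = N22395 := rfl
theorem L174980 : sm gd N22395 = N20978 := ded_14_2 L165386 (flp_d L163744) L174978
theorem L174982 : sm gc N22395 = N20603 := ded_13_2 (flp_b L161900) (flp_c L120756) (flp_b L98479) (flp_c L123131) L174978
theorem L174984 : sm gf N22395 = N20607 := ded_16_2 L174948 (flp_f L174940) L123113 L123129 L174978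
theorem L174986 : sm ga N22395 = N20604 := ded_30_3 L161904 (flp_c L112044) (flp_b L93518) L46525 (flp_f L46503) L46501 L46505 L93468 L111948 (flp_c L156026) (flp_b L156020) L107875 L97222 (flp_c L97232) L98439 (flp_a L98433) L98445 (flp_c L123131) L174978
theorem L174988 : sm ge N17088 = N22396 := rfl
theorem L174990 : sm ga N22396 = N17091 := ded_10_1 (flp_e L123149) (flp_a L123135) L174988
theorem L174992 : sm gb N22396 = N20578 := ded_15_1 L161729 (flp_b L123137) L174988
theorem L174994 : sm gc N22396 = N20970 := ded_19_1 L165334 L163649 L174988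
theorem L174996 : sm gg N22396 = N20973 := ded_26_2 L174976 L174972 L174988
theorem L174998 : sm gb N17089 = N22397 := rfl
theorem L175000 : sm gc N22397 = N20580 := ded_13_2 (flp_b L161739) L111859 (flp_b L98463) (flp_c L123143) L174998
theorem L175002 : sm gf N22397 = N20580 := ded_16_2 (flp_b L161739) (flp_f L111855) (flp_b L98453) L123139 L174998
theorem L175004 : sm ga N22397 = N22397 := ded_7_1 (flp_b L174998) L123141 L123155 (flp_a L156058) L155745 L156058 (flp_b L123155) (flp_a L123141) L174998
theorem L175005 : sm gf N17091 = N22398 := rfl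
theorem L175007 : sm gc N22398 = N20971 := ded_20_1 (flp_f L165342) L163840 L175005
theorem L175009 : sm ge N22398 = N17092 := ded_25_1 (flp_f L123151) L123149 L175005
theorem L175011 : sm gb N22398 = N20937 := ded_16_1 (flp_f L165070) (flp_b L164133) (flp_f L174729) L174725 L175005
theorem L175013 : sm gb N17092 = N22399 := rfl
theorem L175015 : sm gd N22399 = N17093 := ded_14_2 (flp_b L123155) (flp_d L123153) L175013
theorem L175017 : sm ge N22399 = N20937 := ded_15_2 (flp_b L175011) L175009 L175013
theorem L175019 : sm gf N22399 = N20923 := ded_16_2 L174743 (flp_f L174731) L123031 L123151 L175013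
theorem L175021 : sm ga N22399 = N20953 := ded_30_3 (flp_f L166116) (flp_c L166110) (flp_b L115152) L95213 (flp_f L95209) L146722 (flp_b L102950) (flp_a L148235) L148245 L102946 L103000 L142869 (flp_f L149013) (flp_c L114638) L114634 (flp_a L163695) L165426 L165420 L175013
theorem L175023 : sm gc N20952 = N22399 := ded_30_1 (flp_b L175013) (flp_a L165430) (flp_f L165436) (flp_c L163649) (flp_b L114634) (flp_a L94899) L94907 L147405 (flp_b L103000) (flp_a L88592) (flp_f L88590) (flp_c L88562) L102950 (flp_a L146731) L115070 L115074 L115152 L166096 L166102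
theorem L175025 : sm gg N17093 = N22400 := rfl
theorem L175027 : sm gc N22400 = N19865 := ded_21_1 L157261 (flp_c L123157) L175025
theorem L175029 : sm gb N17094 = N22401 := rfl
theorem L175031 : sm gc N22401 = N22196 := ded_13_2 (flp_b L173522) L122270 (flp_b L98477) (flp_c L123163) L175029
theorem L175033 : sm gf N17095 = N22402 := rfl
theorem L175035 : sm ga N22402 = N17163 := ded_11_1 (flp_f L123490) (flp_a L123971) L175033
theorem L175037 : sm gc N22402 = N22092 := ded_20_1 L172769 (flp_c L123169) L175033
theorem L175039 : sm gd N22402 = N22315 := ded_23_1 (flp_f L174342) (flp_d L171792) L175033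
theorem L175041 : sm gg N22402 = N22102 := ded_29_3 L172833 (flp_f L174274) L174276 L175033
theorem L175043 : sm gb N17097 = N22403 := rfl
theorem L175045 : sm gd N22403 = N22199 := ded_14_2 (flp_b L173542) L163975 L175043
theorem L175047 : sm gc N22403 = N19656 := ded_13_2 L155776 L120842 L98505 (flp_c L123179) L175043
theorem L175049 : sm ga N19657 = N22403 := ded_8_3 L175047 (flp_a L155774) L155778
theorem L175051 : sm gd N19648 = N19657 := ded_9_0 L175049 L175045 (flp_a L173546)
theorem L175053 : sm gf N17099 = N22404 := rfl
theorem L175055 : sm ga N22404 = N17101 := ded_11_1 (flp_f L123197) L123189 L175053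
theorem L175057 : sm gc N22404 = N17113 := ded_20_1 (flp_f L123243) (flp_c L123191) L175053
theorem L175059 : sm gd N22404 = N20045 := ded_23_1 (flp_f L158357) (flp_d L163866) L175053
theorem L175061 : sm gg N22404 = N22157 := ded_29_3 L173260 (flp_f L163995) L151826 L175053
theorem L175063 : sm gb N22404 = N20044 := ded_16_1 L158349 (flp_b L163653) (flp_f L123512) (flp_b L123979) L175053
theorem L175065 : sm ge N17100 = N22405 := rfl
theorem L175067 : sm ga N22405 = N21302 := ded_10_1 L167694 (flp_a L163874) L175065
theorem L175069 : sm gb N22405 = N17104 := ded_15_1 (flp_e L123207) (flp_b L123195) L175065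
theorem L175071 : sm gc N22405 = N20118 := ded_19_1 L158843 (flp_c L163879) L175065
theorem L175073 : sm gf N22405 = N21556 := ded_25_2 L169257 (flp_f L163881) L175065
theorem L175075 : sm gg N22405 = N20119 := ded_26_2 L158853 (flp_g L163883) L175065
theorem L175077 : sm gb N17101 = N22406 := rfl
theorem L175079 : sm gd N22406 = N22163 := ded_14_2 (flp_b L173302) L163969 L175077
theorem L175081 : sm gf N22406 = N17107 := ded_16_2 (flp_b L123217) (flp_f L98519) L98513 L123197 L175077
theorem L175083 : sm ga N22406 = N22406 := ded_7_1 (flp_b L175077) (flp_a L175055) L175063 L158345 L109510 (flp_a L158345) (flp_b L175063) L175055 L175077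
theorem L175084 : sm gb N17102 = N22407 := rfl
theorem L175086 : sm gd N22407 = N20481 := ded_14_2 L161194 (flp_d L163973) L175084
theorem L175088 : sm gc N22407 = N22059 := ded_13_2 (flp_b L173114) L173110 (flp_b L123269) (flp_c L123203) L175084
theorem L175090 : sm gg N22407 = N17109 := ded_17_2 (flp_b L123227) (flp_g L98523) L98513 L123201 L175084
theorem L175092 : sm ga N22407 = N22061 := ded_30_3 (flp_f L172533) (flp_c L121701) (flp_b L97587) (flp_a L93450) L97585 L97583 L97597 (flp_a L97917) (flp_f L93317) L93315 L111725 (flp_a L150926) L161579 L161583 L161557 (flp_a L123275) (flp_f L123273) (flp_c L123203) L175084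
theorem L175094 : sm gf N22058 = N22407 := ded_20_0 L175088 (flp_f L172523) L172519
theorem L175096 : sm ga N17109 = N22408 := rfl
theorem L175098 : sm gc N22408 = N22062 := ded_8_2 L172539 L172462 L175096
theorem L175100 : sm gd N22408 = N20020 := ded_9_2 L173540 L173534 L175096
theorem L175102 : sm gg N22408 = N22061 := ded_12_2 (flp_a L175092) L175090 L175096
theorem L175104 : sm gd N17110 = N22409 := rfl
theorem L175106 : sm gf N22409 = N19242 := ded_23_2 L152710 (flp_f L123231) L175104
theorem L175108 : sm gg N22409 = N17127 := ded_24_2 (flp_d L123301) (flp_g L123233) L175104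
theorem L175110 : sm gd N17111 = N22410 := rfl
theorem L175112 : sm ga N22410 = N17271 := ded_9_1 (flp_d L124025) (flp_a L123237) L175110
theorem L175114 : sm gb N22410 = N17112 := ded_14_1 (flp_d L123239) L123235 L175110
theorem L175116 : sm gf N17111 = N22411 := rfl
theorem L175118 : sm ga N22411 = N17272 := ded_11_1 (flp_f L124029) (flp_a L123237) L175116
theorem L175120 : sm gc N22411 = N17180 := ded_20_1 (flp_f L123568) (flp_c L123975) L175116
theorem L175122 : sm ge N17112 = N22412 := rfl
theorem L175124 : sm ga N22412 = N17116 := ded_10_1 (flp_e L123253) (flp_a L123241) L175122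
theorem L175126 : sm gf N17112 = N22413 := rfl
theorem L175128 : sm ga N22413 = N17117 := ded_11_1 (flp_f L123257) (flp_a L123241) L175126
theorem L175130 : sm gc N22413 = N22409 := ded_20_1 L175106 L163953 L175126
theorem L175132 : sm gd N22413 = N17113 := ded_23_1 (flp_f L123243) L123239 L175126
theorem L175134 : sm gb N17113 = N22414 := rfl
theorem L175136 : sm ga N22414 = N19083 := ded_30_3 (flp_f L158119) (flp_c L162006) (flp_b L162004) (flp_a L112123) (flp_f L112109) (flp_c L112137) (flp_b L122520) L122516 (flp_f L120844) L120842 L98505 L98499 (flp_f L85752) L85750 L98513 L123189 L175053 L175057 L175134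
theorem L175138 : sm gd N19084 = N22414 := ded_9_0 L175136 L151726 L151728
theorem L175140 : sm gb N22413 = N19084 := ded_14_3 L175138 (flp_b L175134) (flp_d L175132)
theorem L175142 : sm ge N17115 = N22415 := rfl
theorem L175144 : sm gc N22415 = N17116 := ded_19_1 (flp_e L123253) L123251 L175142

end Cfsg.Agent.Helper28.SzbA
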