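import Cfsg.Agent.Helper28.SzbB15

/-! # The Suzuki group presentation, cosets of the subgroup generated by a, b, c, d, f, g: the coset enumeration, part 16 (helper28; generated) -/

set_option autoImplicit false

noncomputable section

namespace Cfsg.Agent.Helper28.SzbA

open Cfsg.Agent.Helper28.CosetTable

theorem L175146 : sm gf N17115 = N22416 := rfl
theorem L175148 : sm ga N22416 = N22409 := ded_11_1 L175106 (flp_a L163957) L175146
theorem L175150 : sm gc N22416 = N17117 := ded_20_1 (flp_f L123257) L123251 L175146
theorem L175152 : sm gd N22416 = N17187 := ded_23_1 (flp_f L161649) (flp_d L163955) L175146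
theorem L175154 : sm gg N22416 = N21932 := ded_29_3 L171646 (flp_f L171628) L171630 L175146
theorem L175156 : sm gb N17185 = N22416 := ded_14_3 L175152 (flp_b L123594) (flp_d L123590)
theorem L175158 : sm gf N17116 = N22417 := rfl
theorem L175160 : sm ge N22417 = N17117 := ded_25_1 (flp_f L123257) L123253 L175158
theorem L175162 : sm gg N17116 = N22418 := rfl
theorem L175164 : sm ge N22418 = N17118 := ded_26_1 (flp_g L123261) L123253 L175162
theorem L175166 : sm gg N17117 = N22419 := rfl
theorem L175168 : sm gc N22419 = N21932 := ded_21_1 (flp_g L175154) L175150 L175166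
theorem L175170 : sm gd N22419 = N17119 := ded_24_1 (flp_g L123265) (flp_d L123259) L175166
theorem L175172 : sm gf N21930 = N22419 := ded_29_0 (flp_g L175166) (flp_f L123257) L123261 (flp_a L171636)
theorem L175174 : sm gf N17118 = N22420 := rfl
theorem L175176 : sm ga N22420 = N22419 := ded_11_1 (flp_f L175172) L171636 L175174
theorem L175178 : sm gc N22420 = N17127 := ded_20_1 (flp_f L171628) L171632 L175174
theorem L175180 : sm gd N22420 = N17121 := ded_23_1 (flp_f L123273) (flp_d L123263) L175174
theorem L175182 : sm gg N22420 = N22413 := ded_29_3 L175128 (flp_f L123257) L123261 L175174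
theorem L175184 : sm gb N19942 = N22420 := ded_14_3 L175180 L173266 (flp_d L158337)
theorem L175186 : sm gf N17120 = N22421 := rfl
theorem L175188 : sm gd N22421 = N18592 := ded_23_1 (flp_f L143477) (flp_d L151397) L175186
theorem L175190 : sm gg N22421 = N18591 := ded_29_3 L151258 (flp_f L123297) (flp_g L123271) L175186
theorem L175192 : sm gd N17125 = N22422 := rfl
theorem L175194 : sm ga N22422 = N18573 := ded_9_1 (flp_d L151238) L151383 L175192
theorem L175196 : sm gb N22422 = N17127 := ded_14_1 (flp_d L123301) (flp_b L123295) L175192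
theorem L175198 : sm gc N18542 = N22422 := ded_28_0 (flp_d L175192) (flp_c L123293) (flp_d L151354) (flp_c L103282) (flp_d L103160) L163326 (flp_d L159807) (flp_a L163455)
theorem L175200 : sm gg N17126 = N22423 := rfl
theorem L175202 : sm ga N22423 = N22421 := ded_12_1 L175190 L151258 L175200
theorem L175204 : sm gc N22423 = N22141 := ded_21_1 (flp_g L173124) (flp_c L161916) L175200
theorem L175206 : sm gd N22423 = N18577 := ded_24_1 L143407 (flp_d L151339) L175200
theorem L175208 : sm gf N18576 = N22423 := ded_29_0 (flp_g L175200) (flp_f L123297) (flp_g L123271) (flp_a L151387)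
theorem L175210 : sm gb N22423 = N19870 := ded_17_1 (flp_g L161643) L174956 (flp_g L174950) (flp_b L123299) L175200
theorem L175212 : sm ge N17127 = N22424 := rfl
theorem L175214 : sm gb N17128 = N22425 := rfl
theorem L175216 : sm ge N17128 = N22426 := rfl
theorem L175218 : sm ga N22426 = N17129 := ded_10_1 (flp_e L123307) L123303 L175216
theorem L175220 : sm gc N22426 = N17291 := ded_19_1 (flp_e L124111) (flp_c L123305) L175216
theorem L175222 : sm gf N17128 = N22427 := rfl
theorem L175224 : sm ga N22427 = N17130 := ded_11_1 (flp_f L123313) L123303 L175222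
theorem L175226 : sm gc N22427 = N17292 := ded_20_1 (flp_f L124115) (flp_c L123305) L175222
theorem L175228 : sm gg N17128 = N22428 := rfl
theorem L175230 : sm ga N22428 = N17131 := ded_12_1 (flp_g L123317) L123303 L175228
theorem L175232 : sm gc N22428 = N17293 := ded_21_1 (flp_g L124119) (flp_c L123305) L175228
theorem L175234 : sm gd N17129 = N22429 := rfl
theorem L175236 : sm gb N22429 = N17132 := ded_14_1 (flp_d L123321) (flp_b L123309) L175234
theorem L175238 : sm gf N17129 = N22430 := rfl
theorem L175240 : sm gc N22430 = N17295 := ded_20_1 (flp_f L124127) (flp_c L123311) L175238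
theorem L175242 : sm ge N22430 = N17130 := ded_25_1 (flp_f L123313) L123307 L175238
theorem L175244 : sm gg N17129 = N22431 := rfl
theorem L175246 : sm gc N22431 = N17296 := ded_21_1 (flp_g L124131) (flp_c L123311) L175244
theorem L175248 : sm ge N22431 = N17131 := ded_26_1 (flp_g L123317) L123307 L175244
theorem L175250 : sm gg N17130 = N22432 := rfl
theorem L175252 : sm gc N22432 = N17297 := ded_21_1 (flp_g L124135) (flp_c L123315) L175250
theorem L175254 : sm gf N22428 = N22432 := ded_29_0 (flp_g L175250) (flp_f L123313) L123317 (flp_a L175230)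
theorem L175256 : sm gf N17131 = N22433 := rfl
theorem L175258 : sm ga N22433 = N22432 := ded_11_1 (flp_f L175254) L175230 L175256
theorem L175260 : sm gc N22433 = N17298 := ded_20_1 (flp_f L124139) (flp_c L123319) L175256
theorem L175262 : sm gg N22433 = N22427 := ded_29_3 L175224 (flp_f L123313) L123317 L175256
theorem L175264 : sm gc N17132 = N22434 := rfl
theorem L175266 : sm gg N17132 = N22435 := rfl
theorem L175268 : sm gd N22435 = N17133 := ded_24_1 (flp_g L123323) L123321 L175266
theorem L175270 : sm gf N17133 = N22436 := rfl
theorem L175272 : sm ga N22436 = N22383 := ded_11_1 (flp_f L174890) L173373 L175270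
theorem L175274 : sm gc N22436 = N17136 := ded_20_1 (flp_f L123341) (flp_c L123325) L175270
theorem L175276 : sm ge N22436 = N17135 := ded_25_1 (flp_f L123331) (flp_e L123327) L175270
theorem L175278 : sm gg N22436 = N22249 := ded_29_3 L173847 L123091 L123323 L175270
theorem L175280 : sm gb N17135 = N22437 := rfl
theorem L175282 : sm gd N22437 = N22253 := ded_14_2 (flp_b L173869) (flp_d L123337) L175280
theorem L175284 : sm gb N17136 = N22438 := rfl
theorem L175286 : sm ge N22438 = N17137 := ded_15_2 (flp_b L123349) (flp_e L123345) L175284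
theorem L175288 : sm ga N17137 = N22439 := rfl
theorem L175290 : sm gd N22439 = N17138 := ded_9_2 (flp_a L123353) (flp_d L123351) L175288
theorem L175292 : sm gf N22439 = N19181 := ded_11_2 L162800 L162472 L175288
theorem L175294 : sm gb N19177 = N22439 := ded_14_3 L175290 L162794 L155266
theorem L175296 : sm gc N17137 = N22440 := rfl
theorem L175298 : sm gg N17137 = N22441 := rfl
theorem L175300 : sm gd N22441 = N17140 := ded_24_1 (flp_g L123359) (flp_d L123351) L175298
theorem L175302 : sm gb N22441 = N22376 := ded_17_1 (flp_g L174854) L123071 (flp_g L98593) L123349 L175298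
theorem L175304 : sm gc N17138 = N22442 := rfl
theorem L175306 : sm ga N22442 = N17139 := ded_8_1 (flp_c L123355) L123353 L175304
theorem L175308 : sm gb N22442 = N19613 := ded_13_1 L155451 L107587 (flp_c L155264) (flp_b L162794) L175304
theorem L175310 : sm gg N17138 = N22443 := rfl
theorem L175312 : sm ga N22443 = N17140 := ded_12_1 (flp_g L123359) L123353 L175310
theorem L175314 : sm gf N22443 = N20760 := ded_29_2 (flp_g L162810) L162786 L162788 L175310
theorem L175316 : sm gd N17139 = N22444 := rfl
theorem L175318 : sm gb N22444 = N17142 := ded_14_1 (flp_d L123369) (flp_b L123357) L175316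
theorem L175320 : sm ge N20886 = N22444 := ded_15_0 L175318 L163584 L164721
theorem L175322 : sm gg N17139 = N22445 := rfl
theorem L175324 : sm gc N22445 = N17140 := ded_21_1 (flp_g L123359) L123355 L175322
theorem L175326 : sm gf N17140 = N22446 := rfl
theorem L175328 : sm ga N22446 = N20760 := ded_11_1 (flp_f L175314) L175312 L175326
theorem L175330 : sm gg N22446 = N20758 := ded_29_3 (flp_a L162786) L112790 L123359 L175326
theorem L175332 : sm gb N17141 = N22447 := rfl
theorem L175334 : sm gd N22447 = N20783 := ded_14_2 L163039 L163499 L175332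
theorem L175336 : sm gc N22447 = N22355 := ded_13_2 L174675 L161533 (flp_b L111745) L123363 L175332
theorem L175338 : sm gf N22447 = N22354 := ded_16_2 L174671 L161946 (flp_b L161942) (flp_f L123367) L175332
theorem L175340 : sm gg N22447 = N20799 := ded_17_2 L164037 L113190 (flp_b L113973) L163598 L175332
theorem L175342 : sm gg N17144 = N22448 := rfl
theorem L175344 : sm gd N22448 = N18337 := ded_24_1 L129789 (flp_d L129671) L175342
theorem L175346 : sm ge N22448 = N17147 := ded_26_1 (flp_g L123398) (flp_e L123381) L175342
theorem L175348 : sm gf N22448 = N18336 := ded_29_2 (flp_g L129779) (flp_a L129747) L129751 L175342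
theorem L175350 : sm gg N17146 = N22449 := rfl
theorem L175352 : sm ga N22449 = N17147 := ded_12_1 (flp_g L123398) L123393 L175350
theorem L175354 : sm gd N22449 = N17148 := ded_24_1 (flp_g L123402) (flp_d L123395) L175350
theorem L175356 : sm gf N22449 = N21939 := ded_29_2 (flp_g L171694) (flp_a L129769) L129775 L175350
theorem L175358 : sm gf N17147 = N22450 := rfl
theorem L175360 : sm ga N22450 = N21939 := ded_11_1 (flp_f L175356) L175352 L175358
theorem L175362 : sm gc N22450 = N22449 := ded_20_1 L175356 L171696 L175358
theorem L175364 : sm gd N22450 = N17151 := ded_23_1 (flp_f L123422) (flp_d L123400) L175358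
theorem L175366 : sm ge N22450 = N18336 := ded_25_1 (flp_f L175348) L175346 L175358
theorem L175368 : sm gg N22450 = N18335 := ded_29_3 L129769 L120856 L123398 L175358
theorem L175370 : sm gb N22450 = N21957 := ded_31_2 (flp_g L171834) (flp_f L121076) L114873 L165816 L165822 (flp_b L122068) (flp_g L122064) (flp_f L122056) (flp_b L122052) (flp_g L118192) L118190 L98631 L123398 L175358
theorem L175372 : sm gd N17154 = N22451 := rfl
theorem L175374 : sm ga N22451 = N20453 := ded_9_1 L161010 L123452 L175372
theorem L175376 : sm gf N22451 = N20444 := ded_23_2 L160962 (flp_f L123448) L175372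
theorem L175378 : sm ge N22451 = N20445 := ded_22_2 L160968 L111315 (flp_d L118200) L123444 L175372
theorem L175380 : sm gg N17155 = N22452 := rfl
theorem L175382 : sm ga N22452 = N22144 := ded_12_1 L173146 (flp_a L123452) L175380
theorem L175384 : sm gc N22452 = N22142 := ded_21_1 L173130 (flp_c L123454) L175380
theorem L175386 : sm ge N22452 = N17156 := ded_26_1 (flp_g L123460) (flp_e L123456) L175380
theorem L175388 : sm gf N22142 = N22452 := ded_29_0 (flp_g L175380) (flp_f L123450) (flp_g L122100) (flp_a L173128)
theorem L175390 : sm gb N17156 = N22453 := rfl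
theorem L175392 : sm gd N22453 = N17157 := ded_14_2 (flp_b L123470) (flp_d L123466) L175390
theorem L175394 : sm gg N22453 = N20673 := ded_17_2 (flp_b L162305) (flp_g L112364) (flp_b L98693) L123460 L175390
theorem L175396 : sm ga N17157 = N22454 := rfl
theorem L175398 : sm gg N22454 = N20677 := ded_12_2 (flp_a L162333) (flp_g L123472) L175396
theorem L175400 : sm gc N17157 = N22455 := rfl
theorem L175402 : sm gg N22455 = N20678 := ded_21_2 (flp_c L162335) (flp_g L123472) L175400
theorem L175404 : sm gb N22455 = N17159 := ded_13_1 (flp_c L123477) (flp_b L98703) (flp_c L98699) L123470 L175400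
theorem L175406 : sm gf N17157 = N22456 := rfl
theorem L175408 : sm gb N22456 = N22141 := ded_16_1 (flp_f L173122) (flp_b L122080) L98701 L123470 L175406
theorem L175410 : sm gc N17158 = N22457 := rfl
theorem L175412 : sm ga N22457 = N17159 := ded_8_1 (flp_c L123477) L123474 L175410
theorem L175414 : sm gg N22457 = N22457 := ded_21_2 (flp_c L175410) L123476 L175410
theorem L175415 : sm gd N17159 = N22458 := rfl
theorem L175417 : sm gg N22458 = N22458 := ded_24_2 (flp_d L175415) L123479 L175415
theorem L175418 : sm gf N17159 = N22459 := rfl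
theorem L175420 : sm gc N22459 = N17160 := ded_20_1 (flp_f L123480) L123477 L175418
theorem L175422 : sm gb N20554 = N22459 := ded_13_5 L175420 L123482 (flp_c L161623) (flp_b L161609) L161611
theorem L175424 : sm ge N17162 = N22460 := rfl
theorem L175426 : sm gb N22460 = N17165 := ded_15_1 (flp_e L123498) (flp_b L123488) L175424
theorem L175428 : sm gc N22460 = N21670 := ded_19_1 L169966 (flp_c L163754) L175424
theorem L175430 : sm gf N22460 = N21669 := ded_25_2 L169960 L163685 L175424
theorem L175432 : sm ge N17167 = N22461 := rfl
theorem L175434 : sm ga N22461 = N17171 := ded_10_1 (flp_e L123526) (flp_a L123510) L175432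
theorem L175436 : sm gb N22461 = N21302 := ded_15_1 L167694 L163844 L175432
theorem L175438 : sm gc N22461 = N21304 := ded_19_1 L167708 (flp_c L163842) L175432
theorem L175440 : sm gd N17170 = N22462 := rfl
theorem L175442 : sm ga N22462 = N22016 := ded_9_1 (flp_d L172249) L163864 L175440
theorem L175444 : sm ge N17170 = N22463 := rfl
theorem L175446 : sm ga N22463 = N21304 := ded_10_1 L167708 L163864 L175444
theorem L175448 : sm gc N22463 = N17171 := ded_19_1 (flp_e L123526) L123524 L175444
theorem L175450 : sm gg N17170 = N22464 := rfl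
theorem L175452 : sm ga N22464 = N22018 := ded_12_1 (flp_g L172263) L163864 L175450
theorem L175454 : sm gc N22464 = N17173 := ded_21_1 (flp_g L123534) L123524 L175450
theorem L175456 : sm gf N22024 = N22464 := ded_29_0 (flp_g L175450) (flp_f L172245) L172247 L172297
theorem L175458 : sm gc N19997 = N20657 := ded_30_5 (flp_b L162200) L112316 L121663 L121667 L120880 (flp_a L97152) (flp_f L97150) L85213 (flp_b L26761) (flp_a L85367) L85369 (flp_c L97488) L121543 L172297 L175456 L175454 L123538 (flp_a L157937) L158092
theorem L175460 : N20665 = N14764 := coi_21_0 L158086 L175458 L162204 L162252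
theorem L175461 : N20665 = N14764 := eqc rfl L175460 rfl
theorem L175463 : sm gc N14764 = N15328 := trfs L175461 (flp_c L162252) rfl
theorem L175464 : N15328 = N19995 := eqes L175463 (flp_c L158079)
theorem L175465 : N19995 = N15328 := (eqc rfl L175464 rfl).symm
theorem L175466 : sm gc N15328 = N14764 := trfs L175465 L158079 rfl
theorem L175468 : sm gf N15328 = N14762 := trfs L175465 (flp_f L158077) rfl
theorem L175469 : N14762 = N20666 := eqes L175468 L162255
theorem L175470 : N20666 = N14762 := (eqc rfl L175469 rfl).symm
theorem L175471 : sm gb N14762 = N20679 := trfs L175470 (flp_b L162340) rfl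
theorem L175472 : N20679 = N19992 := eqes L175471 L158063
theorem L175473 : N20679 = N19992 := eqc rfl L175472 rfl
theorem L175474 : sm gf N14762 = N15328 := trfs L175470 (flp_f L162255) rfl
theorem L175476 : sm gf N19992 = N15337 := trfs L175473 (flp_f L162338) rfl
theorem L175478 : sm gb N22077 = N19997 := ded_13_5 L175458 (flp_b L162200) L112318 L121768 L172644
theorem L175480 : sm gc N19990 = N20664 := ded_8_2 (flp_a L162250) L175466 (flp_a L158045)
theorem L175482 : sm gc N19996 = N20378 := ded_19_3 L160592 L175466 (flp_e L158083)
theorem L175484 : sm gf N20664 = N19988 := ded_11_2 L158035 L175474 L162250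
theorem L175486 : sm gf N20662 = N19993 := ded_23_2 (flp_d L158067) L175474 (flp_d L162238)
theorem L175488 : sm gf N20378 = N19994 := ded_25_2 (flp_e L158073) L175474 (flp_e L160592)
theorem L175490 : N20678 = N20065 := coi_20_2 (flp_f L158477) (flp_c L158065) L175476 L162335
theorem L175491 : N20678 = N20065 := eqc rfl L175490 rfl
theorem L175493 : sm gc N20065 = N15337 := trfs L175491 (flp_c L162335) rfl
theorem L175495 : sm gg N20065 = N22455 := trfs L175491 (flp_g L175402) rfl
theorem L175497 : sm gd N19998 = N22077 := ded_14_0 L175478 L158090 L158094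
theorem L175499 : sm gf N17171 = N22465 := rfl
theorem L175501 : sm ge N22465 = N17172 := ded_25_1 (flp_f L123530) L123526 L175499
theorem L175503 : sm gb N22465 = N21669 := ded_16_1 (flp_f L175430) L175426 L123502 (flp_b L123528) L175499
theorem L175505 : sm gg N21677 = N22465 := ded_26_0 L175501 L163625 (flp_e L170008)
theorem L175507 : sm gg N17171 = N22466 := rfl
theorem L175509 : sm ge N22466 = N17173 := ded_26_1 (flp_g L123534) L123526 L175507
theorem L175511 : sm gb N22466 = N19972 := ded_17_1 L157947 L109317 (flp_g L98740) (flp_b L123528) L175507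
theorem L175513 : sm ge N17176 = N22467 := rfl
theorem L175515 : sm gb N22467 = N17177 := ded_15_1 (flp_e L123556) L123554 L175513
theorem L175517 : sm gf N17176 = N22468 := rfl
theorem L175519 : sm gc N22468 = N21998 := ded_20_1 (flp_f L172113) L172067 L175517
theorem L175521 : sm gb N22468 = N22358 := ded_16_1 (flp_f L174697) L163828 L99041 L123554 L175517
theorem L175523 : sm gg N22000 = N22468 := ded_21_0 L175519 L172111 L172121
theorem L175525 : sm gg N17176 = N22469 := rfl
theorem L175527 : sm gb N22469 = N20066 := ded_17_1 (flp_g L158482) (flp_b L109575) (flp_g L98736) L123554 L175525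
theorem L175529 : sm gc N17179 = N22470 := rfl
theorem L175531 : sm ge N17179 = N22471 := rfl
theorem L175533 : sm gb N22471 = N17183 := ded_15_1 (flp_e L123576) (flp_b L123566) L175531
theorem L175535 : sm gf N17179 = N22472 := rfl
theorem L175537 : sm gd N22472 = N17180 := ded_23_1 (flp_f L123568) L123564 L175535
theorem L175539 : sm gb N22472 = N19267 := ded_16_1 L152860 (flp_b L146084) (flp_f L123580) (flp_b L123566) L175535
theorem L175541 : sm gg N17179 = N22473 := rfl
theorem L175543 : sm gd N22473 = N17181 := ded_24_1 (flp_g L123570) L123564 L175541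
theorem L175545 : sm gb N22473 = N21932 := ded_17_1 (flp_g L175154) (flp_b L175156) (flp_g L123586) (flp_b L123566) L175541
theorem L175547 : sm gb N17180 = N22474 := rfl
theorem L175549 : sm gd N22474 = N19267 := ded_14_2 (flp_b L175539) L175537 L175547
theorem L175551 : sm gf N22474 = N17186 := ded_16_2 (flp_b L123592) (flp_f L98748) L98742 L123568 L175547
theorem L175553 : sm ga N22474 = N19257 := ded_7_1 (flp_b L152792) L120595 L120569 (flp_a L158011) (flp_b L162036) L162030 L171504 (flp_a L171510) L175547
theorem L175555 : sm gg N22474 = N22056 := ded_31_3 (flp_f L172505) (flp_b L121693) (flp_g L97581) (flp_f L85402) L85396 L97562 L121663 (flp_b L121673) L120754 L120764 L151822 (flp_g L123570) L123568 L175547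
theorem L175557 : sm gc N20639 = N22474 := ded_8_0 L175553 L152796 L162122
theorem L175559 : sm gg N17180 = N22475 := rfl
theorem L175561 : sm gf N22211 = N22475 := ded_29_0 (flp_g L175559) (flp_f L123568) L123570 (flp_a L173633)
theorem L175563 : sm gb N22475 = N20588 := ded_17_1 L161784 (flp_b L172509) (flp_g L175555) (flp_b L175547) L175559
theorem L175565 : sm gf N17181 = N22476 := rfl
theorem L175567 : sm ga N22476 = N22475 := ded_11_1 (flp_f L175561) L173633 L175565
theorem L175569 : sm gg N22476 = N21914 := ded_29_3 (flp_a L171510) (flp_f L123568) L123570 L175565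
theorem L175571 : sm gb N22476 = N21910 := ded_16_1 (flp_f L171484) L120639 L120764 L151822 L175565
theorem L175573 : sm gb N17182 = N22477 := rfl
theorem L175575 : sm gd N17182 = N22478 := rfl
theorem L175577 : sm ga N22478 = N17188 := ded_9_1 (flp_d L123596) (flp_a L123574) L175575
theorem L175579 : sm gc N22462 = N22478 := ded_28_0 (flp_d L175575) (flp_c L123572) (flp_d L98744) (flp_c L98718) L123508 L163842 L172249 (flp_a L175442)
theorem L175581 : sm ge N17182 = N22479 := rfl
theorem L175583 : sm ga N22479 = N17189 := ded_10_1 (flp_e L123598) (flp_a L123574) L175581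
theorem L175585 : sm gc N22479 = N17183 := ded_19_1 (flp_e L123576) L123572 L175581
theorem L175587 : sm gg N17182 = N22480 := rfl
theorem L175589 : sm ga N22480 = N17191 := ded_12_1 (flp_g L123606) (flp_a L123574) L175587
theorem L175591 : sm gc N22480 = N17185 := ded_21_1 (flp_g L123586) L123572 L175587
theorem L175593 : sm gf N22480 = N19169 := ded_29_2 (flp_g L152232) L152220 L152224 L175587
theorem L175595 : sm gf N17183 = N22481 := rfl
theorem L175597 : sm ga N22481 = N17192 := ded_11_1 (flp_f L123610) (flp_a L123578) L175595
theorem L175599 : sm ge N22481 = N17184 := ded_25_1 (flp_f L123580) L123576 L175595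
theorem L175601 : sm gb N18930 = N22481 := ded_15_3 L175599 L146084 (flp_e L145420)
theorem L175603 : sm gg N17183 = N22482 := rfl
theorem L175605 : sm ga N22482 = N17193 := ded_12_1 (flp_g L123614) (flp_a L123578) L175603
theorem L175607 : sm ge N22482 = N17185 := ded_26_1 (flp_g L123586) L123576 L175603
theorem L175609 : sm gc N17186 = N22483 := rfl
theorem L175611 : sm ga N22483 = N19259 := ded_8_1 (flp_c L152810) (flp_a L146094) L175609
theorem L175613 : sm gf N22483 = N20639 := ded_20_2 L175557 L175551 L175609
theorem L175615 : sm gg N22483 = N19200 := ded_21_2 (flp_c L172493) L172491 L175609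
theorem L175617 : sm gd N19201 = N22483 := ded_28_3 (flp_c L175609) (flp_d L146090) (flp_c L105778) L153339 L153341 (flp_c L153487) L129317 (flp_c L152454)
theorem L175619 : sm ge N17188 = N22484 := rfl
theorem L175621 : sm gg N17188 = N22485 := rfl
theorem L175623 : sm gd N22485 = N17191 := ded_24_1 (flp_g L123606) L123596 L175621
theorem L175625 : sm gd N17189 = N22486 := rfl
theorem L175627 : sm gg N17189 = N22487 := rfl
theorem L175629 : sm gc N22487 = N17193 := ded_21_1 (flp_g L123614) (flp_c L123600) L175627
theorem L175631 : sm ge N22487 = N17191 := ded_26_1 (flp_g L123606) L123598 L175627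
theorem L175633 : sm gb N17191 = N22488 := rfl
theorem L175635 : sm gc N22488 = N19959 := ded_13_2 (flp_b L157881) L109241 (flp_b L98770) (flp_c L123608) L175633
theorem L175637 : sm gf N17191 = N22489 := rfl
theorem L175639 : sm ga N22489 = N19169 := ded_11_1 (flp_f L175593) L175589 L175637
theorem L175641 : sm gc N22489 = N17195 := ded_20_1 (flp_f L123626) (flp_c L123608) L175637
theorem L175643 : sm gg N22489 = N19167 := ded_29_3 (flp_a L152220) L143417 L123606 L175637
theorem L175645 : sm gg N17192 = N22490 := rfl
theorem L175647 : sm ge N22490 = N17194 := ded_26_1 (flp_g L123620) (flp_e L123612) L175645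
theorem L175649 : sm gf N22482 = N22490 := ded_29_0 (flp_g L175645) (flp_f L123610) L123614 (flp_a L175605)
theorem L175651 : sm gf N17193 = N22491 := rfl
theorem L175653 : sm ga N22491 = N22490 := ded_11_1 (flp_f L175649) L175605 L175651
theorem L175655 : sm ge N22491 = N17195 := ded_25_1 (flp_f L123626) (flp_e L123616) L175651
theorem L175657 : sm gg N22491 = N22481 := ded_29_3 L175597 (flp_f L123610) L123614 L175651
theorem L175659 : sm gb N17194 = N22492 := rfl
theorem L175661 : sm gd N22492 = N17196 := ded_14_2 (flp_b L123634) (flp_d L123622) L175659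
theorem L175663 : sm gf N22492 = N22239 := ded_16_2 L173795 L175146 (flp_b L175156) L123624 L175659
theorem L175665 : sm gc N22241 = N22492 := ded_20_3 L175663 (flp_c L173793) L173801
theorem L175667 : sm ga N17196 = N20494 := ded_28_8 (flp_c L161962) L163610 L124299 L99125 (flp_c L122438) (flp_d L173803) L175665 L175661
theorem L175669 : sm gb N17195 = N22493 := rfl
theorem L175671 : sm gd N22493 = N17197 := ded_14_2 (flp_b L123636) (flp_d L123630) L175669
theorem L175673 : sm gf N22493 = N19961 := ded_16_2 (flp_b L157899) (flp_f L109247) (flp_b L98770) L123626 L175669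
theorem L175675 : sm gc N17196 = N22494 := rfl
theorem L175677 : sm ga N22494 = N20617 := ded_8_1 L161962 (flp_a L175667) L175675
theorem L175679 : sm gb N22494 = N20570 := ded_13_1 (flp_c L163439) (flp_b L163437) L123542 L123634 L175675
theorem L175681 : sm gf N20560 = N22494 := ded_11_0 L175677 L163673 L163687
theorem L175683 : sm gf N17196 = N22495 := rfl
theorem L175685 : sm gc N22495 = N20560 := ded_20_1 L175681 (flp_c L175675) L175683
theorem L175687 : sm gd N22495 = N22239 := ded_23_1 (flp_f L175663) L175661 L175683
theorem L175689 : sm gb N22495 = N20559 := ded_16_1 L161649 (flp_b L123594) L98774 L123634 L175683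
theorem L175691 : sm ga N17197 = N22496 := rfl
theorem L175693 : sm gf N22496 = N19962 := ded_11_2 (flp_a L157903) (flp_f L123638) L175691
theorem L175695 : sm gb N22496 = N19133 := ded_7_2 (flp_a L174042) L174046 L122639 L161284 (flp_a L175667) (flp_b L123634) (flp_a L98778) L123636 L175691
theorem L175697 : sm gd N19128 = N22496 := ded_14_0 L175695 (flp_d L152012) (flp_b L151986)
theorem L175699 : sm ga N22493 = N19128 := ded_9_3 L175697 (flp_a L175691) (flp_d L175671)
theorem L175701 : sm gc N19127 = N22493 := ded_8_0 L175699 (flp_c L151984) L151982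
theorem L175703 : sm gc N17197 = N22497 := rfl
theorem L175705 : sm gf N22497 = N19963 := ded_20_2 (flp_c L157905) (flp_f L123638) L175703
theorem L175707 : sm gb N22497 = N21980 := ded_13_1 (flp_c L172907) (flp_b L172915) L123550 L123636 L175703
theorem L175709 : sm gb N19971 = N19962 := ded_30_18 (flp_a L157903) (flp_f L123638) L175703 L175707 (flp_a L171998) (flp_f L171946) L171944 L163651 (flp_a L172825) (flp_f L172823) (flp_c L121879) L121877 L172655 (flp_f L172647) L172644 L175478 L158088 (flp_f L157949) L157941
theorem L175711 : sm gg N17197 = N22498 := rfl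
theorem L175713 : sm gb N22498 = N22054 := ded_17_1 L172491 (flp_b L123592) (flp_g L98780) L123636 L175711
theorem L175715 : sm gd N17199 = N22499 := rfl
theorem L175717 : sm ga N22499 = N17202 := ded_9_1 (flp_d L123654) (flp_a L123644) L175715
theorem L175719 : sm gb N22499 = N18305 := ded_14_1 L129470 L130512 L175715
theorem L175721 : sm ge N22499 = N18351 := ded_22_2 L130516 (flp_e L124353) L99117 L123642 L175715
theorem L175723 : sm gf N17199 = N22500 := rfl
theorem L175725 : sm ga N22500 = N17203 := ded_11_1 (flp_f L123658) (flp_a L123644) L175723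
theorem L175727 : sm ge N22500 = N17200 := ded_25_1 (flp_f L123646) L123642 L175723
theorem L175729 : sm gg N17199 = N22501 := rfl
theorem L175731 : sm ga N22501 = N17204 := ded_12_1 (flp_g L123662) (flp_a L123644) L175729
theorem L175733 : sm ge N22501 = N17201 := ded_26_1 (flp_g L123650) L123642 L175729
theorem L175735 : sm gc N17202 = N22502 := rfl
theorem L175737 : sm gf N17202 = N22503 := rfl
theorem L175739 : sm gd N22503 = N17203 := ded_23_1 (flp_f L123658) L123654 L175737
theorem L175741 : sm gg N17202 = N22504 := rfl
theorem L175743 : sm gd N22504 = N17204 := ded_24_1 (flp_g L123662) L123654 L175741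
theorem L175745 : sm ge N22504 = N19043 := ded_26_1 L146136 L124373 L175741
theorem L175747 : sm gb N22504 = N18724 := ded_17_1 (flp_g L144235) L119749 L109709 (flp_b L123656) L175741
theorem L175749 : sm gg N17203 = N22505 := rfl
theorem L175751 : sm ge N22505 = N17205 := ded_26_1 (flp_g L123666) (flp_e L123660) L175749
theorem L175753 : sm gf N22501 = N22505 := ded_29_0 (flp_g L175749) (flp_f L123658) L123662 (flp_a L175731)
theorem L175755 : sm gb N18372 = N22505 := ded_15_3 L175751 L143333 (flp_e L129982)
theorem L175757 : sm gf N17204 = N22506 := rfl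
theorem L175759 : sm ga N22506 = N22505 := ded_11_1 (flp_f L175753) L175731 L175757
theorem L175761 : sm ge N22506 = N17206 := ded_25_1 (flp_f L123670) (flp_e L123664) L175757
theorem L175763 : sm gg N22506 = N22500 := ded_29_3 L175725 (flp_f L123658) L123662 L175757
theorem L175765 : sm gf N17207 = N22507 := rfl
theorem L175767 : sm gd N22507 = N18350 := ded_23_1 (flp_f L129840) (flp_d L149243) L175765
theorem L175769 : sm ge N22507 = N17215 := ded_25_1 (flp_f L123718) (flp_e L123678) L175765
theorem L175771 : sm gg N18349 = N22507 := ded_29_1 (flp_f L175765) (flp_g L150504) L129811 L129830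
theorem L175773 : sm gf N17213 = N22508 := rfl
theorem L175775 : sm ga N22508 = N17215 := ded_11_1 (flp_f L123718) L123711 L175773
theorem L175777 : sm gd N22508 = N17227 := ded_23_1 (flp_f L123770) (flp_d L123713) L175773
theorem L175779 : sm gg N21948 = N22508 := ded_29_1 (flp_f L175773) L151117 L151111 L171764
theorem L175781 : sm gg N17215 = N22509 := rfl
theorem L175783 : sm ga N22509 = N21948 := ded_12_1 L175779 L175775 L175781
theorem L175785 : sm gc N22509 = N22508 := ded_21_1 (flp_g L175779) L171766 L175781
theorem L175787 : sm gd N22509 = N17232 := ded_24_1 (flp_g L123812) (flp_d L123720) L175781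
theorem L175789 : sm ge N22509 = N18349 := ded_26_1 L175771 L175769 L175781
theorem L175791 : sm gf N18348 = N22509 := ded_29_0 (flp_g L175781) (flp_f L123718) (flp_g L150672) (flp_a L151111)
theorem L175793 : sm gb N22001 = N22509 := ded_31_14 (flp_g L175781) (flp_f L123718) (flp_b L98808) L149456 (flp_f L149380) L122947 L122951 L122959 L122963 L165993 (flp_f L165987) L115046 (flp_g L150870) L172125
theorem L175795 : sm gd N17246 = N22510 := rfl
theorem L175797 : sm ga N22510 = N20472 := ded_9_1 L161132 (flp_a L150746) L175795
theorem L175799 : sm gg N22510 = N20462 := ded_24_2 L161076 L150612 L175795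
theorem L175801 : sm ge N22510 = N20464 := ded_22_2 L161088 L111387 L149347 L123880 L175795
theorem L175803 : sm gf N17248 = N22511 := rfl
theorem L175805 : sm ga N22511 = N22352 := ded_11_1 L174659 L150746 L175803
theorem L175807 : sm gc N22511 = N22350 := ded_20_1 L174645 L150610 L175803
theorem L175809 : sm ge N22511 = N17249 := ded_25_1 (flp_f L123894) (flp_e L123890) L175803
theorem L175811 : sm gg N22511 = N22350 := ded_29_3 L174643 L122991 L123888 L175803
theorem L175813 : sm gb N17249 = N22512 := rfl
theorem L175815 : sm gd N22512 = N17250 := ded_14_2 (flp_b L123902) (flp_d L123898) L175813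
theorem L175817 : sm gf N22512 = N20730 := ded_16_2 (flp_b L162647) (flp_f L112620) (flp_b L98874) L123894 L175813
theorem L175819 : sm ga N17250 = N22513 := rfl
theorem L175821 : sm gf N22513 = N20734 := ded_11_2 (flp_a L162659) (flp_f L123904) L175819
theorem L175823 : sm gc N17250 = N22514 := rfl
theorem L175825 : sm gf N22514 = N20073 := ded_20_2 L163804 (flp_f L123904) L175823
theorem L175827 : sm gb N22514 = N17252 := ded_13_1 (flp_c L123909) (flp_b L98884) (flp_c L98880) L123902 L175823
theorem L175829 : sm gg N17250 = N22515 := rfl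
theorem L175831 : sm gb N22515 = N22349 := ded_17_1 (flp_g L174635) (flp_b L122975) (flp_g L98882) L123902 L175829
theorem L175833 : sm gc N17251 = N22516 := rfl
theorem L175835 : sm ga N22516 = N17252 := ded_8_1 (flp_c L123909) L123906 L175833
theorem L175837 : sm gf N22516 = N22516 := ded_20_2 (flp_c L175833) L123908 L175833
theorem L175838 : sm gb N19315 = N20734 := ded_30_14 (flp_a L162659) (flp_f L123904) L175823 L175827 (flp_a L175835) L175837 (flp_c L175833) L174506 (flp_a L121418) (flp_f L121416) L149847 L90235 L40237 L89981 L89983 L89991 L105700 (flp_f L152476) (flp_c L153219)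
theorem L175840 : sm gd N20734 = N19326 := ded_14_2 (flp_b L153285) (flp_d L153221) L175838
theorem L175842 : sm ga N19326 = N20730 := ded_9_1 L162649 L162659 L175840
theorem L175844 : sm gc N20892 = N19326 := ded_28_6 (flp_d L175840) (flp_a L162659) (flp_c L163804) L158520 L154069 L120140 L113911 L164761
theorem L175846 : sm gd N17252 = N22517 := rfl
theorem L175848 : sm gf N22517 = N22517 := ded_23_2 (flp_d L175846) L123911 L175846
theorem L175849 : sm gg N17252 = N22518 := rfl
theorem L175851 : sm gc N22518 = N17253 := ded_21_1 (flp_g L123912) L123909 L175849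
theorem L175853 : sm gb N20508 = N22518 := ded_13_5 L175851 L123914 L161372 (flp_b L161358) L161360
theorem L175855 : sm ge N17255 = N22519 := rfl
theorem L175857 : sm gb N22519 = N17258 := ded_15_1 (flp_e L123936) (flp_b L123922) L175855
theorem L175859 : sm gc N22519 = N21510 := ded_19_1 L168961 L163740 L175855
theorem L175861 : sm gg N22519 = N21509 := ded_26_2 L168955 (flp_g L163655) L175855
theorem L175863 : sm ge N17260 = N22520 := rfl
theorem L175865 : sm ga N22520 = N17264 := ded_10_1 (flp_e L123989) (flp_a L123948) L175863
theorem L175867 : sm gb N22520 = N21263 := ded_15_1 L167448 (flp_b L163854) L175863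
theorem L175869 : sm gc N22520 = N21265 := ded_19_1 L167462 L163870 L175863
theorem L175871 : sm gd N17263 = N22521 := rfl
theorem L175873 : sm ga N22521 = N21972 := ded_9_1 (flp_d L171950) (flp_a L163967) L175871
theorem L175875 : sm ge N17263 = N22522 := rfl
theorem L175877 : sm ga N22522 = N21265 := ded_10_1 L167462 (flp_a L163967) L175875
theorem L175879 : sm gc N22522 = N17264 := ded_19_1 (flp_e L123989) L123987 L175875
theorem L175881 : sm gf N17263 = N22523 := rfl
theorem L175883 : sm ga N22523 = N21973 := ded_11_1 (flp_f L171956) (flp_a L163967) L175881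
theorem L175885 : sm gc N22523 = N17265 := ded_20_1 (flp_f L123993) L123987 L175881
theorem L175887 : sm gg N22523 = N21980 := ded_29_3 (flp_a L171998) (flp_f L171946) (flp_g L171948) L175881
theorem L175889 : sm gf N17264 = N22524 := rfl
theorem L175891 : sm ge N22524 = N17265 := ded_25_1 (flp_f L123993) L123989 L175889
theorem L175893 : sm gb N22524 = N20026 := ded_16_1 L158245 L109504 (flp_f L98923) (flp_b L123991) L175889
theorem L175895 : sm gg N17264 = N22525 := rfl
theorem L175897 : sm ge N22525 = N17266 := ded_26_1 (flp_g L123999) L123989 L175895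
theorem L175899 : sm gb N22525 = N21509 := ded_17_1 (flp_g L175861) L175857 L123942 (flp_b L123991) L175895
theorem L175901 : sm gf N21518 = N22525 := ded_25_0 L175897 (flp_f L163572) (flp_e L169003)
theorem L175903 : sm ge N17269 = N22526 := rfl
theorem L175905 : sm gb N22526 = N17270 := ded_15_1 (flp_e L124019) L124017 L175903
theorem L175907 : sm gf N17269 = N22527 := rfl
theorem L175909 : sm gb N22527 = N20072 := ded_16_1 (flp_f L158514) (flp_b L109634) (flp_f L98919) L124017 L175907
theorem L175911 : sm gg N17269 = N22528 := rfl
theorem L175913 : sm gc N22528 = N22042 := ded_21_1 L172426 L172372 L175911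
theorem L175915 : sm gb N22528 = N22150 := ded_17_1 (flp_g L173180) L163814 L99277 L124017 L175911
theorem L175917 : sm gf N22044 = N22528 := ded_20_0 L175913 L172424 L172434
theorem L175919 : sm gc N17271 = N22529 := rfl
theorem L175921 : sm ge N17271 = N22530 := rfl
theorem L175923 : sm gb N22530 = N17275 := ded_15_1 (flp_e L124037) (flp_b L124027) L175921
theorem L175925 : sm gf N17271 = N22531 := rfl
theorem L175927 : sm gd N22531 = N17272 := ded_23_1 (flp_f L124029) L124025 L175925
theorem L175929 : sm gb N22531 = N21938 := ded_16_1 L173667 (flp_b L173669) (flp_f L124041) (flp_b L124027) L175925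
theorem L175931 : sm gg N17271 = N22532 := rfl
theorem L175933 : sm gd N22532 = N17273 := ded_24_1 (flp_g L124031) L124025 L175931
theorem L175935 : sm gb N22532 = N19324 := ded_17_1 L153279 (flp_b L151429) (flp_g L124047) (flp_b L124027) L175931
theorem L175937 : sm gg N17272 = N22533 := rfl
theorem L175939 : sm gc N22533 = N22476 := ded_21_1 L175569 L171506 L175937
theorem L175941 : sm gf N21917 = N22533 := ded_29_0 (flp_g L175937) (flp_f L124029) L124031 L171526
theorem L175943 : sm gb N22533 = N21911 := ded_17_1 L171494 L120716 L120818 (flp_b L124061) L175937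
theorem L175945 : sm gb N17273 = N22534 := rfl
theorem L175947 : sm gd N22534 = N19324 := ded_14_2 (flp_b L175935) L175933 L175945
theorem L175949 : sm gg N22534 = N17279 := ded_17_2 (flp_b L124063) (flp_g L98935) L98925 L124031 L175945
theorem L175951 : sm ga N22534 = N19314 := ded_7_1 (flp_b L153207) (flp_a L151439) L151234 (flp_a L158317) (flp_b L161806) L161800 L171520 (flp_a L171526) L175945
theorem L175953 : sm gf N22280 = N22534 := ded_31_1 (flp_b L175945) (flp_g L124031) L124029 L124061 (flp_g L120818) (flp_f L120808) L151264 (flp_g L122549) (flp_f L98125) (flp_b L85597) L85607 L98155 L122615 L174050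
theorem L175955 : sm gc N20601 = N22534 := ded_8_0 L175951 L153211 L161888
theorem L175957 : sm gf N17273 = N22535 := rfl
theorem L175959 : sm ga N22535 = N22533 := ded_11_1 (flp_f L175941) (flp_a L171526) L175957
theorem L175961 : sm gc N22535 = N22475 := ded_20_1 (flp_f L175561) L173635 L175957
theorem L175963 : sm gg N22535 = N22411 := ded_29_3 L175118 (flp_f L124029) L124031 L175957
theorem L175965 : sm gb N22535 = N20626 := ded_16_1 (flp_f L162014) (flp_b L174054) L175953 (flp_b L175945) L175957
theorem L175967 : sm gb N17274 = N22536 := rfl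
theorem L175969 : sm gd N17274 = N22537 := rfl
theorem L175971 : sm ga N22537 = N17280 := ded_9_1 (flp_d L124065) (flp_a L124035) L175969
theorem L175973 : sm gc N22521 = N22537 := ded_28_0 (flp_d L175969) (flp_c L124033) (flp_d L98927) (flp_c L98901) L123946 (flp_c L163870) L171950 (flp_a L175873)
theorem L175975 : sm ge N17274 = N22538 := rfl
theorem L175977 : sm ga N22538 = N17281 := ded_10_1 (flp_e L124067) (flp_a L124035) L175975
theorem L175979 : sm gc N22538 = N17275 := ded_19_1 (flp_e L124037) L124033 L175975
theorem L175981 : sm gf N17274 = N22539 := rfl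
theorem L175983 : sm ga N22539 = N17282 := ded_11_1 (flp_f L124071) (flp_a L124035) L175981
theorem L175985 : sm gc N22539 = N17276 := ded_20_1 (flp_f L124041) L124033 L175981
theorem L175987 : sm gg N19231 = N22539 := ded_29_1 (flp_f L175981) (flp_g L152630) (flp_a L152626) L152632
theorem L175989 : sm gf N17275 = N22540 := rfl
theorem L175991 : sm ga N22540 = N17284 := ded_11_1 (flp_f L124079) (flp_a L124039) L175989
theorem L175993 : sm ge N22540 = N17276 := ded_25_1 (flp_f L124041) L124037 L175989
theorem L175995 : sm gg N17275 = N22541 := rfl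
theorem L175997 : sm ga N22541 = N17285 := ded_12_1 (flp_g L124085) (flp_a L124039) L175995
theorem L175999 : sm ge N22541 = N17277 := ded_26_1 (flp_g L124047) L124037 L175995
theorem L176001 : sm gb N18970 = N22541 := ded_15_3 L175999 L151429 (flp_e L145642)
theorem L176003 : sm gc N17279 = N22542 := rfl
theorem L176005 : sm ga N22542 = N19316 := ded_8_1 (flp_c L153225) (flp_a L151564) L176003
theorem L176007 : sm gf N22542 = N19133 := ded_20_2 (flp_c L174038) L174036 L176003
theorem L176009 : sm gg N22542 = N20601 := ded_21_2 L175955 L175949 L176003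
theorem L176011 : sm gd N19134 = N22542 := ded_28_3 (flp_c L176003) (flp_d L151548) L105748 L152910 L152912 (flp_c L153050) L129240 (flp_c L152016)
theorem L176013 : sm ge N17280 = N22543 := rfl
theorem L176015 : sm gf N17280 = N22544 := rfl
theorem L176017 : sm gd N22544 = N17282 := ded_23_1 (flp_f L124071) L124065 L176015
theorem L176019 : sm gd N17281 = N22545 := rfl
theorem L176021 : sm gf N17281 = N22546 := rfl
theorem L176023 : sm gc N22546 = N17284 := ded_20_1 (flp_f L124079) (flp_c L124069) L176021
theorem L176025 : sm ge N22546 = N17282 := ded_25_1 (flp_f L124071) L124067 L176021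
theorem L176027 : sm gb N17282 = N22547 := rfl
theorem L176029 : sm gc N22547 = N20013 := ded_13_2 (flp_b L158179) L109430 (flp_b L98949) (flp_c L124073) L176027
theorem L176031 : sm gg N17282 = N22548 := rfl
theorem L176033 : sm ga N22548 = N19231 := ded_12_1 L175987 L175983 L176031
theorem L176035 : sm gc N22548 = N17286 := ded_21_1 (flp_g L124089) (flp_c L124073) L176031
theorem L176037 : sm gf N19230 = N22548 := ded_29_0 (flp_g L176031) (flp_f L124071) (flp_g L151423) L152626
theorem L176039 : sm gg N17284 = N22549 := rfl
theorem L176041 : sm ge N22549 = N17286 := ded_26_1 (flp_g L124089) (flp_e L124081) L176039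
theorem L176043 : sm gf N22541 = N22549 := ded_29_0 (flp_g L176039) (flp_f L124079) L124085 (flp_a L175997)
theorem L176045 : sm gf N17285 = N22550 := rfl
theorem L176047 : sm ga N22550 = N22549 := ded_11_1 (flp_f L176043) L175997 L176045
theorem L176049 : sm ge N22550 = N17287 := ded_25_1 (flp_f L124095) (flp_e L124087) L176045
theorem L176051 : sm gg N22550 = N22540 := ded_29_3 L175991 (flp_f L124079) L124085 L176045
theorem L176053 : sm gb N17286 = N22551 := rfl
theorem L176055 : sm gd N22551 = N17288 := ded_14_2 (flp_b L124103) (flp_d L124091) L176053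
theorem L176057 : sm gg N22551 = N20015 := ded_17_2 (flp_b L158197) (flp_g L109436) (flp_b L98949) L124089 L176053
theorem L176059 : sm gb N17287 = N22552 := rfl
theorem L176061 : sm gd N22552 = N17289 := ded_14_2 (flp_b L124107) (flp_d L124099) L176059
theorem L176063 : sm gg N22552 = N22215 := ded_17_2 (flp_b L173651) L173659 (flp_b L173669) (flp_g L124101) L176059
theorem L176065 : sm gc N22228 = N22552 := ded_21_3 L176063 L173653 L173723
theorem L176067 : sm ga N17289 = N20539 := ded_28_8 (flp_c L162190) L163766 L124684 L99359 (flp_c L123319) (flp_d L173725) L176065 L176061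
theorem L176069 : sm ga N17288 = N22553 := rfl
theorem L176071 : sm gg N22553 = N20016 := ded_12_2 (flp_a L158201) (flp_g L124105) L176069
theorem L176073 : sm gb N22553 = N19200 := ded_7_2 (flp_a L172497) L172501 L121711 L161529 (flp_a L176067) (flp_b L124107) L98961 L124103 L176069
theorem L176075 : sm gd N19196 = N22553 := ded_14_0 L176073 (flp_d L152450) (flp_b L152430)
theorem L176077 : sm ga N22551 = N19196 := ded_9_3 L176075 (flp_a L176069) (flp_d L176055)
theorem L176079 : sm gc N19195 = N22551 := ded_8_0 L176077 (flp_c L152428) L152426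
theorem L176081 : sm gc N17288 = N22554 := rfl
theorem L176083 : sm gg N22554 = N20017 := ded_21_2 (flp_c L158203) (flp_g L124105) L176081
theorem L176085 : sm gb N22554 = N22024 := ded_13_1 (flp_c L174402) L174410 L124005 L124103 L176081
theorem L176087 : sm gf N17288 = N22555 := rfl
theorem L176089 : sm gb N22555 = N22278 := ded_16_1 L174036 (flp_b L124063) L98957 L124103 L176087
theorem L176091 : sm gc N17289 = N22556 := rfl
theorem L176093 : sm ga N22556 = N20655 := ded_8_1 L162190 (flp_a L176067) L176091
theorem L176095 : sm gb N22556 = N20525 := ded_13_1 (flp_c L163403) L163405 L124013 L124107 L176091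
theorem L176097 : sm gg N20514 = N22556 := ded_12_0 L176093 L163748 L163600
theorem L176099 : sm gg N17289 = N22557 := rfl
theorem L176101 : sm gc N22557 = N20514 := ded_21_1 L176097 (flp_c L176091) L176099
theorem L176103 : sm gd N22557 = N22215 := ded_24_1 (flp_g L176063) L176061 L176099
theorem L176105 : sm gb N22557 = N20513 := ded_17_1 L161400 (flp_b L124053) (flp_g L98963) L124107 L176099
theorem L176107 : sm gd N17291 = N22558 := rfl
theorem L176109 : sm ga N22558 = N17294 := ded_9_1 (flp_d L124123) (flp_a L124113) L176107
theorem L176111 : sm gb N22558 = N18299 := ded_14_1 L129432 L149680 L176107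
theorem L176113 : sm ge N22558 = N18338 := ded_22_2 (flp_d L149748) (flp_e L124746) L99345 L124111 L176107
theorem L176115 : sm gf N17291 = N22559 := rfl
theorem L176117 : sm ga N22559 = N17295 := ded_11_1 (flp_f L124127) (flp_a L124113) L176115
theorem L176119 : sm ge N22559 = N17292 := ded_25_1 (flp_f L124115) L124111 L176115
theorem L176121 : sm gg N17291 = N22560 := rfl
theorem L176123 : sm ga N22560 = N17296 := ded_12_1 (flp_g L124131) (flp_a L124113) L176121
theorem L176125 : sm ge N22560 = N17293 := ded_26_1 (flp_g L124119) L124111 L176121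
theorem L176127 : sm gc N17294 = N22561 := rfl
theorem L176129 : sm gf N17294 = N22562 := rfl
theorem L176131 : sm gd N22562 = N17295 := ded_23_1 (flp_f L124127) L124123 L176129
theorem L176133 : sm ge N22562 = N19053 := ded_25_1 L151580 L124766 L176129
theorem L176135 : sm gb N22562 = N18730 := ded_16_1 (flp_f L144269) (flp_b L147314) L109838 (flp_b L124125) L176129
theorem L176137 : sm gg N17294 = N22563 := rfl
theorem L176139 : sm gd N22563 = N17296 := ded_24_1 (flp_g L124131) L124123 L176137
theorem L176141 : sm gg N17295 = N22564 := rfl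
theorem L176143 : sm ge N22564 = N17297 := ded_26_1 (flp_g L124135) (flp_e L124129) L176141
theorem L176145 : sm gf N22560 = N22564 := ded_29_0 (flp_g L176141) (flp_f L124127) L124131 (flp_a L176123)
theorem L176147 : sm gb N22506 = N22564 := ded_31_14 (flp_g L176141) (flp_f L124127) L98969 (flp_g L93877) (flp_f L93871) (flp_b L93863) (flp_g L146595) L119179 L93743 L93751 (flp_f L93757) (flp_b L98786) L123662 L175757
theorem L176149 : sm gf N17296 = N22565 := rfl
theorem L176151 : sm ga N22565 = N22564 := ded_11_1 (flp_f L176145) L176123 L176149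
theorem L176153 : sm ge N22565 = N17298 := ded_25_1 (flp_f L124139) (flp_e L124133) L176149
theorem L176155 : sm gg N22565 = N22559 := ded_29_3 L176117 (flp_f L124127) L124131 L176149
theorem L176157 : sm gb N18380 = N22565 := ded_7_0 L176151 (flp_b L176147) L175759 (flp_b L175755) (flp_a L129980) (flp_b L102577) (flp_a L88372) L102599 L130026
theorem L176159 : sm ga N17301 = N22566 := rfl
theorem L176161 : sm gc N22566 = N19504 := ded_8_2 (flp_a L154650) (flp_c L124171) L176159
theorem L176163 : sm gd N22566 = N20574 := ded_9_2 (flp_a L163856) (flp_d L124169) L176159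
theorem L176165 : sm ge N22566 = N19371 := ded_10_2 (flp_a L153694) (flp_e L142796) L176159
theorem L176167 : sm gb N22566 = N20573 := ded_7_2 L161707 (flp_b L123137) L123135 (flp_b L123031) L163860 (flp_b L99035) (flp_a L98997) L124167 L176159
theorem L176169 : sm gf N17301 = N22567 := rfl
theorem L176171 : sm gc N22567 = N19505 := ded_20_1 (flp_f L154656) (flp_c L124171) L176169
theorem L176173 : sm gd N22567 = N22468 := ded_23_1 (flp_f L175517) (flp_d L124169) L176169
theorem L176175 : sm ge N22567 = N19373 := ded_25_1 (flp_f L153700) (flp_e L142796) L176169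
theorem L176177 : sm gb N22567 = N17311 := ded_16_1 (flp_f L124223) (flp_b L99035) (flp_f L98999) L124167 L176169
theorem L176179 : sm gg N17301 = N22568 := rfl
theorem L176181 : sm gc N22568 = N19447 := ded_21_1 L154228 (flp_c L124171) L176179
theorem L176183 : sm gd N22568 = N22469 := ded_24_1 (flp_g L175525) (flp_d L124169) L176179
theorem L176185 : sm ge N22568 = N19374 := ded_26_1 (flp_g L153702) (flp_e L142796) L176179
theorem L176187 : sm gb N22568 = N19386 := ded_17_1 (flp_g L153800) L106101 (flp_g L141745) L124167 L176179
theorem L176189 : sm ge N17304 = N22569 := rfl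
theorem L176191 : sm ga N22569 = N20857 := ded_10_1 (flp_e L164504) L141023 L176189
theorem L176193 : sm gf N22569 = N21008 := ded_25_2 (flp_e L165632) (flp_f L142774) L176189
theorem L176195 : sm gg N22569 = N20941 := ded_26_2 L165104 (flp_g L124706) L176189
theorem L176197 : sm gd N22569 = N20815 := ded_22_1 (flp_e L164149) L113212 (flp_e L142015) L124187 L176189
theorem L176199 : sm gf N17310 = N22570 := rfl
theorem L176201 : sm ga N22570 = N20812 := ded_11_1 (flp_f L174729) L174723 L176199
theorem L176203 : sm gc N22570 = N20859 := ded_20_1 (flp_f L164520) (flp_c L142804) L176199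
theorem L176205 : sm ge N22570 = N17311 := ded_25_1 (flp_f L124223) L124219 L176199
theorem L176207 : sm gg N22570 = N20809 := ded_29_3 (flp_a L164111) L164123 (flp_g L164129) L176199
theorem L176209 : sm gb N22570 = N19373 := ded_16_1 (flp_f L153700) (flp_b L106045) L141818 (flp_b L124221) L176199
theorem L176211 : sm ga N17315 = N22571 := rfl
theorem L176213 : sm gc N22571 = N17636 := ded_8_2 L149674 (flp_c L124245) L176211
theorem L176215 : sm ge N22571 = N17636 := ded_10_2 L149674 (flp_e L141102) L176211
theorem L176217 : sm gd N22459 = N22571 := ded_28_7 (flp_a L176211) L124245 (flp_d L125930) (flp_c L172959) L172961 (flp_c L173002) L173004 (flp_c L175420)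
theorem L176219 : sm gb N22571 = N17559 := ded_7_2 (flp_a L149670) L163463 (flp_a L161657) (flp_b L163554) (flp_a L124283) (flp_b L99079) (flp_a L99055) L124243 L176211
theorem L176221 : sm gg N17315 = N22571 := ded_21_0 L176213 L125854 (flp_c L124245)
theorem L176223 : sm gf N22571 = N22458 := ded_23_2 (flp_d L175415) L175418 L176217
theorem L176225 : sm gd N17315 = N22572 := rfl
theorem L176227 : sm ga N22572 = N22459 := ded_9_1 L176217 (flp_a L176211) L176225
theorem L176229 : sm gb N22572 = N17316 := ded_14_1 (flp_d L124247) L124243 L176225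
theorem L176231 : sm gg N22572 = N22459 := ded_24_2 L176217 (flp_g L176221) L176225
theorem L176233 : sm gc N22156 = N22572 := ded_28_0 (flp_d L176225) L124245 (flp_d L125930) (flp_c L172959) L172961 (flp_c L173002) L173004 (flp_a L173256)
theorem L176235 : sm gf N22457 = N22572 := ded_11_0 L176227 (flp_f L175418) (flp_a L175412)
theorem L176237 : sm gf N17315 = N22573 := rfl
theorem L176239 : sm ga N22573 = N22458 := ded_11_1 (flp_f L176223) (flp_a L176211) L176237
theorem L176241 : sm gc N22573 = N17654 := ded_20_1 (flp_f L125934) (flp_c L124245) L176237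
theorem L176243 : sm gd N22573 = N22457 := ded_23_1 L176235 (flp_d L176225) L176237
theorem L176245 : sm ge N22573 = N17654 := ded_25_1 (flp_f L125934) (flp_e L141102) L176237
theorem L176247 : sm gg N22573 = N22573 := ded_29_3 L176239 (flp_f L176223) (flp_g L176221) L176237
theorem L176248 : sm gb N22573 = N20922 := ded_16_1 (flp_f L164999) (flp_b L114105) L141116 L124243 L176237
theorem L176250 : sm ge N17316 = N22574 := rfl
theorem L176252 : sm ga N22574 = N17326 := ded_10_1 (flp_e L124313) (flp_a L124249) L176250
theorem L176254 : sm gc N22574 = N22569 := ded_19_1 (flp_e L176189) (flp_c L124253) L176250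
theorem L176256 : sm gf N22574 = N20924 := ded_25_2 (flp_e L165007) (flp_f L141030) L176250
theorem L176258 : sm gg N22574 = N17562 := ded_26_2 (flp_e L125560) (flp_g L124251) L176250
theorem L176260 : sm gd N22574 = N17651 := ded_22_1 L125924 L100089 (flp_e L141098) L124247 L176250
theorem L176262 : sm gf N17320 = N22575 := rfl
theorem L176264 : sm ga N22575 = N17323 := ded_11_1 (flp_f L124297) L124283 L176262
theorem L176266 : sm gc N22575 = N17336 := ded_20_1 (flp_f L124357) (flp_c L124285) L176262
theorem L176268 : sm gd N22575 = N22494 := ded_23_1 (flp_f L175681) L163629 L176262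
theorem L176270 : sm ge N22575 = N19930 := ded_25_1 L157709 L142772 L176262
theorem L176272 : sm gb N22575 = N19899 := ded_16_1 L157497 (flp_b L163301) (flp_f L161659) (flp_b L163554) L176262
theorem L176274 : sm gg N17320 = N22576 := rfl
theorem L176276 : sm ga N22576 = N17324 := ded_12_1 (flp_g L124301) L124283 L176274
theorem L176278 : sm gc N22576 = N17337 := ded_21_1 (flp_g L124363) (flp_c L124285) L176274
theorem L176280 : sm ge N22576 = N20946 := ded_26_1 (flp_g L165130) L142772 L176274
theorem L176282 : sm gc N17321 = N22577 := rfl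
theorem L176284 : sm ga N22577 = N22495 := ded_8_1 L175685 (flp_a L163687) L176282
theorem L176286 : sm gf N22577 = N20494 := ded_20_2 (flp_c L161962) L163673 L176282
theorem L176288 : sm gb N22577 = N22185 := ded_13_1 (flp_c L173437) L164452 L141025 (flp_b L124289) L176282
theorem L176290 : sm ge N17321 = N22578 := rfl
theorem L176292 : sm gb N22578 = N17326 := ded_15_1 (flp_e L124313) (flp_b L124289) L176290
theorem L176294 : sm gd N22578 = N20942 := ded_22_1 L165110 L114177 L141062 L124287 L176290
theorem L176296 : sm gg N17321 = N22579 := rfl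
theorem L176298 : sm gd N22579 = N17324 := ded_24_1 (flp_g L124301) L124287 L176296
theorem L176300 : sm gg N17323 = N22580 := rfl
theorem L176302 : sm gc N22580 = N17341 := ded_21_1 (flp_g L124385) (flp_c L124299) L176300
theorem L176304 : sm ge N22580 = N20916 := ded_26_1 (flp_g L164957) L142710 L176300
theorem L176306 : sm gf N22576 = N22580 := ded_29_0 (flp_g L176300) (flp_f L124297) L124301 (flp_a L176276)
theorem L176308 : sm gf N17324 = N22581 := rfl
theorem L176310 : sm ga N22581 = N22580 := ded_11_1 (flp_f L176306) L176276 L176308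
theorem L176312 : sm gc N22581 = N17342 := ded_20_1 (flp_f L124391) (flp_c L124303) L176308
theorem L176314 : sm ge N22581 = N20947 := ded_25_1 (flp_f L165136) L142768 L176308
theorem L176316 : sm gg N22581 = N22575 := ded_29_3 L176264 (flp_f L124297) L124301 L176308
theorem L176318 : sm gb N17328 = N22582 := rfl
theorem L176320 : sm gd N22582 = N17333 := ded_14_2 (flp_b L124345) (flp_d L124325) L176318
theorem L176322 : sm gf N22582 = N20089 := ded_16_2 L174685 L174765 L174767 L124606 L176318
theorem L176324 : sm gg N17335 = N22583 := rfl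
theorem L176326 : sm ga N22583 = N17340 := ded_12_1 (flp_g L124379) (flp_a L124355) L176324
theorem L176328 : sm gc N22583 = N20946 := ded_21_1 (flp_g L165130) (flp_c L140974) L176324
theorem L176330 : sm gd N22583 = N18593 := ded_24_1 L143481 L130516 L176324
theorem L176332 : sm ge N22583 = N17337 := ded_26_1 (flp_g L124363) L124353 L176324
theorem L176334 : sm gb N22583 = N18544 := ded_17_1 (flp_g L143183) L103170 (flp_g L148167) L148161 L176324
theorem L176336 : sm gb N17337 = N22584 := rfl
theorem L176338 : sm gd N22584 = N22021 := ded_14_2 L172287 (flp_d L124367) L176336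
theorem L176340 : sm ge N22584 = N18544 := ded_15_2 (flp_b L176334) L176332 L176336
theorem L176342 : sm gf N22584 = N20577 := ded_16_2 L163570 L149013 L143335 (flp_f L124389) L176336
theorem L176344 : sm gg N22584 = N18527 := ded_17_2 L143081 L108813 L130498 L124363 L176336
theorem L176346 : sm gc N20579 = N22584 := ded_28_6 L176338 (flp_a L172384) L172386 L121627 L97536 (flp_d L93393) (flp_c L111859) (flp_d L161735)
theorem L176348 : sm gc N17338 = N22585 := rfl
theorem L176350 : sm ge N22585 = N22502 := ded_19_2 (flp_c L175735) (flp_e L124373) L176348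
theorem L176352 : sm gg N22585 = N19100 := ded_21_2 L151790 L146136 L176348
theorem L176354 : sm gb N22585 = N18521 := ded_13_1 L143031 (flp_b L140993) L140995 (flp_b L124371) L176348
theorem L176356 : sm gd N22585 = N20916 := ded_28_7 (flp_a L165138) L165140 L165120 (flp_c L165116) L114177 L141060 L124369 L176348
theorem L176358 : sm gf N17338 = N22586 := rfl
theorem L176360 : sm ga N22586 = N19929 := ded_11_1 L157703 (flp_a L130518) L176358
theorem L176362 : sm gd N22586 = N17339 := ded_23_1 (flp_f L124375) L124369 L176358
theorem L176364 : sm ge N22586 = N22503 := ded_25_1 (flp_f L175737) (flp_e L124373) L176358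
theorem L176366 : sm gb N22586 = N18522 := ded_16_1 (flp_f L143033) (flp_b L140993) L140999 (flp_b L124371) L176358
theorem L176368 : sm gg N17339 = N22587 := rfl
theorem L176370 : sm ga N22587 = N19931 := ded_12_1 (flp_g L157713) L149496 L176368
theorem L176372 : sm gc N22587 = N20916 := ded_21_1 (flp_g L164957) (flp_c L133821) L176368
theorem L176374 : sm ge N22587 = N17341 := ded_26_1 (flp_g L124385) (flp_e L124377) L176368
theorem L176376 : sm gf N22583 = N22587 := ded_29_0 (flp_g L176368) (flp_f L124375) L124379 (flp_a L176326)
theorem L176378 : sm gb N22587 = N20818 := ded_17_1 (flp_g L164210) L164977 (flp_g L164965) (flp_b L133819) L176368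
theorem L176380 : sm gd N17344 = N22588 := rfl
theorem L176382 : sm gb N22588 = N17567 := ded_14_1 (flp_d L125578) (flp_b L124403) L176380
theorem L176384 : sm gf N22588 = N20261 := ded_23_2 L159807 (flp_f L163324) L176380
theorem L176386 : sm ge N22588 = N20254 := ded_22_2 (flp_d L159769) L110553 L111821 (flp_e L163322) L176380
theorem L176388 : sm gg N17344 = N22589 := rfl
theorem L176390 : sm gc N22589 = N17348 := ded_21_1 (flp_g L124415) L124401 L176388
theorem L176392 : sm ge N22589 = N20564 := ded_26_1 (flp_g L161669) (flp_e L163322) L176388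
theorem L176394 : sm gf N18538 = N22589 := ded_29_0 (flp_g L176388) L163324 L161727 (flp_a L163457)
theorem L176396 : sm gg N17346 = N22590 := rfl
theorem L176398 : sm ga N22590 = N22584 := ded_12_1 L176344 L143075 L176396
theorem L176400 : sm gc N22590 = N20564 := ded_21_1 (flp_g L161669) (flp_c L163344) L176396
theorem L176402 : sm gd N22590 = N22036 := ded_24_1 L172388 L172275 L176396
theorem L176404 : sm ge N22590 = N17348 := ded_26_1 (flp_g L124415) L124409 L176396
theorem L176406 : sm gf N18524 = N22590 := ded_29_0 (flp_g L176396) L163346 L161723 (flp_a L163475)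
theorem L176408 : sm gb N17348 = N22591 := rfl
theorem L176410 : sm gd N22591 = N18578 := ded_14_2 (flp_b L143371) L130480 L176408
theorem L176412 : sm gf N22591 = N18539 := ded_16_2 (flp_b L143157) (flp_f L103150) L103144 (flp_f L130478) L176408
theorem L176414 : sm gg N22591 = N17357 := ded_17_2 (flp_b L124459) (flp_g L99159) L99141 L124415 L176408
theorem L176416 : sm ga N22591 = N19829 := ded_7_1 (flp_b L164220) L164214 L149580 (flp_a L108995) (flp_b L124383) (flp_a L176326) L176334 L143185 L176408
theorem L176418 : sm gc N19828 = N22591 := ded_20_3 L176412 (flp_c L162895) (flp_f L157103)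
theorem L176420 : sm gb N17349 = N22592 := rfl
theorem L176422 : sm gd N22592 = N20796 := ded_14_2 L164017 L142451 L176420
theorem L176424 : sm gc N22592 = N22387 := ded_13_2 L174908 L143405 L130492 L124417 L176420
theorem L176426 : sm gf N22381 = N22592 := ded_20_0 L176424 (flp_f L174904) (flp_c L174878)
theorem L176428 : sm ge N17349 = N22593 := rfl
theorem L176430 : sm ga N22593 = N17359 := ded_10_1 (flp_e L124465) (flp_a L124419) L176428
theorem L176432 : sm gc N22593 = N17350 := ded_19_1 (flp_e L124421) L124417 L176428
theorem L176434 : sm gf N17349 = N22594 := rfl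
theorem L176436 : sm ga N22594 = N17360 := ded_11_1 (flp_f L124471) (flp_a L124419) L176434
theorem L176438 : sm gc N22594 = N17351 := ded_20_1 (flp_f L124425) L124417 L176434
theorem L176440 : sm gg N22594 = N17444 := ded_29_1 L149039 (flp_g L124475) (flp_a L124419) L176434
theorem L176442 : sm gg N17349 = N22595 := rfl
theorem L176444 : sm ga N22595 = N17361 := ded_12_1 (flp_g L124475) (flp_a L124419) L176442
theorem L176446 : sm gc N22595 = N17352 := ded_21_1 (flp_g L124431) L124417 L176442
theorem L176448 : sm gd N22595 = N17437 := ded_24_1 (flp_g L148850) L142451 L176442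
theorem L176450 : sm gf N17435 = N22595 := ded_29_0 (flp_g L176442) L176434 L176440 L136988
theorem L176452 : sm gd N17350 = N22596 := rfl
theorem L176454 : sm ga N22596 = N17362 := ded_9_1 (flp_d L124479) (flp_a L124423) L176452
theorem L176456 : sm ge N22596 = N17353 := ded_22_2 (flp_d L124437) (flp_e L99147) L99143 L124421 L176452
theorem L176458 : sm gf N22596 = N17441 := ded_29_0 (flp_g L124882) L124878 (flp_g L148852) (flp_a L176454)
theorem L176460 : sm gf N17350 = N22597 := rfl
theorem L176462 : sm ga N22597 = N17363 := ded_11_1 (flp_f L124485) (flp_a L124423) L176460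
theorem L176464 : sm gd N22597 = N17441 := ded_23_1 (flp_f L176458) (flp_d L176452) L176460
theorem L176466 : sm ge N22597 = N17351 := ded_25_1 (flp_f L124425) L124421 L176460
theorem L176468 : sm gg N22597 = N17439 := ded_29_1 (flp_f L148880) (flp_g L124489) (flp_a L124423) L176460
theorem L176470 : sm gg N17350 = N22598 := rfl
theorem L176472 : sm ga N22598 = N17364 := ded_12_1 (flp_g L124489) (flp_a L124423) L176470
theorem L176474 : sm ge N22598 = N17352 := ded_26_1 (flp_g L124431) L124421 L176470
theorem L176476 : sm gb N17352 = N22599 := rfl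
theorem L176478 : sm gd N22599 = N17357 := ded_14_2 (flp_b L124459) (flp_d L124435) L176476
theorem L176480 : sm gg N22599 = N18578 := ded_17_2 (flp_b L143371) L103290 L130492 L124431 L176476
theorem L176482 : sm ga N19834 = N22599 := ded_9_3 L176478 L157073 L157091
theorem L176484 : sm gf N17357 = N22600 := rfl
theorem L176486 : sm ga N22600 = N19835 := ded_11_1 (flp_f L157093) (flp_a L157073) L176484
theorem L176488 : sm gc N22600 = N19833 := ded_20_1 (flp_f L157063) (flp_c L157075) L176484
theorem L176490 : sm gg N22600 = N20957 := ded_29_3 (flp_a L165238) (flp_f L176412) L176414 L176484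
theorem L176492 : sm ge N17358 = N22601 := rfl
theorem L176494 : sm gb N22601 = N22484 := ded_15_1 (flp_e L175619) (flp_b L124463) L176492
theorem L176496 : sm gc N22601 = N22596 := ded_19_1 L176456 L142453 L176492
theorem L176498 : sm gg N17358 = N22602 := rfl
theorem L176500 : sm ga N22602 = N17437 := ded_12_1 (flp_g L148850) L142449 L176498
theorem L176502 : sm gc N22602 = N17428 := ded_21_1 (flp_g L147144) L142453 L176498
theorem L176504 : sm gd N22602 = N17361 := ded_24_1 (flp_g L124475) L124461 L176498
theorem L176506 : sm gf N17426 = N22602 := ded_29_0 (flp_g L176498) (flp_f L148848) (flp_g L124868) (flp_a L124812)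
theorem L176508 : sm gd N17359 = N22603 := rfl
theorem L176510 : sm gb N22603 = N22486 := ded_14_1 (flp_d L175625) (flp_b L124467) L176508
theorem L176512 : sm gf N17359 = N22604 := rfl
theorem L176514 : sm gc N22604 = N17363 := ded_20_1 (flp_f L124485) (flp_c L124469) L176512
theorem L176516 : sm ge N22604 = N17360 := ded_25_1 (flp_f L124471) L124465 L176512
theorem L176518 : sm gb N22604 = N18852 := ded_16_1 (flp_f L144957) L144945 (flp_f L144951) (flp_b L124467) L176512
theorem L176520 : sm gg N17359 = N22605 := rfl
theorem L176522 : sm gc N22605 = N17364 := ded_21_1 (flp_g L124489) (flp_c L124469) L176520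
theorem L176524 : sm ge N22605 = N17361 := ded_26_1 (flp_g L124475) L124465 L176520
theorem L176526 : sm gb N17361 = N22606 := rfl
theorem L176528 : sm gc N22606 = N18226 := ded_13_2 (flp_b L129002) (flp_c L102835) L119053 (flp_c L124477) L176526
theorem L176530 : sm gg N22606 = N22488 := ded_17_2 (flp_b L175633) (flp_g L123606) (flp_b L99167) L124475 L176526
theorem L176532 : sm gc N17362 = N22607 := rfl
theorem L176534 : sm ga N22607 = N22601 := ded_8_1 L176496 L176454 L176532
theorem L176536 : sm ge N22607 = N17367 := ded_19_2 (flp_c L124507) (flp_e L124483) L176532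
theorem L176538 : sm gf N17362 = N22608 := rfl
theorem L176540 : sm ga N22608 = N17441 := ded_11_1 (flp_f L176458) L176454 L176538
theorem L176542 : sm gd N22608 = N17363 := ded_23_1 (flp_f L124485) L124479 L176538
theorem L176544 : sm ge N22608 = N17368 := ded_25_1 (flp_f L124509) (flp_e L124483) L176538
theorem L176546 : sm gg N22608 = N17427 := ded_29_3 L124816 L124878 (flp_g L148852) L176538
theorem L176548 : sm gg N17363 = N22609 := rfl
theorem L176550 : sm ga N22609 = N17439 := ded_12_1 (flp_g L176468) L176462 L176548
theorem L176552 : sm gd N22609 = N17427 := ded_24_1 (flp_g L176546) L176542 L176548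
theorem L176554 : sm ge N22609 = N17365 := ded_26_1 (flp_g L124493) (flp_e L124487) L176548
theorem L176556 : sm gf N22598 = N22609 := ded_29_0 (flp_g L176548) (flp_f L124485) L124489 (flp_a L176472)
theorem L176558 : sm gf N17367 = N22610 := rfl
theorem L176560 : sm ga N22610 = N17438 := ded_11_1 L148848 (flp_a L142449) L176558
theorem L176562 : sm gc N22610 = N17368 := ded_20_1 (flp_f L124509) L124507 L176558
theorem L176564 : sm gd N22610 = N22594 := ded_23_1 (flp_f L176434) (flp_d L142451) L176558
theorem L176566 : sm gg N22610 = N17426 := ded_29_3 L124812 L124864 (flp_g L148850) L176558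
theorem L176568 : sm gf N17372 = N22611 := rfl
theorem L176570 : sm gc N22611 = N20518 := ded_20_1 (flp_f L161418) (flp_c L163151) L176568
theorem L176572 : sm gd N22611 = N21992 := ded_23_1 (flp_f L172083) L171976 L176568
theorem L176574 : sm ge N22611 = N17424 := ded_25_1 (flp_f L124806) (flp_e L147418) L176568
theorem L176576 : sm gg N22611 = N18530 := ded_29_3 (flp_a L163407) (flp_f L161472) (flp_g L163153) L176568
theorem L176578 : sm gb N22611 = N22600 := ded_16_1 (flp_f L176484) (flp_b L124459) L99201 L124537 L176568
theorem L176580 : sm ga N17382 = N22612 := rfl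
theorem L176582 : sm gc N22612 = N19454 := ded_8_2 (flp_a L154270) (flp_c L124588) L176580
theorem L176584 : sm gd N22612 = N20528 := ded_9_2 (flp_a L163846) (flp_d L124586) L176580
theorem L176586 : sm ge N22612 = N19407 := ded_10_2 (flp_a L153966) L142696 L176580
theorem L176588 : sm gb N22612 = N20527 := ded_7_2 L161456 (flp_b L150936) L122244 (flp_b L122128) L163850 (flp_b L99269) (flp_a L99237) L124584 L176580
theorem L176590 : sm gf N17382 = N22613 := rfl
theorem L176592 : sm gc N22613 = N19456 := ded_20_1 (flp_f L154276) (flp_c L124588) L176590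
theorem L176594 : sm gd N22613 = N22527 := ded_23_1 (flp_f L175907) (flp_d L124586) L176590
theorem L176596 : sm ge N22613 = N19409 := ded_25_1 (flp_f L153972) L142696 L176590
theorem L176598 : sm gb N22613 = N19421 := ded_16_1 (flp_f L154061) L106424 L133423 L124584 L176590
theorem L176600 : sm gg N17382 = N22614 := rfl
theorem L176602 : sm gc N22614 = N19457 := ded_21_1 (flp_g L154282) (flp_c L124588) L176600
theorem L176604 : sm gd N22614 = N22528 := ded_24_1 (flp_g L175911) (flp_d L124586) L176600
theorem L176606 : sm ge N22614 = N19410 := ded_26_1 (flp_g L153976) L142696 L176600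
theorem L176608 : sm gb N22614 = N17391 := ded_17_1 (flp_g L124628) (flp_b L99269) (flp_g L99241) L124584 L176600
theorem L176610 : sm ge N17385 = N22615 := rfl
theorem L176612 : sm ga N22615 = N20808 := ded_10_1 (flp_e L164101) L133651 L176610
theorem L176614 : sm gf N22615 = N21022 := ded_25_2 L165736 (flp_f L124606) L176610
theorem L176616 : sm gg N22615 = N20924 := ded_26_2 (flp_e L165007) (flp_g L142704) L176610
theorem L176618 : sm gd N22615 = N20813 := ded_22_1 (flp_e L164135) (flp_d L113194) (flp_e L141140) L124604 L176610
theorem L176620 : sm gg N17389 = N22616 := rfl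
theorem L176622 : sm ga N22616 = N20859 := ded_12_1 L173210 L173204 L176620
theorem L176624 : sm gc N22616 = N20812 := ded_21_1 (flp_g L164131) (flp_c L142808) L176620
theorem L176626 : sm ge N22616 = N17391 := ded_26_1 (flp_g L124628) L124620 L176620
theorem L176628 : sm gf N20858 = N22616 := ded_29_0 (flp_g L176620) L164532 (flp_g L164524) L164514
theorem L176630 : sm gb N22616 = N19410 := ded_17_1 (flp_g L153976) (flp_b L106366) (flp_g L141151) (flp_b L124622) L176620
theorem L176632 : sm ga N17394 = N22617 := rfl
theorem L176634 : sm gc N22617 = N17812 := ded_8_2 L142764 (flp_c L124646) L176632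
theorem L176636 : sm ge N22617 = N17812 := ded_10_2 L142764 (flp_e L142036) L176632
theorem L176638 : sm gd N22518 = N22617 := ded_28_7 (flp_a L176632) L124646 (flp_d L126728) (flp_c L174456) L174458 (flp_c L174515) L174517 (flp_c L175851)
theorem L176640 : sm gb N22617 = N17735 := ded_7_2 L148868 L163254 (flp_a L161406) (flp_b L163417) (flp_a L124664) (flp_b L99303) (flp_a L99289) L124644 L176632
theorem L176642 : sm gf N22617 = N17394 := ded_30_4 L124646 (flp_b L100519) L87002 (flp_f L86996) (flp_c L86992) L86988 L141986 (flp_f L90299) (flp_c L129619) (flp_b L103632) L88916 L88948 L88950 (flp_b L86178) L86174 (flp_f L86162) L99287 L124644 L176632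
theorem L176644 : sm gg N22617 = N22517 := ded_24_2 (flp_d L175846) L175849 L176638
theorem L176646 : sm gd N17394 = N22618 := rfl
theorem L176648 : sm ga N22618 = N22518 := ded_9_1 L176638 (flp_a L176632) L176646
theorem L176650 : sm gb N22618 = N17395 := ded_14_1 (flp_d L124648) L124644 L176646
theorem L176652 : sm gf N22618 = N22518 := ded_23_2 L176638 L176642 L176646
theorem L176654 : sm gc N22364 = N22618 := ded_28_0 (flp_d L176646) L124646 (flp_d L126728) (flp_c L174456) L174458 (flp_c L174515) L174517 (flp_a L174777)
theorem L176656 : sm gg N22516 = N22618 := ded_12_0 L176648 (flp_g L175849) (flp_a L175835)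
theorem L176658 : sm gg N17394 = N22619 := rfl
theorem L176660 : sm ga N22619 = N22517 := ded_12_1 (flp_g L176644) (flp_a L176632) L176658
theorem L176662 : sm gc N22619 = N17828 := ded_21_1 (flp_g L126732) (flp_c L124646) L176658
theorem L176664 : sm gd N22619 = N22516 := ded_24_1 L176656 (flp_d L176646) L176658
theorem L176666 : sm ge N22619 = N17828 := ded_26_1 (flp_g L126732) (flp_e L142036) L176658
theorem L176668 : sm gf N22619 = N22619 := ded_29_0 (flp_g L176658) (flp_f L176642) L176644 (flp_a L176660)
theorem L176669 : sm gb N22619 = N21007 := ded_17_1 (flp_g L165624) (flp_b L114666) (flp_g L142034) L124644 L176658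
theorem L176671 : sm ge N17395 = N22620 := rfl
theorem L176673 : sm ga N22620 = N17403 := ded_10_1 (flp_e L124696) (flp_a L124650) L176671
theorem L176675 : sm gc N22620 = N22615 := ded_19_1 (flp_e L176610) (flp_c L124654) L176671
theorem L176677 : sm gf N22620 = N17738 := ded_25_2 (flp_e L126372) (flp_f L124652) L176671
theorem L176679 : sm gg N22620 = N21008 := ded_26_2 (flp_e L165632) (flp_g L141018) L176671
theorem L176681 : sm gd N22620 = N17825 := ded_22_1 L126722 L100515 (flp_e L142032) L124648 L176671
theorem L176683 : sm gf N17397 = N22621 := rfl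
theorem L176685 : sm ga N22621 = N17400 := ded_11_1 (flp_f L124678) L124664 L176683
theorem L176687 : sm gc N22621 = N17413 := ded_20_1 (flp_f L124750) (flp_c L124666) L176683
theorem L176689 : sm ge N22621 = N21027 := ded_25_1 (flp_f L165766) (flp_e L142716) L176683
theorem L176691 : sm gg N17397 = N22622 := rfl
theorem L176693 : sm ga N22622 = N17401 := ded_12_1 (flp_g L124682) L124664 L176691
theorem L176695 : sm gc N22622 = N17414 := ded_21_1 (flp_g L124756) (flp_c L124666) L176691
theorem L176697 : sm gd N22622 = N22556 := ded_24_1 (flp_g L176097) L163501 L176691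
theorem L176699 : sm ge N22622 = N19910 := ded_26_1 L157577 (flp_e L142716) L176691
theorem L176701 : sm gb N22622 = N19890 := ded_17_1 L157415 L163184 (flp_g L161408) (flp_b L163417) L176691
theorem L176703 : sm gc N17398 = N22623 := rfl
theorem L176705 : sm ga N22623 = N22557 := ded_8_1 L176101 (flp_a L163600) L176703
theorem L176707 : sm gg N22623 = N20539 := ded_21_2 (flp_c L162190) L163748 L176703
theorem L176709 : sm gb N22623 = N22390 := ded_13_1 L174922 L164037 (flp_c L141006) (flp_b L124670) L176703
theorem L176711 : sm ge N17398 = N22624 := rfl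
theorem L176713 : sm gb N22624 = N17403 := ded_15_1 (flp_e L124696) (flp_b L124670) L176711
theorem L176715 : sm gd N22624 = N21023 := ded_22_1 L165742 L114750 L136778 L124668 L176711
theorem L176717 : sm gf N17398 = N22625 := rfl
theorem L176719 : sm gd N22625 = N17400 := ded_23_1 (flp_f L124678) L124668 L176717
theorem L176721 : sm gg N17400 = N22626 := rfl
theorem L176723 : sm gc N22626 = N17418 := ded_21_1 (flp_g L124778) (flp_c L124680) L176721
theorem L176725 : sm ge N22626 = N21028 := ded_26_1 (flp_g L165772) (flp_e L142718) L176721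
theorem L176727 : sm gf N22622 = N22626 := ded_29_0 (flp_g L176721) (flp_f L124678) L124682 (flp_a L176693)
theorem L176729 : sm gf N17401 = N22627 := rfl
theorem L176731 : sm ga N22627 = N22626 := ded_11_1 (flp_f L176727) L176693 L176729
theorem L176733 : sm gc N22627 = N17419 := ded_20_1 (flp_f L124784) (flp_c L124684) L176729
theorem L176735 : sm ge N22627 = N21000 := ded_25_1 (flp_f L165578) (flp_e L142720) L176729
theorem L176737 : sm gg N22627 = N22621 := ded_29_3 L176685 (flp_f L124678) L124682 L176729
theorem L176739 : sm gb N17404 = N22628 := rfl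
theorem L176741 : sm gd N22628 = N17409 := ded_14_2 (flp_b L124736) (flp_d L124704) L176739
theorem L176743 : sm gg N22628 = N20105 := ded_17_2 L173172 (flp_g L173246) L173248 L124706 L176739
theorem L176745 : sm gf N17412 = N22629 := rfl
theorem L176747 : sm ga N22629 = N17416 := ded_11_1 (flp_f L124768) (flp_a L124748) L176745
theorem L176749 : sm gc N22629 = N21027 := ded_20_1 (flp_f L165766) (flp_c L137024) L176745
theorem L176751 : sm gd N22629 = N18633 := ded_23_1 L143699 (flp_d L149748) L176745
theorem L176753 : sm ge N22629 = N17413 := ded_25_1 (flp_f L124750) L124746 L176745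
theorem L176755 : sm gb N22629 = N18560 := ded_16_1 (flp_f L143287) L103220 (flp_f L118996) L149025 L176745
theorem L176757 : sm gb N17413 = N22630 := rfl
theorem L176759 : sm gd N22630 = N21977 := ded_14_2 L171988 (flp_d L124754) L176757
theorem L176761 : sm ge N22630 = N18560 := ded_15_2 (flp_b L176755) L176753 L176757
theorem L176763 : sm gf N22630 = N18534 := ded_16_2 L143137 (flp_f L108779) L148864 L124750 L176757
theorem L176765 : sm gg N22630 = N20531 := ded_17_2 L163274 (flp_g L142907) L149630 L124790 L176757
theorem L176767 : sm ga N22630 = N22611 := ded_7_1 L176578 L176486 L162887 L162877 (flp_b L158676) L109784 (flp_b L99355) (flp_a L124752) L176757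
theorem L176769 : sm gc N20533 = N22630 := ded_30_1 (flp_b L176757) L124752 (flp_f L99351) (flp_c L99305) (flp_b L99303) (flp_a L99289) L99291 (flp_c L86902) (flp_b L29229) L14097 L14101 (flp_c L29213) L86892 L100325 (flp_f L148766) L125739 L163254 (flp_a L161406) L161486
theorem L176771 : sm gc N17415 = N22631 := rfl
theorem L176773 : sm ge N22631 = N22561 := ded_19_2 (flp_c L176127) (flp_e L124766) L176771
theorem L176775 : sm gf N22631 = N19076 := ded_20_2 L151680 L151580 L176771
theorem L176777 : sm gb N22631 = N18502 := ded_13_1 L142955 L147407 L137031 (flp_b L124764) L176771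
theorem L176779 : sm gd N22631 = N21000 := ded_28_7 (flp_a L165774) L165776 L165754 (flp_c L165748) L114750 (flp_c L137004) L124762 L176771
theorem L176781 : sm gg N17415 = N22632 := rfl
theorem L176783 : sm ga N22632 = N19909 := ded_12_1 L157571 L150848 L176781
theorem L176785 : sm gd N22632 = N17417 := ded_24_1 (flp_g L124774) L124762 L176781
theorem L176787 : sm ge N22632 = N22563 := ded_26_1 (flp_g L176137) (flp_e L124766) L176781
theorem L176789 : sm gb N22632 = N18503 := ded_17_1 (flp_g L142957) L147407 L137037 (flp_b L124764) L176781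
theorem L176791 : sm gf N17417 = N22633 := rfl
theorem L176793 : sm ga N22633 = N19911 := ded_11_1 (flp_f L157581) L150850 L176791
theorem L176795 : sm gc N22633 = N21000 := ded_20_1 (flp_f L165578) (flp_c L137015) L176791
theorem L176797 : sm ge N22633 = N17419 := ded_25_1 (flp_f L124784) (flp_e L124776) L176791
theorem L176799 : sm gg N22633 = N22629 := ded_29_3 L176747 (flp_f L124768) L124774 L176791
theorem L176801 : sm gb N22633 = N20763 := ded_16_1 L162863 (flp_b L165598) (flp_f L165586) L137017 L176791
theorem L176803 : sm gd N17421 = N22634 := rfl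
theorem L176805 : sm gb N22634 = N17743 := ded_14_1 (flp_d L126390) (flp_b L124796) L176803
theorem L176807 : sm gg N22634 = N20227 := ded_24_2 L159607 (flp_g L163170) L176803
theorem L176809 : sm ge N22634 = N20220 := ded_22_2 (flp_d L159569) L110453 L111675 (flp_e L163168) L176803
theorem L176811 : sm gf N17421 = N22635 := rfl
theorem L176813 : sm gc N22635 = N17424 := ded_20_1 (flp_f L124806) L124794 L176811
theorem L176815 : sm ge N22635 = N20518 := ded_25_1 (flp_f L161418) (flp_e L163168) L176811
theorem L176817 : sm gg N22635 = N18552 := ded_29_3 (flp_a L163268) (flp_f L161476) (flp_g L163170) L176811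
theorem L176819 : sm gb N17424 = N22636 := rfl
theorem L176821 : sm gd N22636 = N18619 := ded_14_2 (flp_b L143619) (flp_d L147247) L176819
theorem L176823 : sm ge N22636 = N22600 := ded_15_2 (flp_b L176578) L176574 L176819
theorem L176825 : sm gf N22636 = N17433 := ded_16_2 (flp_b L124850) (flp_f L99381) L99369 L124806 L176819
theorem L176827 : sm gg N22636 = N18554 := ded_17_2 (flp_b L143245) (flp_g L103200) L103194 (flp_g L147249) L176819
theorem L176829 : sm ga N22636 = N19838 := ded_7_1 L162873 L162867 L149510 (flp_a L109093) L147753 (flp_a L176747) L176755 (flp_a L147245) L176819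
theorem L176831 : sm gc N19837 = N22636 := ded_30_1 (flp_b L176819) L147245 (flp_f L143287) (flp_c L143285) L149664 (flp_a L114752) L114754 (flp_c L137022) (flp_b L147753) L109093 (flp_f L108539) (flp_c L91692) (flp_b L44014) (flp_a L43984) L44012 (flp_c L44024) L91700 L108551 (flp_f L157111)
theorem L176833 : sm gb N17426 = N22637 := rfl
theorem L176835 : sm gd N22637 = N20847 := ded_14_2 L164442 L136990 L176833
theorem L176837 : sm gc N22637 = N22182 := ded_13_2 L173403 L143655 L147179 L124810 L176833
theorem L176839 : sm gg N22174 = N22637 := ded_21_0 L176837 (flp_g L173399) (flp_c L173365)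
theorem L176841 : sm ge N17426 = N22638 := rfl
theorem L176843 : sm ga N22638 = N17436 := ded_10_1 (flp_e L124858) (flp_a L124812) L176841
theorem L176845 : sm gc N22638 = N17427 := ded_19_1 (flp_e L124814) L124810 L176841
theorem L176847 : sm gf N17427 = N22639 := rfl
theorem L176849 : sm ga N22639 = N17440 := ded_11_1 (flp_f L124878) (flp_a L124816) L176847
theorem L176851 : sm gd N22639 = N22598 := ded_23_1 L176556 L176552 L176847
theorem L176853 : sm ge N22639 = N17428 := ded_25_1 (flp_f L124818) L124814 L176847
theorem L176855 : sm gg N22639 = N22596 := ded_29_3 L176454 L176538 L176546 L176847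
theorem L176857 : sm gb N17428 = N22640 := rfl
theorem L176859 : sm gd N22640 = N17433 := ded_14_2 (flp_b L124850) (flp_d L124822) L176857
theorem L176861 : sm gf N22640 = N18619 := ded_16_2 (flp_b L143619) (flp_f L103376) L147179 L124818 L176857
theorem L176863 : sm ga N22640 = N19841 := ded_7_1 L157137 L176482 (flp_b L176476) L124433 (flp_b L119053) L102833 L147467 (flp_a L124820) L176857
theorem L176865 : sm gg N17433 = N22641 := rfl
theorem L176867 : sm ga N22641 = N19842 := ded_12_1 (flp_g L157139) L157077 L176865
theorem L176869 : sm gc N22641 = N19840 := ded_21_1 (flp_g L157125) L157079 L176865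
theorem L176871 : sm ge N22641 = N22591 := ded_26_1 L176414 (flp_e L149041) L176865
theorem L176873 : sm gf N20872 = N22641 := ded_29_0 (flp_g L176865) (flp_f L176825) L176827 L164627
theorem L176875 : sm gb N22641 = N22590 := ded_17_1 (flp_g L176396) L124411 L146898 L124850 L176865
theorem L176877 : sm ge N17435 = N22642 := rfl
theorem L176879 : sm gb N22642 = N22543 := ded_15_1 (flp_e L176013) (flp_b L124856) L176877
theorem L176881 : sm gc N22642 = N22609 := ded_19_1 L176554 L147258 L176877
theorem L176883 : sm gg N22642 = N22604 := ded_26_2 L176516 (flp_g L148876) L176877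
theorem L176885 : sm gd N17436 = N22643 := rfl
theorem L176887 : sm gb N22643 = N22545 := ded_14_1 (flp_d L176019) (flp_b L124860) L176885
theorem L176889 : sm gf N17436 = N22644 := rfl
theorem L176891 : sm gc N22644 = N17440 := ded_20_1 (flp_f L124878) (flp_c L124862) L176889
theorem L176893 : sm ge N22644 = N17437 := ded_25_1 (flp_f L124864) L124858 L176889
theorem L176895 : sm gg N22607 = N22644 := ded_21_0 L176891 (flp_g L148852) L176532
theorem L176897 : sm gg N17436 = N22645 := rfl
theorem L176899 : sm gc N22645 = N17441 := ded_21_1 (flp_g L124882) (flp_c L124862) L176897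
theorem L176901 : sm ge N22645 = N17438 := ded_26_1 (flp_g L124868) L124858 L176897
theorem L176903 : sm gf N22601 = N22645 := ded_29_0 (flp_g L176897) L176889 (flp_g L176895) L176534
theorem L176905 : sm gb N22645 = N18899 := ded_17_1 (flp_g L145216) L145208 (flp_g L151546) (flp_b L124860) L176897
theorem L176907 : sm gb N17437 = N22646 := rfl
theorem L176909 : sm gc N22646 = N18230 := ded_13_2 (flp_b L129020) (flp_c L102823) L147467 (flp_c L124866) L176907
theorem L176911 : sm gf N22646 = N22547 := ded_16_2 (flp_b L176027) (flp_f L124071) (flp_b L99395) L124864 L176907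
theorem L176913 : sm gc N17439 = N22647 := rfl
theorem L176915 : sm ga N22647 = N22642 := ded_8_1 L176881 L176550 L176913
theorem L176917 : sm ge N22647 = N17444 := ded_19_2 (flp_c L124900) (flp_e L124876) L176913
theorem L176919 : sm gf N22647 = N22605 := ded_20_2 L176522 L148880 L176913
theorem L176921 : sm gf N17531 = N22648 := rfl
theorem L176923 : sm gc N22648 = N17533 := ded_20_1 (flp_f L125410) L125404 L176921
theorem L176925 : sm gd N22648 = N19871 := ded_23_1 L157301 (flp_d L163465) L176921
theorem L176927 : sm ge N22648 = N17569 := ded_25_1 (flp_f L125584) (flp_e L142406) L176921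
theorem L176929 : sm gg N17547 = N22648 := ded_29_1 (flp_f L176921) L149654 L125532 (flp_f L125489)
theorem L176931 : sm gb N22648 = N19875 := ded_16_1 L157317 L108709 (flp_f L111823) (flp_b L163463) L176921
theorem L176933 : sm gb N17546 = N22649 := rfl
theorem L176935 : sm gd N22649 = N17601 := ded_14_2 (flp_b L125717) (flp_d L125483) L176933
theorem L176937 : sm ge N22649 = N17601 := ded_15_2 (flp_b L125717) (flp_e L134486) L176933
theorem L176939 : sm gc N17546 = N22650 := rfl
theorem L176941 : sm ga N22650 = N17547 := ded_8_1 (flp_c L125487) L125481 L176939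
theorem L176943 : sm ge N22650 = N17602 := ded_19_2 (flp_c L125719) (flp_e L134486) L176939
theorem L176945 : sm gf N22650 = N17556 := ded_20_2 (flp_c L125530) (flp_f L125485) L176939
theorem L176947 : sm gd N17547 = N22651 := rfl
theorem L176949 : sm gb N22651 = N22389 := ded_14_1 (flp_d L174926) L164045 L176947
theorem L176951 : sm gf N22651 = N17558 := ded_23_2 (flp_d L125542) (flp_f L125489) L176947
theorem L176953 : sm gg N22651 = N19871 := ded_24_2 (flp_d L176925) (flp_g L176929) L176947
theorem L176955 : sm gc N19872 = N22651 := ded_13_0 L176949 (flp_c L174912) L174910 (flp_c L174962) L158155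
theorem L176957 : sm ga N17555 = N22652 := rfl
theorem L176959 : sm gd N22652 = N17625 := ded_9_2 (flp_a L125818) (flp_d L125528) L176957
theorem L176961 : sm ge N22652 = N17625 := ded_10_2 (flp_a L125818) (flp_e L134536) L176957
theorem L176963 : sm gg N22652 = N17759 := ded_12_2 (flp_a L126458) (flp_g L148687) L176957
theorem L176965 : sm gf N22652 = N17804 := ded_29_0 (flp_g L126636) (flp_f L148759) (flp_g L148687) L176957
theorem L176967 : sm gb N22652 = N17625 := ded_7_2 (flp_a L125818) (flp_b L100027) (flp_a L86711) (flp_b L29097) (flp_a L29045) L86645 L99901 L125526 L176957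
theorem L176969 : sm gc N17555 = N22653 := rfl
theorem L176971 : sm ge N22653 = N17626 := ded_19_2 (flp_c L125820) (flp_e L134536) L176969
theorem L176973 : sm gg N22653 = N17760 := ded_21_2 (flp_c L126460) (flp_g L148687) L176969
theorem L176975 : sm gd N19649 = N22653 := ded_24_3 L176973 (flp_d L157089) L155739
theorem L176977 : sm gf N22653 = N19635 := ded_23_2 L155646 L155735 L176975
theorem L176979 : sm gf N17555 = N22654 := rfl
theorem L176981 : sm ga N22654 = N17804 := ded_11_1 (flp_f L176965) (flp_a L176957) L176979
theorem L176983 : sm gc N22654 = N19635 := ded_20_1 (flp_f L176977) (flp_c L176969) L176979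
theorem L176985 : sm gd N22654 = N17627 := ded_23_1 (flp_f L125822) (flp_d L125528) L176979
theorem L176987 : sm ge N22654 = N17627 := ded_25_1 (flp_f L125822) (flp_e L134536) L176979
theorem L176989 : sm gg N22654 = N17801 := ded_29_3 (flp_a L126630) (flp_f L148759) (flp_g L148687) L176979
theorem L176991 : sm gb N17556 = N22655 := rfl
theorem L176993 : sm gd N22655 = N19610 := ded_14_2 L161637 L163562 L176991
theorem L176995 : sm ge N22655 = N17629 := ded_15_2 (flp_b L125826) (flp_e L134519) L176991
theorem L176997 : sm ga N19612 = N22655 := ded_9_3 L176993 L155429 L155447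
theorem L176999 : sm ge N17558 = N22656 := rfl
theorem L177001 : sm gb N22656 = N17562 := ded_15_1 (flp_e L125560) (flp_b L125544) L176999
theorem L177003 : sm gd N22656 = N17634 := ded_22_1 (flp_e L125844) (flp_d L100039) L134558 L125542 L176999
theorem L177005 : sm gf N17559 = N22657 := rfl
theorem L177007 : sm ga N22657 = N22648 := ded_11_1 (flp_f L176921) L149670 L177005
theorem L177009 : sm gc N22657 = N17560 := ded_20_1 (flp_f L125550) (flp_c L125548) L177005
theorem L177011 : sm ge N22657 = N17637 := ded_25_1 (flp_f L125856) (flp_e L134547) L177005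
theorem L177013 : sm gg N22657 = N22650 := ded_29_3 L176941 L125489 L125546 L177005
theorem L177015 : sm gb N17560 = N22658 := rfl
theorem L177017 : sm gd N22658 = N17638 := ded_14_2 (flp_b L125864) (flp_d L125554) L177015
theorem L177019 : sm ge N22658 = N17638 := ded_15_2 (flp_b L125864) (flp_e L134478) L177015
theorem L177021 : sm gf N22658 = N17638 := ded_16_2 (flp_b L125864) (flp_f L100047) (flp_b L99913) L125550 L177015
theorem L177023 : sm ge N17567 = N22659 := rfl
theorem L177025 : sm gb N22659 = N20254 := ded_15_1 (flp_e L176386) L176382 L177023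
theorem L177027 : sm gd N22659 = N20250 := ded_22_1 L159745 (flp_d L163465) L142406 L125578 L177023
theorem L177029 : sm gf N17567 = N22660 := rfl
theorem L177031 : sm gd N22660 = N17569 := ded_23_1 (flp_f L125584) L125578 L177029
theorem L177033 : sm gg N17603 = N22660 := ded_29_1 (flp_f L177029) L149666 L125830 (flp_f L125727)
theorem L177035 : sm gb N17569 = N22661 := rfl
theorem L177037 : sm ge N22661 = N19875 := ded_15_2 (flp_b L176931) L176927 L177035
theorem L177039 : sm gf N22661 = N19884 := ded_16_2 L157357 (flp_f L163324) L124403 L125584 L177035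
theorem L177041 : sm gg N22661 = N19861 := ded_17_2 L164099 (flp_g L164091) L113168 (flp_g L148800) L177035
theorem L177043 : sm gc N19853 = N22661 := ded_21_3 L177041 (flp_c L157241) (flp_g L157207)
theorem L177045 : sm gc N17574 = N22662 := rfl
theorem L177047 : sm ge N22662 = N17746 := ded_19_2 L126402 (flp_e L148813) L177045
theorem L177049 : sm gf N22662 = N17584 := ded_20_2 (flp_c L125648) (flp_f L125606) L177045
theorem L177051 : sm gg N22662 = N17607 := ded_21_2 (flp_c L125739) (flp_g L148815) L177045
theorem L177053 : sm gb N22662 = N19853 := ded_13_1 L177043 (flp_b L177035) L125586 L125604 L177045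
theorem L177055 : sm gd N19849 = N22662 := ded_24_3 L177051 L163256 (flp_g L157191)
theorem L177057 : sm gb N17583 = N22663 := rfl
theorem L177059 : sm gd N22663 = N17780 := ded_14_2 (flp_b L126539) (flp_d L147055) L177057
theorem L177061 : sm ge N22663 = N17780 := ded_15_2 (flp_b L126539) (flp_e L147057) L177057
theorem L177063 : sm gc N17583 = N22664 := rfl
theorem L177065 : sm ga N22664 = N17584 := ded_8_1 (flp_c L125648) L125646 L177063
theorem L177067 : sm ge N22664 = N17781 := ded_19_2 (flp_c L126541) (flp_e L147057) L177063
theorem L177069 : sm gg N22664 = N17732 := ded_21_2 (flp_c L126342) (flp_g L147061) L177063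
theorem L177071 : sm gd N17584 = N22665 := rfl
theorem L177073 : sm gb N22665 = N22184 := ded_14_1 (flp_d L173433) L164460 L177071
theorem L177075 : sm gf N22665 = N19849 := ded_23_2 L177055 L177049 L177071
theorem L177077 : sm gg N22665 = N17734 := ded_24_2 (flp_d L126354) (flp_g L147053) L177071
theorem L177079 : sm gc N19850 = N22665 := ded_13_0 L177073 (flp_c L173411) L173405 (flp_c L173409) L157849
theorem L177081 : sm gb N17586 = N22666 := rfl
theorem L177083 : sm ga N22666 = N22666 := ded_7_1 (flp_b L177081) (flp_a L125652) (flp_b L99951) L86669 L29087 (flp_a L86669) L99951 L125652 L177081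
theorem L177084 : sm gc N17586 = N22667 := rfl
theorem L177086 : sm ga N22667 = N17587 := ded_8_1 (flp_c L125654) L125652 L177084
theorem L177088 : sm gd N19855 = N22667 := ded_9_0 L177086 L157085 L157213
theorem L177090 : sm gf N17586 = N22668 := rfl
theorem L177092 : sm ga N22668 = N17588 := ded_11_1 (flp_f L125656) L125652 L177090
theorem L177094 : sm gd N22668 = N17801 := ded_23_1 L149656 (flp_d L148842) L177090
theorem L177096 : sm ge N22668 = N17801 := ded_25_1 L149656 (flp_e L148844) L177090
theorem L177098 : sm gg N17627 = N22668 := ded_29_1 (flp_f L177090) (flp_g L149676) (flp_a L125818) L125822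
theorem L177100 : sm gb N22668 = N17801 := ded_31_2 (flp_g L176989) (flp_f L176979) (flp_b L125526) L148685 L125410 (flp_b L148692) (flp_g L100355) (flp_f L148736) L100451 L126636 (flp_f L176965) L176967 L149676 L177090
theorem L177102 : sm gf N17587 = N22669 := rfl
theorem L177104 : sm gc N22669 = N17588 := ded_20_1 (flp_f L125656) L125654 L177102
theorem L177106 : sm gd N22669 = N19658 := ded_23_1 (flp_f L155785) (flp_d L157085) L177102
theorem L177108 : sm ge N22669 = N17802 := ded_25_1 L149658 (flp_e L148846) L177102
theorem L177110 : sm gg N19640 = N22669 := ded_24_0 L177106 (flp_g L155781) (flp_d L155682)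
theorem L177112 : sm gg N17588 = N22670 := rfl
theorem L177114 : sm ga N22670 = N17627 := ded_12_1 L177098 L177092 L177112
theorem L177116 : sm gc N22670 = N19640 := ded_21_1 L177110 L177104 L177112
theorem L177118 : sm gd N22670 = N17804 := ded_24_1 (flp_g L126636) (flp_d L148750) L177112
theorem L177120 : sm ge N22670 = N17804 := ded_26_1 (flp_g L126636) (flp_e L148752) L177112
theorem L177122 : sm gf N17625 = N22670 := ded_29_0 (flp_g L177112) (flp_f L125656) L148838 L125818
theorem L177124 : sm ga N17601 = N22671 := rfl
theorem L177126 : sm gf N22671 = N17814 := ded_30_4 (flp_c L154736) (flp_b L154732) L107031 (flp_f L90828) (flp_c L90388) (flp_b L90386) (flp_a L90374) (flp_f L141149) L99283 (flp_b L142194) (flp_a L47105) (flp_f L82068) L29109 (flp_b L86715) (flp_a L100031) (flp_f L125723) (flp_c L125719) L125717 L177124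
theorem L177128 : sm gg N22649 = N22671 := ded_31_0 L177126 (flp_b L126676) (flp_g L100471) (flp_f L86964) (flp_b L29267) (flp_g L14116) L6898 L14109 L29256 (flp_f L147163) L99832 (flp_g L148685) (flp_f L125485) L176933
theorem L177130 : sm gc N17601 = N22672 := rfl
theorem L177132 : sm gf N17601 = N22673 := rfl
theorem L177134 : sm ga N22673 = N17814 := ded_11_1 (flp_f L177126) (flp_a L177124) L177132
theorem L177136 : sm gb N22673 = N17627 := ded_16_1 (flp_f L125822) (flp_b L100027) (flp_f L99986) L125717 L177132
theorem L177138 : sm gg N17601 = N22674 := rfl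
theorem L177140 : sm ga N22674 = N22649 := ded_12_1 L177128 (flp_a L177124) L177138
theorem L177142 : sm gd N22674 = N22671 := ded_24_1 (flp_g L177128) L176935 L177138
theorem L177144 : sm ge N22674 = N22671 := ded_26_1 (flp_g L177128) L176937 L177138
theorem L177146 : sm gb N17602 = N22675 := rfl
theorem L177148 : sm gg N22675 = N19378 := ded_17_2 (flp_b L153747) L153769 (flp_b L164051) L125862 L177146
theorem L177150 : sm gd N17602 = N22676 := rfl
theorem L177152 : sm ga N22676 = N17603 := ded_9_1 (flp_d L125725) (flp_a L125721) L177150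
theorem L177154 : sm gf N22676 = N17630 := ded_23_2 (flp_d L125828) (flp_f L125723) L177150
theorem L177156 : sm gc N17603 = N22677 := rfl
theorem L177158 : sm gf N22677 = N17633 := ded_20_2 (flp_c L125842) (flp_f L125727) L177156
theorem L177160 : sm gd N22677 = N20558 := ded_28_7 L161641 L176955 (flp_d L176947) (flp_c L125487) L99869 L99988 L125725 L177156
theorem L177162 : sm ge N17603 = N22678 := rfl
theorem L177164 : sm gf N22678 = N17634 := ded_25_2 (flp_e L125844) (flp_f L125727) L177162
theorem L177166 : sm gc N17625 = N22679 := rfl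
theorem L177168 : sm ga N22679 = N17626 := ded_8_1 (flp_c L125820) L125818 L177166
theorem L177170 : sm gf N22679 = N19640 := ded_20_2 (flp_c L177116) (flp_f L177122) L177166
theorem L177172 : sm gg N22679 = N22667 := ded_21_2 (flp_c L177084) (flp_g L149676) L177166
theorem L177174 : sm gd N19653 = N22679 := ded_9_0 L177168 (flp_d L157223) L157221
theorem L177176 : sm gb N19367 = N22679 := ded_16_5 L177170 (flp_b L155680) (flp_f L107673) L107665 (flp_f L153670)
theorem L177178 : sm gb N17626 = N22680 := rfl
theorem L177180 : sm gc N22680 = N17629 := ded_13_2 (flp_b L125826) (flp_c L100029) L100027 L125820 L177178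
theorem L177182 : sm gf N17626 = N22681 := rfl
theorem L177184 : sm ga N22681 = N19640 := ded_11_1 (flp_f L177170) L177168 L177182
theorem L177186 : sm gc N22681 = N17627 := ded_20_1 (flp_f L125822) L125820 L177182
theorem L177188 : sm gd N22681 = N19656 := ded_23_1 L157225 L157223 L177182
theorem L177190 : sm ge N22681 = N19635 := ded_25_1 (flp_f L176977) L176971 L177182
theorem L177192 : sm gb N22681 = N19626 := ded_31_2 (flp_g L155562) (flp_f L153548) L153546 L153568 (flp_f L153578) L153928 L153934 L157551 L157557 L157069 (flp_f L157063) (flp_b L157083) (flp_g L149678) L177182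
theorem L177194 : sm ga N17629 = N22682 := rfl
theorem L177196 : sm ge N22682 = N19612 := ded_10_2 L176997 L176995 L177194
theorem L177198 : sm gd N17629 = N22683 := rfl
theorem L177200 : sm gb N22683 = N17630 := ded_14_1 (flp_d L125828) L125826 L177198
theorem L177202 : sm gf N17629 = N22684 := rfl
theorem L177204 : sm gg N17629 = N22685 := rfl
theorem L177206 : sm gb N22685 = N22589 := ded_17_1 (flp_g L176388) L124403 (flp_g L148809) L125826 L177204
theorem L177208 : sm gc N17630 = N22686 := rfl
theorem L177210 : sm ga N22686 = N17633 := ded_8_1 (flp_c L125842) (flp_a L125830) L177208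
theorem L177212 : sm gg N22686 = N20550 := ded_21_2 L163564 L149666 L177208
theorem L177214 : sm gd N22686 = N20555 := ded_28_7 L161617 (flp_c L161635) L163562 (flp_c L125530) L99903 L100029 L125828 L177208
theorem L177216 : sm ge N17630 = N22687 := rfl
theorem L177218 : sm ga N22687 = N17634 := ded_10_1 (flp_e L125844) (flp_a L125830) L177216
theorem L177220 : sm gg N22687 = N22659 := ded_26_2 (flp_e L177023) L149666 L177216
theorem L177222 : sm ge N17633 = N22688 := rfl
theorem L177224 : sm gc N22688 = N17634 := ded_19_1 (flp_e L125844) L125842 L177222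
theorem L177226 : sm gg N22688 = N20549 := ded_26_2 L161597 (flp_g L163647) L177222
theorem L177228 : sm gg N17634 = N22689 := rfl
theorem L177230 : sm ga N22689 = N22659 := ded_12_1 (flp_g L177220) L177218 L177228
theorem L177232 : sm gc N22689 = N20549 := ded_21_1 (flp_g L177226) L177224 L177228
theorem L177234 : sm ge N22689 = N17635 := ded_26_1 (flp_g L125848) L125844 L177228
theorem L177236 : sm gb N17635 = N22690 := rfl
theorem L177238 : sm gd N22690 = N17636 := ded_14_2 (flp_b L125852) (flp_d L125850) L177236
theorem L177240 : sm gc N22690 = N18170 := ded_13_2 (flp_b L147687) L111785 L111795 (flp_c L163568) L177236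
theorem L177242 : sm gg N22690 = N17652 := ded_17_2 (flp_b L125928) (flp_g L100085) (flp_b L100041) L125848 L177236
theorem L177244 : sm ga N17652 = N22690 := ded_9_3 L177238 L149674 (flp_d L125930)
theorem L177246 : sm gf N18169 = N22690 := ded_20_0 L177240 (flp_f L128641) L128636
theorem L177248 : sm gf N17635 = N22691 := rfl
theorem L177250 : sm ga N22691 = N22660 := ded_11_1 (flp_f L177029) L149668 L177248
theorem L177252 : sm gc N22691 = N19869 := ded_20_1 L157293 (flp_c L163568) L177248
theorem L177254 : sm gd N22691 = N17637 := ded_23_1 (flp_f L125856) (flp_d L125850) L177248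
theorem L177256 : sm gg N22691 = N22676 := ded_29_3 L177152 L125727 L125848 L177248
theorem L177258 : sm gb N22691 = N18249 := ded_16_1 (flp_f L129123) (flp_b L128639) L177246 (flp_b L177236) L177248
theorem L177260 : sm gf N17636 = N22692 := rfl
theorem L177262 : sm ga N22692 = N17654 := ded_11_1 (flp_f L125934) (flp_a L149674) L177260
theorem L177264 : sm gc N22692 = N22458 := ded_20_1 (flp_f L176223) L176213 L177260
theorem L177266 : sm gd N22692 = N18169 := ded_23_1 L177246 L177238 L177260
theorem L177268 : sm ge N22692 = N22458 := ded_25_1 (flp_f L176223) L176215 L177260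
theorem L177270 : sm gg N22692 = N22692 := ded_29_3 L177262 (flp_f L125934) (flp_g L125854) L177260
theorem L177271 : sm gb N22692 = N18248 := ded_16_1 (flp_f L153777) (flp_b L164051) (flp_f L125856) L125852 L177260
theorem L177273 : sm ga N17638 = N22693 := rfl
theorem L177275 : sm gg N17638 = N22694 := rfl
theorem L177277 : sm gb N22694 = N22674 := ded_17_1 (flp_g L177138) (flp_b L125717) (flp_g L100051) L125864 L177275
theorem L177279 : sm gf N22694 = N22663 := ded_31_1 (flp_b L177057) L147061 (flp_f L148766) (flp_b L99994) (flp_g L86688) (flp_f L29083) (flp_b L14031) L6861 L14038 L29097 L86717 L100047 L125864 L177275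
theorem L177281 : sm ga N17780 = N22694 := ded_7_9 L177277 L177140 (flp_b L176933) (flp_a L125481) (flp_b L99867) L147132 L86935 L100411 L126539
theorem L177283 : sm gg N22693 = N17780 := ded_12_0 L177281 (flp_g L177275) L177273
theorem L177285 : sm gb N17804 = N22693 := ded_17_5 L177283 (flp_b L126539) L100413 L100451 L126636
theorem L177287 : sm ga N17646 = N22695 := rfl
theorem L177289 : sm gc N22695 = N17648 := ded_8_2 (flp_a L125912) (flp_c L125908) L177287
theorem L177291 : sm gd N22695 = N19977 := ded_9_2 L157973 (flp_d L142750) L177287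
theorem L177293 : sm ge N22695 = N18667 := ded_10_2 (flp_a L143899) (flp_e L142748) L177287
theorem L177295 : sm gg N22695 = N19917 := ded_12_2 (flp_a L157623) (flp_g L142746) L177287
theorem L177297 : sm gf N22695 = N19901 := ded_29_0 (flp_g L157617) L157615 (flp_g L142746) L177287
theorem L177299 : sm gf N17646 = N22696 := rfl
theorem L177301 : sm ga N22696 = N19901 := ded_11_1 (flp_f L177297) (flp_a L177287) L177299
theorem L177303 : sm gc N22696 = N17649 := ded_20_1 (flp_f L125914) (flp_c L125908) L177299
theorem L177305 : sm gd N22696 = N19979 := ded_23_1 (flp_f L157991) (flp_d L142750) L177299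
theorem L177307 : sm ge N22696 = N18668 := ded_25_1 (flp_f L143905) (flp_e L142748) L177299
theorem L177309 : sm gg N22696 = N18670 := ded_29_3 (flp_a L157619) L157615 (flp_g L142746) L177299
theorem L177311 : sm gb N17648 = N22697 := rfl
theorem L177313 : sm gg N22697 = N22697 := ded_17_2 (flp_b L177311) (flp_g L153734) L153736 L153734 L177311
theorem L177314 : sm gf N17648 = N22698 := rfl
theorem L177316 : sm ga N22698 = N17649 := ded_11_1 (flp_f L125914) L125912 L177314
theorem L177318 : sm gc N22698 = N19901 := ded_20_1 (flp_f L177297) L177289 L177314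
theorem L177320 : sm ge N22698 = N19938 := ded_25_1 L158648 L158646 L177314
theorem L177322 : sm gg N22698 = N19376 := ded_29_3 (flp_a L153718) L153726 L153734 L177314
theorem L177324 : sm gb N17651 = N22699 := rfl
theorem L177326 : sm ge N22699 = N17652 := ded_15_2 (flp_b L125928) (flp_e L125924) L177324
theorem L177328 : sm gb N17732 = N22700 := rfl
theorem L177330 : sm gd N22700 = N19619 := ded_14_2 L161386 L163421 L177328
theorem L177332 : sm ge N22700 = N17805 := ded_15_2 (flp_b L126638) (flp_e L136706) L177328
theorem L177334 : sm ga N19621 = N22700 := ded_9_3 L177330 L155474 L155530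
theorem L177336 : sm ge N17734 = N22701 := rfl
theorem L177338 : sm gb N22701 = N17738 := ded_15_1 (flp_e L126372) (flp_b L126356) L177336
theorem L177340 : sm gd N22701 = N17810 := ded_22_1 (flp_e L126656) (flp_d L100463) L136830 L126354 L177336
theorem L177342 : sm gg N17735 = N22702 := rfl
theorem L177344 : sm ga N22702 = N22662 := ded_12_1 L177051 (flp_a L148868) L177342
theorem L177346 : sm gc N22702 = N17736 := ded_21_1 (flp_g L126362) (flp_c L126360) L177342
theorem L177348 : sm ge N22702 = N17813 := ded_26_1 (flp_g L126668) (flp_e L136722) L177342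
theorem L177350 : sm gf N22664 = N22702 := ded_29_0 (flp_g L177342) (flp_f L126358) (flp_g L147053) (flp_a L177065)
theorem L177352 : sm gb N17736 = N22703 := rfl
theorem L177354 : sm gd N22703 = N17814 := ded_14_2 (flp_b L126676) (flp_d L126366) L177352
theorem L177356 : sm ge N22703 = N17814 := ded_15_2 (flp_b L126676) (flp_e L136818) L177352
theorem L177358 : sm gf N22703 = N22674 := ded_16_2 (flp_b L177277) L177279 (flp_b L177057) L147059 L177352
theorem L177360 : sm gg N22703 = N17814 := ded_17_2 (flp_b L126676) (flp_g L100471) (flp_b L100337) L126362 L177352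
theorem L177362 : sm ge N17743 = N22704 := rfl
theorem L177364 : sm gb N22704 = N20220 := ded_15_1 (flp_e L176809) L176805 L177362
theorem L177366 : sm gd N22704 = N20216 := ded_22_1 L159545 (flp_d L163256) L147222 L126390 L177362
theorem L177368 : sm gg N17743 = N22705 := rfl
theorem L177370 : sm gd N22705 = N17746 := ded_24_1 (flp_g L126400) L126390 L177368
theorem L177372 : sm gf N22705 = N17782 := ded_29_2 L126549 (flp_a L126642) L149660 L177368
theorem L177374 : sm gb N17746 = N22706 := rfl
theorem L177376 : sm ge N22706 = N19853 := ded_15_2 (flp_b L177053) L177047 L177374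
theorem L177378 : sm gc N22706 = N19875 := ded_13_2 (flp_b L176931) L176923 (flp_b L148692) (flp_c L126402) L177374
theorem L177380 : sm gf N22706 = N19883 := ded_16_2 L164502 (flp_f L164494) L113596 (flp_f L148791) L177374
theorem L177382 : sm gg N22706 = N19862 := ded_17_2 L157245 (flp_g L163170) L124796 L126400 L177374
theorem L177384 : sm gb N17759 = N22707 := rfl
theorem L177386 : sm gd N22707 = N22666 := ded_14_2 (flp_b L177081) L148842 L177384
theorem L177388 : sm ge N22707 = N22666 := ded_15_2 (flp_b L177081) L148844 L177384
theorem L177390 : sm gf N22707 = N22666 := ded_16_2 (flp_b L177081) L177090 L177100 L149656 L177384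
theorem L177392 : sm gg N22707 = N22666 := ded_17_2 (flp_b L177081) (flp_g L149676) (flp_b L176967) L176963 L177384
theorem L177394 : sm ga N22707 = N22707 := ded_7_1 (flp_b L177384) (flp_a L126458) (flp_b L100373) L86912 L29255 (flp_a L86912) L100373 L126458 L177384
theorem L177395 : sm gc N17759 = N22708 := rfl
theorem L177397 : sm ga N22708 = N17760 := ded_8_1 (flp_c L126460) L126458 L177395
theorem L177399 : sm ge N22708 = N22667 := ded_19_2 (flp_c L177084) L148844 L177395
theorem L177401 : sm gb N22708 = N22667 := ded_30_2 L177086 L177102 L177104 L148748 (flp_a L100325) L100333 (flp_c L126360) (flp_b L176640) (flp_a L176632) (flp_f L176642) L176634 (flp_b L126664) L148781 L148778 (flp_c L100453) L100451 L126630 L149656 L177395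
theorem L177403 : sm gc N22707 = N22666 := ded_13_2 (flp_b L177081) L177084 (flp_b L177401) (flp_c L177395) L177384
theorem L177405 : sm gd N19877 = N22708 := ded_9_0 L177397 (flp_d L157089) L157323
theorem L177407 : sm gc N17780 = N22709 := rfl
theorem L177409 : sm gf N17780 = N22710 := rfl
theorem L177411 : sm ga N22710 = N22663 := ded_11_1 (flp_f L177279) (flp_a L177281) L177409
theorem L177413 : sm gd N22710 = N22694 := ded_23_1 L177279 L177059 L177409
theorem L177415 : sm ge N22710 = N22694 := ded_25_1 L177279 L177061 L177409
theorem L177417 : sm gg N22658 = N22710 := ded_29_1 (flp_f L177409) (flp_g L177283) (flp_a L177273) (flp_f L177021)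
theorem L177419 : sm gb N22710 = N22671 := ded_16_1 L177126 (flp_b L126676) (flp_f L100475) L126539 L177409
theorem L177421 : sm gb N17781 = N22711 := rfl
theorem L177423 : sm gf N22711 = N19414 := ded_16_2 (flp_b L154013) L154029 (flp_b L154039) (flp_f L126674) L177421
theorem L177425 : sm gd N17781 = N22712 := rfl
theorem L177427 : sm ga N22712 = N17782 := ded_9_1 (flp_d L126547) (flp_a L126543) L177425
theorem L177429 : sm gg N22712 = N17806 := ded_24_2 (flp_d L126640) (flp_g L126545) L177425
theorem L177431 : sm gc N17782 = N22713 := rfl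
theorem L177433 : sm gg N22713 = N17809 := ded_21_2 (flp_c L126654) (flp_g L126549) L177431
theorem L177435 : sm gd N22713 = N20512 := ded_28_7 L161390 L177079 (flp_d L177071) (flp_c L125648) (flp_d L147128) L100415 L126547 L177431
theorem L177437 : sm ge N17782 = N22714 := rfl
theorem L177439 : sm gg N22714 = N17810 := ded_26_2 (flp_e L126656) (flp_g L126549) L177437
theorem L177441 : sm gc N17801 = N22715 := rfl
theorem L177443 : sm ga N22715 = N17802 := ded_8_1 (flp_c L126632) L126630 L177441
theorem L177445 : sm gf N22715 = N22708 := ded_20_2 (flp_c L177395) (flp_f L149656) L177441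
theorem L177447 : sm gg N22715 = N19635 := ded_21_2 (flp_c L176983) L176989 L177441
theorem L177449 : sm gb N22715 = N19403 := ded_30_2 (flp_a L153938) (flp_f L153924) L153922 (flp_b L106278) L90277 (flp_f L88948) (flp_c L37476) L17944 (flp_a L77859) L13372 L13426 L27936 L86198 L99381 L99385 L100373 L126458 (flp_f L149656) L177441
theorem L177451 : sm gd N19645 = N22715 := ded_9_0 L177443 (flp_d L157335) L157333
theorem L177453 : sm gb N17802 = N22716 := rfl
theorem L177455 : sm gc N22716 = N17805 := ded_13_2 (flp_b L126638) (flp_c L100453) L100451 L126632 L177453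
theorem L177457 : sm gg N17802 = N22717 := rfl
theorem L177459 : sm ga N22717 = N19635 := ded_12_1 (flp_g L177447) L177443 L177457
theorem L177461 : sm gc N22717 = N17804 := ded_21_1 (flp_g L126636) L126632 L177457
theorem L177463 : sm gd N22717 = N19647 := ded_24_1 (flp_g L157337) L157335 L177457
theorem L177465 : sm ge N22717 = N19640 := ded_26_1 L177110 L177108 L177457
theorem L177467 : sm gb N19631 = N22717 := ded_31_14 (flp_g L177457) L149658 L157087 L157125 L157133 (flp_b L157689) (flp_g L157683) (flp_f L153662) (flp_b L153658) (flp_g L153620) L153618 (flp_b L153858) L153860 L155608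
theorem L177469 : sm ga N17805 = N22718 := rfl
theorem L177471 : sm ge N22718 = N19621 := ded_10_2 L177334 L177332 L177469
theorem L177473 : sm gd N17805 = N22719 := rfl
theorem L177475 : sm gb N22719 = N17806 := ded_14_1 (flp_d L126640) L126638 L177473
theorem L177477 : sm gf N17805 = N22720 := rfl
theorem L177479 : sm gb N22720 = N22635 := ded_16_1 (flp_f L176811) L124796 L148778 L126638 L177477
theorem L177481 : sm gg N17805 = N22721 := rfl
theorem L177483 : sm gc N17806 = N22722 := rfl
theorem L177485 : sm ga N22722 = N17809 := ded_8_1 (flp_c L126654) (flp_a L126642) L177483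
theorem L177487 : sm gf N22722 = N20504 := ded_20_2 L163423 (flp_f L149660) L177483
theorem L177489 : sm gd N22722 = N20509 := ded_28_7 L161366 (flp_c L161384) L163421 (flp_c L126342) L100327 L100453 L126640 L177483
theorem L177491 : sm ge N17806 = N22723 := rfl
theorem L177493 : sm ga N22723 = N17810 := ded_10_1 (flp_e L126656) (flp_a L126642) L177491
theorem L177495 : sm gf N22723 = N22704 := ded_25_2 (flp_e L177362) (flp_f L149660) L177491
theorem L177497 : sm ge N17809 = N22724 := rfl
theorem L177499 : sm gc N22724 = N17810 := ded_19_1 (flp_e L126656) L126654 L177497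
theorem L177501 : sm gf N22724 = N20503 := ded_25_2 L161346 (flp_f L163513) L177497
theorem L177503 : sm gf N17810 = N22725 := rfl
theorem L177505 : sm ga N22725 = N22704 := ded_11_1 (flp_f L177495) L177493 L177503
theorem L177507 : sm gc N22725 = N20503 := ded_20_1 (flp_f L177501) L177499 L177503
theorem L177509 : sm ge N22725 = N17811 := ded_25_1 (flp_f L126660) L126656 L177503
theorem L177511 : sm gb N17811 = N22726 := rfl
theorem L177513 : sm gd N22726 = N17812 := ded_14_2 (flp_b L126664) (flp_d L126662) L177511
theorem L177515 : sm gc N22726 = N18173 := ded_13_2 L128657 L111639 L111649 (flp_c L163427) L177511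
theorem L177517 : sm gf N22726 = N17826 := ded_16_2 (flp_b L126726) (flp_f L100509) (flp_b L100465) L126660 L177511
theorem L177519 : sm ga N17826 = N22726 := ded_9_3 L177513 L142764 (flp_d L126728)
theorem L177521 : sm gg N18172 = N22726 := ded_21_0 L177515 (flp_g L128653) L128648
theorem L177523 : sm gg N17811 = N22727 := rfl
theorem L177525 : sm ga N22727 = N22705 := ded_12_1 (flp_g L177368) L149662 L177523
theorem L177527 : sm gc N22727 = N19847 := ded_21_1 L157183 (flp_c L163427) L177523
theorem L177529 : sm gd N22727 = N17813 := ded_24_1 (flp_g L126668) (flp_d L126662) L177523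
theorem L177531 : sm gf N22712 = N22727 := ded_29_0 (flp_g L177523) (flp_f L126660) (flp_g L126549) (flp_a L177427)
theorem L177533 : sm gb N22727 = N18262 := ded_17_1 (flp_g L129189) (flp_b L128651) L177521 (flp_b L177511) L177523
theorem L177535 : sm gg N17812 = N22728 := rfl
theorem L177537 : sm ga N22728 = N17828 := ded_12_1 (flp_g L126732) (flp_a L142764) L177535
theorem L177539 : sm gc N22728 = N22517 := ded_21_1 (flp_g L176644) L176634 L177535
theorem L177541 : sm gd N22728 = N18172 := ded_24_1 L177521 L177513 L177535
theorem L177543 : sm ge N22728 = N22517 := ded_26_1 (flp_g L176644) L176636 L177535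
theorem L177545 : sm gf N22728 = N22728 := ded_29_0 (flp_g L177535) L126666 L126732 (flp_a L177537)
theorem L177546 : sm gb N22728 = N18261 := ded_17_1 (flp_g L154037) (flp_b L154039) (flp_g L126668) L126664 L177535
theorem L177548 : sm ga N17820 = N22729 := rfl
theorem L177550 : sm gc N22729 = N17822 := ded_8_2 (flp_a L126708) (flp_c L126704) L177548
theorem L177552 : sm gd N22729 = N20031 := ded_9_2 L158271 (flp_d L149492) L177548
theorem L177554 : sm ge N22729 = N18692 := ded_10_2 (flp_a L144043) (flp_e L142766) L177548
theorem L177556 : sm gf N22729 = N19937 := ded_11_2 (flp_a L157757) (flp_f L149502) L177548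
theorem L177558 : sm gg N19892 = N22729 := ded_29_3 (flp_a L177548) L149502 (flp_g L157751) L157749
theorem L177560 : sm gg N17820 = N22730 := rfl
theorem L177562 : sm ga N22730 = N19892 := ded_12_1 L177558 (flp_a L177548) L177560
theorem L177564 : sm gc N22730 = N17824 := ded_21_1 (flp_g L126714) (flp_c L126704) L177560
theorem L177566 : sm gd N22730 = N20033 := ded_24_1 (flp_g L158289) (flp_d L149492) L177560
theorem L177568 : sm ge N22730 = N18693 := ded_26_1 (flp_g L144045) (flp_e L142766) L177560
theorem L177570 : sm gf N18695 = N22730 := ded_29_0 (flp_g L177560) L149502 (flp_g L157751) L157753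
theorem L177572 : sm gb N22730 = N22696 := ded_17_1 L177309 L143917 L139758 L126702 L177560
theorem L177574 : sm gb N17822 = N22731 := rfl
theorem L177576 : sm gf N22731 = N22731 := ded_16_2 (flp_b L177574) L154006 L154008 (flp_f L154006) L177574
theorem L177577 : sm gg N17822 = N22732 := rfl
theorem L177579 : sm ga N22732 = N17824 := ded_12_1 (flp_g L126714) L126708 L177577
theorem L177581 : sm gc N22732 = N19892 := ded_21_1 L177558 L177550 L177577
theorem L177583 : sm ge N22732 = N19918 := ded_26_1 (flp_g L158775) L158773 L177577
theorem L177585 : sm gf N19412 = N22732 := ded_29_0 (flp_g L177577) L154006 (flp_g L153998) L153990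
theorem L177587 : sm gb N17825 = N22733 := rfl
theorem L177589 : sm ge N22733 = N17826 := ded_15_2 (flp_b L126726) (flp_e L126722) L177587
theorem L177591 : sm gc N18155 = N22734 := rfl
theorem L177593 : sm ge N22734 = N18169 := ded_19_2 (flp_c L128636) (flp_e L128559) L177591
theorem L177595 : sm gg N22734 = N22734 := ded_21_2 (flp_c L177591) L128561 L177591
theorem L177596 : sm gb N22734 = N18202 := ded_13_1 (flp_c L128853) (flp_b L101965) (flp_c L101763) L128557 L177591
theorem L177598 : sm gd N21800 = N22734 := ded_22_5 L177593 (flp_d L177266) L177268 (flp_d L175415) (flp_e L170810)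
theorem L177600 : sm gf N18155 = N22735 := rfl
theorem L177602 : sm ge N22735 = N18170 := ded_25_1 (flp_f L128641) (flp_e L128559) L177600
theorem L177604 : sm gb N22735 = N20548 := ded_16_1 (flp_f L161587) L147689 L101767 L128557 L177600
theorem L177606 : sm gc N18156 = N22736 := rfl
theorem L177608 : sm ge N22736 = N18172 := ded_19_2 (flp_c L128648) (flp_e L128564) L177606
theorem L177610 : sm gf N22736 = N22736 := ded_20_2 (flp_c L177606) L128566 L177606
theorem L177611 : sm gb N22736 = N18207 := ded_13_1 (flp_c L128877) (flp_b L101981) (flp_c L101773) L128562 L177606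
theorem L177613 : sm gd N21852 = N22736 := ded_22_5 L177608 (flp_d L177541) L177543 (flp_d L175846) (flp_e L171149)
theorem L177615 : sm gg N18156 = N22737 := rfl
theorem L177617 : sm ge N22737 = N18173 := ded_26_1 (flp_g L128653) (flp_e L128564) L177615
theorem L177619 : sm gb N22737 = N20502 := ded_17_1 (flp_g L161336) (flp_b L119735) (flp_g L101777) L128562 L177615
theorem L177621 : sm gf N18174 = N22738 := rfl
theorem L177623 : sm ga N22738 = N18178 := ded_11_1 (flp_f L128695) (flp_a L128661) L177621
theorem L177625 : sm gc N22738 = N20123 := ded_20_1 (flp_f L158879) L128667 L177621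
theorem L177627 : sm gd N22738 = N18175 := ded_23_1 (flp_f L128669) L128659 L177621
theorem L177629 : sm ge N22738 = N18699 := ded_25_1 (flp_f L144089) (flp_e L128665) L177621
theorem L177631 : sm gg N18174 = N22739 := rfl
theorem L177633 : sm ga N22739 = N18179 := ded_12_1 (flp_g L128703) (flp_a L128661) L177631
theorem L177635 : sm gc N22739 = N20124 := ded_21_1 (flp_g L158887) L128667 L177631
theorem L177637 : sm gd N22739 = N18176 := ded_24_1 (flp_g L128677) L128659 L177631
theorem L177639 : sm ge N22739 = N18700 := ded_26_1 (flp_g L144097) (flp_e L128665) L177631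
theorem L177641 : sm gg N18178 = N22740 := rfl
theorem L177643 : sm gc N22740 = N20126 := ded_21_1 (flp_g L158902) (flp_c L128697) L177641
theorem L177645 : sm gd N22740 = N18180 := ded_24_1 (flp_g L128711) (flp_d L128699) L177641
theorem L177647 : sm ge N22740 = N18704 := ded_26_1 (flp_g L144119) (flp_e L128701) L177641
theorem L177649 : sm gf N22739 = N22740 := ded_29_0 (flp_g L177641) (flp_f L128695) L128703 (flp_a L177633)
theorem L177651 : sm gf N18179 = N22741 := rfl
theorem L177653 : sm ga N22741 = N22740 := ded_11_1 (flp_f L177649) L177633 L177651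
theorem L177655 : sm gc N22741 = N20128 := ded_20_1 (flp_f L158916) (flp_c L128705) L177651
theorem L177657 : sm gd N22741 = N18182 := ded_23_1 (flp_f L128723) (flp_d L128707) L177651
theorem L177659 : sm ge N22741 = N18706 := ded_25_1 (flp_f L144133) (flp_e L128709) L177651
theorem L177661 : sm gg N22741 = N22738 := ded_29_3 L177623 (flp_f L128695) L128703 L177651
theorem L177663 : sm gb N18180 = N22742 := rfl
theorem L177665 : sm ge N22742 = N18226 := ded_15_2 (flp_b L129002) (flp_e L128713) L177663
theorem L177667 : sm gb N18182 = N22743 := rfl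
theorem L177669 : sm ge N22743 = N18230 := ded_15_2 (flp_b L129020) (flp_e L128727) L177667
theorem L177671 : sm ga N18183 = N22744 := rfl
theorem L177673 : sm gd N22744 = N18185 := ded_9_2 (flp_a L128743) (flp_d L128733) L177671
theorem L177675 : sm ge N22744 = N18715 := ded_10_2 (flp_a L144191) (flp_e L128735) L177671
theorem L177677 : sm gc N18183 = N22745 := rfl
theorem L177679 : sm ge N22745 = N18716 := ded_19_2 (flp_c L144195) (flp_e L128735) L177677
theorem L177681 : sm gb N22745 = N20112 := ded_13_1 (flp_c L158805) (flp_b L110061) (flp_c L101875) L128731 L177677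
theorem L177683 : sm gg N18183 = N22746 := rfl
theorem L177685 : sm gd N22746 = N18186 := ded_24_1 (flp_g L128747) (flp_d L128733) L177683
theorem L177687 : sm ge N22746 = N18717 := ded_26_1 (flp_g L144199) (flp_e L128735) L177683
theorem L177689 : sm ga N18184 = N22747 := rfl
theorem L177691 : sm gd N22747 = N18187 := ded_9_2 (flp_a L128751) (flp_d L128739) L177689
theorem L177693 : sm ge N22747 = N18718 := ded_10_2 (flp_a L144203) (flp_e L128741) L177689
theorem L177695 : sm gc N18184 = N22748 := rfl
theorem L177697 : sm ge N22748 = N18719 := ded_19_2 (flp_c L144207) (flp_e L128741) L177695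
theorem L177699 : sm gb N22748 = N20115 := ded_13_1 (flp_c L158823) (flp_b L110079) (flp_c L101885) L128737 L177695
theorem L177701 : sm gf N18184 = N22749 := rfl
theorem L177703 : sm gd N22749 = N18189 := ded_23_1 (flp_f L128759) (flp_d L128739) L177701
theorem L177705 : sm ge N22749 = N18720 := ded_25_1 (flp_f L144211) (flp_e L128741) L177701
theorem L177707 : sm gb N18185 = N22750 := rfl
theorem L177709 : sm ge N22750 = N18231 := ded_15_2 (flp_b L129024) (flp_e L128745) L177707
theorem L177711 : sm gg N18185 = N22751 := rfl
theorem L177713 : sm ga N22751 = N18186 := ded_12_1 (flp_g L128747) L128743 L177711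
theorem L177715 : sm gc N22751 = N19960 := ded_21_1 L157897 L157169 L177711
theorem L177717 : sm ge N22751 = N18232 := ded_26_1 (flp_g L129028) (flp_e L128745) L177711
theorem L177719 : sm gf N22751 = N19958 := ded_29_2 (flp_g L157875) (flp_a L157825) L157831 L177711
theorem L177721 : sm gf N18186 = N22752 := rfl
theorem L177723 : sm ga N22752 = N19958 := ded_11_1 (flp_f L177719) L177713 L177721
theorem L177725 : sm gc N22752 = N19950 := ded_20_1 L157839 L157175 L177721
theorem L177727 : sm ge N22752 = N18233 := ded_25_1 (flp_f L129038) (flp_e L128749) L177721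
theorem L177729 : sm gg N22752 = N19949 := ded_29_3 L157825 L119427 L128747 L177721
theorem L177731 : sm gb N18890 = N22752 := ded_15_3 L177727 L152256 (flp_e L145178)
theorem L177733 : sm gb N18187 = N22753 := rfl
theorem L177735 : sm ge N22753 = N18234 := ded_15_2 (flp_b L129048) (flp_e L128753) L177733
theorem L177737 : sm gf N18187 = N22754 := rfl
theorem L177739 : sm ga N22754 = N18189 := ded_11_1 (flp_f L128759) L128751 L177737
theorem L177741 : sm gc N22754 = N20014 := ded_20_1 (flp_f L158195) L157279 L177737
theorem L177743 : sm ge N22754 = N18236 := ded_25_1 (flp_f L129056) (flp_e L128753) L177737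
theorem L177745 : sm gg N20012 = N22754 := ded_29_1 (flp_f L177737) (flp_g L158137) L158131 L158173
theorem L177747 : sm gg N18189 = N22755 := rfl
theorem L177749 : sm ga N22755 = N20012 := ded_12_1 L177745 L177739 L177747
theorem L177751 : sm gc N22755 = N20005 := ded_21_1 (flp_g L158145) L157285 L177747
theorem L177753 : sm ge N22755 = N18239 := ded_26_1 (flp_g L129070) (flp_e L128761) L177747
theorem L177755 : sm gf N20004 = N22755 := ded_29_0 (flp_g L177747) (flp_f L128759) (flp_g L147709) (flp_a L158131)
theorem L177757 : sm gb N18843 = N22755 := ded_15_3 L177753 L152156 (flp_e L144911)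
theorem L177759 : sm gg N18190 = N22756 := rfl
theorem L177761 : sm ga N22756 = N21414 := ded_12_1 L168352 L144293 L177759
theorem L177763 : sm gd N22756 = N20109 := ded_24_1 (flp_g L158783) (flp_d L128765) L177759
theorem L177765 : sm ge N22756 = N18734 := ded_26_1 (flp_g L144305) (flp_e L128767) L177759
theorem L177767 : sm gb N22756 = N21433 := ded_17_1 (flp_g L168468) (flp_b L158835) L110097 L128763 L177759
theorem L177769 : sm gf N18191 = N22757 := rfl
theorem L177771 : sm ga N22757 = N21340 := ded_11_1 (flp_f L167918) L144319 L177769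
theorem L177773 : sm gd N22757 = N20111 := ded_23_1 (flp_f L158797) (flp_d L128773) L177769
theorem L177775 : sm ge N22757 = N18737 := ded_25_1 (flp_f L144329) (flp_e L128775) L177769
theorem L177777 : sm gb N22757 = N21364 := ded_16_1 (flp_f L168086) (flp_b L158817) (flp_f L110077) L128771 L177769
theorem L177779 : sm gb N18194 = N22758 := rfl
theorem L177781 : sm gd N22758 = N18200 := ded_14_2 (flp_b L128843) (flp_d L128801) L177779
theorem L177783 : sm ge N22758 = N18739 := ded_15_2 (flp_b L144337) (flp_e L128803) L177779
theorem L177785 : sm gg N22758 = N18195 := ded_17_2 (flp_b L128805) (flp_g L101927) L101919 L128799 L177779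
theorem L177787 : sm ga N18195 = N22759 := rfl
theorem L177789 : sm gd N22759 = N18201 := ded_9_2 (flp_a L128849) (flp_d L128807) L177787
theorem L177791 : sm ge N22759 = N18740 := ded_10_2 (flp_a L144343) (flp_e L128809) L177787
theorem L177793 : sm gc N18195 = N22760 := rfl
theorem L177795 : sm ge N22760 = N18741 := ded_19_2 (flp_c L144347) (flp_e L128809) L177793
theorem L177797 : sm gf N18195 = N22761 := rfl
theorem L177799 : sm gd N22761 = N18203 := ded_23_1 (flp_f L128857) (flp_d L128807) L177797
theorem L177801 : sm ge N22761 = N18742 := ded_25_1 (flp_f L144349) (flp_e L128809) L177797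
theorem L177803 : sm gb N22761 = N22749 := ded_16_1 (flp_f L177701) (flp_b L128737) L101933 L128805 L177797
theorem L177805 : sm gb N18198 = N22762 := rfl
theorem L177807 : sm gd N22762 = N18205 := ded_14_2 (flp_b L128867) (flp_d L128833) L177805
theorem L177809 : sm ge N22762 = N18744 := ded_15_2 (flp_b L144359) (flp_e L128835) L177805
theorem L177811 : sm gf N22762 = N18199 := ded_16_2 (flp_b L128837) (flp_f L101943) L101935 L128831 L177805
theorem L177813 : sm ga N18199 = N22763 := rfl
theorem L177815 : sm gd N22763 = N18206 := ded_9_2 (flp_a L128873) (flp_d L128839) L177813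
theorem L177817 : sm ge N22763 = N18745 := ded_10_2 (flp_a L144365) (flp_e L128841) L177813
theorem L177819 : sm gc N18199 = N22764 := rfl
theorem L177821 : sm ge N22764 = N18746 := ded_19_2 (flp_c L144369) (flp_e L128841) L177819
theorem L177823 : sm gg N18199 = N22765 := rfl
theorem L177825 : sm gd N22765 = N18208 := ded_24_1 (flp_g L128881) (flp_d L128839) L177823
theorem L177827 : sm ge N22765 = N18747 := ded_26_1 (flp_g L144371) (flp_e L128841) L177823
theorem L177829 : sm gb N22765 = N22746 := ded_17_1 (flp_g L177683) (flp_b L128731) (flp_g L101951) L128837 L177823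
theorem L177831 : sm ga N18200 = N22766 := rfl
theorem L177833 : sm ge N22766 = N18242 := ded_10_2 (flp_a L129086) (flp_e L128845) L177831
theorem L177835 : sm gg N22766 = N18201 := ded_12_2 (flp_a L128849) (flp_g L128847) L177831
theorem L177837 : sm gc N18200 = N22767 := rfl
theorem L177839 : sm ge N22767 = N18243 := ded_19_2 (flp_c L129092) (flp_e L128845) L177837
theorem L177841 : sm gg N22767 = N18202 := ded_21_2 (flp_c L128853) (flp_g L128847) L177837
theorem L177843 : sm gb N22767 = N22767 := ded_13_1 (flp_c L177837) (flp_b L128843) L101962 L128843 L177837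
theorem L177844 : sm gf N19383 = N22767 := ded_25_0 L177839 L153046 L153779
theorem L177846 : sm gf N18200 = N22768 := rfl
theorem L177848 : sm gc N22768 = N19383 := ded_20_1 L177844 (flp_c L177837) L177846
theorem L177850 : sm ge N22768 = N18244 := ded_25_1 (flp_f L129097) (flp_e L128845) L177846
theorem L177852 : sm gb N18201 = N22769 := rfl
theorem L177854 : sm ge N22769 = N18245 := ded_15_2 (flp_b L129101) (flp_e L128851) L177852
theorem L177856 : sm gf N18877 = N22769 := ded_25_0 L177854 L129119 (flp_e L145102)
theorem L177858 : sm gc N18201 = N22770 := rfl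
theorem L177860 : sm ga N22770 = N18202 := ded_8_1 (flp_c L128853) L128849 L177858
theorem L177862 : sm ge N22770 = N18246 := ded_19_2 (flp_c L129105) (flp_e L128851) L177858
theorem L177864 : sm gf N18201 = N22771 := rfl
theorem L177866 : sm ga N22771 = N18203 := ded_11_1 (flp_f L128857) L128849 L177864
theorem L177868 : sm ge N22771 = N18247 := ded_25_1 (flp_f L129109) (flp_e L128851) L177864
theorem L177870 : sm gg N22768 = N22771 := ded_29_1 (flp_f L177864) (flp_g L177835) (flp_a L177831) L177846
theorem L177872 : sm gb N22771 = N18779 := ded_16_1 L144547 (flp_b L145104) L177856 (flp_b L177852) L177864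
theorem L177874 : sm gd N18202 = N22772 := rfl
theorem L177876 : sm gb N22772 = N21800 := ded_14_1 L177598 L177596 L177874
theorem L177878 : sm ge N22455 = N22772 := ded_15_0 L177876 L170810 (flp_b L175404)
theorem L177880 : sm gc N20457 = N22772 := ded_13_0 L177876 (flp_c L170808) (flp_b L118225) (flp_c L111349) L161038
theorem L177882 : sm gf N18202 = N22773 := rfl
theorem L177884 : sm gc N22773 = N18203 := ded_20_1 (flp_f L128857) L128853 L177882
theorem L177886 : sm ge N22773 = N18249 := ded_25_1 (flp_f L129123) (flp_e L128855) L177882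
theorem L177888 : sm gg N18203 = N22774 := rfl
theorem L177890 : sm ga N22774 = N22768 := ded_12_1 L177870 L177866 L177888
theorem L177892 : sm ge N22774 = N18250 := ded_26_1 (flp_g L129127) (flp_e L128859) L177888
theorem L177894 : sm gf N22766 = N22774 := ded_29_0 (flp_g L177888) (flp_f L128857) (flp_g L128847) L177831
theorem L177896 : sm ga N18205 = N22775 := rfl
theorem L177898 : sm ge N22775 = N18255 := ded_10_2 (flp_a L129152) (flp_e L128869) L177896
theorem L177900 : sm gf N22775 = N18206 := ded_11_2 (flp_a L128873) (flp_f L128871) L177896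
theorem L177902 : sm gc N18205 = N22776 := rfl
theorem L177904 : sm ge N22776 = N18256 := ded_19_2 (flp_c L129158) (flp_e L128869) L177902
theorem L177906 : sm gf N22776 = N18207 := ded_20_2 (flp_c L128877) (flp_f L128871) L177902
theorem L177908 : sm gb N22776 = N22776 := ded_13_1 (flp_c L177902) (flp_b L128867) L101978 L128867 L177902
theorem L177909 : sm gg N19419 = N22776 := ded_26_0 L177904 L153483 L154047
theorem L177911 : sm gg N18205 = N22777 := rfl
theorem L177913 : sm gc N22777 = N19419 := ded_21_1 L177909 (flp_c L177902) L177911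
theorem L177915 : sm ge N22777 = N18257 := ded_26_1 (flp_g L129163) (flp_e L128869) L177911
theorem L177917 : sm gb N18206 = N22778 := rfl
theorem L177919 : sm ge N22778 = N18258 := ded_15_2 (flp_b L129167) (flp_e L128875) L177917
theorem L177921 : sm gg N18830 = N22778 := ded_26_0 L177919 L129185 (flp_e L144835)
theorem L177923 : sm gc N18206 = N22779 := rfl
theorem L177925 : sm ga N22779 = N18207 := ded_8_1 (flp_c L128877) L128873 L177923
theorem L177927 : sm ge N22779 = N18259 := ded_19_2 (flp_c L129171) (flp_e L128875) L177923
theorem L177929 : sm gg N18206 = N22780 := rfl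
theorem L177931 : sm ga N22780 = N18208 := ded_12_1 (flp_g L128881) L128873 L177929
theorem L177933 : sm ge N22780 = N18260 := ded_26_1 (flp_g L129175) (flp_e L128875) L177929
theorem L177935 : sm gf N22780 = N22777 := ded_29_2 (flp_g L177911) L177896 L177900 L177929
theorem L177937 : sm gb N22780 = N18761 := ded_17_1 (flp_g L144455) (flp_b L144837) L177921 (flp_b L177917) L177929
theorem L177939 : sm gd N18207 = N22781 := rfl
theorem L177941 : sm gb N22781 = N21852 := ded_14_1 L177613 L177611 L177939
theorem L177943 : sm ge N22514 = N22781 := ded_15_0 L177941 L171149 (flp_b L175827)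
theorem L177945 : sm gc N20476 = N22781 := ded_13_0 L177941 (flp_c L171147) (flp_b L118412) (flp_c L111423) L161158
theorem L177947 : sm gg N18207 = N22782 := rfl
theorem L177949 : sm gc N22782 = N18208 := ded_21_1 (flp_g L128881) L128877 L177947
theorem L177951 : sm ge N22782 = N18262 := ded_26_1 (flp_g L129189) (flp_e L128879) L177947
theorem L177953 : sm gf N18208 = N22783 := rfl
theorem L177955 : sm ga N22783 = N22777 := ded_11_1 (flp_f L177935) L177931 L177953
theorem L177957 : sm ge N22783 = N18263 := ded_25_1 (flp_f L129193) (flp_e L128883) L177953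
theorem L177959 : sm gg N22783 = N22775 := ded_29_3 (flp_a L177896) L128871 L128881 L177953
theorem L177961 : sm gb N18209 = N22784 := rfl
theorem L177963 : sm gd N22784 = N18216 := ded_14_2 (flp_b L128959) (flp_d L128893) L177961
theorem L177965 : sm ge N22784 = N18785 := ded_15_2 (flp_b L144583) (flp_e L128895) L177961
theorem L177967 : sm gb N18210 = N22785 := rfl
theorem L177969 : sm gd N22785 = N19567 := ded_14_2 L155148 (flp_d L128905) L177967
theorem L177971 : sm ge N22785 = N18786 := ded_15_2 (flp_b L144587) (flp_e L128907) L177967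
theorem L177973 : sm gc N22785 = N21156 := ded_13_2 (flp_b L166744) L144717 L104079 (flp_c L128903) L177967
theorem L177975 : sm gf N22785 = N19566 := ded_16_2 L155134 L156210 L159833 (flp_f L159831) L177967
theorem L177977 : sm gg N22785 = N18786 := ded_17_2 (flp_b L144587) (flp_g L103987) (flp_b L101999) L128899 L177967
theorem L177979 : sm ga N21156 = N22785 := ded_9_3 L177969 L155140 (flp_d L166742)
theorem L177981 : sm gb N18211 = N22786 := rfl
theorem L177983 : sm gd N22786 = N18217 := ded_14_2 (flp_b L128963) (flp_d L128913) L177981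
theorem L177985 : sm ge N22786 = N18790 := ded_15_2 (flp_b L144605) (flp_e L128915) L177981
theorem L177987 : sm gb N18213 = N22787 := rfl
theorem L177989 : sm gd N22787 = N18222 := ded_14_2 (flp_b L128986) (flp_d L128933) L177987
theorem L177991 : sm ge N22787 = N18800 := ded_15_2 (flp_b L144657) (flp_e L128935) L177987
theorem L177993 : sm gb N18214 = N22788 := rfl
theorem L177995 : sm gd N22788 = N19562 := ded_14_2 L155094 (flp_d L128945) L177993
theorem L177997 : sm ge N22788 = N18801 := ded_15_2 (flp_b L144661) (flp_e L128947) L177993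
theorem L177999 : sm gc N22788 = N21147 := ded_13_2 (flp_b L166696) L144629 L104019 (flp_c L128943) L177993
theorem L178001 : sm gf N22788 = N18801 := ded_16_2 (flp_b L144661) (flp_f L104037) (flp_b L102110) L128939 L177993
theorem L178003 : sm gg N22788 = N19561 := ded_17_2 L155080 L156100 (flp_b L159984) L159982 L177993
theorem L178005 : sm ga N21147 = N22788 := ded_9_3 L177995 L155086 (flp_d L166694)
theorem L178007 : sm gb N18215 = N22789 := rfl
theorem L178009 : sm gd N22789 = N18223 := ded_14_2 (flp_b L128990) (flp_d L128953) L178007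
theorem L178011 : sm ge N22789 = N18805 := ded_15_2 (flp_b L144685) (flp_e L128955) L178007
theorem L178013 : sm ga N18216 = N22790 := rfl
theorem L178015 : sm ge N22790 = N18267 := ded_10_2 (flp_a L129231) (flp_e L128961) L178013
theorem L178017 : sm gc N18216 = N22791 := rfl
theorem L178019 : sm ge N22791 = N18268 := ded_19_2 (flp_c L129235) (flp_e L128961) L178017
theorem L178021 : sm gb N22791 = N22791 := ded_13_1 (flp_c L178017) (flp_b L128959) L102128 L128959 L178017
theorem L178022 : sm gf N19283 = N22791 := ded_25_0 L178019 L153059 L152924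
theorem L178024 : sm gf N18216 = N22792 := rfl
theorem L178026 : sm gc N22792 = N19283 := ded_20_1 L178022 (flp_c L178017) L178024
theorem L178028 : sm ge N22792 = N18269 := ded_25_1 (flp_f L129238) (flp_e L128961) L178024
theorem L178030 : sm gb N22792 = N22768 := ded_16_1 (flp_f L177846) (flp_b L128843) (flp_f L102131) L128959 L178024
theorem L178032 : sm gg N18777 = N22792 := ded_26_0 L178028 (flp_g L129244) (flp_e L144533)
theorem L178034 : sm ga N18217 = N22793 := rfl
theorem L178036 : sm ge N22793 = N18270 := ded_10_2 (flp_a L129246) (flp_e L128965) L178034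
theorem L178038 : sm gb N18731 = N22793 := ded_15_3 L178036 L152164 (flp_e L144279)
theorem L178040 : sm gc N18217 = N22794 := rfl
theorem L178042 : sm ge N22794 = N18271 := ded_19_2 (flp_c L129250) (flp_e L128965) L178040
theorem L178044 : sm gf N22794 = N19289 := ded_20_2 L152955 L145257 L178040
theorem L178046 : sm gb N22794 = N22794 := ded_13_1 (flp_c L178040) (flp_b L128963) L102137 L128963 L178040
theorem L178047 : sm gg N18217 = N22795 := rfl
theorem L178049 : sm ge N22795 = N18272 := ded_26_1 (flp_g L129253) (flp_e L128965) L178047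
theorem L178051 : sm gb N22795 = N21527 := ded_17_1 (flp_g L169067) L117147 (flp_g L102140) L128963 L178047
theorem L178053 : sm ga N18222 = N22796 := rfl
theorem L178055 : sm ge N22796 = N18282 := ded_10_2 (flp_a L129308) (flp_e L128988) L178053
theorem L178057 : sm gc N18222 = N22797 := rfl
theorem L178059 : sm ge N22797 = N18283 := ded_19_2 (flp_c L129312) (flp_e L128988) L178057
theorem L178061 : sm gb N22797 = N22797 := ded_13_1 (flp_c L178057) (flp_b L128986) L102150 L128986 L178057
theorem L178062 : sm gg N19340 = N22797 := ded_26_0 L178059 L153502 L153357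
theorem L178064 : sm gg N18222 = N22798 := rfl
theorem L178066 : sm gc N22798 = N19340 := ded_21_1 L178062 (flp_c L178057) L178064
theorem L178068 : sm ge N22798 = N18284 := ded_26_1 (flp_g L129315) (flp_e L128988) L178064
theorem L178070 : sm gb N22798 = N22777 := ded_17_1 (flp_g L177911) (flp_b L128867) L102153 L128986 L178064
theorem L178072 : sm gf N18759 = N22798 := ded_25_0 L178068 (flp_f L129321) (flp_e L144441)
theorem L178074 : sm ga N18223 = N22799 := rfl
theorem L178076 : sm ge N22799 = N18285 := ded_10_2 (flp_a L129323) (flp_e L128992) L178074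
theorem L178078 : sm gb N18725 = N22799 := ded_15_3 L178076 L152248 (flp_e L144245)
theorem L178080 : sm gc N18223 = N22800 := rfl
theorem L178082 : sm ge N22800 = N18286 := ded_19_2 (flp_c L129327) (flp_e L128992) L178080
theorem L178084 : sm gg N22800 = N19346 := ded_21_2 L153392 L144998 L178080
theorem L178086 : sm gb N22800 = N22800 := ded_13_1 (flp_c L178080) (flp_b L128990) L102159 L128990 L178080
theorem L178087 : sm gf N18223 = N22801 := rfl
theorem L178089 : sm ge N22801 = N18287 := ded_25_1 (flp_f L129330) (flp_e L128992) L178087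
theorem L178091 : sm gb N22801 = N21688 := ded_16_1 (flp_f L170092) L149715 L102162 L128990 L178087
theorem L178093 : sm gg N18231 = N22802 := rfl
theorem L178095 : sm ga N22802 = N19175 := ded_12_1 L152308 L146112 L178093
theorem L178097 : sm gd N22802 = N19040 := ded_24_1 (flp_g L146118) (flp_d L129026) L178093
theorem L178099 : sm gf N22802 = N19040 := ded_29_2 (flp_g L146118) L146096 (flp_f L146102) L178093
theorem L178101 : sm gb N22802 = N19163 := ded_17_1 (flp_g L152216) L152218 (flp_g L129028) L129024 L178093
theorem L178103 : sm gf N18234 = N22803 := rfl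
theorem L178105 : sm ga N22803 = N19107 := ded_11_1 L151910 (flp_a L151139) L178103
theorem L178107 : sm gd N22803 = N19047 := ded_23_1 (flp_f L146148) (flp_d L129050) L178103
theorem L178109 : sm gg N19047 = N22803 := ded_29_1 (flp_f L178103) (flp_g L151123) (flp_a L146142) L146148
theorem L178111 : sm gb N22803 = N19227 := ded_16_1 L152622 (flp_b L152624) (flp_f L129056) L129048 L178103
theorem L178113 : sm gf N18241 = N22804 := rfl
theorem L178115 : sm ga N22804 = N21526 := ded_11_1 (flp_f L169063) L152382 L178113
theorem L178117 : sm gc N22804 = N21533 := ded_20_1 L170764 L170758 L178113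
theorem L178119 : sm gd N22804 = N19056 := ded_23_1 (flp_f L151602) (flp_d L129084) L178113
theorem L178121 : sm ge N22804 = N21521 := ded_25_1 L169073 L169071 L178113
theorem L178123 : sm gg N22804 = N19023 := ded_29_3 L145951 (flp_f L117139) L129082 L178113
theorem L178125 : sm gb N22804 = N19170 := ded_31_2 L152238 L152250 (flp_b L151800) L105013 L104983 L104991 L129244 (flp_f L129238) (flp_b L102308) (flp_g L88170) (flp_f L88139) L102247 L129082 L178113
theorem L178127 : sm gb N18242 = N22805 := rfl
theorem L178129 : sm gd N22805 = N19063 := ded_14_2 (flp_b L151628) (flp_d L129088) L178127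
theorem L178131 : sm gf N22805 = N19034 := ded_16_2 (flp_b L152136) (flp_f L152148) L152150 (flp_f L129133) L178127
theorem L178133 : sm gg N22805 = N18606 := ded_17_2 L152358 (flp_g L152354) (flp_b L129101) (flp_g L129090) L178127
theorem L178135 : sm ga N22805 = N19033 := ded_7_1 (flp_b L145993) (flp_a L104877) (flp_b L152164) (flp_a L129246) (flp_b L102312) L88181 L102251 L129086 L178127
theorem L178137 : sm gc N18607 = N22805 := ded_30_1 (flp_b L178127) (flp_a L129086) L129097 (flp_c L153028) L106097 L90208 L89946 (flp_c L89944) (flp_b L89754) (flp_a L105173) L151540 L105384 L105388 L151129 (flp_f L145973) L145971 (flp_b L146054) (flp_a L163119) (flp_f L163125)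
theorem L178139 : sm gc N18242 = N22806 := rfl
theorem L178141 : sm ga N22806 = N18243 := ded_8_1 (flp_c L129092) L129086 L178139
theorem L178143 : sm gf N22806 = N19379 := ded_20_2 (flp_c L153753) (flp_f L129133) L178139
theorem L178145 : sm gg N22806 = N18246 := ded_21_2 (flp_c L129105) (flp_g L129090) L178139
theorem L178147 : sm gd N22806 = N19381 := ded_28_7 L153765 L106107 L90704 L94817 L114450 L153016 (flp_d L129088) L178139
theorem L178149 : sm gc N18245 = N22807 := rfl
theorem L178151 : sm ga N22807 = N20636 := ded_8_1 L162108 L152368 L178149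
theorem L178153 : sm gf N22807 = N19201 := ded_20_2 L152454 (flp_f L129119) L178149
theorem L178155 : sm gg N22807 = N18605 := ded_21_2 (flp_c L152356) (flp_g L152354) L178149
theorem L178157 : sm gd N22807 = N20639 := ded_28_7 (flp_a L162122) (flp_c L152796) L152794 (flp_c L105786) (flp_d L153493) (flp_c L151648) (flp_d L129103) L178149
theorem L178159 : sm gb N18246 = N22808 := rfl
theorem L178161 : sm ge N18248 = N22809 := rfl
theorem L178163 : sm gb N22809 = N22458 := ded_15_1 (flp_e L177268) L177271 L178161
theorem L178165 : sm gc N22809 = N19477 := ded_19_1 L154392 L153044 L178161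
theorem L178167 : sm gg N22809 = N19385 := ded_26_2 L153797 (flp_g L153052) L178161
theorem L178169 : sm gd N22809 = N22455 := ded_22_1 L177878 (flp_d L177874) L128855 L129121 L178161
theorem L178171 : sm gg N18253 = N22810 := rfl
theorem L178173 : sm ga N22810 = N21685 := ded_12_1 L170068 (flp_a L151912) L178171
theorem L178175 : sm gc N22810 = N21692 := ded_21_1 (flp_g L171103) L171097 L178171
theorem L178177 : sm gd N22810 = N19080 := ded_24_1 L151710 (flp_d L129144) L178171
theorem L178179 : sm ge N22810 = N21679 := ded_26_1 (flp_g L170100) L170098 L178171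
theorem L178181 : sm gf N19029 = N22810 := ded_29_0 (flp_g L178171) (flp_f L129142) (flp_g L148944) L149596
theorem L178183 : sm gb N19232 = N22810 := ded_31_14 (flp_g L178171) (flp_f L129142) (flp_b L102269) L88155 L88192 L102333 L129315 (flp_f L129321) (flp_b L104927) (flp_g L104919) L104949 L151690 (flp_g L152166) (flp_f L152640)
theorem L178185 : sm gb N18255 = N22811 := rfl
theorem L178187 : sm gd N22811 = N19087 := ded_14_2 (flp_b L151736) (flp_d L129154) L178185
theorem L178189 : sm gf N22811 = N18567 := ded_16_2 (flp_b L151922) L151920 (flp_b L129167) (flp_f L129156) L178185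
theorem L178191 : sm gg N22811 = N19026 := ded_17_2 (flp_b L152562) L152574 L152576 L129199 L178185
theorem L178193 : sm ga N22811 = N19025 := ded_7_1 (flp_b L145965) (flp_a L104853) (flp_b L152248) (flp_a L129323) (flp_b L102337) L88203 L102273 L129152 L178185
theorem L178195 : sm gc N18568 = N22811 := ded_30_1 (flp_b L178185) (flp_a L129152) L102277 L102283 (flp_b L128651) (flp_a L174443) L174445 (flp_c L174441) (flp_b L122871) L98301 (flp_f L93629) (flp_c L46569) L22407 (flp_a L22497) L46787 (flp_c L47404) L94349 (flp_a L149607) L143327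
theorem L178197 : sm gc N18255 = N22812 := rfl
theorem L178199 : sm ga N22812 = N18256 := ded_8_1 (flp_c L129158) L129152 L178197
theorem L178201 : sm gf N22812 = N18259 := ded_20_2 (flp_c L129171) (flp_f L129156) L178197
theorem L178203 : sm gg N22812 = N19415 := ded_21_2 (flp_c L154019) L129199 L178197
theorem L178205 : sm gd N22812 = N19418 := ded_28_7 L154043 L106434 L90836 L94540 L113897 L153422 (flp_d L129154) L178197
theorem L178207 : sm gc N18258 = N22813 := rfl
theorem L178209 : sm ga N22813 = N20598 := ded_8_1 (flp_c L161874) L151934 L178207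
theorem L178211 : sm gf N22813 = N18565 := ded_20_2 L151924 L151920 L178207
theorem L178213 : sm gg N22813 = N19134 := ded_21_2 L152016 (flp_g L129185) L178207
theorem L178215 : sm gd N22813 = N20601 := ded_28_7 (flp_a L161888) (flp_c L153211) L153209 (flp_c L105738) (flp_d L153063) (flp_c L151758) (flp_d L129169) L178207
theorem L178217 : sm gb N18259 = N22814 := rfl
theorem L178219 : sm ge N18261 = N22815 := rfl
theorem L178221 : sm gb N22815 = N22517 := ded_15_1 (flp_e L177543) L177546 L178219
theorem L178223 : sm gc N22815 = N19520 := ded_19_1 L154770 L153481 L178219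
theorem L178225 : sm gf N22815 = N19422 := ded_25_2 L154071 L153489 L178219
theorem L178227 : sm gd N22815 = N22514 := ded_22_1 L177943 (flp_d L177939) L128879 L129187 L178219
theorem L178229 : sm gb N18264 = N22816 := rfl
theorem L178231 : sm gd N22816 = N19107 := ded_14_2 (flp_b L151864) (flp_d L129207) L178229
theorem L178233 : sm ge N22816 = N21532 := ded_15_2 (flp_b L169111) (flp_e L129209) L178229
theorem L178235 : sm gf N22816 = N19045 := ded_16_2 L146144 L151694 L151698 (flp_f L129211) L178229
theorem L178237 : sm gg N22816 = N19107 := ded_17_2 (flp_b L151864) (flp_g L105023) (flp_b L102295) L129201 L178229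
theorem L178239 : sm ga N19047 = N22816 := ded_9_3 L178231 (flp_a L178105) L178107
theorem L178241 : sm gc N21916 = N22816 := ded_28_4 L178231 L172851 (flp_d L172845) (flp_a L161188) L161190 L111449 (flp_c L118782) (flp_d L171518)
theorem L178243 : sm gc N18265 = N22817 := rfl
theorem L178245 : sm gg N22817 = N18268 := ded_21_2 (flp_c L129235) (flp_g L129217) L178243
theorem L178247 : sm gd N19286 = N22817 := ded_24_3 L178245 L153057 L152937
theorem L178249 : sm gb N18266 = N22818 := rfl
theorem L178251 : sm gd N22818 = N19119 := ded_14_2 (flp_b L151938) (flp_d L129225) L178249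
theorem L178253 : sm ge N22818 = N21500 := ded_15_2 (flp_b L168905) (flp_e L129227) L178249
theorem L178255 : sm gf N22818 = N19067 := ded_16_2 (flp_b L151756) L151754 (flp_b L129213) L129219 L178249
theorem L178257 : sm ga N22818 = N18284 := ded_7_1 L129319 (flp_a L129195) (flp_b L152576) L152570 L105356 (flp_a L151696) L151698 (flp_a L129221) L178249
theorem L178259 : sm gg N18282 = N22818 := ded_24_0 L178251 (flp_g L152260) (flp_d L129310)
theorem L178261 : sm gc N19336 = N22818 := ded_28_6 L178251 L152258 (flp_c L152454) L175617 (flp_c L175609) (flp_d L146090) (flp_c L105778) L153339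
theorem L178263 : sm ga N21500 = N22798 := ded_10_1 L178068 (flp_a L178257) L178253
theorem L178265 : sm gg N21500 = N22796 := ded_26_2 L178055 L178259 L178253
theorem L178267 : sm gb N22796 = N21499 := ded_17_1 (flp_g L168901) (flp_b L117039) L117053 L168905 L178265
theorem L178269 : sm gb N18267 = N22819 := rfl
theorem L178271 : sm gd N22819 = N19130 := ded_14_2 (flp_b L151992) (flp_d L129233) L178269
theorem L178273 : sm ga N22819 = N19022 := ded_7_1 (flp_b L145975) (flp_a L151129) (flp_b L105388) L89839 L39695 (flp_a L88172) L102308 L129231 L178269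
theorem L178275 : sm gf N19020 = N22819 := ded_31_1 (flp_b L178269) (flp_g L151764) (flp_f L151760) (flp_b L104991) L104997 L105001 (flp_b L105290) (flp_g L105288) (flp_f L105236) (flp_b L105234) L105238 (flp_f L105240) L152296 L152304
theorem L178277 : sm gc N20834 = N22819 := ded_30_1 (flp_b L178269) (flp_a L129231) L129238 L153050 L105585 L89941 L83342 L89944 L105597 L152947 L165726 L165722 L152164 L104877 (flp_f L104829) L104825 (flp_b L146205) L146203 L164334
theorem L178279 : sm gg N20832 = N22819 := ded_24_0 L178271 L151994 (flp_d L164314)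
theorem L178281 : sm ge N22819 = N21658 := ded_25_1 (flp_f L169894) (flp_e L148542) L178275
theorem L178283 : sm gb N21658 = N22790 := ded_15_1 L178015 L178269 L178281
theorem L178285 : sm gf N22790 = N21660 := ded_16_2 (flp_b L169910) (flp_f L117683) L117673 L169894 L178283
theorem L178287 : sm ga N21660 = N22792 := ded_11_1 (flp_f L178024) L178013 L178285
theorem L178289 : sm gc N18267 = N22820 := rfl
theorem L178291 : sm ga N22820 = N18268 := ded_8_1 (flp_c L129235) L129231 L178289
theorem L178293 : sm gd N22820 = N19280 := ded_28_7 L152916 (flp_c L105752) L150896 L174040 L174048 (flp_c L151996) (flp_d L129233) L178289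
theorem L178295 : sm gf N19279 = N22820 := ded_30_0 (flp_c L178289) L178269 L178273 (flp_f L145941) (flp_c L146207) L146205 (flp_a L148132) L109085 L149208 (flp_b L152164) (flp_a L129246) (flp_f L105415) (flp_c L151562) (flp_b L105597) (flp_a L90208) L90210 (flp_c L90211) (flp_b L105585) (flp_a L152912)
theorem L178297 : sm gf N18267 = N22821 := rfl
theorem L178299 : sm ga N22821 = N18269 := ded_11_1 (flp_f L129238) L129231 L178297
theorem L178301 : sm gc N22821 = N19279 := ded_20_1 L178295 (flp_c L178289) L178297
theorem L178303 : sm gd N22821 = N19132 := ded_23_1 (flp_f L152004) (flp_d L129233) L178297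
theorem L178305 : sm ge N22821 = N21660 := ded_25_1 (flp_f L178285) L178015 L178297
theorem L178307 : sm gg N22821 = N19091 := ded_29_3 (flp_a L151752) L151760 L151764 L178297
theorem L178309 : sm gb N22821 = N18280 := ded_16_1 (flp_f L148948) (flp_b L148544) L178275 (flp_b L178269) L178297
theorem L178311 : sm gf N18272 = N22822 := rfl
theorem L178313 : sm ga N22822 = N19233 := ded_11_1 (flp_f L152646) (flp_a L152160) L178311
theorem L178315 : sm gd N22822 = N19162 := ded_23_1 (flp_f L152174) (flp_d L129255) L178311
theorem L178317 : sm gg N22822 = N19232 := ded_29_3 (flp_a L152636) L105415 L129253 L178311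
theorem L178319 : sm gb N18274 = N22823 := rfl
theorem L178321 : sm gd N22823 = N19175 := ded_14_2 (flp_b L152294) (flp_d L129269) L178319
theorem L178323 : sm ge N22823 = N21691 := ded_15_2 (flp_b L170116) (flp_e L149690) L178319
theorem L178325 : sm gf N22823 = N19175 := ded_16_2 (flp_b L152294) (flp_f L105212) (flp_b L102320) L129265 L178319
theorem L178327 : sm gg N22823 = N19037 := ded_17_2 L146098 L151586 (flp_b L151590) L148937 L178319
theorem L178329 : sm ga N19040 = N22823 := ded_9_3 L178321 (flp_a L178095) L178097
theorem L178331 : sm gc N21913 = N22823 := ded_28_4 L178321 L174358 (flp_d L174350) (flp_a L161174) L161176 L111437 (flp_c L118770) (flp_d L171502)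
theorem L178333 : sm gc N18279 = N22824 := rfl
theorem L178335 : sm gf N22824 = N18283 := ded_20_2 (flp_c L129312) (flp_f L129292) L178333
theorem L178337 : sm gd N19344 = N22824 := ded_23_3 L178335 L153500 L153376
theorem L178339 : sm gb N18282 = N22825 := rfl
theorem L178341 : sm gd N22825 = N19198 := ded_14_2 (flp_b L152436) (flp_d L129310) L178339
theorem L178343 : sm ge N22825 = N21499 := ded_15_2 (flp_b L178267) L178055 L178339
theorem L178345 : sm gg N22825 = N19018 := ded_17_2 (flp_b L145931) (flp_g L129229) L178249 (flp_g L178259) L178339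
theorem L178347 : sm ga N22825 = N19019 := ded_7_1 (flp_b L146074) L146068 (flp_b L105183) L89748 L39649 (flp_a L88194) L102333 L129308 L178339
theorem L178349 : sm gf N20778 = N22825 := ded_31_1 (flp_b L178339) L178259 L178255 (flp_b L151756) (flp_g L178307) (flp_f L178297) L178269 (flp_g L178279) (flp_f L164308) L146188 (flp_g L102172) L102164 (flp_b L119755) L162983
theorem L178351 : sm gc N20781 = N22825 := ded_28_6 L178341 (flp_a L162985) L162987 L113052 L94060 (flp_d L94512) (flp_c L120142) (flp_d L163017)
theorem L178353 : sm gc N18282 = N22826 := rfl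
theorem L178355 : sm ga N22826 = N18283 := ded_8_1 (flp_c L129312) L129308 L178353
theorem L178357 : sm gg N22826 = N19336 := ded_21_2 L178261 (flp_g L178259) L178353
theorem L178359 : sm gd N22826 = N19338 := ded_28_7 L153351 L105790 (flp_d L121695) L172495 L172503 (flp_c L152442) (flp_d L129310) L178353
theorem L178361 : sm gg N18287 = N22827 := rfl
theorem L178363 : sm ga N22827 = N19171 := ded_12_1 (flp_g L152244) L152252 L178361
theorem L178365 : sm gd N22827 = N19225 := ded_24_1 (flp_g L152584) (flp_d L129332) L178361
theorem L178367 : sm gf N19170 = N22827 := ded_29_0 (flp_g L178361) (flp_f L129330) (flp_g L105206) L152236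
theorem L178369 : sm gb N22827 = N22822 := ded_17_1 L178317 L178183 (flp_g L178171) (flp_b L129334) L178361
theorem L178371 : sm gg N18289 = N22828 := rfl
theorem L178373 : sm ga N22828 = N21792 := ded_12_1 (flp_g L170732) (flp_a L129350) L178371
theorem L178375 : sm gc N22828 = N18290 := ded_21_1 (flp_g L129359) L129348 L178371
theorem L178377 : sm gd N22828 = N21796 := ded_24_1 (flp_g L170771) L129357 L178371
theorem L178379 : sm ge N22828 = N18317 := ded_26_1 (flp_g L129684) (flp_e L129352) L178371
theorem L178381 : sm gf N18292 = N22829 := rfl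
theorem L178383 : sm ga N22829 = N21844 := ded_11_1 (flp_f L171071) L151014 L178381
theorem L178385 : sm gc N22829 = N18293 := ded_20_1 (flp_f L129380) L129373 L178381
theorem L178387 : sm gd N22829 = N21848 := ded_23_1 (flp_f L171110) L151119 L178381
theorem L178389 : sm ge N22829 = N18325 := ded_25_1 (flp_f L129714) (flp_e L129375) L178381
theorem L178391 : sm gg N18294 = N22830 := rfl
theorem L178393 : sm gd N22830 = N19908 := ded_24_1 (flp_g L157559) (flp_d L129388) L178391
theorem L178395 : sm ge N22830 = N18330 := ded_26_1 (flp_g L129731) (flp_e L129390) L178391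
theorem L178397 : sm gf N22830 = N20081 := ded_29_2 (flp_g L158581) (flp_a L158535) L158539 L178391
theorem L178399 : sm gb N22830 = N22560 := ded_17_1 (flp_g L176121) (flp_b L149680) (flp_g L129404) L129386 L178391
theorem L178401 : sm gg N18295 = N22831 := rfl
theorem L178403 : sm ga N22831 = N18298 := ded_12_1 (flp_g L129422) (flp_a L129394) L178401
theorem L178405 : sm gc N22831 = N18296 := ded_21_1 (flp_g L129404) L129392 L178401
theorem L178407 : sm gd N22831 = N21166 := ded_24_1 (flp_g L166802) L129400 L178401
theorem L178409 : sm ge N22831 = N18333 := ded_26_1 (flp_g L129757) (flp_e L129396) L178401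
theorem L178411 : sm gf N22828 = N22831 := ded_29_0 (flp_g L178401) L129398 L170732 (flp_a L178373)
theorem L178413 : sm gf N18300 = N22832 := rfl
theorem L178415 : sm gd N22832 = N19928 := ded_23_1 (flp_f L157691) L149537 L178413
theorem L178417 : sm ge N22832 = N18341 := ded_25_1 (flp_f L129803) (flp_e L129440) L178413
theorem L178419 : sm gg N20097 = N22832 := ded_29_1 (flp_f L178413) (flp_g L158666) L158662 L158696
theorem L178421 : sm gb N22832 = N22500 := ded_16_1 (flp_f L175723) (flp_b L130512) (flp_f L129448) L129438 L178413
theorem L178423 : sm gf N18301 = N22833 := rfl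
theorem L178425 : sm ga N22833 = N18304 := ded_11_1 (flp_f L129460) (flp_a L129444) L178423
theorem L178427 : sm gc N22833 = N18302 := ded_20_1 (flp_f L129448) L129442 L178423
theorem L178429 : sm gd N22833 = N21178 := ded_23_1 (flp_f L166885) (flp_d L151089) L178423
theorem L178431 : sm ge N22833 = N18345 := ded_25_1 (flp_f L129813) (flp_e L129446) L178423
theorem L178433 : sm gg N22833 = N22829 := ded_29_3 L178383 (flp_f L171071) L151018 L178423
theorem L178435 : sm gg N18309 = N22834 := rfl
theorem L178437 : sm ga N22834 = N18311 := ded_12_1 (flp_g L129523) L129502 L178435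
theorem L178439 : sm gc N22834 = N21491 := ded_21_1 (flp_g L168841) (flp_c L129510) L178435
theorem L178441 : sm gd N22834 = N18523 := ded_24_1 (flp_g L143041) (flp_d L129504) L178435
theorem L178443 : sm ge N22834 = N18384 := ded_26_1 (flp_g L130052) (flp_e L129506) L178435
theorem L178445 : sm gf N20689 = N22834 := ded_29_0 (flp_g L178435) L129508 L164605 L164607
theorem L178447 : sm gb N20846 = N22834 := ded_31_14 (flp_g L178435) L129508 L113735 L162216 L162222 (flp_b L143381) (flp_g L143379) (flp_f L143373) (flp_b L143371) L103290 (flp_f L103286) L103280 L143393 (flp_f L164438)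
theorem L178449 : sm gg N18310 = N22835 := rfl
theorem L178451 : sm ga N22835 = N21491 := ded_12_1 (flp_g L168841) (flp_a L129516) L178449
theorem L178453 : sm gc N22835 = N18311 := ded_21_1 (flp_g L129523) L129514 L178449
theorem L178455 : sm gd N22835 = N22074 := ded_24_1 (flp_g L172628) (flp_d L129521) L178449
theorem L178457 : sm ge N22835 = N18385 := ded_26_1 (flp_g L130062) (flp_e L129518) L178449
theorem L178459 : sm gb N22039 = N22835 := ded_13_5 L178453 (flp_b L163370) L121610 L121616 L172405
theorem L178461 : sm gf N18312 = N22836 := rfl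
theorem L178463 : sm ga N22836 = N18314 := ded_11_1 (flp_f L129655) L129529 L178461
theorem L178465 : sm gc N22836 = N21651 := ded_20_1 (flp_f L169846) L129535 L178461
theorem L178467 : sm gd N22836 = N18528 := ded_23_1 (flp_f L143083) (flp_d L129531) L178461
theorem L178469 : sm ge N22836 = N18392 := ded_25_1 (flp_f L130113) (flp_e L129533) L178461
theorem L178471 : sm gg N22836 = N20743 := ded_29_3 (flp_a L165218) (flp_f L165216) (flp_g L148560) L178461
theorem L178473 : sm gb N22836 = N20795 := ded_31_2 L164013 (flp_f L143641) (flp_b L103366) L103372 L103376 L143619 L143621 L143627 L143629 L162540 (flp_f L162534) (flp_b L114302) (flp_g L148560) L178461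
theorem L178475 : sm gf N18313 = N22837 := rfl
theorem L178477 : sm ga N22837 = N21651 := ded_11_1 (flp_f L169846) (flp_a L129648) L178475
theorem L178479 : sm gc N22837 = N18314 := ded_20_1 (flp_f L129655) L129646 L178475
theorem L178481 : sm gd N22837 = N22288 := ded_23_1 (flp_f L174119) (flp_d L129653) L178475
theorem L178483 : sm ge N22837 = N18393 := ded_25_1 (flp_f L130123) (flp_e L129650) L178475
theorem L178485 : sm gb N21995 = N22837 := ded_30_2 L178477 (flp_f L169846) L129535 (flp_b L129600) (flp_a L146203) (flp_f L162981) L162979 (flp_b L145975) (flp_a L151129) (flp_f L151131) (flp_c L164426) (flp_b L164432) L121577 (flp_f L121533) (flp_c L121531) (flp_b L121504) (flp_a L151102) L121289 L172098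
theorem L178487 : sm gg N18316 = N22838 := rfl
theorem L178489 : sm ga N22838 = N22448 := ded_12_1 (flp_g L175342) (flp_a L129675) L178487
theorem L178491 : sm gc N22838 = N18336 := ded_21_1 (flp_g L129779) (flp_c L129682) L178487
theorem L178493 : sm gd N22838 = N18317 := ded_24_1 (flp_g L129684) L129673 L178487
theorem L178495 : sm ge N22838 = N22449 := ded_26_1 (flp_g L175350) (flp_e L129680) L178487
theorem L178497 : sm gf N18324 = N22839 := rfl
theorem L178499 : sm ga N22839 = N22507 := ded_11_1 (flp_f L175765) L149525 L178497
theorem L178501 : sm gc N22839 = N18349 := ded_20_1 (flp_f L129830) (flp_c L149523) L178497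
theorem L178503 : sm gd N22839 = N18325 := ded_23_1 (flp_f L129714) L129709 L178497
theorem L178505 : sm ge N22839 = N22508 := ded_25_1 (flp_f L175773) (flp_e L150752) L178497
theorem L178507 : sm gf N18331 = N22840 := rfl
theorem L178509 : sm ga N22840 = N20498 := ded_11_1 L161310 L129741 L178507
theorem L178511 : sm gc N22840 = N20496 := ded_20_1 L161300 L161246 L178507
theorem L178513 : sm gd N22840 = N21927 := ded_23_1 L171614 L129743 L178507
theorem L178515 : sm ge N22840 = N21107 := ded_25_1 L166400 (flp_e L129739) L178507
theorem L178517 : sm gb N22840 = N21793 := ded_16_1 (flp_f L170742) (flp_b L129669) L129667 L129737 L178507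
theorem L178519 : sm gg N18331 = N22841 := rfl
theorem L178521 : sm ga N22841 = N21173 := ded_12_1 (flp_g L166850) L129741 L178519
theorem L178523 : sm gd N22841 = N21940 := ded_24_1 (flp_g L171700) L129743 L178519
theorem L178525 : sm ge N22841 = N21168 := ded_26_1 (flp_g L166816) (flp_e L129739) L178519
theorem L178527 : sm gg N18332 = N22842 := rfl
theorem L178529 : sm ga N22842 = N18336 := ded_12_1 (flp_g L129779) (flp_a L129747) L178527
theorem L178531 : sm gc N22842 = N22448 := ded_21_1 (flp_g L175342) L129755 L178527
theorem L178533 : sm gd N22842 = N18333 := ded_24_1 (flp_g L129757) L129745 L178527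
theorem L178535 : sm ge N22842 = N21939 := ded_26_1 (flp_g L171694) (flp_e L129753) L178527
theorem L178537 : sm gf N22838 = N22842 := ded_29_0 (flp_g L178527) L129751 L175342 (flp_a L178489)
theorem L178539 : sm gb N18333 = N22843 := rfl
theorem L178541 : sm gc N22843 = N22425 := ded_13_2 (flp_b L175214) L123305 L148866 (flp_c L129761) L178539
theorem L178543 : sm gb N18337 = N22844 := rfl
theorem L178545 : sm gc N18338 = N22845 := rfl
theorem L178547 : sm ga N22845 = N22631 := ded_8_1 (flp_c L176771) (flp_a L150848) L178545
theorem L178549 : sm gg N22845 = N21026 := ded_21_2 L165760 L157571 L178545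
theorem L178551 : sm gd N21028 = N22845 := ded_28_3 (flp_c L178545) (flp_d L149748) L137024 (flp_d L165746) (flp_a L165744) L165748 (flp_d L165754) (flp_c L165776)
theorem L178553 : sm gf N18343 = N22846 := rfl
theorem L178555 : sm ga N22846 = N21185 := ded_11_1 (flp_f L166933) (flp_a L151358) L178553
theorem L178557 : sm gd N22846 = N21949 := ded_23_1 (flp_f L171770) L151268 L178553
theorem L178559 : sm ge N22846 = N21180 := ded_25_1 (flp_f L166899) (flp_e L151337) L178553
theorem L178561 : sm gg N18343 = N22847 := rfl
theorem L178563 : sm ga N22847 = N20544 := ded_12_1 L161561 (flp_a L151358) L178561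
theorem L178565 : sm gc N22847 = N20542 := ded_21_1 L161551 L161497 L178561
theorem L178567 : sm gd N22847 = N21933 := ded_24_1 L171658 L151268 L178561
theorem L178569 : sm ge N22847 = N21114 := ded_26_1 L166446 (flp_e L151337) L178561
theorem L178571 : sm gb N22847 = N21845 := ded_17_1 (flp_g L171081) (flp_b L150502) L129707 L129807 L178561
theorem L178573 : sm gf N18344 = N22848 := rfl
theorem L178575 : sm ga N22848 = N18349 := ded_11_1 (flp_f L129830) (flp_a L129811) L178573
theorem L178577 : sm gc N22848 = N22507 := ded_20_1 (flp_f L175765) (flp_c L149527) L178573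
theorem L178579 : sm gd N22848 = N18345 := ded_23_1 (flp_f L129813) L129809 L178573
theorem L178581 : sm ge N22848 = N21948 := ded_25_1 (flp_f L171764) L150750 L178573
theorem L178583 : sm gg N22848 = N22839 := ded_29_3 L178499 (flp_f L175765) (flp_g L150504) L178573
theorem L178585 : sm gb N18345 = N22849 := rfl
theorem L178587 : sm gc N22849 = N22234 := ded_13_2 (flp_b L173769) L122424 L130506 (flp_c L129817) L178585
theorem L178589 : sm gb N18350 = N22850 := rfl
theorem L178591 : sm gc N18351 = N22851 := rfl
theorem L178593 : sm ga N22851 = N22585 := ded_8_1 (flp_c L176348) L130518 L178591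
theorem L178595 : sm gf N22851 = N20945 := ded_20_2 L165126 L157703 L178591
theorem L178597 : sm gd N20947 = N22851 := ded_28_3 (flp_c L178591) L130516 L140974 (flp_d L165114) (flp_a L165112) L165116 (flp_d L165120) (flp_c L165140)
theorem L178599 : sm gb N18361 = N22852 := rfl
theorem L178601 : sm gd N22852 = N18371 := ded_14_2 (flp_b L129974) (flp_d L129910) L178599
theorem L178603 : sm ge N22852 = N20745 := ded_15_2 L162708 L162376 L178599
theorem L178605 : sm gg N22852 = N18362 := ded_17_2 (flp_b L129912) (flp_g L102539) L102533 L129908 L178599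
theorem L178607 : sm ga N18362 = N22853 := rfl
theorem L178609 : sm gd N22853 = N18372 := ded_9_2 (flp_a L129980) (flp_d L129914) L178607
theorem L178611 : sm ge N22853 = N20744 := ded_10_2 (flp_a L162698) L148568 L178607
theorem L178613 : sm gf N22853 = N20746 := ded_11_2 (flp_a L162710) (flp_f L148570) L178607
theorem L178615 : sm gb N18365 = N22854 := rfl
theorem L178617 : sm gd N22854 = N18379 := ded_14_2 (flp_b L130020) (flp_d L129934) L178615
theorem L178619 : sm ge N22854 = N20691 := ded_15_2 (flp_b L162696) L162694 L178615
theorem L178621 : sm gf N22854 = N18366 := ded_16_2 (flp_b L129936) (flp_f L102551) L102545 L129932 L178615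
theorem L178623 : sm ga N18366 = N22855 := rfl
theorem L178625 : sm gd N22855 = N18380 := ded_9_2 (flp_a L130026) (flp_d L129938) L178623
theorem L178627 : sm ge N22855 = N20690 := ded_10_2 (flp_a L162378) (flp_e L129940) L178623
theorem L178629 : sm gg N22855 = N20692 := ded_12_2 (flp_a L162388) (flp_g L129942) L178623
theorem L178631 : sm gg N18367 = N22856 := rfl
theorem L178633 : sm gc N22856 = N20670 := ded_21_1 (flp_g L162285) L129950 L178631
theorem L178635 : sm ge N22856 = N18493 := ded_26_1 (flp_g L142919) (flp_e L129946) L178631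
theorem L178637 : sm gd N18368 = N22857 := rfl
theorem L178639 : sm ga N22857 = N18369 := ded_9_1 (flp_d L129962) (flp_a L129954) L178637
theorem L178641 : sm gb N22857 = N20444 := ded_14_1 L160962 (flp_b L129960) L178637
theorem L178643 : sm gf N22857 = N18401 := ded_23_2 (flp_d L130176) (flp_f L129958) L178637
theorem L178645 : sm ge N22857 = N20441 := ded_22_2 (flp_d L160936) L111303 L120237 (flp_e L129956) L178637
theorem L178647 : sm gg N18369 = N22858 := rfl
theorem L178649 : sm gd N22858 = N18370 := ded_24_1 (flp_g L129968) L129962 L178647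
theorem L178651 : sm gb N18370 = N22859 := rfl
theorem L178653 : sm ge N22859 = N18494 := ded_15_2 (flp_b L142923) (flp_e L129972) L178651
theorem L178655 : sm gg N22859 = N18755 := ded_17_2 (flp_b L144419) (flp_g L103903) (flp_b L102571) L129968 L178651
theorem L178657 : sm ga N18371 = N22860 := rfl
theorem L178659 : sm ge N22860 = N18495 := ded_10_2 (flp_a L142927) (flp_e L129976) L178657
theorem L178661 : sm gg N22860 = N18372 := ded_12_2 (flp_a L129980) (flp_g L129978) L178657
theorem L178663 : sm gc N18371 = N22861 := rfl
theorem L178665 : sm ge N22861 = N18496 := ded_19_2 (flp_c L142931) (flp_e L129976) L178663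
theorem L178667 : sm gg N22861 = N18373 := ded_21_2 (flp_c L129984) (flp_g L129978) L178663
theorem L178669 : sm gf N18371 = N22862 := rfl
theorem L178671 : sm ge N22862 = N18497 := ded_25_1 (flp_f L142935) (flp_e L129976) L178669
theorem L178673 : sm gc N18372 = N22863 := rfl
theorem L178675 : sm ga N22863 = N18373 := ded_8_1 (flp_c L129984) L129980 L178673
theorem L178677 : sm ge N22863 = N18499 := ded_19_2 (flp_c L142939) (flp_e L129982) L178673
theorem L178679 : sm gf N18372 = N22864 := rfl
theorem L178681 : sm ga N22864 = N18374 := ded_11_1 (flp_f L129990) L129980 L178679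
theorem L178683 : sm gd N22864 = N20746 := ded_23_1 (flp_f L178613) L178609 L178679
theorem L178685 : sm ge N22864 = N18500 := ded_25_1 (flp_f L142943) (flp_e L129982) L178679
theorem L178687 : sm gg N22862 = N22864 := ded_29_1 (flp_f L178679) (flp_g L178661) (flp_a L178657) L178669
theorem L178689 : sm gf N18373 = N22865 := rfl
theorem L178691 : sm gc N22865 = N18374 := ded_20_1 (flp_f L129990) L129984 L178689
theorem L178693 : sm ge N22865 = N18502 := ded_25_1 (flp_f L142953) (flp_e L129986) L178689
theorem L178695 : sm gb N22561 = N22865 := ded_13_5 L178691 (flp_b L147381) L112710 (flp_b L124125) L176127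
theorem L178697 : sm gg N18374 = N22866 := rfl
theorem L178699 : sm ga N22866 = N22862 := ded_12_1 L178687 L178681 L178697
theorem L178701 : sm gd N22866 = N20748 := ded_24_1 (flp_g L162724) (flp_d L149011) L178697
theorem L178703 : sm ge N22866 = N18503 := ded_26_1 (flp_g L142957) (flp_e L129992) L178697
theorem L178705 : sm gf N22860 = N22866 := ded_29_0 (flp_g L178697) (flp_f L129990) (flp_g L129978) L178657
theorem L178707 : sm gb N22866 = N22563 := ded_17_1 (flp_g L176137) L124125 (flp_g L112716) L147381 L178697
theorem L178709 : sm gf N18375 = N22867 := rfl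
theorem L178711 : sm gc N22867 = N20726 := ded_20_1 (flp_f L162615) (flp_c L149586) L178709
theorem L178713 : sm ge N22867 = N18506 := ded_25_1 (flp_f L142967) (flp_e L129998) L178709
theorem L178715 : sm gd N18376 = N22868 := rfl
theorem L178717 : sm ga N22868 = N18377 := ded_9_1 (flp_d L130008) (flp_a L130002) L178715
theorem L178719 : sm gb N22868 = N20462 := ded_14_1 L161076 (flp_b L149315) L178715
theorem L178721 : sm gg N22868 = N18422 := ded_24_2 (flp_d L130296) (flp_g L130006) L178715
theorem L178723 : sm ge N22868 = N20459 := ded_22_2 (flp_d L161050) L111367 L148017 (flp_e L130004) L178715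
theorem L178725 : sm gf N18377 = N22869 := rfl
theorem L178727 : sm gd N22869 = N18378 := ded_23_1 (flp_f L130014) L130008 L178725
theorem L178729 : sm gb N18378 = N22870 := rfl
theorem L178731 : sm ge N22870 = N18513 := ded_15_2 (flp_b L142997) (flp_e L130018) L178729
theorem L178733 : sm gf N22870 = N18773 := ded_16_2 (flp_b L144511) (flp_f L103945) (flp_b L102593) L130014 L178729
theorem L178735 : sm ga N18379 = N22871 := rfl
theorem L178737 : sm ge N22871 = N18514 := ded_10_2 (flp_a L143001) (flp_e L130022) L178735
theorem L178739 : sm gf N22871 = N18380 := ded_11_2 (flp_a L130026) (flp_f L130024) L178735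
theorem L178741 : sm gc N18379 = N22872 := rfl
theorem L178743 : sm ge N22872 = N18515 := ded_19_2 (flp_c L143005) (flp_e L130022) L178741
theorem L178745 : sm gf N22872 = N18381 := ded_20_2 (flp_c L130030) (flp_f L130024) L178741
theorem L178747 : sm gg N18379 = N22873 := rfl
theorem L178749 : sm ge N22873 = N18516 := ded_26_1 (flp_g L143009) (flp_e L130022) L178747
theorem L178751 : sm gc N18380 = N22874 := rfl
theorem L178753 : sm ga N22874 = N18381 := ded_8_1 (flp_c L130030) L130026 L178751
theorem L178755 : sm ge N22874 = N18518 := ded_19_2 (flp_c L143013) (flp_e L130028) L178751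
theorem L178757 : sm gg N18380 = N22875 := rfl
theorem L178759 : sm ga N22875 = N18382 := ded_12_1 (flp_g L130036) L130026 L178757
theorem L178761 : sm gd N22875 = N20692 := ded_24_1 (flp_g L178629) L178625 L178757
theorem L178763 : sm ge N22875 = N18519 := ded_26_1 (flp_g L143017) (flp_e L130028) L178757
theorem L178765 : sm gf N22875 = N22873 := ded_29_2 (flp_g L178747) L178735 L178739 L178757
theorem L178767 : sm gg N18381 = N22876 := rfl
theorem L178769 : sm gc N22876 = N18382 := ded_21_1 (flp_g L130036) L130030 L178767
theorem L178771 : sm ge N22876 = N18521 := ded_26_1 (flp_g L143029) (flp_e L130032) L178767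
theorem L178773 : sm gb N22502 = N22876 := ded_13_5 L178769 L130042 L112466 (flp_b L123656) L175735
theorem L178775 : sm gf N18382 = N22877 := rfl
theorem L178777 : sm ga N22877 = N22873 := ded_11_1 (flp_f L178765) L178759 L178775
theorem L178779 : sm gd N22877 = N20694 := ded_23_1 (flp_f L162402) (flp_d L130038) L178775
theorem L178781 : sm ge N22877 = N18522 := ded_25_1 (flp_f L143033) (flp_e L130040) L178775
theorem L178783 : sm gg N22877 = N22871 := ded_29_3 (flp_a L178735) L130024 L130036 L178775
theorem L178785 : sm gb N22877 = N22503 := ded_16_1 (flp_f L175737) L123656 L112472 (flp_b L130042) L178775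
theorem L178787 : sm gg N18383 = N22878 := rfl
theorem L178789 : sm gc N22878 = N21499 := ded_21_1 (flp_g L168901) (flp_c L130050) L178787
theorem L178791 : sm gd N22878 = N18399 := ded_24_1 (flp_g L130166) (flp_d L130046) L178787
theorem L178793 : sm ge N22878 = N20781 := ded_26_1 L163019 (flp_e L130048) L178787
theorem L178795 : sm gf N22878 = N20774 := ded_29_2 (flp_g L162953) (flp_a L162907) L162911 L178787
theorem L178797 : sm gb N18384 = N22879 := rfl
theorem L178799 : sm gd N22879 = N18403 := ded_14_2 (flp_b L130190) (flp_d L130058) L178797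
theorem L178801 : sm ge N22879 = N20846 := ded_15_2 L178447 L178443 L178797
theorem L178803 : sm ga N20842 = N22879 := ded_9_3 L178799 (flp_a L150774) (flp_d L164402)
theorem L178805 : sm gb N18385 = N22880 := rfl
theorem L178807 : sm gd N22880 = N21490 := ded_14_2 (flp_b L168836) (flp_d L130068) L178805
theorem L178809 : sm ge N22880 = N22039 := ded_15_2 L178459 L178457 L178805
theorem L178811 : sm gc N22880 = N22037 := ded_13_2 (flp_b L172390) (flp_c L163479) (flp_b L130070) (flp_c L130066) L178805
theorem L178813 : sm gg N22880 = N22880 := ded_17_2 (flp_b L178805) (flp_g L130062) L102609 L130062 L178805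
theorem L178814 : sm ga N18386 = N22881 := rfl
theorem L178816 : sm gc N22881 = N22032 := ded_8_2 L172360 (flp_c L163479) L178814
theorem L178818 : sm gd N22881 = N18408 := ded_9_2 (flp_a L130220) (flp_d L130072) L178814
theorem L178820 : sm ge N22881 = N22031 := ded_10_2 L172348 L163374 L178814
theorem L178822 : sm gg N22881 = N18388 := ded_12_2 (flp_a L130086) (flp_g L130076) L178814
theorem L178824 : sm gb N22881 = N22864 := ded_7_2 L178681 (flp_b L147381) (flp_a L113524) L164400 L178803 (flp_b L178797) L130054 L130070 L178814
theorem L178826 : sm gf N18386 = N22882 := rfl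
theorem L178828 : sm gc N22882 = N22038 := ded_20_1 (flp_f L172397) (flp_c L163479) L178826
theorem L178830 : sm gd N22882 = N18410 := ded_23_1 (flp_f L130232) (flp_d L130072) L178826
theorem L178832 : sm ge N22882 = N22036 := ded_25_1 (flp_f L172382) L163374 L178826
theorem L178834 : sm gb N18387 = N22883 := rfl
theorem L178836 : sm gd N22883 = N18411 := ded_14_2 (flp_b L130236) (flp_d L130082) L178834
theorem L178838 : sm ge N22883 = N18620 := ded_15_2 L164615 L164611 L178834
theorem L178840 : sm ga N22883 = N18432 := ded_28_8 L163606 (flp_d L155894) (flp_c L107809) (flp_d L91323) L107859 L156000 L163689 (flp_d L178836)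
theorem L178842 : sm gb N18388 = N22884 := rfl
theorem L178844 : sm gd N22884 = N18412 := ded_14_2 (flp_b L130240) (flp_d L130088) L178842
theorem L178846 : sm ge N22884 = N20845 := ded_15_2 (flp_b L164432) L163351 L178842
theorem L178848 : sm gf N20844 = N22884 := ded_25_0 L178846 (flp_f L164422) (flp_e L164418)
theorem L178850 : sm gf N18388 = N22885 := rfl
theorem L178852 : sm ga N22885 = N18390 := ded_11_1 (flp_f L130097) L130086 L178850
theorem L178854 : sm gc N22885 = N22020 := ded_20_1 L172281 (flp_c L163473) L178850
theorem L178856 : sm gd N22885 = N18414 := ded_23_1 (flp_f L130250) (flp_d L130088) L178850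
theorem L178858 : sm ge N22885 = N22019 := ded_25_1 L172271 L163351 L178850
theorem L178860 : sm gg N22882 = N22885 := ded_29_1 (flp_f L178850) (flp_g L178822) (flp_a L178814) L178826
theorem L178862 : sm gb N22885 = N22596 := ded_16_1 L176458 (flp_b L164420) L178848 (flp_b L178842) L178850
theorem L178864 : sm gg N18390 = N22886 := rfl
theorem L178866 : sm ga N22886 = N22882 := ded_12_1 L178860 L178852 L178864
theorem L178868 : sm gc N22886 = N22022 := ded_21_1 (flp_g L172289) (flp_c L163481) L178864
theorem L178870 : sm gd N22886 = N18417 := ded_24_1 (flp_g L130270) (flp_d L130099) L178864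
theorem L178872 : sm ge N22886 = N22021 := ded_26_1 (flp_g L172283) L163380 L178864
theorem L178874 : sm gf N22881 = N22886 := ded_29_0 (flp_g L178864) (flp_f L130097) (flp_g L130076) L178814
theorem L178876 : sm gb N22886 = N22501 := ded_17_1 (flp_g L175729) (flp_b L130512) (flp_g L129454) (flp_b L130103) L178864
theorem L178878 : sm gf N18391 = N22887 := rfl
theorem L178880 : sm gc N22887 = N21658 := ded_20_1 (flp_f L169894) (flp_c L130111) L178878
theorem L178882 : sm gd N22887 = N18419 := ded_23_1 (flp_f L130284) (flp_d L130107) L178878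
theorem L178884 : sm ge N22887 = N20834 := ded_25_1 (flp_f L164334) (flp_e L130109) L178878
theorem L178886 : sm gg N20828 = N22887 := ded_29_1 (flp_f L178878) (flp_g L164242) L164238 L164274
theorem L178888 : sm gb N18392 = N22888 := rfl
theorem L178890 : sm gd N22888 = N18424 := ded_14_2 (flp_b L130310) (flp_d L130119) L178888
theorem L178892 : sm ge N22888 = N20795 := ded_15_2 (flp_b L178473) L178469 L178888
theorem L178894 : sm ga N20791 = N22888 := ded_9_3 L178890 (flp_a L143449) (flp_d L163097)
theorem L178896 : sm gb N18393 = N22889 := rfl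
theorem L178898 : sm gd N22889 = N21650 := ded_14_2 (flp_b L169841) (flp_d L130129) L178896
theorem L178900 : sm ge N22889 = N21995 := ded_15_2 L178485 L178483 L178896
theorem L178902 : sm gc N22889 = N21993 := ded_13_2 (flp_b L172085) (flp_c L163415) (flp_b L130131) (flp_c L130127) L178896
theorem L178904 : sm gf N22889 = N22889 := ded_16_2 (flp_b L178896) (flp_f L130123) L102626 L130123 L178896
theorem L178905 : sm ga N18394 = N22890 := rfl
theorem L178907 : sm gc N22890 = N21988 := ded_8_2 L172055 (flp_c L163415) L178905
theorem L178909 : sm gd N22890 = N18429 := ded_9_2 (flp_a L130340) (flp_d L130133) L178905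
theorem L178911 : sm ge N22890 = N21987 := ded_10_2 L172043 L163233 L178905
theorem L178913 : sm gf N22890 = N18396 := ded_11_2 (flp_a L130147) (flp_f L130137) L178905
theorem L178915 : sm gb N22890 = N22875 := ded_7_2 L178759 L130042 (flp_a L113096) L163095 L178894 (flp_b L178888) L130115 L130131 L178905
theorem L178917 : sm gg N18394 = N22891 := rfl
theorem L178919 : sm gc N22891 = N21994 := ded_21_1 (flp_g L172090) (flp_c L163415) L178917
theorem L178921 : sm gd N22891 = N18431 := ded_24_1 (flp_g L130352) (flp_d L130133) L178917
theorem L178923 : sm ge N22891 = N21992 := ded_26_1 (flp_g L172077) L163233 L178917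
theorem L178925 : sm gb N18395 = N22892 := rfl
theorem L178927 : sm gd N22892 = N18432 := ded_14_2 (flp_b L130356) (flp_d L130143) L178925
theorem L178929 : sm ge N22892 = N18579 := ded_15_2 L165226 L165222 L178925
theorem L178931 : sm ga N18411 = N22892 := ded_9_3 L178927 (flp_a L178840) L178836
theorem L178933 : sm gb N18396 = N22893 := rfl
theorem L178935 : sm gd N22893 = N18433 := ded_14_2 (flp_b L130360) (flp_d L130149) L178933
theorem L178937 : sm ge N22893 = N20794 := ded_15_2 (flp_b L163127) L163137 L178933
theorem L178939 : sm gg N20793 = N22893 := ded_26_0 L178937 (flp_g L163117) (flp_e L163113)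
theorem L178941 : sm gg N18396 = N22894 := rfl
theorem L178943 : sm ga N22894 = N18398 := ded_12_1 (flp_g L130158) L130147 L178941
theorem L178945 : sm gc N22894 = N21976 := ded_21_1 L171982 (flp_c L163248) L178941
theorem L178947 : sm gd N22894 = N18435 := ded_24_1 (flp_g L130372) (flp_d L130149) L178941
theorem L178949 : sm ge N22894 = N21975 := ded_26_1 L171972 L163137 L178941
theorem L178951 : sm gf N22894 = N22891 := ded_29_2 (flp_g L178917) L178905 L178913 L178941
theorem L178953 : sm gb N22894 = N22609 := ded_17_1 (flp_g L176548) (flp_b L163115) L178939 (flp_b L178933) L178941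
theorem L178955 : sm gf N18398 = N22895 := rfl
theorem L178957 : sm ga N22895 = N22891 := ded_11_1 (flp_f L178951) L178943 L178955
theorem L178959 : sm gc N22895 = N21978 := ded_20_1 (flp_f L171990) (flp_c L163413) L178955
theorem L178961 : sm gd N22895 = N18438 := ded_23_1 (flp_f L130392) (flp_d L130160) L178955
theorem L178963 : sm ge N22895 = N21977 := ded_25_1 (flp_f L171984) L163227 L178955
theorem L178965 : sm gg N22895 = N22890 := ded_29_3 (flp_a L178905) L130137 L130158 L178955
theorem L178967 : sm gb N22895 = N22559 := ded_16_1 (flp_f L176115) (flp_b L149680) L129410 (flp_b L130164) L178955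
theorem L178969 : sm gb N18399 = N22896 := rfl
theorem L178971 : sm ge N22896 = N18561 := ded_15_2 (flp_b L143295) (flp_e L130168) L178969
theorem L178973 : sm gg N22896 = N18403 := ded_17_2 (flp_b L130190) (flp_g L102647) L102637 L130166 L178969
theorem L178975 : sm ga N20844 = N22896 := ded_10_3 L178971 (flp_a L149600) (flp_e L164418)
theorem L178977 : sm gd N18400 = N22897 := rfl
theorem L178979 : sm gb N22897 = N18401 := ded_14_1 (flp_d L130176) L130172 L178977
theorem L178981 : sm gg N18400 = N22898 := rfl
theorem L178983 : sm ge N22898 = N18562 := ded_26_1 (flp_g L143301) (flp_e L130174) L178981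
theorem L178985 : sm ge N18401 = N22899 := rfl
theorem L178987 : sm ga N22899 = N18404 := ded_10_1 (flp_e L130194) (flp_a L130178) L178985
theorem L178989 : sm gf N22899 = N20441 := ded_25_2 (flp_e L178645) L178643 L178985
theorem L178991 : sm gd N22899 = N18563 := ded_22_1 (flp_e L143305) (flp_d L103232) (flp_e L102645) L130176 L178985
theorem L178993 : sm gg N18401 = N22900 := rfl
theorem L178995 : sm ga N22900 = N18405 := ded_12_1 (flp_g L130200) (flp_a L130178) L178993
theorem L178997 : sm gd N22900 = N18402 := ded_24_1 (flp_g L130180) L130176 L178993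
theorem L178999 : sm gf N22900 = N22858 := ded_29_2 (flp_g L178647) (flp_a L178639) L178643 L178993
theorem L179001 : sm gb N18402 = N22901 := rfl
theorem L179003 : sm ge N22901 = N18565 := ded_15_2 (flp_b L143321) (flp_e L130186) L179001
theorem L179005 : sm gc N18403 = N22902 := rfl
theorem L179007 : sm ga N22902 = N20843 := ded_8_1 (flp_c L164406) L150774 L179005
theorem L179009 : sm ge N22902 = N18567 := ded_19_2 (flp_c L143325) (flp_e L130192) L179005
theorem L179011 : sm gf N18403 = N22903 := rfl
theorem L179013 : sm ga N22903 = N20830 := ded_11_1 L164296 L150774 L179011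
theorem L179015 : sm ge N22903 = N18568 := ded_25_1 (flp_f L143327) (flp_e L130192) L179011
theorem L179017 : sm gg N22884 = N22903 := ded_29_1 (flp_f L179011) (flp_g L178973) (flp_a L178975) L178848
theorem L179019 : sm gb N22903 = N22862 := ded_16_1 (flp_f L178669) (flp_b L129974) (flp_f L102653) L130190 L179011
theorem L179021 : sm gg N18404 = N22904 := rfl
theorem L179023 : sm gd N22904 = N18569 := ded_24_1 (flp_g L143337) (flp_d L130198) L179021
theorem L179025 : sm ge N22904 = N18405 := ded_26_1 (flp_g L130200) L130194 L179021
theorem L179027 : sm gb N18405 = N22905 := rfl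
theorem L179029 : sm gd N22905 = N18406 := ded_14_2 (flp_b L130204) (flp_d L130202) L179027
theorem L179031 : sm gg N22905 = N18440 := ded_17_2 (flp_b L130408) (flp_g L102761) (flp_b L102657) L130200 L179027
theorem L179033 : sm gf N18405 = N22906 := rfl
theorem L179035 : sm ga N22906 = N22858 := ded_11_1 (flp_f L178999) L178995 L179033
theorem L179037 : sm gd N22906 = N18407 := ded_23_1 (flp_f L130210) (flp_d L130202) L179033
theorem L179039 : sm gg N22906 = N22857 := ded_29_3 L178639 L129966 L130200 L179033
theorem L179041 : sm ga N18406 = N22907 := rfl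
theorem L179043 : sm ge N22907 = N18571 := ded_10_2 (flp_a L143347) (flp_e L130206) L179041
theorem L179045 : sm gg N22907 = N18441 := ded_12_2 (flp_a L130412) (flp_g L130208) L179041
theorem L179047 : sm gf N18406 = N22908 := rfl
theorem L179049 : sm ge N22908 = N18572 := ded_25_1 (flp_f L143351) (flp_e L130206) L179047
theorem L179051 : sm gc N18408 = N22909 := rfl
theorem L179053 : sm ga N22909 = N18409 := ded_8_1 (flp_c L130226) L130220 L179051
theorem L179055 : sm ge N22909 = N18575 := ded_19_2 (flp_c L143357) (flp_e L130222) L179051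
theorem L179057 : sm gg N22909 = N18413 := ded_21_2 (flp_c L130244) (flp_g L130224) L179051
theorem L179059 : sm gb N22418 = N22909 := ded_15_3 L179055 L151403 (flp_e L175164)
theorem L179061 : sm gd N18409 = N22910 := rfl
theorem L179063 : sm gg N22910 = N18415 := ded_24_2 (flp_d L130258) (flp_g L130230) L179061
theorem L179065 : sm gf N18409 = N22911 := rfl
theorem L179067 : sm gc N22911 = N18410 := ded_20_1 (flp_f L130232) L130226 L179065
theorem L179069 : sm ge N22911 = N18577 := ded_25_1 (flp_f L143367) (flp_e L130228) L179065
theorem L179071 : sm gb N18410 = N22912 := rfl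
theorem L179073 : sm ge N22912 = N18578 := ded_15_2 (flp_b L143371) (flp_e L130234) L179071
theorem L179075 : sm gf N22912 = N18411 := ded_16_2 (flp_b L130236) (flp_f L102671) L102665 L130232 L179071
theorem L179077 : sm gg N18411 = N22913 := rfl
theorem L179079 : sm ge N22913 = N18581 := ded_26_1 (flp_g L143379) (flp_e L130238) L179077
theorem L179081 : sm gb N22913 = N22856 := ded_17_1 (flp_g L178631) (flp_b L129944) (flp_g L102677) L130236 L179077
theorem L179083 : sm ga N18412 = N22914 := rfl
theorem L179085 : sm ge N22914 = N18582 := ded_10_2 (flp_a L143383) (flp_e L130242) L179083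
theorem L179087 : sm gc N18412 = N22915 := rfl
theorem L179089 : sm ge N22915 = N18583 := ded_19_2 (flp_c L143385) (flp_e L130242) L179087
theorem L179091 : sm gb N22915 = N22176 := ded_13_1 L173375 (flp_b L151399) (flp_c L130244) L130240 L179087
theorem L179093 : sm gf N18412 = N22916 := rfl
theorem L179095 : sm gd N22916 = N20844 := ded_23_1 L178848 L178844 L179093
theorem L179097 : sm ge N22916 = N18584 := ded_25_1 (flp_f L143387) (flp_e L130242) L179093
theorem L179099 : sm gb N22916 = N22597 := ded_16_1 (flp_f L176460) L130508 (flp_f L130250) L130240 L179093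
theorem L179101 : sm gg N20842 = N22916 := ded_24_0 L179095 (flp_g L164414) (flp_d L164402)
theorem L179103 : sm gg N18412 = N22917 := rfl
theorem L179105 : sm gd N22917 = N22903 := ded_24_1 (flp_g L179017) L178844 L179103
theorem L179107 : sm ge N22917 = N18585 := ded_26_1 (flp_g L143393) (flp_e L130242) L179103
theorem L179109 : sm gf N22879 = N22917 := ded_29_0 (flp_g L179103) L179093 (flp_g L179101) L178803
theorem L179111 : sm gd N18413 = N22918 := rfl
theorem L179113 : sm ga N22918 = N18415 := ded_9_1 (flp_d L130258) (flp_a L130246) L179111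
theorem L179115 : sm gb N22918 = N21769 := ded_14_1 L170600 (flp_b L151399) L179111
theorem L179117 : sm ge N22918 = N21770 := ded_22_2 L170608 L118063 (flp_d L151354) (flp_e L130248) L179111
theorem L179119 : sm gf N18413 = N22919 := rfl
theorem L179121 : sm ga N22919 = N18416 := ded_11_1 (flp_f L130262) (flp_a L130246) L179119
theorem L179123 : sm gc N22919 = N18414 := ded_20_1 (flp_f L130250) L130244 L179119
theorem L179125 : sm ge N22919 = N18588 := ded_25_1 (flp_f L143401) (flp_e L130248) L179119
theorem L179127 : sm gg N22911 = N22919 := ded_29_1 (flp_f L179119) (flp_g L179057) L179053 L179065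
theorem L179129 : sm gc N18415 = N22920 := rfl
theorem L179131 : sm ge N18415 = N22921 := rfl
theorem L179133 : sm ga N22921 = N21770 := ded_10_1 (flp_e L179117) L179113 L179131
theorem L179135 : sm gb N22921 = N18443 := ded_15_1 (flp_e L130424) (flp_b L130260) L179131
theorem L179137 : sm gd N22921 = N18590 := ded_22_1 (flp_e L143461) (flp_d L103292) (flp_e L102685) L130258 L179131
theorem L179139 : sm gf N18415 = N22922 := rfl
theorem L179141 : sm gd N22922 = N18416 := ded_23_1 (flp_f L130262) L130258 L179139
theorem L179143 : sm gb N22922 = N18953 := ded_16_1 (flp_f L145540) L104448 (flp_f L102775) (flp_b L130260) L179139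
theorem L179145 : sm gg N18416 = N22923 := rfl
theorem L179147 : sm ga N22923 = N22911 := ded_12_1 L179127 L179121 L179145
theorem L179149 : sm gc N22923 = N18417 := ded_21_1 (flp_g L130270) (flp_c L130264) L179145
theorem L179151 : sm ge N22923 = N18592 := ded_26_1 (flp_g L143471) (flp_e L130266) L179145
theorem L179153 : sm gf N22909 = N22923 := ded_29_0 (flp_g L179145) (flp_f L130262) (flp_g L130230) (flp_a L179053)
theorem L179155 : sm gb N18417 = N22924 := rfl
theorem L179157 : sm gd N22924 = N22501 := ded_14_2 (flp_b L178876) L178870 L179155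
theorem L179159 : sm ge N22924 = N18593 := ded_15_2 (flp_b L143479) (flp_e L130274) L179155
theorem L179161 : sm gg N22924 = N22499 := ded_17_2 L175719 (flp_g L129466) (flp_b L102693) L130270 L179155
theorem L179163 : sm ga N22504 = N22924 := ded_9_3 L179157 L175731 (flp_d L175743)
theorem L179165 : sm gb N18419 = N22925 := rfl
theorem L179167 : sm ge N22925 = N18596 := ded_15_2 (flp_b L143495) (flp_e L130286) L179165
theorem L179169 : sm gf N22925 = N18424 := ded_16_2 (flp_b L130310) (flp_f L102705) L102695 L130284 L179165
theorem L179171 : sm ga N20793 = N22925 := ded_10_3 L179167 (flp_a L143501) (flp_e L163113)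
theorem L179173 : sm gd N18421 = N22926 := rfl
theorem L179175 : sm gb N22926 = N18422 := ded_14_1 (flp_d L130296) L130292 L179173
theorem L179177 : sm gf N18421 = N22927 := rfl
theorem L179179 : sm ge N22927 = N18600 := ded_25_1 (flp_f L143519) (flp_e L130294) L179177
theorem L179181 : sm ge N18422 = N22928 := rfl
theorem L179183 : sm ga N22928 = N18425 := ded_10_1 (flp_e L130314) (flp_a L130298) L179181
theorem L179185 : sm gg N22928 = N20459 := ded_26_2 (flp_e L178723) L178721 L179181
theorem L179187 : sm gd N22928 = N18603 := ded_22_1 (flp_e L143529) (flp_d L103318) (flp_e L102703) L130296 L179181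
theorem L179189 : sm gf N18422 = N22929 := rfl
theorem L179191 : sm ga N22929 = N18426 := ded_11_1 (flp_f L130320) (flp_a L130298) L179189
theorem L179193 : sm gd N22929 = N18423 := ded_23_1 (flp_f L130300) L130296 L179189
theorem L179195 : sm gg N22869 = N22929 := ded_29_1 (flp_f L179189) (flp_g L178721) L178717 L178725
theorem L179197 : sm gb N18423 = N22930 := rfl
theorem L179199 : sm ge N22930 = N18605 := ded_15_2 (flp_b L143541) (flp_e L130306) L179197
theorem L179201 : sm gc N18424 = N22931 := rfl
theorem L179203 : sm ga N22931 = N20792 := ded_8_1 (flp_c L163101) L143449 L179201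
theorem L179205 : sm ge N22931 = N18606 := ded_19_2 (flp_c L143543) (flp_e L130312) L179201
theorem L179207 : sm gg N18424 = N22932 := rfl
theorem L179209 : sm ga N22932 = N20776 := ded_12_1 L162973 L143449 L179207
theorem L179211 : sm ge N22932 = N18607 := ded_26_1 (flp_g L143547) (flp_e L130312) L179207
theorem L179213 : sm gf N22932 = N22893 := ded_29_2 (flp_g L178939) L179171 L179169 L179207
theorem L179215 : sm gb N22932 = N22873 := ded_17_1 (flp_g L178747) (flp_b L130020) L102711 L130310 L179207
theorem L179217 : sm gf N18425 = N22933 := rfl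
theorem L179219 : sm gd N22933 = N18610 := ded_23_1 (flp_f L143569) (flp_d L130318) L179217
theorem L179221 : sm ge N22933 = N18426 := ded_25_1 (flp_f L130320) L130314 L179217
theorem L179223 : sm gb N18426 = N22934 := rfl
theorem L179225 : sm gd N22934 = N18427 := ded_14_2 (flp_b L130324) (flp_d L130322) L179223
theorem L179227 : sm gf N22934 = N18445 := ded_16_2 (flp_b L130442) (flp_f L102785) (flp_b L102715) L130320 L179223
theorem L179229 : sm gg N18426 = N22935 := rfl
theorem L179231 : sm ga N22935 = N22869 := ded_12_1 L179195 L179191 L179229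
theorem L179233 : sm gd N22935 = N18428 := ded_24_1 (flp_g L130330) (flp_d L130322) L179229
theorem L179235 : sm gf N22868 = N22935 := ded_29_0 (flp_g L179229) (flp_f L130320) (flp_g L130012) (flp_a L178717)
theorem L179237 : sm ga N18427 = N22936 := rfl
theorem L179239 : sm ge N22936 = N18613 := ded_10_2 (flp_a L143587) (flp_e L130326) L179237
theorem L179241 : sm gf N22936 = N18446 := ded_11_2 (flp_a L130446) (flp_f L130328) L179237
theorem L179243 : sm gg N18427 = N22937 := rfl
theorem L179245 : sm ge N22937 = N18614 := ded_26_1 (flp_g L143591) (flp_e L130326) L179243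
theorem L179247 : sm gc N18429 = N22938 := rfl
theorem L179249 : sm ga N22938 = N18430 := ded_8_1 (flp_c L130346) L130340 L179247
theorem L179251 : sm ge N22938 = N18616 := ded_19_2 (flp_c L143595) (flp_e L130342) L179247
theorem L179253 : sm gf N22938 = N18434 := ded_20_2 (flp_c L130364) (flp_f L130344) L179247
theorem L179255 : sm gb N22218 = N22938 := ded_15_3 L179251 (flp_b L143603) (flp_e L173673)
theorem L179257 : sm gd N18430 = N22939 := rfl
theorem L179259 : sm gf N22939 = N18436 := ded_23_2 (flp_d L130380) (flp_f L130350) L179257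
theorem L179261 : sm gg N18430 = N22940 := rfl
theorem L179263 : sm gc N22940 = N18431 := ded_21_1 (flp_g L130352) L130346 L179261
theorem L179265 : sm ge N22940 = N18618 := ded_26_1 (flp_g L143615) (flp_e L130348) L179261
theorem L179267 : sm gb N18431 = N22941 := rfl
theorem L179269 : sm ge N22941 = N18619 := ded_15_2 (flp_b L143619) (flp_e L130354) L179267
theorem L179271 : sm gg N22941 = N18432 := ded_17_2 (flp_b L130356) (flp_g L102729) L102723 L130352 L179267
theorem L179273 : sm gf N18432 = N22942 := rfl
theorem L179275 : sm ge N22942 = N18622 := ded_25_1 (flp_f L143627) (flp_e L130358) L179273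
theorem L179277 : sm gb N22942 = N22867 := ded_16_1 (flp_f L178709) (flp_b L129996) L102735 L130356 L179273
theorem L179279 : sm ga N18433 = N22943 := rfl
theorem L179281 : sm ge N22943 = N18623 := ded_10_2 (flp_a L143631) (flp_e L130362) L179279
theorem L179283 : sm gb N22943 = N22914 := ded_7_2 (flp_a L179083) (flp_b L130240) (flp_a L102679) (flp_b L88422) (flp_a L36843) L88440 L102737 L130360 L179279
theorem L179285 : sm gc N18433 = N22944 := rfl
theorem L179287 : sm ge N22944 = N18624 := ded_19_2 (flp_c L143635) (flp_e L130362) L179285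
theorem L179289 : sm gb N22944 = N22230 := ded_13_1 L173737 L130370 (flp_c L130364) L130360 L179285
theorem L179291 : sm gf N18433 = N22945 := rfl
theorem L179293 : sm gd N22945 = N22932 := ded_23_1 L179213 L178935 L179291
theorem L179295 : sm ge N22945 = N18625 := ded_25_1 (flp_f L143641) (flp_e L130362) L179291
theorem L179297 : sm gg N22888 = N22945 := ded_24_0 L179293 (flp_g L179207) (flp_d L178890)
theorem L179299 : sm gg N18433 = N22946 := rfl
theorem L179301 : sm gd N22946 = N20793 := ded_24_1 L178939 L178935 L179299
theorem L179303 : sm ge N22946 = N18626 := ded_26_1 (flp_g L143643) (flp_e L130362) L179299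
theorem L179305 : sm gf N20791 = N22946 := ded_29_0 (flp_g L179299) L179291 (flp_g L179297) (flp_a L178894)
theorem L179307 : sm gb N22946 = N22608 := ded_17_1 L176546 L148854 (flp_g L130372) L130360 L179299
theorem L179309 : sm gd N18434 = N22947 := rfl
theorem L179311 : sm ga N22947 = N18436 := ded_9_1 (flp_d L130380) (flp_a L130366) L179309
theorem L179313 : sm gb N22947 = N21610 := ded_14_1 L169585 L130370 L179309
theorem L179315 : sm ge N22947 = N21611 := ded_22_2 L169593 L117449 (flp_d L120601) (flp_e L130368) L179309
theorem L179317 : sm gg N18434 = N22948 := rfl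
theorem L179319 : sm ga N22948 = N18437 := ded_12_1 (flp_g L130384) (flp_a L130366) L179317
theorem L179321 : sm gc N22948 = N18435 := ded_21_1 (flp_g L130372) L130364 L179317
theorem L179323 : sm ge N22948 = N18627 := ded_26_1 (flp_g L143651) (flp_e L130368) L179317
theorem L179325 : sm gf N22948 = N22940 := ded_29_2 (flp_g L179261) (flp_a L179249) L179253 L179317
theorem L179327 : sm gc N18436 = N22949 := rfl
theorem L179329 : sm ge N18436 = N22950 := rfl
theorem L179331 : sm ga N22950 = N21611 := ded_10_1 (flp_e L179315) L179311 L179329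
theorem L179333 : sm gb N22950 = N18448 := ded_15_1 (flp_e L130460) (flp_b L130382) L179329
theorem L179335 : sm gd N22950 = N18630 := ded_22_1 (flp_e L143675) (flp_d L103378) (flp_e L102743) L130380 L179329
theorem L179337 : sm gg N18436 = N22951 := rfl
theorem L179339 : sm gd N22951 = N18437 := ded_24_1 (flp_g L130384) L130380 L179337
theorem L179341 : sm gb N22951 = N18914 := ded_17_1 (flp_g L145322) L104343 (flp_g L102805) (flp_b L130382) L179337
theorem L179343 : sm gf N18437 = N22952 := rfl
theorem L179345 : sm ga N22952 = N22940 := ded_11_1 (flp_f L179325) L179319 L179343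
theorem L179347 : sm gc N22952 = N18438 := ded_20_1 (flp_f L130392) (flp_c L130386) L179343
theorem L179349 : sm ge N22952 = N18632 := ded_25_1 (flp_f L143689) (flp_e L130388) L179343
theorem L179351 : sm gg N22952 = N22938 := ded_29_3 L179249 L130350 L130384 L179343
theorem L179353 : sm gb N18438 = N22953 := rfl
theorem L179355 : sm gd N22953 = N22559 := ded_14_2 (flp_b L178967) L178961 L179353
theorem L179357 : sm ge N22953 = N18633 := ded_15_2 (flp_b L143697) (flp_e L130396) L179353
theorem L179359 : sm gf N22953 = N22558 := ded_16_2 L176111 (flp_f L129428) (flp_b L102751) L130392 L179353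
theorem L179361 : sm ga N22562 = N22953 := ded_9_3 L179355 L176117 (flp_d L176131)
theorem L179363 : sm gb N18439 = N22954 := rfl
theorem L179365 : sm gd N22954 = N18638 := ded_14_2 (flp_b L143737) (flp_d L130404) L179363
theorem L179367 : sm ge N22954 = N18440 := ded_15_2 (flp_b L130408) (flp_e L130406) L179363
theorem L179369 : sm ga N18440 = N22955 := rfl
theorem L179371 : sm gd N22955 = N18441 := ded_9_2 (flp_a L130412) (flp_d L130410) L179369
theorem L179373 : sm gc N18440 = N22956 := rfl
theorem L179375 : sm gb N22956 = N18920 := ded_13_1 (flp_c L145362) (flp_b L104365) (flp_c L102763) L130408 L179373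
theorem L179377 : sm gf N18440 = N22957 := rfl
theorem L179379 : sm gd N22957 = N18442 := ded_23_1 (flp_f L130416) (flp_d L130410) L179377
theorem L179381 : sm gb N22957 = N22939 := ded_16_1 L179259 L130382 L102803 L130408 L179377
theorem L179383 : sm gb N18441 = N22958 := rfl
theorem L179385 : sm ge N22958 = N18640 := ded_15_2 (flp_b L143745) (flp_e L130414) L179383
theorem L179387 : sm ga N22958 = N18847 := ded_7_1 (flp_b L144931) (flp_a L175597) (flp_b L175601) (flp_a L145418) (flp_b L104393) L89312 L102767 L130412 L179383
theorem L179389 : sm gc N18846 = N22958 := ded_19_3 L179385 (flp_c L146078) (flp_e L144925)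
theorem L179391 : sm gf N20683 = N22958 := ded_25_0 L179385 (flp_f L146082) (flp_e L162352)
theorem L179393 : sm gf N18441 = N22959 := rfl
theorem L179395 : sm ga N22959 = N18442 := ded_11_1 (flp_f L130416) L130412 L179393
theorem L179397 : sm gc N22959 = N22936 := ded_20_1 L179241 L130448 L179393
theorem L179399 : sm ge N22959 = N18641 := ded_25_1 (flp_f L143747) (flp_e L130414) L179393
theorem L179401 : sm gg N22908 = N22959 := ded_29_1 (flp_f L179393) (flp_g L179045) (flp_a L179041) L179047
theorem L179403 : sm gg N18442 = N22960 := rfl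
theorem L179405 : sm ga N22960 = N22908 := ded_12_1 L179401 L179395 L179403
theorem L179407 : sm gc N22960 = N22937 := ded_21_1 (flp_g L179243) (flp_c L130418) L179403
theorem L179409 : sm ge N22960 = N18642 := ded_26_1 (flp_g L143755) (flp_e L130420) L179403
theorem L179411 : sm gf N22907 = N22960 := ded_29_0 (flp_g L179403) (flp_f L130416) (flp_g L130208) L179041
theorem L179413 : sm gb N18444 = N22961 := rfl
theorem L179415 : sm gd N22961 = N18657 := ded_14_2 (flp_b L143839) (flp_d L130436) L179413
theorem L179417 : sm ge N22961 = N18445 := ded_15_2 (flp_b L130442) (flp_e L130438) L179413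
theorem L179419 : sm ga N18445 = N22962 := rfl
theorem L179421 : sm gd N22962 = N18446 := ded_9_2 (flp_a L130446) (flp_d L130444) L179419
theorem L179423 : sm gc N18445 = N22963 := rfl
theorem L179425 : sm gb N22963 = N18960 := ded_13_1 (flp_c L145584) (flp_b L104470) (flp_c L102787) L130442 L179423
theorem L179427 : sm gg N18445 = N22964 := rfl
theorem L179429 : sm gd N22964 = N18447 := ded_24_1 (flp_g L130452) (flp_d L130444) L179427
theorem L179431 : sm gb N22964 = N22910 := ded_17_1 L179063 L130260 (flp_g L102791) L130442 L179427
theorem L179433 : sm gb N18446 = N22965 := rfl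
theorem L179435 : sm ge N22965 = N18661 := ded_15_2 (flp_b L143855) (flp_e L130450) L179433
theorem L179437 : sm gc N22965 = N18893 := ded_13_2 L145194 L179389 (flp_b L179383) (flp_c L130448) L179433
theorem L179439 : sm ga N22965 = N18894 := ded_7_1 (flp_b L151427) (flp_a L175997) (flp_b L176001) (flp_a L145638) (flp_b L104498) L89376 L102793 L130446 L179433
theorem L179441 : sm gg N20737 = N22965 := ded_26_0 L179435 (flp_g L151433) (flp_e L162670)
theorem L179443 : sm gg N18446 = N22966 := rfl
theorem L179445 : sm ga N22966 = N18447 := ded_12_1 (flp_g L130452) L130446 L179443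
theorem L179447 : sm gc N22966 = N22907 := ded_21_1 L179045 (flp_c L130448) L179443
theorem L179449 : sm ge N22966 = N18662 := ded_26_1 (flp_g L143857) (flp_e L130450) L179443
theorem L179451 : sm gf N22966 = N22937 := ded_29_2 (flp_g L179243) L179237 L179241 L179443
theorem L179453 : sm gf N18447 = N22967 := rfl
theorem L179455 : sm ga N22967 = N22937 := ded_11_1 (flp_f L179451) L179445 L179453
theorem L179457 : sm gc N22967 = N22908 := ded_20_1 (flp_f L179047) (flp_c L130454) L179453
theorem L179459 : sm ge N22967 = N18663 := ded_25_1 (flp_f L143865) (flp_e L130456) L179453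
theorem L179461 : sm gg N22967 = N22936 := ded_29_3 (flp_a L179237) L130328 L130452 L179453
theorem L179463 : sm ga N18494 = N22968 := rfl
theorem L179465 : sm gg N22968 = N19060 := ded_12_2 (flp_a L151620) (flp_g L142925) L179463
theorem L179467 : sm gc N18494 = N22969 := rfl
theorem L179469 : sm gg N22969 = N19061 := ded_21_2 (flp_c L151622) (flp_g L142925) L179467
theorem L179471 : sm gb N22969 = N18496 := ded_13_1 (flp_c L142931) (flp_b L103040) (flp_c L103038) L142923 L179467
theorem L179473 : sm gf N18494 = N22970 := rfl
theorem L179475 : sm gb N22970 = N22813 := ded_16_1 L178211 (flp_b L143321) L103242 L142923 L179473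
theorem L179477 : sm gc N22814 = N22970 := ded_13_0 L179475 (flp_c L178207) (flp_b L129167) L129171 L178217
theorem L179479 : sm gf N22969 = N22814 := ded_20_0 L179477 (flp_f L179473) L179467
theorem L179481 : sm gc N18495 = N22971 := rfl
theorem L179483 : sm ga N22971 = N18496 := ded_8_1 (flp_c L142931) L142927 L179481
theorem L179485 : sm gg N22971 = N18499 := ded_21_2 (flp_c L142939) (flp_g L142929) L179481
theorem L179487 : sm gd N19443 = N22971 := ded_28_1 (flp_c L179481) (flp_d L165592) L165590 L114630 L151044 (flp_d L154210) (flp_a L154208) L154214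
theorem L179489 : sm gd N18496 = N22972 := rfl
theorem L179491 : sm ga N22972 = N19443 := ded_9_1 L179487 L179483 L179489
theorem L179493 : sm gg N22972 = N18501 := ded_24_2 (flp_d L142949) (flp_g L142933) L179489
theorem L179495 : sm gc N19442 = N22972 := ded_28_0 (flp_d L179489) (flp_c L142931) (flp_d L142865) L149017 (flp_d L150556) (flp_c L106705) (flp_d L106699) L154208
theorem L179497 : sm gf N18496 = N22973 := rfl
theorem L179499 : sm gc N22973 = N18497 := ded_20_1 (flp_f L142935) L142931 L179497
theorem L179501 : sm gb N22973 = N22812 := ded_16_1 L178201 L178217 (flp_f L179479) L179471 L179497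
theorem L179503 : sm gf N18499 = N22974 := rfl
theorem L179505 : sm ga N22974 = N18502 := ded_11_1 (flp_f L142953) (flp_a L142941) L179503
theorem L179507 : sm gc N22974 = N18500 := ded_20_1 (flp_f L142943) L142939 L179503
theorem L179509 : sm gd N22974 = N19498 := ded_23_1 L164470 L164472 L179503
theorem L179511 : sm gg N22973 = N22974 := ded_29_1 (flp_f L179503) (flp_g L179485) L179483 L179497
theorem L179513 : sm gf N18501 = N22975 := rfl
theorem L179515 : sm ga N22975 = N19498 := ded_11_1 L164470 (flp_a L164468) L179513
theorem L179517 : sm gc N22975 = N19497 := ded_20_1 L154600 L154252 L179513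
theorem L179519 : sm gd N22975 = N18502 := ded_23_1 (flp_f L142953) L142949 L179513
theorem L179521 : sm gb N22975 = N21000 := ded_16_1 (flp_f L165578) (flp_b L114606) (flp_f L152999) (flp_b L142951) L179513
theorem L179523 : sm gg N18502 = N22976 := rfl
theorem L179525 : sm ga N22976 = N22973 := ded_12_1 L179511 L179505 L179523
theorem L179527 : sm gc N22976 = N18503 := ded_21_1 (flp_g L142957) (flp_c L142955) L179523
theorem L179529 : sm gf N22971 = N22976 := ded_29_0 (flp_g L179523) (flp_f L142953) (flp_g L142933) (flp_a L179483)
theorem L179531 : sm ga N18513 = N22977 := rfl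
theorem L179533 : sm gf N22977 = N19084 := ded_11_2 (flp_a L151728) (flp_f L142999) L179531
theorem L179535 : sm gc N18513 = N22978 := rfl
theorem L179537 : sm gf N22978 = N19085 := ded_20_2 (flp_c L151730) (flp_f L142999) L179535
theorem L179539 : sm gb N22978 = N18515 := ded_13_1 (flp_c L143005) (flp_b L103072) (flp_c L103070) L142997 L179535
theorem L179541 : sm gg N18513 = N22979 := rfl
theorem L179543 : sm gb N22979 = N22807 := ded_17_1 L178155 (flp_b L143541) (flp_g L103328) L142997 L179541
theorem L179545 : sm gc N22808 = N22979 := ded_13_0 L179543 (flp_c L178149) (flp_b L129101) L129105 L178159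
theorem L179547 : sm gg N22978 = N22808 := ded_21_0 L179545 (flp_g L179541) L179535
theorem L179549 : sm gc N18514 = N22980 := rfl
theorem L179551 : sm ga N22980 = N18515 := ded_8_1 (flp_c L143005) L143001 L179549
theorem L179553 : sm gf N22980 = N18518 := ded_20_2 (flp_c L143013) (flp_f L143003) L179549
theorem L179555 : sm gd N19494 = N22980 := ded_28_1 (flp_c L179549) (flp_d L164971) L164969 L114069 (flp_c L151058) (flp_d L154408) (flp_a L154412) L154578
theorem L179557 : sm gd N18515 = N22981 := rfl
theorem L179559 : sm ga N22981 = N19494 := ded_9_1 L179555 L179551 L179557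
theorem L179561 : sm gf N22981 = N18520 := ded_23_2 (flp_d L143025) (flp_f L143007) L179557
theorem L179563 : sm gc N19479 = N22981 := ded_28_0 (flp_d L179557) (flp_c L143005) (flp_d L142895) (flp_c L142899) L114101 L150584 (flp_d L106931) L154412
theorem L179565 : sm gg N18515 = N22982 := rfl
theorem L179567 : sm gc N22982 = N18516 := ded_21_1 (flp_g L143009) L143005 L179565
theorem L179569 : sm gb N22982 = N22806 := ded_17_1 L178145 L178159 (flp_g L179547) L179539 L179565
theorem L179571 : sm gg N18518 = N22983 := rfl
theorem L179573 : sm ga N22983 = N18521 := ded_12_1 (flp_g L143029) (flp_a L143015) L179571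
theorem L179575 : sm gc N22983 = N18519 := ded_21_1 (flp_g L143017) L143013 L179571
theorem L179577 : sm gd N22983 = N19448 := ded_24_1 L164057 L164059 L179571
theorem L179579 : sm gf N22983 = N22982 := ded_29_2 (flp_g L179565) (flp_a L179551) L179553 L179571
theorem L179581 : sm gg N18520 = N22984 := rfl
theorem L179583 : sm ga N22984 = N19448 := ded_12_1 L164057 (flp_a L164053) L179581
theorem L179585 : sm gc N22984 = N19446 := ded_21_1 (flp_g L154640) L154634 L179581
theorem L179587 : sm gd N22984 = N18521 := ded_24_1 (flp_g L143029) L143025 L179581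
theorem L179589 : sm gb N22984 = N20916 := ded_17_1 (flp_g L164957) (flp_b L114045) (flp_g L153445) (flp_b L143027) L179581
theorem L179591 : sm gf N18521 = N22985 := rfl
theorem L179593 : sm ga N22985 = N22982 := ded_11_1 (flp_f L179579) L179573 L179591
theorem L179595 : sm gc N22985 = N18522 := ded_20_1 (flp_f L143033) (flp_c L143031) L179591
theorem L179597 : sm gg N22985 = N22980 := ded_29_3 L179551 L143007 L143029 L179591
theorem L179599 : sm gd N18538 = N22986 := rfl
theorem L179601 : sm gg N22986 = N18542 := ded_24_2 (flp_d L143173) (flp_g L143155) L179599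
theorem L179603 : sm gc N18540 = N22987 := rfl
theorem L179605 : sm ge N22987 = N20856 := ded_19_2 L164498 (flp_e L149023) L179603
theorem L179607 : sm gf N22987 = N20850 := ded_20_2 L164456 L147441 L179603
theorem L179609 : sm gf N18542 = N22988 := rfl
theorem L179611 : sm ga N22988 = N22588 := ded_11_1 L176384 (flp_a L163455) L179609
theorem L179613 : sm gd N22988 = N18543 := ded_23_1 (flp_f L143177) L143173 L179609
theorem L179615 : sm gb N20943 = N22988 := ded_7_0 L179611 L176382 L149668 L177236 (flp_a L177244) (flp_b L125928) L100087 L114175 L165112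
theorem L179617 : sm gg N18543 = N22989 := rfl
theorem L179619 : sm ga N22989 = N22589 := ded_12_1 (flp_g L176388) (flp_a L143179) L179617
theorem L179621 : sm gc N22989 = N18544 := ded_21_1 (flp_g L143183) (flp_c L143181) L179617
theorem L179623 : sm ge N22989 = N20579 := ded_26_1 L161737 L163449 L179617
theorem L179625 : sm gf N20578 = N22989 := ded_29_0 (flp_g L179617) (flp_f L143177) (flp_g L143155) L163457
theorem L179627 : sm gd N18552 = N22990 := rfl
theorem L179629 : sm gf N22990 = N18558 := ded_23_2 (flp_d L143279) (flp_f L143239) L179627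
theorem L179631 : sm gc N18555 = N22991 := rfl
theorem L179633 : sm ge N22991 = N20807 := ded_19_2 L164095 (flp_e L143275) L179631
theorem L179635 : sm gg N22991 = N20800 := ded_21_2 L164041 L143269 L179631
theorem L179637 : sm gg N18558 = N22992 := rfl
theorem L179639 : sm ga N22992 = N22634 := ded_12_1 L176807 L163266 L179637
theorem L179641 : sm gd N22992 = N18559 := ded_24_1 (flp_g L143283) L143279 L179637
theorem L179643 : sm gb N21024 = N22992 := ded_7_0 L179639 L176805 L149662 L177511 (flp_a L177519) (flp_b L126726) L100511 L114748 L165744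
theorem L179645 : sm gf N18559 = N22993 := rfl
theorem L179647 : sm ga N22993 = N22635 := ded_11_1 (flp_f L176811) L148874 L179645
theorem L179649 : sm gc N22993 = N18560 := ded_20_1 (flp_f L143287) (flp_c L143285) L179645
theorem L179651 : sm ge N22993 = N20533 := ded_25_1 (flp_f L161486) L163264 L179645
theorem L179653 : sm gg N22993 = N20532 := ded_29_3 L163268 L143239 L143283 L179645
theorem L179655 : sm gf N18562 = N22994 := rfl
theorem L179657 : sm ga N22994 = N20079 := ded_11_1 (flp_f L161276) L161270 L179655
theorem L179659 : sm gc N22994 = N20076 := ded_20_1 L158597 L158593 L179655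
theorem L179661 : sm gd N22994 = N20493 := ded_23_1 (flp_f L161282) (flp_d L143303) L179655
theorem L179663 : sm gg N22994 = N20074 := ded_29_3 L158525 L120404 L143301 L179655
theorem L179665 : sm gg N18563 = N22995 := rfl
theorem L179667 : sm ga N22995 = N18569 := ded_12_1 (flp_g L143337) (flp_a L143307) L179665
theorem L179669 : sm gc N22995 = N19728 := ded_21_1 L156324 L156286 L179665
theorem L179671 : sm ge N22995 = N18564 := ded_26_1 (flp_g L143311) L143305 L179665
theorem L179673 : sm gf N19725 = N22995 := ded_29_0 (flp_g L179665) L143309 L160944 L160946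
theorem L179675 : sm gb N18564 = N22996 := rfl
theorem L179677 : sm gd N22996 = N18565 := ded_14_2 (flp_b L143321) (flp_d L143317) L179675
theorem L179679 : sm gc N22996 = N22280 := ded_13_2 L174054 L161984 (flp_b L157817) (flp_c L143315) L179675
theorem L179681 : sm gg N22996 = N22279 := ded_17_2 L174046 L122641 L119847 L143311 L179675
theorem L179683 : sm ga N22996 = N20602 := ded_30_3 (flp_f L161890) (flp_c L153211) (flp_b L153207) (flp_a L151439) (flp_f L152480) (flp_c L152478) (flp_b L105296) (flp_a L105274) (flp_f L105272) (flp_c L89781) L39665 (flp_a L39813) (flp_f L88791) (flp_c L90261) L106240 L150492 L109181 (flp_c L143315) L179675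
theorem L179685 : sm gf N20601 = N22996 := ded_23_0 L179677 (flp_f L178211) L178215
theorem L179687 : sm gd N18567 = N22997 := rfl
theorem L179689 : sm ga N22997 = N19151 := ded_9_1 L152110 L150772 L179687
theorem L179691 : sm gb N22997 = N19093 := ded_14_1 (flp_d L151916) L151922 L179687
theorem L179693 : sm gf N22997 = N19087 := ded_23_2 (flp_d L178187) L178189 L179687
theorem L179695 : sm gg N22997 = N19148 := ded_24_2 L152096 (flp_g L146064) L179687
theorem L179697 : sm gb N18569 = N22998 := rfl
theorem L179699 : sm ge N22998 = N18570 := ded_15_2 (flp_b L143341) (flp_e L143339) L179697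
theorem L179701 : sm gg N22998 = N18638 := ded_17_2 (flp_b L143737) (flp_g L103431) (flp_b L103250) L143337 L179697
theorem L179703 : sm ga N18570 = N22999 := rfl
theorem L179705 : sm gc N22999 = N22347 := ded_8_2 L174621 L172182 L179703
theorem L179707 : sm gd N22999 = N18571 := ded_9_2 (flp_a L143347) (flp_d L143343) L179703
theorem L179709 : sm gf N22999 = N20507 := ded_11_2 (flp_a L174282) L174284 L179703
theorem L179711 : sm gg N22999 = N18639 := ded_12_2 (flp_a L143741) (flp_g L143345) L179703
theorem L179713 : sm gb N18571 = N23000 := rfl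
theorem L179715 : sm gb N18572 = N23001 := rfl
theorem L179717 : sm gc N23001 = N22588 := ded_13_2 L176382 (flp_c L163564) (flp_b L161627) L143869 L179715
theorem L179719 : sm gf N23001 = N18573 := ded_16_2 (flp_b L143353) (flp_f L103260) L103256 L143351 L179715
theorem L179721 : sm ge N18576 = N23002 := rfl
theorem L179723 : sm ga N23002 = N21764 := ded_10_1 L170564 (flp_a L151387) L179721
theorem L179725 : sm gb N23002 = N21542 := ded_15_1 L169163 L151331 L179721
theorem L179727 : sm gc N23002 = N20448 := ded_19_1 L160988 L151327 L179721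
theorem L179729 : sm gg N23002 = N18590 := ded_26_2 (flp_e L143461) (flp_g L143365) L179721
theorem L179731 : sm gb N18577 = N23003 := rfl
theorem L179733 : sm gd N23003 = N19870 := ded_14_2 (flp_b L175210) L175206 L179731
theorem L179735 : sm gf N23003 = N20550 := ded_16_2 (flp_b L161627) (flp_f L143865) L103508 L143367 L179731
theorem L179737 : sm gg N23003 = N22677 := ded_31_3 L177158 L163643 (flp_g L161998) (flp_f L161976) (flp_b L161972) L149959 (flp_f L103460) (flp_b L88793) L37309 (flp_f L81625) (flp_b L88718) (flp_g L103274) L143367 L179731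
theorem L179739 : sm ga N23003 = N19869 := ded_30_3 L157293 (flp_c L163568) L177236 (flp_a L177244) L172953 (flp_c L172944) (flp_b L121952) L97731 L111994 L111998 L112032 L161878 (flp_f L162734) (flp_c L162730) L150778 (flp_a L103268) L103276 (flp_c L143369) L179731
theorem L179741 : sm gc N22660 = N23003 := ded_30_1 (flp_b L179731) (flp_a L143473) (flp_f L143477) (flp_c L143357) (flp_b L150778) (flp_a L112722) (flp_f L112696) (flp_c L149554) (flp_b L112032) L93506 (flp_f L93464) (flp_c L97733) L121952 L150865 L128641 (flp_c L177240) (flp_b L177236) (flp_a L149668) L177029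
theorem L179743 : sm ga N18578 = N23004 := rfl
theorem L179745 : sm gd N23004 = N19829 := ded_9_2 (flp_a L176416) L176410 L179743
theorem L179747 : sm gf N23004 = N18579 := ded_11_2 (flp_a L143375) (flp_f L143373) L179743
theorem L179749 : sm gg N23004 = N19834 := ded_12_2 L176482 L176480 L179743
theorem L179751 : sm gb N23004 = N20713 := ded_7_2 L162536 (flp_b L149572) L146122 L146132 (flp_a L146138) (flp_b L143479) L103304 L143371 L179743
theorem L179753 : sm gc N18578 = N23005 := rfl
theorem L179755 : sm gf N23005 = N18580 := ded_20_2 (flp_c L143377) (flp_f L143373) L179753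
theorem L179757 : sm gb N23005 = N22660 := ded_13_1 L179741 (flp_b L179731) L143369 L143371 L179753
theorem L179759 : sm gd N23005 = N22661 := ded_28_5 (flp_c L177043) (flp_d L157205) (flp_a L157201) (flp_c L157199) (flp_d L157043) L176418 L176410 L179753
theorem L179761 : sm gc N18579 = N23006 := rfl
theorem L179763 : sm ga N23006 = N18580 := ded_8_1 (flp_c L143377) L143375 L179761
theorem L179765 : sm gg N18579 = N23007 := rfl
theorem L179767 : sm ga N23007 = N18581 := ded_12_1 (flp_g L143379) L143375 L179765
theorem L179769 : sm gd N23007 = N22600 := ded_24_1 L176490 L165230 L179765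
theorem L179771 : sm gf N22599 = N23007 := ded_29_0 (flp_g L179765) (flp_f L179747) L179749 L176482
theorem L179773 : sm gb N23007 = N21992 := ded_17_1 (flp_g L172077) L163229 L165224 (flp_b L165226) L179765
theorem L179775 : sm gg N18580 = N23008 := rfl
theorem L179777 : sm gc N23008 = N18581 := ded_21_1 (flp_g L143379) L143377 L179775
theorem L179779 : sm gc N18582 = N23009 := rfl
theorem L179781 : sm ga N23009 = N18583 := ded_8_1 (flp_c L143385) L143383 L179779
theorem L179783 : sm gd N22172 = N23009 := ded_9_0 L179781 (flp_d L151445) L173357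
theorem L179785 : sm gb N19272 = N23009 := ded_7_0 L179781 L151401 L122194 (flp_b L149786) L105531 L89919 (flp_a L89927) L105563 L152878
theorem L179787 : sm gf N18582 = N23010 := rfl
theorem L179789 : sm ga N23010 = N18584 := ded_11_1 (flp_f L143387) L143383 L179787
theorem L179791 : sm gd N23010 = N20785 := ded_23_1 L164364 L164360 L179787
theorem L179793 : sm gg N23010 = N20846 := ded_29_3 (flp_a L164434) (flp_f L164322) L164326 L179787
theorem L179795 : sm gb N23010 = N20781 := ded_16_1 (flp_f L163013) L163003 (flp_f L163011) L143633 L179787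
theorem L179797 : sm gf N18583 = N23011 := rfl
theorem L179799 : sm gc N23011 = N18584 := ded_20_1 (flp_f L143387) L143385 L179797
theorem L179801 : sm gd N23011 = N22174 := ded_23_1 (flp_f L173363) L151445 L179797
theorem L179803 : sm gg N20847 = N23011 := ded_21_0 L179799 (flp_g L148878) L164440
theorem L179805 : sm gg N18583 = N23012 := rfl
theorem L179807 : sm gc N23012 = N18585 := ded_21_1 (flp_g L143393) L143385 L179805
theorem L179809 : sm gd N23012 = N22175 := ded_24_1 (flp_g L173367) L151445 L179805
theorem L179811 : sm gb N23012 = N22242 := ded_17_1 (flp_g L173805) L122428 (flp_g L122196) (flp_b L151401) L179805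
theorem L179813 : sm ge N18589 = N23013 := rfl
theorem L179815 : sm ga N23013 = N21771 := ded_10_1 L170612 (flp_a L151383) L179813
theorem L179817 : sm gb N23013 = N20442 := ded_15_1 L160950 L151006 L179813
theorem L179819 : sm gc N23013 = N18590 := ded_19_1 (flp_e L143461) L143459 L179813
theorem L179821 : sm gg N23013 = N20448 := ded_26_2 L160988 (flp_g L151240) L179813
theorem L179823 : sm gf N18589 = N23014 := rfl
theorem L179825 : sm ga N23014 = N20606 := ded_11_1 L161914 (flp_a L151383) L179823
theorem L179827 : sm gc N23014 = N18591 := ded_20_1 (flp_f L143465) L143459 L179823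
theorem L179829 : sm gd N23014 = N23001 := ded_23_1 L179719 (flp_d L151238) L179823
theorem L179831 : sm gb N23014 = N22307 := ded_16_1 L174284 (flp_b L143341) (flp_f L123438) L151006 L179823
theorem L179833 : sm gf N18590 = N23015 := rfl
theorem L179835 : sm ga N23015 = N21772 := ded_11_1 (flp_f L170616) (flp_a L151385) L179833
theorem L179837 : sm ge N23015 = N18591 := ded_25_1 (flp_f L143465) L143461 L179833
theorem L179839 : sm gb N23015 = N19300 := ded_16_1 (flp_f L153129) L105646 (flp_f L103451) (flp_b L143463) L179833
theorem L179841 : sm gb N18592 = N23016 := rfl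
theorem L179843 : sm gf N23016 = N19942 := ded_16_2 L175184 (flp_f L175174) (flp_b L151403) L143477 L179841
theorem L179845 : sm gg N23016 = N19301 := ded_17_2 (flp_b L153135) (flp_g L105656) (flp_b L103300) L143471 L179841
theorem L179847 : sm gc N19934 = N23016 := ded_20_3 L179843 (flp_c L157791) (flp_f L157735)
theorem L179849 : sm gc N18593 = N23017 := rfl
theorem L179851 : sm ga N23017 = N19100 := ded_8_1 L151790 (flp_a L146138) L179849
theorem L179853 : sm gg N23017 = N22851 := ded_21_2 (flp_c L178591) (flp_g L143481) L179849
theorem L179855 : sm gb N23017 = N19934 := ded_13_1 L179847 (flp_b L179841) L143475 L143479 L179849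
theorem L179857 : sm gd N23017 = N19930 := ded_28_3 (flp_c L157705) (flp_d L157701) (flp_c L165126) L165128 (flp_a L165132) (flp_c L176328) L176330 L179849
theorem L179859 : sm gf N20943 = N23017 := ded_30_0 (flp_c L179849) (flp_b L143479) L103304 (flp_f L103276) L103272 (flp_b L103508) (flp_a L143859) L143863 (flp_c L143759) (flp_b L161376) (flp_a L161348) (flp_f L163513) (flp_c L126654) L100465 (flp_a L94676) L94971 L94967 L114175 L165112
theorem L179861 : sm gf N18593 = N23018 := rfl
theorem L179863 : sm ga N23018 = N20944 := ded_11_1 L165118 (flp_a L146138) L179861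
theorem L179865 : sm gc N23018 = N20943 := ded_20_1 L179859 (flp_c L179849) L179861
theorem L179867 : sm gd N23018 = N22587 := ded_23_1 (flp_f L176376) L176330 L179861
theorem L179869 : sm gg N23018 = N22586 := ded_29_3 L176360 L157703 (flp_g L143481) L179861
theorem L179871 : sm gb N23018 = N20744 := ded_16_1 L162702 L150778 L103306 L143479 L179861
theorem L179873 : sm gg N18600 = N23019 := rfl
theorem L179875 : sm ga N23019 = N20096 := ded_12_1 L161527 L161521 L179873
theorem L179877 : sm gc N23019 = N20093 := ded_21_1 (flp_g L158724) L158720 L179873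
theorem L179879 : sm gd N23019 = N20541 := ded_24_1 L161545 (flp_d L150934) L179873
theorem L179881 : sm gf N20091 = N23019 := ded_29_0 (flp_g L179873) (flp_f L143519) (flp_g L149480) (flp_a L158652)
theorem L179883 : sm gf N18603 = N23020 := rfl
theorem L179885 : sm ga N23020 = N18610 := ded_11_1 (flp_f L143569) (flp_a L143531) L179883
theorem L179887 : sm gc N23020 = N19765 := ded_20_1 (flp_f L156557) L156533 L179883
theorem L179889 : sm ge N23020 = N18604 := ded_25_1 (flp_f L143533) L143529 L179883
theorem L179891 : sm gg N23020 = N19763 := ded_29_3 (flp_a L161060) (flp_f L161058) (flp_g L149311) L179883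
theorem L179893 : sm gb N18604 = N23021 := rfl
theorem L179895 : sm gd N23021 = N18605 := ded_14_2 (flp_b L143541) (flp_d L143537) L179893
theorem L179897 : sm gc N23021 = N22056 := ded_13_2 L172509 L161754 L157857 L149285 L179893
theorem L179899 : sm gf N23021 = N22055 := ded_16_2 L172501 L121713 L150225 L143533 L179893
theorem L179901 : sm ga N20640 = N23021 := ded_9_3 L179895 (flp_a L152362) (flp_d L162126)
theorem L179903 : sm gg N20639 = N23021 := ded_24_0 L179895 (flp_g L178155) L178157
theorem L179905 : sm gd N18606 = N23022 := rfl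
theorem L179907 : sm ga N23022 = N19216 := ded_9_1 L152536 (flp_a L143545) L179905
theorem L179909 : sm gb N23022 = N19069 := ded_14_1 (flp_d L152350) (flp_b L152358) L179905
theorem L179911 : sm gf N23022 = N19214 := ded_23_2 L152528 (flp_f L146072) L179905
theorem L179913 : sm gg N23022 = N19063 := ded_24_2 (flp_d L178129) L178133 L179905
theorem L179915 : sm gb N18610 = N23023 := rfl
theorem L179917 : sm ge N23023 = N18611 := ded_15_2 (flp_b L143573) (flp_e L143571) L179915
theorem L179919 : sm gf N23023 = N18657 := ded_16_2 (flp_b L143839) (flp_f L103490) (flp_b L103336) L143569 L179915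
theorem L179921 : sm ga N18611 = N23024 := rfl
theorem L179923 : sm gc N23024 = N22138 := ded_8_2 L173102 L171888 L179921
theorem L179925 : sm gd N23024 = N18613 := ded_9_2 (flp_a L143587) (flp_d L143575) L179921
theorem L179927 : sm gf N23024 = N18658 := ded_11_2 (flp_a L143843) (flp_f L143577) L179921
theorem L179929 : sm gg N23024 = N20553 := ded_12_2 (flp_a L172739) L172741 L179921
theorem L179931 : sm gb N18613 = N23025 := rfl
theorem L179933 : sm gb N18614 = N23026 := rfl
theorem L179935 : sm gc N23026 = N22634 := ded_13_2 L176805 (flp_c L163423) L161376 L143759 L179933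
theorem L179937 : sm gg N23026 = N18615 := ded_17_2 (flp_b L143593) (flp_g L103346) L103342 L143591 L179933
theorem L179939 : sm ge N18617 = N23027 := rfl
theorem L179941 : sm ga N23027 = N21604 := ded_10_1 L169543 (flp_a L143607) L179939
theorem L179943 : sm gb N23027 = N21701 := ded_15_1 L170168 (flp_b L143609) L179939
theorem L179945 : sm gc N23027 = N20465 := ded_19_1 L161092 L143613 L179939
theorem L179947 : sm gf N23027 = N18630 := ded_25_2 (flp_e L143675) (flp_f L143611) L179939
theorem L179949 : sm gb N18618 = N23028 := rfl
theorem L179951 : sm gd N23028 = N19848 := ded_14_2 (flp_b L173765) L173761 L179949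
theorem L179953 : sm gg N23028 = N20504 := ded_17_2 L161376 (flp_g L143755) L103445 L143615 L179949
theorem L179955 : sm gf N22713 = N23028 := ded_31_1 (flp_b L179949) (flp_g L143615) L103360 L88758 L81600 (flp_f L37273) L88764 L103406 (flp_f L120287) L161742 L161746 L161768 (flp_b L163509) (flp_g L177433)
theorem L179957 : sm ga N19847 = N23028 := ded_9_3 L179951 (flp_a L157185) (flp_d L157181)
theorem L179959 : sm gc N22705 = N23028 := ded_28_6 L179951 (flp_a L157185) L157189 L177055 (flp_c L177045) L148811 (flp_c L126402) (flp_d L177370)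
theorem L179961 : sm ga N18619 = N23029 := rfl
theorem L179963 : sm gd N23029 = N19838 := ded_9_2 (flp_a L176829) L176821 L179961
theorem L179965 : sm gf N23029 = N19841 := ded_11_2 (flp_a L176863) L176861 L179961
theorem L179967 : sm gg N23029 = N18620 := ded_12_2 (flp_a L143623) (flp_g L143621) L179961
theorem L179969 : sm gb N23029 = N20659 := ded_7_2 L162218 (flp_b L146170) L146160 L151576 (flp_a L151582) (flp_b L143697) L103390 L143619 L179961
theorem L179971 : sm gc N18619 = N23030 := rfl
theorem L179973 : sm gg N23030 = N18621 := ded_21_2 (flp_c L143625) (flp_g L143621) L179971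
theorem L179975 : sm gb N23030 = N22705 := ded_13_1 L179959 (flp_b L179949) L143617 L143619 L179971
theorem L179977 : sm gd N23030 = N22706 := ded_28_5 L177378 (flp_d L157315) (flp_a L157311) (flp_c L157309) (flp_d L157107) L176831 L176821 L179971
theorem L179979 : sm gc N18620 = N23031 := rfl
theorem L179981 : sm ga N23031 = N18621 := ded_8_1 (flp_c L143625) L143623 L179979
theorem L179983 : sm gf N18620 = N23032 := rfl
theorem L179985 : sm ga N23032 = N18622 := ded_11_1 (flp_f L143627) L143623 L179983
theorem L179987 : sm gd N23032 = N22641 := ded_23_1 (flp_f L176873) L164619 L179983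
theorem L179989 : sm gg N23032 = N22640 := ded_29_3 L176863 (flp_f L179965) L179967 L179983
theorem L179991 : sm gb N23032 = N22036 := ded_16_1 (flp_f L172382) L163370 (flp_f L164613) (flp_b L164615) L179983
theorem L179993 : sm gf N18621 = N23033 := rfl
theorem L179995 : sm gc N23033 = N18622 := ded_20_1 (flp_f L143627) L143625 L179993
theorem L179997 : sm gc N18623 = N23034 := rfl
theorem L179999 : sm ga N23034 = N18624 := ded_8_1 (flp_c L143635) L143631 L179997
theorem L180001 : sm gb N23034 = N19329 := ded_13_1 L153305 L179785 (flp_c L179779) (flp_b L143633) L179997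
theorem L180003 : sm gd N22378 = N23034 := ded_9_0 L179999 (flp_d L143639) L174866
theorem L180005 : sm gg N18623 = N23035 := rfl
theorem L180007 : sm ga N23035 = N18626 := ded_12_1 (flp_g L143643) L143631 L180005
theorem L180009 : sm gd N23035 = N20798 := ded_24_1 L164031 L163045 L180005
theorem L180011 : sm gf N20795 = N23035 := ded_29_0 (flp_g L180005) L163011 L163007 L164009
theorem L180013 : sm gb N23035 = N20834 := ded_17_1 (flp_g L164328) L164318 L164326 (flp_b L143633) L180005
theorem L180015 : sm gf N18624 = N23036 := rfl
theorem L180017 : sm gc N23036 = N18625 := ded_20_1 (flp_f L143641) L143635 L180015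
theorem L180019 : sm gd N23036 = N22380 := ded_23_1 (flp_f L174872) L143639 L180015
theorem L180021 : sm gb N23036 = N22227 := ded_16_1 (flp_f L173719) (flp_b L122384) L122394 (flp_b L143637) L180015
theorem L180023 : sm gg N18624 = N23037 := rfl
theorem L180025 : sm gc N23037 = N18626 := ded_21_1 (flp_g L143643) L143635 L180023
theorem L180027 : sm gd N23037 = N22381 := ded_24_1 (flp_g L174876) L143639 L180023
theorem L180029 : sm gf N20796 = N23037 := ded_20_0 L180025 (flp_f L143649) L164015
theorem L180031 : sm ge N18629 = N23038 := rfl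
theorem L180033 : sm ga N23038 = N21612 := ded_10_1 L169597 (flp_a L143669) L180031
theorem L180035 : sm gb N23038 = N20460 := ded_15_1 L161064 (flp_b L143673) L180031
theorem L180037 : sm gc N23038 = N18630 := ded_19_1 (flp_e L143675) L143667 L180031
theorem L180039 : sm gf N23038 = N20465 := ded_25_2 L161092 (flp_f L143671) L180031
theorem L180041 : sm gg N18629 = N23039 := rfl
theorem L180043 : sm ga N23039 = N20644 := ded_12_1 (flp_g L162798) (flp_a L143669) L180041
theorem L180045 : sm gc N23039 = N18631 := ded_21_1 (flp_g L143681) L143667 L180041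
theorem L180047 : sm gd N23039 = N23026 := ded_24_1 L179937 L149305 L180041
theorem L180049 : sm gb N23039 = N22089 := ded_17_1 L172741 (flp_b L143573) (flp_g L147963) (flp_b L143673) L180041
theorem L180051 : sm gg N18630 = N23040 := rfl
theorem L180053 : sm ga N23040 = N21613 := ded_12_1 (flp_g L169601) (flp_a L143677) L180051
theorem L180055 : sm ge N23040 = N18631 := ded_26_1 (flp_g L143681) L143675 L180051
theorem L180057 : sm gb N23040 = N19243 := ded_17_1 (flp_g L152714) L105459 (flp_g L103516) (flp_b L143679) L180051
theorem L180059 : sm gb N18632 = N23041 := rfl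
theorem L180061 : sm gf N23041 = N19245 := ded_16_2 (flp_b L152726) (flp_f L105473) (flp_b L103386) L143689 L180059
theorem L180063 : sm gg N23041 = N19922 := ded_17_2 (flp_b L173751) (flp_g L173679) L143603 (flp_g L143695) L180059
theorem L180065 : sm gc N19914 = N23041 := ded_21_3 L180063 (flp_c L157657) (flp_g L157601)
theorem L180067 : sm gc N18633 = N23042 := rfl
theorem L180069 : sm ga N23042 = N19076 := ded_8_1 L151680 (flp_a L151582) L180067
theorem L180071 : sm gf N23042 = N22845 := ded_20_2 (flp_c L178545) (flp_f L143699) L180067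
theorem L180073 : sm gb N23042 = N19914 := ded_13_1 L180065 (flp_b L180059) L143693 L143697 L180067
theorem L180075 : sm gd N23042 = N19910 := ded_28_3 (flp_c L157573) (flp_d L157569) (flp_c L165760) L165762 (flp_a L165768) (flp_c L176749) L176751 L180067
theorem L180077 : sm gg N21024 = N23042 := ded_12_0 L180069 (flp_g L153032) L165744
theorem L180079 : sm gg N18633 = N23043 := rfl
theorem L180081 : sm ga N23043 = N21025 := ded_12_1 L165750 (flp_a L151582) L180079
theorem L180083 : sm gc N23043 = N21024 := ded_21_1 L180077 (flp_c L180067) L180079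
theorem L180085 : sm gd N23043 = N22633 := ded_24_1 L176799 L176751 L180079
theorem L180087 : sm gf N22632 = N23043 := ded_29_0 (flp_g L180079) L143699 (flp_g L157571) (flp_a L176783)
theorem L180089 : sm gb N23043 = N20690 := ded_17_1 L162382 L143451 (flp_g L103392) L143697 L180079
theorem L180091 : sm gg N18634 = N23044 := rfl
theorem L180093 : sm gc N23044 = N21173 := ded_21_1 (flp_g L166850) (flp_c L161248) L180091
theorem L180095 : sm gd N23044 = N20501 := ded_24_1 (flp_g L161328) (flp_d L143703) L180091
theorem L180097 : sm ge N23044 = N21172 := ded_26_1 (flp_g L166846) L161254 L180091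
theorem L180099 : sm gg N18635 = N23045 := rfl
theorem L180101 : sm ga N23045 = N19664 := ded_12_1 (flp_g L155814) (flp_a L143709) L180099
theorem L180103 : sm gc N23045 = N19362 := ded_21_1 (flp_g L153622) (flp_c L143713) L180099
theorem L180105 : sm gd N23045 = N18637 := ded_24_1 (flp_g L143729) (flp_d L143717) L180099
theorem L180107 : sm ge N23045 = N18636 := ded_26_1 (flp_g L143719) L143707 L180099
theorem L180109 : sm gf N19362 = N23045 := ded_29_0 (flp_g L180099) L143715 L152758 (flp_a L153624)
theorem L180111 : sm ga N18638 = N23046 := rfl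
theorem L180113 : sm ge N23046 = N18639 := ded_10_2 (flp_a L143741) (flp_e L143739) L180111
theorem L180115 : sm gb N23046 = N20392 := ded_7_2 L160660 L111141 (flp_a L118286) L170947 (flp_a L170951) (flp_b L152788) L105507 L143737 L180111
theorem L180117 : sm gb N18641 = N23047 := rfl
theorem L180119 : sm gd N23047 = N20685 := ded_14_2 L174617 (flp_d L174615) L180117
theorem L180121 : sm gf N23047 = N20684 := ded_16_2 (flp_b L162354) L146082 (flp_b L143745) L143747 L180117
theorem L180123 : sm gf N18643 = N23048 := rfl
theorem L180125 : sm gc N23048 = N21185 := ded_20_1 (flp_f L166933) (flp_c L161499) L180123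
theorem L180127 : sm gd N23048 = N20547 := ded_23_1 (flp_f L161579) L150974 L180123
theorem L180129 : sm ge N23048 = N21184 := ded_25_1 (flp_f L166929) L161505 L180123
theorem L180131 : sm gf N18653 = N23049 := rfl
theorem L180133 : sm ga N23049 = N19680 := ded_11_1 (flp_f L155912) L148058 L180131
theorem L180135 : sm gc N23049 = N19399 := ded_20_1 (flp_f L153902) (flp_c L143811) L180131
theorem L180137 : sm gd N23049 = N18655 := ded_23_1 (flp_f L143827) (flp_d L143815) L180131
theorem L180139 : sm ge N23049 = N18654 := ded_25_1 (flp_f L143817) L143807 L180131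
theorem L180141 : sm gg N23049 = N19399 := ded_29_3 L153904 (flp_f L153173) (flp_g L143813) L180131
theorem L180143 : sm ga N18657 = N23050 := rfl
theorem L180145 : sm ge N23050 = N18658 := ded_10_2 (flp_a L143843) (flp_e L143841) L180143
theorem L180147 : sm gb N23050 = N20427 := ded_7_2 L160856 L111257 (flp_a L118481) L171300 (flp_a L171304) (flp_b L153203) L105694 L143839 L180143
theorem L180149 : sm gb N18662 = N23051 := rfl
theorem L180151 : sm gd N23051 = N20740 := ded_14_2 L173098 (flp_d L173096) L180149
theorem L180153 : sm gg N23051 = N20738 := ded_17_2 (flp_b L162672) L151433 (flp_b L143855) L143857 L180149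
theorem L180155 : sm gb N18665 = N23052 := rfl
theorem L180157 : sm gd N23052 = N19749 := ded_14_2 L156452 L155818 L180155
theorem L180159 : sm ge N23052 = N18666 := ded_15_2 (flp_b L143889) (flp_e L143885) L180155
theorem L180161 : sm gf N23052 = N19788 := ded_16_2 L156707 (flp_f L156460) (flp_b L152764) L143887 L180155
theorem L180163 : sm gg N23052 = N19707 := ded_17_2 (flp_b L156140) L107959 L120279 L143879 L180155
theorem L180165 : sm ga N19790 = N23052 := ded_10_3 L180159 (flp_a L143895) (flp_e L156721)
theorem L180167 : sm gc N20438 = N23052 := ded_19_3 L180159 (flp_c L143897) (flp_e L160920)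
theorem L180169 : sm gb N18667 = N23053 := rfl
theorem L180171 : sm gd N23053 = N20021 := ded_14_2 L158223 (flp_d L143901) L180169
theorem L180173 : sm gf N23053 = N19932 := ded_16_2 (flp_b L157721) L109103 L109117 L143903 L180169
theorem L180175 : sm ga N23053 = N22680 := ded_7_1 (flp_b L177178) (flp_a L177168) (flp_b L177176) (flp_a L153666) (flp_b L105959) L90101 L103600 L143899 L180169
theorem L180177 : sm gc N22682 = N23053 := ded_8_0 L180175 L177180 L177194
theorem L180179 : sm gb N18690 = N23054 := rfl
theorem L180181 : sm gd N23054 = N19787 := ded_14_2 L156701 L155916 L180179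
theorem L180183 : sm ge N23054 = N18691 := ded_15_2 (flp_b L144039) (flp_e L144035) L180179
theorem L180185 : sm gf N23054 = N19720 := ded_16_2 (flp_b L156250) (flp_f L108007) L147838 L144029 L180179
theorem L180187 : sm gg N23054 = N19750 := ded_17_2 (flp_b L156707) (flp_g L156711) (flp_b L153179) (flp_g L144037) L180179
theorem L180189 : sm ga N19753 = N23054 := ded_10_3 L180183 L151002 (flp_e L156480)
theorem L180191 : sm gc N20404 = N23054 := ded_19_3 L180183 L151004 (flp_e L160732)
theorem L180193 : sm gb N18692 = N23055 := rfl
theorem L180195 : sm gd N23055 = N19968 := ded_14_2 L157931 (flp_d L150998) L180193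
theorem L180197 : sm gg N23055 = N19912 := ded_17_2 (flp_b L157587) L109005 L109019 L150478 L180193
theorem L180199 : sm ga N23055 = N22716 := ded_7_1 (flp_b L177453) (flp_a L177443) L177449 (flp_a L153938) (flp_b L106278) L90277 L103698 L144043 L180193
theorem L180201 : sm gc N22718 = N23055 := ded_8_0 L180199 L177455 L177469
theorem L180203 : sm gg N18701 = N23056 := rfl
theorem L180205 : sm ga N23056 = N21499 := ded_12_1 (flp_g L168901) L144153 L180203
theorem L180207 : sm ge N23056 = N19019 := ded_26_1 (flp_g L145933) (flp_e L144107) L180203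
theorem L180209 : sm gf N18702 = N23057 := rfl
theorem L180211 : sm ga N23057 = N21658 := ded_11_1 (flp_f L169894) L149594 L180209
theorem L180213 : sm ge N23057 = N19022 := ded_25_1 (flp_f L145941) (flp_e L144111) L180209
theorem L180215 : sm ga N18703 = N23058 := rfl
theorem L180217 : sm gd N23058 = N18707 := ded_9_2 (flp_a L144143) (flp_d L144115) L180215
theorem L180219 : sm gf N23058 = N18715 := ded_11_2 (flp_a L144191) (flp_f L144117) L180215
theorem L180221 : sm gb N23058 = N21519 := ded_7_2 L169009 L117129 L96143 L116505 L167944 (flp_b L167949) L144091 L144113 L180215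
theorem L180223 : sm gc N18703 = N23059 := rfl
theorem L180225 : sm gf N23059 = N18716 := ded_20_2 (flp_c L144195) (flp_f L144117) L180223
theorem L180227 : sm gb N23059 = N21128 := ded_13_1 (flp_c L166544) (flp_b L115470) (flp_c L103752) L144113 L180223
theorem L180229 : sm gg N18703 = N23060 := rfl
theorem L180231 : sm gd N23060 = N18709 := ded_24_1 (flp_g L144163) (flp_d L144115) L180229
theorem L180233 : sm gb N18704 = N23061 := rfl
theorem L180235 : sm gd N23061 = N18710 := ded_14_2 (flp_b L144167) (flp_d L144123) L180233
theorem L180237 : sm ga N18705 = N23062 := rfl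
theorem L180239 : sm gd N23062 = N18711 := ded_9_2 (flp_a L144171) (flp_d L144129) L180237
theorem L180241 : sm gg N23062 = N18718 := ded_12_2 (flp_a L144203) (flp_g L144131) L180237
theorem L180243 : sm gb N23062 = N21678 := ded_7_2 L170014 L117751 L96428 L116705 L168368 (flp_b L168373) L144099 L144127 L180237
theorem L180245 : sm gc N18705 = N23063 := rfl
theorem L180247 : sm gg N23063 = N18719 := ded_21_2 (flp_c L144207) (flp_g L144131) L180245
theorem L180249 : sm gb N23063 = N21130 := ded_13_1 (flp_c L166551) (flp_b L115478) (flp_c L103758) L144127 L180245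
theorem L180251 : sm gf N18705 = N23064 := rfl
theorem L180253 : sm gd N23064 = N18713 := ded_23_1 (flp_f L144183) (flp_d L144129) L180251
theorem L180255 : sm gb N18706 = N23065 := rfl
theorem L180257 : sm gd N23065 = N18714 := ded_14_2 (flp_b L144187) (flp_d L144139) L180255
theorem L180259 : sm gg N18708 = N23066 := rfl
theorem L180261 : sm ga N23066 = N19908 := ded_12_1 (flp_g L157559) (flp_a L144157) L180259
theorem L180263 : sm gc N23066 = N18709 := ded_21_1 (flp_g L144163) L144155 L180259
theorem L180265 : sm ge N23066 = N19024 := ded_26_1 (flp_g L145955) (flp_e L144159) L180259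
theorem L180267 : sm gb N20825 = N23066 := ded_31_14 (flp_g L180259) L144161 L119749 L109709 L112472 (flp_b L130042) (flp_g L130036) (flp_f L130024) (flp_b L130020) L102711 (flp_f L102705) L102695 (flp_g L148477) L164246
theorem L180269 : sm gb N18709 = N23067 := rfl
theorem L180271 : sm ge N23067 = N19025 := ded_15_2 (flp_b L145965) (flp_e L144165) L180269
theorem L180273 : sm gc N23067 = N20830 := ded_13_2 (flp_b L164292) (flp_c L164250) L180267 L180263 L180269
theorem L180275 : sm gg N23067 = N18710 := ded_17_2 (flp_b L144167) (flp_g L103768) L103762 L144163 L180269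
theorem L180277 : sm gf N20843 = N23067 := ded_31_1 (flp_b L180269) (flp_g L144163) L103766 (flp_b L89046) (flp_g L38714) (flp_f L38708) L38702 L38706 L38768 L89252 L104278 (flp_f L104302) L145226 L164412
theorem L180279 : sm ga N18710 = N23068 := rfl
theorem L180281 : sm ge N23068 = N19026 := ded_10_2 (flp_a L145969) (flp_e L144169) L180279
theorem L180283 : sm gf N23068 = N18900 := ded_29_0 L164412 L180277 L180275 L180279
theorem L180285 : sm gc N22884 = N23068 := ded_19_3 L180281 (flp_c L164426) (flp_e L178846)
theorem L180287 : sm gc N18710 = N23069 := rfl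
theorem L180289 : sm ga N23069 = N22884 := ded_8_1 L180285 (flp_a L180279) L180287
theorem L180291 : sm ge N23069 = N19027 := ded_19_2 (flp_c L145971) (flp_e L144169) L180287
theorem L180293 : sm gg N23069 = N20830 := ded_21_2 (flp_c L180273) L180275 L180287
theorem L180295 : sm gd N22914 = N23069 := ded_9_0 L180289 L178844 L179083
theorem L180297 : sm gf N22896 = N23069 := ded_11_0 L180289 (flp_f L178848) L178975
theorem L180299 : sm gf N18710 = N23070 := rfl
theorem L180301 : sm ga N23070 = N18900 := ded_11_1 (flp_f L180283) (flp_a L180279) L180299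
theorem L180303 : sm gc N23070 = N22896 := ded_20_1 L180297 (flp_c L180287) L180299
theorem L180305 : sm ge N23070 = N19028 := ded_25_1 (flp_f L145973) (flp_e L144169) L180299
theorem L180307 : sm gg N23070 = N22902 := ded_29_3 L179007 L180277 L180275 L180299
theorem L180309 : sm gb N23070 = N23057 := ded_16_1 (flp_f L180209) (flp_b L144109) L103772 L144167 L180299
theorem L180311 : sm gf N18712 = N23071 := rfl
theorem L180313 : sm ga N23071 = N19928 := ded_11_1 (flp_f L157691) (flp_a L149512) L180311
theorem L180315 : sm gc N23071 = N18713 := ded_20_1 (flp_f L144183) L144177 L180311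
theorem L180317 : sm ge N23071 = N19032 := ded_25_1 (flp_f L145989) (flp_e L144179) L180311
theorem L180319 : sm gb N23071 = N20770 := ded_31_2 (flp_g L162915) (flp_f L120449) (flp_b L102637) L102647 L102653 L129974 L129978 L129990 (flp_b L147381) L112716 (flp_f L109838) L147314 (flp_g L144181) L180311
theorem L180321 : sm gb N18713 = N23072 := rfl
theorem L180323 : sm ge N23072 = N19033 := ded_15_2 (flp_b L145993) (flp_e L144185) L180321
theorem L180325 : sm gc N23072 = N20776 := ded_13_2 (flp_b L162969) (flp_c L162919) (flp_b L180319) L180315 L180321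
theorem L180327 : sm gf N23072 = N18714 := ded_16_2 (flp_b L144187) (flp_f L103780) L103774 L144183 L180321
theorem L180329 : sm gg N23072 = N20792 := ded_31_3 (flp_f L163107) (flp_b L144967) (flp_g L104181) (flp_f L104157) (flp_b L89194) (flp_g L38750) (flp_f L38694) (flp_b L38690) L38696 (flp_f L38700) L89050 (flp_g L103778) L144183 L180321
theorem L180331 : sm ga N18714 = N23073 := rfl
theorem L180333 : sm ge N23073 = N19034 := ded_10_2 (flp_a L146046) (flp_e L144189) L180331
theorem L180335 : sm gg N18853 = N23073 := ded_29_3 (flp_a L180331) (flp_f L180327) L180329 (flp_f L163107)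
theorem L180337 : sm gc N22893 = N23073 := ded_19_3 L180333 (flp_c L163121) (flp_e L178937)
theorem L180339 : sm gc N18714 = N23074 := rfl
theorem L180341 : sm ga N23074 = N22893 := ded_8_1 L180337 (flp_a L180331) L180339
theorem L180343 : sm ge N23074 = N19035 := ded_19_2 (flp_c L146050) (flp_e L144189) L180339
theorem L180345 : sm gf N23074 = N20776 := ded_20_2 (flp_c L180325) L180327 L180339
theorem L180347 : sm gb N23074 = N23069 := ded_13_1 (flp_c L180287) (flp_b L144167) (flp_c L103784) L144187 L180339
theorem L180349 : sm gd N22943 = N23074 := ded_9_0 L180341 L178935 L179279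
theorem L180351 : sm gg N22925 = N23074 := ded_12_0 L180341 (flp_g L178939) L179171
theorem L180353 : sm gg N18714 = N23075 := rfl
theorem L180355 : sm ga N23075 = N18853 := ded_12_1 L180335 (flp_a L180331) L180353
theorem L180357 : sm gc N23075 = N22925 := ded_21_1 L180351 (flp_c L180339) L180353
theorem L180359 : sm ge N23075 = N19036 := ded_26_1 (flp_g L146066) (flp_e L144189) L180353
theorem L180361 : sm gf N22931 = N23075 := ded_29_0 (flp_g L180353) (flp_f L180327) L180329 (flp_a L179203)
theorem L180363 : sm gb N23075 = N23056 := ded_17_1 (flp_g L180203) (flp_b L144105) (flp_g L103788) L144187 L180353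
theorem L180365 : sm gb N18715 = N23076 := rfl
theorem L180367 : sm gd N23076 = N18721 := ded_14_2 (flp_b L144215) (flp_d L144193) L180365
theorem L180369 : sm gc N18715 = N23077 := rfl
theorem L180371 : sm ga N23077 = N18716 := ded_8_1 (flp_c L144195) L144191 L180369
theorem L180373 : sm gg N18715 = N23078 := rfl
theorem L180375 : sm ga N23078 = N18717 := ded_12_1 (flp_g L144199) L144191 L180373
theorem L180377 : sm gd N23078 = N18723 := ded_24_1 (flp_g L144227) (flp_d L144193) L180373
theorem L180379 : sm gf N23078 = N23060 := ded_29_2 (flp_g L180229) L180215 L180219 L180373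
theorem L180381 : sm gd N18716 = N23079 := rfl
theorem L180383 : sm gb N23079 = N21093 := ded_14_1 (flp_d L166312) (flp_b L144197) L180381
theorem L180385 : sm gg N18716 = N23080 := rfl
theorem L180387 : sm gc N23080 = N18717 := ded_21_1 (flp_g L144199) L144195 L180385
theorem L180389 : sm gf N18717 = N23081 := rfl
theorem L180391 : sm ga N23081 = N23060 := ded_11_1 (flp_f L180379) L180375 L180389
theorem L180393 : sm gd N23081 = N18725 := ded_23_1 (flp_f L144241) (flp_d L144201) L180389
theorem L180395 : sm gg N23081 = N23058 := ded_29_3 (flp_a L180215) L144117 L144199 L180389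
theorem L180397 : sm gb N18718 = N23082 := rfl
theorem L180399 : sm gd N23082 = N18726 := ded_14_2 (flp_b L144249) (flp_d L144205) L180397
theorem L180401 : sm gc N18718 = N23083 := rfl
theorem L180403 : sm ga N23083 = N18719 := ded_8_1 (flp_c L144207) L144203 L180401
theorem L180405 : sm gf N18718 = N23084 := rfl
theorem L180407 : sm ga N23084 = N18720 := ded_11_1 (flp_f L144211) L144203 L180405
theorem L180409 : sm gd N23084 = N18728 := ded_23_1 (flp_f L144259) (flp_d L144205) L180405
theorem L180411 : sm gg N23064 = N23084 := ded_29_1 (flp_f L180405) (flp_g L180241) (flp_a L180237) L180251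
theorem L180413 : sm gd N18719 = N23085 := rfl
theorem L180415 : sm gb N23085 = N21101 := ded_14_1 (flp_d L166362) (flp_b L144209) L180413
theorem L180417 : sm gf N18719 = N23086 := rfl
theorem L180419 : sm gc N23086 = N18720 := ded_20_1 (flp_f L144211) L144207 L180417
theorem L180421 : sm gg N18720 = N23087 := rfl
theorem L180423 : sm ga N23087 = N23064 := ded_12_1 L180411 L180407 L180421
theorem L180425 : sm gd N23087 = N18731 := ded_24_1 (flp_g L144275) (flp_d L144213) L180421
theorem L180427 : sm gf N23062 = N23087 := ded_29_0 (flp_g L180421) (flp_f L144211) (flp_g L144131) L180237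
theorem L180429 : sm ga N18721 = N23088 := rfl
theorem L180431 : sm ge N23088 = N19037 := ded_10_2 (flp_a L146096) (flp_e L144217) L180429
theorem L180433 : sm gb N23088 = N18748 := ded_7_2 (flp_a L144377) (flp_b L103887) (flp_a L89096) (flp_b L38690) (flp_a L38670) L89046 L103798 L144215 L180429
theorem L180435 : sm gc N21912 = N23088 := ded_19_3 L180431 (flp_c L146100) L171496
theorem L180437 : sm gf N22750 = N23088 := ded_25_0 L180431 (flp_f L146102) (flp_e L177709)
theorem L180439 : sm gg N21691 = N23088 := ded_26_0 L180431 (flp_g L178327) L178323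
theorem L180441 : sm gc N18721 = N23089 := rfl
theorem L180443 : sm ga N23089 = N21912 := ded_8_1 L180435 (flp_a L180429) L180441
theorem L180445 : sm ge N23089 = N19038 := ded_19_2 (flp_c L146104) (flp_e L144217) L180441
theorem L180447 : sm gf N18721 = N23090 := rfl
theorem L180449 : sm ga N23090 = N22750 := ded_11_1 L180437 (flp_a L180429) L180447
theorem L180451 : sm ge N23090 = N19039 := ded_25_1 (flp_f L146110) (flp_e L144217) L180447
theorem L180453 : sm gb N23090 = N21520 := ded_16_1 (flp_f L169013) (flp_b L144151) L144147 L144215 L180447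
theorem L180455 : sm gg N18721 = N23091 := rfl
theorem L180457 : sm ga N23091 = N21691 := ded_12_1 L180439 (flp_a L180429) L180455
theorem L180459 : sm ge N23091 = N19040 := ded_26_1 (flp_g L146118) (flp_e L144217) L180455
theorem L180461 : sm gg N18722 = N23092 := rfl
theorem L180463 : sm ga N23092 = N18724 := ded_12_1 (flp_g L144235) (flp_a L144221) L180461
theorem L180465 : sm gc N23092 = N18723 := ded_21_1 (flp_g L144227) L144219 L180461
theorem L180467 : sm ge N23092 = N19041 := ded_26_1 (flp_g L146120) (flp_e L144223) L180461
theorem L180469 : sm gf N23066 = N23092 := ded_29_0 (flp_g L180461) L144225 L157559 (flp_a L180261)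
theorem L180471 : sm gb N20722 = N23092 := ded_31_14 (flp_g L180461) L144225 L129344 (flp_g L129436) (flp_f L129428) (flp_b L102751) (flp_g L102747) (flp_f L102727) (flp_b L102723) L102729 (flp_f L102735) L129996 L149576 L162585
theorem L180473 : sm gb N18723 = N23093 := rfl
theorem L180475 : sm ge N23093 = N19042 := ded_15_2 (flp_b L146130) (flp_e L144231) L180473
theorem L180477 : sm gc N23093 = N20724 := ded_13_2 (flp_b L162603) (flp_c L162587) L180471 L180465 L180473
theorem L180479 : sm gf N23093 = N18896 := ded_16_2 (flp_b L164410) L180277 (flp_b L180269) (flp_f L144233) L180473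
theorem L180481 : sm ga N18726 = N23094 := rfl
theorem L180483 : sm ge N23094 = N19045 := ded_10_2 (flp_a L146142) (flp_e L144251) L180481
theorem L180485 : sm gb N23094 = N18765 := ded_7_2 (flp_a L144473) (flp_b L103929) (flp_a L89116) (flp_b L38702) (flp_a L38676) L89050 L103810 L144249 L180481
theorem L180487 : sm gc N21915 = N23094 := ded_19_3 L180483 (flp_c L150807) L171512
theorem L180489 : sm gf N21532 = N23094 := ded_25_0 L180483 (flp_f L178235) L178233
theorem L180491 : sm gg N22753 = N23094 := ded_26_0 L180483 L151123 (flp_e L177735)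
theorem L180493 : sm gc N18726 = N23095 := rfl
theorem L180495 : sm ga N23095 = N21915 := ded_8_1 L180487 (flp_a L180481) L180493
theorem L180497 : sm ge N23095 = N19046 := ded_19_2 (flp_c L146146) (flp_e L144251) L180493
theorem L180499 : sm gf N18726 = N23096 := rfl
theorem L180501 : sm ga N23096 = N21532 := ded_11_1 L180489 (flp_a L180481) L180499
theorem L180503 : sm ge N23096 = N19047 := ded_25_1 (flp_f L146148) (flp_e L144251) L180499
theorem L180505 : sm gg N18726 = N23097 := rfl
theorem L180507 : sm ga N23097 = N22753 := ded_12_1 L180491 (flp_a L180481) L180505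
theorem L180509 : sm ge N23097 = N19048 := ded_26_1 (flp_g L146150) (flp_e L144251) L180505
theorem L180511 : sm gb N23097 = N21680 := ded_17_1 (flp_g L170024) (flp_b L150768) L144175 L144249 L180505
theorem L180513 : sm gf N18727 = N23098 := rfl
theorem L180515 : sm ga N23098 = N18730 := ded_11_1 (flp_f L144269) (flp_a L144255) L180513
theorem L180517 : sm gc N23098 = N18728 := ded_20_1 (flp_f L144259) L144253 L180513
theorem L180519 : sm ge N23098 = N19051 := ded_25_1 (flp_f L146158) (flp_e L144257) L180513
theorem L180521 : sm gg N23098 = N23071 := ded_29_3 L180313 (flp_f L157691) (flp_g L149516) L180513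
theorem L180523 : sm gb N23098 = N20668 := ded_31_2 (flp_g L162267) (flp_f L129948) (flp_b L129944) (flp_g L102677) (flp_f L102671) L102665 L102669 L102689 L102693 L129466 (flp_f L129474) (flp_b L149518) (flp_g L149516) L180513
theorem L180525 : sm gb N18728 = N23099 := rfl
theorem L180527 : sm ge N23099 = N19052 := ded_15_2 (flp_b L151570) (flp_e L144263) L180525
theorem L180529 : sm gc N23099 = N20671 := ded_13_2 (flp_b L162291) (flp_c L162269) (flp_b L180523) L180517 L180525
theorem L180531 : sm gg N23099 = N18848 := ded_17_2 (flp_b L163105) (flp_g L180329) (flp_b L180321) L144265 L180525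
theorem L180533 : sm gg N18732 = N23100 := rfl
theorem L180535 : sm ga N23100 = N18734 := ded_12_1 (flp_g L144305) L144283 L180533
theorem L180537 : sm gc N23100 = N22756 := ded_21_1 (flp_g L177759) (flp_c L144289) L180533
theorem L180539 : sm gd N23100 = N20349 := ded_24_1 L160418 (flp_d L144285) L180533
theorem L180541 : sm ge N23100 = N21414 := ded_26_1 L168352 L144295 L180533
theorem L180543 : sm gf N22756 = N23100 := ded_29_0 (flp_g L180533) (flp_f L144297) (flp_g L168352) (flp_a L177761)
theorem L180545 : sm gb N20289 = N23100 := ded_31_14 (flp_g L180533) (flp_f L144297) L144299 (flp_g L116469) (flp_f L116461) L116455 L116459 L116499 L116503 L115880 (flp_f L115874) L115866 L167158 (flp_f L167164)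
theorem L180547 : sm gf N18735 = N23101 := rfl
theorem L180549 : sm ga N23101 = N18737 := ded_11_1 (flp_f L144329) L144309 L180547
theorem L180551 : sm gc N23101 = N22757 := ded_20_1 (flp_f L177769) (flp_c L144315) L180547
theorem L180553 : sm gd N23101 = N20315 := ded_23_1 L160188 (flp_d L144311) L180547
theorem L180555 : sm ge N23101 = N21340 := ded_25_1 (flp_f L167918) L144321 L180547
theorem L180557 : sm gg N23101 = N22757 := ded_29_3 L177771 (flp_f L167918) L144323 L180547
theorem L180559 : sm gb N23101 = N20269 := ded_31_2 (flp_g L167302) (flp_f L167296) (flp_b L115948) L115956 L115962 (flp_b L116703) (flp_g L116699) (flp_f L116649) (flp_b L116645) L116651 (flp_f L116657) (flp_b L144325) L144323 L180547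
theorem L180561 : sm ga N18738 = N23102 := rfl
theorem L180563 : sm gd N23102 = N18748 := ded_9_2 (flp_a L144377) (flp_d L144335) L180561
theorem L180565 : sm gg N21690 = N23102 := ded_24_0 L180563 (flp_g L151596) (flp_d L170114)
theorem L180567 : sm gc N18738 = N23103 := rfl
theorem L180569 : sm gb N23103 = N21202 := ded_13_1 L167072 L115830 L103837 L144333 L180567
theorem L180571 : sm gg N18738 = N23104 := rfl
theorem L180573 : sm ga N23104 = N21690 := ded_12_1 L180565 (flp_a L180561) L180571
theorem L180575 : sm gd N23104 = N18751 := ded_24_1 (flp_g L144397) (flp_d L144335) L180571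
theorem L180577 : sm ga N18739 = N23105 := rfl
theorem L180579 : sm gd N23105 = N18756 := ded_9_2 (flp_a L144423) (flp_d L144339) L180577
theorem L180581 : sm gg N23105 = N18740 := ded_12_2 (flp_a L144343) (flp_g L144341) L180577
theorem L180583 : sm gc N18739 = N23106 := rfl
theorem L180585 : sm gg N23106 = N18741 := ded_21_2 (flp_c L144347) (flp_g L144341) L180583
theorem L180587 : sm gf N18739 = N23107 := rfl
theorem L180589 : sm gd N23107 = N18758 := ded_23_1 (flp_f L144435) (flp_d L144339) L180587
theorem L180591 : sm gb N18740 = N23108 := rfl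
theorem L180593 : sm gd N23108 = N18759 := ded_14_2 (flp_b L144439) (flp_d L144345) L180591
theorem L180595 : sm gc N18740 = N23109 := rfl
theorem L180597 : sm ga N23109 = N18741 := ded_8_1 (flp_c L144347) L144343 L180595
theorem L180599 : sm gd N20301 = N23109 := ded_28_1 (flp_c L180595) L144345 L144443 L163834 (flp_c L160520) (flp_d L160064) (flp_a L160062) L160070
theorem L180601 : sm gf N18740 = N23110 := rfl
theorem L180603 : sm ga N23110 = N18742 := ded_11_1 (flp_f L144349) L144343 L180601
theorem L180605 : sm gd N23110 = N18761 := ded_23_1 (flp_f L144449) (flp_d L144345) L180601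
theorem L180607 : sm gg N23107 = N23110 := ded_29_1 (flp_f L180601) (flp_g L180581) (flp_a L180577) L180587
theorem L180609 : sm gd N18741 = N23111 := rfl
theorem L180611 : sm ga N23111 = N20301 := ded_9_1 L180599 L180597 L180609
theorem L180613 : sm gc N20300 = N23111 := ded_28_0 (flp_d L180609) (flp_c L144347) L103861 L103919 (flp_d L163787) (flp_c L111059) (flp_d L110731) L160062
theorem L180615 : sm ge N21446 = N23111 := ded_10_0 L180611 L160072 (flp_a L168546)
theorem L180617 : sm gf N18741 = N23112 := rfl
theorem L180619 : sm gc N23112 = N18742 := ded_20_1 (flp_f L144349) L144347 L180617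
theorem L180621 : sm gg N18742 = N23113 := rfl
theorem L180623 : sm ga N23113 = N23107 := ded_12_1 L180607 L180603 L180621
theorem L180625 : sm gd N23113 = N18764 := ded_24_1 (flp_g L144465) (flp_d L144351) L180621
theorem L180627 : sm gf N23105 = N23113 := ded_29_0 (flp_g L180621) (flp_f L144349) (flp_g L144341) L180577
theorem L180629 : sm ga N18743 = N23114 := rfl
theorem L180631 : sm gd N23114 = N18765 := ded_9_2 (flp_a L144473) (flp_d L144357) L180629
theorem L180633 : sm gf N21531 = N23114 := ded_23_0 L180631 L151704 (flp_d L169109)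
theorem L180635 : sm gc N18743 = N23115 := rfl
theorem L180637 : sm gb N23115 = N21227 := ded_13_1 L167216 L115910 L103869 L144355 L180635
theorem L180639 : sm gf N18743 = N23116 := rfl
theorem L180641 : sm ga N23116 = N21531 := ded_11_1 L180633 (flp_a L180629) L180639
theorem L180643 : sm gd N23116 = N18767 := ded_23_1 (flp_f L144481) (flp_d L144357) L180639
theorem L180645 : sm ga N18744 = N23117 := rfl
theorem L180647 : sm gd N23117 = N18774 := ded_9_2 (flp_a L144515) (flp_d L144361) L180645
theorem L180649 : sm gf N23117 = N18745 := ded_11_2 (flp_a L144365) (flp_f L144363) L180645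
theorem L180651 : sm gc N18744 = N23118 := rfl
theorem L180653 : sm gf N23118 = N18746 := ded_20_2 (flp_c L144369) (flp_f L144363) L180651
theorem L180655 : sm gg N18744 = N23119 := rfl
theorem L180657 : sm gd N23119 = N18776 := ded_24_1 (flp_g L144527) (flp_d L144361) L180655
theorem L180659 : sm gb N18745 = N23120 := rfl
theorem L180661 : sm gd N23120 = N18777 := ded_14_2 (flp_b L144531) (flp_d L144367) L180659
theorem L180663 : sm gc N18745 = N23121 := rfl
theorem L180665 : sm ga N23121 = N18746 := ded_8_1 (flp_c L144369) L144365 L180663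
theorem L180667 : sm gd N20282 = N23121 := ded_28_1 (flp_c L180663) L144367 L144535 L163677 (flp_c L160290) (flp_d L159934) (flp_a L159932) L159940
theorem L180669 : sm gg N18745 = N23122 := rfl
theorem L180671 : sm ga N23122 = N18747 := ded_12_1 (flp_g L144371) L144365 L180669
theorem L180673 : sm gd N23122 = N18779 := ded_24_1 (flp_g L144541) (flp_d L144367) L180669
theorem L180675 : sm gf N23122 = N23119 := ded_29_2 (flp_g L180655) L180645 L180649 L180669
theorem L180677 : sm gd N18746 = N23123 := rfl
theorem L180679 : sm ga N23123 = N20282 := ded_9_1 L180667 L180665 L180677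
theorem L180681 : sm gc N20281 = N23123 := ded_28_0 (flp_d L180677) (flp_c L144369) L103885 L103961 (flp_d L163623) (flp_c L110891) (flp_d L110663) L159932
theorem L180683 : sm ge N21377 = N23123 := ded_10_0 L180679 L159942 (flp_a L168148)
theorem L180685 : sm gg N18746 = N23124 := rfl
theorem L180687 : sm gc N23124 = N18747 := ded_21_1 (flp_g L144371) L144369 L180685
theorem L180689 : sm gf N18747 = N23125 := rfl
theorem L180691 : sm ga N23125 = N23119 := ded_11_1 (flp_f L180675) L180671 L180689
theorem L180693 : sm gd N23125 = N18782 := ded_23_1 (flp_f L144557) (flp_d L144373) L180689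
theorem L180695 : sm gg N23125 = N23117 := ded_29_3 (flp_a L180645) L144363 L144371 L180689
theorem L180697 : sm gd N18749 = N23126 := rfl
theorem L180699 : sm ga N23126 = N21523 := ded_9_1 L169039 L144389 L180697
theorem L180701 : sm gf N23126 = N23102 := ded_23_2 L180563 L144385 L180697
theorem L180703 : sm ge N23126 = N21519 := ded_22_2 (flp_d L169007) (flp_e L145947) L145945 (flp_e L144383) L180697
theorem L180705 : sm gg N18749 = N23127 := rfl
theorem L180707 : sm ga N23127 = N21686 := ded_12_1 L170080 L144389 L180705
theorem L180709 : sm gc N23127 = N18751 := ded_21_1 (flp_g L144397) L144381 L180705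
theorem L180711 : sm ge N23127 = N19056 := ded_26_1 (flp_g L151598) (flp_e L144383) L180705
theorem L180713 : sm gf N18751 = N23127 := ded_29_0 (flp_g L180705) (flp_f L144385) (flp_g L151596) L151594
theorem L180715 : sm gg N18753 = N23128 := rfl
theorem L180717 : sm gc N23128 = N18986 := ded_21_1 (flp_g L145730) (flp_c L144409) L180715
theorem L180719 : sm gd N23128 = N19058 := ded_24_1 (flp_g L151612) (flp_d L144413) L180715
theorem L180721 : sm ge N23128 = N18754 := ded_26_1 (flp_g L144415) L144407 L180715
theorem L180723 : sm gb N18754 = N23129 := rfl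
theorem L180725 : sm gd N23129 = N18755 := ded_14_2 (flp_b L144419) (flp_d L144417) L180723
theorem L180727 : sm ga N18755 = N23130 := rfl
theorem L180729 : sm ge N23130 = N19060 := ded_10_2 (flp_a L151620) (flp_e L144421) L180727
theorem L180731 : sm gc N18755 = N23131 := rfl
theorem L180733 : sm ge N23131 = N19061 := ded_19_2 (flp_c L151622) (flp_e L144421) L180731
theorem L180735 : sm gb N23131 = N18757 := ded_13_1 (flp_c L144429) (flp_b L103909) (flp_c L103905) L144419 L180731
theorem L180737 : sm gd N21629 = N23131 := ded_22_5 L180733 (flp_d L165318) L173907 (flp_d L173903) (flp_e L169683)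
theorem L180739 : sm gf N18755 = N23132 := rfl
theorem L180741 : sm ge N23132 = N19062 := ded_25_1 (flp_f L151626) (flp_e L144421) L180739
theorem L180743 : sm gb N18756 = N23133 := rfl
theorem L180745 : sm ge N23133 = N19063 := ded_15_2 (flp_b L151628) (flp_e L144425) L180743
theorem L180747 : sm ga N18759 = N23134 := rfl
theorem L180749 : sm ge N23134 = N19067 := ded_10_2 (flp_a L151644) (flp_e L144441) L180747
theorem L180751 : sm gf N23134 = N21500 := ded_11_2 L178263 (flp_f L178072) L180747
theorem L180753 : sm gg N21296 = N23134 := ded_29_3 (flp_a L180747) L178072 (flp_g L178064) (flp_f L167659)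
theorem L180755 : sm gc N18759 = N23135 := rfl
theorem L180757 : sm ge N23135 = N19068 := ded_19_2 (flp_c L151648) (flp_e L144441) L180755
theorem L180759 : sm gf N23135 = N19340 := ded_20_2 (flp_c L178066) (flp_f L178072) L180755
theorem L180761 : sm gg N18759 = N23136 := rfl
theorem L180763 : sm ga N23136 = N21296 := ded_12_1 L180753 (flp_a L180747) L180761
theorem L180765 : sm ge N23136 = N19069 := ded_26_1 (flp_g L151650) (flp_e L144441) L180761
theorem L180767 : sm gf N22796 = N23136 := ded_29_0 (flp_g L180761) L178072 (flp_g L178064) L178053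
theorem L180769 : sm gb N18760 = N23137 := rfl
theorem L180771 : sm ge N23137 = N19070 := ded_15_2 (flp_b L151656) (flp_e L144447) L180769
theorem L180773 : sm gf N18760 = N23138 := rfl
theorem L180775 : sm ga N23138 = N18763 := ded_11_1 (flp_f L144459) (flp_a L144445) L180773
theorem L180777 : sm gc N23138 = N18761 := ded_20_1 (flp_f L144449) L144443 L180773
theorem L180779 : sm gd N23138 = N21327 := ded_23_1 L167836 (flp_d L163834) L180773
theorem L180781 : sm ge N23138 = N19072 := ded_25_1 (flp_f L151662) (flp_e L144447) L180773
theorem L180783 : sm gg N23138 = N20995 := ded_29_3 L165548 (flp_f L165326) L165328 L180773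
theorem L180785 : sm gb N18763 = N23139 := rfl
theorem L180787 : sm ge N23139 = N19076 := ded_15_2 (flp_b L151678) (flp_e L144463) L180785
theorem L180789 : sm gc N23139 = N22562 := ded_13_2 L176135 L144271 (flp_b L103927) (flp_c L144461) L180785
theorem L180791 : sm gf N23139 = N22561 := ded_16_2 L178695 (flp_f L178689) L129988 L144459 L180785
theorem L180793 : sm gg N23139 = N21023 := ded_17_2 (flp_b L165740) (flp_g L114740) (flp_b L114600) L153030 L180785
theorem L180795 : sm gb N18764 = N23140 := rfl
theorem L180797 : sm ge N23140 = N19078 := ded_15_2 (flp_b L151690) (flp_e L144469) L180795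
theorem L180799 : sm gc N23140 = N21020 := ded_13_2 L165716 L114736 (flp_b L114600) (flp_c L153026) L180795
theorem L180801 : sm gg N23140 = N22793 := ded_17_2 (flp_b L178038) (flp_g L144275) (flp_b L103927) L144465 L180795
theorem L180803 : sm ga N22795 = N23140 := ded_10_3 L180797 (flp_a L152160) (flp_e L178049)
theorem L180805 : sm gd N18766 = N23141 := rfl
theorem L180807 : sm ga N23141 = N21682 := ded_9_1 L170044 (flp_a L150803) L180805
theorem L180809 : sm gg N23141 = N23114 := ded_24_2 L180631 L151121 L180805
theorem L180811 : sm ge N23141 = N21678 := ded_22_2 (flp_d L170012) (flp_e L150770) L149546 (flp_e L144479) L180805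
theorem L180813 : sm gf N18766 = N23142 := rfl
theorem L180815 : sm ga N23142 = N21528 := ded_11_1 (flp_f L169083) (flp_a L150803) L180813
theorem L180817 : sm gc N23142 = N18767 := ded_20_1 (flp_f L144481) L144477 L180813
theorem L180819 : sm ge N23142 = N19080 := ded_25_1 (flp_f L151706) (flp_e L144479) L180813
theorem L180821 : sm gg N23142 = N18767 := ded_29_3 L151702 (flp_f L151704) L151121 L180813
theorem L180823 : sm gf N18771 = N23143 := rfl
theorem L180825 : sm gc N23143 = N19004 := ded_20_1 (flp_f L145833) (flp_c L150906) L180823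
theorem L180827 : sm gd N23143 = N19082 := ded_23_1 (flp_f L151720) (flp_d L144505) L180823
theorem L180829 : sm ge N23143 = N18772 := ded_25_1 (flp_f L144507) L144501 L180823
theorem L180831 : sm gb N18772 = N23144 := rfl
theorem L180833 : sm gd N23144 = N18773 := ded_14_2 (flp_b L144511) (flp_d L144509) L180831
theorem L180835 : sm ga N18773 = N23145 := rfl
theorem L180837 : sm ge N23145 = N19084 := ded_10_2 (flp_a L151728) (flp_e L144513) L180835
theorem L180839 : sm gc N18773 = N23146 := rfl
theorem L180841 : sm ge N23146 = N19085 := ded_19_2 (flp_c L151730) (flp_e L144513) L180839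
theorem L180843 : sm gb N23146 = N18775 := ded_13_1 (flp_c L144521) (flp_b L103951) (flp_c L103947) L144511 L180839
theorem L180845 : sm gd N21788 = N23146 := ded_22_5 L180841 (flp_d L164723) L175320 (flp_d L175316) (flp_e L170698)
theorem L180847 : sm gg N18773 = N23147 := rfl
theorem L180849 : sm ge N23147 = N19086 := ded_26_1 (flp_g L151734) (flp_e L144513) L180847
theorem L180851 : sm gb N18774 = N23148 := rfl
theorem L180853 : sm ge N23148 = N19087 := ded_15_2 (flp_b L151736) (flp_e L144517) L180851
theorem L180855 : sm ga N18777 = N23149 := rfl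
theorem L180857 : sm ge N23149 = N19091 := ded_10_2 (flp_a L151752) (flp_e L144533) L180855
theorem L180859 : sm gg N23149 = N21660 := ded_12_2 L178287 (flp_g L178032) L180855
theorem L180861 : sm gf N23149 = N21257 := ded_29_0 L167419 L178024 (flp_g L178032) L180855
theorem L180863 : sm gb N23149 = N23134 := ded_7_2 (flp_a L180747) (flp_b L144439) (flp_a L103915) (flp_b L89112) (flp_a L38710) L89132 L103957 L144531 L180855
theorem L180865 : sm gc N18777 = N23150 := rfl
theorem L180867 : sm ge N23150 = N19092 := ded_19_2 (flp_c L151758) (flp_e L144533) L180865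
theorem L180869 : sm gg N23150 = N19283 := ded_21_2 (flp_c L178026) (flp_g L178032) L180865
theorem L180871 : sm gf N18777 = N23151 := rfl
theorem L180873 : sm ga N23151 = N21257 := ded_11_1 (flp_f L180861) (flp_a L180855) L180871
theorem L180875 : sm ge N23151 = N19093 := ded_25_1 (flp_f L151760) (flp_e L144533) L180871
theorem L180877 : sm gg N23151 = N22790 := ded_29_3 (flp_a L178013) L178024 (flp_g L178032) L180871
theorem L180879 : sm gb N18778 = N23152 := rfl
theorem L180881 : sm ge N23152 = N19094 := ded_15_2 (flp_b L151766) (flp_e L144539) L180879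
theorem L180883 : sm gg N18778 = N23153 := rfl
theorem L180885 : sm ga N23153 = N18781 := ded_12_1 (flp_g L144551) (flp_a L144537) L180883
theorem L180887 : sm gc N23153 = N18779 := ded_21_1 (flp_g L144541) L144535 L180883
theorem L180889 : sm gd N23153 = N21288 := ded_24_1 L167584 (flp_d L163677) L180883
theorem L180891 : sm ge N23153 = N19096 := ded_26_1 (flp_g L151772) (flp_e L144539) L180883
theorem L180893 : sm gf N20911 = N23153 := ded_29_0 (flp_g L180883) (flp_f L164731) L164733 (flp_a L164927)
theorem L180895 : sm gb N18781 = N23154 := rfl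
theorem L180897 : sm ge N23154 = N19100 := ded_15_2 (flp_b L151788) (flp_e L144555) L180895
theorem L180899 : sm gc N23154 = N22504 := ded_13_2 L175747 L144237 (flp_b L103969) (flp_c L144553) L180895
theorem L180901 : sm gf N23154 = N20942 := ded_16_2 (flp_b L165108) (flp_f L114171) (flp_b L114039) L153469 L180895
theorem L180903 : sm gg N23154 = N22502 := ded_17_2 L178773 (flp_g L178767) L130034 L144551 L180895
theorem L180905 : sm gb N18782 = N23155 := rfl
theorem L180907 : sm ge N23155 = N19102 := ded_15_2 (flp_b L151800) (flp_e L144561) L180905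
theorem L180909 : sm gc N23155 = N20939 := ded_13_2 L165086 L114169 (flp_b L114039) (flp_c L153463) L180905
theorem L180911 : sm gf N23155 = N22799 := ded_16_2 (flp_b L178078) (flp_f L144241) (flp_b L103969) L144557 L180905
theorem L180913 : sm ga N22801 = N23155 := ded_10_3 L180907 L152252 (flp_e L178089)
theorem L180915 : sm gg N18783 = N23156 := rfl
theorem L180917 : sm ga N23156 = N18784 := ded_12_1 (flp_g L144577) L144565 L180915
theorem L180919 : sm gc N23156 = N21207 := ded_21_1 (flp_g L167104) (flp_c L144567) L180915
theorem L180921 : sm gd N23156 = N18814 := ded_24_1 (flp_g L144747) (flp_d L144569) L180915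
theorem L180923 : sm ge N23156 = N21206 := ded_26_1 (flp_g L167096) (flp_e L144571) L180915
theorem L180925 : sm gf N21530 = N23156 := ded_29_0 (flp_g L180915) L144573 L167961 (flp_a L169099)
theorem L180927 : sm gb N18784 = N23157 := rfl
theorem L180929 : sm gd N23157 = N18820 := ded_14_2 (flp_b L144781) (flp_d L144581) L180927
theorem L180931 : sm gg N23157 = N18785 := ded_17_2 (flp_b L144583) (flp_g L103977) L103971 L144577 L180927
theorem L180933 : sm ga N18785 = N23158 := rfl
theorem L180935 : sm gd N23158 = N18828 := ded_9_2 (flp_a L144825) (flp_d L144585) L180933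
theorem L180937 : sm gc N18785 = N23159 := rfl
theorem L180939 : sm gb N23159 = N21330 := ded_13_1 (flp_c L167858) (flp_b L116455) (flp_c L103981) L144583 L180937
theorem L180941 : sm gf N18785 = N23160 := rfl
theorem L180943 : sm gd N23160 = N18830 := ded_23_1 (flp_f L144833) (flp_d L144585) L180941
theorem L180945 : sm gb N23160 = N23107 := ded_16_1 (flp_f L180587) (flp_b L144337) (flp_f L103985) L144583 L180941
theorem L180947 : sm ga N18786 = N23161 := rfl
theorem L180949 : sm gd N23161 = N20149 := ded_9_2 L159073 (flp_d L144589) L180947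
theorem L180951 : sm ge N23161 = N21156 := ded_10_2 L177979 L177971 L180947
theorem L180953 : sm gf N23161 = N20141 := ded_11_2 (flp_a L166748) (flp_f L166758) L180947
theorem L180955 : sm gg N23161 = N21156 := ded_12_2 L177979 L177977 L180947
theorem L180957 : sm gc N23161 = N18786 := ded_28_0 L144589 (flp_c L155154) L155156 L107379 (flp_d L155156) L155154 (flp_d L144589) L180947
theorem L180959 : sm gb N18788 = N23161 := ded_14_3 L180949 L159081 L156873
theorem L180961 : sm gb N18787 = N23162 := rfl
theorem L180963 : sm gd N23162 = N18838 := ded_14_2 (flp_b L144881) (flp_d L144593) L180961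
theorem L180965 : sm gb N18789 = N23163 := rfl
theorem L180967 : sm gd N23163 = N18842 := ded_14_2 (flp_b L144903) (flp_d L144603) L180965
theorem L180969 : sm gf N23163 = N18790 := ded_16_2 (flp_b L144605) (flp_f L104001) L103995 L144601 L180965
theorem L180971 : sm ga N18790 = N23164 := rfl
theorem L180973 : sm gd N23164 = N18843 := ded_9_2 (flp_a L144909) (flp_d L144607) L180971
theorem L180975 : sm gc N18790 = N23165 := rfl
theorem L180977 : sm gg N18790 = N23166 := rfl
theorem L180979 : sm gd N23166 = N18845 := ded_24_1 (flp_g L144917) (flp_d L144607) L180977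
theorem L180981 : sm gb N23166 = N23104 := ded_17_1 (flp_g L180571) (flp_b L144333) (flp_g L104007) L144605 L180977
theorem L180983 : sm ga N18791 = N23167 := rfl
theorem L180985 : sm gc N23167 = N21453 := ded_8_2 (flp_a L168600) L156865 L180983
theorem L180987 : sm gd N23167 = N18846 := ded_9_2 (flp_a L144923) (flp_d L144611) L180983
theorem L180989 : sm gf N18791 = N23168 := rfl
theorem L180991 : sm gc N23168 = N21455 := ded_20_1 (flp_f L168608) L156865 L180989
theorem L180993 : sm gd N23168 = N18848 := ded_23_1 (flp_f L144935) (flp_d L144611) L180989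
theorem L180995 : sm gg N18791 = N23169 := rfl
theorem L180997 : sm gc N23169 = N21456 := ded_21_1 (flp_g L168612) L156865 L180995
theorem L180999 : sm gd N23169 = N18849 := ded_24_1 (flp_g L144941) (flp_d L144611) L180995
theorem L181001 : sm gb N18793 = N23170 := rfl
theorem L181003 : sm gd N23170 = N18853 := ded_14_2 (flp_b L144967) (flp_d L144621) L181001
theorem L181005 : sm gb N18796 = N23171 := rfl
theorem L181007 : sm gd N23171 = N18858 := ded_14_2 (flp_b L144994) (flp_d L144635) L181005
theorem L181009 : sm gg N23171 = N22789 := ded_17_2 (flp_b L178007) (flp_g L128949) (flp_b L104019) L144631 L181005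
theorem L181011 : sm gf N18797 = N23172 := rfl
theorem L181013 : sm ga N23172 = N18798 := ded_11_1 (flp_f L144645) L144639 L181011
theorem L181015 : sm gc N23172 = N21231 := ded_20_1 (flp_f L167242) L149739 L181011
theorem L181017 : sm gd N23172 = N18860 := ded_23_1 (flp_f L145008) (flp_d L144643) L181011
theorem L181019 : sm ge N23172 = N21230 := ded_25_1 (flp_f L167234) (flp_e L149733) L181011
theorem L181021 : sm gg N23172 = N21689 := ded_29_3 L170104 (flp_f L168385) (flp_g L150799) L181011
theorem L181023 : sm gb N18798 = N23173 := rfl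
theorem L181025 : sm gd N23173 = N18866 := ded_14_2 (flp_b L145042) (flp_d L144649) L181023
theorem L181027 : sm gf N23173 = N18800 := ded_16_2 (flp_b L144657) (flp_f L104027) L104021 L144645 L181023
theorem L181029 : sm ga N18800 = N23174 := rfl
theorem L181031 : sm gd N23174 = N18875 := ded_9_2 (flp_a L145092) (flp_d L144659) L181029
theorem L181033 : sm gc N18800 = N23175 := rfl
theorem L181035 : sm gb N23175 = N21404 := ded_13_1 (flp_c L168286) (flp_b L116645) (flp_c L104031) L144657 L181033
theorem L181037 : sm gg N18800 = N23176 := rfl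
theorem L181039 : sm gd N23176 = N18877 := ded_24_1 (flp_g L145100) (flp_d L144659) L181037
theorem L181041 : sm gb N23176 = N23119 := ded_17_1 (flp_g L180655) (flp_b L144359) L104035 L144657 L181037
theorem L181043 : sm ga N18801 = N23177 := rfl
theorem L181045 : sm gd N23177 = N20147 := ded_9_2 L159055 (flp_d L144663) L181043
theorem L181047 : sm ge N23177 = N21147 := ded_10_2 L178005 L177997 L181043
theorem L181049 : sm gf N23177 = N21147 := ded_11_2 L178005 L178001 L181043
theorem L181051 : sm gg N23177 = N20135 := ded_12_2 (flp_a L166680) (flp_g L166690) L181043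
theorem L181053 : sm gc N23177 = N18801 := ded_28_0 L144663 (flp_c L155100) L155102 L107357 (flp_d L155102) L155100 (flp_d L144663) L181043
theorem L181055 : sm gb N18803 = N23177 := ded_14_3 L181045 L159063 (flp_d L156857)
theorem L181057 : sm gb N18802 = N23178 := rfl
theorem L181059 : sm gd N23178 = N18885 := ded_14_2 (flp_b L145148) (flp_d L144667) L181057
theorem L181061 : sm ge N23178 = N23170 := ded_15_2 (flp_b L181001) (flp_e L144669) L181057
theorem L181063 : sm gb N18804 = N23179 := rfl
theorem L181065 : sm gd N23179 = N18889 := ded_14_2 (flp_b L145170) (flp_d L144681) L181063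
theorem L181067 : sm ge N23179 = N23171 := ded_15_2 (flp_b L181005) (flp_e L144683) L181063
theorem L181069 : sm gg N23179 = N18805 := ded_17_2 (flp_b L144685) (flp_g L104053) L104045 L144679 L181063
theorem L181071 : sm ga N18805 = N23180 := rfl
theorem L181073 : sm gd N23180 = N18890 := ded_9_2 (flp_a L145176) (flp_d L144687) L181071
theorem L181075 : sm gc N18805 = N23181 := rfl
theorem L181077 : sm gf N18805 = N23182 := rfl
theorem L181079 : sm gd N23182 = N18892 := ded_23_1 (flp_f L145184) (flp_d L144687) L181077
theorem L181081 : sm gb N23182 = N23116 := ded_16_1 (flp_f L180639) (flp_b L144355) L104059 L144685 L181077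
theorem L181083 : sm ga N18806 = N23183 := rfl
theorem L181085 : sm gc N23183 = N21384 := ded_8_2 (flp_a L168198) L156840 L181083
theorem L181087 : sm gd N23183 = N18893 := ded_9_2 (flp_a L145190) (flp_d L144691) L181083
theorem L181089 : sm ge N23183 = N23167 := ded_10_2 (flp_a L180983) (flp_e L144693) L181083
theorem L181091 : sm gb N23183 = N23167 := ded_7_2 (flp_a L180983) (flp_b L144609) (flp_a L104009) (flp_b L89146) (flp_a L38732) L89160 L104061 L144689 L181083
theorem L181093 : sm gf N18806 = N23184 := rfl
theorem L181095 : sm gc N23184 = N21386 := ded_20_1 (flp_f L168204) L156840 L181093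
theorem L181097 : sm gd N23184 = N18895 := ded_23_1 (flp_f L145200) (flp_d L144691) L181093
theorem L181099 : sm ge N23184 = N23168 := ded_25_1 (flp_f L180989) (flp_e L144693) L181093
theorem L181101 : sm gg N18806 = N23185 := rfl
theorem L181103 : sm gc N23185 = N21387 := ded_21_1 (flp_g L168206) L156840 L181101
theorem L181105 : sm gd N23185 = N18896 := ded_24_1 (flp_g L145204) (flp_d L144691) L181101
theorem L181107 : sm ge N23185 = N23169 := ded_26_1 (flp_g L180995) (flp_e L144693) L181101
theorem L181109 : sm gb N18808 = N23186 := rfl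
theorem L181111 : sm gd N23186 = N18900 := ded_14_2 (flp_b L145226) (flp_d L144705) L181109
theorem L181113 : sm ge N23186 = N23162 := ded_15_2 (flp_b L180961) (flp_e L144707) L181109
theorem L181115 : sm gb N18811 = N23187 := rfl
theorem L181117 : sm gd N23187 = N18905 := ded_14_2 (flp_b L145253) (flp_d L144725) L181115
theorem L181119 : sm ge N23187 = N23163 := ded_15_2 (flp_b L180965) (flp_e L144727) L181115
theorem L181121 : sm gf N23187 = N22786 := ded_16_2 (flp_b L177981) (flp_f L128909) (flp_b L104079) L144721 L181115
theorem L181123 : sm gd N18812 = N23188 := rfl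
theorem L181125 : sm ga N23188 = N18816 := ded_9_1 (flp_d L144761) (flp_a L144733) L181123
theorem L181127 : sm gb N23188 = N18908 := ded_14_1 (flp_d L145274) (flp_b L144737) L181123
theorem L181129 : sm gf N18812 = N23189 := rfl
theorem L181131 : sm ga N23189 = N18817 := ded_11_1 (flp_f L144763) (flp_a L144733) L181129
theorem L181133 : sm gc N23189 = N18813 := ded_20_1 (flp_f L144739) L144731 L181129
theorem L181135 : sm ge N23189 = N19104 := ded_25_1 (flp_f L151834) (flp_e L144735) L181129
theorem L181137 : sm gb N23189 = N20660 := ded_16_1 (flp_f L162224) L145284 (flp_f L145278) (flp_b L144737) L181129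
theorem L181139 : sm gg N18812 = N23190 := rfl
theorem L181141 : sm ga N23190 = N18818 := ded_12_1 (flp_g L144769) (flp_a L144733) L181139
theorem L181143 : sm gc N23190 = N18814 := ded_21_1 (flp_g L144747) L144731 L181139
theorem L181145 : sm ge N23190 = N19105 := ded_26_1 (flp_g L151844) (flp_e L144735) L181139
theorem L181147 : sm gb N21931 = N23190 := ded_15_3 L181145 (flp_b L151852) L171642
theorem L181149 : sm gb N18814 = N23191 := rfl
theorem L181151 : sm ge N23191 = N19107 := ded_15_2 (flp_b L151864) (flp_e L144751) L181149
theorem L181153 : sm gf N23191 = N23097 := ded_16_2 L180511 L170088 L170090 (flp_f L144779) L181149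
theorem L181155 : sm gg N23191 = N21532 := ded_17_2 (flp_b L169111) L117187 L116068 L144747 L181149
theorem L181157 : sm gd N18815 = N23192 := rfl
theorem L181159 : sm ga N23192 = N18822 := ded_9_1 (flp_d L144795) (flp_a L144759) L181157
theorem L181161 : sm gb N23192 = N18816 := ded_14_1 (flp_d L144761) L144753 L181157
theorem L181163 : sm gf N18815 = N23193 := rfl
theorem L181165 : sm ga N23193 = N18823 := ded_11_1 (flp_f L144799) (flp_a L144759) L181163
theorem L181167 : sm gc N23193 = N18823 := ded_20_1 (flp_f L144799) (flp_c L144757) L181163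
theorem L181169 : sm ge N23193 = N19108 := ded_25_1 (flp_f L151866) (flp_e L144755) L181163
theorem L181171 : sm gg N18815 = N23194 := rfl
theorem L181173 : sm ga N23194 = N18824 := ded_12_1 (flp_g L144803) (flp_a L144759) L181171
theorem L181175 : sm gc N23194 = N18824 := ded_21_1 (flp_g L144803) (flp_c L144757) L181171
theorem L181177 : sm ge N23194 = N19109 := ded_26_1 (flp_g L151872) (flp_e L144755) L181171
theorem L181179 : sm gc N18816 = N23195 := rfl
theorem L181181 : sm ge N18816 = N23196 := rfl
theorem L181183 : sm gd N23196 = N19110 := ded_22_1 (flp_e L151878) (flp_d L105031) (flp_e L104087) L144761 L181181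
theorem L181185 : sm gf N18816 = N23197 := rfl
theorem L181187 : sm gd N23197 = N18817 := ded_23_1 (flp_f L144763) L144761 L181185
theorem L181189 : sm gg N18816 = N23198 := rfl
theorem L181191 : sm gd N23198 = N18818 := ded_24_1 (flp_g L144769) L144761 L181189
theorem L181193 : sm gg N18817 = N23199 := rfl
theorem L181195 : sm gc N23199 = N18819 := ded_21_1 (flp_g L144775) (flp_c L144765) L181193
theorem L181197 : sm ge N23199 = N19112 := ded_26_1 (flp_g L151888) (flp_e L144767) L181193
theorem L181199 : sm gf N23190 = N23199 := ded_29_0 (flp_g L181193) (flp_f L144763) L144769 (flp_a L181141)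
theorem L181201 : sm gb N18818 = N23200 := rfl
theorem L181203 : sm ge N23200 = N19113 := ded_15_2 (flp_b L151894) (flp_e L144773) L181201
theorem L181205 : sm gf N18818 = N23201 := rfl
theorem L181207 : sm ga N23201 = N23199 := ded_11_1 (flp_f L181199) L181141 L181205
theorem L181209 : sm gc N23201 = N18821 := ded_20_1 (flp_f L144787) (flp_c L144771) L181205
theorem L181211 : sm ge N23201 = N19114 := ded_25_1 (flp_f L151896) (flp_e L144773) L181205
theorem L181213 : sm gg N23201 = N23189 := ded_29_3 L181131 (flp_f L144763) L144769 L181205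
theorem L181215 : sm ga N18820 = N23202 := rfl
theorem L181217 : sm ge N23202 = N19116 := ded_10_2 (flp_a L151914) (flp_e L144783) L181215
theorem L181219 : sm gg N23202 = N18828 := ded_12_2 (flp_a L144825) (flp_g L144785) L181215
theorem L181221 : sm gf N23202 = N22778 := ded_29_0 (flp_g L177921) (flp_f L144833) (flp_g L144785) L181215
theorem L181223 : sm gb N22902 = N23202 := ded_15_3 L181217 L151922 (flp_e L179009)
theorem L181225 : sm gc N22901 = N23202 := ded_19_3 L181217 (flp_c L151924) (flp_e L179003)
theorem L181227 : sm gc N18820 = N23203 := rfl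
theorem L181229 : sm ga N23203 = N22901 := ded_8_1 L181225 (flp_a L181215) L181227
theorem L181231 : sm ge N23203 = N19117 := ded_19_2 (flp_c L151926) (flp_e L144783) L181227
theorem L181233 : sm gg N23203 = N18829 := ded_21_2 (flp_c L144829) (flp_g L144785) L181227
theorem L181235 : sm gf N18820 = N23204 := rfl
theorem L181237 : sm ga N23204 = N22778 := ded_11_1 (flp_f L181221) (flp_a L181215) L181235
theorem L181239 : sm ge N23204 = N19118 := ded_25_1 (flp_f L151932) (flp_e L144783) L181235
theorem L181241 : sm gb N18821 = N23205 := rfl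
theorem L181243 : sm ge N23205 = N19119 := ded_15_2 (flp_b L151938) (flp_e L144791) L181241
theorem L181245 : sm ga N23205 = N18877 := ded_7_1 L145104 (flp_a L144559) L180905 (flp_a L180913) L178091 L170094 L170090 (flp_a L144789) L181241
theorem L181247 : sm gg N18875 = N23205 := ded_26_0 L181243 (flp_g L152260) (flp_e L145094)
theorem L181249 : sm ge N18822 = N23206 := rfl
theorem L181251 : sm gb N23206 = N18825 := ded_15_1 (flp_e L144807) (flp_b L144797) L181249
theorem L181253 : sm gd N23206 = N19120 := ded_22_1 (flp_e L151940) (flp_d L105057) (flp_e L104099) L144795 L181249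
theorem L181255 : sm gf N18822 = N23207 := rfl
theorem L181257 : sm gd N23207 = N18823 := ded_23_1 (flp_f L144799) L144795 L181255
theorem L181259 : sm gg N18822 = N23208 := rfl
theorem L181261 : sm gd N23208 = N18824 := ded_24_1 (flp_g L144803) L144795 L181259
theorem L181263 : sm gg N18823 = N23209 := rfl
theorem L181265 : sm ge N23209 = N19122 := ded_26_1 (flp_g L151952) (flp_e L144801) L181263
theorem L181267 : sm gf N23194 = N23209 := ded_29_0 (flp_g L181263) (flp_f L144799) L144803 (flp_a L181173)
theorem L181269 : sm gb N18824 = N23210 := rfl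
theorem L181271 : sm ge N23210 = N19123 := ded_15_2 (flp_b L151956) (flp_e L144805) L181269
theorem L181273 : sm gg N23210 = N18827 := ded_17_2 (flp_b L144821) (flp_g L104105) L104097 L144803 L181269
theorem L181275 : sm gf N18824 = N23211 := rfl
theorem L181277 : sm ga N23211 = N23209 := ded_11_1 (flp_f L181267) L181173 L181275
theorem L181279 : sm gc N23211 = N23209 := ded_20_1 (flp_f L181267) L181175 L181275
theorem L181281 : sm ge N23211 = N19124 := ded_25_1 (flp_f L151960) (flp_e L144805) L181275
theorem L181283 : sm gg N23211 = N23193 := ded_29_3 L181165 (flp_f L144799) L144803 L181275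
theorem L181285 : sm gg N18825 = N23212 := rfl
theorem L181287 : sm ga N23212 = N18831 := ded_12_1 (flp_g L144839) (flp_a L144809) L181285
theorem L181289 : sm gd N23212 = N19125 := ded_24_1 (flp_g L151968) (flp_d L144811) L181285
theorem L181291 : sm ge N23212 = N18826 := ded_26_1 (flp_g L144813) L144807 L181285
theorem L181293 : sm gf N23212 = N23128 := ded_29_2 (flp_g L180715) (flp_a L156328) L156332 L181285
theorem L181295 : sm gb N18826 = N23213 := rfl
theorem L181297 : sm gd N23213 = N18827 := ded_14_2 (flp_b L144821) (flp_d L144817) L181295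
theorem L181299 : sm ga N18827 = N23214 := rfl
theorem L181301 : sm ge N23214 = N19127 := ded_10_2 (flp_a L151982) (flp_e L144823) L181299
theorem L181303 : sm gc N18827 = N23215 := rfl
theorem L181305 : sm ge N23215 = N19128 := ded_19_2 (flp_c L151984) (flp_e L144823) L181303
theorem L181307 : sm gb N23215 = N18829 := ded_13_1 (flp_c L144829) (flp_b L104115) (flp_c L104109) L144821 L181303
theorem L181309 : sm gf N18827 = N23216 := rfl
theorem L181311 : sm ge N23216 = N19129 := ded_25_1 (flp_f L151988) (flp_e L144823) L181309
theorem L181313 : sm gb N23216 = N23132 := ded_16_1 (flp_f L180739) (flp_b L144419) (flp_f L104113) L144821 L181309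
theorem L181315 : sm gb N18828 = N23217 := rfl
theorem L181317 : sm ge N23217 = N19130 := ded_15_2 (flp_b L151992) (flp_e L144827) L181315
theorem L181319 : sm gg N23217 = N23057 := ded_17_2 (flp_b L180309) L180307 L181223 L181219 L181315
theorem L181321 : sm gf N21659 = N23217 := ded_31_1 (flp_b L181315) (flp_g L181219) L181221 (flp_b L177917) L177929 L177935 (flp_b L178070) (flp_g L178064) (flp_f L167659) (flp_b L167655) L117691 (flp_f L117683) L117673 L169898
theorem L181323 : sm gc N18828 = N23218 := rfl
theorem L181325 : sm ga N23218 = N18829 := ded_8_1 (flp_c L144829) L144825 L181323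
theorem L181327 : sm ge N23218 = N19131 := ded_19_2 (flp_c L151996) (flp_e L144827) L181323
theorem L181329 : sm gg N23218 = N22901 := ded_21_2 L181225 L181219 L181323
theorem L181331 : sm gb N22898 = N23218 := ded_15_3 L181327 (flp_b L152002) (flp_e L178983)
theorem L181333 : sm gf N18828 = N23219 := rfl
theorem L181335 : sm ga N23219 = N18830 := ded_11_1 (flp_f L144833) L144825 L181333
theorem L181337 : sm ge N23219 = N19132 := ded_25_1 (flp_f L152004) (flp_e L144827) L181333
theorem L181339 : sm gg N23219 = N23204 := ded_29_3 L181237 (flp_f L181221) L181219 L181333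
theorem L181341 : sm gb N23219 = N18867 := ded_16_1 (flp_f L145052) (flp_b L169908) L181321 (flp_b L181315) L181333
theorem L181343 : sm gd N18829 = N23220 := rfl
theorem L181345 : sm gf N18829 = N23221 := rfl
theorem L181347 : sm gc N23221 = N18830 := ded_20_1 (flp_f L144833) L144829 L181345
theorem L181349 : sm ge N23221 = N19134 := ded_25_1 (flp_f L152014) (flp_e L144831) L181345
theorem L181351 : sm gb N18831 = N23222 := rfl
theorem L181353 : sm gd N23222 = N19135 := ded_14_2 (flp_b L152018) (flp_d L144841) L181351
theorem L181355 : sm ge N23222 = N18832 := ded_15_2 (flp_b L144845) (flp_e L144843) L181351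
theorem L181357 : sm gg N23222 = N18917 := ded_17_2 (flp_b L145340) (flp_g L104359) (flp_b L104121) L144839 L181351
theorem L181359 : sm gf N18831 = N23223 := rfl
theorem L181361 : sm ga N23223 = N23128 := ded_11_1 (flp_f L181293) L181287 L181359
theorem L181363 : sm gd N23223 = N19136 := ded_23_1 (flp_f L152024) (flp_d L144841) L181359
theorem L181365 : sm ge N23223 = N18833 := ded_25_1 (flp_f L144851) (flp_e L144843) L181359
theorem L181367 : sm gg N23223 = N19729 := ded_29_3 L156328 L144411 L144839 L181359
theorem L181369 : sm ga N18832 = N23224 := rfl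
theorem L181371 : sm gd N23224 = N18834 := ded_9_2 (flp_a L144859) (flp_d L144847) L181369
theorem L181373 : sm gg N23224 = N18919 := ded_12_2 (flp_a L145358) (flp_g L144849) L181369
theorem L181375 : sm gc N18832 = N23225 := rfl
theorem L181377 : sm gg N23225 = N18920 := ded_21_2 (flp_c L145362) (flp_g L144849) L181375
theorem L181379 : sm gf N18832 = N23226 := rfl
theorem L181381 : sm gd N23226 = N18836 := ded_23_1 (flp_f L144873) (flp_d L144847) L181379
theorem L181383 : sm gb N18833 = N23227 := rfl
theorem L181385 : sm gd N23227 = N18837 := ded_14_2 (flp_b L144877) (flp_d L144855) L181383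
theorem L181387 : sm gb N18834 = N23228 := rfl
theorem L181389 : sm ge N23228 = N19140 := ded_15_2 (flp_b L152054) (flp_e L144861) L181387
theorem L181391 : sm gg N23228 = N20747 := ded_17_2 L162722 L149790 (flp_b L145372) (flp_g L144863) L181387
theorem L181393 : sm gc N20748 = N23228 := ded_19_3 L181389 (flp_c L152058) (flp_e L162726)
theorem L181395 : sm gc N18834 = N23229 := rfl
theorem L181397 : sm ga N23229 = N18835 := ded_8_1 (flp_c L144865) L144859 L181395
theorem L181399 : sm ge N23229 = N19141 := ded_19_2 (flp_c L152060) (flp_e L144861) L181395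
theorem L181401 : sm gg N23229 = N18924 := ded_21_2 (flp_c L145380) (flp_g L144863) L181395
theorem L181403 : sm gb N23229 = N22431 := ded_13_1 L175246 (flp_b L162728) L181393 (flp_b L181387) L181395
theorem L181405 : sm gd N18835 = N23230 := rfl
theorem L181407 : sm gb N23230 = N18840 := ded_14_1 (flp_d L144893) (flp_b L144871) L181405
theorem L181409 : sm gg N23230 = N18926 := ded_24_2 (flp_d L145394) (flp_g L144869) L181405
theorem L181411 : sm gf N18835 = N23231 := rfl
theorem L181413 : sm gc N23231 = N18836 := ded_20_1 (flp_f L144873) L144865 L181411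
theorem L181415 : sm ge N23231 = N19143 := ded_25_1 (flp_f L152074) (flp_e L144867) L181411
theorem L181417 : sm gb N18836 = N23232 := rfl
theorem L181419 : sm ge N23232 = N19144 := ded_15_2 (flp_b L152078) (flp_e L144875) L181417
theorem L181421 : sm gf N23232 = N18837 := ded_16_2 (flp_b L144877) (flp_f L104135) L104129 L144873 L181417
theorem L181423 : sm ga N18837 = N23233 := rfl
theorem L181425 : sm ge N23233 = N19145 := ded_10_2 (flp_a L152082) (flp_e L144879) L181423
theorem L181427 : sm gc N18837 = N23234 := rfl
theorem L181429 : sm ge N23234 = N19146 := ded_19_2 (flp_c L152084) (flp_e L144879) L181427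
theorem L181431 : sm gb N23234 = N18844 := ded_13_1 (flp_c L144913) (flp_b L104161) (flp_c L104139) L144877 L181427
theorem L181433 : sm gg N18837 = N23235 := rfl
theorem L181435 : sm ge N23235 = N19147 := ded_26_1 (flp_g L152088) (flp_e L144879) L181433
theorem L181437 : sm gb N23235 = N19950 := ded_17_1 (flp_g L157833) (flp_b L119825) (flp_g L104143) L144877 L181433
theorem L181439 : sm ga N18838 = N23236 := rfl
theorem L181441 : sm ge N23236 = N19148 := ded_10_2 (flp_a L152094) (flp_e L144883) L181439
theorem L181443 : sm gf N22742 = N23236 := ded_25_0 L181441 (flp_f L152098) (flp_e L177665)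
theorem L181445 : sm gc N18838 = N23237 := rfl
theorem L181447 : sm ge N23237 = N19149 := ded_19_2 (flp_c L152100) (flp_e L144883) L181445
theorem L181449 : sm gf N18838 = N23238 := rfl
theorem L181451 : sm ga N23238 = N22742 := ded_11_1 L181443 (flp_a L181439) L181449
theorem L181453 : sm ge N23238 = N19150 := ded_25_1 (flp_f L152102) (flp_e L144883) L181449
theorem L181455 : sm gg N23148 = N23238 := ded_26_0 L181453 L152254 (flp_e L180853)
theorem L181457 : sm gg N18838 = N23239 := rfl
theorem L181459 : sm ge N23239 = N19151 := ded_26_1 (flp_g L152108) (flp_e L144883) L181457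
theorem L181461 : sm gb N23239 = N18849 := ded_17_1 (flp_g L144941) (flp_b L104165) (flp_g L104149) L144881 L181457
theorem L181463 : sm gb N18839 = N23240 := rfl
theorem L181465 : sm ge N23240 = N19152 := ded_15_2 (flp_b L152114) (flp_e L144889) L181463
theorem L181467 : sm gf N23240 = N19321 := ded_16_2 L153259 L105774 (flp_b L105396) L151488 L181463
theorem L181469 : sm gd N18839 = N23241 := rfl
theorem L181471 : sm ga N23241 = N18840 := ded_9_1 (flp_d L144893) (flp_a L144887) L181469
theorem L181473 : sm gf N23241 = N18902 := ded_23_2 L145236 L151488 L181469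
theorem L181475 : sm gg N23241 = N18851 := ded_24_2 (flp_d L144953) (flp_g L144891) L181469
theorem L181477 : sm ge N23241 = N18887 := ded_22_2 (flp_d L145160) L104274 (flp_d L151480) (flp_e L144889) L181469
theorem L181479 : sm ge N18840 = N23242 := rfl
theorem L181481 : sm ga N23242 = N18887 := ded_10_1 (flp_e L181477) L181471 L181479
theorem L181483 : sm gg N23242 = N18855 := ded_26_2 (flp_e L144973) (flp_g L144895) L181479
theorem L181485 : sm gd N23242 = N18886 := ded_22_1 (flp_e L151522) (flp_d L105141) (flp_e L104153) L144893 L181479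
theorem L181487 : sm gf N18898 = N23242 := ded_11_0 L181481 L145162 (flp_a L145214)
theorem L181489 : sm gf N18840 = N23243 := rfl
theorem L181491 : sm ga N23243 = N18902 := ded_11_1 (flp_f L181473) L181471 L181489
theorem L181493 : sm gd N23243 = N18841 := ded_23_1 (flp_f L144897) L144893 L181489
theorem L181495 : sm ge N23243 = N18898 := ded_25_1 L181487 (flp_e L181479) L181489
theorem L181497 : sm gb N18841 = N23244 := rfl
theorem L181499 : sm ge N23244 = N19153 := ded_15_2 (flp_b L152120) (flp_e L144901) L181497
theorem L181501 : sm gg N23244 = N22543 := ded_17_2 (flp_b L176879) L176883 L176518 (flp_g L144965) L181497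
theorem L181503 : sm ga N18842 = N23245 := rfl
theorem L181505 : sm ge N23245 = N19154 := ded_10_2 (flp_a L152126) (flp_e L144905) L181503
theorem L181507 : sm gf N23245 = N18843 := ded_11_2 (flp_a L144909) (flp_f L144907) L181503
theorem L181509 : sm gb N23142 = N23245 := ded_15_3 L181505 L152158 (flp_e L180819)
theorem L181511 : sm gc N18842 = N23246 := rfl
theorem L181513 : sm ge N23246 = N19155 := ded_19_2 (flp_c L152130) (flp_e L144905) L181511
theorem L181515 : sm gf N23246 = N18844 := ded_20_2 (flp_c L144913) (flp_f L144907) L181511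
theorem L181517 : sm gg N21984 = N23246 := ded_26_0 L181513 (flp_g L153743) L172023
theorem L181519 : sm gg N18842 = N23247 := rfl
theorem L181521 : sm gc N23247 = N21984 := ded_21_1 L181517 (flp_c L181511) L181519
theorem L181523 : sm ge N23247 = N19156 := ded_26_1 (flp_g L152134) (flp_e L144905) L181519
theorem L181525 : sm gb N23247 = N23073 := ded_17_1 (flp_g L180335) (flp_b L144967) (flp_g L104181) L144903 L181519
theorem L181527 : sm gc N18843 = N23248 := rfl
theorem L181529 : sm ga N23248 = N18844 := ded_8_1 (flp_c L144913) L144909 L181527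
theorem L181531 : sm ge N23248 = N19158 := ded_19_2 (flp_c L152140) (flp_e L144911) L181527
theorem L181533 : sm gg N18843 = N23249 := rfl
theorem L181535 : sm ga N23249 = N18845 := ded_12_1 (flp_g L144917) L144909 L181533
theorem L181537 : sm ge N23249 = N19159 := ded_26_1 (flp_g L152144) (flp_e L144911) L181533
theorem L181539 : sm gf N23249 = N23247 := ded_29_2 (flp_g L181519) L181503 L181507 L181533
theorem L181541 : sm gb N23249 = N22774 := ded_17_1 (flp_g L177888) L128861 L177747 (flp_b L177757) L181533
theorem L181543 : sm gd N18844 = N23250 := rfl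
theorem L181545 : sm gg N18844 = N23251 := rfl
theorem L181547 : sm gc N23251 = N18845 := ded_21_1 (flp_g L144917) L144913 L181545
theorem L181549 : sm ge N23251 = N19161 := ded_26_1 (flp_g L152170) (flp_e L144915) L181545
theorem L181551 : sm gf N18845 = N23252 := rfl
theorem L181553 : sm ga N23252 = N23247 := ded_11_1 (flp_f L181539) L181535 L181551
theorem L181555 : sm ge N23252 = N19162 := ded_25_1 (flp_f L152174) (flp_e L144919) L181551
theorem L181557 : sm gg N23252 = N23245 := ded_29_3 (flp_a L181503) L144907 L144917 L181551
theorem L181559 : sm gf N18846 = N23253 := rfl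
theorem L181561 : sm ga N23253 = N18848 := ded_11_1 (flp_f L144935) L144923 L181559
theorem L181563 : sm gc N23253 = N20683 := ded_20_1 L179391 (flp_c L179389) L181559
theorem L181565 : sm ge N23253 = N19163 := ded_25_1 (flp_f L152180) (flp_e L144925) L181559
theorem L181567 : sm gg N18846 = N23254 := rfl
theorem L181569 : sm ga N23254 = N18849 := ded_12_1 (flp_g L144941) L144923 L181567
theorem L181571 : sm ge N23254 = N19164 := ded_26_1 (flp_g L152186) (flp_e L144925) L181567
theorem L181573 : sm gf N23254 = N23099 := ded_29_2 L180531 (flp_a L181561) (flp_f L181559) L181567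
theorem L181575 : sm gb N23096 = N23254 := ded_15_3 L181571 (flp_b L152192) (flp_e L180503)
theorem L181577 : sm gg N18847 = N23255 := rfl
theorem L181579 : sm gc N23255 = N18849 := ded_21_1 (flp_g L144941) L144927 L181577
theorem L181581 : sm ge N23255 = N19165 := ded_26_1 (flp_g L152194) (flp_e L144929) L181577
theorem L181583 : sm gf N18849 = N23256 := rfl
theorem L181585 : sm ga N23256 = N23099 := ded_11_1 (flp_f L181573) L181569 L181583
theorem L181587 : sm ge N23256 = N19166 := ded_25_1 (flp_f L152210) (flp_e L144943) L181583
theorem L181589 : sm gg N23256 = N23253 := ded_29_3 L181561 (flp_f L144935) L144941 L181583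
theorem L181591 : sm gb N23256 = N22751 := ded_31_2 (flp_g L177711) (flp_f L157831) L157827 L180705 (flp_f L180713) (flp_b L144921) (flp_g L144917) (flp_f L144907) (flp_b L144903) L104181 (flp_f L104175) L104165 L144941 L181583
theorem L181593 : sm ga N18850 = N23257 := rfl
theorem L181595 : sm gc N23257 = N22481 := ded_8_2 L175597 (flp_c L144949) L181593
theorem L181597 : sm ge N23257 = N19167 := ded_10_2 (flp_a L152220) (flp_e L144947) L181593
theorem L181599 : sm gf N23257 = N22479 := ded_11_2 L175583 L144951 L181593
theorem L181601 : sm gd N18850 = N23258 := rfl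
theorem L181603 : sm gb N23258 = N18851 := ded_14_1 (flp_d L144953) L144945 L181601
theorem L181605 : sm gf N23258 = N22486 := ded_23_2 (flp_d L175625) L144951 L181601
theorem L181607 : sm gg N18850 = N23259 := rfl
theorem L181609 : sm gc N23259 = N22490 := ded_21_1 (flp_g L175645) (flp_c L144949) L181607
theorem L181611 : sm ge N23259 = N19169 := ded_26_1 (flp_g L152232) (flp_e L144947) L181607
theorem L181613 : sm ge N18851 = N23260 := rfl
theorem L181615 : sm ga N23260 = N18855 := ded_10_1 (flp_e L144973) (flp_a L144955) L181613
theorem L181617 : sm gg N23260 = N18887 := ded_26_2 (flp_e L181477) L181475 L181613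
theorem L181619 : sm gd N23260 = N18888 := ded_22_1 (flp_e L151538) (flp_d L105171) (flp_e L104173) L144953 L181613
theorem L181621 : sm gf N18851 = N23261 := rfl
theorem L181623 : sm ga N23261 = N18856 := ded_11_1 (flp_f L144979) (flp_a L144955) L181621
theorem L181625 : sm gd N23261 = N18852 := ded_23_1 (flp_f L144957) L144953 L181621
theorem L181627 : sm gg N23261 = N23243 := ded_29_3 L181491 (flp_f L181473) L181475 L181621
theorem L181629 : sm ga N18858 = N23262 := rfl
theorem L181631 : sm ge N23262 = N19170 := ded_10_2 (flp_a L152236) (flp_e L144996) L181629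
theorem L181633 : sm gg N23262 = N22799 := ded_12_2 (flp_a L178074) (flp_g L144998) L181629
theorem L181635 : sm gb N23262 = N21521 := ded_7_2 L169023 L169075 (flp_a L180815) L181509 (flp_a L181503) (flp_b L144903) (flp_a L104196) L144994 L181629
theorem L181637 : sm gf N18858 = N23263 := rfl
theorem L181639 : sm ge N23263 = N19171 := ded_25_1 (flp_f L152240) (flp_e L144996) L181637
theorem L181641 : sm gg N23263 = N23155 := ded_29_3 (flp_a L180913) (flp_f L178087) (flp_g L144998) L181637
theorem L181643 : sm gb N23263 = N23238 := ded_16_1 (flp_f L181449) (flp_b L144881) L104200 L144994 L181637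
theorem L181645 : sm gd N18859 = N23264 := rfl
theorem L181647 : sm ga N23264 = N18863 := ded_9_1 (flp_d L145028) (flp_a L145002) L181645
theorem L181649 : sm gb N23264 = N18948 := ded_14_1 (flp_d L145516) L145006 L181645
theorem L181651 : sm gf N18859 = N23265 := rfl
theorem L181653 : sm ga N23265 = N18864 := ded_11_1 (flp_f L145030) (flp_a L145002) L181651
theorem L181655 : sm gc N23265 = N18860 := ded_20_1 (flp_f L145008) L145000 L181651
theorem L181657 : sm ge N23265 = N19173 := ded_25_1 (flp_f L152274) (flp_e L145004) L181651
theorem L181659 : sm gb N21937 = N23265 := ded_15_3 L181657 (flp_b L152282) L171686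
theorem L181661 : sm gg N18859 = N23266 := rfl
theorem L181663 : sm ga N23266 = N18865 := ded_12_1 (flp_g L145036) (flp_a L145002) L181661
theorem L181665 : sm gc N23266 = N18861 := ded_21_1 (flp_g L145014) L145000 L181661
theorem L181667 : sm ge N23266 = N19174 := ded_26_1 (flp_g L152284) (flp_e L145004) L181661
theorem L181669 : sm gb N23266 = N20715 := ded_17_1 (flp_g L162548) (flp_b L150894) (flp_g L145526) L145006 L181661
theorem L181671 : sm gb N18860 = N23267 := rfl
theorem L181673 : sm ge N23267 = N19175 := ded_15_2 (flp_b L152294) (flp_e L145012) L181671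
theorem L181675 : sm gf N23267 = N21691 := ded_16_2 (flp_b L170116) (flp_f L117797) L149001 L145008 L181671
theorem L181677 : sm gg N23267 = N23090 := ded_17_2 L180453 (flp_g L169093) L169095 L145060 L181671
theorem L181679 : sm gd N18862 = N23268 := rfl
theorem L181681 : sm ga N23268 = N18869 := ded_9_1 (flp_d L145062) (flp_a L145026) L181679
theorem L181683 : sm gb N23268 = N18863 := ded_14_1 (flp_d L145028) L145020 L181679
theorem L181685 : sm gf N18862 = N23269 := rfl
theorem L181687 : sm ga N23269 = N18870 := ded_11_1 (flp_f L145066) (flp_a L145026) L181685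
theorem L181689 : sm gc N23269 = N18870 := ded_20_1 (flp_f L145066) (flp_c L145024) L181685
theorem L181691 : sm ge N23269 = N19177 := ded_25_1 (flp_f L152310) (flp_e L145022) L181685
theorem L181693 : sm gg N18862 = N23270 := rfl
theorem L181695 : sm ga N23270 = N18871 := ded_12_1 (flp_g L145070) (flp_a L145026) L181693
theorem L181697 : sm gc N23270 = N18871 := ded_21_1 (flp_g L145070) (flp_c L145024) L181693
theorem L181699 : sm ge N23270 = N19178 := ded_26_1 (flp_g L152316) (flp_e L145022) L181693
theorem L181701 : sm gc N18863 = N23271 := rfl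
theorem L181703 : sm ge N18863 = N23272 := rfl
theorem L181705 : sm gd N23272 = N19179 := ded_22_1 (flp_e L152322) (flp_d L105224) (flp_e L104208) L145028 L181703
theorem L181707 : sm gf N18863 = N23273 := rfl
theorem L181709 : sm gd N23273 = N18864 := ded_23_1 (flp_f L145030) L145028 L181707
theorem L181711 : sm gg N18863 = N23274 := rfl
theorem L181713 : sm gd N23274 = N18865 := ded_24_1 (flp_g L145036) L145028 L181711
theorem L181715 : sm gb N18864 = N23275 := rfl
theorem L181717 : sm ge N23275 = N19181 := ded_15_2 (flp_b L152332) (flp_e L145034) L181715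
theorem L181719 : sm gg N18864 = N23276 := rfl
theorem L181721 : sm gc N23276 = N18867 := ded_21_1 (flp_g L145048) (flp_c L145032) L181719
theorem L181723 : sm ge N23276 = N19182 := ded_26_1 (flp_g L152334) (flp_e L145034) L181719
theorem L181725 : sm gf N23266 = N23276 := ded_29_0 (flp_g L181719) (flp_f L145030) L145036 (flp_a L181663)
theorem L181727 : sm gf N18865 = N23277 := rfl
theorem L181729 : sm ga N23277 = N23276 := ded_11_1 (flp_f L181725) L181663 L181727
theorem L181731 : sm gc N23277 = N18868 := ded_20_1 (flp_f L145054) (flp_c L145038) L181727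
theorem L181733 : sm ge N23277 = N19183 := ded_25_1 (flp_f L152340) (flp_e L145040) L181727
theorem L181735 : sm gg N23277 = N23265 := ded_29_3 L181653 (flp_f L145030) L145036 L181727
theorem L181737 : sm ga N18866 = N23278 := rfl
theorem L181739 : sm ge N23278 = N19184 := ded_10_2 (flp_a L152348) (flp_e L145044) L181737
theorem L181741 : sm gf N23278 = N18875 := ded_11_2 (flp_a L145092) (flp_f L145046) L181737
theorem L181743 : sm gg N22769 = N23278 := ded_29_3 (flp_a L181737) L145046 L145100 L177856
theorem L181745 : sm gb N22931 = N23278 := ded_15_3 L181739 (flp_b L152358) (flp_e L179205)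
theorem L181747 : sm gc N22930 = N23278 := ded_19_3 L181739 L152356 (flp_e L179199)
theorem L181749 : sm gc N18866 = N23279 := rfl
theorem L181751 : sm ga N23279 = N22930 := ded_8_1 L181747 (flp_a L181737) L181749
theorem L181753 : sm ge N23279 = N19185 := ded_19_2 (flp_c L152360) (flp_e L145044) L181749
theorem L181755 : sm gf N23279 = N18876 := ded_20_2 (flp_c L145096) (flp_f L145046) L181749
theorem L181757 : sm gg N18866 = N23280 := rfl
theorem L181759 : sm ga N23280 = N22769 := ded_12_1 L181743 (flp_a L181737) L181757
theorem L181761 : sm ge N23280 = N19186 := ded_26_1 (flp_g L152366) (flp_e L145044) L181757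
theorem L181763 : sm gf N23205 = N23280 := ded_29_0 (flp_g L181757) L145046 L145100 (flp_a L181245)
theorem L181765 : sm gb N23280 = N23204 := ded_17_1 (flp_g L181339) L181341 (flp_g L145048) L145042 L181757
theorem L181767 : sm ge N18869 = N23281 := rfl
theorem L181769 : sm gb N23281 = N18872 := ded_15_1 (flp_e L145074) (flp_b L145064) L181767
theorem L181771 : sm gd N23281 = N19188 := ded_22_1 (flp_e L152384) (flp_d L105250) (flp_e L104220) L145062 L181767
theorem L181773 : sm gf N18869 = N23282 := rfl
theorem L181775 : sm gd N23282 = N18870 := ded_23_1 (flp_f L145066) L145062 L181773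
theorem L181777 : sm gg N18869 = N23283 := rfl
theorem L181779 : sm gd N23283 = N18871 := ded_24_1 (flp_g L145070) L145062 L181777
theorem L181781 : sm gb N18870 = N23284 := rfl
theorem L181783 : sm ge N23284 = N19190 := ded_15_2 (flp_b L152396) (flp_e L145068) L181781
theorem L181785 : sm gf N23284 = N18874 := ded_16_2 (flp_b L145088) (flp_f L104226) L104218 L145066 L181781
theorem L181787 : sm gg N18870 = N23285 := rfl
theorem L181789 : sm ge N23285 = N19191 := ded_26_1 (flp_g L152400) (flp_e L145068) L181787
theorem L181791 : sm gf N23270 = N23285 := ded_29_0 (flp_g L181787) (flp_f L145066) L145070 (flp_a L181695)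
theorem L181793 : sm gf N18871 = N23286 := rfl
theorem L181795 : sm ga N23286 = N23285 := ded_11_1 (flp_f L181791) L181695 L181793
theorem L181797 : sm gc N23286 = N23285 := ded_20_1 (flp_f L181791) L181697 L181793
theorem L181799 : sm ge N23286 = N19192 := ded_25_1 (flp_f L152404) (flp_e L145072) L181793
theorem L181801 : sm gg N23286 = N23269 := ded_29_3 L181687 (flp_f L145066) L145070 L181793
theorem L181803 : sm gf N18872 = N23287 := rfl
theorem L181805 : sm ga N23287 = N18878 := ded_11_1 (flp_f L145106) (flp_a L145076) L181803
theorem L181807 : sm gd N23287 = N19193 := ded_23_1 (flp_f L152412) (flp_d L145078) L181803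
theorem L181809 : sm ge N23287 = N18873 := ded_25_1 (flp_f L145080) L145074 L181803
theorem L181811 : sm gg N23143 = N23287 := ded_29_1 (flp_f L181803) (flp_g L156579) L156575 L180823
theorem L181813 : sm gb N18873 = N23288 := rfl
theorem L181815 : sm gd N23288 = N18874 := ded_14_2 (flp_b L145088) (flp_d L145084) L181813
theorem L181817 : sm ga N18874 = N23289 := rfl
theorem L181819 : sm ge N23289 = N19195 := ded_10_2 (flp_a L152426) (flp_e L145090) L181817
theorem L181821 : sm gc N18874 = N23290 := rfl
theorem L181823 : sm ge N23290 = N19196 := ded_19_2 (flp_c L152428) (flp_e L145090) L181821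
theorem L181825 : sm gb N23290 = N18876 := ded_13_1 (flp_c L145096) (flp_b L104236) (flp_c L104230) L145088 L181821
theorem L181827 : sm gg N18874 = N23291 := rfl
theorem L181829 : sm ge N23291 = N19197 := ded_26_1 (flp_g L152432) (flp_e L145090) L181827
theorem L181831 : sm gb N23291 = N23147 := ded_17_1 (flp_g L180847) (flp_b L144511) L104234 L145088 L181827
theorem L181833 : sm gb N18875 = N23292 := rfl
theorem L181835 : sm ge N23292 = N19198 := ded_15_2 (flp_b L152436) (flp_e L145094) L181833
theorem L181837 : sm gf N23292 = N23056 := ded_16_2 (flp_b L180363) (flp_f L180361) L181745 L181741 L181833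
theorem L181839 : sm gg N23292 = N21498 := ded_17_2 L168899 (flp_g L144793) L181241 (flp_g L181247) L181833
theorem L181841 : sm gc N18875 = N23293 := rfl
theorem L181843 : sm ga N23293 = N18876 := ded_8_1 (flp_c L145096) L145092 L181841
theorem L181845 : sm ge N23293 = N19199 := ded_19_2 (flp_c L152442) (flp_e L145094) L181841
theorem L181847 : sm gf N23293 = N22930 := ded_20_2 L181747 L181741 L181841
theorem L181849 : sm gb N22927 = N23293 := ded_15_3 L181845 (flp_b L152448) (flp_e L179179)
theorem L181851 : sm gd N18876 = N23294 := rfl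
theorem L181853 : sm gg N18876 = N23295 := rfl
theorem L181855 : sm gc N23295 = N18877 := ded_21_1 (flp_g L145100) L145096 L181853
theorem L181857 : sm ge N23295 = N19201 := ded_26_1 (flp_g L152452) (flp_e L145098) L181853
theorem L181859 : sm gb N18878 = N23296 := rfl
theorem L181861 : sm gd N23296 = N19202 := ded_14_2 (flp_b L152456) (flp_d L145108) L181859
theorem L181863 : sm ge N23296 = N18879 := ded_15_2 (flp_b L145112) (flp_e L145110) L181859
theorem L181865 : sm gf N23296 = N18957 := ded_16_2 (flp_b L145562) (flp_f L104464) (flp_b L104242) L145106 L181859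
theorem L181867 : sm gg N18878 = N23297 := rfl
theorem L181869 : sm ga N23297 = N23143 := ded_12_1 L181811 L181805 L181867
theorem L181871 : sm gd N23297 = N19203 := ded_24_1 (flp_g L152462) (flp_d L145108) L181867
theorem L181873 : sm ge N23297 = N18880 := ded_26_1 (flp_g L145118) (flp_e L145110) L181867
theorem L181875 : sm gf N19767 = N23297 := ded_29_0 (flp_g L181867) (flp_f L145106) (flp_g L144503) (flp_a L156575)
theorem L181877 : sm ga N18879 = N23298 := rfl
theorem L181879 : sm gd N23298 = N18881 := ded_9_2 (flp_a L145126) (flp_d L145114) L181877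
theorem L181881 : sm gf N23298 = N18959 := ded_11_2 (flp_a L145580) (flp_f L145116) L181877
theorem L181883 : sm gc N18879 = N23299 := rfl
theorem L181885 : sm gf N23299 = N18960 := ded_20_2 (flp_c L145584) (flp_f L145116) L181883
theorem L181887 : sm gg N18879 = N23300 := rfl
theorem L181889 : sm gd N23300 = N18883 := ded_24_1 (flp_g L145140) (flp_d L145114) L181887
theorem L181891 : sm gb N18880 = N23301 := rfl
theorem L181893 : sm gd N23301 = N18884 := ded_14_2 (flp_b L145144) (flp_d L145122) L181891
theorem L181895 : sm gb N18881 = N23302 := rfl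
theorem L181897 : sm ge N23302 = N19207 := ded_15_2 (flp_b L152492) (flp_e L145128) L181895
theorem L181899 : sm gf N23302 = N20693 := ded_16_2 L162400 L151453 (flp_b L145594) (flp_f L145130) L181895
theorem L181901 : sm gc N20694 = N23302 := ded_30_1 (flp_b L181895) (flp_a L145126) L104254 L104488 L104492 (flp_a L104506) L104510 (flp_c L89402) (flp_b L82761) L38816 (flp_f L81586) L88478 (flp_b L102745) (flp_a L130366) (flp_f L179253) (flp_c L179247) (flp_b L162392) (flp_a L162388) L162402
theorem L181903 : sm gc N18881 = N23303 := rfl
theorem L181905 : sm ga N23303 = N18882 := ded_8_1 (flp_c L145132) L145126 L181903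
theorem L181907 : sm ge N23303 = N19208 := ded_19_2 (flp_c L152498) (flp_e L145128) L181903
theorem L181909 : sm gf N23303 = N18964 := ded_20_2 (flp_c L145598) (flp_f L145130) L181903
theorem L181911 : sm gb N23303 = N22244 := ded_13_1 L173815 (flp_b L162406) L181901 (flp_b L181895) L181903
theorem L181913 : sm gd N18882 = N23304 := rfl
theorem L181915 : sm gb N23304 = N18887 := ded_14_1 (flp_d L145160) (flp_b L145138) L181913
theorem L181917 : sm gf N23304 = N18966 := ded_23_2 (flp_d L145612) (flp_f L145136) L181913
theorem L181919 : sm gg N18882 = N23305 := rfl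
theorem L181921 : sm gc N23305 = N18883 := ded_21_1 (flp_g L145140) L145132 L181919
theorem L181923 : sm ge N23305 = N19209 := ded_26_1 (flp_g L152506) (flp_e L145134) L181919
theorem L181925 : sm gb N18883 = N23306 := rfl
theorem L181927 : sm ge N23306 = N19210 := ded_15_2 (flp_b L152510) (flp_e L145142) L181925
theorem L181929 : sm gg N23306 = N18884 := ded_17_2 (flp_b L145144) (flp_g L104256) L104250 L145140 L181925
theorem L181931 : sm ga N18884 = N23307 := rfl
theorem L181933 : sm ge N23307 = N19211 := ded_10_2 (flp_a L152514) (flp_e L145146) L181931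
theorem L181935 : sm gc N18884 = N23308 := rfl
theorem L181937 : sm ge N23308 = N19212 := ded_19_2 (flp_c L152516) (flp_e L145146) L181935
theorem L181939 : sm gb N23308 = N18891 := ded_13_1 (flp_c L145180) (flp_b L104282) (flp_c L104260) L145144 L181935
theorem L181941 : sm gf N18884 = N23309 := rfl
theorem L181943 : sm ge N23309 = N19213 := ded_25_1 (flp_f L152520) (flp_e L145146) L181941
theorem L181945 : sm gb N23309 = N20005 := ded_16_1 (flp_f L158139) L148015 L104264 L145144 L181941
theorem L181947 : sm ga N18885 = N23310 := rfl
theorem L181949 : sm ge N23310 = N19214 := ded_10_2 (flp_a L152526) (flp_e L145150) L181947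
theorem L181951 : sm gg N22743 = N23310 := ded_26_0 L181949 (flp_g L152530) (flp_e L177669)
theorem L181953 : sm gc N18885 = N23311 := rfl
theorem L181955 : sm ge N23311 = N19215 := ded_19_2 (flp_c L152532) (flp_e L145150) L181953
theorem L181957 : sm gf N18885 = N23312 := rfl
theorem L181959 : sm ge N23312 = N19216 := ded_25_1 (flp_f L152534) (flp_e L145150) L181957
theorem L181961 : sm gb N23312 = N18895 := ded_16_1 (flp_f L145200) (flp_b L104286) (flp_f L104270) L145148 L181957
theorem L181963 : sm gg N18885 = N23313 := rfl
theorem L181965 : sm ga N23313 = N22743 := ded_12_1 L181951 (flp_a L181947) L181963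
theorem L181967 : sm ge N23313 = N19217 := ded_26_1 (flp_g L152540) (flp_e L145150) L181963
theorem L181969 : sm gf N23133 = N23313 := ded_25_0 L181967 L152650 (flp_e L180745)
theorem L181971 : sm gb N18886 = N23314 := rfl
theorem L181973 : sm ge N23314 = N19142 := ded_15_2 L152070 L151522 L181971
theorem L181975 : sm gg N23314 = N19264 := ded_17_2 L152844 L105579 (flp_b L105189) L151532 L181971
theorem L181977 : sm gb N18888 = N23315 := rfl
theorem L181979 : sm ge N23315 = N19168 := ded_15_2 L152228 L151538 L181977
theorem L181981 : sm gf N23315 = N22484 := ded_16_2 (flp_b L176494) L176903 L176905 L145224 L181977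
theorem L181983 : sm ga N18889 = N23316 := rfl
theorem L181985 : sm ge N23316 = N19218 := ded_10_2 (flp_a L152546) (flp_e L145172) L181983
theorem L181987 : sm gg N23316 = N18890 := ded_12_2 (flp_a L145176) (flp_g L145174) L181983
theorem L181989 : sm gb N23127 = N23316 := ded_15_3 L181985 (flp_b L152552) (flp_e L180711)
theorem L181991 : sm gc N18889 = N23317 := rfl
theorem L181993 : sm ge N23317 = N19219 := ded_19_2 (flp_c L152554) (flp_e L145172) L181991
theorem L181995 : sm gg N23317 = N18891 := ded_21_2 (flp_c L145180) (flp_g L145174) L181991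
theorem L181997 : sm gf N22028 = N23317 := ded_25_0 L181993 (flp_f L155526) L172328
theorem L181999 : sm gf N18889 = N23318 := rfl
theorem L182001 : sm gc N23318 = N22028 := ded_20_1 L181997 (flp_c L181991) L181999
theorem L182003 : sm ge N23318 = N19220 := ded_25_1 (flp_f L152558) (flp_e L145172) L181999
theorem L182005 : sm gb N23318 = N23068 := ded_16_1 L180283 (flp_b L145226) L104302 L145170 L181999
theorem L182007 : sm gc N18890 = N23319 := rfl
theorem L182009 : sm ga N23319 = N18891 := ded_8_1 (flp_c L145180) L145176 L182007
theorem L182011 : sm ge N23319 = N19221 := ded_19_2 (flp_c L152564) (flp_e L145178) L182007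
theorem L182013 : sm gf N18890 = N23320 := rfl
theorem L182015 : sm ga N23320 = N18892 := ded_11_1 (flp_f L145184) L145176 L182013
theorem L182017 : sm ge N23320 = N19222 := ded_25_1 (flp_f L152568) (flp_e L145178) L182013
theorem L182019 : sm gg N23318 = N23320 := ded_29_1 (flp_f L182013) (flp_g L181987) (flp_a L181983) L181999
theorem L182021 : sm gb N23320 = N22783 := ded_16_1 (flp_f L177953) L128885 L177721 (flp_b L177731) L182013
theorem L182023 : sm gd N18891 = N23321 := rfl
theorem L182025 : sm gf N18891 = N23322 := rfl
theorem L182027 : sm gc N23322 = N18892 := ded_20_1 (flp_f L145184) L145180 L182025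
theorem L182029 : sm ge N23322 = N19224 := ded_25_1 (flp_f L152580) (flp_e L145182) L182025
theorem L182031 : sm gg N18892 = N23323 := rfl
theorem L182033 : sm ga N23323 = N23318 := ded_12_1 L182019 L182015 L182031
theorem L182035 : sm ge N23323 = N19225 := ded_26_1 (flp_g L152584) (flp_e L145186) L182031
theorem L182037 : sm gf N23316 = N23323 := ded_29_0 (flp_g L182031) (flp_f L145184) (flp_g L145174) L181983
theorem L182039 : sm gb N23323 = N23252 := ded_17_1 L181557 (flp_b L181509) L180821 (flp_b L145188) L182031
theorem L182041 : sm gf N18893 = N23324 := rfl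
theorem L182043 : sm ga N23324 = N18895 := ded_11_1 (flp_f L145200) L145190 L182041
theorem L182045 : sm ge N23324 = N19226 := ded_25_1 (flp_f L152592) (flp_e L145192) L182041
theorem L182047 : sm gg N23324 = N23093 := ded_29_1 L180479 (flp_g L145204) L145190 L182041
theorem L182049 : sm gb N23091 = N23324 := ded_15_3 L182045 (flp_b L152600) (flp_e L180459)
theorem L182051 : sm gg N18893 = N23325 := rfl
theorem L182053 : sm ga N23325 = N18896 := ded_12_1 (flp_g L145204) L145190 L182051
theorem L182055 : sm gc N23325 = N20737 := ded_21_1 L179441 L179437 L182051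
theorem L182057 : sm ge N23325 = N19227 := ded_26_1 (flp_g L152602) (flp_e L145192) L182051
theorem L182059 : sm gf N18894 = N23326 := rfl
theorem L182061 : sm gc N23326 = N18895 := ded_20_1 (flp_f L145200) L145196 L182059
theorem L182063 : sm ge N23326 = N19228 := ded_25_1 (flp_f L152610) (flp_e L145198) L182059
theorem L182065 : sm gg N18895 = N23327 := rfl
theorem L182067 : sm ga N23327 = N23093 := ded_12_1 (flp_g L182047) L182043 L182065
theorem L182069 : sm ge N23327 = N19229 := ded_26_1 (flp_g L152616) (flp_e L145202) L182065
theorem L182071 : sm gf N23325 = N23327 := ded_29_0 (flp_g L182065) (flp_f L145200) L145204 (flp_a L182053)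
theorem L182073 : sm gb N22754 = N23327 := ded_31_14 (flp_g L182065) (flp_f L145200) (flp_b L104286) L104296 L104302 L145170 L145174 L145184 L145188 (flp_g L180821) (flp_f L180813) (flp_b L158133) L158137 L177737
theorem L182075 : sm ga N18897 = N23328 := rfl
theorem L182077 : sm gc N23328 = N22541 := ded_8_2 L175997 L151544 L182075
theorem L182079 : sm ge N23328 = N19230 := ded_10_2 (flp_a L152626) (flp_e L145210) L182075
theorem L182081 : sm gg N23328 = N22538 := ded_12_2 L175977 L151546 L182075
theorem L182083 : sm gd N18897 = N23329 := rfl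
theorem L182085 : sm gb N23329 = N18898 := ded_14_1 (flp_d L145212) L145208 L182083
theorem L182087 : sm gg N23329 = N22545 := ded_24_2 (flp_d L176019) L151546 L182083
theorem L182089 : sm gf N18897 = N23330 := rfl
theorem L182091 : sm gc N23330 = N22550 := ded_20_1 (flp_f L176045) L151544 L182089
theorem L182093 : sm ge N23330 = N19231 := ded_25_1 (flp_f L152632) (flp_e L145210) L182089
theorem L182095 : sm gg N18898 = N23331 := rfl
theorem L182097 : sm ga N23331 = N18903 := ded_12_1 (flp_g L145238) (flp_a L145214) L182095
theorem L182099 : sm gd N23331 = N18899 := ded_24_1 (flp_g L145216) L145212 L182095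
theorem L182101 : sm ge N23331 = N23261 := ded_26_1 L181627 L181495 L182095
theorem L182103 : sm gf N23260 = N23331 := ded_29_0 (flp_g L182095) L181487 L181483 (flp_a L181615)
theorem L182105 : sm ga N18905 = N23332 := rfl
theorem L182107 : sm ge N23332 = N19232 := ded_10_2 (flp_a L152636) (flp_e L145255) L182105
theorem L182109 : sm gf N23332 = N22793 := ded_11_2 (flp_a L178034) (flp_f L145257) L182105
theorem L182111 : sm gb N23332 = N21679 := ded_7_2 L170020 L170072 (flp_a L180707) L181989 (flp_a L181983) (flp_b L145170) (flp_a L104317) L145253 L182105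
theorem L182113 : sm gg N18905 = N23333 := rfl
theorem L182115 : sm ge N23333 = N19233 := ded_26_1 (flp_g L152642) (flp_e L145255) L182113
theorem L182117 : sm gf N23140 = N23333 := ded_29_0 (flp_g L182113) L145257 L178047 L180803
theorem L182119 : sm gb N23333 = N23313 := ded_17_1 (flp_g L181963) (flp_b L145148) (flp_g L104321) L145253 L182113
theorem L182121 : sm gg N18906 = N23334 := rfl
theorem L182123 : sm gc N23334 = N18915 := ded_21_1 (flp_g L145326) (flp_c L145261) L182121
theorem L182125 : sm gd N23334 = N21255 := ded_24_1 L167401 L167352 L182121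
theorem L182127 : sm ge N23334 = N19239 := ded_26_1 (flp_g L152686) (flp_e L145263) L182121
theorem L182129 : sm gf N21253 = N23334 := ded_29_0 (flp_g L182121) (flp_f L145259) L145266 (flp_a L167379)
theorem L182131 : sm gf N18907 = N23335 := rfl
theorem L182133 : sm ga N23335 = N23334 := ded_11_1 (flp_f L182129) L167379 L182131
theorem L182135 : sm gc N23335 = N18916 := ded_20_1 (flp_f L145332) (flp_c L145268) L182131
theorem L182137 : sm gd N23335 = N21254 := ded_23_1 (flp_f L167393) L167361 L182131
theorem L182139 : sm ge N23335 = N19240 := ded_25_1 (flp_f L152692) (flp_e L145270) L182131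
theorem L182141 : sm gg N23335 = N21252 := ded_29_3 L167367 (flp_f L145259) L145266 L182131
theorem L182143 : sm ge N18908 = N23336 := rfl
theorem L182145 : sm ga N23336 = N18912 := ded_10_1 (flp_e L145302) (flp_a L145276) L182143
theorem L182147 : sm gc N23336 = N22857 := ded_19_1 L178645 (flp_c L160942) L182143
theorem L182149 : sm gd N23336 = N19241 := ded_22_1 (flp_e L152700) (flp_d L105443) (flp_e L104339) L145274 L182143
theorem L182151 : sm gf N20371 = N23336 := ded_11_0 L182145 (flp_f L145310) (flp_a L160546)
theorem L182153 : sm gf N18908 = N23337 := rfl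
theorem L182155 : sm ga N23337 = N18913 := ded_11_1 (flp_f L145312) (flp_a L145276) L182153
theorem L182157 : sm gc N23337 = N22899 := ded_20_1 L178989 (flp_c L160942) L182153
theorem L182159 : sm gd N23337 = N18909 := ded_23_1 (flp_f L145278) L145274 L182153
theorem L182161 : sm ge N23337 = N20371 := ded_25_1 L182151 (flp_e L182143) L182153
theorem L182163 : sm gb N20374 = N23337 := ded_7_0 L182155 L145320 (flp_a L160084) L160086 L110805 L92829 (flp_a L92950) (flp_b L111099) (flp_a L160568)
theorem L182165 : sm gg N18908 = N23338 := rfl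
theorem L182167 : sm ga N23338 = N18914 := ded_12_1 (flp_g L145322) (flp_a L145276) L182165
theorem L182169 : sm gd N23338 = N18910 := ded_24_1 (flp_g L145286) L145274 L182165
theorem L182171 : sm gb N18910 = N23339 := rfl
theorem L182173 : sm ge N23339 = N19242 := ded_15_2 (flp_b L152708) (flp_e L145290) L182171
theorem L182175 : sm gg N23339 = N21931 := ded_17_2 L181147 (flp_g L181139) L144737 L145286 L182171
theorem L182177 : sm ga N22415 = N23339 := ded_10_3 L182173 (flp_a L163957) L175142
theorem L182179 : sm gc N22412 = N23339 := ded_19_3 L182173 L163953 L175122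
theorem L182181 : sm gg N18911 = N23340 := rfl
theorem L182183 : sm gc N23340 = N18914 := ded_21_1 (flp_g L145322) L145292 L182181
theorem L182185 : sm gd N23340 = N19725 := ded_24_1 (flp_g L156294) L145296 L182181
theorem L182187 : sm ge N23340 = N22858 := ded_26_1 (flp_g L178647) L145298 L182181
theorem L182189 : sm gg N18912 = N23341 := rfl
theorem L182191 : sm gc N23341 = N22858 := ded_21_1 (flp_g L178647) (flp_c L145306) L182189
theorem L182193 : sm gd N23341 = N19243 := ded_24_1 (flp_g L152714) (flp_d L145308) L182189
theorem L182195 : sm ge N23341 = N18914 := ded_26_1 (flp_g L145322) L145302 L182189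
theorem L182197 : sm gg N18913 = N23342 := rfl
theorem L182199 : sm gc N23342 = N22904 := ded_21_1 (flp_g L179021) (flp_c L145314) L182197
theorem L182201 : sm gd N23342 = N18915 := ded_24_1 (flp_g L145326) (flp_d L145316) L182197
theorem L182203 : sm ge N23342 = N21473 := ded_26_1 (flp_g L168718) (flp_e L145318) L182197
theorem L182205 : sm gf N23338 = N23342 := ded_29_0 (flp_g L182197) (flp_f L145312) L145322 (flp_a L182167)
theorem L182207 : sm gf N18914 = N23343 := rfl
theorem L182209 : sm ga N23343 = N23342 := ded_11_1 (flp_f L182205) L182167 L182207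
theorem L182211 : sm gd N23343 = N18916 := ded_23_1 (flp_f L145332) (flp_d L145324) L182207
theorem L182213 : sm gg N23343 = N23337 := ded_29_3 L182155 (flp_f L145312) L145322 L182207
theorem L182215 : sm gb N18915 = N23344 := rfl
theorem L182217 : sm ge N23344 = N19244 := ded_15_2 (flp_b L152720) (flp_e L145328) L182215
theorem L182219 : sm gg N23344 = N22049 := ded_17_2 (flp_b L172468) (flp_g L121675) L119614 L145326 L182215
theorem L182221 : sm gb N18916 = N23345 := rfl
theorem L182223 : sm ge N23345 = N19245 := ded_15_2 (flp_b L152726) (flp_e L145336) L182221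
theorem L182225 : sm ga N18917 = N23346 := rfl
theorem L182227 : sm gd N23346 = N19253 := ded_9_2 (flp_a L152768) (flp_d L145342) L182225
theorem L182229 : sm ge N23346 = N18919 := ded_10_2 (flp_a L145358) (flp_e L145344) L182225
theorem L182231 : sm gb N23346 = N20399 := ded_7_2 L160702 L111159 (flp_a L117441) L169591 (flp_a L179331) L179333 L130462 L145340 L182225
theorem L182233 : sm gc N18917 = N23347 := rfl
theorem L182235 : sm ge N23347 = N18920 := ded_19_2 (flp_c L145362) (flp_e L145344) L182233
theorem L182237 : sm gf N18917 = N23348 := rfl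
theorem L182239 : sm gd N23348 = N19255 := ded_23_1 (flp_f L152780) (flp_d L145342) L182237
theorem L182241 : sm ge N23348 = N18921 := ded_25_1 (flp_f L145364) (flp_e L145344) L182237
theorem L182243 : sm gb N18918 = N23349 := rfl
theorem L182245 : sm gd N23349 = N19256 := ded_14_2 (flp_b L152788) (flp_d L145352) L182243
theorem L182247 : sm ge N23349 = N18922 := ded_15_2 (flp_b L145368) (flp_e L145354) L182243
theorem L182249 : sm gb N18919 = N23350 := rfl
theorem L182251 : sm gd N23350 = N18923 := ded_14_2 (flp_b L145372) (flp_d L145360) L182249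
theorem L182253 : sm ge N23350 = N20399 := ded_15_2 (flp_b L182231) L182229 L182249
theorem L182255 : sm ga N23350 = N20396 := ded_7_1 L160690 (flp_a L169583) (flp_b L179313) L179311 L130382 L102801 L104365 L145358 L182249
theorem L182257 : sm gf N20394 = N23350 := ded_23_0 L182251 (flp_f L145378) (flp_d L160676)
theorem L182259 : sm gg N20753 = N23350 := ded_24_0 L182251 (flp_g L149790) L162758
theorem L182261 : sm gc N18919 = N23351 := rfl
theorem L182263 : sm ga N23351 = N18920 := ded_8_1 (flp_c L145362) L145358 L182261
theorem L182265 : sm gf N18919 = N23352 := rfl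
theorem L182267 : sm ga N23352 = N18921 := ded_11_1 (flp_f L145364) L145358 L182265
theorem L182269 : sm gd N23352 = N18925 := ded_23_1 (flp_f L145386) (flp_d L145360) L182265
theorem L182271 : sm gg N23226 = N23352 := ded_29_1 (flp_f L182265) (flp_g L181373) (flp_a L181369) L181379
theorem L182273 : sm gd N18920 = N23353 := rfl
theorem L182275 : sm gf N18920 = N23354 := rfl
theorem L182277 : sm gc N23354 = N18921 := ded_20_1 (flp_f L145364) L145362 L182275
theorem L182279 : sm gb N18921 = N23355 := rfl
theorem L182281 : sm gd N23355 = N18928 := ded_14_2 (flp_b L145404) (flp_d L145366) L182279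
theorem L182283 : sm gf N23355 = N18922 := ded_16_2 (flp_b L145368) (flp_f L104369) L104365 L145364 L182279
theorem L182285 : sm gg N18921 = N23356 := rfl
theorem L182287 : sm ga N23356 = N23226 := ded_12_1 L182271 L182267 L182285
theorem L182289 : sm gd N23356 = N18929 := ded_24_1 (flp_g L145410) (flp_d L145366) L182285
theorem L182291 : sm gf N23224 = N23356 := ded_29_0 (flp_g L182285) (flp_f L145364) (flp_g L144849) L181369
theorem L182293 : sm ga N18922 = N23357 := rfl
theorem L182295 : sm gd N23357 = N18930 := ded_9_2 (flp_a L145418) (flp_d L145370) L182293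
theorem L182297 : sm gc N18922 = N23358 := rfl
theorem L182299 : sm gb N23358 = N22949 := ded_13_1 (flp_c L179327) L130382 (flp_c L104373) L145368 L182297
theorem L182301 : sm gg N18922 = N23359 := rfl
theorem L182303 : sm gd N23359 = N18931 := ded_24_1 (flp_g L145422) (flp_d L145370) L182301
theorem L182305 : sm gb N23359 = N18986 := ded_17_1 (flp_g L145730) L104544 (flp_g L104377) L145368 L182301
theorem L182307 : sm gd N18924 = N23360 := rfl
theorem L182309 : sm ga N23360 = N18926 := ded_9_1 (flp_d L145394) (flp_a L145382) L182307
theorem L182311 : sm gb N23360 = N22435 := ded_14_1 L175268 (flp_b L150861) L182307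
theorem L182313 : sm gf N18924 = N23361 := rfl
theorem L182315 : sm ga N23361 = N18927 := ded_11_1 (flp_f L145398) (flp_a L145382) L182313
theorem L182317 : sm gc N23361 = N18925 := ded_20_1 (flp_f L145386) L145380 L182313
theorem L182319 : sm ge N23361 = N19261 := ded_25_1 (flp_f L152822) (flp_e L145384) L182313
theorem L182321 : sm gg N23231 = N23361 := ded_29_1 (flp_f L182313) (flp_g L181401) L181397 L181411
theorem L182323 : sm gb N18925 = N23362 := rfl
theorem L182325 : sm ge N23362 = N19262 := ded_15_2 (flp_b L152830) (flp_e L145390) L182323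
theorem L182327 : sm gf N23362 = N20698 := ded_16_2 (flp_b L162432) L145378 (flp_b L145372) L145386 L182323
theorem L182329 : sm gc N18926 = N23363 := rfl
theorem L182331 : sm ge N18926 = N23364 := rfl
theorem L182333 : sm gb N23364 = N18935 := ded_15_1 (flp_e L145444) (flp_b L145396) L182331
theorem L182335 : sm gd N23364 = N19264 := ded_22_1 (flp_e L152842) (flp_d L105539) (flp_e L104385) L145394 L182331
theorem L182337 : sm gf N18926 = N23365 := rfl
theorem L182339 : sm gd N23365 = N18927 := ded_23_1 (flp_f L145398) L145394 L182337
theorem L182341 : sm gb N18927 = N23366 := rfl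
theorem L182343 : sm ge N23366 = N19265 := ded_15_2 (flp_b L152846) (flp_e L145402) L182341
theorem L182345 : sm gf N23366 = N18932 := ded_16_2 (flp_b L145428) L104403 (flp_b L104387) L145398 L182341
theorem L182347 : sm gg N18927 = N23367 := rfl
theorem L182349 : sm ga N23367 = N23231 := ded_12_1 L182321 L182315 L182347
theorem L182351 : sm gc N23367 = N18929 := ded_21_1 (flp_g L145410) (flp_c L145400) L182347
theorem L182353 : sm ge N23367 = N19266 := ded_26_1 (flp_g L152850) (flp_e L145402) L182347
theorem L182355 : sm gf N23229 = N23367 := ded_29_0 (flp_g L182347) (flp_f L145398) (flp_g L144869) (flp_a L181397)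
theorem L182357 : sm ga N18928 = N23368 := rfl
theorem L182359 : sm ge N23368 = N19267 := ded_10_2 (flp_a L152858) (flp_e L145406) L182357
theorem L182361 : sm gf N23368 = N18930 := ded_11_2 (flp_a L145418) (flp_f L145408) L182357
theorem L182363 : sm gg N18928 = N23369 := rfl
theorem L182365 : sm ge N23369 = N19268 := ded_26_1 (flp_g L152862) (flp_e L145406) L182363
theorem L182367 : sm gb N18929 = N23370 := rfl
theorem L182369 : sm ge N23370 = N19269 := ded_15_2 (flp_b L152864) (flp_e L145414) L182367
theorem L182371 : sm gg N18930 = N23371 := rfl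
theorem L182373 : sm ga N23371 = N18931 := ded_12_1 (flp_g L145422) L145418 L182371
theorem L182375 : sm ge N23371 = N19270 := ded_26_1 (flp_g L152866) (flp_e L145420) L182371
theorem L182377 : sm gf N23371 = N23369 := ded_29_2 (flp_g L182363) L182357 L182361 L182371
theorem L182379 : sm gf N18931 = N23372 := rfl
theorem L182381 : sm ga N23372 = N23369 := ded_11_1 (flp_f L182377) L182373 L182379
theorem L182383 : sm ge N23372 = N19271 := ded_25_1 (flp_f L152872) (flp_e L145424) L182379
theorem L182385 : sm gg N23372 = N23368 := ded_29_3 (flp_a L182357) L145408 L145422 L182379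
theorem L182387 : sm ga N18932 = N23373 := rfl
theorem L182389 : sm ge N23373 = N19272 := ded_10_2 (flp_a L152878) (flp_e L145430) L182387
theorem L182391 : sm gd N18932 = N23374 := rfl
theorem L182393 : sm gb N23374 = N18933 := ded_14_1 (flp_d L145432) L145428 L182391
theorem L182395 : sm gg N18932 = N23375 := rfl
theorem L182397 : sm ge N23375 = N19274 := ded_26_1 (flp_g L152884) (flp_e L145430) L182395
theorem L182399 : sm gb N23375 = N18939 := ded_17_1 (flp_g L145463) (flp_b L104411) (flp_g L104405) L145428 L182395
theorem L182401 : sm ge N18933 = N23376 := rfl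
theorem L182403 : sm ga N23376 = N18935 := ded_10_1 (flp_e L145444) (flp_a L145434) L182401
theorem L182405 : sm gf N23376 = N18935 := ded_25_2 (flp_e L145444) (flp_f L145436) L182401
theorem L182407 : sm gg N23376 = N18940 := ded_26_2 (flp_e L145467) (flp_g L145438) L182401
theorem L182409 : sm gd N23376 = N19275 := ded_22_1 (flp_e L152888) (flp_d L105565) (flp_e L104401) L145432 L182401
theorem L182411 : sm gb N18934 = N23377 := rfl
theorem L182413 : sm ge N18934 = N23378 := rfl
theorem L182415 : sm gc N23378 = N18935 := ded_19_1 (flp_e L145444) L145440 L182413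
theorem L182417 : sm gg N23378 = N18942 := ded_26_2 (flp_e L145476) (flp_g L145442) L182413
theorem L182419 : sm gd N23378 = N21816 := ded_22_1 (flp_e L170905) L118554 (flp_e L145754) (flp_d L145760) L182413
theorem L182421 : sm gb N18936 = N23379 := rfl
theorem L182423 : sm ge N23379 = N19278 := ded_15_2 (flp_b L152908) (flp_e L145452) L182421
theorem L182425 : sm gd N18936 = N23380 := rfl
theorem L182427 : sm ga N23380 = N18937 := ded_9_1 (flp_d L145454) L145450 L182425
theorem L182429 : sm gf N18936 = N23381 := rfl
theorem L182431 : sm ga N23381 = N18938 := ded_11_1 (flp_f L145458) L145450 L182429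
theorem L182433 : sm ge N23381 = N19280 := ded_25_1 (flp_f L152914) (flp_e L145452) L182429
theorem L182435 : sm gg N18936 = N23382 := rfl
theorem L182437 : sm ga N23382 = N18939 := ded_12_1 (flp_g L145463) L145450 L182435
theorem L182439 : sm ge N23382 = N19281 := ded_26_1 (flp_g L152918) (flp_e L145452) L182435
theorem L182441 : sm gc N18937 = N23383 := rfl
theorem L182443 : sm ge N18937 = N23384 := rfl
theorem L182445 : sm gb N23384 = N18940 := ded_15_1 (flp_e L145467) (flp_b L145456) L182443
theorem L182447 : sm gd N23384 = N19283 := ded_22_1 (flp_e L152924) (flp_d L105583) (flp_e L104413) L145454 L182443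
theorem L182449 : sm gf N18937 = N23385 := rfl
theorem L182451 : sm gd N23385 = N18938 := ded_23_1 (flp_f L145458) L145454 L182449
theorem L182453 : sm gb N23385 = N23385 := ded_16_1 (flp_f L182449) L145456 L104419 (flp_b L145456) L182449
theorem L182454 : sm gg N18937 = N23386 := rfl
theorem L182456 : sm gd N23386 = N18939 := ded_24_1 (flp_g L145463) L145454 L182454
theorem L182458 : sm gg N18938 = N23387 := rfl
theorem L182460 : sm ge N23387 = N19286 := ded_26_1 (flp_g L152937) (flp_e L145460) L182458
theorem L182462 : sm gf N23382 = N23387 := ded_29_0 (flp_g L182458) (flp_f L145458) L145463 (flp_a L182437)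
theorem L182464 : sm gf N18939 = N23388 := rfl
theorem L182466 : sm ga N23388 = N23387 := ded_11_1 (flp_f L182462) L182437 L182464
theorem L182468 : sm ge N23388 = N19287 := ded_25_1 (flp_f L152941) (flp_e L145465) L182464
theorem L182470 : sm gg N23388 = N23381 := ded_29_3 L182431 (flp_f L145458) L145463 L182464
theorem L182472 : sm ga N18941 = N23389 := rfl
theorem L182474 : sm ge N18941 = N23390 := rfl
theorem L182476 : sm gb N23390 = N18942 := ded_15_1 (flp_e L145476) L145474 L182474
theorem L182478 : sm gf N18941 = N23391 := rfl
theorem L182480 : sm gb N23391 = N23391 := ded_16_1 (flp_f L182478) (flp_b L145474) L104422 L145474 L182478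
theorem L182481 : sm gg N18941 = N23392 := rfl
theorem L182483 : sm gg N18945 = N23393 := rfl
theorem L182485 : sm gc N23393 = N18955 := ded_21_1 (flp_g L145548) (flp_c L145493) L182483
theorem L182487 : sm gd N23393 = N21294 := ded_24_1 L167641 L167590 L182483
theorem L182489 : sm ge N23393 = N19296 := ded_26_1 (flp_g L153101) (flp_e L145495) L182483
theorem L182491 : sm gf N21292 = N23393 := ded_29_0 (flp_g L182483) (flp_f L145491) L145499 (flp_a L167617)
theorem L182493 : sm gf N18946 = N23394 := rfl
theorem L182495 : sm ga N23394 = N23393 := ded_11_1 (flp_f L182491) L167617 L182493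
theorem L182497 : sm gc N23394 = N18956 := ded_20_1 (flp_f L145554) (flp_c L145501) L182493
theorem L182499 : sm gd N23394 = N21293 := ded_23_1 (flp_f L167631) L167600 L182493
theorem L182501 : sm ge N23394 = N19297 := ded_25_1 (flp_f L153107) (flp_e L145503) L182493
theorem L182503 : sm gg N23394 = N21291 := ded_29_3 L167607 (flp_f L145491) L145499 L182493
theorem L182505 : sm ge N18948 = N23395 := rfl
theorem L182507 : sm ga N23395 = N18952 := ded_10_1 (flp_e L145534) (flp_a L145518) L182505
theorem L182509 : sm gc N23395 = N22868 := ded_19_1 L178723 (flp_c L161056) L182505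
theorem L182511 : sm gd N23395 = N19298 := ded_22_1 (flp_e L153115) (flp_d L105630) (flp_e L104444) L145516 L182505
theorem L182513 : sm gg N20406 = N23395 := ded_12_0 L182507 L150900 (flp_a L160742)
theorem L182515 : sm gf N18948 = N23396 := rfl
theorem L182517 : sm ga N23396 = N18953 := ded_11_1 (flp_f L145540) (flp_a L145518) L182515
theorem L182519 : sm gd N23396 = N18949 := ded_23_1 (flp_f L145520) L145516 L182515
theorem L182521 : sm gg N18948 = N23397 := rfl
theorem L182523 : sm ga N23397 = N18954 := ded_12_1 (flp_g L145544) (flp_a L145518) L182521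
theorem L182525 : sm gc N23397 = N22928 := ded_21_1 L179185 (flp_c L161056) L182521
theorem L182527 : sm gd N23397 = N18950 := ded_24_1 (flp_g L145526) L145516 L182521
theorem L182529 : sm ge N23397 = N20406 := ded_26_1 L182513 (flp_e L182505) L182521
theorem L182531 : sm gb N20409 = N23397 := ded_7_0 L182523 (flp_b L150406) (flp_a L160314) L160316 L110973 L92901 (flp_a L93003) (flp_b L111215) (flp_a L160764)
theorem L182533 : sm gb N18949 = N23398 := rfl
theorem L182535 : sm ge N23398 = N19299 := ded_15_2 (flp_b L153123) (flp_e L145524) L182533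
theorem L182537 : sm gf N23398 = N21937 := ded_16_2 L181659 (flp_f L181651) (flp_b L145006) L145520 L182533
theorem L182539 : sm ga N22216 = N23398 := ded_10_3 L182535 (flp_a L163965) L173655
theorem L182541 : sm gc N22212 = N23398 := ded_19_3 L182535 (flp_c L163963) L173637
theorem L182543 : sm gf N18951 = N23399 := rfl
theorem L182545 : sm gc N23399 = N18953 := ded_20_1 (flp_f L145540) L145532 L182543
theorem L182547 : sm gd N23399 = N19763 := ded_23_1 (flp_f L156541) L150462 L182543
theorem L182549 : sm ge N23399 = N22869 := ded_25_1 (flp_f L178725) (flp_e L150984) L182543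
theorem L182551 : sm gf N18952 = N23400 := rfl
theorem L182553 : sm gc N23400 = N22869 := ded_20_1 (flp_f L178725) (flp_c L150898) L182551
theorem L182555 : sm gd N23400 = N19300 := ded_23_1 (flp_f L153129) (flp_d L145538) L182551
theorem L182557 : sm ge N23400 = N18953 := ded_25_1 (flp_f L145540) L145534 L182551
theorem L182559 : sm gg N18953 = N23401 := rfl
theorem L182561 : sm gd N23401 = N18955 := ded_24_1 (flp_g L145548) (flp_d L145542) L182559
theorem L182563 : sm gf N23397 = N23401 := ded_29_0 (flp_g L182559) (flp_f L145540) L145544 (flp_a L182523)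
theorem L182565 : sm gf N18954 = N23402 := rfl
theorem L182567 : sm ga N23402 = N23401 := ded_11_1 (flp_f L182563) L182523 L182565
theorem L182569 : sm gc N23402 = N22933 := ded_20_1 (flp_f L179217) (flp_c L150978) L182565
theorem L182571 : sm gd N23402 = N18956 := ded_23_1 (flp_f L145554) (flp_d L145546) L182565
theorem L182573 : sm ge N23402 = N21634 := ded_25_1 (flp_f L169729) L150888 L182565
theorem L182575 : sm gg N23402 = N23396 := ded_29_3 L182517 (flp_f L145540) L145544 L182565
theorem L182577 : sm gb N18955 = N23403 := rfl
theorem L182579 : sm ge N23403 = N19301 := ded_15_2 (flp_b L153135) (flp_e L145550) L182577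
theorem L182581 : sm gb N18956 = N23404 := rfl
theorem L182583 : sm ge N23404 = N19302 := ded_15_2 (flp_b L153137) (flp_e L145558) L182581
theorem L182585 : sm gf N23404 = N22266 := ded_16_2 (flp_b L173947) (flp_f L122567) L149906 L145554 L182581
theorem L182587 : sm ga N18957 = N23405 := rfl
theorem L182589 : sm gd N23405 = N19310 := ded_9_2 (flp_a L153183) (flp_d L145564) L182587
theorem L182591 : sm ge N23405 = N18959 := ded_10_2 (flp_a L145580) (flp_e L145566) L182587
theorem L182593 : sm gb N23405 = N20434 := ded_7_2 L160898 L111275 (flp_a L118055) L170606 (flp_a L179133) L179135 L130426 L145562 L182587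
theorem L182595 : sm gc N18957 = N23406 := rfl
theorem L182597 : sm ge N23406 = N18960 := ded_19_2 (flp_c L145584) (flp_e L145566) L182595
theorem L182599 : sm gg N18957 = N23407 := rfl
theorem L182601 : sm gd N23407 = N19312 := ded_24_1 (flp_g L153195) (flp_d L145564) L182599
theorem L182603 : sm ge N23407 = N18961 := ded_26_1 (flp_g L145586) (flp_e L145566) L182599
theorem L182605 : sm gb N18958 = N23408 := rfl
theorem L182607 : sm gd N23408 = N19313 := ded_14_2 (flp_b L153203) (flp_d L145574) L182605
theorem L182609 : sm ge N23408 = N18962 := ded_15_2 (flp_b L145590) (flp_e L145576) L182605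
theorem L182611 : sm gb N18959 = N23409 := rfl
theorem L182613 : sm gd N23409 = N18963 := ded_14_2 (flp_b L145594) (flp_d L145582) L182611
theorem L182615 : sm ge N23409 = N20434 := ded_15_2 (flp_b L182593) L182591 L182611
theorem L182617 : sm ga N23409 = N20431 := ded_7_1 L160886 (flp_a L170598) (flp_b L179115) L179113 L130260 L102773 L104470 L145580 L182611
theorem L182619 : sm gf N20700 = N23409 := ded_23_0 L182613 (flp_f L151453) L162446
theorem L182621 : sm gg N20429 = N23409 := ded_24_0 L182613 (flp_g L151455) (flp_d L160872)
theorem L182623 : sm gc N18959 = N23410 := rfl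
theorem L182625 : sm ga N23410 = N18960 := ded_8_1 (flp_c L145584) L145580 L182623
theorem L182627 : sm gg N18959 = N23411 := rfl
theorem L182629 : sm ga N23411 = N18961 := ded_12_1 (flp_g L145586) L145580 L182627
theorem L182631 : sm gd N23411 = N18965 := ded_24_1 (flp_g L145604) (flp_d L145582) L182627
theorem L182633 : sm gf N23411 = N23300 := ded_29_2 (flp_g L181887) L181877 L181881 L182627
theorem L182635 : sm gd N18960 = N23412 := rfl
theorem L182637 : sm gg N18960 = N23413 := rfl
theorem L182639 : sm gc N23413 = N18961 := ded_21_1 (flp_g L145586) L145584 L182637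
theorem L182641 : sm gb N18961 = N23414 := rfl
theorem L182643 : sm gd N23414 = N18968 := ded_14_2 (flp_b L145622) (flp_d L145588) L182641
theorem L182645 : sm gg N23414 = N18962 := ded_17_2 (flp_b L145590) (flp_g L104474) L104470 L145586 L182641
theorem L182647 : sm gf N18961 = N23415 := rfl
theorem L182649 : sm ga N23415 = N23300 := ded_11_1 (flp_f L182633) L182629 L182647
theorem L182651 : sm gd N23415 = N18969 := ded_23_1 (flp_f L145630) (flp_d L145588) L182647
theorem L182653 : sm gg N23415 = N23298 := ded_29_3 (flp_a L181877) L145116 L145586 L182647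
theorem L182655 : sm ga N18962 = N23416 := rfl
theorem L182657 : sm gd N23416 = N18970 := ded_9_2 (flp_a L145638) (flp_d L145592) L182655
theorem L182659 : sm gc N18962 = N23417 := rfl
theorem L182661 : sm gb N23417 = N22920 := ded_13_1 (flp_c L179129) L130260 (flp_c L104478) L145590 L182659
theorem L182663 : sm gf N18962 = N23418 := rfl
theorem L182665 : sm gd N23418 = N18971 := ded_23_1 (flp_f L145644) (flp_d L145592) L182663
theorem L182667 : sm gb N23418 = N19004 := ded_16_1 (flp_f L145833) L104627 L104482 L145590 L182663
theorem L182669 : sm gd N18964 = N23419 := rfl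
theorem L182671 : sm ga N23419 = N18966 := ded_9_1 (flp_d L145612) (flp_a L145600) L182669
theorem L182673 : sm gb N23419 = N22251 := ded_14_1 L173857 (flp_b L151552) L182669
theorem L182675 : sm gg N18964 = N23420 := rfl
theorem L182677 : sm ga N23420 = N18967 := ded_12_1 (flp_g L145616) (flp_a L145600) L182675
theorem L182679 : sm gc N23420 = N18965 := ded_21_1 (flp_g L145604) L145598 L182675
theorem L182681 : sm ge N23420 = N19318 := ded_26_1 (flp_g L153237) (flp_e L145602) L182675
theorem L182683 : sm gf N23420 = N23305 := ded_29_2 (flp_g L181919) (flp_a L181905) L181909 L182675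
theorem L182685 : sm gb N18965 = N23421 := rfl
theorem L182687 : sm ge N23421 = N19319 := ded_15_2 (flp_b L153245) (flp_e L145608) L182685
theorem L182689 : sm gg N23421 = N20752 := ded_17_2 (flp_b L162754) L151455 (flp_b L145594) L145604 L182685
theorem L182691 : sm gc N18966 = N23422 := rfl
theorem L182693 : sm ge N18966 = N23423 := rfl
theorem L182695 : sm gb N23423 = N18975 := ded_15_1 (flp_e L145670) (flp_b L145614) L182693
theorem L182697 : sm gd N23423 = N19321 := ded_22_1 (flp_e L153257) (flp_d L105726) (flp_e L104490) L145612 L182693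
theorem L182699 : sm gg N18966 = N23424 := rfl
theorem L182701 : sm gd N23424 = N18967 := ded_24_1 (flp_g L145616) L145612 L182699
theorem L182703 : sm gb N18967 = N23425 := rfl
theorem L182705 : sm ge N23425 = N19322 := ded_15_2 (flp_b L153261) (flp_e L145620) L182703
theorem L182707 : sm gc N23425 = N23375 := ded_13_2 L182399 L145628 (flp_b L145622) (flp_c L145618) L182703
theorem L182709 : sm gg N23425 = N18972 := ded_17_2 (flp_b L145652) L104512 (flp_b L104492) L145616 L182703
theorem L182711 : sm gf N18967 = N23426 := rfl
theorem L182713 : sm ga N23426 = N23305 := ded_11_1 (flp_f L182683) L182677 L182711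
theorem L182715 : sm gc N23426 = N18969 := ded_20_1 (flp_f L145630) (flp_c L145618) L182711
theorem L182717 : sm ge N23426 = N19323 := ded_25_1 (flp_f L153267) (flp_e L145620) L182711
theorem L182719 : sm gg N23426 = N23303 := ded_29_3 L181905 L145136 L145616 L182711
theorem L182721 : sm ga N18968 = N23427 := rfl
theorem L182723 : sm gc N23427 = N23382 := ded_8_2 L182437 L145628 L182721
theorem L182725 : sm ge N23427 = N19324 := ded_10_2 (flp_a L153275) (flp_e L145624) L182721
theorem L182727 : sm gg N23427 = N18970 := ded_12_2 (flp_a L145638) (flp_g L145626) L182721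
theorem L182729 : sm gf N18968 = N23428 := rfl
theorem L182731 : sm gc N23428 = N23388 := ded_20_1 (flp_f L182464) L145628 L182729
theorem L182733 : sm ge N23428 = N19325 := ded_25_1 (flp_f L153281) (flp_e L145624) L182729
theorem L182735 : sm gb N18969 = N23429 := rfl
theorem L182737 : sm ge N23429 = N19326 := ded_15_2 (flp_b L153285) (flp_e L145634) L182735
theorem L182739 : sm gc N21573 = N23429 := ded_19_3 L182737 (flp_c L175844) (flp_e L169357)
theorem L182741 : sm gf N23429 = N21577 := ded_20_2 (flp_c L169381) (flp_f L169355) L182739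
theorem L182743 : sm gb N21577 = N23428 := ded_16_1 (flp_f L182729) (flp_b L145622) L145630 L182735 L182741
theorem L182745 : sm gf N18970 = N23430 := rfl
theorem L182747 : sm ga N23430 = N18971 := ded_11_1 (flp_f L145644) L145638 L182745
theorem L182749 : sm gc N23430 = N23381 := ded_20_1 (flp_f L182429) (flp_c L145640) L182745
theorem L182751 : sm ge N23430 = N19327 := ded_25_1 (flp_f L153287) (flp_e L145642) L182745
theorem L182753 : sm gg N23428 = N23430 := ded_29_1 (flp_f L182745) (flp_g L182727) (flp_a L182721) L182729
theorem L182755 : sm gg N18971 = N23431 := rfl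
theorem L182757 : sm ga N23431 = N23428 := ded_12_1 L182753 L182747 L182755
theorem L182759 : sm gc N23431 = N23387 := ded_21_1 (flp_g L182458) (flp_c L145646) L182755
theorem L182761 : sm ge N23431 = N19328 := ded_26_1 (flp_g L153295) (flp_e L145648) L182755
theorem L182763 : sm gf N23427 = N23431 := ded_29_0 (flp_g L182755) (flp_f L145644) (flp_g L145626) L182721
theorem L182765 : sm ga N18972 = N23432 := rfl
theorem L182767 : sm gc N23432 = N23373 := ded_8_2 (flp_a L182387) (flp_c L145656) L182765
theorem L182769 : sm ge N23432 = N19329 := ded_10_2 (flp_a L153303) (flp_e L145654) L182765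
theorem L182771 : sm gd N18972 = N23433 := rfl
theorem L182773 : sm gb N23433 = N18973 := ded_14_1 (flp_d L145658) L145652 L182771
theorem L182775 : sm gf N18972 = N23434 := rfl
theorem L182777 : sm gc N23434 = N23366 := ded_20_1 L182345 (flp_c L145656) L182775
theorem L182779 : sm ge N23434 = N19331 := ded_25_1 (flp_f L153311) (flp_e L145654) L182775
theorem L182781 : sm gb N23434 = N18978 := ded_16_1 (flp_f L145686) (flp_b L104518) (flp_f L104510) L145652 L182775
theorem L182783 : sm ge N18973 = N23435 := rfl
theorem L182785 : sm ga N23435 = N18975 := ded_10_1 (flp_e L145670) (flp_a L145660) L182783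
theorem L182787 : sm gf N23435 = N18980 := ded_25_2 (flp_e L145699) (flp_f L145662) L182783
theorem L182789 : sm gg N23435 = N18975 := ded_26_2 (flp_e L145670) (flp_g L145664) L182783
theorem L182791 : sm gd N23435 = N19332 := ded_22_1 (flp_e L153317) (flp_d L105760) (flp_e L104508) L145658 L182783
theorem L182793 : sm gb N18974 = N23436 := rfl
theorem L182795 : sm ge N18974 = N23437 := rfl
theorem L182797 : sm gc N23437 = N18975 := ded_19_1 (flp_e L145670) L145666 L182795
theorem L182799 : sm gf N23437 = N18982 := ded_25_2 (flp_e L145708) (flp_f L145668) L182795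
theorem L182801 : sm gd N23437 = N21868 := ded_22_1 (flp_e L171248) L118601 (flp_e L145874) (flp_d L145880) L182795
theorem L182803 : sm gb N18976 = N23438 := rfl
theorem L182805 : sm ge N23438 = N19335 := ded_15_2 (flp_b L153337) (flp_e L145680) L182803
theorem L182807 : sm gd N18976 = N23439 := rfl
theorem L182809 : sm ga N23439 = N18977 := ded_9_1 (flp_d L145682) L145676 L182807
theorem L182811 : sm gf N18976 = N23440 := rfl
theorem L182813 : sm ga N23440 = N18978 := ded_11_1 (flp_f L145686) L145676 L182811
theorem L182815 : sm gc N23440 = N23368 := ded_20_1 L182361 (flp_c L145678) L182811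
theorem L182817 : sm ge N23440 = N19337 := ded_25_1 (flp_f L153343) (flp_e L145680) L182811
theorem L182819 : sm gg N18976 = N23441 := rfl
theorem L182821 : sm ga N23441 = N18979 := ded_12_1 (flp_g L145692) L145676 L182819
theorem L182823 : sm gc N23441 = N23371 := ded_21_1 (flp_g L182371) (flp_c L145678) L182819
theorem L182825 : sm ge N23441 = N19338 := ded_26_1 (flp_g L153349) (flp_e L145680) L182819
theorem L182827 : sm gc N18977 = N23442 := rfl
theorem L182829 : sm ge N18977 = N23443 := rfl
theorem L182831 : sm gb N23443 = N18980 := ded_15_1 (flp_e L145699) (flp_b L145684) L182829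
theorem L182833 : sm gd N23443 = N19340 := ded_22_1 (flp_e L153357) (flp_d L105780) (flp_e L104520) L145682 L182829
theorem L182835 : sm gf N18977 = N23444 := rfl
theorem L182837 : sm gd N23444 = N18978 := ded_23_1 (flp_f L145686) L145682 L182835
theorem L182839 : sm gg N18977 = N23445 := rfl
theorem L182841 : sm gd N23445 = N18979 := ded_24_1 (flp_g L145692) L145682 L182839
theorem L182843 : sm gb N23445 = N23445 := ded_17_1 (flp_g L182839) L145684 L104528 (flp_b L145684) L182839
theorem L182844 : sm gg N18978 = N23446 := rfl
theorem L182846 : sm gc N23446 = N23369 := ded_21_1 (flp_g L182363) (flp_c L145688) L182844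
theorem L182848 : sm ge N23446 = N19343 := ded_26_1 (flp_g L153370) (flp_e L145690) L182844
theorem L182850 : sm gf N23441 = N23446 := ded_29_0 (flp_g L182844) (flp_f L145686) L145692 (flp_a L182821)
theorem L182852 : sm gf N18979 = N23447 := rfl
theorem L182854 : sm ga N23447 = N23446 := ded_11_1 (flp_f L182850) L182821 L182852
theorem L182856 : sm gc N23447 = N23372 := ded_20_1 (flp_f L182379) (flp_c L145694) L182852
theorem L182858 : sm ge N23447 = N19344 := ded_25_1 (flp_f L153376) (flp_e L145696) L182852
theorem L182860 : sm gg N23447 = N23440 := ded_29_3 L182813 (flp_f L145686) L145692 L182852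
theorem L182862 : sm ga N18981 = N23448 := rfl
theorem L182864 : sm ge N18981 = N23449 := rfl
theorem L182866 : sm gb N23449 = N18982 := ded_15_1 (flp_e L145708) L145706 L182864
theorem L182868 : sm gf N18981 = N23450 := rfl
theorem L182870 : sm gg N18981 = N23451 := rfl
theorem L182872 : sm gb N23451 = N23451 := ded_17_1 (flp_g L182870) (flp_b L145706) L104531 L145706 L182870
theorem L182873 : sm gg N18984 = N23452 := rfl
theorem L182875 : sm ga N23452 = N18986 := ded_12_1 (flp_g L145730) (flp_a L145719) L182873
theorem L182877 : sm gc N23452 = N23223 := ded_21_1 L181367 (flp_c L156336) L182873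
theorem L182879 : sm gd N23452 = N18985 := ded_24_1 (flp_g L145721) L145717 L182873
theorem L182881 : sm ge N23452 = N21479 := ded_26_1 L168772 L160102 L182873
theorem L182883 : sm gf N23452 = N21476 := ded_29_2 (flp_g L168742) (flp_a L160084) (flp_f L160092) L182873
theorem L182885 : sm gb N18985 = N23453 := rfl
theorem L182887 : sm ge N23453 = N22053 := ded_15_2 (flp_b L172483) (flp_e L145726) L182885
theorem L182889 : sm gf N18986 = N23454 := rfl
theorem L182891 : sm ga N23454 = N21476 := ded_11_1 (flp_f L182883) L182875 L182889
theorem L182893 : sm gc N23454 = N23212 := ded_20_1 L181293 L180717 L182889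
theorem L182895 : sm gd N23454 = N18987 := ded_23_1 (flp_f L145734) (flp_d L145732) L182889
theorem L182897 : sm ge N23454 = N20305 := ded_25_1 L168758 L168756 L182889
theorem L182899 : sm gg N23454 = N20303 := ded_29_3 L160084 (flp_f L120291) L145730 L182889
theorem L182901 : sm gb N18987 = N23455 := rfl
theorem L182903 : sm ge N23455 = N20581 := ded_15_2 (flp_b L161742) (flp_e L145739) L182901
theorem L182905 : sm gg N23455 = N20583 := ded_17_2 (flp_b L161756) (flp_g L111912) (flp_b L111891) (flp_g L145741) L182901
theorem L182907 : sm gc N18988 = N23456 := rfl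
theorem L182909 : sm ga N23456 = N23456 := ded_8_1 (flp_c L182907) L145745 L182907
theorem L182910 : sm ge N23456 = N21896 := ded_19_2 (flp_c L171414) (flp_e L145748) L182907
theorem L182912 : sm gb N18989 = N23457 := rfl
theorem L182914 : sm gd N23457 = N23377 := ded_14_2 (flp_b L182411) L145760 L182912
theorem L182916 : sm ge N23457 = N21897 := ded_15_2 (flp_b L171417) (flp_e L145754) L182912
theorem L182918 : sm ga N18990 = N23458 := rfl
theorem L182920 : sm ge N23458 = N21898 := ded_10_2 (flp_a L171421) (flp_e L145764) L182918
theorem L182922 : sm gd N21600 = N23458 := ded_28_7 (flp_a L182918) (flp_c L145902) L145900 (flp_c L169453) (flp_d L169449) L117377 L117415 L169525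
theorem L182924 : sm gd N18990 = N23459 := rfl
theorem L182926 : sm ga N23459 = N21600 := ded_9_1 L182922 (flp_a L182918) L182924
theorem L182928 : sm gb N23459 = N18991 := ded_14_1 (flp_d L145766) L145762 L182924
theorem L182930 : sm gc N21597 = N23459 := ded_28_0 (flp_d L182924) (flp_c L145902) L145900 (flp_c L169453) (flp_d L169449) L117377 L117415 (flp_a L169511)
theorem L182932 : sm gf N18990 = N23460 := rfl
theorem L182934 : sm ge N23460 = N21900 := ded_25_1 (flp_f L171427) (flp_e L145764) L182932
theorem L182936 : sm gg N18990 = N23461 := rfl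
theorem L182938 : sm ge N23461 = N21901 := ded_26_1 (flp_g L171429) (flp_e L145764) L182936
theorem L182940 : sm gb N23461 = N18996 := ded_17_1 (flp_g L145791) (flp_b L104605) (flp_g L104583) L145762 L182936
theorem L182942 : sm ge N18991 = N23462 := rfl
theorem L182944 : sm ga N23462 = N23378 := ded_10_1 (flp_e L182413) (flp_a L145768) L182942
theorem L182946 : sm gc N23462 = N23376 := ded_19_1 (flp_e L182401) L145774 L182942
theorem L182948 : sm gf N23462 = N23378 := ded_25_2 (flp_e L182413) (flp_f L145770) L182942
theorem L182950 : sm gg N23462 = N18997 := ded_26_2 (flp_e L145794) (flp_g L145772) L182942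
theorem L182952 : sm gd N23462 = N21902 := ded_22_1 (flp_e L171433) (flp_d L118568) (flp_e L141633) L145766 L182942
theorem L182954 : sm ga N18992 = N23463 := rfl
theorem L182956 : sm gd N23463 = N23389 := ded_9_2 (flp_a L182472) (flp_d L145778) L182954
theorem L182958 : sm gf N18992 = N23464 := rfl
theorem L182960 : sm gd N23464 = N23391 := ded_23_1 (flp_f L182478) (flp_d L145778) L182958
theorem L182962 : sm gb N23464 = N23464 := ded_16_1 (flp_f L182958) (flp_b L145776) L104595 L145776 L182958
theorem L182963 : sm gg N18992 = N23465 := rfl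
theorem L182965 : sm gd N23465 = N23392 := ded_24_1 (flp_g L182481) (flp_d L145778) L182963
theorem L182967 : sm gb N18993 = N23466 := rfl
theorem L182969 : sm gd N18993 = N23467 := rfl
theorem L182971 : sm ga N23467 = N18994 := ded_9_1 (flp_d L145783) L145780 L182969
theorem L182973 : sm gf N18993 = N23468 := rfl
theorem L182975 : sm ga N23468 = N18995 := ded_11_1 (flp_f L145787) L145780 L182973
theorem L182977 : sm gc N23468 = N23468 := ded_20_1 (flp_f L182973) L145782 L182973
theorem L182978 : sm gg N18993 = N23469 := rfl
theorem L182980 : sm ga N23469 = N18996 := ded_12_1 (flp_g L145791) L145780 L182978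
theorem L182983 : sm gc N18994 = N23470 := rfl
theorem L182985 : sm gb N23470 = N23383 := ded_13_1 (flp_c L182441) L145456 L104613 (flp_b L145785) L182983
theorem L182987 : sm ge N18994 = N23471 := rfl
theorem L182989 : sm gb N23471 = N18997 := ded_15_1 (flp_e L145794) (flp_b L145785) L182987
theorem L182991 : sm gf N18994 = N23472 := rfl
theorem L182993 : sm gd N23472 = N18995 := ded_23_1 (flp_f L145787) L145783 L182991
theorem L182995 : sm gb N23472 = N23472 := ded_16_1 (flp_f L182991) L145785 L104612 (flp_b L145785) L182991
theorem L182996 : sm gg N18994 = N23473 := rfl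
theorem L182998 : sm gd N23473 = N18996 := ded_24_1 (flp_g L145791) L145783 L182996
theorem L183000 : sm gg N18995 = N23474 := rfl
theorem L183003 : sm gf N23469 = N23474 := ded_29_0 (flp_g L183000) (flp_f L145787) L145791 (flp_a L182980)
theorem L183005 : sm gf N18996 = N23475 := rfl
theorem L183010 : sm gg N23475 = N23468 := ded_29_3 L182975 (flp_f L145787) L145791 L183005
theorem L183012 : sm gf N18999 = N23476 := rfl
theorem L183014 : sm ga N23476 = N19004 := ded_11_1 (flp_f L145833) (flp_a L145807) L183012
theorem L183016 : sm gc N23476 = N23297 := ded_20_1 (flp_f L181875) (flp_c L156583) L183012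
theorem L183018 : sm gd N23476 = N19000 := ded_23_1 (flp_f L145809) L145805 L183012
theorem L183020 : sm ge N23476 = N21639 := ded_25_1 (flp_f L169771) L160340 L183012
theorem L183022 : sm gg N21637 = N23476 := ded_29_1 (flp_f L183012) L160322 L160314 L169753
theorem L183024 : sm gb N19000 = N23477 := rfl
theorem L183026 : sm ge N23477 = N22270 := ded_15_2 (flp_b L173962) L149976 L183024
theorem L183028 : sm gg N19004 = N23478 := rfl
theorem L183030 : sm ga N23478 = N21637 := ded_12_1 L183022 L183014 L183028
theorem L183032 : sm gc N23478 = N23287 := ded_21_1 (flp_g L181811) L180825 L183028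
theorem L183034 : sm gd N23478 = N19006 := ded_24_1 (flp_g L145843) (flp_d L145835) L183028
theorem L183036 : sm ge N23478 = N20338 := ded_26_1 (flp_g L169783) L169781 L183028
theorem L183038 : sm gf N20337 = N23478 := ded_29_0 (flp_g L183028) (flp_f L145833) (flp_g L150408) (flp_a L160314)
theorem L183040 : sm gb N19006 = N23479 := rfl
theorem L183042 : sm ge N23479 = N20619 := ded_15_2 (flp_b L161972) L149954 L183040
theorem L183044 : sm gf N23479 = N20621 := ded_16_2 (flp_b L161986) (flp_f L112111) (flp_b L112090) L150411 L183040
theorem L183046 : sm gc N19008 = N23480 := rfl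
theorem L183048 : sm ga N23480 = N23480 := ded_8_1 (flp_c L183046) L145861 L183046
theorem L183049 : sm ge N23480 = N21903 := ded_19_2 (flp_c L171443) (flp_e L145868) L183046
theorem L183051 : sm gf N23480 = N23456 := ded_20_2 (flp_c L182907) (flp_f L145864) L183046
theorem L183053 : sm gg N23480 = N23456 := ded_21_2 (flp_c L182907) (flp_g L145866) L183046
theorem L183055 : sm gb N19009 = N23481 := rfl
theorem L183057 : sm gd N23481 = N23436 := ded_14_2 (flp_b L182793) L145880 L183055
theorem L183059 : sm ge N23481 = N21904 := ded_15_2 (flp_b L171450) (flp_e L145874) L183055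
theorem L183061 : sm ga N19010 = N23482 := rfl
theorem L183063 : sm gc N23482 = N23463 := ded_8_2 (flp_a L182954) (flp_c L145886) L183061
theorem L183065 : sm ge N23482 = N21905 := ded_10_2 (flp_a L171454) (flp_e L145884) L183061
theorem L183067 : sm gd N21759 = N23482 := ded_28_7 (flp_a L183061) L145886 L145778 (flp_c L170456) (flp_d L170452) L117991 L118029 L170540
theorem L183069 : sm gd N19010 = N23483 := rfl
theorem L183071 : sm ga N23483 = N21759 := ded_9_1 L183067 (flp_a L183061) L183069
theorem L183073 : sm gb N23483 = N19011 := ded_14_1 (flp_d L145888) L145882 L183069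
theorem L183075 : sm gc N21756 = N23483 := ded_28_0 (flp_d L183069) L145886 L145778 (flp_c L170456) (flp_d L170452) L117991 L118029 (flp_a L170522)
theorem L183077 : sm gf N19010 = N23484 := rfl
theorem L183079 : sm gc N23484 = N23464 := ded_20_1 (flp_f L182958) (flp_c L145886) L183077
theorem L183081 : sm ge N23484 = N21907 := ded_25_1 (flp_f L171460) (flp_e L145884) L183077
theorem L183083 : sm gb N23484 = N19015 := ded_16_1 (flp_f L145911) (flp_b L104698) (flp_f L104672) L145882 L183077
theorem L183085 : sm gg N19010 = N23485 := rfl
theorem L183087 : sm gc N23485 = N23465 := ded_21_1 (flp_g L182963) (flp_c L145886) L183085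
theorem L183089 : sm ge N23485 = N21908 := ded_26_1 (flp_g L171464) (flp_e L145884) L183085
theorem L183091 : sm ge N19011 = N23486 := rfl
theorem L183093 : sm ga N23486 = N23437 := ded_10_1 (flp_e L182795) (flp_a L145890) L183091
theorem L183095 : sm gc N23486 = N23435 := ded_19_1 (flp_e L182783) L145896 L183091
theorem L183097 : sm gf N23486 = N19017 := ded_25_2 (flp_e L145918) (flp_f L145892) L183091
theorem L183099 : sm gg N23486 = N23437 := ded_26_2 (flp_e L182795) (flp_g L145894) L183091
theorem L183101 : sm gd N23486 = N21909 := ded_22_1 (flp_e L171466) (flp_d L118615) (flp_e L141608) L145888 L183091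
theorem L183103 : sm ga N19012 = N23487 := rfl
theorem L183105 : sm gc N23487 = N23458 := ded_8_2 (flp_a L182918) (flp_c L145902) L183103
theorem L183107 : sm gd N23487 = N23448 := ded_9_2 (flp_a L182862) (flp_d L145900) L183103
theorem L183109 : sm gf N19012 = N23488 := rfl
theorem L183111 : sm gc N23488 = N23460 := ded_20_1 (flp_f L182932) (flp_c L145902) L183109
theorem L183113 : sm gd N23488 = N23450 := ded_23_1 (flp_f L182868) (flp_d L145900) L183109
theorem L183115 : sm gg N19012 = N23489 := rfl
theorem L183117 : sm gc N23489 = N23461 := ded_21_1 (flp_g L182936) (flp_c L145902) L183115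
theorem L183119 : sm gd N23489 = N23451 := ded_24_1 (flp_g L182870) (flp_d L145900) L183115
theorem L183121 : sm gb N23489 = N23489 := ded_17_1 (flp_g L183115) (flp_b L145898) L104686 L145898 L183115
theorem L183122 : sm gb N19013 = N23490 := rfl
theorem L183124 : sm gd N19013 = N23491 := rfl
theorem L183126 : sm ga N23491 = N19014 := ded_9_1 (flp_d L145907) L145904 L183124
theorem L183128 : sm gf N19013 = N23492 := rfl
theorem L183130 : sm ga N23492 = N19015 := ded_11_1 (flp_f L145911) L145904 L183128
theorem L183133 : sm gg N19013 = N23493 := rfl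
theorem L183135 : sm ga N23493 = N19016 := ded_12_1 (flp_g L145914) L145904 L183133
theorem L183138 : sm gc N19014 = N23494 := rfl
theorem L183140 : sm gb N23494 = N23442 := ded_13_1 (flp_c L182827) L145684 L104706 (flp_b L145909) L183138
theorem L183142 : sm ge N19014 = N23495 := rfl
theorem L183144 : sm gb N23495 = N19017 := ded_15_1 (flp_e L145918) (flp_b L145909) L183142
theorem L183146 : sm gf N19014 = N23496 := rfl
theorem L183148 : sm gd N23496 = N19015 := ded_23_1 (flp_f L145911) L145907 L183146
theorem L183150 : sm gg N19014 = N23497 := rfl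
theorem L183155 : sm gg N19015 = N23498 := rfl
theorem L183158 : sm gf N23493 = N23498 := ded_29_0 (flp_g L183155) (flp_f L145911) L145914 (flp_a L183135)
theorem L183160 : sm gf N19016 = N23499 := rfl
theorem L183167 : sm gg N19038 = N23500 := rfl
theorem L183169 : sm ga N23500 = N21913 := ded_12_1 (flp_g L171500) (flp_a L146106) L183167
theorem L183171 : sm gc N23500 = N19040 := ded_21_1 (flp_g L146118) L146104 L183167
theorem L183173 : sm gd N23500 = N20628 := ded_24_1 L162034 L146108 L183167
theorem L183175 : sm gf N19046 = N23501 := rfl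
theorem L183177 : sm ga N23501 = N21916 := ded_11_1 (flp_f L171516) (flp_a L151135) L183175
theorem L183179 : sm gc N23501 = N19047 := ded_20_1 (flp_f L146148) L146146 L183175
theorem L183181 : sm gd N23501 = N20590 := ded_23_1 L161802 L151282 L183175
theorem L183183 : sm gb N19058 = N23502 := rfl
theorem L183185 : sm ge N23502 = N19059 := ded_15_2 (flp_b L151616) (flp_e L151614) L183183
theorem L183187 : sm ga N19059 = N23503 := rfl
theorem L183189 : sm gd N23503 = N19060 := ded_9_2 (flp_a L151620) (flp_d L151618) L183187
theorem L183191 : sm gc N19059 = N23504 := rfl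
theorem L183193 : sm gg N23504 = N20587 := ded_21_2 L161776 L157811 L183191
theorem L183195 : sm gf N23504 = N19059 := ded_31_1 (flp_b L151616) (flp_g L104911) L89636 L39625 L39733 L89907 L105523 (flp_g L121697) L172505 L172509 (flp_g L161784) (flp_f L161778) L161774 (flp_g L183193)
theorem L183197 : sm gd N19062 = N23504 := ded_23_3 L183195 L151618 L151626
theorem L183199 : sm gb N19060 = N23505 := rfl
theorem L183201 : sm gc N19060 = N23506 := rfl
theorem L183203 : sm ga N23506 = N19061 := ded_8_1 (flp_c L151622) L151620 L183201
theorem L183205 : sm gf N19060 = N23507 := rfl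
theorem L183207 : sm ga N23507 = N19062 := ded_11_1 (flp_f L151626) L151620 L183205
theorem L183209 : sm gg N22970 = N23507 := ded_29_1 (flp_f L183205) (flp_g L179465) (flp_a L179463) L179473
theorem L183211 : N23505 = N22213 := coi_31_3 (flp_g L173641) (flp_f L171682) (flp_b L174352) L174356 L172444 (flp_b L158529) (flp_g L179663) (flp_f L179655) L152002 L152000 (flp_f L178211) (flp_b L179475) L183209 (flp_f L183205) L183199
theorem L183212 : N23505 = N22213 := eqc rfl L183211 rfl
theorem L183213 : sm gb N22213 = N19060 := trfs L183212 (flp_b L183199) rfl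
theorem L183215 : N23503 = N22214 := coi_14_3 (flp_b L173649) (flp_d L173647) L183213 (flp_d L183189)
theorem L183216 : N23503 = N22214 := eqc rfl L183215 rfl
theorem L183217 : sm ga N22214 = N19059 := trfs L183216 (flp_a L183187) rfl
theorem L183219 : sm gd N22214 = N19060 := trfs L183216 L183189 rfl
theorem L183221 : sm gf N19061 = N23508 := rfl
theorem L183223 : sm gc N23508 = N19062 := ded_20_1 (flp_f L151626) L151622 L183221
theorem L183225 : sm gg N19062 = N23509 := rfl
theorem L183227 : sm ga N23509 = N22970 := ded_12_1 L183209 L183207 L183225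
theorem L183229 : sm gd N23509 = N20587 := ded_24_1 (flp_g L183193) (flp_d L183197) L183225
theorem L183231 : sm gf N22968 = N23509 := ded_29_0 (flp_g L183225) (flp_f L151626) (flp_g L142925) L179463
theorem L183233 : sm gb N20584 = N23509 := ded_7_0 L183227 L179475 L178209 (flp_b L161870) (flp_a L112018) (flp_b L93498) (flp_a L93460) L111920 L161760
theorem L183235 : sm gc N19063 = N23510 := rfl
theorem L183237 : sm ga N23510 = N22547 := ded_8_1 L176029 L158187 L183235
theorem L183239 : sm gc N19067 = N23511 := rfl
theorem L183241 : sm ga N23511 = N19068 := ded_8_1 (flp_c L151648) L151644 L183239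
theorem L183243 : sm gf N23511 = N19336 := ded_20_2 L178261 L178255 L183239
theorem L183245 : sm gg N23511 = N22824 := ded_21_2 (flp_c L178333) L151646 L183239
theorem L183247 : sm gd N23511 = N19337 := ded_28_7 L153345 L105786 (flp_d L152794) L152796 (flp_d L162106) L162108 L152370 L183239
theorem L183249 : sm gb N19068 = N23512 := rfl
theorem L183251 : sm gd N23512 = N19331 := ded_14_2 L153315 (flp_d L153493) L183249
theorem L183253 : sm gc N23512 = N19070 := ded_13_2 (flp_b L151656) (flp_c L104929) L104927 L151648 L183249
theorem L183255 : sm gf N23512 = N19330 := ded_16_2 L153309 L105764 (flp_b L105782) (flp_f L153495) L183249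
theorem L183257 : sm gg N19068 = N23513 := rfl
theorem L183259 : sm ga N23513 = N22824 := ded_12_1 (flp_g L183245) L183241 L183257
theorem L183261 : sm gc N23513 = N19069 := ded_21_1 (flp_g L151650) L151648 L183257
theorem L183263 : sm gd N23513 = N19343 := ded_24_1 (flp_g L153370) (flp_d L153493) L183257
theorem L183265 : sm gf N22826 = N23513 := ded_29_0 (flp_g L183257) L153495 (flp_g L153502) (flp_a L178355)
theorem L183267 : sm gf N19070 = N23514 := rfl
theorem L183269 : sm gc N23514 = N19330 := ded_20_1 (flp_f L183255) L183253 L183267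
theorem L183271 : sm gd N23514 = N22616 := ded_23_1 (flp_f L176628) L164516 L183267
theorem L183273 : sm gg N19333 = N23514 := ded_31_0 (flp_f L183267) (flp_b L151656) (flp_g L153018) L114452 L94881 L94965 (flp_f L94971) L114161 L153400 (flp_f L153394) (flp_b L105798) L90038 (flp_f L105770) L153325
theorem L183275 : sm gg N19070 = N23515 := rfl
theorem L183277 : sm gb N19072 = N23516 := rfl
theorem L183279 : sm gd N23516 = N20996 := ded_14_2 (flp_b L165554) (flp_d L153034) L183277
theorem L183281 : sm gb N19082 = N23517 := rfl
theorem L183283 : sm ge N23517 = N19083 := ded_15_2 (flp_b L151724) (flp_e L151722) L183281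
theorem L183285 : sm gc N19083 = N23518 := rfl
theorem L183287 : sm gf N23518 = N20625 := ded_20_2 L162006 L158119 L183285
theorem L183289 : sm gg N19083 = N23518 := ded_31_0 L183287 (flp_b L162004) L162008 (flp_f L162014) (flp_b L174054) (flp_g L174050) L150972 (flp_b L105710) (flp_g L89995) (flp_f L39831) (flp_b L39665) (flp_g L89664) L104975 L151724
theorem L183291 : sm gd N23518 = N19086 := ded_24_1 (flp_g L151734) (flp_d L151726) L183289
theorem L183293 : sm gc N19084 = N23519 := rfl
theorem L183295 : sm ga N23519 = N19085 := ded_8_1 (flp_c L151730) L151728 L183293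
theorem L183297 : sm gg N19084 = N23520 := rfl
theorem L183299 : sm ga N23520 = N19086 := ded_12_1 (flp_g L151734) L151728 L183297
theorem L183301 : sm gf N23520 = N22979 := ded_29_2 (flp_g L179541) L179531 L179533 L183297
theorem L183303 : sm gg N19085 = N23521 := rfl
theorem L183305 : sm gc N23521 = N19086 := ded_21_1 (flp_g L151734) L151730 L183303
theorem L183307 : sm gf N19086 = N23522 := rfl
theorem L183309 : sm ga N23522 = N22979 := ded_11_1 (flp_f L183301) L183299 L183307
theorem L183311 : sm gd N23522 = N20625 := ded_23_1 (flp_f L183287) L183291 L183307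
theorem L183313 : sm gg N23522 = N22977 := ded_29_3 (flp_a L179531) L142999 L151734 L183307
theorem L183315 : sm gb N20622 = N23522 := ded_7_0 L183309 L179543 L178151 (flp_b L162104) (flp_a L112248) (flp_b L93637) (flp_a L93599) L112119 L161990
theorem L183317 : sm gc N19087 = N23523 := rfl
theorem L183319 : sm ga N23523 = N22488 := ded_8_1 L175635 L157889 L183317
theorem L183321 : sm gc N19091 = N23524 := rfl
theorem L183323 : sm ga N23524 = N19092 := ded_8_1 (flp_c L151758) L151752 L183321
theorem L183325 : sm gf N23524 = N22817 := ded_20_2 (flp_c L178243) (flp_f L151754) L183321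
theorem L183327 : sm gg N23524 = N19279 := ded_21_2 (flp_c L178301) L178307 L183321
theorem L183329 : sm gd N23524 = N19281 := ded_28_7 L152920 L105738 (flp_d L153209) L153211 (flp_d L161872) (flp_c L161874) L151936 L183321
theorem L183331 : sm gb N19092 = N23525 := rfl
theorem L183333 : sm gd N23525 = N19274 := ded_14_2 L152886 (flp_d L153063) L183331
theorem L183335 : sm gc N23525 = N19094 := ded_13_2 (flp_b L151766) (flp_c L104993) L104991 L151758 L183331
theorem L183337 : sm gg N23525 = N19273 := ded_17_2 L152882 L105571 (flp_b L105585) (flp_g L153065) L183331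
theorem L183339 : sm gf N19092 = N23526 := rfl
theorem L183341 : sm ga N23526 = N22817 := ded_11_1 (flp_f L183325) L183323 L183339
theorem L183343 : sm gc N23526 = N19093 := ded_20_1 (flp_f L151760) L151758 L183339
theorem L183345 : sm gd N23526 = N19287 := ded_23_1 (flp_f L152941) (flp_d L153063) L183339
theorem L183347 : sm gg N23526 = N22820 := ded_29_3 L178291 L153059 (flp_g L153065) L183339
theorem L183349 : sm gf N19094 = N23527 := rfl
theorem L183351 : sm gg N19094 = N23528 := rfl
theorem L183353 : sm gc N23528 = N19273 := ded_21_1 (flp_g L183337) L183335 L183351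
theorem L183355 : sm gd N23528 = N22570 := ded_24_1 L176207 (flp_d L164115) L183351
theorem L183357 : sm gf N23528 = N19276 := ded_31_1 (flp_b L152896) L105575 L89946 L105597 L152957 (flp_f L152963) (flp_b L114728) (flp_g L94961) (flp_f L94682) (flp_b L94602) (flp_g L113899) L153424 L151766 L183351
theorem L183359 : sm gb N19096 = N23529 := rfl
theorem L183361 : sm gd N23529 = N20912 := ded_14_2 (flp_b L164933) (flp_d L153473) L183359
theorem L183363 : sm ge N19103 = N23530 := rfl
theorem L183365 : sm ga N23530 = N19110 := ded_10_1 (flp_e L151878) (flp_a L151806) L183363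
theorem L183367 : sm gb N23530 = N19241 := ded_15_1 (flp_e L152700) (flp_b L151808) L183363
theorem L183369 : sm gc N23530 = N21083 := ded_19_1 L166224 L151810 L183363
theorem L183371 : sm gf N23530 = N20377 := ded_25_2 L160586 L151812 L183363
theorem L183373 : sm gg N23530 = N21085 := ded_26_2 L166242 L151814 L183363
theorem L183375 : sm gg N19110 = N23531 := rfl
theorem L183377 : sm ga N23531 = N21085 := ded_12_1 (flp_g L183373) L183365 L183375
theorem L183379 : sm gc N23531 = N21084 := ded_21_1 L166238 (flp_c L154784) L183375
theorem L183381 : sm ge N23531 = N19111 := ded_26_1 (flp_g L151880) L151878 L183375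
theorem L183383 : sm gb N19112 = N23532 := rfl
theorem L183385 : sm gd N23532 = N22476 := ded_14_2 L175571 L171482 L183383
theorem L183387 : sm gf N23532 = N22473 := ded_16_2 L175545 (flp_f L171644) L151852 L151892 L183383
theorem L183389 : sm gc N19113 = N23533 := rfl
theorem L183391 : sm gb N23533 = N19117 := ded_13_1 (flp_c L151926) (flp_b L105045) (flp_c L105039) L151894 L183389
theorem L183393 : sm gf N20705 = N23533 := ded_30_0 (flp_c L183389) (flp_b L151894) (flp_a L151846) L151892 L151890 L151904 (flp_a L151912) (flp_f L129142) (flp_c L149544) L118376 (flp_a L171083) L171091 L170128 (flp_b L151904) (flp_a L105051) (flp_f L105049) (flp_c L105039) L151894 (flp_a L162506)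
theorem L183395 : sm gd N20710 = N23533 := ded_14_0 L183391 (flp_d L161892) (flp_b L162516)
theorem L183397 : sm gf N19113 = N23534 := rfl
theorem L183399 : sm ga N23534 = N23533 := ded_11_1 (flp_f L183393) L162506 L183397
theorem L183401 : sm gc N23534 = N20705 := ded_20_1 L183393 (flp_c L183389) L183397
theorem L183403 : sm gd N23534 = N22262 := ded_23_1 (flp_f L173917) (flp_d L162504) L183397
theorem L183405 : sm gg N22257 = N23534 := ded_29_1 (flp_f L183397) (flp_g L173879) (flp_a L173875) L173885
theorem L183407 : N22256 = N22257 := coi_21_0 L183405 L183401 L162478 L173883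
theorem L183408 : N22257 = N22256 := (eqc rfl L183407 rfl).symm
theorem L183409 : sm gb N22256 = N22168 := trfs L183408 L173889 rfl
theorem L183411 : sm gd N22256 = N16949 := trfs L183408 L173887 rfl
theorem L183413 : sm gf N22256 = N16946 := trfs L183408 (flp_f L173885) rfl
theorem L183415 : sm gg N22256 = N23534 := trfs L183408 L183405 rfl
theorem L183417 : sm gb N20754 = N23534 := ded_13_5 L183401 (flp_b L162474) L149104 L112746 L162764
theorem L183419 : sm gc N22168 = N22253 := ded_13_2 (flp_b L173869) L122472 L122484 L173883 L183409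
theorem L183421 : sm ga N23000 = N20754 := ded_7_9 L183417 L183399 L183391 L151928 (flp_b L143321) L103238 L103256 L143347 L179713
theorem L183423 : sm gf N22253 = N22166 := ded_20_2 (flp_c L173325) L173331 L183419
theorem L183425 : sm gc N22376 = N22437 := ded_28_0 L175282 (flp_c L183419) L173335 (flp_c L173284) L173286 L172879 (flp_d L173964) (flp_a L174856)
theorem L183427 : sm gc N20035 = N23000 := ded_8_0 L183421 (flp_c L162764) (flp_a L158307)
theorem L183429 : sm gg N22437 = N22373 := ded_21_2 (flp_c L174842) L174854 L183425
theorem L183431 : N22440 = N22441 := coi_13_5 L175302 L183425 (flp_b L175280) L123335 L123349 L175296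
theorem L183432 : N22441 = N22440 := (eqc rfl L183431 rfl).symm
theorem L183433 : sm gb N22440 = N22376 := trfs L183432 L175302 rfl
theorem L183435 : sm gd N22440 = N17140 := trfs L183432 L175300 rfl
theorem L183437 : sm gg N22440 = N17137 := trfs L183432 (flp_g L175298) rfl
theorem L183439 : sm gb N19114 = N23535 := rfl
theorem L183441 : sm gd N23535 = N20682 := ded_14_2 L162348 L162246 L183439
theorem L183443 : sm gf N23535 = N20754 := ded_16_2 L183417 (flp_f L183397) (flp_b L151894) L151896 L183439
theorem L183445 : sm gg N23535 = N20676 := ded_17_2 (flp_b L162329) L112382 (flp_b L151842) (flp_g L151902) L183439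
theorem L183447 : sm gc N23535 = N20755 := ded_32_17 L162768 L143897 (flp_b L143889) L103586 L88877 L37384 L17904 (flp_b L81645) L8745 (flp_d L8661) L78837 L8647 L8775 L8777 L141713 (flp_c L9337) (flp_d L9047) L18663 (flp_b L78127) (flp_d L141657) (flp_c L12751) L6290 L6790 L13884 (flp_d L142191) (flp_c L82018) L142098 L13622 (flp_b L6679) L6681 L80938 L5541 L2857 (flp_b L82370) (flp_e L2837) (flp_d L5432) (flp_c L10849) (flp_d L22517) (flp_c L46815) L93879 (flp_d L94237) (flp_c L140290) (flp_d L114500) L165382 L165386 (flp_d L163744) L123131 L98447 (flp_c L122510) (flp_b L172859) (flp_d L172861) (flp_c L161808) (flp_d L111958) (flp_c L93472) (flp_b L46505) L22369 (flp_c L26781) (flp_d L85449) (flp_c L97674) L147613 (flp_e L122774) L149160 (flp_c L171490) L171492 L152344 L152376 L152378 (flp_c L151608) (flp_d L169059) L169057 (flp_b L117189) L96169 (flp_c L97742) (flp_d L121961) (flp_c L162244) (flp_b L162348) (flp_d L183441)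
theorem L183449 : sm gc N19119 = N23536 := rfl
theorem L183451 : sm ga N23536 = N19201 := ded_8_1 L152454 (flp_a L152258) L183449
theorem L183453 : sm gf N23536 = N20636 := ded_20_2 L162108 (flp_f L152372) L183449
theorem L183455 : sm gg N23536 = N19199 := ded_21_2 (flp_c L152442) L152260 L183449
theorem L183457 : sm gb N23536 = N20755 := ded_13_1 (flp_c L183447) (flp_b L183439) L151900 L151938 L183449
theorem L183459 : sm gd N23536 = N19259 := ded_28_7 (flp_a L175611) (flp_c L175609) (flp_d L146090) (flp_c L105778) L153339 L178261 L178251 L183449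
theorem L183461 : sm gg N19120 = N23537 := rfl
theorem L183463 : sm gc N23537 = N19247 := ded_21_1 (flp_g L152736) (flp_c L151944) L183461
theorem L183465 : sm ge N23537 = N19121 := ded_26_1 (flp_g L151946) L151940 L183461
theorem L183467 : sm gb N19121 = N23538 := rfl
theorem L183469 : sm gd N23538 = N19123 := ded_14_2 (flp_b L151956) (flp_d L151950) L183467
theorem L183471 : sm gg N23538 = N19126 := ded_17_2 (flp_b L151978) (flp_g L105079) (flp_b L105059) L151946 L183467
theorem L183473 : sm ga N23538 = N22183 := ded_7_1 (flp_b L173405) (flp_a L122218) (flp_b L97851) (flp_a L85575) L98051 L122488 L162502 L155254 L183467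
theorem L183475 : sm gf N19121 = N23539 := rfl
theorem L183477 : sm ga N23539 = N19844 := ded_11_1 (flp_f L157161) L155254 L183475
theorem L183479 : sm gc N23539 = N19250 := ded_20_1 (flp_f L152752) (flp_c L151948) L183475
theorem L183481 : sm gd N23539 = N19124 := ded_23_1 (flp_f L151960) (flp_d L151950) L183475
theorem L183483 : sm gg N23539 = N19577 := ded_29_3 L155208 L119821 L151946 L183475
theorem L183485 : sm gb N19122 = N23540 := rfl
theorem L183487 : sm gd N23540 = N19964 := ded_14_2 L157913 L157159 L183485
theorem L183489 : sm gg N23540 = N19961 := ded_17_2 (flp_b L157899) L109253 (flp_b L119829) L151952 L183485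
theorem L183491 : sm ga N19123 = N23541 := rfl
theorem L183493 : sm gd N23541 = N22183 := ded_9_2 (flp_a L183473) L183469 L183491
theorem L183495 : sm gg N23541 = N19127 := ded_12_2 (flp_a L151982) (flp_g L151958) L183491
theorem L183497 : sm gb N23541 = N22181 := ded_7_2 (flp_a L173395) (flp_b L122214) (flp_a L98045) L122484 L173875 (flp_b L173881) L151874 L151956 L183491
theorem L183499 : sm gc N19123 = N23542 := rfl
theorem L183501 : sm gg N23542 = N19128 := ded_21_2 (flp_c L151984) (flp_g L151958) L183499
theorem L183503 : sm gf N23540 = N23542 := ded_29_2 L183501 (flp_a L175699) L175673 (flp_g L183489)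
theorem L183505 : sm gf N19123 = N23543 := rfl
theorem L183507 : sm gc N23543 = N23540 := ded_20_1 L183503 (flp_c L183499) L183505
theorem L183509 : sm gb N19124 = N23544 := rfl
theorem L183511 : sm gb N19125 = N23545 := rfl
theorem L183513 : sm ge N23545 = N19126 := ded_15_2 (flp_b L151978) (flp_e L151974) L183511
theorem L183515 : sm ga N19126 = N23546 := rfl
theorem L183517 : sm gd N23546 = N19127 := ded_9_2 (flp_a L151982) (flp_d L151980) L183515
theorem L183519 : sm gg N23546 = N22183 := ded_12_2 (flp_a L183473) L183471 L183515
theorem L183521 : sm gf N23546 = N20680 := ded_31_1 (flp_b L162342) L112388 L112412 (flp_b L146088) (flp_g L179711) L179709 (flp_b L161358) (flp_g L157187) L161392 (flp_b L173455) L173453 L173150 L173405 (flp_g L183519)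
theorem L183523 : sm gc N19126 = N23547 := rfl
theorem L183525 : sm gb N23547 = N19138 := ded_13_1 (flp_c L152040) (flp_b L105103) (flp_c L105083) L151978 L183523
theorem L183527 : sm gd N19144 = N23547 := ded_14_0 L183525 (flp_d L152044) L152078
theorem L183529 : sm gf N19139 = N23547 := ded_16_0 L183525 (flp_f L152046) (flp_b L105103) L105109 L152048
theorem L183531 : sm gf N19126 = N23548 := rfl
theorem L183533 : sm ga N23548 = N20680 := ded_11_1 (flp_f L183521) (flp_a L183515) L183531
theorem L183535 : sm gc N23548 = N19139 := ded_20_1 L183529 (flp_c L183523) L183531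
theorem L183537 : sm gd N23548 = N19129 := ded_23_1 (flp_f L151988) (flp_d L151980) L183531
theorem L183539 : sm gg N19952 = N23548 := ded_29_1 (flp_f L183531) (flp_g L183471) L183473 L173407
theorem L183541 : sm gb N23548 = N23504 := ded_16_1 L183195 (flp_b L151616) (flp_f L105087) L151978 L183531
theorem L183543 : sm gb N19258 = N20677 := ded_30_6 (flp_a L162333) (flp_f L175476) L158065 (flp_b L109575) (flp_a L92219) L92221 (flp_c L92222) (flp_b L109559) (flp_a L158419) L158496 L158492 L162342 (flp_a L183533) (flp_f L183531) L183523 L183525 (flp_a L152802) (flp_f L152808) (flp_c L152804)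
theorem L183545 : sm gd N20677 = N19269 := ded_14_2 (flp_b L152864) (flp_d L152806) L183543
theorem L183547 : sm ga N19269 = N20673 := ded_9_1 L162307 L162333 L183545
theorem L183549 : sm gc N20974 = N19269 := ded_28_6 (flp_d L183545) (flp_a L162333) (flp_c L175493) L158479 L153795 L146401 L114464 L165356
theorem L183551 : sm gc N23370 = N21732 := ded_19_3 L170356 L183549 (flp_e L182369)
theorem L183553 : sm gg N21736 = N23370 := ded_21_0 L183551 L170354 L170380
theorem L183555 : sm gb N23369 = N21736 := ded_17_5 L183553 (flp_b L182367) (flp_g L145410) L145404 L182363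
theorem L183557 : sm gb N19127 = N23549 := rfl
theorem L183559 : sm gf N19127 = N23550 := rfl
theorem L183561 : sm ga N23550 = N19129 := ded_11_1 (flp_f L151988) L151982 L183559
theorem L183563 : sm gc N23550 = N19961 := ded_20_1 (flp_f L175673) (flp_c L175701) L183559
theorem L183565 : sm gd N23550 = N20680 := ded_23_1 (flp_f L183521) L183517 L183559
theorem L183567 : sm gg N23543 = N23550 := ded_29_1 (flp_f L183559) (flp_g L183495) (flp_a L183491) L183505
theorem L183569 : sm gb N20674 = N23550 := ded_13_5 L183563 (flp_b L157899) (flp_c L129032) (flp_b L152218) (flp_c L162311)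
theorem L183571 : sm gf N19128 = N23551 := rfl
theorem L183573 : sm ga N23551 = N19961 := ded_11_1 (flp_f L175673) L175699 L183571
theorem L183575 : sm gc N23551 = N19129 := ded_20_1 (flp_f L151988) L151984 L183571
theorem L183577 : sm gd N23551 = N19962 := ded_23_1 (flp_f L175693) (flp_d L175697) L183571
theorem L183579 : sm gg N19129 = N23552 := rfl
theorem L183581 : sm ga N23552 = N23543 := ded_12_1 L183567 L183561 L183579
theorem L183583 : sm gd N23552 = N19952 := ded_24_1 L183539 L183537 L183579
theorem L183585 : sm gf N23541 = N23552 := ded_29_0 (flp_g L183579) (flp_f L151988) (flp_g L151958) L183491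
theorem L183587 : sm gb N23552 = N19955 := ded_17_1 (flp_g L161764) L183233 (flp_g L183225) (flp_b L151990) L183579
theorem L183589 : sm gf N19131 = N23553 := rfl
theorem L183591 : sm ga N23553 = N19134 := ded_11_1 (flp_f L152014) (flp_a L151998) L183589
theorem L183593 : sm gc N23553 = N19132 := ded_20_1 (flp_f L152004) L151996 L183589
theorem L183595 : sm gd N23553 = N19316 := ded_23_1 (flp_f L174044) L174048 L183589
theorem L183597 : sm gg N23553 = N20598 := ded_29_3 (flp_a L178209) L178211 (flp_g L152000) L183589
theorem L183599 : sm gb N23553 = N20703 := ded_31_2 (flp_g L162464) (flp_f L152834) (flp_b L152830) (flp_g L105537) (flp_f L105129) (flp_b L89716) (flp_g L39627) (flp_f L39593) (flp_b L88606) L103036 (flp_f L103242) L143321 (flp_g L152000) L183589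
theorem L183601 : sm ge N19133 = N23554 := rfl
theorem L183603 : sm gb N19134 = N23555 := rfl
theorem L183605 : sm gc N23555 = N20994 := ded_13_2 L165542 L153020 (flp_b L105097) (flp_c L152016) L183603
theorem L183607 : sm ga N23555 = N19245 := ded_30_3 (flp_f L180061) (flp_c L180065) (flp_b L180073) L180069 (flp_f L176775) (flp_c L176771) L124764 L99363 L94361 (flp_c L94353) (flp_b L94301) (flp_a L113414) L164254 L164258 (flp_b L151992) (flp_a L105091) L105095 (flp_c L152016) L183603
theorem L183609 : sm ga N19135 = N23556 := rfl
theorem L183611 : sm ge N23556 = N19137 := ded_10_2 (flp_a L152034) (flp_e L152020) L183609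
theorem L183613 : sm gg N23556 = N19253 := ded_12_2 (flp_a L152768) (flp_g L152022) L183609
theorem L183615 : sm gc N19135 = N23557 := rfl
theorem L183617 : sm ge N23557 = N19138 := ded_19_2 (flp_c L152040) (flp_e L152020) L183615
theorem L183619 : sm gg N23557 = N19254 := ded_21_2 (flp_c L152774) (flp_g L152022) L183615
theorem L183621 : sm gf N19135 = N23557 := ded_25_0 L183617 (flp_f L152046) (flp_e L152020)
theorem L183623 : sm gb N19136 = N23558 := rfl
theorem L183625 : sm ge N23558 = N19139 := ded_15_2 (flp_b L152048) (flp_e L152030) L183623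
theorem L183627 : sm gg N23558 = N19733 := ded_17_2 (flp_b L156360) (flp_g L108047) L108039 (flp_g L152032) L183623
theorem L183629 : sm ga N19139 = N23559 := rfl
theorem L183631 : sm gc N23559 = N20680 := ded_8_2 (flp_a L183533) L183535 L183629
theorem L183633 : sm gd N23559 = N19145 := ded_9_2 (flp_a L152082) (flp_d L152050) L183629
theorem L183635 : sm gg N23559 = N19951 := ded_12_2 (flp_a L157841) (flp_g L152052) L183629
theorem L183637 : sm gb N23559 = N22165 := ded_7_2 L173323 L122174 (flp_a L122354) L173649 L183217 (flp_b L151616) (flp_a L105111) L152048 L183629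
theorem L183639 : sm ga N19140 = N23560 := rfl
theorem L183641 : sm gc N23560 = N20750 := ded_8_2 L162740 L152058 L183639
theorem L183643 : sm gd N23560 = N20611 := ded_9_2 L161938 L161908 L183639
theorem L183645 : sm gg N23560 = N20749 := ded_12_2 L162732 (flp_g L152056) L183639
theorem L183647 : sm gf N23560 = N20600 := ded_29_0 (flp_g L161882) L149780 (flp_g L152056) L183639
theorem L183649 : sm gf N19140 = N23561 := rfl
theorem L183651 : sm ga N23561 = N20600 := ded_11_1 (flp_f L183647) (flp_a L183639) L183649
theorem L183653 : sm gc N23561 = N20751 := ded_20_1 (flp_f L162746) L152058 L183649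
theorem L183655 : sm gd N23561 = N20608 := ded_23_1 L161926 L161908 L183649
theorem L183657 : sm gg N23561 = N20599 := ded_29_3 (flp_a L161878) L149780 (flp_g L152056) L183649
theorem L183659 : sm gd N19141 = N23562 := rfl
theorem L183661 : sm ga N23562 = N19142 := ded_9_1 (flp_d L152068) (flp_a L152062) L183659
theorem L183663 : sm gb N23562 = N22228 := ded_14_1 L173725 (flp_b L152066) L183659
theorem L183665 : sm gg N23562 = N19260 := ded_24_2 (flp_d L152816) (flp_g L152064) L183659
theorem L183667 : sm gc N19142 = N23563 := rfl
theorem L183669 : sm gg N23563 = N19263 := ded_21_2 (flp_c L152836) (flp_g L152072) L183667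
theorem L183671 : sm gb N23563 = N19215 := ded_13_1 (flp_c L152532) (flp_b L105326) (flp_c L151520) (flp_b L152070) L183667
theorem L183673 : sm gd N23563 = N19266 := ded_28_7 L152852 L152076 L152044 (flp_c L152040) L105105 L105123 L152068 L183667
theorem L183675 : sm gf N23562 = N23563 := ded_30_0 (flp_c L183667) L152070 L151518 L89821 (flp_c L39687) (flp_b L18833) L9123 (flp_f L9117) L7815 L76719 L4027 L4637 (flp_c L9125) L18833 L39683 (flp_f L89817) (flp_c L151520) (flp_b L152070) (flp_a L183661)
theorem L183677 : sm gf N19142 = N23564 := rfl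
theorem L183679 : sm ga N23564 = N23563 := ded_11_1 (flp_f L183675) L183661 L183677
theorem L183681 : sm gc N23564 = N23562 := ded_20_1 L183675 (flp_c L183667) L183677
theorem L183683 : sm gd N23564 = N19143 := ded_23_1 (flp_f L152074) L152068 L183677
theorem L183685 : sm gb N23564 = N19231 := ded_16_1 (flp_f L152632) (flp_b L105374) (flp_f L151524) (flp_b L152070) L183677
theorem L183687 : sm gb N19143 = N23565 := rfl
theorem L183689 : sm gd N23565 = N19231 := ded_14_2 (flp_b L183685) L183683 L183687
theorem L183691 : sm gf N23565 = N19153 := ded_16_2 (flp_b L152120) (flp_f L105145) (flp_b L105127) L152074 L183687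
theorem L183693 : sm ga N19144 = N23566 := rfl
theorem L183695 : sm gf N23566 = N19145 := ded_11_2 (flp_a L152082) (flp_f L152080) L183693
theorem L183697 : sm gc N19144 = N23567 := rfl
theorem L183699 : sm gf N23567 = N19146 := ded_20_2 (flp_c L152084) (flp_f L152080) L183697
theorem L183701 : sm gd N22497 = N23567 := ded_28_1 (flp_c L183697) L183527 (flp_c L183523) L151980 L151984 L175697 (flp_a L175691) L175703
theorem L183703 : sm gg N19144 = N23568 := rfl
theorem L183705 : sm gb N19145 = N23569 := rfl
theorem L183707 : sm gd N23569 = N22165 := ded_14_2 (flp_b L183637) L183633 L183705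
theorem L183709 : sm ga N23569 = N22169 := ded_7_1 L173341 (flp_a L173643) L183213 (flp_a L151620) (flp_b L104915) (flp_a L89722) L105131 L152082 L183705
theorem L183711 : sm gg N22164 = N23569 := ded_24_0 L183707 (flp_g L173321) L173313
theorem L183713 : sm gc N19145 = N23570 := rfl
theorem L183715 : sm ga N23570 = N19146 := ded_8_1 (flp_c L152084) L152082 L183713
theorem L183717 : sm gg N19145 = N23571 := rfl
theorem L183719 : sm ga N23571 = N19147 := ded_12_1 (flp_g L152088) L152082 L183717
theorem L183721 : sm gd N23571 = N19951 := ded_24_1 (flp_g L183635) L183633 L183717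
theorem L183723 : sm gf N23571 = N23568 := ded_29_2 (flp_g L183703) L183693 L183695 L183717
theorem L183725 : sm gg N19146 = N23572 := rfl
theorem L183727 : sm gc N23572 = N19147 := ded_21_1 (flp_g L152088) L152084 L183725
theorem L183729 : sm gb N19221 = N23572 := ded_13_5 L183727 L152092 (flp_c L129042) L152256 L152564
theorem L183731 : sm gf N19147 = N23573 := rfl
theorem L183733 : sm ga N23573 = N23568 := ded_11_1 (flp_f L183723) L183719 L183731
theorem L183735 : sm gd N23573 = N19953 := ded_23_1 (flp_f L157847) (flp_d L152090) L183731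
theorem L183737 : sm gg N23573 = N23566 := ded_29_3 (flp_a L183693) L152080 L152088 L183731
theorem L183739 : sm gc N19148 = N23574 := rfl
theorem L183741 : sm ga N23574 = N19149 := ded_8_1 (flp_c L152100) L152094 L183739
theorem L183743 : sm gf N23574 = N22606 := ded_20_2 L176528 L152098 L183739
theorem L183745 : sm gb N19149 = N23575 := rfl
theorem L183747 : sm gc N23575 = N19152 := ded_13_2 (flp_b L152114) (flp_c L105135) L105133 L152100 L183745
theorem L183749 : sm gf N19320 = N23575 := ded_20_0 L183747 L152118 L153251
theorem L183751 : sm gd N19323 = N23575 := ded_28_5 L183747 L152116 (flp_a L152500) (flp_c L152498) (flp_d L152474) (flp_c L153219) L153221 (flp_c L153271)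
theorem L183753 : sm gd N19149 = N23576 := rfl
theorem L183755 : sm gb N23576 = N19323 := ded_14_1 L183751 (flp_b L183745) L183753
theorem L183757 : sm gf N19149 = N23577 := rfl
theorem L183759 : sm ga N23577 = N22606 := ded_11_1 (flp_f L183743) L183741 L183757
theorem L183761 : sm gc N23577 = N19150 := ded_20_1 (flp_f L152102) L152100 L183757
theorem L183763 : sm gg N23523 = N23577 := ded_12_0 L183759 L176530 (flp_a L183319)
theorem L183765 : sm gg N19149 = N23578 := rfl
theorem L183767 : sm gc N23578 = N19151 := ded_21_1 (flp_g L152108) L152100 L183765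
theorem L183769 : sm gf N22488 = N23578 := ded_29_0 (flp_g L183765) L183757 (flp_g L183763) L183319
theorem L183771 : sm ga N19152 = N23579 := rfl
theorem L183773 : sm gd N23579 = N19208 := ded_9_2 L152500 (flp_d L152116) L183771
theorem L183775 : sm gf N23579 = N19317 := ded_11_2 L153233 (flp_f L152118) L183771
theorem L183777 : sm gg N23575 = N23579 := ded_29_3 (flp_a L183771) L152118 L153255 L183749
theorem L183779 : sm gb N22241 = N23579 := ded_14_3 L183773 L152504 (flp_d L173803)
theorem L183781 : sm gg N19152 = N23580 := rfl
theorem L183783 : sm ga N23580 = N23575 := ded_12_1 L183777 (flp_a L183771) L183781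
theorem L183785 : sm gc N23580 = N23579 := ded_21_1 (flp_g L183777) L183747 L183781
theorem L183787 : sm gd N23580 = N19209 := ded_24_1 (flp_g L152506) (flp_d L152116) L183781
theorem L183789 : sm gb N23580 = N19169 := ded_17_1 (flp_g L152232) (flp_b L105169) (flp_g L105139) L152114 L183781
theorem L183791 : sm ga N19153 = N23581 := rfl
theorem L183793 : sm gd N23581 = N19230 := ded_9_2 (flp_a L152626) (flp_d L152122) L183791
theorem L183795 : sm gg N23581 = N22537 := ded_12_2 L175971 (flp_g L152124) L183791
theorem L183797 : sm gc N19153 = N23582 := rfl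
theorem L183799 : sm gg N23582 = N21972 := ded_21_2 L171954 (flp_g L152124) L183797
theorem L183801 : sm gb N23582 = N19155 := ded_13_1 (flp_c L152130) (flp_b L105149) (flp_c L105147) L152120 L183797
theorem L183803 : sm gd N23582 = N21974 := ded_28_7 L171962 L171944 L124001 L98915 (flp_d L98953) (flp_c L151421) (flp_d L152122) L183797
theorem L183805 : sm gc N19154 = N23583 := rfl
theorem L183807 : sm ga N23583 = N19155 := ded_8_1 (flp_c L152130) L152126 L183805
theorem L183809 : sm gf N23583 = N19158 := ded_20_2 (flp_c L152140) (flp_f L152128) L183805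
theorem L183811 : sm gg N23583 = N21982 := ded_21_2 (flp_c L172011) L152178 L183805
theorem L183813 : sm gb N23583 = N19224 := ded_13_1 L152582 L105356 (flp_c L151708) (flp_b L152158) L183805
theorem L183815 : sm gd N23583 = N21983 := ded_28_7 L172015 L121240 (flp_d L157611) L157621 L153720 L152949 L152638 L183805
theorem L183817 : sm gb N19158 = N23584 := rfl
theorem L183819 : sm gc N23584 = N19213 := ded_13_2 L152524 (flp_c L149053) L152156 L152140 L183817
theorem L183821 : sm gf N23584 = N19212 := ded_16_2 L152518 L152580 (flp_b L183813) L183809 L183817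
theorem L183823 : sm gb N19161 = N23585 := rfl
theorem L183825 : sm gd N23585 = N22027 := ded_14_2 L172326 L157987 L183823
theorem L183827 : sm gc N23585 = N19218 := ded_13_2 (flp_b L152552) L151600 (flp_b L105159) (flp_c L152172) L183823
theorem L183829 : sm gg N23585 = N19221 := ded_17_2 L183729 (flp_g L183725) L152086 L152170 L183823
theorem L183831 : sm ga N23585 = N19219 := ded_30_3 (flp_f L155526) (flp_c L155528) L152562 (flp_a L145969) L145973 L146062 (flp_b L143295) L120090 (flp_f L113026) L112980 L113028 (flp_a L143549) L163125 L163121 (flp_b L152136) (flp_a L152176) (flp_f L152174) (flp_c L152172) L183823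
theorem L183833 : sm gf N22026 = N23585 := ded_23_0 L183825 (flp_f L172318) L172310
theorem L183835 : sm gb N19165 = N23586 := rfl
theorem L183837 : sm gd N23586 = N20687 := ded_14_2 (flp_b L162362) (flp_d L152198) L183835
theorem L183839 : sm gf N23586 = N23549 := ded_16_2 (flp_b L183557) L183559 (flp_b L183569) L162317 L183835
theorem L183841 : sm gg N23586 = N22492 := ded_17_2 (flp_b L175659) (flp_g L123620) (flp_b L143437) L152194 L183835
theorem L183843 : sm gb N19167 = N23587 := rfl
theorem L183845 : sm gc N23587 = N19335 := ded_13_2 (flp_b L153337) L105778 (flp_b L146084) (flp_c L152222) L183843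
theorem L183847 : sm ga N23587 = N19278 := ded_7_1 (flp_b L152908) (flp_a L105581) (flp_b L89937) L39771 (flp_b L39645) (flp_a L89744) L105169 L152220 L183843
theorem L183849 : sm gd N19167 = N23588 := rfl
theorem L183851 : sm ga N23588 = N19168 := ded_9_1 (flp_d L152226) L152220 L183849
theorem L183853 : sm gf N23588 = N22478 := ded_23_2 (flp_d L175575) (flp_f L152224) L183849
theorem L183855 : sm gc N19168 = N23589 := rfl
theorem L183857 : sm gf N23589 = N22016 := ded_20_2 L172253 (flp_f L152230) L183855
theorem L183859 : sm gb N23589 = N19219 := ded_13_1 (flp_c L152554) (flp_b L105344) (flp_c L151536) (flp_b L152228) L183855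
theorem L183861 : sm gd N23589 = N22017 := ded_28_7 L172257 L172243 L123532 L98726 (flp_d L98764) (flp_c L143415) L152226 L183855
theorem L183863 : sm gg N19168 = N23590 := rfl
theorem L183865 : sm gd N23590 = N19169 := ded_24_1 (flp_g L152232) L152226 L183863
theorem L183867 : sm gb N23590 = N19209 := ded_17_1 (flp_g L152506) L105320 (flp_g L151542) (flp_b L152228) L183863
theorem L183869 : sm ge N19172 = N23591 := rfl
theorem L183871 : sm ga N23591 = N19179 := ded_10_1 (flp_e L152322) (flp_a L152264) L183869
theorem L183873 : sm gb N23591 = N19298 := ded_15_1 (flp_e L153115) (flp_b L152266) L183869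
theorem L183875 : sm gc N23591 = N21088 := ded_19_1 L166272 L152268 L183869
theorem L183877 : sm gf N23591 = N21090 := ded_25_2 L166290 L152272 L183869
theorem L183879 : sm gg N23591 = N20413 := ded_26_2 L160786 L152270 L183869
theorem L183881 : sm gf N19179 = N23592 := rfl
theorem L183883 : sm ga N23592 = N21090 := ded_11_1 (flp_f L183877) L183871 L183881
theorem L183885 : sm gc N23592 = N21089 := ded_20_1 L166286 (flp_c L154794) L183881
theorem L183887 : sm ge N23592 = N19180 := ded_25_1 (flp_f L152324) L152322 L183881
theorem L183889 : sm gc N19181 = N23593 := rfl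
theorem L183891 : sm gb N23593 = N19185 := ded_13_1 (flp_c L152360) (flp_b L105234) (flp_c L105228) L152332 L183889
theorem L183893 : sm gd N20760 = N23593 := ded_14_0 L183891 (flp_d L162126) (flp_b L162812)
theorem L183895 : sm gg N20704 = N23593 := ded_17_0 L183891 L162110 (flp_b L162104) (flp_g L149134) L162468
theorem L183897 : sm gg N19181 = N23594 := rfl
theorem L183899 : sm ga N23594 = N23593 := ded_12_1 (flp_g L183895) (flp_a L162800) L183897
theorem L183901 : sm gc N23594 = N20704 := ded_21_1 L183895 (flp_c L183889) L183897
theorem L183903 : sm gd N23594 = N22446 := ded_24_1 L175330 L162796 L183897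
theorem L183905 : sm gf N23594 = N22440 := ded_29_2 L183437 L175288 L175292 L183897
theorem L183907 : sm gb N20702 = N23594 := ded_13_5 L183901 (flp_b L162468) (flp_c L112506) L112502 L162462
theorem L183909 : sm ga N23025 = N20702 := ded_7_9 L183907 L183899 L183891 L152362 (flp_b L143541) L103324 L103342 L143587 L179931
theorem L183911 : sm gc N19981 = N23025 := ded_8_0 L183909 (flp_c L162462) (flp_a L158007)
theorem L183913 : sm gb N19182 = N23595 := rfl
theorem L183915 : sm gd N23595 = N20733 := ded_14_2 L162657 L162571 L183913
theorem L183917 : sm gc N23595 = N20703 := ded_13_2 (flp_b L183599) L183593 (flp_b L152010) (flp_c L152336) L183913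
theorem L183919 : sm gf N23595 = N20729 := ded_16_2 (flp_b L162643) (flp_f L112618) (flp_b L152292) L152338 L183913
theorem L183921 : sm gg N23595 = N20702 := ded_17_2 L183907 (flp_g L183897) (flp_b L152332) L152334 L183913
theorem L183923 : sm gb N19183 = N23596 := rfl
theorem L183925 : sm gd N23596 = N22533 := ded_14_2 L175943 L171492 L183923
theorem L183927 : sm gg N23596 = N22531 := ded_17_2 L175929 (flp_g L171688) L152282 (flp_g L152346) L183923
theorem L183929 : sm gf N19188 = N23597 := rfl
theorem L183931 : sm gc N23597 = N19304 := ded_20_1 (flp_f L153151) (flp_c L152388) L183929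
theorem L183933 : sm ge N23597 = N19189 := ded_25_1 (flp_f L152390) L152384 L183929
theorem L183935 : sm gb N19189 = N23598 := rfl
theorem L183937 : sm gd N23598 = N19190 := ded_14_2 (flp_b L152396) (flp_d L152394) L183935
theorem L183939 : sm gf N23598 = N19194 := ded_16_2 (flp_b L152422) (flp_f L105272) (flp_b L105252) L152390 L183935
theorem L183941 : sm ga N23598 = N22388 := ded_7_1 (flp_b L174910) (flp_a L123109) (flp_b L98431) (flp_a L85790) L98595 L123353 L162794 L155262 L183935
theorem L183943 : sm gg N19189 = N23599 := rfl
theorem L183945 : sm ga N23599 = N19866 := ded_12_1 L157271 L155262 L183943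
theorem L183947 : sm gc N23599 = N19306 := ded_21_1 (flp_g L153163) (flp_c L152392) L183943
theorem L183949 : sm gd N23599 = N19191 := ded_24_1 (flp_g L152400) (flp_d L152394) L183943
theorem L183951 : sm gf N19578 = N23599 := ded_29_0 (flp_g L183943) (flp_f L152390) (flp_g L149484) (flp_a L155218)
theorem L183953 : sm ga N19190 = N23600 := rfl
theorem L183955 : sm gd N23600 = N22388 := ded_9_2 (flp_a L183941) L183937 L183953
theorem L183957 : sm gf N23600 = N19195 := ded_11_2 (flp_a L152426) (flp_f L152398) L183953
theorem L183959 : sm gb N23600 = N22386 := ded_7_2 (flp_a L174900) (flp_b L123105) (flp_a L98589) L123349 L175288 (flp_b L175294) L152312 L152396 L183953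
theorem L183961 : sm gc N19190 = N23601 := rfl
theorem L183963 : sm gf N23601 = N19196 := ded_20_2 (flp_c L152428) (flp_f L152398) L183961
theorem L183965 : sm gg N19190 = N23602 := rfl
theorem L183967 : sm gb N19191 = N23603 := rfl
theorem L183969 : sm gb N19192 = N23604 := rfl
theorem L183971 : sm gd N23604 = N20018 := ded_14_2 L158211 L157269 L183969
theorem L183973 : sm gf N23604 = N20015 := ded_16_2 (flp_b L158197) (flp_f L109442) (flp_b L149488) L152404 L183969
theorem L183975 : sm gg N23604 = N23601 := ded_31_3 L183963 L152430 L152452 (flp_f L178153) (flp_b L179543) (flp_g L179541) L142999 (flp_b L104979) L89789 (flp_f L89783) L89775 L105264 L152404 L183969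
theorem L183977 : sm gc N23602 = N23604 := ded_21_3 L183975 (flp_c L183961) L183965
theorem L183979 : sm gb N19193 = N23605 := rfl
theorem L183981 : sm ge N23605 = N19194 := ded_15_2 (flp_b L152422) (flp_e L152418) L183979
theorem L183983 : sm ga N19194 = N23606 := rfl
theorem L183985 : sm gd N23606 = N19195 := ded_9_2 (flp_a L152426) (flp_d L152424) L183983
theorem L183987 : sm gf N23606 = N22388 := ded_11_2 (flp_a L183941) L183939 L183983
theorem L183989 : sm gg N20731 = N23606 := ded_31_0 L183987 (flp_b L174910) (flp_g L174665) L174954 (flp_b L174956) L161643 L157297 L161609 (flp_g L179929) L179927 L151550 (flp_g L112656) (flp_f L112630) L162651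
theorem L183991 : sm gc N19194 = N23607 := rfl
theorem L183993 : sm gb N23607 = N19205 := ded_13_1 (flp_c L152478) (flp_b L105296) (flp_c L105276) L152422 L183991
theorem L183995 : sm gd N19210 = N23607 := ded_14_0 L183993 (flp_d L152482) L152510
theorem L183997 : sm gg N19206 = N23607 := ded_17_0 L183993 L152484 (flp_b L105296) L105302 L152486
theorem L183999 : sm gg N19194 = N23608 := rfl
theorem L184001 : sm ga N23608 = N20731 := ded_12_1 L183989 (flp_a L183983) L183999
theorem L184003 : sm gc N23608 = N19206 := ded_21_1 L183997 (flp_c L183991) L183999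
theorem L184005 : sm gd N23608 = N19197 := ded_24_1 (flp_g L152432) (flp_d L152424) L183999
theorem L184007 : sm gf N23608 = N20007 := ded_29_2 (flp_g L174960) (flp_a L183941) L183939 L183999
theorem L184009 : sm gb N23608 = N23518 := ded_17_1 (flp_g L183289) (flp_b L151724) L105280 L152422 L183999
theorem L184011 : sm gb N19195 = N23609 := rfl
theorem L184013 : sm gg N19195 = N23610 := rfl
theorem L184015 : sm ga N23610 = N19197 := ded_12_1 (flp_g L152432) L152426 L184013
theorem L184017 : sm gc N23610 = N20015 := ded_21_1 (flp_g L176057) (flp_c L176079) L184013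
theorem L184019 : sm gd N23610 = N20731 := ded_24_1 L183989 L183985 L184013
theorem L184021 : sm gf N23610 = N23602 := ded_29_2 (flp_g L183965) L183953 L183957 L184013
theorem L184023 : sm gb N20727 = N23610 := ded_13_5 L184017 (flp_b L158197) (flp_c L149051) L152624 (flp_c L162625)
theorem L184025 : sm gg N19196 = N23611 := rfl
theorem L184027 : sm ga N23611 = N20015 := ded_12_1 (flp_g L176057) L176077 L184025
theorem L184029 : sm gc N23611 = N19197 := ded_21_1 (flp_g L152432) L152428 L184025
theorem L184031 : sm gd N23611 = N20016 := ded_24_1 (flp_g L176071) (flp_d L176075) L184025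
theorem L184033 : sm gf N19197 = N23612 := rfl
theorem L184035 : sm ga N23612 = N23602 := ded_11_1 (flp_f L184021) L184015 L184033
theorem L184037 : sm gd N23612 = N20007 := ded_23_1 (flp_f L184007) L184005 L184033
theorem L184039 : sm gg N23612 = N23600 := ded_29_3 (flp_a L183953) L152398 L152432 L184033
theorem L184041 : sm gb N23612 = N20009 := ded_16_1 (flp_f L161994) L183315 (flp_f L183307) (flp_b L152434) L184033
theorem L184043 : sm ge N19200 = N23613 := rfl
theorem L184045 : sm gb N19201 = N23614 := rfl
theorem L184047 : sm gc N23614 = N20910 := ded_13_2 L164921 L153457 (flp_b L105290) (flp_c L152454) L184045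
theorem L184049 : sm ga N19301 = N23614 := ded_28_8 L184047 (flp_d L164919) L157479 L109143 (flp_c L109515) (flp_d L158390) (flp_c L163810) L162520
theorem L184051 : sm ga N19202 = N23615 := rfl
theorem L184053 : sm ge N23615 = N19204 := ded_10_2 (flp_a L152472) (flp_e L152458) L184051
theorem L184055 : sm gf N23615 = N19310 := ded_11_2 (flp_a L153183) (flp_f L152460) L184051
theorem L184057 : sm gc N19202 = N23616 := rfl
theorem L184059 : sm ge N23616 = N19205 := ded_19_2 (flp_c L152478) (flp_e L152458) L184057
theorem L184061 : sm gf N23616 = N19311 := ded_20_2 (flp_c L153189) (flp_f L152460) L184057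
theorem L184063 : sm gg N19202 = N23616 := ded_26_0 L184059 L152484 (flp_e L152458)
theorem L184065 : sm gb N19203 = N23617 := rfl
theorem L184067 : sm ge N23617 = N19206 := ded_15_2 (flp_b L152486) (flp_e L152468) L184065
theorem L184069 : sm gf N23617 = N19771 := ded_16_2 (flp_b L156607) (flp_f L108166) L108158 L152470 L184065
theorem L184071 : sm ga N19206 = N23618 := rfl
theorem L184073 : sm gc N23618 = N20731 := ded_8_2 (flp_a L184001) L184003 L184071
theorem L184075 : sm gd N23618 = N19211 := ded_9_2 (flp_a L152514) (flp_d L152488) L184071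
theorem L184077 : sm gf N23618 = N20006 := ded_11_2 (flp_a L158147) (flp_f L152490) L184071
theorem L184079 : sm gb N23618 = N22372 := ded_7_2 L174840 L123075 (flp_a L123245) L175134 L175136 (flp_b L151724) (flp_a L105304) L152486 L184071
theorem L184081 : sm ga N19207 = N23619 := rfl
theorem L184083 : sm gc N23619 = N20696 := ded_8_2 L162418 L152496 L184081
theorem L184085 : sm gd N23619 = N20649 := ded_9_2 L162166 L162140 L184081
theorem L184087 : sm gf N23619 = N20695 := ded_11_2 L162410 (flp_f L152494) L184081
theorem L184089 : sm gg N20638 = N23619 := ded_29_3 (flp_a L184081) L152494 (flp_g L149796) L162116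
theorem L184091 : sm gg N19207 = N23620 := rfl
theorem L184093 : sm ga N23620 = N20638 := ded_12_1 L184089 (flp_a L184081) L184091
theorem L184095 : sm gc N23620 = N20697 := ded_21_1 (flp_g L162424) L152496 L184091
theorem L184097 : sm gd N23620 = N20646 := ded_24_1 (flp_g L162154) L162140 L184091
theorem L184099 : sm gf N20637 = N23620 := ded_29_0 (flp_g L184091) L152494 (flp_g L149796) L162112
theorem L184101 : sm ga N19210 = N23621 := rfl
theorem L184103 : sm gg N23621 = N19211 := ded_12_2 (flp_a L152514) (flp_g L152512) L184101
theorem L184105 : sm gc N19210 = N23622 := rfl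
theorem L184107 : sm gg N23622 = N19212 := ded_21_2 (flp_c L152516) (flp_g L152512) L184105
theorem L184109 : sm gd N22554 = N23622 := ded_28_1 (flp_c L184105) L183995 (flp_c L183991) L152424 L152428 L176075 (flp_a L176069) L176081
theorem L184111 : sm gf N19210 = N23623 := rfl
theorem L184113 : sm gb N19211 = N23624 := rfl
theorem L184115 : sm gd N23624 = N22372 := ded_14_2 (flp_b L184079) L184075 L184113
theorem L184117 : sm ga N23624 = N22375 := ded_7_1 L174852 (flp_a L175128) L175140 (flp_a L151728) (flp_b L104979) (flp_a L89807) L105324 L152514 L184113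
theorem L184119 : sm gf N22371 = N23624 := ded_23_0 L184115 (flp_f L174838) L174830
theorem L184121 : sm gc N19211 = N23625 := rfl
theorem L184123 : sm ga N23625 = N19212 := ded_8_1 (flp_c L152516) L152514 L184121
theorem L184125 : sm gf N19211 = N23626 := rfl
theorem L184127 : sm ga N23626 = N19213 := ded_11_1 (flp_f L152520) L152514 L184125
theorem L184129 : sm gd N23626 = N20006 := ded_23_1 (flp_f L184077) L184075 L184125
theorem L184131 : sm gg N23623 = N23626 := ded_29_1 (flp_f L184125) (flp_g L184103) (flp_a L184101) L184111
theorem L184133 : sm gg N19213 = N23627 := rfl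
theorem L184135 : sm ga N23627 = N23623 := ded_12_1 L184131 L184127 L184133
theorem L184137 : sm gd N23627 = N20008 := ded_24_1 (flp_g L158153) (flp_d L152522) L184133
theorem L184139 : sm gf N23621 = N23627 := ded_29_0 (flp_g L184133) (flp_f L152520) (flp_g L152512) L184101
theorem L184141 : sm gc N19214 = N23628 := rfl
theorem L184143 : sm ga N23628 = N19215 := ded_8_1 (flp_c L152532) L152526 L184141
theorem L184145 : sm gg N23628 = N22646 := ded_21_2 L176909 L152530 L184141
theorem L184147 : sm gd N19215 = N23629 := rfl
theorem L184149 : sm gb N23629 = N19266 := ded_14_1 (flp_d L183673) L183671 L184147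
theorem L184151 : sm gf N19215 = N23630 := rfl
theorem L184153 : sm gc N23630 = N19216 := ded_20_1 (flp_f L152534) L152532 L184151
theorem L184155 : sm gg N23630 = N22547 := ded_29_1 (flp_f L176911) (flp_g L184145) L184143 L184151
theorem L184157 : sm gg N19215 = N23631 := rfl
theorem L184159 : sm ga N23631 = N22646 := ded_12_1 (flp_g L184145) L184143 L184157
theorem L184161 : sm gc N23631 = N19217 := ded_21_1 (flp_g L152540) L152532 L184157
theorem L184163 : sm gf N23510 = N23631 := ded_29_0 (flp_g L184157) L184151 L184155 (flp_a L183237)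
theorem L184165 : sm gb N19228 = N23632 := rfl
theorem L184167 : sm gd N23632 = N20741 := ded_14_2 (flp_b L162680) (flp_d L152614) L184165
theorem L184169 : sm gf N23632 = N22552 := ded_16_2 (flp_b L176059) (flp_f L124095) (flp_b L151366) L152610 L184165
theorem L184171 : sm gg N23632 = N23609 := ded_17_2 (flp_b L184011) L184013 (flp_b L184023) (flp_g L162631) L184165
theorem L184173 : sm gb N19230 = N23633 := rfl
theorem L184175 : sm gc N23633 = N19278 := ded_13_2 (flp_b L152908) (flp_c L105748) (flp_b L151429) (flp_c L152628) L184173
theorem L184177 : sm ga N23633 = N19335 := ded_7_1 (flp_b L153337) (flp_a L105776) (flp_b L90027) L39869 (flp_b L39689) (flp_a L89835) L105374 L152626 L184173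
theorem L184179 : sm gb N19235 = N23634 := rfl
theorem L184181 : sm gd N23634 = N22129 := ded_14_2 L173032 L171872 L184179
theorem L184183 : sm ge N23634 = N21540 := ded_15_2 L169155 L167385 L184179
theorem L184185 : sm gc N23634 = N22410 := ded_13_2 L175114 (flp_c L163953) (flp_b L152708) (flp_c L152662) L184179
theorem L184187 : sm gg N23634 = N21535 := ded_17_2 (flp_b L169129) L117205 (flp_b L116072) L152658 L184179
theorem L184189 : sm ga N22529 = N23634 := ded_8_3 L184185 L175112 L175919
theorem L184191 : sm gg N19236 = N23635 := rfl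
theorem L184193 : sm gc N23635 = N19238 := ded_21_1 (flp_g L152680) L152664 L184191
theorem L184195 : sm gd N23635 = N22083 := ded_24_1 L172701 L172603 L184191
theorem L184197 : sm ge N23635 = N21036 := ded_26_1 (flp_g L165830) (flp_e L152666) L184191
theorem L184199 : sm gf N22079 = N23635 := ded_29_0 (flp_g L184191) (flp_f L152669) L165824 (flp_a L172661)
theorem L184201 : sm gg N19237 = N23636 := rfl
theorem L184203 : sm gc N23636 = N21035 := ded_21_1 (flp_g L165824) (flp_c L152673) L184201
theorem L184205 : sm gd N23636 = N19239 := ded_24_1 (flp_g L152686) (flp_d L152675) L184201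
theorem L184207 : sm ge N23636 = N21034 := ded_26_1 (flp_g L165816) (flp_e L152677) L184201
theorem L184209 : sm gf N21960 = N23636 := ded_29_0 (flp_g L184201) (flp_f L152671) L152680 (flp_a L171870)
theorem L184211 : sm gf N19238 = N23637 := rfl
theorem L184213 : sm ga N23637 = N23636 := ded_11_1 (flp_f L184209) L171870 L184211
theorem L184215 : sm gc N23637 = N22079 := ded_20_1 L184199 L184193 L184211
theorem L184217 : sm gd N23637 = N19240 := ded_23_1 (flp_f L152692) (flp_d L152682) L184211
theorem L184219 : sm ge N23637 = N21961 := ded_25_1 (flp_f L171884) L171842 L184211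
theorem L184221 : sm gg N23637 = N21959 := ded_29_3 L171858 (flp_f L152671) L152680 L184211
theorem L184223 : sm gb N19239 = N23638 := rfl
theorem L184225 : sm gg N23638 = N23638 := ded_17_2 (flp_b L184223) (flp_g L152686) L105429 L152686 L184223
theorem L184226 : sm gb N19240 = N23639 := rfl
theorem L184228 : sm gf N23639 = N22844 := ded_16_2 (flp_b L178543) (flp_f L129783) (flp_b L105434) L152692 L184226
theorem L184230 : sm ga N19244 = N23640 := rfl
theorem L184232 : sm gd N23640 = N22046 := ded_9_2 (flp_a L172448) (flp_d L152722) L184230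
theorem L184234 : sm gg N23640 = N22050 := ded_12_2 (flp_a L172472) (flp_g L152724) L184230
theorem L184236 : sm gc N19244 = N23641 := rfl
theorem L184238 : sm gg N23641 = N22051 := ded_21_2 (flp_c L172476) (flp_g L152724) L184236
theorem L184240 : sm gf N19244 = N23642 := rfl
theorem L184242 : sm gd N23642 = N22048 := ded_23_1 (flp_f L172460) (flp_d L152722) L184240
theorem L184244 : sm gb N23642 = N22409 := ded_16_1 L175106 (flp_b L152708) L105471 L152720 L184240
theorem L184246 : sm gc N19245 = N23643 := rfl
theorem L184248 : sm ga N23643 = N20994 := ded_8_1 (flp_c L183605) L183607 L184246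
theorem L184250 : sm gf N23643 = N19914 := ded_20_2 L180065 L180061 L184246
theorem L184252 : sm gd N23643 = N19915 := ded_28_7 L157605 L157397 L109045 (flp_c L109328) (flp_d L158090) L175458 L162202 L184246
theorem L184254 : sm gg N19246 = N23644 := rfl
theorem L184256 : sm gd N23644 = N19247 := ded_24_1 (flp_g L152736) L152728 L184254
theorem L184258 : sm ge N23644 = N19248 := ded_26_1 (flp_g L152740) (flp_e L152732) L184254
theorem L184260 : sm gf N19540 = N23644 := ded_29_0 (flp_g L184254) (flp_f L152734) L152736 (flp_a L154924)
theorem L184262 : sm gb N19785 = N23644 := ded_15_3 L184258 (flp_b L157769) (flp_e L156691)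
theorem L184264 : sm gb N19247 = N23645 := rfl
theorem L184266 : sm gd N23645 = N19785 := ded_14_2 L184262 L184256 L184264
theorem L184268 : sm ge N23645 = N19249 := ded_15_2 (flp_b L152744) (flp_e L152738) L184264
theorem L184270 : sm gg N23645 = N19252 := ded_17_2 (flp_b L152764) (flp_g L105491) (flp_b L105483) L152736 L184264
theorem L184272 : sm gf N19753 = N23645 := ded_31_1 (flp_b L184264) (flp_g L152736) L152734 L152730 L152758 L155822 (flp_b L156452) (flp_g L156448) (flp_f L156436) (flp_b L156432) L108121 (flp_f L108115) L108105 L156478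
theorem L184274 : sm ga N19720 = N23645 := ded_9_3 L184266 (flp_a L156689) (flp_d L156252)
theorem L184276 : sm gf N19247 = N23646 := rfl
theorem L184278 : sm ga N23646 = N23644 := ded_11_1 (flp_f L184260) L154924 L184276
theorem L184280 : sm gd N23646 = N19540 := ded_23_1 L184260 L184256 L184276
theorem L184282 : sm ge N23646 = N19250 := ded_25_1 (flp_f L152752) (flp_e L152738) L184276
theorem L184284 : sm gg N23646 = N19537 := ded_29_3 L154902 (flp_f L152734) L152736 L184276
theorem L184286 : sm gb N19251 = N23647 := rfl
theorem L184288 : sm gd N23647 = N19252 := ded_14_2 (flp_b L152764) (flp_d L152760) L184286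
theorem L184290 : sm ge N23647 = N20029 := ded_15_2 (flp_b L158259) (flp_e L152762) L184286
theorem L184292 : sm gg N23647 = N19785 := ded_17_2 L184262 (flp_g L184254) L152730 L152758 L184286
theorem L184294 : sm ga N19784 = N23647 := ded_9_3 L184288 (flp_a L156470) (flp_d L156681)
theorem L184296 : sm gd N19254 = N23648 := rfl
theorem L184298 : sm ga N23648 = N23348 := ded_9_1 L182239 L152782 L184296
theorem L184300 : sm gf N23648 = N23346 := ded_23_2 L182227 L152778 L184296
theorem L184302 : sm ge N23648 = N23352 := ded_22_2 L182269 L145390 (flp_d L120597) (flp_e L152776) L184296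
theorem L184304 : sm gb N19255 = N23649 := rfl
theorem L184306 : sm ge N23649 = N19257 := ded_15_2 (flp_b L152792) (flp_e L152786) L184304
theorem L184308 : sm gc N23649 = N20362 := ded_13_2 (flp_b L160494) (flp_c L111169) (flp_b L152772) (flp_c L152784) L184304
theorem L184310 : sm gf N23649 = N19256 := ded_16_2 (flp_b L152788) (flp_f L105505) L105501 L152780 L184304
theorem L184312 : sm gg N19255 = N23650 := rfl
theorem L184314 : sm ga N23650 = N23557 := ded_12_1 L183619 (flp_a L152782) L184312
theorem L184316 : sm gc N23650 = N23556 := ded_21_1 L183613 (flp_c L152784) L184312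
theorem L184318 : sm ge N23650 = N19258 := ded_26_1 (flp_g L152800) (flp_e L152786) L184312
theorem L184320 : sm gf N23556 = N23650 := ded_29_0 (flp_g L184312) (flp_f L152780) (flp_g L152022) L183609
theorem L184322 : sm gc N19256 = N23651 := rfl
theorem L184324 : sm ge N23651 = N19259 := ded_19_2 (flp_c L152810) (flp_e L152790) L184322
theorem L184326 : sm gf N23651 = N20362 := ded_20_2 (flp_c L184308) L184310 L184322
theorem L184328 : sm gb N23651 = N20438 := ded_13_1 L180167 (flp_b L180155) L143883 L152788 L184322
theorem L184330 : sm gg N19257 = N23652 := rfl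
theorem L184332 : sm ga N23652 = N22056 := ded_12_1 (flp_g L175555) L175553 L184330
theorem L184334 : sm gc N23652 = N20640 := ded_21_1 (flp_g L162124) (flp_c L152796) L184330
theorem L184336 : sm gd N23652 = N19268 := ded_24_1 (flp_g L152862) (flp_d L152794) L184330
theorem L184338 : sm gf N22054 = N23652 := ded_29_0 (flp_g L184330) L152798 (flp_g L121697) L172487
theorem L184340 : sm gb N23652 = N22454 := ded_17_1 L175398 (flp_b L183543) (flp_g L152800) L152792 L184330
theorem L184342 : sm gc N19260 = N23653 := rfl
theorem L184344 : sm ga N23653 = N19263 := ded_8_1 (flp_c L152836) (flp_a L152818) L184342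
theorem L184346 : sm gg N23653 = N23564 := ded_21_2 L183681 L183665 L184342
theorem L184348 : sm gb N23653 = N22166 := ded_13_1 (flp_c L173325) L122168 L122176 (flp_b L152820) L184342
theorem L184350 : sm gd N23653 = N19261 := ded_28_7 L152824 L105545 (flp_d L105521) (flp_c L120579) L105515 L105529 L152816 L184342
theorem L184352 : sm gf N19260 = N23653 := ded_11_0 L184344 (flp_f L152840) (flp_a L152818)
theorem L184354 : sm ge N19260 = N23654 := rfl
theorem L184356 : sm ga N23654 = N19264 := ded_10_1 (flp_e L152842) (flp_a L152818) L184354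
theorem L184358 : sm gb N23654 = N22171 := ded_15_1 (flp_e L173349) (flp_b L152820) L184354
theorem L184360 : sm gb N19261 = N23655 := rfl
theorem L184362 : sm gd N23655 = N22166 := ded_14_2 (flp_b L184348) L184350 L184360
theorem L184364 : sm gf N23655 = N22437 := ded_16_2 (flp_b L175280) (flp_f L123331) (flp_b L149786) L152822 L184360
theorem L184366 : sm ga N19262 = N23656 := rfl
theorem L184368 : sm gd N23656 = N19982 := ded_9_2 L158011 (flp_d L152832) L184366
theorem L184370 : sm gf N23656 = N19981 := ded_11_2 L158007 (flp_f L152834) L184366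
theorem L184372 : sm gb N23500 = N23656 := ded_14_3 L184368 (flp_b L162036) (flp_d L183173)
theorem L184374 : sm gc N19262 = N23657 := rfl
theorem L184376 : sm gf N23657 = N20702 := ded_20_2 (flp_c L162462) (flp_f L152834) L184374
theorem L184378 : sm gg N19262 = N23658 := rfl
theorem L184380 : sm gd N23658 = N20706 := ded_24_1 (flp_g L162480) (flp_d L152832) L184378
theorem L184382 : sm gb N23658 = N23568 := ded_17_1 (flp_g L183703) (flp_b L152078) L105537 L152830 L184378
theorem L184384 : sm gb N19263 = N23659 := rfl
theorem L184386 : sm gd N23659 = N19265 := ded_14_2 (flp_b L152846) (flp_d L152838) L184384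
theorem L184388 : sm gc N23659 = N19276 := ded_13_2 (flp_b L152896) (flp_c L105573) (flp_b L105541) L152836 L184384
theorem L184390 : sm gf N23659 = N19273 := ded_16_2 L152882 L105569 (flp_b L105541) L152840 L184384
theorem L184392 : sm ge N19263 = N23660 := rfl
theorem L184394 : sm gc N23660 = N19264 := ded_19_1 (flp_e L152842) L152836 L184392
theorem L184396 : sm gf N23660 = N19264 := ded_25_2 (flp_e L152842) L152840 L184392
theorem L184398 : sm ga N19265 = N23661 := rfl
theorem L184400 : sm gf N23661 = N19272 := ded_11_2 (flp_a L152878) (flp_f L152848) L184398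
theorem L184402 : sm gb N23513 = N23661 := ded_30_2 (flp_a L184398) L152848 (flp_c L105758) (flp_b L105756) L90017 L39853 (flp_c L18925) (flp_b L9155) L4639 (flp_f L4631) (flp_c L7815) L15928 L33120 L88192 L88196 L102333 L129308 L151654 (flp_c L183261)
theorem L184404 : sm gg N19265 = N23662 := rfl
theorem L184406 : sm gb N19268 = N23663 := rfl
theorem L184408 : sm gd N23663 = N22454 := ded_14_2 (flp_b L184340) L184336 L184406
theorem L184410 : sm ge N23663 = N21736 := ded_15_2 (flp_b L183555) L182365 L184406
theorem L184412 : sm gg N23663 = N19269 := ded_17_2 (flp_b L152864) (flp_g L105551) L105547 L152862 L184406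
theorem L184414 : sm ga N22453 = N23663 := ded_9_3 L184408 (flp_a L175396) (flp_d L175392)
theorem L184416 : sm gc N21737 = N23663 := ded_28_6 L184408 (flp_a L175396) L175400 (flp_d L178169) L178165 L154390 L163840 (flp_d L170386)
theorem L184418 : sm gf N19269 = N23664 := rfl
theorem L184420 : sm gb N23664 = N23561 := ded_16_1 (flp_f L183649) (flp_b L152054) L105555 L152864 L184418
theorem L184422 : sm gb N19270 = N23665 := rfl
theorem L184424 : sm gd N23665 = N22498 := ded_14_2 L175713 L172489 L184422
theorem L184426 : sm gg N23665 = N22493 := ded_17_2 (flp_b L175669) L123632 L146084 L152866 L184422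
theorem L184428 : sm ga N23542 = N23665 := ded_12_3 L184426 L175699 (flp_g L183501)
theorem L184430 : sm gc N23541 = N23665 := ded_21_3 L184426 (flp_c L175701) (flp_g L183495)
theorem L184432 : sm gb N19271 = N23666 := rfl
theorem L184434 : sm gd N23666 = N20582 := ded_14_2 (flp_b L172509) L172507 L184432
theorem L184436 : sm gf N23666 = N20581 := ded_16_2 (flp_b L161742) L120287 (flp_b L105561) L152872 L184432
theorem L184438 : sm gd N19272 = N23667 := rfl
theorem L184440 : sm ga N23667 = N19273 := ded_9_1 (flp_d L152880) L152878 L184438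
theorem L184442 : sm gb N23667 = N22172 := ded_14_1 L179783 (flp_b L179785) L184438
theorem L184444 : sm gg N19272 = N23668 := rfl
theorem L184446 : sm ga N23668 = N19274 := ded_12_1 (flp_g L152884) L152878 L184444
theorem L184448 : sm gf N23668 = N23662 := ded_29_2 (flp_g L184404) L184398 L184400 L184444
theorem L184450 : sm ge N19273 = N23669 := rfl
theorem L184452 : sm gb N23669 = N19275 := ded_15_1 (flp_e L152888) (flp_b L152882) L184450
theorem L184454 : sm gf N19274 = N23670 := rfl
theorem L184456 : sm ga N23670 = N23662 := ded_11_1 (flp_f L184448) L184446 L184454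
theorem L184458 : sm gg N23670 = N23661 := ded_29_3 (flp_a L184398) L152848 L152884 L184454
theorem L184460 : sm ga N19276 = N23671 := rfl
theorem L184462 : sm gd N23671 = N22360 := ded_9_2 L174723 (flp_d L152898) L184460
theorem L184464 : sm gg N23527 = N23671 := ded_29_3 (flp_a L184460) (flp_f L183357) (flp_g L183351) L183349
theorem L184466 : sm gb N21737 = N23671 := ded_14_3 L184462 L174725 (flp_d L170386)
theorem L184468 : sm ge N21708 = N23671 := ded_22_0 L184462 (flp_e L174721) (flp_d L123029) (flp_e L117847) L170214
theorem L184470 : sm ge N19276 = N23672 := rfl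
theorem L184472 : sm ga N23672 = N21708 := ded_10_1 L184468 (flp_a L184460) L184470
theorem L184474 : sm gb N23672 = N19277 := ded_15_1 (flp_e L152900) L152896 L184470
theorem L184476 : sm gd N23672 = N21706 := ded_22_1 L170200 L163830 L124219 (flp_d L152898) L184470
theorem L184478 : sm gg N19276 = N23673 := rfl
theorem L184480 : sm ga N23673 = N23527 := ded_12_1 L184464 (flp_a L184460) L184478
theorem L184482 : sm gd N23673 = N20811 := ded_24_1 (flp_g L164129) (flp_d L152898) L184478
theorem L184484 : sm gf N20810 = N23673 := ded_29_0 (flp_g L184478) (flp_f L183357) (flp_g L183351) (flp_a L164119)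
theorem L184486 : sm gb N23673 = N19290 := ded_17_1 (flp_g L152957) (flp_b L105597) (flp_g L105575) L152896 L184478
theorem L184488 : sm gd N19278 = N23674 := rfl
theorem L184490 : sm gb N23674 = N19279 := ded_14_1 (flp_d L152910) L152908 L184488
theorem L184492 : sm gc N21661 = N23674 := ded_13_0 L184490 (flp_c L178301) L178309 L149684 L169914
theorem L184494 : sm ge N23674 = N21663 := ded_19_2 (flp_c L169924) (flp_e L169918) L184492
theorem L184496 : sm gf N19278 = N23675 := rfl
theorem L184498 : sm gg N19278 = N23676 := rfl
theorem L184500 : sm ge N19279 = N23677 := rfl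
theorem L184502 : sm ga N23677 = N19283 := ded_10_1 (flp_e L152924) (flp_a L152912) L184500
theorem L184504 : sm gb N23677 = N21663 := ded_15_1 (flp_e L184494) L184490 L184500
theorem L184506 : sm gc N23677 = N21660 := ded_19_1 (flp_e L178305) L178301 L184500
theorem L184508 : sm gb N19280 = N23678 := rfl
theorem L184510 : sm ga N23678 = N22381 := ded_30_3 L176426 L176424 L174908 L143403 (flp_f L103296) (flp_c L88716) (flp_b L37253) (flp_a L17842) (flp_f L17840) L8679 L8693 L17866 L18919 (flp_c L39841) L90011 L105746 L153287 L153291 L184508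
theorem L184512 : sm gc N22386 = N23678 := ded_8_0 L184510 L174878 L174900
theorem L184514 : sm gg N22378 = N23678 := ded_12_0 L184510 (flp_g L174876) L174866
theorem L184516 : sm gb N19281 = N23679 := rfl
theorem L184518 : sm gb N19286 = N23680 := rfl
theorem L184520 : sm gg N23680 = N23680 := ded_17_2 (flp_b L184518) (flp_g L152937) L105589 L152937 L184518
theorem L184521 : sm gb N19287 = N23681 := rfl
theorem L184523 : sm gb N19288 = N23682 := rfl
theorem L184525 : sm ge N19288 = N23683 := rfl
theorem L184527 : sm ga N23683 = N19289 := ded_10_1 (flp_e L152951) L152947 L184525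
theorem L184529 : sm gc N23683 = N23332 := ded_19_1 L182107 (flp_c L152949) L184525
theorem L184531 : sm gg N19288 = N23684 := rfl
theorem L184533 : sm ga N23684 = N19290 := ded_12_1 (flp_g L152957) L152947 L184531
theorem L184535 : sm gc N23684 = N22822 := ded_21_1 L178317 (flp_c L152949) L184531
theorem L184537 : sm gd N23684 = N22698 := ded_24_1 L177322 L153720 L184531
theorem L184539 : sm gf N21019 = N23684 := ded_29_0 (flp_g L184531) L165726 (flp_g L165718) L165706
theorem L184541 : sm gg N19289 = N23685 := rfl
theorem L184543 : sm gc N23685 = N23333 := ded_21_1 (flp_g L182113) (flp_c L152955) L184541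
theorem L184545 : sm ge N23685 = N19290 := ded_26_1 (flp_g L152957) L152951 L184541
theorem L184547 : sm gf N21020 = N23685 := ded_20_0 L184543 (flp_f L182117) L180799
theorem L184549 : sm gb N19291 = N23686 := rfl
theorem L184551 : sm gd N23686 = N22340 := ded_14_2 L174559 L172151 L184549
theorem L184553 : sm ge N23686 = N21699 := ded_15_2 L170160 L167613 L184549
theorem L184555 : sm gc N23686 = N22210 := ded_13_2 L173629 L163963 (flp_b L153123) (flp_c L153071) L184549
theorem L184557 : sm gf N23686 = N21694 := ded_16_2 (flp_b L170134) (flp_f L117815) L148961 L153067 L184549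
theorem L184559 : sm ga N23686 = N22470 := ded_28_8 (flp_c L175529) (flp_d L123564) (flp_c L123975) L175110 (flp_c L184185) L184181 (flp_c L174555) (flp_d L184551)
theorem L184561 : sm gf N19293 = N23687 := rfl
theorem L184563 : sm gc N23687 = N19294 := ded_20_1 (flp_f L153086) L153079 L184561
theorem L184565 : sm gd N23687 = N22297 := ded_23_1 (flp_f L174198) L174114 L184561
theorem L184567 : sm ge N23687 = N21058 := ded_25_1 (flp_f L166021) (flp_e L153081) L184561
theorem L184569 : sm gg N23687 = N22294 := ded_29_3 L174166 (flp_f L165995) L153084 L184561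
theorem L184571 : sm gg N19294 = N23688 := rfl
theorem L184573 : sm gc N23688 = N22294 := ded_21_1 (flp_g L184569) L184563 L184571
theorem L184575 : sm gd N23688 = N19296 := ded_24_1 (flp_g L153101) (flp_d L153088) L184571
theorem L184577 : sm ge N23688 = N22005 := ded_26_1 L172175 L172133 L184571
theorem L184579 : sm gf N22004 = N23688 := ded_29_0 (flp_g L184571) (flp_f L153086) L153092 (flp_a L172157)
theorem L184581 : sm gf N19295 = N23689 := rfl
theorem L184583 : sm ga N23689 = N23688 := ded_11_1 (flp_f L184579) L172157 L184581
theorem L184585 : sm gc N23689 = N21056 := ded_20_1 (flp_f L165995) (flp_c L153094) L184581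
theorem L184587 : sm gd N23689 = N19297 := ded_23_1 (flp_f L153107) (flp_d L153096) L184581
theorem L184589 : sm ge N23689 = N21055 := ded_25_1 (flp_f L165987) (flp_e L153098) L184581
theorem L184591 : sm gg N23689 = N22003 := ded_29_3 L172149 (flp_f L153086) L153092 L184581
theorem L184593 : sm gb N19296 = N23690 := rfl
theorem L184595 : sm gg N23690 = N22850 := ded_17_2 (flp_b L178589) (flp_g L129834) (flp_b L105616) L153101 L184593
theorem L184597 : sm gb N19297 = N23691 := rfl
theorem L184599 : sm gf N23691 = N23691 := ded_16_2 (flp_b L184597) (flp_f L153107) L105622 L153107 L184597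
theorem L184600 : sm gc N19301 = N23692 := rfl
theorem L184602 : sm ga N23692 = N20910 := ded_8_1 (flp_c L184047) (flp_a L184049) L184600
theorem L184604 : sm gg N23692 = N19934 := ded_21_2 L179847 L179845 L184600
theorem L184606 : sm gd N23692 = N19935 := ded_28_7 L157739 L157479 L109143 (flp_c L109515) (flp_d L158390) (flp_c L163810) L162520 L184600
theorem L184608 : sm ga N19302 = N23693 := rfl
theorem L184610 : sm gd N23693 = N22265 := ded_9_2 (flp_a L173941) (flp_d L153139) L184608
theorem L184612 : sm gf N23693 = N22267 := ded_11_2 (flp_a L173951) (flp_f L153141) L184608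
theorem L184614 : sm gc N23693 = N22719 := ded_30_1 L177475 L126642 L126660 L163427 (flp_b L111649) (flp_a L93506) (flp_f L93504) (flp_c L93492) L147616 (flp_a L98301) (flp_f L98299) (flp_c L85669) (flp_b L93586) L102084 L98137 L102093 L122577 L173951 (flp_f L184612)
theorem L184616 : sm gc N19302 = N23694 := rfl
theorem L184618 : sm ga N23694 = N22719 := ded_8_1 (flp_c L184614) (flp_a L184608) L184616
theorem L184620 : sm gf N23694 = N22268 := ded_20_2 (flp_c L173955) (flp_f L153141) L184616
theorem L184622 : sm gd N22718 = N23694 := ded_9_0 L184618 (flp_d L177473) L177469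
theorem L184624 : sm gg N19302 = N23695 := rfl
theorem L184626 : sm gd N23695 = N22207 := ded_24_1 (flp_g L173609) (flp_d L153139) L184624
theorem L184628 : sm gb N23695 = N22209 := ded_17_1 L173623 (flp_b L153123) (flp_g L105664) L153137 L184624
theorem L184630 : sm gf N19303 = N23696 := rfl
theorem L184632 : sm gd N23696 = N19304 := ded_23_1 (flp_f L153151) L153143 L184630
theorem L184634 : sm ge N23696 = N19307 := ded_25_1 (flp_f L153167) (flp_e L153147) L184630
theorem L184636 : sm gg N23696 = N19542 := ded_29_3 L154938 (flp_f L153151) L153149 L184630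
theorem L184638 : sm gb N19747 = N23696 := ded_15_3 L184634 (flp_b L157635) (flp_e L156442)
theorem L184640 : sm gb N19304 = N23697 := rfl
theorem L184642 : sm gd N23697 = N19747 := ded_14_2 L184638 L184632 L184640
theorem L184644 : sm ge N23697 = N19305 := ded_15_2 (flp_b L153155) (flp_e L153153) L184640
theorem L184646 : sm gf N23697 = N19309 := ded_16_2 (flp_b L153179) (flp_f L105678) (flp_b L105670) L153151 L184640
theorem L184648 : sm gg N23697 = N19790 := ded_31_3 (flp_f L156719) (flp_b L108224) L108234 L108240 L156679 L156687 L156697 L156701 L155920 (flp_f L153173) (flp_b L153145) (flp_g L153149) L153151 L184640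
theorem L184650 : sm ga N19707 = N23697 := ded_9_3 L184642 (flp_a L156440) (flp_d L156142)
theorem L184652 : sm gg N19304 = N23698 := rfl
theorem L184654 : sm ga N23698 = N23696 := ded_12_1 L184636 L154938 L184652
theorem L184656 : sm gd N23698 = N19542 := ded_24_1 (flp_g L184636) L184632 L184652
theorem L184658 : sm ge N23698 = N19306 := ded_26_1 (flp_g L153163) (flp_e L153153) L184652
theorem L184660 : sm gf N19538 = N23698 := ded_29_0 (flp_g L184652) (flp_f L153151) L153149 L154912
theorem L184662 : sm gb N19308 = N23699 := rfl
theorem L184664 : sm gd N23699 = N19309 := ded_14_2 (flp_b L153179) (flp_d L153175) L184662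
theorem L184666 : sm ge N23699 = N19975 := ded_15_2 (flp_b L157961) (flp_e L153177) L184662
theorem L184668 : sm gf N23699 = N19747 := ded_16_2 L184638 (flp_f L184630) L153145 L153173 L184662
theorem L184670 : sm ga N19746 = N23699 := ded_9_3 L184664 (flp_a L156725) L156727
theorem L184672 : sm gd N19311 = N23700 := rfl
theorem L184674 : sm ga N23700 = N23407 := ded_9_1 L182601 L153197 L184672
theorem L184676 : sm gg N23700 = N23405 := ded_24_2 L182589 L153193 L184672
theorem L184678 : sm ge N23700 = N23411 := ded_22_2 L182631 L145608 (flp_d L151441) (flp_e L153191) L184672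
theorem L184680 : sm gb N19312 = N23701 := rfl
theorem L184682 : sm ge N23701 = N19314 := ded_15_2 (flp_b L153207) (flp_e L153201) L184680
theorem L184684 : sm gc N23701 = N20328 := ded_13_2 (flp_b L160264) (flp_c L111285) (flp_b L153187) (flp_c L153199) L184680
theorem L184686 : sm gg N23701 = N19313 := ded_17_2 (flp_b L153203) (flp_g L105692) L105688 L153195 L184680
theorem L184688 : sm gf N19312 = N23702 := rfl
theorem L184690 : sm ga N23702 = N23616 := ded_11_1 L184061 (flp_a L153197) L184688
theorem L184692 : sm gc N23702 = N23615 := ded_20_1 L184055 (flp_c L153199) L184688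
theorem L184694 : sm ge N23702 = N19315 := ded_25_1 (flp_f L153215) (flp_e L153201) L184688
theorem L184696 : sm gg N23702 = N23615 := ded_29_3 (flp_a L184051) L152460 L153195 L184688
theorem L184698 : sm gc N19313 = N23703 := rfl
theorem L184700 : sm ge N23703 = N19316 := ded_19_2 (flp_c L153225) (flp_e L153205) L184698
theorem L184702 : sm gg N23703 = N20328 := ded_21_2 (flp_c L184684) L184686 L184698
theorem L184704 : sm gb N23703 = N20404 := ded_13_1 L180191 (flp_b L180179) L144033 L153203 L184698
theorem L184706 : sm gf N19314 = N23704 := rfl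
theorem L184708 : sm ga N23704 = N22280 := ded_11_1 L175953 L175951 L184706
theorem L184710 : sm gc N23704 = N20602 := ded_20_1 (flp_f L161890) (flp_c L153211) L184706
theorem L184712 : sm gd N23704 = N19325 := ded_23_1 (flp_f L153281) (flp_d L153209) L184706
theorem L184714 : sm gg N23704 = N22278 := ded_29_3 (flp_a L174032) L150972 (flp_g L153213) L184706
theorem L184716 : sm gb N23704 = N22513 := ded_16_1 L175821 (flp_b L175838) (flp_f L153215) L153207 L184706
theorem L184718 : sm gc N19317 = N23705 := rfl
theorem L184720 : sm ga N23705 = N19320 := ded_8_1 (flp_c L153251) (flp_a L153233) L184718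
theorem L184722 : sm gf N23705 = N23580 := ded_20_2 L183785 L183775 L184718
theorem L184724 : sm gb N23705 = N22373 := ded_13_1 (flp_c L174842) L123071 (flp_c L122454) (flp_b L153235) L184718
theorem L184726 : sm gd N23705 = N19318 := ded_28_7 L153239 L105732 (flp_d L105708) (flp_c L151393) L105702 L105716 L153231 L184718
theorem L184728 : sm gg N19317 = N23705 := ded_12_0 L184720 (flp_g L153255) (flp_a L153233)
theorem L184730 : sm ge N19317 = N23706 := rfl
theorem L184732 : sm ga N23706 = N19321 := ded_10_1 (flp_e L153257) (flp_a L153233) L184730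
theorem L184734 : sm gb N23706 = N22249 := ded_15_1 L173851 (flp_b L153235) L184730
theorem L184736 : sm gb N19318 = N23707 := rfl
theorem L184738 : sm gd N23707 = N22373 := ded_14_2 (flp_b L184724) L184726 L184736
theorem L184740 : sm gg N23707 = N22253 := ded_17_2 (flp_b L173869) (flp_g L122468) (flp_b L151451) L153237 L184736
theorem L184742 : sm ga N19319 = N23708 := rfl
theorem L184744 : sm gd N23708 = N20037 := ded_9_2 L158317 (flp_d L153247) L184742
theorem L184746 : sm gg N23708 = N20035 := ded_12_2 L158307 (flp_g L153249) L184742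
theorem L184748 : sm gb N23501 = N23708 := ded_14_3 L184744 (flp_b L161806) (flp_d L183181)
theorem L184750 : sm gc N19319 = N23709 := rfl
theorem L184752 : sm gg N23709 = N20754 := ded_21_2 (flp_c L162764) (flp_g L153249) L184750
theorem L184754 : sm gf N19319 = N23710 := rfl
theorem L184756 : sm gd N23710 = N20757 := ded_23_1 (flp_f L162778) (flp_d L153247) L184754
theorem L184758 : sm gb N23710 = N23623 := ded_16_1 (flp_f L184111) (flp_b L152510) (flp_f L105724) L153245 L184754
theorem L184760 : sm gb N19320 = N23711 := rfl
theorem L184762 : sm gd N23711 = N19322 := ded_14_2 (flp_b L153261) (flp_d L153253) L184760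
theorem L184764 : sm gc N23711 = N19333 := ded_13_2 (flp_b L153325) (flp_c L105768) (flp_b L105728) L153251 L184760
theorem L184766 : sm gg N23711 = N19330 := ded_17_2 L153309 L105766 (flp_b L105728) L153255 L184760
theorem L184768 : sm ge N19320 = N23712 := rfl
theorem L184770 : sm gc N23712 = N19321 := ded_19_1 (flp_e L153257) L153251 L184768
theorem L184772 : sm gg N23712 = N19321 := ded_26_2 (flp_e L153257) L153255 L184768
theorem L184774 : sm ga N19322 = N23713 := rfl
theorem L184776 : sm gc N23713 = N23668 := ded_8_2 L184446 (flp_c L153263) L184774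
theorem L184778 : sm gg N23713 = N19329 := ded_12_2 (flp_a L153303) (flp_g L153265) L184774
theorem L184780 : sm gf N19322 = N23714 := rfl
theorem L184782 : sm gc N23714 = N23670 := ded_20_1 (flp_f L184454) (flp_c L153263) L184780
theorem L184784 : sm gb N19325 = N23715 := rfl
theorem L184786 : sm gd N23715 = N22513 := ded_14_2 (flp_b L184716) L184712 L184784
theorem L184788 : sm ge N23715 = N21577 := ded_15_2 L182743 L182733 L184784
theorem L184790 : sm gf N23715 = N19326 := ded_16_2 (flp_b L153285) (flp_f L105740) L105734 L153281 L184784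
theorem L184792 : sm ga N22512 = N23715 := ded_9_3 L184786 (flp_a L175819) (flp_d L175815)
theorem L184794 : sm gc N21578 = N23715 := ded_28_6 L184786 (flp_a L175819) L175823 (flp_d L178227) L178223 L154768 L163657 (flp_d L169387)
theorem L184796 : sm gg N19326 = N23716 := rfl
theorem L184798 : sm gb N23716 = N23620 := ded_17_1 (flp_g L184091) (flp_b L152492) (flp_g L105744) L153285 L184796
theorem L184800 : sm gb N19327 = N23717 := rfl
theorem L184802 : sm gd N23717 = N22555 := ded_14_2 L176089 L174034 L184800
theorem L184804 : sm gc N23717 = N23600 := ded_13_2 L183959 L184512 (flp_b L184508) (flp_c L153291) L184800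
theorem L184806 : sm gf N23717 = N22551 := ded_16_2 (flp_b L176053) (flp_f L124093) L151429 L153287 L184800
theorem L184808 : sm ga N23717 = N23601 := ded_30_3 L183963 (flp_c L152428) (flp_b L105282) L89785 (flp_f L39667) (flp_c L18827) (flp_b L9119) (flp_a L7813) L9117 L9115 L9141 L18873 L77514 L39769 L89937 L105581 L152914 (flp_c L153291) L184800
theorem L184810 : sm gb N19328 = N23718 := rfl
theorem L184812 : sm gd N23718 = N20620 := ded_14_2 (flp_b L174054) L174052 L184810
theorem L184814 : sm gg N23718 = N20619 := ded_17_2 (flp_b L161972) L149959 (flp_b L105754) L153295 L184810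
theorem L184816 : sm gd N19329 = N23719 := rfl
theorem L184818 : sm ga N23719 = N19330 := ded_9_1 (flp_d L153307) L153303 L184816
theorem L184820 : sm gb N23719 = N22378 := ded_14_1 L180003 L180001 L184816
theorem L184822 : sm gg N23681 = N23719 := ded_17_0 L184820 L184514 (flp_b L184508) (flp_g L152945) L184521
theorem L184824 : sm ga N23711 = N23681 := ded_12_3 L184822 L184818 (flp_g L184766)
theorem L184826 : sm gd N23713 = N23681 := ded_24_3 L184822 (flp_d L184816) (flp_g L184778)
theorem L184828 : sm gb N23526 = N23713 := ded_14_3 L184826 (flp_b L184521) (flp_d L183345)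
theorem L184830 : sm gf N19329 = N23720 := rfl
theorem L184832 : sm ga N23720 = N19331 := ded_11_1 (flp_f L153311) L153303 L184830
theorem L184834 : sm gc N23720 = N23661 := ded_20_1 L184400 (flp_c L153305) L184830
theorem L184836 : sm gg N23714 = N23720 := ded_29_1 (flp_f L184830) (flp_g L184778) (flp_a L184774) L184780
theorem L184838 : sm ge N19330 = N23721 := rfl
theorem L184840 : sm gb N23721 = N19332 := ded_15_1 (flp_e L153317) (flp_b L153309) L184838
theorem L184842 : sm gg N19331 = N23722 := rfl
theorem L184844 : sm ga N23722 = N23714 := ded_12_1 L184836 L184832 L184842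
theorem L184846 : sm gc N23722 = N23662 := ded_21_1 (flp_g L184404) (flp_c L153313) L184842
theorem L184848 : sm gf N23713 = N23722 := ded_29_0 (flp_g L184842) (flp_f L153311) (flp_g L153265) L184774
theorem L184850 : sm ga N19333 = N23723 := rfl
theorem L184852 : sm gc N23723 = N23681 := ded_8_2 (flp_a L184824) L184764 L184850
theorem L184854 : sm gd N23723 = N22152 := ded_9_2 L173204 (flp_d L153327) L184850
theorem L184856 : sm gf N23723 = N23515 := ded_29_0 (flp_g L183275) L183267 (flp_g L183273) L184850
theorem L184858 : sm gb N21578 = N23723 := ded_13_5 L184852 (flp_b L184521) (flp_c L153283) L184784 (flp_c L184794)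
theorem L184860 : sm ge N21549 = N23723 := ded_22_0 L184854 (flp_e L173202) (flp_d L122126) (flp_e L117237) L169209
theorem L184862 : sm ge N19333 = N23724 := rfl
theorem L184864 : sm ga N23724 = N21549 := ded_10_1 L184860 (flp_a L184850) L184862
theorem L184866 : sm gb N23724 = N19334 := ded_15_1 (flp_e L153329) L153325 L184862
theorem L184868 : sm gd N23724 = N21547 := ded_22_1 L169195 L163816 L124620 (flp_d L153327) L184862
theorem L184870 : sm gf N19333 = N23725 := rfl
theorem L184872 : sm ga N23725 = N23515 := ded_11_1 (flp_f L184856) (flp_a L184850) L184870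
theorem L184874 : sm gd N23725 = N20860 := ded_23_1 (flp_f L164532) (flp_d L153327) L184870
theorem L184876 : sm gg N23725 = N20814 := ded_29_3 L164480 L183267 (flp_g L183273) L184870
theorem L184878 : sm gb N23725 = N19347 := ded_16_1 (flp_f L153394) (flp_b L105798) (flp_f L105770) L153325 L184870
theorem L184880 : sm gd N19335 = N23726 := rfl
theorem L184882 : sm gb N23726 = N19336 := ded_14_1 (flp_d L153339) L153337 L184880
theorem L184884 : sm gc N23726 = N21501 := ded_28_2 L168911 L149766 (flp_d L169916) L184492 (flp_d L184488) (flp_a L183847) L183845 L184880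
theorem L184886 : sm ge N21503 = N23726 := ded_19_0 L184884 L168913 L168919
theorem L184888 : sm gf N19335 = N23727 := rfl
theorem L184890 : sm gg N19335 = N23728 := rfl
theorem L184892 : sm ge N19336 = N23729 := rfl
theorem L184894 : sm ga N23729 = N19340 := ded_10_1 (flp_e L153357) (flp_a L153341) L184892
theorem L184896 : sm gb N23729 = N21503 := ded_15_1 L184886 L184882 L184892
theorem L184898 : sm gc N23729 = N21500 := ded_19_1 (flp_e L178253) (flp_c L178261) L184892
theorem L184900 : sm gb N19337 = N23730 := rfl
theorem L184902 : sm gb N19338 = N23731 := rfl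
theorem L184904 : sm gc N23731 = N22181 := ded_13_2 (flp_b L183497) L184430 (flp_b L184422) (flp_c L153353) L184902
theorem L184906 : sm ga N22174 = N23731 := ded_8_3 L184904 (flp_a L173395) (flp_c L173365)
theorem L184908 : sm gf N22172 = N23731 := ded_30_0 L184904 (flp_b L183497) (flp_a L183491) L183505 L183507 (flp_b L183485) (flp_a L151962) (flp_f L151960) (flp_c L151876) L173881 (flp_a L173875) (flp_f L183413) (flp_c L173883) (flp_b L122484) L98045 (flp_f L97847) L97839 L122190 L173357
theorem L184910 : sm gb N19343 = N23732 := rfl
theorem L184912 : sm gd N23732 = N23661 := ded_14_2 (flp_b L184402) L183263 L184910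
theorem L184914 : sm gc N23732 = N23671 := ded_13_2 (flp_b L184466) L184416 (flp_b L184406) (flp_c L153372) L184910
theorem L184916 : sm gf N23732 = N23667 := ded_16_2 L184442 L184908 (flp_b L184902) L153374 L184910
theorem L184918 : sm ga N23659 = N23732 := ded_9_3 L184912 (flp_a L184398) (flp_d L184386)
theorem L184920 : sm gb N19344 = N23733 := rfl
theorem L184922 : sm gf N23733 = N23733 := ded_16_2 (flp_b L184920) (flp_f L153376) L105792 L153376 L184920
theorem L184923 : sm gb N19345 = N23734 := rfl
theorem L184925 : sm ge N19345 = N23735 := rfl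
theorem L184927 : sm ga N23735 = N19346 := ded_10_1 (flp_e L153388) L153384 L184925
theorem L184929 : sm gc N23735 = N23262 := ded_19_1 L181631 (flp_c L153386) L184925
theorem L184931 : sm gf N19345 = N23736 := rfl
theorem L184933 : sm ga N23736 = N19347 := ded_11_1 (flp_f L153394) L153384 L184931
theorem L184935 : sm gc N23736 = N22827 := ded_20_1 (flp_f L178367) (flp_c L153386) L184931
theorem L184937 : sm gd N23736 = N22732 := ded_23_1 (flp_f L177585) L153992 L184931
theorem L184939 : sm gg N23736 = N20938 := ded_29_3 (flp_a L165076) L165088 L165096 L184931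
theorem L184941 : sm gf N19346 = N23737 := rfl
theorem L184943 : sm gc N23737 = N23263 := ded_20_1 (flp_f L181637) (flp_c L153392) L184941
theorem L184945 : sm ge N23737 = N19347 := ded_25_1 (flp_f L153394) L153388 L184941
theorem L184947 : sm gg N20939 = N23737 := ded_21_0 L184943 L181641 L180909
theorem L184949 : sm gb N19351 = N23738 := rfl
theorem L184951 : sm gd N23738 = N20484 := ded_14_2 L161214 (flp_d L153536) L184949
theorem L184953 : sm ge N23738 = N19605 := ded_15_2 L155412 (flp_e L153538) L184949
theorem L184955 : sm gf N23738 = N23055 := ded_16_2 (flp_b L180193) (flp_f L150482) L144077 L153531 L184949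
theorem L184957 : sm gg N23738 = N19597 := ded_17_2 (flp_b L155372) L107537 (flp_b L153508) (flp_g L153540) L184949
theorem L184959 : sm gg N19353 = N23739 := rfl
theorem L184961 : sm ga N23739 = N19358 := ded_12_1 (flp_g L153592) (flp_a L153554) L184959
theorem L184963 : sm gc N23739 = N21255 := ded_21_1 L167401 L167350 L184959
theorem L184965 : sm gd N23739 = N19728 := ded_24_1 L156324 L156288 L184959
theorem L184967 : sm ge N23739 = N19354 := ded_26_1 (flp_g L153558) L153552 L184959
theorem L184969 : sm gf N23739 = N19699 := ded_29_2 (flp_g L156072) L156060 L156068 L184959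
theorem L184971 : sm gb N19355 = N23740 := rfl
theorem L184973 : sm gd N23740 = N19948 := ded_14_2 (flp_b L157817) (flp_d L153574) L184971
theorem L184975 : sm ge N23740 = N19357 := ded_15_2 (flp_b L153590) (flp_e L153576) L184971
theorem L184977 : sm gg N23740 = N19926 := ded_17_2 (flp_b L157681) L155586 L153546 L153568 L184971
theorem L184979 : sm ga N19927 = N23740 := ded_9_3 L184973 L157821 (flp_d L157687)
theorem L184981 : sm gc N20875 = N23740 := ded_19_3 L184975 (flp_c L164911) L164913
theorem L184983 : sm ga N19357 = N23741 := rfl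
theorem L184985 : sm gc N23741 = N20873 := ded_8_2 (flp_a L164909) L164911 L184983
theorem L184987 : sm gd N23741 = N19865 := ded_9_2 (flp_a L157263) L155748 L184983
theorem L184989 : sm ge N23741 = N19927 := ded_10_2 L184979 L184975 L184983
theorem L184991 : sm gg N23741 = N19897 := ded_12_2 (flp_a L157469) L155668 L184983
theorem L184993 : sm gf N23741 = N20907 := ded_29_0 (flp_g L164895) L157473 L155668 L184983
theorem L184995 : sm gb N19836 = N23741 := ded_13_5 L184985 (flp_b L164629) L120363 L143157 (flp_c L162895)
theorem L184997 : sm gf N19357 = N23742 := rfl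
theorem L184999 : sm ga N23742 = N20907 := ded_11_1 (flp_f L184993) (flp_a L184983) L184997
theorem L185001 : sm gc N23742 = N20906 := ded_20_1 L164915 L164911 L184997
theorem L185003 : sm gg N23742 = N19398 := ded_29_3 L154564 L157473 L155668 L184997
theorem L185005 : sm gf N19358 = N23743 := rfl
theorem L185007 : sm ga N23743 = N19699 := ded_11_1 (flp_f L184969) L184961 L185005
theorem L185009 : sm gc N23743 = N21251 := ded_20_1 L167393 L167389 L185005
theorem L185011 : sm gd N23743 = N19400 := ded_23_1 L156308 L156304 L185005
theorem L185013 : sm ge N23743 = N19359 := ded_25_1 (flp_f L153596) (flp_e L153594) L185005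
theorem L185015 : sm gg N23743 = N19698 := ded_29_3 (flp_a L156060) (flp_f L120309) L153592 L185005
theorem L185017 : sm gb N23743 = N19399 := ded_16_1 (flp_f L153902) (flp_b L147921) L156559 L156571 L185005
theorem L185019 : sm gf N19360 = N23744 := rfl
theorem L185021 : sm ga N23744 = N20991 := ded_11_1 (flp_f L165510) (flp_a L154526) L185019
theorem L185023 : sm gc N23744 = N20990 := ded_20_1 (flp_f L165502) L154516 L185019
theorem L185025 : sm gg N19395 = N23744 := ded_29_1 (flp_f L185019) (flp_g L157385) (flp_a L157387) L155704
theorem L185027 : sm gb N23744 = N23742 := ded_16_1 (flp_f L184997) (flp_b L153590) L105893 L153608 L185019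
theorem L185029 : sm gb N19361 = N23745 := rfl
theorem L185031 : sm gd N23745 = N19954 := ded_14_2 L157857 (flp_d L153614) L185029
theorem L185033 : sm ge N23745 = N19395 := ded_15_2 (flp_b L153880) (flp_e L153616) L185029
theorem L185035 : sm gf N23745 = N19906 := ded_16_2 (flp_b L157549) (flp_f L155632) L153858 (flp_f L153618) L185029
theorem L185037 : sm ga N23745 = N19907 := ded_7_1 L157557 (flp_a L157099) L184995 (flp_a L184983) (flp_b L153590) L105853 L105895 L153610 L185029
theorem L185039 : sm gc N20959 = N23745 := ded_30_1 (flp_b L185029) (flp_a L153610) L147901 L90241 L41406 L65484 L84061 L84057 L140308 L22800 (flp_f L10980) L10972 L22822 L47372 L94275 L94279 L94779 L114370 (flp_f L165254)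
theorem L185041 : sm gb N19362 = N23746 := rfl
theorem L185043 : sm gd N23746 = N19363 := ded_14_2 (flp_b L153630) (flp_d L153626) L185041
theorem L185045 : sm ge N23746 = N19364 := ded_15_2 (flp_b L153638) (flp_e L153628) L185041
theorem L185047 : sm gg N23746 = N19397 := ded_17_2 L156310 (flp_g L156300) (flp_b L120263) L153622 L185041
theorem L185049 : sm gf N19711 = N23746 := ded_31_1 (flp_b L185041) (flp_g L153622) (flp_f L120261) (flp_b L107775) (flp_g L91431) (flp_f L91425) L91419 L91423 L91443 L91447 L107375 (flp_f L107382) (flp_b L153868) (flp_g L156178)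
theorem L185051 : sm gc N21289 = N23746 := ded_30_1 (flp_b L185041) L153624 L155822 L155816 L184286 (flp_a L184294) L156685 L156150 (flp_b L116393) L95783 (flp_f L95771) (flp_c L95767) (flp_b L84540) (flp_a L25110) (flp_f L25114) L84521 L95731 L116269 L167586
theorem L185053 : sm ga N19712 = N23746 := ded_9_3 L185043 (flp_a L153634) (flp_d L156186)
theorem L185055 : sm ga N19365 = N23747 := rfl
theorem L185057 : sm gc N23747 = N19367 := ded_8_2 (flp_a L153666) (flp_c L153654) L185055
theorem L185059 : sm gd N23747 = N19654 := ded_9_2 (flp_a L155764) L155768 L185055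
theorem L185061 : sm ge N23747 = N19367 := ded_10_2 (flp_a L153666) (flp_e L153652) L185055
theorem L185063 : sm gf N23747 = N19629 := ded_11_2 L155596 L153890 L185055
theorem L185065 : sm gg N23747 = N19367 := ded_12_2 (flp_a L153666) (flp_g L153656) L185055
theorem L185067 : sm gg N19366 = N23748 := rfl
theorem L185069 : sm gc N23748 = N20878 := ded_21_1 (flp_g L164663) L153664 L185067
theorem L185071 : sm gd N23748 = N20003 := ded_24_1 (flp_g L158121) (flp_d L153660) L185067
theorem L185073 : sm ge N23748 = N23742 := ded_26_1 L185003 L153900 L185067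
theorem L185075 : sm gf N23740 = N23748 := ded_29_0 (flp_g L185067) L153662 L157683 L184979
theorem L185077 : sm ge N19369 = N23749 := rfl
theorem L185079 : sm ga N23749 = N19370 := ded_10_1 (flp_e L153688) (flp_a L153680) L185077
theorem L185081 : sm gc N23749 = N19506 := ded_19_1 L154664 L153686 L185077
theorem L185083 : sm gf N23749 = N20929 := ded_25_2 (flp_e L165037) (flp_f L153682) L185077
theorem L185085 : sm gg N23749 = N19458 := ded_26_2 (flp_e L154284) (flp_g L153684) L185077
theorem L185087 : sm gd N23749 = N20929 := ded_22_1 (flp_e L165037) (flp_d L114141) (flp_e L139141) L153678 L185077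
theorem L185089 : sm gd N19371 = N23750 := rfl
theorem L185091 : sm ga N23750 = N19372 := ded_9_1 (flp_d L153696) L153694 L185089
theorem L185093 : sm gb N23750 = N22986 := ded_14_1 (flp_d L179599) (flp_b L154262) L185089
theorem L185095 : sm gf N19371 = N23751 := rfl
theorem L185097 : sm ga N23751 = N19373 := ded_11_1 (flp_f L153700) L153694 L185095
theorem L185099 : sm gc N23751 = N20885 := ded_20_1 (flp_f L164717) L154260 L185095
theorem L185101 : sm gg N23751 = N20884 := ded_29_3 (flp_a L164937) L164935 L157803 L185095
theorem L185103 : sm gc N19372 = N23752 := rfl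
theorem L185105 : sm gb N23752 = N23528 := ded_13_1 L183353 L152882 L106055 (flp_b L153698) L185103
theorem L185107 : sm gd N19373 = N23752 := ded_14_0 L185105 L183355 L176209
theorem L185109 : sm gf N19372 = N23752 := ded_16_0 L185105 L183357 (flp_b L152896) (flp_f L106051) (flp_b L153698)
theorem L185111 : sm gg N23529 = N23752 := ded_17_0 L185105 (flp_g L183351) (flp_b L151766) L151772 L183359
theorem L185113 : sm ge N19372 = N23753 := rfl
theorem L185115 : sm gb N23753 = N19375 := ded_15_1 (flp_e L153706) (flp_b L153698) L185113
theorem L185117 : sm gd N23753 = N22467 := ded_22_1 (flp_e L175513) (flp_d L124169) L142796 L153696 L185113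
theorem L185119 : sm gg N19372 = N23754 := rfl
theorem L185121 : sm gc N23754 = N23529 := ded_21_1 L185111 (flp_c L185103) L185119
theorem L185123 : sm gd N23754 = N19374 := ded_24_1 (flp_g L153702) L153696 L185119
theorem L185125 : sm gb N23754 = N19384 := ded_17_1 (flp_g L153783) L106097 (flp_g L106053) (flp_b L153698) L185119
theorem L185127 : sm gb N19376 = N23755 := rfl
theorem L185129 : sm gd N23755 = N23682 := ded_14_2 (flp_b L184523) (flp_d L153720) L185127
theorem L185131 : sm ge N23755 = N20083 := ded_15_2 (flp_b L158599) (flp_e L153722) L185127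
theorem L185133 : sm ga N19378 = N23756 := rfl
theorem L185135 : sm gc N19378 = N23757 := rfl
theorem L185137 : sm gb N23757 = N19436 := ded_13_1 L154510 (flp_b L106799) (flp_c L106093) L153747 L185135
theorem L185139 : sm gf N19459 = N23757 := ded_30_0 (flp_c L185135) (flp_b L153747) (flp_a L106091) L106105 L106107 L90706 (flp_a L94707) (flp_f L94705) L83969 L94696 L114195 L148353 (flp_c L165969) L165975 L165798 (flp_f L165788) L165784 L165869 L165875
theorem L185141 : sm gd N19505 = N23757 := ded_14_0 L185137 (flp_d L165913) (flp_b L165921)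
theorem L185143 : sm gd N19378 = N23758 := rfl
theorem L185145 : sm gb N23758 = N19379 := ded_14_1 (flp_d L153749) L153747 L185143
theorem L185147 : sm ge N19378 = N23759 := rfl
theorem L185149 : sm gb N23759 = N19380 := ded_15_1 (flp_e L153757) L153747 L185147
theorem L185151 : sm gf N19378 = N23760 := rfl
theorem L185153 : sm gc N23760 = N19459 := ded_20_1 L185139 (flp_c L185135) L185151
theorem L185155 : sm gb N19448 = N23760 := ded_13_5 L185153 (flp_b L154292) (flp_c L106783) (flp_b L106729) L154230
theorem L185157 : sm ge N19379 = N23761 := rfl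
theorem L185159 : sm ga N23761 = N19383 := ded_10_1 (flp_e L153779) (flp_a L153751) L185157
theorem L185161 : sm gc N23761 = N22774 := ded_19_1 L177892 L153753 L185157
theorem L185163 : sm gg N23761 = N22773 := ded_26_2 L177886 L153755 L185157
theorem L185165 : sm gf N19380 = N23762 := rfl
theorem L185167 : sm ga N23762 = N19385 := ded_11_1 (flp_f L153793) (flp_a L153759) L185165
theorem L185169 : sm gc N23762 = N19471 := ded_20_1 (flp_f L154354) (flp_c L153761) L185165
theorem L185171 : sm ge N23762 = N19381 := ded_25_1 (flp_f L153763) L153757 L185165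
theorem L185173 : sm gg N19380 = N23763 := rfl
theorem L185175 : sm ga N23763 = N19386 := ded_12_1 (flp_g L153800) (flp_a L153759) L185173
theorem L185177 : sm gc N23763 = N19472 := ded_21_1 (flp_g L154362) (flp_c L153761) L185173
theorem L185179 : sm ge N23763 = N19382 := ded_26_1 (flp_g L153769) L153757 L185173
theorem L185181 : sm gf N23763 = N22809 := ded_29_2 L178167 (flp_a L185167) (flp_f L185165) L185173
theorem L185183 : sm gb N22657 = N23763 := ded_15_3 L185179 (flp_b L164051) (flp_e L177011)
theorem L185185 : sm gb N19381 = N23764 := rfl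
theorem L185187 : sm gd N23764 = N22982 := ded_14_2 L179569 L178147 L185185
theorem L185189 : sm gf N23764 = N19448 := ded_16_2 L185155 (flp_f L185151) (flp_b L153747) L153763 L185185
theorem L185191 : sm gg N23764 = N22981 := ded_31_3 L179561 L143027 L153445 (flp_f L94604) L83911 (flp_g L47113) L83451 (flp_b L86715) L100043 L125856 L164051 (flp_g L153769) L153763 L185185
theorem L185193 : sm gc N19450 = N23764 := ded_30_1 (flp_b L185185) L153765 (flp_f L106105) L90204 (flp_b L41322) L19627 (flp_f L11414) (flp_c L5663) (flp_b L5490) (flp_a L10956) L22798 (flp_c L47324) L94235 L113336 (flp_f L164184) (flp_c L165478) L165486 L154224 L154236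
theorem L185195 : sm gg N19383 = N23765 := rfl
theorem L185197 : sm ga N23765 = N22773 := ded_12_1 (flp_g L185163) L185159 L185195
theorem L185199 : sm gc N23765 = N22771 := ded_21_1 (flp_g L177870) L177848 L185195
theorem L185201 : sm ge N23765 = N19384 := ded_26_1 (flp_g L153783) L153779 L185195
theorem L185203 : sm gf N22770 = N23765 := ded_29_0 (flp_g L185195) L177844 L177841 (flp_a L177860)
theorem L185205 : sm gf N19386 = N23766 := rfl
theorem L185207 : sm ga N23766 = N22809 := ded_11_1 (flp_f L185181) L185175 L185205
theorem L185209 : sm gc N23766 = N19478 := ded_20_1 (flp_f L154398) (flp_c L153802) L185205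
theorem L185211 : sm ge N23766 = N19387 := ded_25_1 (flp_f L153806) (flp_e L153804) L185205
theorem L185213 : sm gg N23766 = N23762 := ded_29_3 L185167 (flp_f L153793) L153800 L185205
theorem L185215 : sm gb N19387 = N23767 := rfl
theorem L185217 : sm gd N23767 = N22808 := ded_14_2 (flp_b L178159) (flp_d L153812) L185215
theorem L185219 : sm gb N19391 = N23768 := rfl
theorem L185221 : sm gd N23768 = N20482 := ded_14_2 L161202 (flp_d L153848) L185219
theorem L185223 : sm ge N23768 = N19601 := ded_15_2 L155394 (flp_e L153850) L185219
theorem L185225 : sm gf N23768 = N19595 := ded_16_2 (flp_b L155360) (flp_f L107519) (flp_b L153820) L153852 L185219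
theorem L185227 : sm gg N23768 = N23053 := ded_17_2 (flp_b L180169) (flp_g L150476) L143925 L153843 L185219
theorem L185229 : sm gf N19393 = N23769 := rfl
theorem L185231 : sm ga N23769 = N19397 := ded_11_1 (flp_f L153894) (flp_a L153866) L185229
theorem L185233 : sm gc N23769 = N21293 := ded_20_1 (flp_f L167631) L167598 L185229
theorem L185235 : sm gd N23769 = N19765 := ded_23_1 (flp_f L156557) L156535 L185229
theorem L185237 : sm ge N23769 = N19394 := ded_25_1 (flp_f L153870) L153864 L185229
theorem L185239 : sm gg N23769 = N19712 := ded_29_3 L185053 (flp_f L185049) L156178 L185229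
theorem L185241 : sm ga N19395 = N23770 := rfl
theorem L185243 : sm gc N23770 = N20958 := ded_8_2 (flp_a L165524) L165526 L185241
theorem L185245 : sm gd N23770 = N19887 := ded_9_2 (flp_a L157375) L155794 L185241
theorem L185247 : sm ge N23770 = N19907 := ded_10_2 (flp_a L185037) L185033 L185241
theorem L185249 : sm gf N23770 = N19888 := ded_11_2 (flp_a L157387) L155704 L185241
theorem L185251 : sm gg N23770 = N20991 := ded_12_2 (flp_a L185021) (flp_g L185025) L185241
theorem L185253 : sm gb N23770 = N19843 := ded_7_2 L157147 (flp_b L157689) L184979 (flp_b L184971) L153570 L149249 (flp_a L106166) L153880 L185241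
theorem L185255 : sm ga N19401 = N23771 := rfl
theorem L185257 : sm gc N23771 = N19403 := ded_8_2 (flp_a L153938) (flp_c L153922) L185255
theorem L185259 : sm gd N23771 = N19646 := ded_9_2 L155722 L155710 L185255
theorem L185261 : sm ge N23771 = N19403 := ded_10_2 (flp_a L153938) (flp_e L153920) L185255
theorem L185263 : sm gf N23771 = N19403 := ded_11_2 (flp_a L153938) (flp_f L153924) L185255
theorem L185265 : sm gg N23771 = N19624 := ded_12_2 L155550 (flp_g L153926) L185255
theorem L185267 : sm gf N19402 = N23772 := rfl
theorem L185269 : sm gc N23772 = N20926 := ded_20_1 (flp_f L165021) L153936 L185267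
theorem L185271 : sm gd N23772 = N19947 := ded_23_1 (flp_f L157813) (flp_d L153930) L185267
theorem L185273 : sm ge N23772 = N23744 := ded_25_1 (flp_f L185019) (flp_e L153932) L185267
theorem L185275 : sm gg N23772 = N23745 := ded_29_3 L185037 (flp_f L157551) (flp_g L153934) L185267
theorem L185277 : sm gb N23772 = N23748 := ded_16_1 (flp_f L185075) (flp_b L184971) (flp_f L153578) L153928 L185267
theorem L185279 : sm ge N19405 = N23773 := rfl
theorem L185281 : sm ga N23773 = N19406 := ded_10_1 (flp_e L153960) (flp_a L153952) L185279
theorem L185283 : sm gc N23773 = N19461 := ded_19_1 L154308 L153958 L185279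
theorem L185285 : sm gf N23773 = N19460 := ded_25_2 (flp_e L154296) (flp_f L153954) L185279
theorem L185287 : sm gg N23773 = N21011 := ded_26_2 (flp_e L165662) (flp_g L153956) L185279
theorem L185289 : sm gd N23773 = N21011 := ded_22_1 (flp_e L165662) (flp_d L114706) (flp_e L141837) L153950 L185279
theorem L185291 : sm gd N19407 = N23774 := rfl
theorem L185293 : sm ga N23774 = N19408 := ded_9_1 (flp_d L153968) L153966 L185291
theorem L185295 : sm gb N23774 = N22990 := ded_14_1 (flp_d L179627) (flp_b L154468) L185291
theorem L185297 : sm gg N19407 = N23775 := rfl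
theorem L185299 : sm ga N23775 = N19410 := ded_12_1 (flp_g L153976) L153966 L185297
theorem L185301 : sm gc N23775 = N20967 := ded_21_1 L165312 L154464 L185297
theorem L185303 : sm gf N20966 = N23775 := ded_29_0 (flp_g L185297) (flp_f L157669) (flp_g L165556) (flp_a L165560)
theorem L185305 : sm gc N19408 = N23776 := rfl
theorem L185307 : sm gb N23776 = N23514 := ded_13_1 L183269 L153309 L106376 (flp_b L153970) L185305
theorem L185309 : sm gd N19410 = N23776 := ded_14_0 L185307 L183271 L176630
theorem L185311 : sm gf N23516 = N23776 := ded_16_0 L185307 (flp_f L183267) (flp_b L151656) L151662 L183277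
theorem L185313 : sm gg N19408 = N23776 := ded_17_0 L185307 (flp_g L183273) (flp_b L153325) (flp_g L106374) (flp_b L153970)
theorem L185315 : sm ge N19408 = N23777 := rfl
theorem L185317 : sm gb N23777 = N19411 := ded_15_1 (flp_e L153978) (flp_b L153970) L185315
theorem L185319 : sm gd N23777 = N22526 := ded_22_1 (flp_e L175903) (flp_d L124586) (flp_e L142696) L153968 L185315
theorem L185321 : sm gf N19408 = N23778 := rfl
theorem L185323 : sm gc N23778 = N23516 := ded_20_1 L185311 (flp_c L185305) L185321
theorem L185325 : sm gd N23778 = N19409 := ded_23_1 (flp_f L153972) L153968 L185321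
theorem L185327 : sm gb N23778 = N19420 := ded_16_1 (flp_f L154051) L106420 (flp_f L106372) (flp_b L153970) L185321
theorem L185329 : sm gb N19412 = N23779 := rfl
theorem L185331 : sm gd N23779 = N23734 := ded_14_2 (flp_b L184923) (flp_d L153992) L185329
theorem L185333 : sm ge N23779 = N20100 := ded_15_2 (flp_b L158726) (flp_e L153994) L185329
theorem L185335 : sm ga N19414 = N23780 := rfl
theorem L185337 : sm gc N19414 = N23781 := rfl
theorem L185339 : sm gb N23781 = N19491 := ded_13_1 L154548 (flp_b L107021) (flp_c L106416) L154013 L185337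
theorem L185341 : sm gd N19457 = N23781 := ded_14_0 L185339 (flp_d L166098) (flp_b L166106)
theorem L185343 : sm gg N19455 = N23781 := ded_17_0 L185339 (flp_g L165368) L165370 L153684 (flp_b L154274)
theorem L185345 : sm gd N19414 = N23782 := rfl
theorem L185347 : sm gb N23782 = N19415 := ded_14_1 (flp_d L154015) L154013 L185345
theorem L185349 : sm ge N19414 = N23783 := rfl
theorem L185351 : sm gb N23783 = N19416 := ded_15_1 (flp_e L154023) L154013 L185349
theorem L185353 : sm gg N19414 = N23784 := rfl
theorem L185355 : sm gc N23784 = N19455 := ded_21_1 L185343 (flp_c L185337) L185353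
theorem L185357 : sm gb N19498 = N23784 := ded_13_5 L185355 L154274 L106773 (flp_b L106963) L154604
theorem L185359 : sm ge N19415 = N23785 := rfl
theorem L185361 : sm ga N23785 = N19419 := ded_10_1 (flp_e L154047) (flp_a L154017) L185359
theorem L185363 : sm gc N23785 = N22783 := ded_19_1 L177957 L154019 L185359
theorem L185365 : sm gf N23785 = N22782 := ded_25_2 L177951 (flp_f L154021) L185359
theorem L185367 : sm gf N19416 = N23786 := rfl
theorem L185369 : sm ga N23786 = N19421 := ded_11_1 (flp_f L154061) (flp_a L154025) L185367
theorem L185371 : sm gc N23786 = N19513 := ded_20_1 (flp_f L154718) (flp_c L154027) L185367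
theorem L185373 : sm ge N23786 = N19417 := ded_25_1 (flp_f L154029) L154023 L185367
theorem L185375 : sm gg N23786 = N22815 := ded_29_1 L178225 (flp_g L154067) (flp_a L154025) L185367
theorem L185377 : sm gb N22702 = N23786 := ded_30_2 L185369 (flp_f L154061) L106426 L90826 L41476 L83897 L83901 (flp_b L142605) L22623 (flp_f L75664) L13253 L27604 L86087 L99153 L99157 L99949 L125646 L147059 (flp_c L177346)
theorem L185379 : sm gg N19416 = N23787 := rfl
theorem L185381 : sm ga N23787 = N19422 := ded_12_1 (flp_g L154067) (flp_a L154025) L185379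
theorem L185383 : sm gc N23787 = N19514 := ded_21_1 (flp_g L154724) (flp_c L154027) L185379
theorem L185385 : sm ge N23787 = N19418 := ded_26_1 (flp_g L154041) L154023 L185379
theorem L185387 : sm gb N19418 = N23788 := rfl
theorem L185389 : sm gd N23788 = N22973 := ded_14_2 L179501 L178205 L185387
theorem L185391 : sm gg N23788 = N19498 := ded_17_2 L185357 (flp_g L185353) (flp_b L154013) L154041 L185387
theorem L185393 : sm gf N22972 = N23788 := ded_31_1 (flp_b L185387) (flp_g L154041) L154029 (flp_b L154039) (flp_g L126668) (flp_f L100467) L86962 L82727 L47452 (flp_b L84067) L94883 (flp_f L152999) (flp_b L142951) (flp_g L179493)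
theorem L185395 : sm gc N19500 = N23788 := ded_28_6 L185389 (flp_a L179525) L179527 (flp_d L149021) (flp_c L114624) L94889 (flp_c L106967) (flp_d L154614)
theorem L185397 : sm gf N19419 = N23789 := rfl
theorem L185399 : sm ga N23789 = N22782 := ded_11_1 (flp_f L185365) L185361 L185397
theorem L185401 : sm gc N23789 = N22780 := ded_20_1 L177935 L177913 L185397
theorem L185403 : sm ge N23789 = N19420 := ded_25_1 (flp_f L154051) L154047 L185397
theorem L185405 : sm gg N23789 = N22779 := ded_29_3 L177925 (flp_f L177906) (flp_g L177909) L185397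
theorem L185407 : sm gg N19421 = N23790 := rfl
theorem L185409 : sm ga N23790 = N22815 := ded_12_1 (flp_g L185375) L185369 L185407
theorem L185411 : sm gc N23790 = N19519 := ded_21_1 (flp_g L154758) (flp_c L154063) L185407
theorem L185413 : sm ge N23790 = N19423 := ded_26_1 (flp_g L154074) (flp_e L154065) L185407
theorem L185415 : sm gf N23787 = N23790 := ded_29_0 (flp_g L185407) (flp_f L154061) L154067 (flp_a L185381)
theorem L185417 : sm gb N19423 = N23791 := rfl
theorem L185419 : sm gd N23791 = N22814 := ded_14_2 (flp_b L178217) (flp_d L154080) L185417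
theorem L185421 : sm gb N19425 = N23792 := rfl
theorem L185423 : sm gb N19426 = N23793 := rfl
theorem L185425 : sm gd N23793 = N19636 := ded_14_2 (flp_b L155648) (flp_d L154102) L185423
theorem L185427 : sm ge N23793 = N19427 := ded_15_2 (flp_b L154108) (flp_e L154104) L185423
theorem L185429 : sm gg N23793 = N19429 := ded_17_2 (flp_b L154122) (flp_g L106639) (flp_b L106623) L154100 L185423
theorem L185431 : sm ga N19427 = N23794 := rfl
theorem L185433 : sm gg N23794 = N19430 := ded_12_2 (flp_a L154128) (flp_g L154110) L185431
theorem L185435 : sm gc N19427 = N23795 := rfl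
theorem L185437 : sm gg N23795 = N19431 := ded_21_2 (flp_c L154130) (flp_g L154110) L185435
theorem L185439 : sm gf N19427 = N23795 := ded_29_2 L185437 (flp_a L154136) (flp_f L154134) (flp_g L154110)
theorem L185441 : sm gb N19428 = N23796 := rfl
theorem L185443 : sm ge N23796 = N23792 := ded_15_2 (flp_b L185421) (flp_e L154118) L185441
theorem L185445 : sm gc N19429 = N23797 := rfl
theorem L185447 : sm ge N23797 = N19431 := ded_19_2 (flp_c L154130) (flp_e L154126) L185445
theorem L185449 : sm gb N23797 = N20875 := ded_13_1 L184981 (flp_b L184971) L153572 L154122 L185445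
theorem L185451 : sm gd N19508 = N23797 := ded_28_3 (flp_c L185445) L154124 L154260 L185089 L185091 L185103 (flp_d L185107) (flp_c L154678)
theorem L185453 : sm gf N19507 = N23797 := ded_30_0 (flp_c L185445) (flp_b L154122) L106641 (flp_f L150524) (flp_c L106272) (flp_b L90273) (flp_a L88887) L88889 (flp_c L40203) L74195 L19079 L19103 (flp_c L40247) L90273 L106270 L153578 L153572 L154122 (flp_a L154670)
theorem L185455 : sm gf N19429 = N23798 := rfl
theorem L185457 : sm ga N23798 = N23797 := ded_11_1 (flp_f L185453) L154670 L185455
theorem L185459 : sm gc N23798 = N19507 := ded_20_1 L185453 (flp_c L185445) L185455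
theorem L185461 : sm gd N23798 = N20885 := ded_23_1 (flp_f L164717) (flp_d L154124) L185455
theorem L185463 : sm ge N23798 = N19432 := ded_25_1 (flp_f L154134) (flp_e L154126) L185455
theorem L185465 : sm gb N23798 = N19511 := ded_16_1 L154708 (flp_b L154148) (flp_f L106665) L154122 L185455
theorem L185467 : sm gg N19516 = N23798 := ded_31_0 (flp_f L185455) (flp_b L154122) (flp_g L106639) L106633 L120324 (flp_g L90640) (flp_f L90636) L90632 L90634 L90656 (flp_b L90832) L107059 (flp_f L107063) L154738
theorem L185469 : sm gd N19431 = N23799 := rfl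
theorem L185471 : sm ga N23799 = N21046 := ded_9_1 L165907 L154136 L185469
theorem L185473 : sm gf N23799 = N21044 := ded_23_2 L165897 L154132 L185469
theorem L185475 : sm ge N23799 = N23757 := ded_22_2 (flp_d L185141) (flp_e L154680) L185451 L185447 L185469
theorem L185477 : sm gc N23799 = N23759 := ded_30_1 L185149 L153759 L153793 L153795 L106829 (flp_a L146403) (flp_f L94742) L83984 (flp_b L84265) (flp_a L95201) L95209 (flp_c L115066) L146696 L114899 (flp_f L114891) L114869 L114971 L165895 (flp_f L185473)
theorem L185479 : sm gg N19432 = N23800 := rfl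
theorem L185481 : sm ga N23800 = N23795 := ded_12_1 L185437 (flp_a L154136) L185479
theorem L185483 : sm gc N23800 = N23794 := ded_21_1 L185433 (flp_c L154138) L185479
theorem L185485 : sm gd N23800 = N20890 := ded_24_1 L165909 L165907 L185479
theorem L185487 : sm ge N23800 = N19516 := ded_26_1 L185467 L185463 L185479
theorem L185489 : sm gf N23794 = N23800 := ded_29_0 (flp_g L185479) (flp_f L154134) (flp_g L154110) L185431
theorem L185491 : sm gb N23800 = N19514 := ded_17_1 (flp_g L154724) (flp_b L154686) (flp_g L154690) L154180 L185479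
theorem L185493 : sm ga N19434 = N23801 := rfl
theorem L185495 : sm gc N23801 = N19467 := ded_8_2 L154512 (flp_c L154152) L185493
theorem L185497 : sm gd N23801 = N20909 := ded_9_2 L164909 L164631 L185493
theorem L185499 : sm ge N23801 = N19436 := ded_10_2 (flp_a L154168) (flp_e L154150) L185493
theorem L185501 : sm gg N23801 = N19510 := ded_12_2 L154694 (flp_g L154154) L185493
theorem L185503 : sm gb N23801 = N23799 := ded_7_2 L185471 (flp_b L165947) L165939 (flp_b L153944) L106314 (flp_b L106274) L150518 L154148 L185493
theorem L185505 : sm gf N19437 = N23802 := rfl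
theorem L185507 : sm ga N23802 = N19468 := ded_11_1 (flp_f L154338) (flp_a L154496) L185505
theorem L185509 : sm gc N23802 = N19438 := ded_20_1 (flp_f L154178) L154172 L185505
theorem L185511 : sm gd N23802 = N20990 := ded_23_1 (flp_f L165502) (flp_d L154500) L185505
theorem L185513 : sm ge N23802 = N20976 := ded_25_1 (flp_f L165360) (flp_e L154174) L185505
theorem L185515 : sm gb N23802 = N23749 := ded_16_1 L185083 (flp_b L165508) (flp_f L165502) (flp_b L154498) L185505
theorem L185517 : sm gf N19443 = N23803 := rfl
theorem L185519 : sm ga N23803 = N23788 := ded_11_1 (flp_f L185393) L179491 L185517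
theorem L185521 : sm gc N23803 = N19444 := ded_20_1 (flp_f L154216) L154214 L185517
theorem L185523 : sm gd N23803 = N22976 := ded_23_1 (flp_f L179529) (flp_d L179487) L185517
theorem L185525 : sm gg N23803 = N22975 := ded_29_3 L179515 L164470 L164466 L185517
theorem L185527 : sm ga N19447 = N23804 := rfl
theorem L185529 : sm ge N23804 = N19636 := ded_10_2 (flp_a L155652) L154620 L185527
theorem L185531 : sm gg N23804 = N19504 := ded_12_2 (flp_a L154650) (flp_g L154228) L185527
theorem L185533 : sm gb N19627 = N23804 := ded_15_3 L185529 (flp_b L155648) (flp_e L155576)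
theorem L185535 : sm ge N19448 = N23805 := rfl
theorem L185537 : sm gc N23805 = N19449 := ded_19_1 (flp_e L154232) L154230 L185535
theorem L185539 : sm gf N19449 = N23806 := rfl
theorem L185541 : sm ga N23806 = N20979 := ded_11_1 (flp_f L165606) (flp_a L165610) L185539
theorem L185543 : sm gd N23806 = N20987 := ded_23_1 L165498 L165494 L185539
theorem L185545 : sm ge N23806 = N19450 := ded_25_1 (flp_f L154236) L154232 L185539
theorem L185547 : sm gg N23806 = N20977 := ded_29_3 (flp_a L165372) (flp_f L165274) L165276 L185539
theorem L185549 : sm gb N19450 = N23807 := rfl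
theorem L185551 : sm gd N23807 = N19451 := ded_14_2 (flp_b L154240) (flp_d L154238) L185549
theorem L185553 : sm gc N23807 = N19473 := ded_13_2 (flp_b L154368) (flp_c L153767) L185185 (flp_c L185193) L185549
theorem L185555 : sm gf N23807 = N19462 := ded_16_2 (flp_b L154310) (flp_f L106791) (flp_b L106729) L154236 L185549
theorem L185557 : sm gg N23807 = N19473 := ded_17_2 (flp_b L154368) (flp_g L106847) L154406 L154410 L185549
theorem L185559 : sm gf N19454 = N23808 := rfl
theorem L185561 : sm ga N23808 = N19456 := ded_11_1 (flp_f L154276) L154270 L185559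
theorem L185563 : sm ge N23808 = N19641 := ded_25_1 L155686 L154466 L185559
theorem L185565 : sm gb N23808 = N19632 := ded_16_1 (flp_f L155618) L107627 L148363 (flp_b L154470) L185559
theorem L185567 : sm gg N19454 = N23809 := rfl
theorem L185569 : sm ga N23809 = N19457 := ded_12_1 (flp_g L154282) L154270 L185567
theorem L185571 : sm ge N23809 = N20967 := ded_26_1 L165312 L154466 L185567
theorem L185573 : sm gf N23809 = N20964 := ded_29_2 L165296 (flp_a L185561) (flp_f L185559) L185567
theorem L185575 : sm gb N23809 = N20960 := ded_17_1 (flp_g L165258) (flp_b L114328) L114332 (flp_b L154470) L185567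
theorem L185577 : sm gf N19457 = N23810 := rfl
theorem L185579 : sm ga N23810 = N20964 := ded_11_1 (flp_f L185573) L185569 L185577
theorem L185581 : sm ge N23810 = N20965 := ded_25_1 L165302 L154324 L185577
theorem L185583 : sm gg N23810 = N23808 := ded_29_3 L185561 (flp_f L154276) L154282 L185577
theorem L185585 : sm gc N19462 = N23811 := rfl
theorem L185587 : sm ge N23811 = N19488 := ded_19_2 L165538 L154474 L185585
theorem L185589 : sm gf N23811 = N19473 := ded_20_2 (flp_c L185553) L185555 L185585
theorem L185591 : sm gb N23811 = N19468 := ded_13_1 (flp_c L164695) L164701 (flp_c L153958) L154310 L185585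
theorem L185593 : sm gd N23811 = N20967 := ded_28_7 L165310 L154322 L185309 (flp_c L185305) (flp_d L153968) (flp_c L106797) (flp_d L154312) L185585
theorem L185595 : sm gg N19485 = N23811 := ded_26_0 L185587 (flp_g L154480) (flp_e L154456)
theorem L185597 : sm gg N19462 = N23812 := rfl
theorem L185599 : sm ga N23812 = N23811 := ded_12_1 (flp_g L185595) L154458 L185597
theorem L185601 : sm gc N23812 = N19485 := ded_21_1 L185595 (flp_c L185585) L185597
theorem L185603 : sm gd N23812 = N19464 := ded_24_1 (flp_g L154320) (flp_d L154312) L185597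
theorem L185605 : sm ge N23812 = N19487 := ded_26_1 (flp_g L165534) L154474 L185597
theorem L185607 : sm gb N23812 = N20959 := ded_17_1 (flp_g L165256) L165019 L114143 L154310 L185597
theorem L185609 : sm gd N19467 = N23813 := rfl
theorem L185611 : sm ga N23813 = N20954 := ded_9_1 L165196 (flp_a L154512) L185609
theorem L185613 : sm gb N23813 = N19470 := ded_14_1 (flp_d L154346) (flp_b L154336) L185609
theorem L185615 : sm gf N23813 = N21070 := ded_23_2 L166128 (flp_f L154574) L185609
theorem L185617 : sm gg N23813 = N20952 := ded_24_2 L165179 (flp_g L154522) L185609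
theorem L185619 : sm ge N23813 = N20980 := ded_22_2 L165398 L114516 (flp_d L106801) L154334 L185609
theorem L185621 : sm gb N19469 = N23814 := rfl
theorem L185623 : sm gd N23814 = N20992 := ded_14_2 (flp_b L165516) (flp_d L154344) L185621
theorem L185625 : sm ge N23814 = N20975 := ded_15_2 (flp_b L165358) L154506 L185621
theorem L185627 : sm gg N23814 = N19474 := ded_17_2 (flp_b L154372) (flp_g L106813) L106799 L154342 L185621
theorem L185629 : sm gc N22694 = N23814 := ded_21_3 L185627 L164061 L177275
theorem L185631 : sm ga N23814 = N22709 := ded_8_1 (flp_c L177407) L177281 L185629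
theorem L185633 : sm gc N20975 = N22710 := ded_19_3 L177415 L185629 L185625
theorem L185635 : sm gc N20881 = N22674 := ded_13_4 (flp_b L177277) L185629 (flp_b L185621) (flp_c L154502) L164689
theorem L185637 : sm gf N22709 = N20975 := ded_20_0 L185633 (flp_f L177409) L177407
theorem L185639 : sm gg N22672 = N20881 := ded_21_0 L185635 (flp_g L177138) L177130
theorem L185641 : sm gf N19469 = N23815 := rfl
theorem L185643 : sm ga N23815 = N19489 := ded_11_1 L154488 (flp_a L154492) L185641
theorem L185645 : sm gc N23815 = N19509 := ded_20_1 (flp_f L154688) L154502 L185641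
theorem L185647 : sm gd N23815 = N20993 := ded_23_1 (flp_f L165522) (flp_d L154344) L185641
theorem L185649 : sm ge N23815 = N19491 := ded_25_1 L154538 L154506 L185641
theorem L185651 : sm gg N23815 = N23802 := ded_29_3 L185507 (flp_f L154338) L154342 L185641
theorem L185653 : sm gc N19470 = N23816 := rfl
theorem L185655 : sm ga N23816 = N19475 := ded_8_1 (flp_c L154376) (flp_a L154348) L185653
theorem L185657 : sm ge N23816 = N20981 := ded_19_2 (flp_c L165408) (flp_e L154350) L185653
theorem L185659 : sm gf N23816 = N20973 := ded_20_2 (flp_c L165352) L154352 L185653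
theorem L185661 : sm gg N23816 = N22398 := ded_21_2 L175007 L165348 L185653
theorem L185663 : sm gb N19471 = N23817 := rfl
theorem L185665 : sm gd N23817 = N20972 := ded_14_2 (flp_b L165350) (flp_d L154358) L185663
theorem L185667 : sm ge N23817 = N19473 := ded_15_2 (flp_b L154368) (flp_e L154360) L185663
theorem L185669 : sm gf N23817 = N19488 := ded_16_2 (flp_b L154576) (flp_f L154574) L154336 L154354 L185663
theorem L185671 : sm gb N19472 = N23818 := rfl
theorem L185673 : sm gd N23818 = N20999 := ded_14_2 L165576 L165346 L185671
theorem L185675 : sm ge N23818 = N19474 := ded_15_2 (flp_b L154372) (flp_e L154366) L185671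
theorem L185677 : sm gc N23818 = N22658 := ded_13_2 (flp_b L177015) (flp_c L177009) L185183 L185177 L185671
theorem L185679 : sm gf N23818 = N19474 := ded_16_2 (flp_b L154372) L106839 (flp_b L154396) (flp_f L154394) L185671
theorem L185681 : sm gg N23818 = N20975 := ded_17_2 (flp_b L165358) (flp_g L154522) L154336 L154362 L185671
theorem L185683 : sm ga N19473 = N23819 := rfl
theorem L185685 : sm gd N23819 = N20965 := ded_9_2 (flp_a L165298) (flp_d L154370) L185683
theorem L185687 : sm gf N23819 = N23812 := ded_11_2 L185599 L185589 L185683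
theorem L185689 : sm ga N19474 = N23820 := rfl
theorem L185691 : sm gc N23820 = N22693 := ded_8_2 (flp_a L177273) (flp_c L164061) L185689
theorem L185693 : sm gd N23820 = N20997 := ded_9_2 (flp_a L165564) (flp_d L154374) L185689
theorem L185695 : sm gg N23820 = N22709 := ded_12_2 (flp_a L185631) L185627 L185689
theorem L185697 : sm gd N19475 = N23821 := rfl
theorem L185699 : sm gb N23821 = N22980 := ded_14_1 (flp_d L179555) L154580 L185697
theorem L185701 : sm gf N23821 = N20974 := ded_23_2 (flp_d L165356) (flp_f L154380) L185697
theorem L185703 : sm gc N23664 = N23821 := ded_13_0 L185699 (flp_c L179549) (flp_b L162752) (flp_c L183653) (flp_b L184420)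
theorem L185705 : sm gg N19475 = N23822 := rfl
theorem L185707 : sm ga N23822 = N22398 := ded_12_1 (flp_g L185661) L185655 L185705
theorem L185709 : sm gc N23822 = N19476 := ded_21_1 (flp_g L154382) L154376 L185705
theorem L185711 : sm ge N23822 = N20983 := ded_26_1 (flp_g L165428) (flp_e L154378) L185705
theorem L185713 : sm gf N22396 = N23822 := ded_29_0 (flp_g L185705) L154380 (flp_g L163862) (flp_a L174990)
theorem L185715 : sm gb N19481 = N23823 := rfl
theorem L185717 : sm gb N19482 = N23824 := rfl
theorem L185719 : sm gd N23824 = N19641 := ded_14_2 (flp_b L155684) (flp_d L154432) L185717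
theorem L185721 : sm ge N23824 = N19483 := ded_15_2 (flp_b L154438) (flp_e L154434) L185717
theorem L185723 : sm gf N23824 = N19485 := ded_16_2 (flp_b L154452) (flp_f L106865) (flp_b L106855) L154430 L185717
theorem L185725 : sm gg N23824 = N23819 := ded_31_3 L185687 L185607 (flp_g L165256) (flp_f L165021) (flp_b L114476) (flp_g L114474) (flp_f L106927) (flp_b L106925) L90760 (flp_f L90726) L90720 (flp_g L148601) L154430 L185717
theorem L185727 : sm ga N23824 = N23807 := ded_30_3 L185555 L185585 L185591 (flp_a L185507) (flp_f L185505) (flp_c L154172) (flp_b L106681) (flp_a L90638) (flp_f L90636) (flp_c L90073) L105895 L153610 L153618 L106162 (flp_b L106855) (flp_a L154416) L154450 L154446 L185717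
theorem L185729 : sm gc N23819 = N23824 := ded_30_1 (flp_b L185717) (flp_a L154444) (flp_f L154450) L154418 L106855 L90724 L90738 (flp_c L147894) (flp_b L105895) (flp_a L105853) L105893 L105891 L106681 L154168 L164699 L164695 (flp_b L185591) (flp_a L185599) (flp_f L185687)
theorem L185731 : sm ga N19483 = N23825 := rfl
theorem L185733 : sm ge N23825 = N23807 := ded_10_2 (flp_a L185727) L185721 L185731
theorem L185735 : sm gf N23825 = N19486 := ded_11_2 (flp_a L154472) (flp_f L154440) L185731
theorem L185737 : sm gg N23817 = N23825 := ded_29_3 (flp_a L185731) L154440 L154480 (flp_f L185669)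
theorem L185739 : sm gb N23806 = N23825 := ded_15_3 L185733 (flp_b L185549) (flp_e L185545)
theorem L185741 : sm gc N23817 = N23825 := ded_19_3 L185733 L185553 (flp_e L185667)
theorem L185743 : sm gc N19483 = N23826 := rfl
theorem L185745 : sm ga N23826 = N23817 := ded_8_1 L185741 (flp_a L185731) L185743
theorem L185747 : sm ge N23826 = N23819 := ded_19_2 L185729 L185721 L185743
theorem L185749 : sm gf N23826 = N19487 := ded_20_2 (flp_c L154478) (flp_f L154440) L185743
theorem L185751 : sm gg N19483 = N23826 := ded_12_0 L185745 L185737 (flp_a L185731)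
theorem L185753 : sm gb N19484 = N23827 := rfl
theorem L185755 : sm ge N23827 = N23823 := ded_15_2 (flp_b L185715) (flp_e L154448) L185753
theorem L185757 : sm ga N23827 = N20999 := ded_7_1 L165576 L165344 (flp_b L154590) L154584 L185549 (flp_a L185727) (flp_b L185717) (flp_a L154444) L185753
theorem L185759 : sm gf N20997 = N23827 := ded_11_0 L185757 (flp_f L165574) L165564
theorem L185761 : sm gd N19487 = N23828 := rfl
theorem L185763 : sm ga N23828 = N21067 := ded_9_1 L166092 L165536 L185761
theorem L185765 : sm gb N23828 = N23815 := ded_14_1 L185647 (flp_b L165532) L185761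
theorem L185767 : sm gg N23828 = N21065 := ded_24_2 L166082 L165534 L185761
theorem L185769 : sm ge N23828 = N23781 := ded_22_2 (flp_d L185341) (flp_e L154324) (flp_d L185603) L185605 L185761
theorem L185771 : sm gc N23783 = N23828 := ded_13_0 L185765 L185645 L154686 (flp_c L154027) (flp_b L185351)
theorem L185773 : sm gg N19492 = N23829 := rfl
theorem L185775 : sm ga N23829 = N19511 := ded_12_1 (flp_g L154702) L154546 L185773
theorem L185777 : sm gc N23829 = N19493 := ded_21_1 (flp_g L154570) L154540 L185773
theorem L185779 : sm gd N23829 = N20906 := ded_24_1 (flp_g L164889) (flp_d L154550) L185773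
theorem L185781 : sm ge N23829 = N20882 := ded_26_1 (flp_g L164691) (flp_e L154542) L185773
theorem L185783 : sm gf N23801 = N23829 := ded_29_0 (flp_g L185773) L154544 (flp_g L154154) L185493
theorem L185785 : sm gb N23829 = N23773 := ded_17_1 L185287 L165664 (flp_g L164889) (flp_b L154552) L185773
theorem L185787 : sm gg N19494 = N23830 := rfl
theorem L185789 : sm ga N23830 = N23764 := ded_12_1 L185191 L179559 L185787
theorem L185791 : sm gc N23830 = N19495 := ded_21_1 (flp_g L154582) L154578 L185787
theorem L185793 : sm gd N23830 = N22985 := ded_24_1 L179597 (flp_d L179555) L185787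
theorem L185795 : sm gf N22984 = N23830 := ded_29_0 (flp_g L185787) L164055 (flp_g L164057) (flp_a L179583)
theorem L185797 : sm ge N19498 = N23831 := rfl
theorem L185799 : sm gc N23831 = N19499 := ded_19_1 (flp_e L154606) L154604 L185797
theorem L185801 : sm gg N19499 = N23832 := rfl
theorem L185803 : sm ga N23832 = N20895 := ded_12_1 (flp_g L164987) (flp_a L164989) L185801
theorem L185805 : sm gd N23832 = N20903 := ded_24_1 (flp_g L164885) L164881 L185801
theorem L185807 : sm ge N23832 = N19500 := ded_26_1 (flp_g L154610) L154606 L185801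
theorem L185809 : sm gf N20893 = N23832 := ded_29_0 (flp_g L185801) (flp_f L164645) L164647 L164763
theorem L185811 : sm gb N23832 = N23794 := ded_17_1 L185433 (flp_b L154674) (flp_g L154658) (flp_b L154608) L185801
theorem L185813 : sm gb N19500 = N23833 := rfl
theorem L185815 : sm gd N23833 = N19501 := ded_14_2 (flp_b L154618) (flp_d L154614) L185813
theorem L185817 : sm ge N23833 = N23794 := ded_15_2 (flp_b L185811) L185807 L185813
theorem L185819 : sm gc N23833 = N19516 := ded_13_2 (flp_b L154738) (flp_c L154045) L185387 (flp_c L185395) L185813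
theorem L185821 : sm gf N23833 = N19516 := ded_16_2 (flp_b L154738) L107063 L154212 L154616 L185813
theorem L185823 : sm gg N23833 = N19507 := ded_17_2 (flp_b L154666) (flp_g L107013) (flp_b L106963) L154610 L185813
theorem L185825 : sm ga N23793 = N23833 := ded_9_3 L185815 L155652 (flp_d L185425)
theorem L185827 : sm ga N20915 = N23796 := ded_7_7 (flp_b L185441) L154114 L185423 L185825 (flp_b L185813) L154612 (flp_b L154756) (flp_a L164749) (flp_b L164955)
theorem L185829 : sm gg N23796 = N20913 := ded_12_2 (flp_a L164943) L164953 L185827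
theorem L185831 : sm gf N19504 = N23834 := rfl
theorem L185833 : sm ga N23834 = N19505 := ded_11_1 (flp_f L154656) L154650 L185831
theorem L185835 : sm ge N23834 = N20885 := ded_25_1 (flp_f L164717) (flp_e L154652) L185831
theorem L185837 : sm gg N20880 = N23834 := ded_29_1 (flp_f L185831) (flp_g L185531) (flp_a L185527) (flp_f L164687)
theorem L185839 : sm gb N23834 = N20876 := ded_16_1 (flp_f L164655) (flp_b L113769) L113773 L154654 L185831
theorem L185841 : sm gg N19505 = N23835 := rfl
theorem L185843 : sm ga N23835 = N20880 := ded_12_1 L185837 L185833 L185841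
theorem L185845 : sm ge N23835 = N20883 := ded_26_1 (flp_g L164707) L154680 L185841
theorem L185847 : sm gf N23804 = N23835 := ded_29_0 (flp_g L185841) (flp_f L154656) (flp_g L154228) L185527
theorem L185849 : sm gd N19509 = N23836 := rfl
theorem L185851 : sm ga N23836 = N20869 := ded_9_1 L164585 (flp_a L154684) L185849
theorem L185853 : sm gb N23836 = N19512 := ded_14_1 (flp_d L154710) (flp_b L154686) L185849
theorem L185855 : sm gf N23836 = N20867 := ded_23_2 L164572 L154688 L185849
theorem L185857 : sm gg N23836 = N21049 := ded_24_2 L165943 L154690 L185849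
theorem L185859 : sm ge N23836 = N20896 := ded_22_2 L164789 L113955 (flp_d L107023) L154682 L185849
theorem L185861 : sm gb N19510 = N23837 := rfl
theorem L185863 : sm gd N23837 = N20908 := ded_14_2 (flp_b L164901) (flp_d L154698) L185861
theorem L185865 : sm ge N23837 = N20881 := ded_15_2 (flp_b L164689) (flp_e L154700) L185861
theorem L185867 : sm gc N23837 = N22671 := ded_13_2 (flp_b L177419) (flp_c L185633) (flp_b L165358) (flp_c L154696) L185861
theorem L185869 : sm gf N23837 = N19515 := ded_16_2 (flp_b L154732) (flp_f L107029) L107021 L154692 L185861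
theorem L185871 : sm ga N22672 = N23837 := ded_8_3 L185867 (flp_a L177124) L177130
theorem L185873 : sm gc N19512 = N23838 := rfl
theorem L185875 : sm ga N23838 = N19517 := ded_8_1 (flp_c L154742) (flp_a L154712) L185873
theorem L185877 : sm ge N23838 = N20897 := ded_19_2 (flp_c L164795) (flp_e L154714) L185873
theorem L185879 : sm gf N23838 = N22193 := ded_20_2 L173500 (flp_f L164753) L185873
theorem L185881 : sm gg N23838 = N20891 := ded_21_2 (flp_c L164757) L154716 L185873
theorem L185883 : sm gb N19513 = N23839 := rfl
theorem L185885 : sm gd N23839 = N20915 := ded_14_2 L164955 L164751 L185883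
theorem L185887 : sm ge N23839 = N19515 := ded_15_2 (flp_b L154732) (flp_e L154722) L185883
theorem L185889 : sm gc N23839 = N22703 := ded_13_2 (flp_b L177352) (flp_c L177346) L185377 L185371 L185883
theorem L185891 : sm gf N23839 = N20881 := ded_16_2 (flp_b L164689) L154688 L154686 L154718 L185883
theorem L185893 : sm gg N23839 = N19515 := ded_17_2 (flp_b L154732) (flp_g L107071) (flp_b L154774) L154772 L185883
theorem L185895 : sm ga N19515 = N23840 := rfl
theorem L185897 : sm gc N23840 = N22673 := ded_8_2 L177134 (flp_c L154736) L185895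
theorem L185899 : sm gd N23840 = N20913 := ded_9_2 (flp_a L164943) (flp_d L154734) L185895
theorem L185901 : sm gf N23840 = N22672 := ded_11_2 L185871 L185869 L185895
theorem L185903 : sm ga N19516 = N23841 := rfl
theorem L185905 : sm gc N23841 = N23793 := ded_8_2 L185825 L185819 L185903
theorem L185907 : sm gd N23841 = N20883 := ded_9_2 (flp_a L164703) (flp_d L154740) L185903
theorem L185909 : sm ge N23841 = N23795 := ded_10_2 (flp_a L185481) L185487 L185903
theorem L185911 : sm gf N23841 = N23793 := ded_11_2 L185825 L185821 L185903
theorem L185913 : sm gg N23841 = N23797 := ded_12_2 (flp_a L185457) (flp_g L185467) L185903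
theorem L185915 : sm gd N19517 = N23842 := rfl
theorem L185917 : sm gb N23842 = N22971 := ded_14_1 (flp_d L179487) (flp_b L154748) L185915
theorem L185919 : sm gg N23842 = N20892 := ded_24_2 (flp_d L164761) (flp_g L154746) L185915
theorem L185921 : sm gc N23716 = N23842 := ded_13_0 L185917 (flp_c L179481) (flp_b L162430) (flp_c L184095) (flp_b L184798)
theorem L185923 : sm gf N19517 = N23843 := rfl
theorem L185925 : sm ga N23843 = N22193 := ded_11_1 (flp_f L185879) L185875 L185923
theorem L185927 : sm gc N23843 = N19518 := ded_20_1 (flp_f L154750) L154742 L185923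
theorem L185929 : sm ge N23843 = N20899 := ded_25_1 (flp_f L164815) (flp_e L154744) L185923
theorem L185931 : sm gg N23843 = N22191 := ded_29_3 L173483 L163576 (flp_g L154746) L185923
theorem L185933 : sm ga N19523 = N23844 := rfl
theorem L185935 : sm gd N23844 = N22116 := ded_9_2 (flp_a L172942) (flp_d L154798) L185933
theorem L185937 : sm ge N23844 = N19531 := ded_10_2 (flp_a L154862) (flp_e L154800) L185933
theorem L185939 : sm gg N23844 = N23844 := ded_12_2 (flp_a L185933) L154802 L185933
theorem L185940 : sm gb N22115 = N23844 := ded_14_3 L185935 (flp_b L172937) (flp_d L172931)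
theorem L185942 : sm gc N19523 = N23845 := rfl
theorem L185944 : sm ge N23845 = N19532 := ded_19_2 (flp_c L154869) (flp_e L154800) L185942
theorem L185946 : sm gg N23845 = N23845 := ded_21_2 (flp_c L185942) L154802 L185942
theorem L185947 : sm gb N23845 = N19551 := ded_13_1 (flp_c L154996) (flp_b L107268) (flp_c L107107) L154796 L185942
theorem L185949 : sm gf N19523 = N23846 := rfl
theorem L185951 : sm gd N23846 = N22735 := ded_23_1 (flp_f L177600) (flp_d L154798) L185949
theorem L185953 : sm ge N23846 = N19533 := ded_25_1 (flp_f L154874) (flp_e L154800) L185949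
theorem L185955 : sm gb N23846 = N21089 := ded_16_1 L166286 (flp_b L154786) L107113 L154796 L185949
theorem L185957 : sm ga N19524 = N23847 := rfl
theorem L185959 : sm gd N23847 = N22327 := ded_9_2 L174439 (flp_d L154805) L185957
theorem L185961 : sm ge N23847 = N19534 := ded_10_2 (flp_a L154878) (flp_e L154807) L185957
theorem L185963 : sm gf N23847 = N23847 := ded_11_2 (flp_a L185957) L154809 L185957
theorem L185964 : sm gb N23847 = N22326 := ded_7_2 L174426 L162072 (flp_a L172929) L185940 (flp_a L185933) (flp_b L154796) (flp_a L107117) L154803 L185957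
theorem L185966 : sm gc N19524 = N23848 := rfl
theorem L185968 : sm ge N23848 = N19535 := ded_19_2 (flp_c L154885) (flp_e L154807) L185966
theorem L185970 : sm gf N23848 = N23848 := ded_20_2 (flp_c L185966) L154809 L185966
theorem L185971 : sm gb N23848 = N19555 := ded_13_1 (flp_c L155016) (flp_b L107284) (flp_c L107119) L154803 L185966
theorem L185973 : sm gg N19524 = N23849 := rfl
theorem L185975 : sm gd N23849 = N22737 := ded_24_1 (flp_g L177615) (flp_d L154805) L185973
theorem L185977 : sm ge N23849 = N19536 := ded_26_1 (flp_g L154890) (flp_e L154807) L185973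
theorem L185979 : sm gb N23849 = N21084 := ded_17_1 L166238 (flp_b L154776) (flp_g L107125) L154803 L185973
theorem L185981 : sm gg N19525 = N23850 := rfl
theorem L185983 : sm gc N23850 = N19589 := ded_21_1 L155324 L155238 L185981
theorem L185985 : sm gd N23850 = N19527 := ded_24_1 (flp_g L154826) (flp_d L154812) L185981
theorem L185987 : sm ge N23850 = N20762 := ded_26_1 (flp_g L162825) (flp_e L154814) L185981
theorem L185989 : sm gf N19585 = N23850 := ded_29_0 (flp_g L185981) (flp_f L154810) L154818 (flp_a L155282)
theorem L185991 : sm gb N23850 = N22072 := ded_17_1 (flp_g L172608) L121743 L142810 L154816 L185981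
theorem L185993 : sm gf N19526 = N23851 := rfl
theorem L185995 : sm ga N23851 = N23850 := ded_11_1 (flp_f L185989) L155282 L185993
theorem L185997 : sm gc N23851 = N19588 := ded_20_1 (flp_f L155316) L155247 L185993
theorem L185999 : sm gd N23851 = N19528 := ded_23_1 (flp_f L154834) (flp_d L154820) L185993
theorem L186001 : sm ge N23851 = N20817 := ded_25_1 (flp_f L164170) (flp_e L154822) L185993
theorem L186003 : sm gg N23851 = N19584 := ded_29_3 L155270 (flp_f L154810) L154818 L185993
theorem L186005 : sm gb N23851 = N22286 := ded_16_1 (flp_f L174098) L122649 L142726 L154824 L185993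
theorem L186007 : sm gc N19529 = N23852 := rfl
theorem L186009 : sm ga N23852 = N22119 := ded_8_1 (flp_c L172965) L154851 L186007
theorem L186011 : sm ge N23852 = N22122 := ded_19_2 (flp_c L172984) (flp_e L154848) L186007
theorem L186013 : sm gg N23852 = N23852 := ded_21_2 (flp_c L186007) L154850 L186007
theorem L186014 : sm gb N23852 = N23636 := ded_13_1 L184203 L165828 L154828 L154844 L186007
theorem L186016 : sm gd N23638 = N23852 := ded_14_0 L186014 L184205 L184223
theorem L186018 : sm gc N19530 = N23853 := rfl
theorem L186020 : sm ga N23853 = N22330 := ded_8_1 (flp_c L174464) (flp_a L154860) L186018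
theorem L186022 : sm ge N23853 = N22333 := ded_19_2 (flp_c L174493) (flp_e L154857) L186018
theorem L186024 : sm gf N23853 = N23853 := ded_20_2 (flp_c L186018) L154859 L186018
theorem L186025 : sm gb N23853 = N23689 := ded_13_1 L184585 L165999 L154838 L154853 L186018
theorem L186027 : sm gd N23691 = N23853 := ded_14_0 L186025 L184587 L184597
theorem L186029 : sm gc N19531 = N23854 := rfl
theorem L186031 : sm ga N23854 = N19532 := ded_8_1 (flp_c L154869) L154862 L186029
theorem L186033 : sm gg N23854 = N23854 := ded_21_2 (flp_c L186029) L154866 L186029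
theorem L186034 : sm gf N19531 = N23855 := rfl
theorem L186036 : sm ga N23855 = N19533 := ded_11_1 (flp_f L154874) L154862 L186034
theorem L186038 : sm gd N23855 = N22120 := ded_23_1 (flp_f L172972) (flp_d L154864) L186034
theorem L186040 : sm gg N23855 = N19533 := ded_29_3 (flp_a L186036) (flp_f L186034) L154866 L186034
theorem L186042 : sm gd N19532 = N23856 := rfl
theorem L186044 : sm gb N23856 = N19612 := ded_14_1 (flp_d L155447) (flp_b L154872) L186042
theorem L186046 : sm gg N23856 = N23856 := ded_24_2 (flp_d L186042) L154871 L186042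
theorem L186047 : sm gc N23856 = N22697 := ded_32_4 (flp_b L177311) (flp_d L165710) L165708 L129255 (flp_c L152172) L183823 L183825 L172322 L158255 L144061 (flp_b L106403) (flp_d L90377) (flp_c L90036) (flp_d L39879) (flp_c L18925) (flp_b L9155) L4641 L2422 L1259 (flp_c L2422) L4677 L4679 (flp_d L4611) L9097 (flp_d L132594) (flp_c L10128) (flp_b L5121) L2665 (flp_c L2328) (flp_d L4429) L4427 L8645 L8647 L8775 L18035 (flp_c L81726) L139946 (flp_d L19491) L81726 (flp_d L18035) (flp_c L8775) (flp_b L4485) (flp_d L4413) (flp_c L4427) L4429 L2328 L2727 (flp_e L5203) (flp_d L10221) L21283 L44381 L92150 L109634 (flp_d L133429) L106426 L107041 L154742 L154748 L179487 (flp_c L179481) (flp_d L165592) L165590 L154198 (flp_d L154630) L154634 (flp_d L143025) (flp_c L103078) (flp_b L88624) (flp_d L88594) (flp_c L102956) (flp_d L128603) L128601 (flp_b L149806) (flp_e L154848) L154846 L154869 L186042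
theorem L186049 : sm gf N19532 = N23857 := rfl
theorem L186051 : sm gc N23857 = N19533 := ded_20_1 (flp_f L154874) L154869 L186049
theorem L186053 : sm gc N19534 = N23858 := rfl
theorem L186055 : sm ga N23858 = N19535 := ded_8_1 (flp_c L154885) L154878 L186053
theorem L186057 : sm gf N23858 = N23858 := ded_20_2 (flp_c L186053) L154882 L186053
theorem L186058 : sm gg N19534 = N23859 := rfl
theorem L186060 : sm ga N23859 = N19536 := ded_12_1 (flp_g L154890) L154878 L186058
theorem L186062 : sm gd N23859 = N22331 := ded_24_1 (flp_g L174471) (flp_d L154880) L186058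
theorem L186064 : sm gf N19536 = N23859 := ded_29_0 (flp_g L186058) L154882 L186058 L186060
theorem L186066 : sm gb N23859 = N23855 := ded_17_1 L186040 L154876 (flp_g L149170) (flp_b L154883) L186058
theorem L186068 : sm gd N19535 = N23860 := rfl
theorem L186070 : sm gb N23860 = N19621 := ded_14_1 (flp_d L155530) (flp_b L154888) L186068
theorem L186072 : sm gf N23860 = N23860 := ded_23_2 (flp_d L186068) L154887 L186068
theorem L186073 : sm gc N23860 = N22731 := ded_32_4 (flp_b L177574) (flp_d L165080) L165078 L129332 (flp_c L152582) (flp_b L183813) L183815 L172017 L157957 L143919 (flp_b L106080) (flp_d L90193) (flp_c L89944) (flp_d L39781) (flp_c L18877) (flp_b L9141) L4629 L2408 L1243 (flp_c L2408) L4659 L4661 (flp_d L4597) L9049 (flp_d L141660) (flp_c L10090) (flp_b L5102) L2650 (flp_c L2316) (flp_d L4413) (flp_c L4427) L8663 L8665 L8807 L18119 (flp_c L78590) (flp_b L139276) (flp_d L19293) L78590 (flp_d L18119) (flp_c L8807) (flp_b L4499) (flp_d L4429) L4427 L4413 L2316 L2715 (flp_e L5183) (flp_d L10203) L21247 L44300 L92123 L109575 (flp_d L141750) L106103 L106819 L154376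 (flp_b L154580) L179555 (flp_c L179549) (flp_d L164971) L164969 (flp_b L154166) (flp_d L154250) L154252 (flp_d L142949) (flp_c L103046) (flp_b L88610) (flp_d L88580) (flp_c L102946) (flp_d L128617) L128615 (flp_b L150854) (flp_e L154857) L154855 L154885 L186068
theorem L186075 : sm gg N19535 = N23861 := rfl
theorem L186077 : sm gc N23861 = N19536 := ded_21_1 (flp_g L154890) L154885 L186075
theorem L186079 : sm gc N19537 = N23862 := rfl
theorem L186081 : sm ga N23862 = N19665 := ded_8_1 L155828 (flp_a L154902) L186079
theorem L186083 : sm ge N23862 = N19577 := ded_19_2 (flp_c L155206) (flp_e L154898) L186079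
theorem L186085 : sm gf N23862 = N19539 := ded_20_2 (flp_c L154914) (flp_f L154900) L186079
theorem L186087 : sm gb N23862 = N20108 := ded_13_1 (flp_c L158777) (flp_b L110049) (flp_c L107194) L154894 L186079
theorem L186089 : sm gc N19538 = N23863 := rfl
theorem L186091 : sm ga N23863 = N19681 := ded_8_1 L155926 L154912 L186089
theorem L186093 : sm ge N23863 = N19578 := ded_19_2 (flp_c L155216) (flp_e L154908) L186089
theorem L186095 : sm gg N23863 = N19541 := ded_21_2 (flp_c L154928) (flp_g L154910) L186089
theorem L186097 : sm gb N23863 = N20110 := ded_13_1 (flp_c L158791) (flp_b L110055) (flp_c L107204) L154904 L186089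
theorem L186099 : sm gd N19539 = N23864 := rfl
theorem L186101 : sm ga N23864 = N23206 := ded_9_1 L181253 (flp_a L154916) L186099
theorem L186103 : sm gb N23864 = N23196 := ded_14_1 L181183 (flp_b L154920) L186099
theorem L186105 : sm ge N23864 = N23192 := ded_22_2 (flp_d L181157) L144755 L120519 (flp_e L154918) L186099
theorem L186107 : sm gg N19539 = N23865 := rfl
theorem L186109 : sm ga N23865 = N23537 := ded_12_1 (flp_g L183461) (flp_a L154916) L186107
theorem L186111 : sm gc N23865 = N19540 := ded_21_1 (flp_g L154922) L154914 L186107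
theorem L186113 : sm ge N23865 = N19582 := ded_26_1 (flp_g L155252) (flp_e L154918) L186107
theorem L186115 : sm gb N21628 = N23865 := ded_15_3 L186113 (flp_b L162502) (flp_e L169679)
theorem L186117 : sm gd N19541 = N23866 := rfl
theorem L186119 : sm ga N23866 = N23281 := ded_9_1 L181771 (flp_a L154930) L186117
theorem L186121 : sm gb N23866 = N23272 := ded_14_1 L181705 (flp_b L154934) L186117
theorem L186123 : sm ge N23866 = N23268 := ded_22_2 (flp_d L181679) L145022 (flp_d L150868) (flp_e L154932) L186117
theorem L186125 : sm gf N19541 = N23867 := rfl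
theorem L186127 : sm ga N23867 = N23597 := ded_11_1 (flp_f L183929) (flp_a L154930) L186125
theorem L186129 : sm gc N23867 = N19542 := ded_20_1 (flp_f L154936) L154928 L186125
theorem L186131 : sm ge N23867 = N19583 := ded_25_1 (flp_f L155260) (flp_e L154932) L186125
theorem L186133 : sm gb N21787 = N23867 := ded_15_3 L186131 (flp_b L162794) (flp_e L170694)
theorem L186135 : sm gb N19544 = N23868 := rfl
theorem L186137 : sm gd N23868 = N19549 := ded_14_2 (flp_b L154986) (flp_d L154954) L186135
theorem L186139 : sm ge N23868 = N20019 := ded_15_2 L158215 (flp_e L154956) L186135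
theorem L186141 : sm gg N23868 = N19545 := ded_17_2 (flp_b L154958) (flp_g L107226) L107218 L154952 L186135
theorem L186143 : sm ga N23868 = N19780 := ded_7_1 (flp_b L156657) (flp_a L108204) (flp_b L91477) (flp_a L91461) L108176 L156611 (flp_b L156617) L155098 L186135
theorem L186145 : sm ga N19545 = N23869 := rfl
theorem L186147 : sm gd N23869 = N19550 := ded_9_2 (flp_a L154992) (flp_d L154960) L186145
theorem L186149 : sm ge N23869 = N20022 := ded_10_2 L158227 (flp_e L154962) L186145
theorem L186151 : sm gg N23869 = N19780 := ded_12_2 (flp_a L186143) L186141 L186145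
theorem L186153 : sm gc N19545 = N23870 := rfl
theorem L186155 : sm ge N23870 = N20481 := ded_19_2 (flp_c L161192) (flp_e L154962) L186153
theorem L186157 : sm gb N23870 = N20119 := ded_13_1 (flp_c L158851) (flp_b L110103) (flp_c L107228) L154958 L186153
theorem L186159 : sm gf N19545 = N23871 := rfl
theorem L186161 : sm gd N23871 = N19552 := ded_23_1 (flp_f L155000) (flp_d L154960) L186159
theorem L186163 : sm ge N23871 = N20482 := ded_25_1 (flp_f L161196) (flp_e L154962) L186159
theorem L186165 : sm gb N23871 = N23698 := ded_16_1 (flp_f L184660) (flp_b L154904) L107234 L154958 L186159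
theorem L186167 : sm gb N19547 = N23872 := rfl
theorem L186169 : sm gd N23872 = N19553 := ded_14_2 (flp_b L155006) (flp_d L154976) L186167
theorem L186171 : sm ge N23872 = N19965 := ded_15_2 L157917 (flp_e L154978) L186167
theorem L186173 : sm gf N23872 = N19548 := ded_16_2 (flp_b L154980) (flp_f L107244) L107236 L154974 L186167
theorem L186175 : sm ga N23872 = N19742 := ded_7_1 (flp_b L156410) (flp_a L108085) (flp_b L91419) (flp_a L91403) L108057 L156364 (flp_b L156370) L155152 L186167
theorem L186177 : sm ga N19548 = N23873 := rfl
theorem L186179 : sm gd N23873 = N19554 := ded_9_2 (flp_a L155012) (flp_d L154982) L186177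
theorem L186181 : sm ge N23873 = N19967 := ded_10_2 L157925 (flp_e L154984) L186177
theorem L186183 : sm gf N23873 = N19742 := ded_11_2 (flp_a L186175) L186173 L186177
theorem L186185 : sm gc N19548 = N23874 := rfl
theorem L186187 : sm ge N23874 = N20483 := ded_19_2 (flp_c L161204) (flp_e L154984) L186185
theorem L186189 : sm gb N23874 = N20121 := ded_13_1 (flp_c L158865) (flp_b L110123) (flp_c L107248) L154980 L186185
theorem L186191 : sm gg N19548 = N23875 := rfl
theorem L186193 : sm gd N23875 = N19556 := ded_24_1 (flp_g L155020) (flp_d L154982) L186191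
theorem L186195 : sm ge N23875 = N20484 := ded_26_1 (flp_g L161208) (flp_e L154984) L186191
theorem L186197 : sm gb N23875 = N23646 := ded_17_1 L184284 (flp_b L154894) (flp_g L107254) L154980 L186191
theorem L186199 : sm ga N19549 = N23876 := rfl
theorem L186201 : sm gd N23876 = N19780 := ded_9_2 (flp_a L186143) L186137 L186199
theorem L186203 : sm ge N23876 = N19606 := ded_10_2 (flp_a L155414) (flp_e L154988) L186199
theorem L186205 : sm gg N23876 = N19550 := ded_12_2 (flp_a L154992) (flp_g L154990) L186199
theorem L186207 : sm gb N23876 = N19717 := ded_7_2 (flp_a L156216) (flp_b L107995) (flp_a L107983) L156190 (flp_a L156196) (flp_b L155180) L107355 L154986 L186199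
theorem L186209 : sm gc N19549 = N23877 := rfl
theorem L186211 : sm ge N23877 = N19607 := ded_19_2 (flp_c L155418) (flp_e L154988) L186209
theorem L186213 : sm gg N23877 = N19551 := ded_21_2 (flp_c L154996) (flp_g L154990) L186209
theorem L186215 : sm gb N23877 = N23877 := ded_13_1 (flp_c L186209) (flp_b L154986) L107265 L154986 L186209
theorem L186216 : sm gf N19549 = N23878 := rfl
theorem L186218 : sm ge N23878 = N19608 := ded_25_1 (flp_f L155423) (flp_e L154988) L186216
theorem L186220 : sm gb N19550 = N23879 := rfl
theorem L186222 : sm ge N23879 = N19609 := ded_15_2 (flp_b L155425) (flp_e L154994) L186220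
theorem L186224 : sm gg N23879 = N20347 := ded_17_2 L160404 L156224 (flp_b L186207) L186205 L186220
theorem L186226 : sm gc N20348 = N23879 := ded_19_3 L186222 L155443 (flp_e L160410)
theorem L186228 : sm gf N19774 = N23879 := ded_25_0 L186222 L155439 (flp_e L156625)
theorem L186230 : sm gc N19550 = N23880 := rfl
theorem L186232 : sm ga N23880 = N19551 := ded_8_1 (flp_c L154996) L154992 L186230
theorem L186234 : sm ge N23880 = N19610 := ded_19_2 (flp_c L155427) (flp_e L154994) L186230
theorem L186236 : sm gf N19550 = N23881 := rfl
theorem L186238 : sm ga N23881 = N19552 := ded_11_1 (flp_f L155000) L154992 L186236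
theorem L186240 : sm ge N23881 = N19611 := ded_25_1 (flp_f L155431) (flp_e L154994) L186236
theorem L186242 : sm gg N23878 = N23881 := ded_29_1 (flp_f L186236) (flp_g L186205) (flp_a L186199) L186216
theorem L186244 : sm gb N23881 = N19692 := ded_16_1 L155998 (flp_b L156627) L186228 (flp_b L186220) L186236
theorem L186246 : sm gd N19551 = N23882 := rfl
theorem L186248 : sm gf N19551 = N23883 := rfl
theorem L186250 : sm gc N23883 = N19552 := ded_20_1 (flp_f L155000) L154996 L186248
theorem L186252 : sm ge N23883 = N19613 := ded_25_1 (flp_f L155449) (flp_e L154998) L186248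
theorem L186254 : sm gg N19552 = N23884 := rfl
theorem L186256 : sm ga N23884 = N23878 := ded_12_1 L186242 L186238 L186254
theorem L186258 : sm ge N23884 = N19614 := ded_26_1 (flp_g L155453) (flp_e L155002) L186254
theorem L186260 : sm gf N23876 = N23884 := ded_29_0 (flp_g L186254) (flp_f L155000) (flp_g L154990) L186199
theorem L186262 : sm ga N19553 = N23885 := rfl
theorem L186264 : sm gd N23885 = N19742 := ded_9_2 (flp_a L186175) L186169 L186262
theorem L186266 : sm ge N23885 = N19615 := ded_10_2 (flp_a L155459) (flp_e L155008) L186262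
theorem L186268 : sm gf N23885 = N19554 := ded_11_2 (flp_a L155012) (flp_f L155010) L186262
theorem L186270 : sm gb N23885 = N19704 := ded_7_2 (flp_a L156106) (flp_b L107947) (flp_a L107925) L156080 (flp_a L156086) (flp_b L155202) L107377 L155006 L186262
theorem L186272 : sm gc N19553 = N23886 := rfl
theorem L186274 : sm ge N23886 = N19616 := ded_19_2 (flp_c L155463) (flp_e L155008) L186272
theorem L186276 : sm gf N23886 = N19555 := ded_20_2 (flp_c L155016) (flp_f L155010) L186272
theorem L186278 : sm gb N23886 = N23886 := ded_13_1 (flp_c L186272) (flp_b L155006) L107281 L155006 L186272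
theorem L186279 : sm gg N19553 = N23887 := rfl
theorem L186281 : sm ge N23887 = N19617 := ded_26_1 (flp_g L155468) (flp_e L155008) L186279
theorem L186283 : sm gb N19554 = N23888 := rfl
theorem L186285 : sm ge N23888 = N19618 := ded_15_2 (flp_b L155470) (flp_e L155014) L186283
theorem L186287 : sm gf N23888 = N20313 := ded_16_2 L160174 (flp_f L156114) (flp_b L186270) L186268 L186283
theorem L186289 : sm gc N20314 = N23888 := ded_19_3 L186285 (flp_c L155492) (flp_e L160180)
theorem L186291 : sm gg N19736 = N23888 := ded_26_0 L186285 (flp_g L155484) (flp_e L156378)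
theorem L186293 : sm gc N19554 = N23889 := rfl
theorem L186295 : sm ga N23889 = N19555 := ded_8_1 (flp_c L155016) L155012 L186293
theorem L186297 : sm ge N23889 = N19619 := ded_19_2 (flp_c L155472) (flp_e L155014) L186293
theorem L186299 : sm gg N19554 = N23890 := rfl
theorem L186301 : sm ga N23890 = N19556 := ded_12_1 (flp_g L155020) L155012 L186299
theorem L186303 : sm ge N23890 = N19620 := ded_26_1 (flp_g L155476) (flp_e L155014) L186299
theorem L186305 : sm gf N23890 = N23887 := ded_29_2 (flp_g L186279) L186262 L186268 L186299
theorem L186307 : sm gb N23890 = N19676 := ded_17_1 (flp_g L155892) (flp_b L156380) L186291 (flp_b L186283) L186299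
theorem L186309 : sm gd N19555 = N23891 := rfl
theorem L186311 : sm ge N23891 = N23694 := ded_22_2 (flp_d L184622) L177471 (flp_d L155530) (flp_e L155018) L186309
theorem L186313 : sm gc N23404 = N23891 := ded_19_3 L186311 (flp_c L184616) (flp_e L182583)
theorem L186315 : sm gg N19555 = N23892 := rfl
theorem L186317 : sm gc N23892 = N19556 := ded_21_1 (flp_g L155020) L155016 L186315
theorem L186319 : sm ge N23892 = N19622 := ded_26_1 (flp_g L155532) (flp_e L155018) L186315
theorem L186321 : sm gf N19556 = N23893 := rfl
theorem L186323 : sm ga N23893 = N23887 := ded_11_1 (flp_f L186305) L186301 L186321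
theorem L186325 : sm ge N23893 = N19623 := ded_25_1 (flp_f L155536) (flp_e L155022) L186321
theorem L186327 : sm gg N23893 = N23885 := ded_29_3 (flp_a L186262) L155010 L155020 L186321
theorem L186329 : sm gg N19559 = N23894 := rfl
theorem L186331 : sm gc N23894 = N21166 := ded_21_1 (flp_g L166802) (flp_c L155060) L186329
theorem L186333 : sm gd N23894 = N19570 := ded_24_1 (flp_g L155172) (flp_d L155056) L186329
theorem L186335 : sm ge N23894 = N19646 := ded_26_1 L155726 (flp_e L155058) L186329
theorem L186337 : sm gf N19570 = N23894 := ded_29_0 (flp_g L186329) (flp_f L155062) L170781 L170783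
theorem L186339 : sm gb N19560 = N23895 := rfl
theorem L186341 : sm gd N23895 = N19571 := ded_14_2 (flp_b L155176) (flp_d L155070) L186339
theorem L186343 : sm ge N23895 = N19656 := ded_15_2 L155776 (flp_e L155072) L186339
theorem L186345 : sm ga N23895 = N19575 := ded_7_1 (flp_b L155198) L107368 (flp_b L91447) (flp_a L108117) (flp_b L156274) L156264 L108021 (flp_a L155066) L186339
theorem L186347 : sm gf N19564 = N23896 := rfl
theorem L186349 : sm gc N23896 = N21178 := ded_20_1 (flp_f L166885) (flp_c L155114) L186347
theorem L186351 : sm gd N23896 = N19573 := ded_23_1 (flp_f L155184) (flp_d L155110) L186347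
theorem L186353 : sm ge N23896 = N19654 := ded_25_1 (flp_f L155760) (flp_e L155112) L186347
theorem L186355 : sm gg N23896 = N19573 := ded_29_3 (flp_a L171122) (flp_f L171120) L155116 L186347
theorem L186357 : sm gb N19565 = N23897 := rfl
theorem L186359 : sm gd N23897 = N19575 := ded_14_2 (flp_b L155198) (flp_d L155124) L186357
theorem L186361 : sm ge N23897 = N19647 := ded_15_2 L155730 (flp_e L155126) L186357
theorem L186363 : sm ga N23897 = N19571 := ded_7_1 (flp_b L155176) L107346 (flp_b L91505) (flp_a L108236) L156164 L156154 L107971 (flp_a L155120) L186357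
theorem L186365 : sm gg N19569 = N23898 := rfl
theorem L186367 : sm ga N23898 = N23894 := ded_12_1 (flp_g L186329) (flp_a L155164) L186365
theorem L186369 : sm gc N23898 = N21798 := ded_21_1 L170799 (flp_c L155166) L186365
theorem L186371 : sm gd N23898 = N21797 := ded_24_1 (flp_g L170781) (flp_d L155168) L186365
theorem L186373 : sm ge N23898 = N19644 := ded_26_1 (flp_g L155706) (flp_e L155170) L186365
theorem L186375 : sm gf N21797 = N23898 := ded_29_0 (flp_g L186365) (flp_f L155162) L155172 (flp_a L170783)
theorem L186377 : sm gb N23898 = N23049 := ded_17_1 L180141 (flp_b L185017) L185015 L156070 L186365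
theorem L186379 : sm gb N19570 = N23899 := rfl
theorem L186381 : sm ge N23899 = N19645 := ded_15_2 (flp_b L155716) (flp_e L155174) L186379
theorem L186383 : sm gg N23899 = N19571 := ded_17_2 (flp_b L155176) (flp_g L107344) L107340 L155172 L186379
theorem L186385 : sm gc N19571 = N23900 := rfl
theorem L186387 : sm ge N23900 = N19648 := ded_19_2 (flp_c L155732) (flp_e L155178) L186385
theorem L186389 : sm gb N23900 = N23900 := ded_13_1 (flp_c L186385) (flp_b L155176) L107348 L155176 L186385
theorem L186390 : sm gf N19571 = N23901 := rfl
theorem L186392 : sm ge N23901 = N19649 := ded_25_1 (flp_f L155735) (flp_e L155178) L186390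
theorem L186394 : sm gb N23901 = N23878 := ded_16_1 (flp_f L186216) (flp_b L154986) (flp_f L107351) L155176 L186390
theorem L186396 : sm gg N19690 = N23901 := ded_26_0 L186392 (flp_g L155739) (flp_e L155982)
theorem L186398 : sm gc N19572 = N23902 := rfl
theorem L186400 : sm ga N23902 = N21739 := ded_8_1 L170396 (flp_a L156196) L186398
theorem L186402 : sm ge N23902 = N19651 := ded_19_2 (flp_c L155743) (flp_e L155182) L186398
theorem L186404 : sm gb N23902 = N23902 := ded_13_1 (flp_c L186398) (flp_b L155180) L107357 L155180 L186398
theorem L186405 : sm gg N19572 = N23903 := rfl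
theorem L186407 : sm ge N23903 = N19652 := ded_26_1 (flp_g L155746) (flp_e L155182) L186405
theorem L186409 : sm gb N23903 = N23739 := ded_17_1 (flp_g L184959) L153556 (flp_g L107360) L155180 L186405
theorem L186411 : sm gb N19573 = N23904 := rfl
theorem L186413 : sm ge N23904 = N19653 := ded_15_2 (flp_b L155752) (flp_e L155186) L186411
theorem L186415 : sm gf N23904 = N19575 := ded_16_2 (flp_b L155198) (flp_f L107366) L107362 L155184 L186411
theorem L186417 : sm gf N19574 = N23905 := rfl
theorem L186419 : sm ga N23905 = N23896 := ded_11_1 (flp_f L186347) (flp_a L155190) L186417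
theorem L186421 : sm gc N23905 = N21850 := ded_20_1 (flp_f L171138) (flp_c L155192) L186417
theorem L186423 : sm gd N23905 = N21849 := ded_23_1 (flp_f L171120) (flp_d L155194) L186417
theorem L186425 : sm ge N23905 = N19655 := ded_25_1 (flp_f L155762) (flp_e L155196) L186417
theorem L186427 : sm gg N23905 = N21849 := ded_29_3 L171122 (flp_f L155184) L155188 L186417
theorem L186429 : sm gb N23905 = N23045 := ded_16_1 (flp_f L180109) L185041 (flp_f L185049) L156180 L186417
theorem L186431 : sm gc N19575 = N23906 := rfl
theorem L186433 : sm ge N23906 = N19657 := ded_19_2 (flp_c L155778) (flp_e L155200) L186431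
theorem L186435 : sm gb N23906 = N23906 := ded_13_1 (flp_c L186431) (flp_b L155198) L107370 L155198 L186431
theorem L186436 : sm gg N19575 = N23907 := rfl
theorem L186438 : sm ge N23907 = N19658 := ded_26_1 (flp_g L155781) (flp_e L155200) L186436
theorem L186440 : sm gb N23907 = N23887 := ded_17_1 (flp_g L186279) (flp_b L155006) L107373 L155198 L186436
theorem L186442 : sm gf N19674 = N23907 := ded_25_0 L186438 (flp_f L155785) (flp_e L155878)
theorem L186444 : sm gc N19576 = N23908 := rfl
theorem L186446 : sm ga N23908 = N21580 := ded_8_1 L169397 (flp_a L156086) L186444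
theorem L186448 : sm ge N23908 = N19660 := ded_19_2 (flp_c L155789) (flp_e L155204) L186444
theorem L186450 : sm gb N23908 = N23908 := ded_13_1 (flp_c L186444) (flp_b L155202) L107379 L155202 L186444
theorem L186451 : sm gf N19576 = N23909 := rfl
theorem L186453 : sm ge N23909 = N19661 := ded_25_1 (flp_f L155792) (flp_e L155204) L186451
theorem L186455 : sm gb N23909 = N23769 := ded_16_1 (flp_f L185229) L153868 L107382 L155202 L186451
theorem L186457 : sm gg N19586 = N23910 := rfl
theorem L186459 : sm gc N23910 = N20817 := ded_21_1 L164176 (flp_c L155294) L186457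
theorem L186461 : sm gd N23910 = N21920 := ded_24_1 L171556 (flp_d L155296) L186457
theorem L186463 : sm ge N23910 = N19588 := ded_26_1 (flp_g L155312) (flp_e L155298) L186457
theorem L186465 : sm gf N20816 = N23910 := ded_29_0 (flp_g L186457) (flp_f L155292) L155302 (flp_a L164161)
theorem L186467 : sm gb N22010 = N23910 := ded_14_3 L186461 (flp_b L171558) L172210
theorem L186469 : sm gf N19587 = N23911 := rfl
theorem L186471 : sm ga N23911 = N23910 := ded_11_1 (flp_f L186465) L164161 L186469
theorem L186473 : sm gc N23911 = N20762 := ded_20_1 (flp_f L162829) (flp_c L155304) L186469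
theorem L186475 : sm gd N23911 = N21919 := ded_23_1 (flp_f L171544) (flp_d L155306) L186469
theorem L186477 : sm ge N23911 = N19589 := ded_25_1 (flp_f L155318) (flp_e L155308) L186469
theorem L186479 : sm gg N23911 = N20761 := ded_29_3 L162816 (flp_f L155292) L155302 L186469
theorem L186481 : sm gb N21966 = N23911 := ded_14_3 L186475 (flp_b L171546) L171919
theorem L186483 : sm gb N19588 = N23912 := rfl
theorem L186485 : sm gd N23912 = N19592 := ded_14_2 (flp_b L155348) (flp_d L155314) L186483
theorem L186487 : sm ge N23912 = N22010 := ded_15_2 L186467 L186463 L186483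
theorem L186489 : sm gc N23912 = N22290 := ded_13_2 (flp_b L174137) (flp_c L174102) (flp_b L186005) L185997 L186483
theorem L186491 : sm gf N23912 = N23912 := ded_16_2 (flp_b L186483) (flp_f L155316) L155251 L155316 L186483
theorem L186492 : sm gb N19589 = N23913 := rfl
theorem L186494 : sm gd N23913 = N19593 := ded_14_2 (flp_b L155351) (flp_d L155322) L186492
theorem L186496 : sm ge N23913 = N21966 := ded_15_2 L186481 L186477 L186492
theorem L186498 : sm gc N23913 = N22075 := ded_13_2 (flp_b L172636) (flp_c L172612) (flp_b L185991) L185983 L186492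
theorem L186500 : sm gg N23913 = N23913 := ded_17_2 (flp_b L186492) L155324 L155242 (flp_g L155324) L186492
theorem L186501 : sm gb N19590 = N23914 := rfl
theorem L186503 : sm gd N23914 = N21922 := ded_14_2 (flp_b L171567) (flp_d L155330) L186501
theorem L186505 : sm ge N23914 = N19592 := ded_15_2 (flp_b L155348) (flp_e L155332) L186501
theorem L186507 : sm gf N23914 = N23914 := ded_16_2 (flp_b L186501) (flp_f L155334) L122013 L155334 L186501
theorem L186508 : sm gb N19591 = N23915 := rfl
theorem L186510 : sm gd N23915 = N21921 := ded_14_2 (flp_b L171560) (flp_d L155342) L186508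
theorem L186512 : sm ge N23915 = N19593 := ded_15_2 (flp_b L155351) (flp_e L155344) L186508
theorem L186514 : sm gg N23915 = N23915 := ded_17_2 (flp_b L186508) L155346 L118943 (flp_g L155346) L186508
theorem L186515 : sm ga N19592 = N23916 := rfl
theorem L186518 : sm gc N19592 = N23917 := rfl
theorem L186520 : sm gf N23917 = N23917 := ded_20_2 (flp_c L186518) L155350 L186518
theorem L186521 : sm gb N23917 = N19600 := ded_13_1 (flp_c L155388) (flp_b L107553) (flp_c L107489) L155348 L186518
theorem L186523 : sm ga N19593 = N23918 := rfl
theorem L186526 : sm gc N19593 = N23919 := rfl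
theorem L186528 : sm gg N23919 = N23919 := ded_21_2 (flp_c L186526) L155353 L186526
theorem L186529 : sm gb N23919 = N19604 := ded_13_1 (flp_c L155406) (flp_b L107571) (flp_c L107501) L155351 L186526
theorem L186531 : sm gb N19594 = N23920 := rfl
theorem L186533 : sm gd N23920 = N20019 := ded_14_2 L158215 (flp_d L155356) L186531
theorem L186535 : sm ge N23920 = N19598 := ded_15_2 (flp_b L155378) (flp_e L155358) L186531
theorem L186537 : sm gf N23920 = N22680 := ded_16_2 (flp_b L177178) L177182 L177192 L155570 L186531
theorem L186539 : sm gg N23920 = N19595 := ded_17_2 (flp_b L155360) (flp_g L107513) L107505 L155354 L186531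
theorem L186541 : sm ga N23920 = N19932 := ded_7_1 (flp_b L157721) (flp_a L109099) (flp_b L91914) (flp_a L91902) L109077 L157673 (flp_b L157681) L155580 L186531
theorem L186543 : sm gc N22684 = N23920 := ded_20_3 L186537 L177180 L177202
theorem L186545 : sm ga N19595 = N23921 := rfl
theorem L186547 : sm gd N23921 = N20022 := ded_9_2 L158227 (flp_d L155362) L186545
theorem L186549 : sm ge N23921 = N19599 := ded_10_2 (flp_a L155384) (flp_e L155364) L186545
theorem L186551 : sm gg N23921 = N19932 := ded_12_2 (flp_a L186541) L186539 L186545
theorem L186553 : sm gb N20907 = N23921 := ded_14_3 L186547 (flp_b L158413) (flp_d L164899)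
theorem L186555 : sm gc N19595 = N23922 := rfl
theorem L186557 : sm ge N23922 = N19600 := ded_19_2 (flp_c L155388) (flp_e L155364) L186555
theorem L186559 : sm gg N23922 = N22684 := ded_21_2 L186543 L186539 L186555
theorem L186561 : sm gb N19596 = N23923 := rfl
theorem L186563 : sm gd N23923 = N19965 := ded_14_2 L157917 (flp_d L155368) L186561
theorem L186565 : sm ge N23923 = N19602 := ded_15_2 (flp_b L155396) (flp_e L155370) L186561
theorem L186567 : sm gf N23923 = N19597 := ded_16_2 (flp_b L155372) (flp_f L107529) L107521 L155366 L186561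
theorem L186569 : sm gg N23923 = N22716 := ded_17_2 (flp_b L177453) L177457 (flp_b L177467) (flp_g L155616) L186561
theorem L186571 : sm ga N23923 = N19912 := ded_7_1 (flp_b L157587) (flp_a L109001) (flp_b L91866) (flp_a L91854) L108979 L157541 (flp_b L157549) L155626 L186561
theorem L186573 : sm gc N22721 = N23923 := ded_21_3 L186569 L177455 L177481
theorem L186575 : sm ga N19597 = N23924 := rfl
theorem L186577 : sm gd N23924 = N19967 := ded_9_2 L157925 (flp_d L155374) L186575
theorem L186579 : sm ge N23924 = N19603 := ded_10_2 (flp_a L155402) (flp_e L155376) L186575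
theorem L186581 : sm gf N23924 = N19912 := ded_11_2 (flp_a L186571) L186567 L186575
theorem L186583 : sm gb N23924 = N20991 := ded_7_2 (flp_a L185021) L185027 L184999 L186553 (flp_a L186545) (flp_b L155360) (flp_a L107531) L155372 L186575
theorem L186585 : sm gc N19597 = N23925 := rfl
theorem L186587 : sm ge N23925 = N19604 := ded_19_2 (flp_c L155406) (flp_e L155376) L186585
theorem L186589 : sm gf N23925 = N22721 := ded_20_2 L186573 L186567 L186585
theorem L186591 : sm ga N19598 = N23926 := rfl
theorem L186593 : sm gd N23926 = N19606 := ded_9_2 (flp_a L155414) (flp_d L155380) L186591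
theorem L186595 : sm ge N23926 = N19932 := ded_10_2 (flp_a L186541) L186535 L186591
theorem L186597 : sm gg N23926 = N19599 := ded_12_2 (flp_a L155384) (flp_g L155382) L186591
theorem L186599 : sm gb N23926 = N19898 := ded_7_2 (flp_a L157483) (flp_b L108921) (flp_a L108905) L157459 (flp_a L157469) (flp_b L155664) L107659 L155378 L186591
theorem L186601 : sm gc N19598 = N23927 := rfl
theorem L186603 : sm ge N23927 = N22684 := ded_19_2 L186543 L186535 L186601
theorem L186605 : sm gg N23927 = N19600 := ded_21_2 (flp_c L155388) (flp_g L155382) L186601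
theorem L186607 : sm gf N22655 = N23927 := ded_25_0 L186603 (flp_f L177202) (flp_e L176995)
theorem L186609 : sm gf N19598 = N23928 := rfl
theorem L186611 : sm gc N23928 = N22655 := ded_20_1 L186607 (flp_c L186601) L186609
theorem L186613 : sm gd N23928 = N19608 := ded_23_1 (flp_f L155423) (flp_d L155380) L186609
theorem L186615 : sm ge N23928 = N22680 := ded_25_1 (flp_f L186537) L186535 L186609
theorem L186617 : sm gb N23928 = N22653 := ded_16_1 L176977 (flp_b L155644) L107647 L155378 L186609
theorem L186619 : sm gb N19599 = N23929 := rfl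
theorem L186621 : sm gd N23929 = N19609 := ded_14_2 (flp_b L155425) (flp_d L155386) L186619
theorem L186623 : sm ge N23929 = N20907 := ded_15_2 L186553 L186549 L186619
theorem L186625 : sm gg N23929 = N20627 := ded_17_2 L162020 L157491 (flp_b L186599) L186597 L186619
theorem L186627 : sm ga N23748 = N23929 := ded_9_3 L186621 (flp_a L158123) (flp_d L185071)
theorem L186629 : sm gf N19927 = N23929 := ded_23_0 L186621 L155439 (flp_d L157687)
theorem L186631 : sm gc N23929 = N20876 := ded_28_4 (flp_d L165644) L165642 L165672 L165674 (flp_c L163693) L162000 (flp_c L155443) (flp_d L186621)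
theorem L186633 : sm gc N19599 = N23930 := rfl
theorem L186635 : sm ga N23930 = N19600 := ded_8_1 (flp_c L155388) L155384 L186633
theorem L186637 : sm gf N19599 = N23931 := rfl
theorem L186639 : sm ga N23931 = N19601 := ded_11_1 (flp_f L155390) L155384 L186637
theorem L186641 : sm gd N23931 = N19611 := ded_23_1 (flp_f L155431) (flp_d L155386) L186637
theorem L186643 : sm gg N23928 = N23931 := ded_29_1 (flp_f L186637) (flp_g L186597) (flp_a L186591) L186609
theorem L186645 : sm gb N23931 = N19840 := ded_16_1 L157133 (flp_b L157689) L186629 (flp_b L186619) L186637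
theorem L186647 : sm gd N19600 = N23932 := rfl
theorem L186649 : sm gc N19608 = N23932 := ded_28_2 (flp_d L186647) (flp_c L155388) L107555 L107583 L155447 L176997 (flp_c L186611) L186613
theorem L186651 : sm gf N23932 = N19607 := ded_20_2 (flp_c L155418) L155423 L186649
theorem L186653 : sm gf N19600 = N23933 := rfl
theorem L186655 : sm gc N23933 = N19601 := ded_20_1 (flp_f L155390) L155388 L186653
theorem L186657 : sm gd N23933 = N19607 := ded_23_1 (flp_f L186651) (flp_d L186647) L186653
theorem L186659 : sm gg N23933 = N19612 := ded_29_3 L176997 L186607 L186605 L186653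
theorem L186661 : sm gb N23933 = N23933 := ded_16_1 (flp_f L186653) (flp_b L186521) L186520 L186521 L186653
theorem L186662 : sm gg N19601 = N23934 := rfl
theorem L186664 : sm ga N23934 = N23928 := ded_12_1 L186643 L186639 L186662
theorem L186666 : sm gc N23934 = N19612 := ded_21_1 (flp_g L186659) L186655 L186662
theorem L186668 : sm gd N23934 = N19614 := ded_24_1 (flp_g L155453) (flp_d L155392) L186662
theorem L186670 : sm ge N23934 = N23053 := ded_26_1 (flp_g L185227) L185223 L186662
theorem L186672 : sm gf N23926 = N23934 := ded_29_0 (flp_g L186662) (flp_f L155390) (flp_g L155382) L186591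
theorem L186674 : sm gb N23934 = N22695 := ded_17_1 L177295 (flp_b L157633) L153841 (flp_b L155394) L186662
theorem L186676 : sm ga N19602 = N23935 := rfl
theorem L186678 : sm gd N23935 = N19615 := ded_9_2 (flp_a L155459) (flp_d L155398) L186676
theorem L186680 : sm ge N23935 = N19912 := ded_10_2 (flp_a L186571) L186565 L186676
theorem L186682 : sm gf N23935 = N19603 := ded_11_2 (flp_a L155402) (flp_f L155400) L186676
theorem L186684 : sm gb N23935 = N19889 := ded_7_2 (flp_a L157401) (flp_b L108863) (flp_a L108847) L157377 (flp_a L157387) (flp_b L155700) L107691 L155396 L186676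
theorem L186686 : sm gc N19602 = N23936 := rfl
theorem L186688 : sm ge N23936 = N22721 := ded_19_2 L186573 L186565 L186686
theorem L186690 : sm gf N23936 = N19604 := ded_20_2 (flp_c L155406) (flp_f L155400) L186686
theorem L186692 : sm gg N22700 = N23936 := ded_26_0 L186688 (flp_g L177481) (flp_e L177332)
theorem L186694 : sm gg N19602 = N23937 := rfl
theorem L186696 : sm gc N23937 = N22700 := ded_21_1 L186692 (flp_c L186686) L186694
theorem L186698 : sm gd N23937 = N19617 := ded_24_1 (flp_g L155468) (flp_d L155398) L186694
theorem L186700 : sm ge N23937 = N22716 := ded_26_1 (flp_g L186569) L186565 L186694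
theorem L186702 : sm gb N23937 = N22669 := ded_17_1 (flp_g L177110) (flp_b L155680) (flp_g L107679) L155396 L186694
theorem L186704 : sm gb N19603 = N23938 := rfl
theorem L186706 : sm gd N23938 = N19618 := ded_14_2 (flp_b L155470) (flp_d L155404) L186704
theorem L186708 : sm ge N23938 = N20991 := ded_15_2 (flp_b L186583) L186579 L186704
theorem L186710 : sm gf N23938 = N20589 := ded_16_2 L161790 (flp_f L157409) (flp_b L186684) L186682 L186704
theorem L186712 : sm ga N23938 = N23772 := ded_7_1 L185277 L186627 (flp_b L186619) (flp_a L155384) (flp_b L107553) (flp_a L91175) L107571 L155402 L186704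
theorem L186714 : sm gg N19907 = N23938 := ded_24_0 L186706 (flp_g L155484) (flp_d L157555)
theorem L186716 : sm gc N23938 = N20960 := ded_28_4 L165262 L165015 L165043 L165045 (flp_c L163604) L161770 L155492 (flp_d L186706)
theorem L186718 : sm gc N19603 = N23939 := rfl
theorem L186720 : sm ga N23939 = N19604 := ded_8_1 (flp_c L155406) L155402 L186718
theorem L186722 : sm gg N19603 = N23940 := rfl
theorem L186724 : sm ga N23940 = N19605 := ded_12_1 (flp_g L155408) L155402 L186722
theorem L186726 : sm gd N23940 = N19620 := ded_24_1 (flp_g L155476) (flp_d L155404) L186722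
theorem L186728 : sm gf N23940 = N23937 := ded_29_2 (flp_g L186694) L186676 L186682 L186722
theorem L186730 : sm gb N23940 = N19833 := ded_17_1 (flp_g L157069) (flp_b L157557) L186714 (flp_b L186704) L186722
theorem L186732 : sm gd N19604 = N23941 := rfl
theorem L186734 : sm gc N19617 = N23941 := ded_28_2 (flp_d L186732) (flp_c L155406) L107573 L107597 L155530 L177334 (flp_c L186696) L186698
theorem L186736 : sm gg N23941 = N19616 := ded_21_2 (flp_c L155463) L155468 L186734
theorem L186738 : sm gg N19604 = N23942 := rfl
theorem L186740 : sm gc N23942 = N19605 := ded_21_1 (flp_g L155408) L155406 L186738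
theorem L186742 : sm gd N23942 = N19616 := ded_24_1 (flp_g L186736) (flp_d L186732) L186738
theorem L186744 : sm gf N19621 = N23942 := ded_29_0 (flp_g L186738) (flp_f L186690) (flp_g L186692) (flp_a L177334)
theorem L186746 : sm gb N23942 = N23942 := ded_17_1 (flp_g L186738) (flp_b L186529) L186528 L186529 L186738
theorem L186747 : sm gf N19605 = N23943 := rfl
theorem L186749 : sm ga N23943 = N23937 := ded_11_1 (flp_f L186728) L186724 L186747
theorem L186751 : sm gc N23943 = N19621 := ded_20_1 L186744 L186740 L186747
theorem L186753 : sm gd N23943 = N19623 := ded_23_1 (flp_f L155536) (flp_d L155410) L186747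
theorem L186755 : sm ge N23943 = N23055 := ded_25_1 (flp_f L184955) L184953 L186747
theorem L186757 : sm gg N23943 = N23935 := ded_29_3 (flp_a L186676) L155400 L155408 L186747
theorem L186759 : sm gb N23943 = N22729 := ded_16_1 L177556 L157767 (flp_f L153529) (flp_b L155412) L186747
theorem L186761 : sm gf N19610 = N23944 := rfl
theorem L186763 : sm ga N23944 = N19613 := ded_11_1 (flp_f L155449) (flp_a L155429) L186761
theorem L186765 : sm gc N23944 = N19611 := ded_20_1 (flp_f L155431) L155427 L186761
theorem L186767 : sm gd N23944 = N23927 := ded_23_1 (flp_f L186607) L176993 L186761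
theorem L186769 : sm gg N23932 = N23944 := ded_29_1 (flp_f L186761) (flp_g L161677) (flp_a L161679) (flp_f L186651)
theorem L186771 : sm gf N19612 = N23945 := rfl
theorem L186773 : sm ga N23945 = N23927 := ded_11_1 (flp_f L186607) (flp_a L176997) L186771
theorem L186775 : sm gc N23945 = N23926 := ded_20_1 L186672 L186666 L186771
theorem L186777 : sm gd N23945 = N19613 := ded_23_1 (flp_f L155449) L155447 L186771
theorem L186779 : sm gg N23945 = N23930 := ded_29_3 L186635 L186653 L186659 L186771
theorem L186781 : sm gg N19613 = N23946 := rfl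
theorem L186783 : sm ga N23946 = N23932 := ded_12_1 L186769 L186763 L186781
theorem L186785 : sm gc N23946 = N19614 := ded_21_1 (flp_g L155453) (flp_c L155451) L186781
theorem L186787 : sm gd N23946 = N23930 := ded_24_1 (flp_g L186779) L186777 L186781
theorem L186789 : sm gf N20565 = N23946 := ded_29_0 (flp_g L186781) (flp_f L155449) (flp_g L155420) L161679
theorem L186791 : sm gg N19619 = N23947 := rfl
theorem L186793 : sm ga N23947 = N19622 := ded_12_1 (flp_g L155532) (flp_a L155474) L186791
theorem L186795 : sm gc N23947 = N19620 := ded_21_1 (flp_g L155476) L155472 L186791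
theorem L186797 : sm gd N23947 = N23936 := ded_24_1 (flp_g L186692) L177330 L186791
theorem L186799 : sm gf N23947 = N23941 := ded_29_2 L186736 (flp_a L161428) L161426 L186791
theorem L186801 : sm gg N19621 = N23948 := rfl
theorem L186803 : sm ga N23948 = N23936 := ded_12_1 (flp_g L186692) (flp_a L177334) L186801
theorem L186805 : sm gc N23948 = N23935 := ded_21_1 (flp_g L186757) L186751 L186801
theorem L186807 : sm gd N23948 = N19622 := ded_24_1 (flp_g L155532) L155530 L186801
theorem L186809 : sm gf N23939 = N23948 := ded_29_0 (flp_g L186801) L186744 (flp_g L186738) (flp_a L186720)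
theorem L186811 : sm gf N19622 = N23949 := rfl
theorem L186813 : sm ga N23949 = N23941 := ded_11_1 (flp_f L186799) L186793 L186811
theorem L186815 : sm gc N23949 = N19623 := ded_20_1 (flp_f L155536) (flp_c L155534) L186811
theorem L186817 : sm gd N23949 = N23939 := ded_23_1 L186809 L186807 L186811
theorem L186819 : sm gg N23949 = N20519 := ded_29_3 L161428 L155465 L155532 L186811
theorem L186821 : sm gg N19625 = N23950 := rfl
theorem L186823 : sm ga N23950 = N19627 := ded_12_1 (flp_g L155572) (flp_a L155556) L186821
theorem L186825 : sm gc N23950 = N19626 := ded_21_1 (flp_g L155562) L155554 L186821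
theorem L186827 : sm ge N23950 = N19634 := ded_26_1 (flp_g L155634) (flp_e L155558) L186821
theorem L186829 : sm gf N23950 = N21040 := ded_29_2 (flp_g L165861) L165849 L165857 L186821
theorem L186831 : sm gb N23840 = N23950 := ded_31_14 (flp_g L186821) (flp_f L165857) L165859 (flp_g L154120) (flp_f L154112) L154108 L154110 L154134 (flp_b L154180) L154690 (flp_f L154688) L164689 (flp_g L185639) (flp_f L185901)
theorem L186833 : sm gf N19627 = N23951 := rfl
theorem L186835 : sm ga N23951 = N21040 := ded_11_1 (flp_f L186829) L186823 L186833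
theorem L186837 : sm gc N23951 = N19628 := ded_20_1 (flp_f L155578) (flp_c L155574) L186833
theorem L186839 : sm gd N23951 = N23950 := ded_23_1 L186829 L165865 L186833
theorem L186841 : sm ge N23951 = N19637 := ded_25_1 (flp_f L155654) (flp_e L155576) L186833
theorem L186843 : sm gg N23951 = N21039 := ded_29_3 (flp_a L165849) L120373 L155572 L186833
theorem L186845 : sm gb N20913 = N23951 := ded_13_5 L186837 L157681 L157675 L164661 (flp_c L164951)
theorem L186847 : sm gf N19630 = N23952 := rfl
theorem L186849 : sm ga N23952 = N19632 := ded_11_1 (flp_f L155618) (flp_a L155602) L186847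
theorem L186851 : sm gc N23952 = N19631 := ded_20_1 (flp_f L155608) L155600 L186847
theorem L186853 : sm ge N23952 = N19639 := ded_25_1 (flp_f L155670) (flp_e L155604) L186847
theorem L186855 : sm gg N21061 = N23952 := ded_29_1 (flp_f L186847) (flp_g L166040) (flp_a L166032) L166044
theorem L186857 : sm gb N23952 = N23820 := ded_31_2 L185695 L185637 (flp_b L165358) (flp_g L154522) L154574 L154576 (flp_g L154480) (flp_f L154440) (flp_b L154438) L154442 (flp_f L154450) (flp_b L166042) L166040 L186847
theorem L186859 : sm gg N19632 = N23953 := rfl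
theorem L186861 : sm ga N23953 = N21061 := ded_12_1 L186855 L186849 L186859
theorem L186863 : sm gc N23953 = N19633 := ded_21_1 (flp_g L155624) (flp_c L155620) L186859
theorem L186865 : sm gd N23953 = N23952 := ded_24_1 (flp_g L186855) L166048 L186859
theorem L186867 : sm ge N23953 = N19642 := ded_26_1 (flp_g L155690) (flp_e L155622) L186859
theorem L186869 : sm gf N21060 = N23953 := ded_29_0 (flp_g L186859) (flp_f L155618) (flp_g L149558) L166032
theorem L186871 : sm gb N20997 = N23953 := ded_13_5 L186863 L157549 L157543 L165280 (flp_c L165572)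
theorem L186873 : sm gb N19634 = N23954 := rfl
theorem L186875 : sm gd N23954 = N23796 := ded_14_2 (flp_b L185441) (flp_d L155640) L186873
theorem L186877 : sm ge N23954 = N23840 := ded_15_2 L186831 L186827 L186873
theorem L186879 : sm gg N23954 = N23840 := ded_17_2 L186831 (flp_g L186821) L155560 L155634 L186873
theorem L186881 : sm ga N23954 = N23839 := ded_7_1 (flp_b L185883) L154720 L107051 (flp_a L151022) L154618 L155652 (flp_b L155648) (flp_a L155636) L186873
theorem L186883 : sm gb N19637 = N23955 := rfl
theorem L186885 : sm gd N23955 = N23792 := ded_14_2 (flp_b L185421) (flp_d L155660) L186883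
theorem L186887 : sm ge N23955 = N20913 := ded_15_2 L186845 L186841 L186883
theorem L186889 : sm gc N23955 = N20908 := ded_13_2 (flp_b L164901) L157471 (flp_b L155664) (flp_c L155658) L186883
theorem L186891 : sm gf N23955 = N20914 := ded_16_2 L164947 L164705 (flp_b L155648) L155654 L186883
theorem L186893 : sm gg N23955 = N23792 := ded_17_2 (flp_b L185421) (flp_g L154094) (flp_b L114955) (flp_g L155662) L186883
theorem L186895 : sm ga N23955 = N20901 := ded_30_3 L164841 (flp_c L164951) L186845 L186835 (flp_f L186829) L186825 (flp_b L177192) L177184 (flp_f L177170) (flp_c L177166) (flp_b L176967) (flp_a L176957) L176979 L176983 (flp_b L155644) L107643 L107657 (flp_c L155658) L186883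
theorem L186897 : sm gb N19639 = N23956 := rfl
theorem L186899 : sm gd N23956 = N23827 := ded_14_2 (flp_b L185753) (flp_d L155676) L186897
theorem L186901 : sm ge N23956 = N23820 := ded_15_2 (flp_b L186857) L186853 L186897
theorem L186903 : sm gf N23956 = N23820 := ded_16_2 (flp_b L186857) (flp_f L186847) L155606 L155670 L186897
theorem L186905 : sm ga N23956 = N23818 := ded_7_1 (flp_b L185671) L154364 (flp_b L106947) L150594 L154240 L155688 (flp_b L155684) (flp_a L155672) L186897
theorem L186907 : sm gb N19642 = N23957 := rfl
theorem L186909 : sm gd N23957 = N23823 := ded_14_2 (flp_b L185715) (flp_d L155696) L186907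
theorem L186911 : sm ge N23957 = N20997 := ded_15_2 L186871 L186867 L186907
theorem L186913 : sm gc N23957 = N20992 := ded_13_2 (flp_b L165516) L157389 (flp_b L155700) (flp_c L155694) L186907
theorem L186915 : sm gf N23957 = N23823 := ded_16_2 (flp_b L185715) (flp_f L154424) (flp_b L115128) L155698 L186907
theorem L186917 : sm gg N23957 = N20998 := ded_17_2 L165568 L165300 (flp_b L155684) L155690 L186907
theorem L186919 : sm ga N20985 = N23957 := ded_10_3 L186911 (flp_a L165564) (flp_e L165452)
theorem L186921 : sm gc N19645 = N23958 := rfl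
theorem L186923 : sm gg N23958 = N19648 := ded_21_2 (flp_c L155732) (flp_g L155718) L186921
theorem L186925 : sm gb N19646 = N23959 := rfl
theorem L186927 : sm gf N23959 = N19855 := ded_16_2 (flp_b L157327) L157325 (flp_b L155716) L155720 L186925
theorem L186929 : sm gg N23959 = N19656 := ded_17_2 L155776 (flp_g L120840) L120832 (flp_g L155726) L186925
theorem L186931 : sm ga N23959 = N19658 := ded_7_1 L155783 (flp_a L155538) (flp_b L158277) L158271 L109472 L148050 (flp_b L155714) (flp_a L155722) L186925
theorem L186933 : sm gf N19647 = N23960 := rfl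
theorem L186935 : sm ga N23960 = N19649 := ded_11_1 (flp_f L155735) L155728 L186933
theorem L186937 : sm gg N23960 = N19877 := ded_29_3 (flp_a L157323) L157331 L157337 L186933
theorem L186939 : sm gb N23960 = N19654 := ded_16_1 (flp_f L155760) (flp_b L120949) L120955 (flp_b L155730) L186933
theorem L186941 : sm gf N19648 = N23961 := rfl
theorem L186943 : sm gc N23961 = N19649 := ded_20_1 (flp_f L155735) L155732 L186941
theorem L186945 : sm gg N19878 = N23961 := ded_21_0 L186943 (flp_g L155739) L157329
theorem L186947 : sm gg N19651 = N23962 := rfl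
theorem L186949 : sm ga N23962 = N22400 := ded_12_1 (flp_g L175025) (flp_a L156058) L186947
theorem L186951 : sm gc N23962 = N19652 := ded_21_1 (flp_g L155746) L155743 L186947
theorem L186953 : sm gd N23962 = N20922 := ded_24_1 L165190 L165188 L186947
theorem L186955 : sm gf N23962 = N20921 := ded_29_2 L174755 (flp_a L174753) L158407 L186947
theorem L186957 : sm gb N22457 = N23962 := ded_13_5 L186951 L155750 L153562 (flp_b L172995) L175410
theorem L186959 : sm gf N19652 = N23963 := rfl
theorem L186961 : sm ga N23963 = N20055 := ded_11_1 (flp_f L158411) (flp_a L157263) L186959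
theorem L186963 : sm gc N23963 = N20921 := ded_20_1 (flp_f L186955) L186951 L186959
theorem L186965 : sm gd N23963 = N23742 := ded_23_1 (flp_f L184997) (flp_d L155748) L186959
theorem L186967 : sm gg N23963 = N20053 := ded_29_3 (flp_a L158397) L109521 L155746 L186959
theorem L186969 : sm gc N19653 = N23964 := rfl
theorem L186971 : sm gf N23964 = N19657 := ded_20_2 (flp_c L155778) (flp_f L155754) L186969
theorem L186973 : sm gd N23961 = N23964 := ded_28_3 (flp_c L186969) L177174 (flp_c L177166) (flp_d L176959) (flp_a L176957) L176969 (flp_d L176975) (flp_c L186943)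
theorem L186975 : sm gg N19657 = N23965 := rfl
theorem L186977 : sm gc N23965 = N19658 := ded_21_1 (flp_g L155781) L155778 L186975
theorem L186979 : sm gd N23965 = N23958 := ded_24_1 L186923 L175051 L186975
theorem L186981 : sm gf N19856 = N23965 := ded_20_0 L186977 (flp_f L155785) L157217
theorem L186983 : sm gf N19660 = N23966 := rfl
theorem L186985 : sm ga N23966 = N22195 := ded_11_1 (flp_f L173518) (flp_a L156038) L186983
theorem L186987 : sm gc N23966 = N19661 := ded_20_1 (flp_f L155792) L155789 L186983
theorem L186989 : sm gd N23966 = N21007 := ded_23_1 (flp_f L165630) L164581 L186983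
theorem L186991 : sm gg N21005 = N23966 := ded_29_1 (flp_f L186983) (flp_g L158107) L173234 (flp_f L173236)
theorem L186993 : sm gb N22516 = N23966 := ded_30_2 L186985 (flp_f L173518) L122264 (flp_b L121056) (flp_a L107875) L108457 L108453 (flp_b L111755) L111749 (flp_f L111743) L120778 L150220 L98856 L98876 L98880 L98884 L123906 L123908 L175833
theorem L186995 : sm gg N19661 = N23967 := rfl
theorem L186997 : sm ga N23967 = N20001 := ded_12_1 L158111 (flp_a L157375) L186995
theorem L186999 : sm gc N23967 = N21005 := ded_21_1 L186991 L186987 L186995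
theorem L187001 : sm gd N23967 = N23744 := ded_24_1 (flp_g L185025) (flp_d L155794) L186995
theorem L187003 : sm gf N19999 = N23967 := ded_29_0 (flp_g L186995) (flp_f L155792) (flp_g L109334) L158097
theorem L187005 : sm gb N23967 = N23963 := ded_17_1 L186967 L158403 (flp_g L153878) (flp_b L155796) L186995
theorem L187007 : sm gc N19662 = N23968 := rfl
theorem L187009 : sm ga N23968 = N21202 := ded_8_1 L167072 (flp_a L155800) L187007
theorem L187011 : sm gf N23968 = N19701 := ded_20_2 (flp_c L156088) (flp_f L155804) L187007
theorem L187013 : sm gc N19663 = N23969 := rfl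
theorem L187015 : sm ga N23969 = N21227 := ded_8_1 L167216 (flp_a L155808) L187013
theorem L187017 : sm gg N23969 = N19714 := ded_21_2 (flp_c L156198) (flp_g L155812) L187013
theorem L187019 : sm gd N19665 = N23970 := rfl
theorem L187021 : sm gb N23970 = N19666 := ded_14_1 (flp_d L155832) L155824 L187019
theorem L187023 : sm gf N23970 = N23206 := ded_23_2 L181253 (flp_f L155830) L187019
theorem L187025 : sm ge N23970 = N23207 := ded_22_2 L181257 L144801 L120394 (flp_e L155826) L187019
theorem L187027 : sm gg N19665 = N23971 := rfl
theorem L187029 : sm gc N23971 = N23644 := ded_21_1 (flp_g L184254) (flp_c L155828) L187027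
theorem L187031 : sm ge N23971 = N19844 := ded_26_1 (flp_g L157155) (flp_e L155826) L187027
theorem L187033 : sm gf N23865 = N23971 := ded_29_0 (flp_g L187027) L155830 L183461 (flp_a L186109)
theorem L187035 : sm gc N19666 = N23972 := rfl
theorem L187037 : sm ga N23972 = N19667 := ded_8_1 (flp_c L155838) (flp_a L155834) L187035
theorem L187039 : sm gf N23972 = N19730 := ded_20_2 (flp_c L156338) (flp_f L155836) L187035
theorem L187041 : sm gd N23972 = N23968 := ded_28_7 L187009 L167072 L115828 L107735 L107729 L107779 L155832 L187035
theorem L187043 : sm ge N19666 = N23973 := rfl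
theorem L187045 : sm ga N23973 = N19668 := ded_10_1 (flp_e L155842) (flp_a L155834) L187043
theorem L187047 : sm gb N23973 = N23207 := ded_15_1 (flp_e L187025) L187021 L187043
theorem L187049 : sm gf N23973 = N19731 := ded_25_2 (flp_e L156344) (flp_f L155836) L187043
theorem L187051 : sm gd N23973 = N19845 := ded_22_1 (flp_e L157163) (flp_d L108589) (flp_e L107783) L155832 L187043
theorem L187053 : sm gb N19667 = N23974 := rfl
theorem L187055 : sm gd N23974 = N23103 := ded_14_2 L180569 L167074 L187053
theorem L187057 : sm gc N23974 = N20209 := ded_13_2 (flp_b L159509) (flp_c L110427) (flp_b L107789) L155838 L187053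
theorem L187059 : sm gf N23974 = N20209 := ded_16_2 (flp_b L159509) L110429 (flp_b L108063) (flp_f L155840) L187053
theorem L187061 : sm ge N19667 = N23975 := rfl
theorem L187063 : sm gc N23975 = N19668 := ded_19_1 (flp_e L155842) L155838 L187061
theorem L187065 : sm gf N23975 = N19737 := ded_25_2 (flp_e L156382) (flp_f L155840) L187061
theorem L187067 : sm gg N19667 = N23976 := rfl
theorem L187069 : sm gc N23976 = N19669 := ded_21_1 (flp_g L155850) L155838 L187067
theorem L187071 : sm gg N19668 = N23977 := rfl
theorem L187073 : sm gd N23977 = N19846 := ded_24_1 (flp_g L157173) (flp_d L155848) L187071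
theorem L187075 : sm ge N23977 = N19669 := ded_26_1 (flp_g L155850) L155842 L187071
theorem L187077 : sm gb N19669 = N23978 := rfl
theorem L187079 : sm gd N23978 = N19670 := ded_14_2 (flp_b L155854) (flp_d L155852) L187077
theorem L187081 : sm gg N23978 = N20214 := ded_17_2 (flp_b L159535) (flp_g L110437) (flp_b L107789) L155850 L187077
theorem L187083 : sm ga N19670 = N23979 := rfl

end Cfsg.Agent.Helper28.SzbA
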